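import Groth.Agent.Lib.Helper24.Henselization

/-!
Uniqueness and flatness of the henselization (helper24).
-/

set_option autoImplicit false

noncomputable section

namespace Groth.Agent.Lib.helper24.Henselization

open IsLocalRing Polynomial Idx

universe u

/-- Two henselizations are isomorphic as algebras. -/
theorem exists_algEquiv (R S S' : Type u) [CommRing R] [IsLocalRing R]
    [CommRing S] [IsLocalRing S] [Algebra R S] [IsLocalHom (algebraMap R S)]
    [hS : Hensel.IsHenselization R S]
    [CommRing S'] [IsLocalRing S'] [Algebra R S'] [IsLocalHom (algebraMap R S')]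
    [hS' : Hensel.IsHenselization R S'] : Nonempty (S ≃ₐ[R] S') := by
  have hSh : HenselianLocalRing S := hS.henselian
  have hS'h : HenselianLocalRing S' := hS'.henselian
  obtain ⟨g, hg, -⟩ := hS.universal S' (algebraMap R S') inferInstance
  obtain ⟨g', hg', -⟩ := hS'.universal S (algebraMap R S) inferInstance
  obtain ⟨i, -, hi⟩ := hS.universal S (algebraMap R S) inferInstance
  obtain ⟨i', -, hi'⟩ := hS'.universal S' (algebraMap R S') inferInstance
  have h1 : g'.comp g = RingHom.id S := by
    rw [hi (g'.comp g) (by show (g'.comp g).comp _ = _; rw [RingHom.comp_assoc, hg, hg']),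
      hi (RingHom.id S) (by show (RingHom.id S).comp _ = _; simp)]
  have h2 : g.comp g' = RingHom.id S' := by
    rw [hi' (g.comp g') (by show (g.comp g').comp _ = _; rw [RingHom.comp_assoc, hg', hg]),
      hi' (RingHom.id S') (by show (RingHom.id S').comp _ = _; simp)]
  exact ⟨AlgEquiv.ofRingEquiv (f := RingEquiv.ofRingHom g g' h2 h1)
    (fun r => congrArg (fun F : R →+* S' => F r) hg)⟩

variable {A : Type u} [CommRing A] [IsLocalRing A]

instance (i : Idx A) : Module.Flat A i.C := inferInstance

instance (i : Idx A) : Module.Flat A i.G := by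
  have h1 : Module.Flat A i.C := inferInstance
  have h2 : Module.Flat i.C i.G := IsLocalization.flat i.G i.q.primeCompl
  exact Module.Flat.trans A i.C i.G

attribute [local irreducible] instCommRingHens Idx.instCommRingG Idx.instCommRingC

theorem exists_ofH_fin {l : ℕ} (x : Fin l → Hens A) :
    ∃ (k : Idx A) (x' : Fin l → k.G), ∀ i, ofH k (x' i) = x i := by
  induction l with
  | zero => exact ⟨Classical.arbitrary _, fun i => i.elim0, fun i => i.elim0⟩
  | succ l ih =>
    obtain ⟨k, x', hx'⟩ := ih (fun i => x i.succ)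
    obtain ⟨j, y, hy⟩ := exists_ofH (x 0)
    obtain ⟨m, hkm, hjm⟩ := exists_ge_ge k j
    refine ⟨m, Fin.cons (tr j m hjm y) (fun i => tr k m hkm (x' i)), ?_⟩
    intro i
    refine Fin.cases ?_ (fun i => ?_) i
    · rw [Fin.cons_zero, ofH_tr, hy]
    · rw [Fin.cons_succ, ofH_tr, hx']

theorem smul_ofH (i : Idx A) (a : A) (x : i.G) : a • ofH i x = ofH i (a • x) := by
  rw [Algebra.smul_def, Algebra.smul_def, map_mul, algebraMap_eq i]

instance : Module.Flat A (Hens A) := by
  refine Module.Flat.iff_forall_isTrivialRelation.2 ?_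
  intro l f x hrel
  obtain ⟨k, x', hx'⟩ := exists_ofH_fin x
  have h0 : ofH k (∑ i, f i • x' i) = 0 := by
    rw [map_sum, ← hrel]
    refine Finset.sum_congr rfl (fun i _ => ?_)
    rw [← smul_ofH, hx']
  obtain ⟨m, hkm, hm⟩ := ofH_eq_zero h0
  have hrel' : ∑ i, f i • (tr k m hkm (x' i)) = 0 := by
    rw [← hm, map_sum]
    refine Finset.sum_congr rfl (fun i _ => ?_)
    rw [map_smul]
  obtain ⟨k', a, y, hy1, hy2⟩ := Module.Flat.isTrivialRelation_of_sum_smul_eq_zero hrel'
  refine ⟨k', a, fun j => ofH m (y j), ?_, hy2⟩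
  intro i
  have hy1' : tr k m hkm (x' i) = ∑ j, a i j • y j := hy1 i
  rw [← hx', ← ofH_tr k m hkm, hy1', map_sum]
  refine Finset.sum_congr rfl (fun j _ => ?_)
  show ofH m (a i j • y j) = a i j • ofH m (y j)
  rw [smul_ofH]

/-- S0509. -/
theorem faithfullyFlat_of_isHenselization (R : Type u) [CommRing R] [IsLocalRing R] (S : Type u)
    [CommRing S] [IsLocalRing S]
    [Algebra R S] [IsLocalHom (algebraMap R S)] [Hensel.IsHenselization R S] :
    Module.FaithfullyFlat R S := by
  obtain ⟨e⟩ := exists_algEquiv R (Hens R) S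
  have : Module.Flat R S := Module.Flat.of_linearEquiv e.symm.toLinearEquiv
  exact Module.FaithfullyFlat.of_flat_of_isLocalHom

end Groth.Agent.Lib.helper24.Henselization

end
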