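import Groth.Agent.Lib.Helper24.StrictHensProps
import Groth.Agent.Lib.Helper24.HenselizationFlat

/-!
# The (strict) henselization is also the (strict) henselization of each of its stages (helper24)
-/

set_option autoImplicit false
set_option linter.unusedSectionVars false

noncomputable section

namespace Groth.Agent.Lib.Helper24.HensStage

open IsLocalRing

universe u

section Strict

open Groth.Agent.Lib.Helper24.StrictHens Groth.Agent.Lib.Helper24.StrictHens.SIdx
  Groth.Agent.Lib.helper24.HenselLocal

variable {A : Type u} [CommRing A] [IsLocalRing A] {Ω : Type u} [Field Ω] [Algebra A Ω]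
  [Algebra (ResidueField A) Ω] [IsScalarTower A (ResidueField A) Ω]

/-- `SHens A Ω` as an algebra over the stage `j.G`. -/
@[reducible] def stageAlgebra (j : SIdx A Ω) : Algebra j.G (SHens A Ω) := (ofS j).toAlgebra

theorem isLocalHom_ofS (j : SIdx A Ω) : IsLocalHom (ofS j) :=
  ⟨fun x hx => (isUnit_ofS_iff j x).1 hx⟩

theorem isStrictHenselization_stage [IsSepClosure (ResidueField A) Ω] (j : SIdx A Ω) :
    let _ : Algebra j.G (SHens A Ω) := stageAlgebra j
    ∃ (_ : IsLocalHom (algebraMap j.G (SHens A Ω))),
      Hensel.IsStrictHenselization j.G (SHens A Ω) := by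
  intro _
  have hloc : IsLocalHom (algebraMap j.G (SHens A Ω)) := isLocalHom_ofS j
  have htow : IsScalarTower A j.G (SHens A Ω) :=
    IsScalarTower.of_algebraMap_eq (fun a => algebraMap_eq j a)
  refine ⟨hloc, ?_⟩
  have hsc : IsSepClosure (ResidueField A) (ResidueField (SHens A Ω)) := inferInstance
  have hsepcl : IsSepClosed (ResidueField (SHens A Ω)) := hsc.sep_closed
  have hsep : Algebra.IsSeparable (ResidueField A) (ResidueField (SHens A Ω)) := hsc.separable
  have hsep' : Algebra.IsSeparable (ResidueField j.G) (ResidueField (SHens A Ω)) :=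
    Algebra.isSeparable_tower_top_of_isSeparable (ResidueField A) (ResidueField j.G)
      (ResidueField (SHens A Ω))
  refine
    { henselian := inferInstance
      isSepClosure := ⟨hsepcl, hsep'⟩
      universal := ?_ }
  intro T _ _ f _ τ hτ
  have hfa : IsLocalHom (f.comp (algebraMap A j.G)) := RingHom.isLocalHom_comp _ _
  have hτ' : τ.comp (IsLocalRing.ResidueField.map (algebraMap A (SHens A Ω))) =
      IsLocalRing.ResidueField.map (f.comp (algebraMap A j.G)) := by
    have e1 : algebraMap A (SHens A Ω) = (ofS j).comp (algebraMap A j.G) := by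
      ext a
      exact algebraMap_eq j a
    ext x
    obtain ⟨a, rfl⟩ := residue_surjective x
    have h1 := RingHom.congr_fun hτ (residue j.G (algebraMap A j.G a))
    simp only [RingHom.comp_apply, IsLocalRing.ResidueField.map_residue] at h1 ⊢
    rw [algebraMap_eq j a]
    exact h1
  obtain ⟨g, ⟨hg1, hg2⟩, hguniq⟩ := universal T (f.comp (algebraMap A j.G)) τ hτ'
  let algT : Algebra A T := (f.comp (algebraMap A j.G)).toAlgebra
  let f₁ : j.G →ₐ[A] T :=
    { toRingHom := g.comp (ofS j)
      commutes' := by
        intro a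
        show g (ofS j (algebraMap A j.G a)) = f (algebraMap A j.G a)
        rw [← algebraMap_eq j a]
        exact RingHom.congr_fun hg1 a }
  let f₂ : j.G →ₐ[A] T :=
    { toRingHom := f
      commutes' := fun a => rfl }
  have hf12 : f₁ = f₂ := by
    apply algHom_ext_of_residue
    intro x
    rw [← residue_eq_zero_iff, map_sub, sub_eq_zero]
    show residue T (g (ofS j x)) = residue T (f x)
    rw [hg2]
    have h1 := RingHom.congr_fun hτ (residue j.G x)
    simp only [RingHom.comp_apply, IsLocalRing.ResidueField.map_residue] at h1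
    exact h1
  refine ⟨g, ⟨?_, hg2⟩, ?_⟩
  · ext x
    exact congrArg (fun F : j.G →ₐ[A] T => F x) hf12
  · rintro g' ⟨hg'1, hg'2⟩
    apply hguniq
    refine ⟨?_, hg'2⟩
    ext a
    show g' (algebraMap A (SHens A Ω) a) = f (algebraMap A j.G a)
    rw [algebraMap_eq j a]
    exact RingHom.congr_fun hg'1 (algebraMap A j.G a)

/-- `SHens A Ω` is faithfully flat over each of its stages. -/
theorem faithfullyFlat_stage [IsSepClosure (ResidueField A) Ω] (j : SIdx A Ω) :
    @Module.FaithfullyFlat j.G (SHens A Ω) _ _ (stageAlgebra j).toModule := by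
  let _ : Algebra j.G (SHens A Ω) := stageAlgebra j
  obtain ⟨h1, h2⟩ := isStrictHenselization_stage (A := A) (Ω := Ω) j
  exact faithfullyFlat_of_isStrictHenselization j.G (SHens A Ω)

end Strict

section Hens

open Groth.Agent.Lib.helper24.Henselization Groth.Agent.Lib.helper24.Henselization.Idx

variable {A : Type u} [CommRing A] [IsLocalRing A]

/-- `Hens A` as an algebra over the stage `j.G`. -/
@[reducible] def stageAlgebraH (j : Idx A) : Algebra j.G (Hens A) := (ofH j).toAlgebra

theorem isLocalHom_ofH (j : Idx A) : IsLocalHom (ofH j) :=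
  ⟨fun x hx => (isUnit_ofH_iff j x).1 hx⟩

theorem isHenselization_stage (j : Idx A) :
    let _ : Algebra j.G (Hens A) := stageAlgebraH j
    ∃ (_ : IsLocalHom (algebraMap j.G (Hens A))), Hensel.IsHenselization j.G (Hens A) := by
  intro _
  have hloc : IsLocalHom (algebraMap j.G (Hens A)) := isLocalHom_ofH j
  refine ⟨hloc, ?_⟩
  refine
    { henselian := inferInstance
      universal := ?_ }
  intro T _ _ f hf
  have hfa : IsLocalHom (f.comp (algebraMap A j.G)) := RingHom.isLocalHom_comp _ _
  refine ⟨liftH T (f.comp (algebraMap A j.G)), ?_, ?_⟩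
  · show (liftH T (f.comp (algebraMap A j.G))).comp (ofH j) = f
    have h1 : f = liftG T (f.comp (algebraMap A j.G)) j := liftG_unique T _ j f hf rfl
    ext x
    show liftH T (f.comp (algebraMap A j.G)) (ofH j x) = f x
    rw [liftH_ofH, ← h1]
  · intro g' hg'
    apply liftH_unique
    ext a
    show g' (algebraMap A (Hens A) a) = f (algebraMap A j.G a)
    rw [algebraMap_eq j a]
    exact RingHom.congr_fun hg' (algebraMap A j.G a)

/-- `Hens A` is faithfully flat over each of its stages. -/
theorem faithfullyFlat_stageH (j : Idx A) :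
    @Module.FaithfullyFlat j.G (Hens A) _ _ (stageAlgebraH j).toModule := by
  let _ : Algebra j.G (Hens A) := stageAlgebraH j
  obtain ⟨h1, h2⟩ := isHenselization_stage (A := A) j
  exact faithfullyFlat_of_isHenselization j.G (Hens A)

end Hens

end Groth.Agent.Lib.Helper24.HensStage

end
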