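import Mathlib

/-!
# Étale algebras over reduced rings are reduced (helper24)
-/

set_option autoImplicit false

namespace Groth.Agent.Lib.Helper24.EtaleReduced

open Polynomial

universe u

/-- If `y` is nilpotent modulo the monic polynomial `f`, then `f' * y mod f` is nilpotent.
(Adapted from the proof of `exists_derivative_mul_eq_and_isIntegral_coeff` in Mathlib.) -/
theorem isNilpotent_derivative_mul_modByMonic {A : Type u} [CommRing A] {f : A[X]} (hf : f.Monic)
    {y : A[X]} {k : ℕ} (hy : f ∣ y ^ k) : IsNilpotent (f.derivative * y %ₘ f) := by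
  cases subsingleton_or_nontrivial A
  · exact ⟨1, Subsingleton.elim _ _⟩
  by_cases hfd : f.natDegree = 0
  · have h1 : f = 1 := by
      have := hf.natDegree_eq_zero.1 hfd
      exact this
    rw [h1, modByMonic_one]
    exact IsNilpotent.zero
  classical
  obtain ⟨S', _, _, _, _, _, hS'⟩ := hf.exists_splits_map
  obtain ⟨m, hm⟩ := Polynomial.splits_iff_exists_multiset.mp hS'
  simp only [hf.map _, Monic.leadingCoeff, map_one, one_mul] at hm
  have hmc : m.card = f.natDegree := by
    simpa [hf.natDegree_map, natDegree_multiset_prod_of_monic] using congr(($hm).natDegree).symm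
  have H : (f.derivative * y %ₘ f).map (algebraMap A S') =
        (m.map fun x ↦ ((m.erase x).map (X - C ·)).prod * C (aeval x y)).sum := by
    have ⟨g, hg⟩ : f.map (algebraMap _ _) ∣ (f.derivative * y).map (algebraMap A S') -
        (m.map fun x ↦ ((m.erase x).map (X - C ·)).prod * C (aeval x y)).sum := by
      rw [Polynomial.map_mul, ← Polynomial.derivative_map, hm, derivative_prod,
        ← Multiset.sum_map_mul_right, ← Multiset.sum_map_sub]
      refine Multiset.dvd_sum ?_
      simp only [derivative_sub, derivative_X, derivative_C, sub_zero, mul_one, ← mul_sub,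
        Multiset.mem_map, forall_exists_index, and_imp, forall_apply_eq_imp_iff₂]
      intro a ham
      conv_lhs => rw [← Multiset.cons_erase ham]
      rw [Multiset.map_cons, Multiset.prod_cons, mul_comm]
      refine mul_dvd_mul_left _ ?_
      simp [Polynomial.dvd_iff_isRoot]
    rw [map_modByMonic _ hf]
    refine (div_modByMonic_unique g _ (hf.map _) ⟨(sub_eq_iff_eq_add'.mp hg).symm, ?_⟩).2
    refine degree_lt_degree ?_
    rw [hf.natDegree_map, ← Nat.le_sub_one_iff_lt (Ne.bot_lt hfd)]
    refine (natDegree_multiset_sum_le _).trans (Multiset.max_le_of_forall_le _ _ ?_)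
    simp only [Multiset.map_map, Function.comp_apply, Multiset.mem_map, forall_exists_index,
      and_imp, forall_apply_eq_imp_iff₂]
    refine fun a ha ↦ (natDegree_mul_C_le _ _).trans ((natDegree_multiset_prod_le _).trans ?_)
    simp [ha, hmc]
  have H' (a : S') (ham : a ∈ m) : IsNilpotent (aeval a y) := by
    refine ⟨k, ?_⟩
    obtain ⟨q, hq⟩ := hy
    rw [← map_pow, hq, map_mul]
    have h0 : aeval a f = 0 := by
      rw [← eval_map_algebraMap, hm, eval_multiset_prod, Multiset.prod_eq_zero]
      simpa using ⟨a, ham, by simp⟩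
    rw [h0, zero_mul]
  have H'' : IsNilpotent ((f.derivative * y %ₘ f).map (algebraMap A S')) := by
    rw [H, ← mem_nilradical]
    refine multiset_sum_mem _ ?_
    simp only [Multiset.mem_map, forall_exists_index, and_imp, forall_apply_eq_imp_iff₂]
    intro a ham
    refine Ideal.mul_mem_left _ _ ?_
    rw [mem_nilradical]
    exact (H' a ham).map C
  have hinj : Function.Injective (mapRingHom (algebraMap A S')) :=
    Polynomial.map_injective _ (FaithfulSMul.algebraMap_injective A S')
  exact (IsNilpotent.map_iff hinj).1 H''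

/-- Over a reduced ring, nilpotents of `A[X]/f` are killed by `f'`. -/
theorem derivative_mul_eq_zero_of_isNilpotent {A : Type u} [CommRing A] [IsReduced A] {f : A[X]}
    (hf : f.Monic) {y : AdjoinRoot f} (hy : IsNilpotent y) :
    AdjoinRoot.mk f f.derivative * y = 0 := by
  obtain ⟨y, rfl⟩ := AdjoinRoot.mk_surjective y
  obtain ⟨k, hk⟩ := hy
  rw [← map_pow, AdjoinRoot.mk_eq_zero] at hk
  have h1 := isNilpotent_derivative_mul_modByMonic hf hk
  have h2 : f.derivative * y %ₘ f = 0 := by
    rw [Polynomial.isNilpotent_iff] at h1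
    ext i
    rw [coeff_zero]
    exact (h1 i).eq_zero
  rw [← map_mul, AdjoinRoot.mk_eq_zero]
  exact (modByMonic_eq_zero_iff_dvd hf).1 h2

/-- The localization `(A[X]/f)[1/g]` of a standard étale pair over a reduced ring is reduced. -/
theorem isReduced_away_adjoinRoot {A : Type u} [CommRing A] [IsReduced A]
    (P : StandardEtalePair A) :
    IsReduced (Localization.Away (AdjoinRoot.mk P.f P.g)) := by
  constructor
  intro c hc
  obtain ⟨b, s, rfl⟩ := IsLocalization.exists_mk'_eq (Submonoid.powers (AdjoinRoot.mk P.f P.g)) c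
  have hb : IsNilpotent (algebraMap (AdjoinRoot P.f)
      (Localization.Away (AdjoinRoot.mk P.f P.g)) b) := by
    rw [← IsLocalization.mk'_spec (Localization.Away (AdjoinRoot.mk P.f P.g)) b s]
    exact Commute.isNilpotent_mul_right (Commute.all _ _) hc
  obtain ⟨k, hk⟩ := hb
  rw [← map_pow, IsLocalization.map_eq_zero_iff (Submonoid.powers (AdjoinRoot.mk P.f P.g))] at hk
  obtain ⟨⟨_, m, rfl⟩, hm⟩ := hk
  have hm' : AdjoinRoot.mk P.f P.g ^ m * b ^ k = 0 := hm
  have hy : IsNilpotent (AdjoinRoot.mk P.f P.g ^ m * b) := by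
    refine ⟨k + 1, ?_⟩
    calc (AdjoinRoot.mk P.f P.g ^ m * b) ^ (k + 1)
        = (AdjoinRoot.mk P.f P.g ^ m * b ^ k) * ((AdjoinRoot.mk P.f P.g ^ m) ^ k * b) := by ring
      _ = 0 := by rw [hm', zero_mul]
  have h1 := derivative_mul_eq_zero_of_isNilpotent P.monic_f hy
  obtain ⟨p₁, p₂, n, hcond⟩ := P.cond
  have h2 : AdjoinRoot.mk P.f P.g ^ n =
      AdjoinRoot.mk P.f (derivative P.f) * AdjoinRoot.mk P.f p₁ := by
    rw [← map_pow, ← hcond, map_add, map_mul, map_mul, AdjoinRoot.mk_self, zero_mul, add_zero]
  have h3 : AdjoinRoot.mk P.f P.g ^ (n + m) * b = 0 := by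
    rw [pow_add, h2]
    calc AdjoinRoot.mk P.f (derivative P.f) * AdjoinRoot.mk P.f p₁ * AdjoinRoot.mk P.f P.g ^ m * b
        = AdjoinRoot.mk P.f p₁ *
          (AdjoinRoot.mk P.f (derivative P.f) * (AdjoinRoot.mk P.f P.g ^ m * b)) := by ring
      _ = 0 := by rw [h1, mul_zero]
  have h4 : algebraMap (AdjoinRoot P.f) (Localization.Away (AdjoinRoot.mk P.f P.g)) b = 0 := by
    rw [IsLocalization.map_eq_zero_iff (Submonoid.powers (AdjoinRoot.mk P.f P.g))]
    exact ⟨⟨_, n + m, rfl⟩, h3⟩
  rw [← IsLocalization.mk'_spec (Localization.Away (AdjoinRoot.mk P.f P.g)) b s] at h4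
  exact ((IsLocalization.map_units _ s).mul_left_eq_zero).1 h4

/-- A standard étale algebra over a reduced ring is reduced. -/
theorem isReduced_of_isStandardEtale (A C : Type u) [CommRing A] [IsReduced A] [CommRing C]
    [Algebra A C] [Algebra.IsStandardEtale A C] : IsReduced C := by
  have 𝓟 := Classical.ofNonempty (α := StandardEtalePresentation A C)
  have := isReduced_away_adjoinRoot 𝓟.P
  let e := 𝓟.equivRing.trans 𝓟.P.equivAwayAdjoinRoot
  exact isReduced_of_injective e.toRingHom e.injective

/-- An étale algebra over a reduced ring is reduced. -/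
theorem isReduced_of_etale (A C : Type u) [CommRing A] [IsReduced A] [CommRing C]
    [Algebra A C] [Algebra.Etale A C] : IsReduced C := by
  constructor
  intro c hc
  by_contra hc0
  -- the annihilator of `c` is a proper ideal, contained in a maximal ideal
  have hne : Ideal.span {c} ≠ ⊥ := by
    rw [Ne, Ideal.span_singleton_eq_bot]
    exact hc0
  have hann : (Ideal.span {c}).annihilator ≠ ⊤ := by
    intro h
    rw [Submodule.annihilator_eq_top_iff] at h
    exact hne h
  obtain ⟨Q, hQ, hle⟩ := Ideal.exists_le_maximal _ hann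
  have hQp : Q.IsPrime := hQ.isPrime
  obtain ⟨f, hfQ, hf⟩ := Algebra.IsEtaleAt.exists_isStandardEtale (R := A) Q
  have hred := isReduced_of_isStandardEtale A (Localization.Away f)
  have h0 : algebraMap C (Localization.Away f) c = 0 := (hc.map _).eq_zero
  rw [IsLocalization.map_eq_zero_iff (Submonoid.powers f)] at h0
  obtain ⟨⟨_, j, rfl⟩, hj⟩ := h0
  have hmem : f ^ j ∈ (Ideal.span {c}).annihilator := by
    rw [Submodule.mem_annihilator_span_singleton]
    exact hj
  exact hfQ (hQp.mem_of_pow_mem j (hle hmem))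

end Groth.Agent.Lib.Helper24.EtaleReduced
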