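import Groth.Agent.Lib.Helper24.StrictHensProps
import Groth.Agent.Lib.Helper24.HenselizationFlat
import Groth.Agent.Lib.Helper24.EtaleReduced

/-!
# Reducedness of the henselization and the strict henselization (helper24)
-/

set_option autoImplicit false
set_option linter.unusedSectionVars false

noncomputable section

namespace Groth.Agent.Lib.Helper24.HensReduced

open IsLocalRing Groth.Agent.Lib.Helper24.EtaleReduced

universe u

theorem isReduced_of_faithfullyFlat (R S : Type u) [CommRing R] [CommRing S] [Algebra R S]
    [Module.FaithfullyFlat R S] [IsReduced S] : IsReduced R :=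
  isReduced_of_injective (algebraMap R S) (FaithfulSMul.algebraMap_injective R S)

section Strict

open Groth.Agent.Lib.Helper24.StrictHens Groth.Agent.Lib.Helper24.StrictHens.SIdx

variable {A : Type u} [CommRing A] [IsLocalRing A] {Ω : Type u} [Field Ω] [Algebra A Ω]
  [Algebra (ResidueField A) Ω] [IsScalarTower A (ResidueField A) Ω]

theorem isReduced_stage [IsReduced A] (i : SIdx A Ω) : IsReduced i.G := by
  have : IsReduced i.C := isReduced_of_etale A i.C
  exact (inferInstance : IsReduced (Localization.AtPrime i.q))

theorem isReduced_SHens [IsReduced A] : IsReduced (SHens A Ω) := by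
  constructor
  intro z hz
  obtain ⟨i, x, rfl⟩ := exists_ofS z
  obtain ⟨k, hk⟩ := hz
  rw [← map_pow] at hk
  obtain ⟨j, hij, hj⟩ := ofS_eq_zero hk
  rw [map_pow] at hj
  have := isReduced_stage j
  have h0 : tr i j hij x = 0 := IsNilpotent.eq_zero (⟨k, hj⟩ : IsNilpotent (tr i j hij x))
  rw [← ofS_tr i j hij, h0, map_zero]

theorem isReduced_iff_of_isStrictHenselization (R : Type u) [CommRing R] [IsLocalRing R]
    (S : Type u) [CommRing S] [IsLocalRing S] [Algebra R S] [IsLocalHom (algebraMap R S)]
    [Hensel.IsStrictHenselization R S] : IsReduced S ↔ IsReduced R := by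
  constructor
  · intro h
    have := faithfullyFlat_of_isStrictHenselization R S
    exact isReduced_of_faithfullyFlat R S
  · intro h
    obtain ⟨e⟩ := exists_algEquiv_SH R S
    have := isReduced_SHens (A := R) (Ω := Ωstd R)
    exact isReduced_of_injective e.symm.toRingHom e.symm.injective

end Strict

section Hens

open Groth.Agent.Lib.helper24.Henselization Groth.Agent.Lib.helper24.Henselization.Idx

variable {A : Type u} [CommRing A] [IsLocalRing A]

theorem isReduced_stageH [IsReduced A] (i : Idx A) : IsReduced i.G := by
  have : IsReduced i.C := isReduced_of_etale A i.C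
  exact (inferInstance : IsReduced (Localization.AtPrime i.q))

theorem isReduced_Hens [IsReduced A] : IsReduced (Hens A) := by
  constructor
  intro z hz
  obtain ⟨i, x, rfl⟩ := exists_ofH z
  obtain ⟨k, hk⟩ := hz
  rw [← map_pow] at hk
  obtain ⟨j, hij, hj⟩ := ofH_eq_zero hk
  rw [map_pow] at hj
  have := isReduced_stageH j
  have h0 : tr i j hij x = 0 := IsNilpotent.eq_zero (⟨k, hj⟩ : IsNilpotent (tr i j hij x))
  rw [← ofH_tr i j hij, h0, map_zero]

theorem isReduced_iff_of_isHenselization (R : Type u) [CommRing R] [IsLocalRing R]
    (S : Type u) [CommRing S] [IsLocalRing S] [Algebra R S] [IsLocalHom (algebraMap R S)]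
    [Hensel.IsHenselization R S] : IsReduced R ↔ IsReduced S := by
  constructor
  · intro h
    obtain ⟨e⟩ := exists_algEquiv R (Hens R) S
    have := isReduced_Hens (A := R)
    exact isReduced_of_injective e.symm.toRingHom e.symm.injective
  · intro h
    have := faithfullyFlat_of_isHenselization R S
    exact isReduced_of_faithfullyFlat R S

end Hens

end Groth.Agent.Lib.Helper24.HensReduced

end
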