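import Mathlib

/-!
Étale pairs `(S, q)` over `(R, p)` with trivial residue field extension: characters,
directedness, coequalizers (helper24).
-/

set_option autoImplicit false

noncomputable section

namespace Groth.Agent.Lib.helper24.EtalePairs

open TensorProduct

universe u

section

variable (R : Type u) [CommRing R] (p : Ideal R) [p.IsPrime]

/-- A pair with trivial residue field extension has a character to `κ(p)` with kernel `q`. -/
theorem exists_character (S : Type u) [CommRing S] [Algebra R S] (q : Ideal S) [q.IsPrime]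
    (hq : p = q.comap (algebraMap R S))
    (hbij : Function.Bijective (Ideal.ResidueField.map p q (algebraMap R S) hq)) :
    ∃ χ : S →ₐ[R] p.ResidueField, ∀ s, χ s = 0 ↔ s ∈ q := by
  let ε : p.ResidueField ≃+* q.ResidueField := RingEquiv.ofBijective _ hbij
  have hε : ∀ x, ε x = Ideal.ResidueField.map p q (algebraMap R S) hq x := fun x => rfl
  let χ0 : S →+* p.ResidueField :=
    (ε.symm : q.ResidueField →+* p.ResidueField).comp (algebraMap S q.ResidueField)
  have hχ0 : ∀ s, χ0 s = ε.symm (algebraMap S q.ResidueField s) := fun s => rfl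
  refine ⟨{ χ0 with commutes' := ?_ }, ?_⟩
  · intro r
    show χ0 (algebraMap R S r) = _
    rw [hχ0, ← Ideal.ResidueField.map_algebraMap p q (algebraMap R S) hq, ← hε,
      RingEquiv.symm_apply_apply]
  · intro s
    show χ0 s = 0 ↔ _
    rw [hχ0, map_eq_zero_iff _ ε.symm.injective, Ideal.algebraMap_residueField_eq_zero]

/-- The kernel of a character is a prime over `p` with trivial residue field extension. -/
theorem bijective_of_character (S : Type u) [CommRing S] [Algebra R S]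
    (χ : S →ₐ[R] p.ResidueField) (q : Ideal S) [q.IsPrime] (hχ : ∀ s, χ s = 0 ↔ s ∈ q)
    (hq : p = q.comap (algebraMap R S)) :
    Function.Bijective (Ideal.ResidueField.map p q (algebraMap R S) hq) := by
  have h1 : q ≤ RingHom.ker χ.toRingHom := fun s hs => RingHom.mem_ker.2 ((hχ s).2 hs)
  have h2 : q.primeCompl ≤ (IsUnit.submonoid p.ResidueField).comap χ.toRingHom := by
    intro s hs
    show IsUnit (χ s)
    rw [isUnit_iff_ne_zero]
    intro h0
    exact hs ((hχ s).1 h0)
  let ρ : q.ResidueField →+* p.ResidueField := Ideal.ResidueField.lift q χ.toRingHom h1 h2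
  have hρ : ρ.comp (Ideal.ResidueField.map p q (algebraMap R S) hq) = RingHom.id _ := by
    apply Ideal.ResidueField.ringHom_ext
    ext r
    show ρ (Ideal.ResidueField.map p q (algebraMap R S) hq (algebraMap R _ r)) = algebraMap R _ r
    rw [Ideal.ResidueField.map_algebraMap, Ideal.ResidueField.lift_algebraMap]
    exact χ.commutes r
  refine ⟨RingHom.injective _, ?_⟩
  intro y
  refine ⟨ρ y, ?_⟩
  apply ρ.injective
  exact congrArg (fun F : p.ResidueField →+* p.ResidueField => F (ρ y)) hρ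

theorem comap_eq_of_character (S : Type u) [CommRing S] [Algebra R S]
    (χ : S →ₐ[R] p.ResidueField) (q : Ideal S) (hχ : ∀ s, χ s = 0 ↔ s ∈ q) :
    p = q.comap (algebraMap R S) := by
  ext r
  rw [Ideal.mem_comap, ← hχ, AlgHom.commutes, Ideal.algebraMap_residueField_eq_zero]

/-- Two characters with the same kernel (a prime with trivial residue extension) agree. -/
theorem character_unique (S : Type u) [CommRing S] [Algebra R S]
    (χ χ' : S →ₐ[R] p.ResidueField) (q : Ideal S) [q.IsPrime]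
    (hχ : ∀ s, χ s = 0 ↔ s ∈ q) (hχ' : ∀ s, χ' s = 0 ↔ s ∈ q) : χ = χ' := by
  have hq := comap_eq_of_character R p S χ q hχ
  have hbij := bijective_of_character R p S χ q hχ hq
  have lift_of : ∀ (θ : S →ₐ[R] p.ResidueField), (∀ s, θ s = 0 ↔ s ∈ q) →
      ∃ ρ : q.ResidueField →+* p.ResidueField,
        (∀ s, ρ (algebraMap S _ s) = θ s) ∧
        ρ.comp (Ideal.ResidueField.map p q (algebraMap R S) hq) = RingHom.id _ := by
    intro θ hθ
    have h1 : q ≤ RingHom.ker θ.toRingHom := fun s hs => RingHom.mem_ker.2 ((hθ s).2 hs)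
    have h2 : q.primeCompl ≤ (IsUnit.submonoid p.ResidueField).comap θ.toRingHom := by
      intro s hs
      show IsUnit (θ s)
      rw [isUnit_iff_ne_zero]
      intro h0
      exact hs ((hθ s).1 h0)
    refine ⟨Ideal.ResidueField.lift q θ.toRingHom h1 h2, ?_, ?_⟩
    · intro s
      rw [Ideal.ResidueField.lift_algebraMap]
      rfl
    · apply Ideal.ResidueField.ringHom_ext
      ext r
      show Ideal.ResidueField.lift q θ.toRingHom h1 h2
        (Ideal.ResidueField.map p q (algebraMap R S) hq (algebraMap R _ r)) = algebraMap R _ r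
      rw [Ideal.ResidueField.map_algebraMap, Ideal.ResidueField.lift_algebraMap]
      exact θ.commutes r
  obtain ⟨ρ, hρ1, hρ2⟩ := lift_of χ hχ
  obtain ⟨ρ', hρ'1, hρ'2⟩ := lift_of χ' hχ'
  have hρρ' : ρ = ρ' := by
    apply RingHom.ext
    intro y
    obtain ⟨x, rfl⟩ := hbij.surjective y
    have e1 := congrArg (fun F : p.ResidueField →+* p.ResidueField => F x) hρ2
    have e2 := congrArg (fun F : p.ResidueField →+* p.ResidueField => F x) hρ'2
    simp only [RingHom.comp_apply, RingHom.id_apply] at e1 e2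
    rw [e1, e2]
  ext s
  rw [← hρ1, ← hρ'1, hρρ']

end

/-- S9468. -/
theorem dominating (R : Type u) [CommRing R]
    (p : Ideal R) [p.IsPrime] (S₁ : Type u) [CommRing S₁] [Algebra R S₁] [Algebra.Etale R S₁]
    (q₁ : Ideal S₁) [q₁.IsPrime] (hq₁ : p = q₁.comap (algebraMap R S₁))
    (hq₁κ : Function.Bijective (Ideal.ResidueField.map p q₁ (algebraMap R S₁) hq₁))
    (S₂ : Type u) [CommRing S₂] [Algebra R S₂] [Algebra.Etale R S₂] (q₂ : Ideal S₂) [q₂.IsPrime]
    (hq₂ : p = q₂.comap (algebraMap R S₂))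
    (hq₂κ : Function.Bijective (Ideal.ResidueField.map p q₂ (algebraMap R S₂) hq₂)) :
    ∃ (S₃ : Type u) (_ : CommRing S₃) (_ : Algebra R S₃) (_ : Algebra.Etale R S₃) (q₃ : Ideal S₃)
      (_ : q₃.IsPrime) (hq₃ : p = q₃.comap (algebraMap R S₃)),
      Function.Bijective (Ideal.ResidueField.map p q₃ (algebraMap R S₃) hq₃) ∧
        ∃ (φ₁ : S₁ →ₐ[R] S₃) (φ₂ : S₂ →ₐ[R] S₃),
          q₃.comap φ₁.toRingHom = q₁ ∧ q₃.comap φ₂.toRingHom = q₂ := by
  obtain ⟨χ₁, hχ₁⟩ := exists_character R p S₁ q₁ hq₁ hq₁κ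
  obtain ⟨χ₂, hχ₂⟩ := exists_character R p S₂ q₂ hq₂ hq₂κ
  have hE : Algebra.Etale R (S₁ ⊗[R] S₂) := Algebra.Etale.comp R S₁ (S₁ ⊗[R] S₂)
  let χ : S₁ ⊗[R] S₂ →ₐ[R] p.ResidueField :=
    Algebra.TensorProduct.lift χ₁ χ₂ (fun _ _ => Commute.all _ _)
  have hprime : (RingHom.ker χ.toRingHom).IsPrime := RingHom.ker_isPrime _
  have hmem : ∀ c, χ c = 0 ↔ c ∈ RingHom.ker χ.toRingHom := fun c => RingHom.mem_ker.symm
  have hq₃ := comap_eq_of_character R p _ χ _ hmem
  refine ⟨S₁ ⊗[R] S₂, inferInstance, inferInstance, hE, RingHom.ker χ.toRingHom, hprime, hq₃,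
    bijective_of_character R p _ χ _ hmem hq₃,
    Algebra.TensorProduct.includeLeft, Algebra.TensorProduct.includeRight, ?_, ?_⟩
  · ext s
    rw [Ideal.mem_comap, ← hmem, ← hχ₁]
    show χ (s ⊗ₜ 1) = 0 ↔ _
    rw [Algebra.TensorProduct.lift_tmul, map_one, mul_one]
  · ext s
    rw [Ideal.mem_comap, ← hmem, ← hχ₂]
    show χ (1 ⊗ₜ s) = 0 ↔ _
    rw [Algebra.TensorProduct.lift_tmul, map_one, one_mul]

/-- S9469. -/
theorem coequalizing (R : Type u) [CommRing R]
    (p : Ideal R) [p.IsPrime] (S₁ : Type u) [CommRing S₁] [Algebra R S₁] [Algebra.Etale R S₁]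
    (q₁ : Ideal S₁) [q₁.IsPrime] (hq₁ : p = q₁.comap (algebraMap R S₁))
    (_hq₁κ : Function.Bijective (Ideal.ResidueField.map p q₁ (algebraMap R S₁) hq₁))
    (S₂ : Type u) [CommRing S₂] [Algebra R S₂] [Algebra.Etale R S₂] (q₂ : Ideal S₂) [q₂.IsPrime]
    (hq₂ : p = q₂.comap (algebraMap R S₂))
    (hq₂κ : Function.Bijective (Ideal.ResidueField.map p q₂ (algebraMap R S₂) hq₂))
    (φ ψ : S₁ →ₐ[R] S₂) (hφ : q₂.comap φ.toRingHom = q₁) (hψ : q₂.comap ψ.toRingHom = q₁) :
    ∃ (S₃ : Type u) (_ : CommRing S₃) (_ : Algebra R S₃) (_ : Algebra.Etale R S₃) (q₃ : Ideal S₃)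
      (_ : q₃.IsPrime) (hq₃ : p = q₃.comap (algebraMap R S₃)),
      Function.Bijective (Ideal.ResidueField.map p q₃ (algebraMap R S₃) hq₃) ∧
        ∃ χ : S₂ →ₐ[R] S₃, q₃.comap χ.toRingHom = q₂ ∧ χ.comp φ = χ.comp ψ := by
  obtain ⟨χ₂, hχ₂⟩ := exists_character R p S₂ q₂ hq₂ hq₂κ
  -- the two induced characters of S₁ agree
  have hχφ : ∀ s, (χ₂.comp φ) s = 0 ↔ s ∈ q₁ := by
    intro s
    rw [← hφ, Ideal.mem_comap]
    exact hχ₂ (φ s)
  have hχψ : ∀ s, (χ₂.comp ψ) s = 0 ↔ s ∈ q₁ := by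
    intro s
    rw [← hψ, Ideal.mem_comap]
    exact hχ₂ (ψ s)
  have hagree : χ₂.comp φ = χ₂.comp ψ := character_unique R p S₁ _ _ q₁ hχφ hχψ
  -- the diagonal idempotent-like element
  have hunr : Algebra.FormallyUnramified R S₁ := inferInstance
  obtain ⟨t, ht1, ht2⟩ := Algebra.FormallyUnramified.iff_exists_tensorProduct.mp hunr
  let Φ : S₁ ⊗[R] S₁ →ₐ[R] S₂ := Algebra.TensorProduct.lift φ ψ (fun _ _ => Commute.all _ _)
  have hΦ : ∀ a b, Φ (a ⊗ₜ b) = φ a * ψ b := fun a b => Algebra.TensorProduct.lift_tmul _ _ _ _ _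
  let e : S₂ := Φ t
  have he_ann : ∀ s, (ψ s - φ s) * e = 0 := by
    intro s
    have := congrArg Φ (ht1 s)
    rw [map_mul, map_sub, hΦ, hΦ, map_zero, map_one, map_one, one_mul, mul_one] at this
    exact this
  have hcomp : χ₂.comp Φ = (χ₂.comp φ).comp (Algebra.TensorProduct.lmul' R) := by
    apply Algebra.TensorProduct.ext'
    intro a b
    show χ₂ (Φ (a ⊗ₜ b)) = χ₂ (φ (Algebra.TensorProduct.lmul' R (a ⊗ₜ b)))
    rw [hΦ, Algebra.TensorProduct.lmul'_apply_tmul, map_mul, map_mul, map_mul]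
    congr 1
    exact (congrArg (fun F : S₁ →ₐ[R] p.ResidueField => F b) hagree).symm
  have hχe : χ₂ e = 1 := by
    have := congrArg (fun F : S₁ ⊗[R] S₁ →ₐ[R] p.ResidueField => F t) hcomp
    simp only [AlgHom.comp_apply] at this
    rw [ht2, map_one, map_one] at this
    exact this
  -- the localisation
  have hunit : IsUnit (χ₂.toRingHom e) := by
    show IsUnit (χ₂ e)
    rw [hχe]
    exact isUnit_one
  let χ₃0 : Localization.Away e →+* p.ResidueField := IsLocalization.Away.lift e hunit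
  have hχ₃0 : ∀ s, χ₃0 (algebraMap S₂ _ s) = χ₂ s := fun s => IsLocalization.Away.lift_eq e hunit s
  let χ₃ : Localization.Away e →ₐ[R] p.ResidueField :=
    { χ₃0 with
      commutes' := by
        intro r
        show χ₃0 (algebraMap R (Localization.Away e) r) = _
        rw [IsScalarTower.algebraMap_apply R S₂ (Localization.Away e), hχ₃0]
        exact χ₂.commutes r }
  have hχ₃ : ∀ s, χ₃ (algebraMap S₂ _ s) = χ₂ s := hχ₃0
  have hprime : (RingHom.ker χ₃.toRingHom).IsPrime := RingHom.ker_isPrime _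
  have hmem : ∀ c, χ₃ c = 0 ↔ c ∈ RingHom.ker χ₃.toRingHom := fun c => RingHom.mem_ker.symm
  have hq₃ := comap_eq_of_character R p _ χ₃ _ hmem
  refine ⟨Localization.Away e, inferInstance, inferInstance, inferInstance,
    RingHom.ker χ₃.toRingHom, hprime, hq₃,
    bijective_of_character R p _ χ₃ _ hmem hq₃,
    IsScalarTower.toAlgHom R S₂ (Localization.Away e), ?_, ?_⟩
  · ext s
    rw [Ideal.mem_comap, ← hmem, ← hχ₂]
    show χ₃ (algebraMap S₂ _ s) = 0 ↔ _
    rw [hχ₃]
  · ext s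
    show algebraMap S₂ (Localization.Away e) (φ s) = algebraMap S₂ (Localization.Away e) (ψ s)
    have hu : IsUnit (algebraMap S₂ (Localization.Away e) e) :=
      IsLocalization.Away.algebraMap_isUnit e
    have h0 := congrArg (algebraMap S₂ (Localization.Away e)) (he_ann s)
    rw [map_mul, map_zero, map_sub] at h0
    have := (hu.mul_left_eq_zero).1 h0
    exact (sub_eq_zero.1 this).symm

end Groth.Agent.Lib.helper24.EtalePairs

end
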