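import Groth.Agent.Lib.Helper24.IndEtaleCrit
import Groth.Agent.Lib.Helper24.HensStage

/-!
# (Strict) henselizations are ind-étale (helper24)
-/

set_option autoImplicit false
set_option linter.unusedSectionVars false

noncomputable section

namespace Groth.Agent.Lib.Helper24.HensIndEtale

open IsLocalRing

universe u

section Strict

open Groth.Agent.Lib.Helper24.StrictHens Groth.Agent.Lib.Helper24.StrictHens.SIdx
  Groth.Agent.Lib.Helper24.HensStage Groth.Agent.Lib.Helper24.IndEtaleCrit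

variable {A : Type u} [CommRing A] [IsLocalRing A] {Ω : Type u} [Field Ω] [Algebra A Ω]
  [Algebra (ResidueField A) Ω] [IsScalarTower A (ResidueField A) Ω]

/-- canonical maps from the étale algebras -/
def φS (i : SIdx A Ω) : i.C →ₐ[A] SHens A Ω :=
  { toRingHom := (ofS i).comp (algebraMap i.C i.G)
    commutes' := fun a => by
      show ofS i (algebraMap i.C i.G (algebraMap A i.C a)) = _
      rw [← IsScalarTower.algebraMap_apply A i.C i.G, ← algebraMap_eq i a] }

theorem φS_apply (i : SIdx A Ω) (c : i.C) : φS i c = ofS i (algebraMap i.C i.G c) := rfl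

theorem φS_comp (i k : SIdx A Ω) (w : i.C →ₐ[A] k.C) (hw : k.χ.comp w = i.χ) :
    (φS k).comp w = φS i := by
  obtain ⟨h, hh⟩ := exists_le_of_hom i k w hw
  ext c
  rw [AlgHom.comp_apply, φS_apply, φS_apply, ← hh, ofS_tr]

/-- inverting an element outside the kernel of the character -/
theorem exists_invert (i : SIdx A Ω) (s : i.C) (hs : i.χ s ≠ 0) :
    ∃ (j : SIdx A Ω) (w : i.C →ₐ[A] j.C), j.χ.comp w = i.χ ∧ IsUnit (w s) := by
  have : Algebra.Etale A (Localization.Away s) := Algebra.Etale.comp A i.C (Localization.Away s)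
  have hf : ∀ y : Submonoid.powers s, IsUnit (i.χ y) := by
    rintro ⟨y, n, rfl⟩
    rw [map_pow]
    exact (isUnit_iff_ne_zero.2 hs).pow n
  let χ' : Localization.Away s →ₐ[A] Ω :=
    IsLocalization.liftAlgHom (M := Submonoid.powers s) (S := Localization.Away s) (f := i.χ) hf
  obtain ⟨j, u, hu, -⟩ := exists_sidx_of_character (Localization.Away s) χ'
  refine ⟨j, u.comp (IsScalarTower.toAlgHom A i.C (Localization.Away s)), ?_, ?_⟩
  · rw [← AlgHom.comp_assoc, hu]
    ext c
    exact IsLocalization.lift_eq _ c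
  · exact (IsLocalization.Away.algebraMap_isUnit s).map u

theorem hobj (i j : SIdx A Ω) : ∃ (k : SIdx A Ω) (ψ₁ : i.C →ₐ[A] k.C) (ψ₂ : j.C →ₐ[A] k.C),
    (φS k).comp ψ₁ = φS i ∧ (φS k).comp ψ₂ = φS j := by
  let χ₃ : TensorProduct A i.C j.C →ₐ[A] Ω :=
    Algebra.TensorProduct.lift i.χ j.χ (fun _ _ => Commute.all _ _)
  have : Algebra.Etale A (TensorProduct A i.C j.C) :=
    Algebra.Etale.comp A i.C (TensorProduct A i.C j.C)
  obtain ⟨k, u, hu, -⟩ := exists_sidx_of_character (TensorProduct A i.C j.C) χ₃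
  have h1 : k.χ.comp (u.comp Algebra.TensorProduct.includeLeft) = i.χ := by
    rw [← AlgHom.comp_assoc, hu]
    ext c
    simp [χ₃]
  have h2 : k.χ.comp (u.comp Algebra.TensorProduct.includeRight) = j.χ := by
    rw [← AlgHom.comp_assoc, hu]
    ext c
    simp [χ₃]
  exact ⟨k, _, _, φS_comp i k _ h1, φS_comp j k _ h2⟩

theorem ofS_injective [IsSepClosure (ResidueField A) Ω] (i : SIdx A Ω) :
    Function.Injective (ofS i) := by
  let _ : Algebra i.G (SHens A Ω) := stageAlgebra i
  have hff := faithfullyFlat_stage (A := A) (Ω := Ω) i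
  rw [injective_iff_map_eq_zero]
  intro x hx
  have h2 : x ∈ ((⊥ : Ideal i.G).map (algebraMap i.G (SHens A Ω))).comap
      (algebraMap i.G (SHens A Ω)) := by
    rw [Ideal.map_bot, Ideal.mem_comap, Ideal.mem_bot]
    exact hx
  rwa [Ideal.comap_map_eq_self_of_faithfullyFlat, Ideal.mem_bot] at h2

theorem hker [IsSepClosure (ResidueField A) Ω] (i : SIdx A Ω) (x : i.C) (hx : φS i x = 0) :
    ∃ (j : SIdx A Ω) (ψ : i.C →ₐ[A] j.C), (φS j).comp ψ = φS i ∧ ψ x = 0 := by
  have h0 : algebraMap i.C i.G x = 0 := by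
    apply ofS_injective i
    rw [map_zero]
    exact hx
  obtain ⟨s, hs⟩ := (IsLocalization.map_eq_zero_iff i.q.primeCompl i.G x).1 h0
  have hsχ : i.χ (s : i.C) ≠ 0 := fun h => s.2 ((mem_q i s).2 h)
  obtain ⟨j, w, hw, hu⟩ := exists_invert i (s : i.C) hsχ
  refine ⟨j, w, φS_comp i j w hw, ?_⟩
  have : w (s : i.C) * w x = 0 := by rw [← map_mul, hs, map_zero]
  exact (hu.mul_right_eq_zero).1 this

theorem hsurj (b : SHens A Ω) : ∃ (i : SIdx A Ω) (c : i.C), φS i c = b := by
  obtain ⟨i, g, rfl⟩ := exists_ofS b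
  obtain ⟨c, s, rfl⟩ := IsLocalization.exists_mk'_eq i.q.primeCompl g
  have hsχ : i.χ (s : i.C) ≠ 0 := fun h => s.2 ((mem_q i s).2 h)
  obtain ⟨j, w, hw, hu⟩ := exists_invert i (s : i.C) hsχ
  obtain ⟨υ, hυ⟩ := hu
  refine ⟨j, (↑υ⁻¹ : j.C) * w c, ?_⟩
  have hcomp := φS_comp i j w hw
  have e1 : ∀ c', φS j (w c') = φS i c' := fun c' =>
    congrArg (fun F : i.C →ₐ[A] SHens A Ω => F c') hcomp
  have hunit : IsUnit (φS i (s : i.C)) := by
    rw [φS_apply]
    exact (IsLocalization.map_units i.G s).map (ofS i)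
  apply hunit.mul_left_cancel
  have hL : φS i (s : i.C) * φS j ((↑υ⁻¹ : j.C) * w c) = φS i c := by
    rw [← e1 (s : i.C), ← map_mul, ← hυ, ← mul_assoc, Units.mul_inv, one_mul, e1]
  have hR : φS i (s : i.C) * ofS i (IsLocalization.mk' i.G c s) = φS i c := by
    rw [φS_apply, φS_apply, ← map_mul, IsLocalization.mk'_spec']
  rw [hL, hR]

variable (A Ω) in
theorem isIndEtale_SHens [IsSepClosure (ResidueField A) Ω] : EtPBC.IsIndEtale A (SHens A Ω) :=
  isIndEtale_of_family (fun i : SIdx A Ω => i.C) φS hobj hker hsurj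

end Strict

section Hens

open Groth.Agent.Lib.helper24.Henselization Groth.Agent.Lib.helper24.Henselization.Idx
  Groth.Agent.Lib.Helper24.HensStage Groth.Agent.Lib.Helper24.IndEtaleCrit

variable {A : Type u} [CommRing A] [IsLocalRing A]

/-- canonical maps from the étale algebras -/
def φH (i : Idx A) : i.C →ₐ[A] Hens A :=
  { toRingHom := (ofH i).comp (algebraMap i.C i.G)
    commutes' := fun a => by
      show ofH i (algebraMap i.C i.G (algebraMap A i.C a)) = _
      rw [← IsScalarTower.algebraMap_apply A i.C i.G, ← algebraMap_eq i a] }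

theorem φH_apply (i : Idx A) (c : i.C) : φH i c = ofH i (algebraMap i.C i.G c) := rfl

theorem φH_comp (i k : Idx A) (w : i.C →ₐ[A] k.C) (hw : k.χ.comp w = i.χ) :
    (φH k).comp w = φH i := by
  obtain ⟨h, hh⟩ := exists_le_of_hom i k w hw
  ext c
  rw [AlgHom.comp_apply, φH_apply, φH_apply, ← hh, ofH_tr]

/-- inverting an element outside the kernel of the character -/
theorem exists_invertH (i : Idx A) (s : i.C) (hs : i.χ s ≠ 0) :
    ∃ (j : Idx A) (w : i.C →ₐ[A] j.C), j.χ.comp w = i.χ ∧ IsUnit (w s) := by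
  have : Algebra.Etale A (Localization.Away s) := Algebra.Etale.comp A i.C (Localization.Away s)
  have hf : ∀ y : Submonoid.powers s, IsUnit (i.χ y) := by
    rintro ⟨y, n, rfl⟩
    rw [map_pow]
    exact (isUnit_iff_ne_zero.2 hs).pow n
  let χ' : Localization.Away s →ₐ[A] ResidueField A :=
    IsLocalization.liftAlgHom (M := Submonoid.powers s) (S := Localization.Away s) (f := i.χ) hf
  have hχ' : ∀ c : i.C, χ' (algebraMap i.C (Localization.Away s) c) = i.χ c := fun c =>
    IsLocalization.lift_eq (M := Submonoid.powers s) (S := Localization.Away s)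
      (g := (i.χ : i.C →+* ResidueField A)) hf c
  obtain ⟨j, u, hu, -⟩ := exists_idx_of_character (Localization.Away s) χ'
  refine ⟨j, u.comp (IsScalarTower.toAlgHom A i.C (Localization.Away s)), ?_, ?_⟩
  · rw [← AlgHom.comp_assoc, hu]
    ext c
    exact hχ' c
  · exact (IsLocalization.Away.algebraMap_isUnit s).map u

theorem hobjH (i j : Idx A) : ∃ (k : Idx A) (ψ₁ : i.C →ₐ[A] k.C) (ψ₂ : j.C →ₐ[A] k.C),
    (φH k).comp ψ₁ = φH i ∧ (φH k).comp ψ₂ = φH j := by
  let χ₃ : TensorProduct A i.C j.C →ₐ[A] ResidueField A :=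
    Algebra.TensorProduct.lift i.χ j.χ (fun _ _ => Commute.all _ _)
  have : Algebra.Etale A (TensorProduct A i.C j.C) :=
    Algebra.Etale.comp A i.C (TensorProduct A i.C j.C)
  obtain ⟨k, u, hu, -⟩ := exists_idx_of_character (TensorProduct A i.C j.C) χ₃
  have h1 : k.χ.comp (u.comp Algebra.TensorProduct.includeLeft) = i.χ := by
    rw [← AlgHom.comp_assoc, hu]
    ext c
    simp [χ₃]
  have h2 : k.χ.comp (u.comp Algebra.TensorProduct.includeRight) = j.χ := by
    rw [← AlgHom.comp_assoc, hu]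
    ext c
    simp [χ₃]
  exact ⟨k, _, _, φH_comp i k _ h1, φH_comp j k _ h2⟩

theorem ofH_injective' (i : Idx A) :
    Function.Injective (ofH i) := by
  let _ : Algebra i.G (Hens A) := stageAlgebraH i
  have hff := faithfullyFlat_stageH (A := A) i
  rw [injective_iff_map_eq_zero]
  intro x hx
  have h2 : x ∈ ((⊥ : Ideal i.G).map (algebraMap i.G (Hens A))).comap
      (algebraMap i.G (Hens A)) := by
    rw [Ideal.map_bot, Ideal.mem_comap, Ideal.mem_bot]
    exact hx
  rwa [Ideal.comap_map_eq_self_of_faithfullyFlat, Ideal.mem_bot] at h2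

theorem hkerH (i : Idx A) (x : i.C) (hx : φH i x = 0) :
    ∃ (j : Idx A) (ψ : i.C →ₐ[A] j.C), (φH j).comp ψ = φH i ∧ ψ x = 0 := by
  have h0 : algebraMap i.C i.G x = 0 := by
    apply ofH_injective' i
    rw [map_zero]
    exact hx
  obtain ⟨s, hs⟩ := (IsLocalization.map_eq_zero_iff i.q.primeCompl i.G x).1 h0
  have hsχ : i.χ (s : i.C) ≠ 0 := fun h => s.2 ((mem_q i s).2 h)
  obtain ⟨j, w, hw, hu⟩ := exists_invertH i (s : i.C) hsχ
  refine ⟨j, w, φH_comp i j w hw, ?_⟩
  have : w (s : i.C) * w x = 0 := by rw [← map_mul, hs, map_zero]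
  exact (hu.mul_right_eq_zero).1 this

theorem hsurjH (b : Hens A) : ∃ (i : Idx A) (c : i.C), φH i c = b := by
  obtain ⟨i, g, rfl⟩ := exists_ofH b
  obtain ⟨c, s, rfl⟩ := IsLocalization.exists_mk'_eq i.q.primeCompl g
  have hsχ : i.χ (s : i.C) ≠ 0 := fun h => s.2 ((mem_q i s).2 h)
  obtain ⟨j, w, hw, hu⟩ := exists_invertH i (s : i.C) hsχ
  obtain ⟨υ, hυ⟩ := hu
  refine ⟨j, (↑υ⁻¹ : j.C) * w c, ?_⟩
  have hcomp := φH_comp i j w hw
  have e1 : ∀ c', φH j (w c') = φH i c' := fun c' =>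
    congrArg (fun F : i.C →ₐ[A] Hens A => F c') hcomp
  have hunit : IsUnit (φH i (s : i.C)) := by
    rw [φH_apply]
    exact (IsLocalization.map_units i.G s).map (ofH i)
  apply hunit.mul_left_cancel
  have hL : φH i (s : i.C) * φH j ((↑υ⁻¹ : j.C) * w c) = φH i c := by
    rw [← e1 (s : i.C), ← map_mul, ← hυ, ← mul_assoc, Units.mul_inv, one_mul, e1]
  have hR : φH i (s : i.C) * ofH i (IsLocalization.mk' i.G c s) = φH i c := by
    rw [φH_apply, φH_apply, ← map_mul, IsLocalization.mk'_spec']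
  rw [hL, hR]

variable (A) in
theorem isIndEtale_Hens : EtPBC.IsIndEtale A (Hens A) :=
  isIndEtale_of_family (fun i : Idx A => i.C) φH hobjH hkerH hsurjH

end Hens

end Groth.Agent.Lib.Helper24.HensIndEtale
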