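import Mathlib

/-!
Henselian local rings: étale sections, factorization lifting, finite algebras (helper24).
-/

set_option autoImplicit false

noncomputable section

namespace Groth.Agent.Lib.helper24.HenselLocal

open IsLocalRing Polynomial

universe u

/-- Étale section lemma: an étale algebra over a henselian local ring with a prime over the maximal
ideal with trivial residue field extension has a section through that prime. -/
theorem exists_section_of_etale {R : Type u} [CommRing R] [HenselianLocalRing R] {A : Type u}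
    [CommRing A] [Algebra R A] [Algebra.Etale R A] (q : Ideal A) [q.IsPrime]
    [hq : q.LiesOver (maximalIdeal R)]
    (hsurj : Function.Surjective (algebraMap R q.ResidueField)) :
    ∃ s : A →ₐ[R] R, Ideal.comap s.toRingHom (maximalIdeal R) = q := by
  obtain ⟨g, hgq, hstd⟩ := Algebra.IsEtaleAt.exists_isStandardEtale (R := R) q
  let P := hstd.nonempty_standardEtalePresentation.some
  have hgu : IsUnit ((IsScalarTower.toAlgHom R A q.ResidueField) g) := by
    rw [isUnit_iff_ne_zero]
    intro h0
    exact hgq (Ideal.algebraMap_residueField_eq_zero.1 h0)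
  let c : Localization.Away g →ₐ[R] q.ResidueField :=
    IsLocalization.Away.liftAlgHom (S := Localization.Away g) g hgu
  -- kernel of R → κ(q) is the maximal ideal
  have hker : ∀ r : R, algebraMap R q.ResidueField r = 0 ↔ r ∈ maximalIdeal R := by
    intro r
    rw [IsScalarTower.algebraMap_apply R A q.ResidueField, Ideal.algebraMap_residueField_eq_zero,
      hq.over, Ideal.mem_comap]
  obtain ⟨a₀, ha₀⟩ := hsurj (c P.x)
  have hmapc : P.P.HasMap (c P.x) := P.hasMap.map c
  -- the root over the residue field
  have h1 : P.f.eval a₀ ∈ maximalIdeal R := by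
    rw [← hker, ← Polynomial.aeval_algebraMap_apply_eq_algebraMap_eval, ha₀]
    exact hmapc.1
  have h2 : IsUnit (P.f.derivative.eval a₀) := by
    by_contra hnu
    have h3 : P.f.derivative.eval a₀ ∈ maximalIdeal R := (mem_maximalIdeal _).2 hnu
    rw [← hker, ← Polynomial.aeval_algebraMap_apply_eq_algebraMap_eval, ha₀] at h3
    exact (hmapc.isUnit_derivative_f).ne_zero h3
  obtain ⟨a, haroot, haa₀⟩ := HenselianLocalRing.is_henselian P.f P.monic_f a₀ h1 h2
  have haeq : algebraMap R q.ResidueField a = c P.x := by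
    rw [← ha₀, ← sub_eq_zero, ← map_sub, hker]
    exact haa₀
  have hga : IsUnit (P.g.eval a) := by
    by_contra hnu
    have h3 : P.g.eval a ∈ maximalIdeal R := (mem_maximalIdeal _).2 hnu
    rw [← hker, ← Polynomial.aeval_algebraMap_apply_eq_algebraMap_eval, haeq] at h3
    exact hmapc.2.ne_zero h3
  have hmapa : P.P.HasMap a := ⟨by rw [Polynomial.coe_aeval_eq_eval]; exact haroot,
    by rw [Polynomial.coe_aeval_eq_eval]; exact hga⟩
  let t : Localization.Away g →ₐ[R] R := (P.P.lift a hmapa).comp P.equivRing.toAlgHom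
  have htx : t P.x = a := by
    show (P.P.lift a hmapa) (P.equivRing P.x) = a
    rw [P.equivRing_x, StandardEtalePair.lift_X]
  let s : A →ₐ[R] R := t.comp (IsScalarTower.toAlgHom R A (Localization.Away g))
  refine ⟨s, ?_⟩
  -- compare the two maps to the residue field
  have hcomp : (IsScalarTower.toAlgHom R R q.ResidueField).comp t = c := by
    apply P.hom_ext
    show algebraMap R q.ResidueField (t P.x) = c P.x
    rw [htx, haeq]
  ext x
  rw [Ideal.mem_comap, ← hker]
  have h4 : algebraMap R q.ResidueField (s x) = algebraMap A q.ResidueField x := by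
    have h5 := congrArg (fun F : Localization.Away g →ₐ[R] q.ResidueField =>
      F (algebraMap A (Localization.Away g) x)) hcomp
    simp only [AlgHom.comp_apply] at h5
    rw [show c (algebraMap A (Localization.Away g) x) = algebraMap A q.ResidueField x from
      IsLocalization.Away.lift_eq g hgu x] at h5
    exact h5
  show algebraMap R q.ResidueField (s x) = 0 ↔ x ∈ q
  rw [h4, Ideal.algebraMap_residueField_eq_zero]

open scoped TensorProduct in
/-- Two algebra maps from an unramified algebra into a local ring that agree modulo the maximal ideal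
are equal. -/
theorem algHom_ext_of_residue {R A S : Type u} [CommRing R] [CommRing A] [CommRing S] [Algebra R A]
    [Algebra R S] [Algebra.EssFiniteType R A] [Algebra.FormallyUnramified R A] [IsLocalRing S]
    (f₁ f₂ : A →ₐ[R] S) (h : ∀ a, f₁ a - f₂ a ∈ maximalIdeal S) : f₁ = f₂ := by
  obtain ⟨e, he, hsp⟩ : ∃ e, IsIdempotentElem e ∧ KaehlerDifferential.ideal R A = A ⊗[R] A ∙ e :=
    (Ideal.isIdempotentElem_iff_of_fg _ (KaehlerDifferential.ideal_fg R A)).mp <|
      (Ideal.cotangent_subsingleton_iff _).mp <| inferInstanceAs <| Subsingleton Ω[A⁄R]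
  let F : A ⊗[R] A →ₐ[R] S := Algebra.TensorProduct.productMap f₁ f₂
  have hF : ∀ a : A, F ((1 : A) ⊗ₜ[R] a - a ⊗ₜ[R] (1 : A)) = f₂ a - f₁ a := by
    intro a
    simp [F, Algebra.TensorProduct.productMap_apply_tmul]
  have hJ : ∀ x ∈ KaehlerDifferential.ideal R A, F x ∈ maximalIdeal S := by
    intro x hx
    rw [← KaehlerDifferential.span_range_eq_ideal] at hx
    have hle : Ideal.span (Set.range fun s : A => (1 : A) ⊗ₜ[R] s - s ⊗ₜ[R] (1 : A)) ≤
        Ideal.comap F.toRingHom (maximalIdeal S) := by
      rw [Ideal.span_le]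
      rintro _ ⟨a, rfl⟩
      show F _ ∈ maximalIdeal S
      rw [hF]
      have := h a
      rw [← neg_sub]
      exact neg_mem this
    exact hle hx
  have hFe : F e = 0 := by
    have h1 : IsIdempotentElem (F e) := he.map F
    have h2 : F e ∈ maximalIdeal S := hJ e (hsp ▸ Ideal.mem_span_singleton_self e)
    have h3 : IsUnit (1 - F e) := IsLocalRing.isUnit_one_sub_self_of_mem_nonunits _ h2
    have h4 : F e * (1 - F e) = 0 := by
      rw [mul_sub, mul_one, h1.eq, sub_self]
    exact (h3.mul_left_eq_zero).1 h4
  ext a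
  have h5 : (1 : A) ⊗ₜ[R] a - a ⊗ₜ[R] (1 : A) ∈ KaehlerDifferential.ideal R A := by
    rw [← KaehlerDifferential.span_range_eq_ideal]
    exact Ideal.subset_span ⟨a, rfl⟩
  rw [hsp, Ideal.mem_span_singleton'] at h5
  obtain ⟨c, hc⟩ := h5
  have h6 := hF a
  rw [← hc, map_mul, hFe, mul_zero] at h6
  exact (sub_eq_zero.1 h6.symm).symm

/-- Lifting coprime monic factorizations over a henselian local ring. -/
theorem exists_monic_factorization {R : Type u} [CommRing R] [HenselianLocalRing R] (f : R[X])
    (hf : f.Monic) (g₀ h₀ : (ResidueField R)[X]) (hg : g₀.Monic) (hh : h₀.Monic)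
    (hc : IsCoprime g₀ h₀) (hfac : f.map (residue R) = g₀ * h₀) :
    ∃ g h : R[X], g.Monic ∧ h.Monic ∧ f = g * h ∧ g.map (residue R) = g₀ ∧
      h.map (residue R) = h₀ ∧ IsCoprime g h := by
  set P : Ideal R := maximalIdeal R with hP
  -- the comparison of the two residue fields
  have hkerP : ∀ r : R, algebraMap R P.ResidueField r = 0 ↔ r ∈ P := fun r =>
    Ideal.algebraMap_residueField_eq_zero
  let ι : ResidueField R →+* P.ResidueField :=
    Ideal.Quotient.lift P (algebraMap R P.ResidueField) (fun r hr => (hkerP r).2 hr)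
  have hι : ∀ r : R, ι (residue R r) = algebraMap R P.ResidueField r := fun r => rfl
  have hιinj : Function.Injective ι := ι.injective
  have hPsurj : Function.Surjective (algebraMap R P.ResidueField) :=
    Ideal.algebraMap_residueField_surjective P
  have hmapι : ∀ q : R[X], (q.map (residue R)).map ι = q.map (algebraMap R P.ResidueField) := by
    intro q
    rw [Polynomial.map_map]
    congr 1
  obtain ⟨R', _, _, _, Q, _, _, f', g', hbij, hf'm, hg'm, hfg', hcop, hf'map, hg'map⟩ :=
    Algebra.exists_etale_bijective_residueFieldMap_and_map_eq_mul_and_isCoprime P f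
      (g₀.map ι) (h₀.map ι) hf (hg.map ι) (hh.map ι)
      (by rw [← hmapι, hfac, Polynomial.map_mul]) (hc.map (Polynomial.mapRingHom ι))
  set φ := Ideal.ResidueField.mapₐ P Q (Algebra.ofId _ _) (Ideal.over_def Q P) with hφ
  have hQsurj : Function.Surjective (algebraMap R Q.ResidueField) := by
    intro z
    obtain ⟨y, rfl⟩ := hbij.2 z
    obtain ⟨r, rfl⟩ := hPsurj y
    refine ⟨r, ?_⟩
    exact (φ.commutes r).symm
  obtain ⟨s, hs⟩ := exists_section_of_etale Q hQsurj
  -- the residue class of x and of s x agree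
  have hres : ∀ x : R', algebraMap R' Q.ResidueField x =
      φ (algebraMap R P.ResidueField (s x)) := by
    intro x
    have h1 : x - algebraMap R R' (s x) ∈ Q := by
      rw [← hs, Ideal.mem_comap]
      show s (x - algebraMap R R' (s x)) ∈ maximalIdeal R
      rw [map_sub, s.commutes]
      simp
    have h2 := Ideal.algebraMap_residueField_eq_zero.2 h1
    rw [map_sub, sub_eq_zero] at h2
    rw [h2, ← IsScalarTower.algebraMap_apply]
    exact (φ.commutes (s x)).symm
  have hresmap : ∀ q : R'[X], q.map (algebraMap R' Q.ResidueField) =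
      (((q.map s.toRingHom).map (residue R)).map ι).map φ.toRingHom := by
    intro q
    rw [Polynomial.map_map, Polynomial.map_map, Polynomial.map_map]
    congr 1
    ext x
    exact hres x
  have hφinj : Function.Injective (Polynomial.map φ.toRingHom) :=
    Polynomial.map_injective _ φ.toRingHom.injective
  have hιinj' : Function.Injective (Polynomial.map ι) := Polynomial.map_injective _ hιinj
  refine ⟨f'.map s.toRingHom, g'.map s.toRingHom, hf'm.map _, hg'm.map _, ?_, ?_, ?_, ?_⟩
  · rw [← Polynomial.map_mul, ← hfg', Polynomial.map_map]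
    have : (s.toRingHom.comp (algebraMap R R')) = RingHom.id R := by
      ext r; exact s.commutes r
    rw [this, Polynomial.map_id]
  · apply hιinj'
    apply hφinj
    rw [← hresmap, ← hf'map]
  · apply hιinj'
    apply hφinj
    rw [← hresmap, ← hg'map]
  · exact hcop.map (Polynomial.mapRingHom s.toRingHom)

section Finite

variable {R : Type u} [CommRing R] [HenselianLocalRing R] {S : Type u} [CommRing S] [Algebra R S]
  [Module.Finite R S]

omit [HenselianLocalRing R] in
theorem mem_maximalIdeal_of_algebraMap_mem [IsLocalRing R] (M : Ideal S) [hM : M.IsMaximal] {r : R}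
    (hr : algebraMap R S r ∈ M) : r ∈ maximalIdeal R := by
  have : Algebra.IsIntegral R S := inferInstance
  have h1 : (M.comap (algebraMap R S)).IsMaximal :=
    Ideal.isMaximal_comap_of_isIntegral_of_isMaximal M
  rw [← IsLocalRing.eq_maximalIdeal h1]
  exact hr

omit [HenselianLocalRing R] in
/-- evaluation at a point congruent to a constant. -/
theorem eval_residue_eq_zero [IsLocalRing R] (M : Ideal S) [hM : M.IsMaximal] {b : S} {c : R}
    (hbc : b - algebraMap R S c ∈ M) {G : R[X]} (hG : aeval b G ∈ M) :
    (G.map (residue R)).eval (residue R c) = 0 := by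
  have h1 : aeval b G - aeval (algebraMap R S c) G ∈ M := by
    have h2 := Polynomial.sub_dvd_eval_sub b (algebraMap R S c) (G.map (algebraMap R S))
    rw [Polynomial.eval_map_algebraMap, Polynomial.eval_map_algebraMap] at h2
    obtain ⟨w, hw⟩ := h2
    rw [hw]
    exact Ideal.mul_mem_right _ _ hbc
  have h3 : aeval (algebraMap R S c) G ∈ M := by
    have := M.sub_mem hG h1
    rwa [sub_sub_cancel] at this
  rw [Polynomial.aeval_algebraMap_apply] at h3
  have h4 := mem_maximalIdeal_of_algebraMap_mem M h3
  rw [Polynomial.eval_map_apply]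
  exact (residue_eq_zero_iff _).2 h4

theorem exists_idempotent_separating (R : Type u) [CommRing R] [HenselianLocalRing R] {S : Type u}
    [CommRing S] [Algebra R S] [Module.Finite R S] (M₁ M₂ : Ideal S) [hM₁ : M₁.IsMaximal]
    [hM₂ : M₂.IsMaximal] (hne : M₁ ≠ M₂) :
    ∃ e : S, IsIdempotentElem e ∧ 1 - e ∈ M₁ ∧ e ∈ M₂ := by
  have hint : Algebra.IsIntegral R S := inferInstance
  have hsup : M₁ ⊔ M₂ = ⊤ := Ideal.IsMaximal.coprime_of_ne hM₁ hM₂ hne
  obtain ⟨b, hb, y, hy, hby⟩ := Submodule.mem_sup.1 (hsup ▸ Submodule.mem_top : (1 : S) ∈ M₁ ⊔ M₂)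
  have hb0 : b - algebraMap R S 0 ∈ M₁ := by rw [map_zero, sub_zero]; exact hb
  have hb1 : b - algebraMap R S 1 ∈ M₂ := by
    rw [map_one, ← hby]; simpa using neg_mem hy
  obtain ⟨F, hFm, hF0⟩ := hint.isIntegral b
  have hFb : aeval b F = 0 := hF0
  set Fb := F.map (residue R) with hFbdef
  have hFbm : Fb.Monic := hFm.map _
  obtain ⟨hbar, hfac, hndvd⟩ :=
    Polynomial.exists_eq_pow_rootMultiplicity_mul_and_not_dvd Fb hFbm.ne_zero 0
  rw [map_zero, sub_zero] at hfac hndvd
  set r := Fb.rootMultiplicity 0 with hr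
  have hXr : (X ^ r : (ResidueField R)[X]).Monic := monic_X_pow r
  have hhm : hbar.Monic := hXr.of_mul_monic_left (hfac ▸ hFbm)
  have hcop : IsCoprime (X ^ r : (ResidueField R)[X]) hbar :=
    IsCoprime.pow_left ((Polynomial.irreducible_X).coprime_iff_not_dvd.2 hndvd)
  obtain ⟨G, H, hGm, hHm, hFGH, hGmap, hHmap, u, v, huv⟩ :=
    exists_monic_factorization F hFm (X ^ r) hbar hXr hhm hcop hfac
  have hGH : aeval b G * aeval b H = 0 := by rw [← map_mul, ← hFGH, hFb]
  -- G(b) ∈ M₁
  have hG1 : aeval b G ∈ M₁ := by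
    rcases (hM₁.isPrime.mem_or_mem (hGH ▸ M₁.zero_mem : aeval b G * aeval b H ∈ M₁)) with h | h
    · exact h
    · exfalso
      have h1 := eval_residue_eq_zero M₁ hb0 h
      rw [hHmap, map_zero] at h1
      exact hndvd (Polynomial.X_dvd_iff.2 (by rw [Polynomial.coeff_zero_eq_eval_zero, h1]))
  have hH2 : aeval b H ∈ M₂ := by
    rcases (hM₂.isPrime.mem_or_mem (hGH ▸ M₂.zero_mem : aeval b G * aeval b H ∈ M₂)) with h | h
    · exfalso
      have h1 := eval_residue_eq_zero M₂ hb1 h
      rw [hGmap, map_one, Polynomial.eval_pow, Polynomial.eval_X, one_pow] at h1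
      exact one_ne_zero h1
    · exact h
  have hsum : aeval b (u * G) + aeval b (v * H) = 1 := by
    rw [← map_add, huv, map_one]
  refine ⟨aeval b (v * H), ?_, ?_, ?_⟩
  · have h1 : aeval b (v * H) * aeval b (u * G) = 0 := by
      rw [map_mul, map_mul]
      calc aeval b v * aeval b H * (aeval b u * aeval b G)
          = aeval b v * aeval b u * (aeval b G * aeval b H) := by ring
        _ = 0 := by rw [hGH, mul_zero]
    show aeval b (v * H) * aeval b (v * H) = aeval b (v * H)
    have h2 : aeval b (v * H) = 1 - aeval b (u * G) := by rw [← hsum]; ring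
    calc aeval b (v * H) * aeval b (v * H)
        = aeval b (v * H) * (1 - aeval b (u * G)) := by rw [← h2]
      _ = aeval b (v * H) := by rw [mul_sub, mul_one, h1, sub_zero]
  · have h2 : 1 - aeval b (v * H) = aeval b (u * G) := by rw [← hsum]; ring
    rw [h2, map_mul]
    exact Ideal.mul_mem_left _ _ hG1
  · rw [map_mul]
    exact Ideal.mul_mem_left _ _ hH2

end Finite

section Decomp

/-- the property of being a finite product of local rings. -/
def IsPiLocal (S : Type u) [CommRing S] : Prop :=
  ∃ (ι : Type u) (_ : Fintype ι) (A : ι → Type u) (_ : ∀ i, CommRing (A i)),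
    (∀ i, IsLocalRing (A i)) ∧ Nonempty (S ≃+* (∀ i, A i))

theorem isPiLocal_of_subsingleton (S : Type u) [CommRing S] [Subsingleton S] : IsPiLocal S := by
  refine ⟨PEmpty, inferInstance, fun _ => PUnit, fun _ => inferInstance, fun i => i.elim, ⟨?_⟩⟩
  exact
    { toFun := fun _ i => i.elim
      invFun := fun _ => 0
      left_inv := fun x => Subsingleton.elim _ _
      right_inv := fun f => funext fun i => i.elim
      map_mul' := fun _ _ => funext fun i => i.elim
      map_add' := fun _ _ => funext fun i => i.elim }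

theorem isPiLocal_of_isLocalRing (S : Type u) [CommRing S] [IsLocalRing S] : IsPiLocal S :=
  ⟨PUnit, inferInstance, fun _ => S, fun _ => inferInstance, fun _ => inferInstance,
    ⟨(RingEquiv.piUnique (fun _ : PUnit => S)).symm⟩⟩

theorem isPiLocal_of_prod {S S₁ S₂ : Type u} [CommRing S] [CommRing S₁] [CommRing S₂]
    (E : S ≃+* S₁ × S₂) (h₁ : IsPiLocal S₁) (h₂ : IsPiLocal S₂) : IsPiLocal S := by
  obtain ⟨ι₁, _, A₁, inst₁, hl₁, ⟨E₁⟩⟩ := h₁
  obtain ⟨ι₂, _, A₂, inst₂, hl₂, ⟨E₂⟩⟩ := h₂
  let inst : ∀ i, CommRing (Sum.elim A₁ A₂ i) :=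
    fun i => Sum.rec (motive := fun i => CommRing (Sum.elim A₁ A₂ i)) (fun i => inst₁ i)
      (fun j => inst₂ j) i
  refine ⟨ι₁ ⊕ ι₂, inferInstance, Sum.elim A₁ A₂, inst, ?_, ⟨?_⟩⟩
  · rintro (i | j)
    · exact hl₁ i
    · exact hl₂ j
  · refine E.trans ((RingEquiv.prodCongr E₁ E₂).trans ?_)
    exact
      { toEquiv := Equiv.prodPiEquivSumPi A₁ A₂
        map_mul' := by
          rintro ⟨f, g⟩ ⟨f', g'⟩
          funext i
          rcases i with i | j <;> rfl
        map_add' := by
          rintro ⟨f, g⟩ ⟨f', g'⟩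
          funext i
          rcases i with i | j <;> rfl }

open scoped TensorProduct

theorem isPiLocal_of_finite_aux (R : Type u) [CommRing R] [HenselianLocalRing R] :
    ∀ (d : ℕ) (S : Type u) [CommRing S] [Algebra R S] [Module.Finite R S],
      Module.finrank (ResidueField R) (ResidueField R ⊗[R] S) = d → IsPiLocal S := by
  intro d
  induction d using Nat.strong_induction_on with
  | _ d ih =>
    intro S _ _ _ hd
    rcases subsingleton_or_nontrivial S with hsub | hnt
    · exact isPiLocal_of_subsingleton S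
    by_cases hloc : IsLocalRing S
    · exact isPiLocal_of_isLocalRing S
    -- two distinct maximal ideals
    obtain ⟨M₁, hM₁⟩ := Ideal.exists_maximal S
    have hex : ∃ M₂ : Ideal S, M₂.IsMaximal ∧ M₁ ≠ M₂ := by
      by_contra hcon
      push Not at hcon
      exact hloc (IsLocalRing.of_unique_max_ideal ⟨M₁, hM₁, fun M hM => (hcon M hM).symm⟩)
    obtain ⟨M₂, hM₂, hne⟩ := hex
    obtain ⟨e, he, he1, he2⟩ := exists_idempotent_separating R M₁ M₂ hne
    let E := AlgEquiv.prodQuotientOfIsIdempotentElem R he he.one_sub (by ring)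
      (by rw [mul_sub, mul_one, he.eq, sub_self])
    have hnt₁ : Nontrivial (S ⧸ Ideal.span {e}) := by
      apply Ideal.Quotient.nontrivial_iff.2
      intro htop
      have hle : Ideal.span {e} ≤ M₂ := (Ideal.span_singleton_le_iff_mem M₂).2 he2
      exact hM₂.ne_top (top_le_iff.1 (htop ▸ hle))
    have hnt₂ : Nontrivial (S ⧸ Ideal.span {1 - e}) := by
      apply Ideal.Quotient.nontrivial_iff.2
      intro htop
      have hle : Ideal.span {1 - e} ≤ M₁ := (Ideal.span_singleton_le_iff_mem M₁).2 he1
      exact hM₁.ne_top (top_le_iff.1 (htop ▸ hle))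
    -- ranks
    have hrank : Module.finrank (ResidueField R) (ResidueField R ⊗[R] S) =
        Module.finrank (ResidueField R) (ResidueField R ⊗[R] (S ⧸ Ideal.span {e})) +
          Module.finrank (ResidueField R) (ResidueField R ⊗[R] (S ⧸ Ideal.span {1 - e})) := by
      have e1 : (ResidueField R ⊗[R] S) ≃ₗ[ResidueField R]
          ResidueField R ⊗[R] ((S ⧸ Ideal.span {e}) × (S ⧸ Ideal.span {1 - e})) :=
        TensorProduct.AlgebraTensorModule.congr (LinearEquiv.refl (ResidueField R) (ResidueField R))
          E.toLinearEquiv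
      have e2 := TensorProduct.prodRight R (ResidueField R) (ResidueField R)
        (S ⧸ Ideal.span {e}) (S ⧸ Ideal.span {1 - e})
      rw [(e1.trans e2).finrank_eq, Module.finrank_prod]
    rw [hd] at hrank
    have hpos₁ : 0 < Module.finrank (ResidueField R)
        (ResidueField R ⊗[R] (S ⧸ Ideal.span {e})) := by
      rw [Module.finrank_pos_iff]
      by_contra hcon
      rw [not_nontrivial_iff_subsingleton, IsLocalRing.subsingleton_tensorProduct] at hcon
      exact not_subsingleton _ hcon
    have hpos₂ : 0 < Module.finrank (ResidueField R)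
        (ResidueField R ⊗[R] (S ⧸ Ideal.span {1 - e})) := by
      rw [Module.finrank_pos_iff]
      by_contra hcon
      rw [not_nontrivial_iff_subsingleton, IsLocalRing.subsingleton_tensorProduct] at hcon
      exact not_subsingleton _ hcon
    have h₁ := ih _ (by omega) (S ⧸ Ideal.span {e}) rfl
    have h₂ := ih _ (by omega) (S ⧸ Ideal.span {1 - e}) rfl
    exact isPiLocal_of_prod E.toRingEquiv h₁ h₂

theorem isPiLocal_of_finite (R : Type u) [CommRing R] [HenselianLocalRing R] (S : Type u)
    [CommRing S] [Algebra R S] [Module.Finite R S] : IsPiLocal S :=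
  isPiLocal_of_finite_aux R _ S rfl

end Decomp

section Lift

/-- Sections of an étale algebra over a henselian local ring lift from the residue field. -/
theorem exists_lift_residue {R : Type u} [CommRing R] [HenselianLocalRing R] {B : Type u}
    [CommRing B] [Algebra R B] [Algebra.Etale R B] (χ : B →ₐ[R] ResidueField R) :
    ∃ σ : B →ₐ[R] R, ∀ b, residue R (σ b) = χ b := by
  have hχR : ∀ r : R, χ (algebraMap R B r) = residue R r := fun r => χ.commutes r
  have hχsurj : Function.Surjective χ := by
    intro z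
    obtain ⟨r, rfl⟩ := residue_surjective z
    exact ⟨algebraMap R B r, hχR r⟩
  let Q : Ideal B := RingHom.ker χ.toRingHom
  have hQmax : Q.IsMaximal := RingHom.ker_isMaximal_of_surjective χ.toRingHom hχsurj
  have hQprime : Q.IsPrime := hQmax.isPrime
  have hlies : Q.LiesOver (maximalIdeal R) := by
    refine ⟨?_⟩
    ext r
    rw [Ideal.under_def, Ideal.mem_comap]
    change r ∈ maximalIdeal R ↔ χ (algebraMap R B r) = 0
    rw [hχR, residue_eq_zero_iff]
  have hsurj : Function.Surjective (algebraMap R Q.ResidueField) := by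
    intro z
    obtain ⟨b, rfl⟩ := Ideal.algebraMap_residueField_surjective Q z
    obtain ⟨r, hr⟩ := residue_surjective (χ b)
    refine ⟨r, ?_⟩
    rw [IsScalarTower.algebraMap_apply R B Q.ResidueField, ← sub_eq_zero, ← map_sub,
      Ideal.algebraMap_residueField_eq_zero]
    change χ (algebraMap R B r - b) = 0
    rw [map_sub, hχR, hr, sub_self]
  obtain ⟨σ, hσ⟩ := exists_section_of_etale Q hsurj
  refine ⟨σ, fun b => ?_⟩
  have h1 : b - algebraMap R B (σ b) ∈ Q := by
    rw [← hσ, Ideal.mem_comap]
    show σ (b - algebraMap R B (σ b)) ∈ maximalIdeal R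
    rw [map_sub, σ.commutes]
    simp
  have h2 : χ (b - algebraMap R B (σ b)) = 0 := h1
  rw [map_sub, hχR, sub_eq_zero] at h2
  exact h2.symm

theorem etale_away_jacobian {R : Type u} [CommRing R] {n : ℕ}
    (P : Fin n → MvPolynomial (Fin n) R) :
    Algebra.Etale R (Localization.Away
      (Algebra.PreSubmersivePresentation.naive (R := R) (v := P) id
        Function.injective_id).jacobian) := by
  set Pre := Algebra.PreSubmersivePresentation.naive (R := R) (v := P) id Function.injective_id
    with hPre
  set Δ := Pre.jacobian with hΔdef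
  have hΔ : IsUnit (algebraMap _ (Localization.Away Δ) Δ) :=
    IsLocalization.Away.algebraMap_isUnit _
  let SP : Algebra.SubmersivePresentation R (Localization.Away Δ) _ _ :=
    { toPreSubmersivePresentation := .comp (.localizationAway (Localization.Away Δ) Δ) Pre,
      jacobian_isUnit := by simpa [Algebra.smul_def, -isUnit_map_iff, hΔ] }
  have : Algebra.IsStandardSmoothOfRelativeDimension 0 R (Localization.Away Δ) :=
    ⟨_, _, _, inferInstance, SP, by
      simp only [Algebra.PreSubmersivePresentation.dimension_comp_eq_dimension_add_dimension, SP]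
      simp [Algebra.Presentation.dimension]⟩
  infer_instance

/-- Multivariate Hensel lemma over a henselian local ring. -/
theorem exists_root_mv {A : Type u} [CommRing A] [HenselianLocalRing A] (n : ℕ)
    (P : Fin n → MvPolynomial (Fin n) A) (a₀ : Fin n → A)
    (h₀ : ∀ i, MvPolynomial.eval a₀ (P i) ∈ maximalIdeal A)
    (hJ : IsUnit (Matrix.of (fun i j => MvPolynomial.eval a₀ (MvPolynomial.pderiv j (P i)))).det) :
    ∃ a : Fin n → A, (∀ i, MvPolynomial.eval a (P i) = 0) ∧
      ∀ j, a j - a₀ j ∈ maximalIdeal A := by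
  classical
  set Pre := Algebra.PreSubmersivePresentation.naive (R := A) (v := P) id Function.injective_id
    with hPre
  set Δ := Pre.jacobian with hΔdef
  have := etale_away_jacobian P
  -- evaluation at the residue point
  let ev : MvPolynomial (Fin n) A →ₐ[A] ResidueField A :=
    MvPolynomial.aeval (fun i => residue A (a₀ i))
  have hev : ∀ q : MvPolynomial (Fin n) A, ev q = residue A (MvPolynomial.eval a₀ q) := by
    intro q
    show MvPolynomial.eval₂ (algebraMap A (ResidueField A)) (fun i => residue A (a₀ i)) q =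
      residue A (MvPolynomial.eval₂ (RingHom.id A) a₀ q)
    rw [MvPolynomial.eval₂_comp_left (residue A)]
    rfl
  have hker : ∀ q ∈ Ideal.span (Set.range P), ev q = 0 := by
    have hle : Ideal.span (Set.range P) ≤ RingHom.ker ev.toRingHom := by
      rw [Ideal.span_le]
      rintro _ ⟨i, rfl⟩
      show ev (P i) = 0
      rw [hev, residue_eq_zero_iff]
      exact h₀ i
    exact fun q hq => hle hq
  let evB : (MvPolynomial (Fin n) A ⧸ Ideal.span (Set.range P)) →ₐ[A] ResidueField A :=
    Ideal.Quotient.liftₐ _ ev hker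
  have hevB : ∀ q, evB (Ideal.Quotient.mk _ q) = ev q := fun q => rfl
  have hring : ∀ x : Pre.Ring, evB (algebraMap Pre.Ring _ x) = ev x := by
    intro x
    have h1 : (evB.comp (IsScalarTower.toAlgHom A Pre.Ring _)) = ev := by
      apply MvPolynomial.algHom_ext
      intro i
      show evB (algebraMap Pre.Ring _ (MvPolynomial.X i)) = ev (MvPolynomial.X i)
      rw [Algebra.Generators.algebraMap_apply, MvPolynomial.aeval_X]
      rfl
    exact congrArg (fun F : MvPolynomial (Fin n) A →ₐ[A] ResidueField A => F x) h1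
  have hΔu : IsUnit (evB Δ) := by
    rw [hΔdef, Algebra.PreSubmersivePresentation.jacobian_eq_jacobiMatrix_det, hring, hev,
      RingHom.map_det]
    have h2 : (MvPolynomial.eval a₀).mapMatrix Pre.jacobiMatrix =
        (Matrix.of (fun i j => MvPolynomial.eval a₀ (MvPolynomial.pderiv j (P i)))).transpose := by
      ext i j
      rw [RingHom.mapMatrix_apply, Matrix.map_apply, hPre,
        Algebra.PreSubmersivePresentation.jacobiMatrix_naive]
      rfl
    rw [h2, Matrix.det_transpose]
    exact hJ.map _
  let χ : Localization.Away Δ →ₐ[A] ResidueField A :=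
    IsLocalization.Away.liftAlgHom (S := Localization.Away Δ) Δ hΔu
  have hχ : ∀ b, χ (algebraMap _ (Localization.Away Δ) b) = evB b := fun b =>
    IsLocalization.Away.lift_eq Δ hΔu b
  obtain ⟨σ, hσ⟩ := exists_lift_residue χ
  let Φ : MvPolynomial (Fin n) A →ₐ[A] A :=
    σ.comp ((IsScalarTower.toAlgHom A _ (Localization.Away Δ)).comp
      (Ideal.Quotient.mkₐ A (Ideal.span (Set.range P))))
  have hΦ : ∀ q, Φ q = σ (algebraMap (MvPolynomial (Fin n) A ⧸ Ideal.span (Set.range P))
      (Localization.Away Δ) (Ideal.Quotient.mk (Ideal.span (Set.range P)) q)) :=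
    fun q => rfl
  have hΦeval : ∀ q, Φ q = MvPolynomial.eval (fun j => Φ (MvPolynomial.X j)) q := by
    intro q
    have h1 := MvPolynomial.aeval_unique Φ
    conv_lhs => rw [h1]
    rw [MvPolynomial.aeval_def, MvPolynomial.eval, MvPolynomial.coe_eval₂Hom]
    rfl
  refine ⟨fun j => Φ (MvPolynomial.X j), ?_, ?_⟩
  · intro i
    rw [← hΦeval, hΦ]
    have h3 : (Ideal.Quotient.mk (Ideal.span (Set.range P))) (P i) = 0 :=
      Ideal.Quotient.eq_zero_iff_mem.2 (Ideal.subset_span ⟨i, rfl⟩)
    rw [h3, map_zero, map_zero]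
  · intro j
    show Φ (MvPolynomial.X j) - a₀ j ∈ maximalIdeal A
    rw [← residue_eq_zero_iff, map_sub, hΦ, hσ, hχ, hevB, hev, MvPolynomial.eval_X, sub_self]

end Lift

end Groth.Agent.Lib.helper24.HenselLocal

end
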