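import Mathlib
import Groth.Prelude.Def_PBC

/-!
# A criterion for ind-étale algebras

`B` is ind-étale over `A` as soon as there is a (small) family of étale `A`-algebras `C i` with maps
`φ i : C i →ₐ[A] B` which is jointly surjective, "directed" and such that kernel elements die at
a later stage (helper24).
-/

set_option autoImplicit false

noncomputable section

namespace Groth.Agent.Lib.Helper24.IndEtaleCrit

open CategoryTheory CategoryTheory.Limits

universe u

/-- index category: a type synonym of the index type -/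
structure Obj {A B ι : Type u} [CommRing A] [CommRing B] [Algebra A B]
    (C : ι → Type u) [∀ i, CommRing (C i)] [∀ i, Algebra A (C i)]
    (φ : ∀ i, C i →ₐ[A] B) : Type u where
  i : ι

variable {A B ι : Type u} [CommRing A] [CommRing B] [Algebra A B]
    {C : ι → Type u} [∀ i, CommRing (C i)] [∀ i, Algebra A (C i)]
    {φ : ∀ i, C i →ₐ[A] B}

instance : Category.{u} (Obj C φ) where
  Hom X Y := {ψ : C X.i →ₐ[A] C Y.i // (φ Y.i).comp ψ = φ X.i}
  id X := ⟨AlgHom.id A _, rfl⟩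
  comp f g := ⟨g.1.comp f.1, by rw [← AlgHom.comp_assoc, g.2, f.2]⟩

theorem comp_val {X Y Z : Obj C φ} (f : X ⟶ Y) (g : Y ⟶ Z) : (f ≫ g).1 = g.1.comp f.1 := rfl

theorem id_val (X : Obj C φ) : (𝟙 X : X ⟶ X).1 = AlgHom.id A _ := rfl

theorem hom_ext {X Y : Obj C φ} (f g : X ⟶ Y) (h : f.1 = g.1) : f = g := Subtype.ext h

theorem φ_hom {X Y : Obj C φ} (f : X ⟶ Y) (x : C X.i) : φ Y.i (f.1 x) = φ X.i x :=
  congrArg (fun F : C X.i →ₐ[A] B => F x) f.2

section Filtered

variable (hne : Nonempty ι)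
  (hobj : ∀ i j, ∃ (k : ι) (ψ₁ : C i →ₐ[A] C k) (ψ₂ : C j →ₐ[A] C k),
    (φ k).comp ψ₁ = φ i ∧ (φ k).comp ψ₂ = φ j)
  (hker : ∀ (i : ι) (x : C i), φ i x = 0 →
    ∃ (j : ι) (ψ : C i →ₐ[A] C j), (φ j).comp ψ = φ i ∧ ψ x = 0)

include hker in
theorem exists_kill (Y : Obj C φ) (T : Finset (C Y.i)) (hT : ∀ z ∈ T, φ Y.i z = 0) :
    ∃ (Z : Obj C φ) (h : Y ⟶ Z), ∀ z ∈ T, h.1 z = 0 := by
  classical
  induction T using Finset.induction_on with
  | empty => exact ⟨Y, 𝟙 Y, by simp⟩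
  | insert a T' ha ih =>
    obtain ⟨Z, h, hh⟩ := ih (fun z hz => hT z (Finset.mem_insert_of_mem hz))
    have h0 : φ Z.i (h.1 a) = 0 := by
      rw [φ_hom]
      exact hT a (Finset.mem_insert_self _ _)
    obtain ⟨j, ψ, hψ, hψ0⟩ := hker Z.i (h.1 a) h0
    refine ⟨⟨j⟩, h ≫ (⟨ψ, hψ⟩ : Z ⟶ ⟨j⟩), ?_⟩
    intro z hz
    rw [comp_val, AlgHom.comp_apply]
    rcases Finset.mem_insert.1 hz with rfl | hz'
    · exact hψ0
    · show ψ (h.1 z) = 0
      rw [hh z hz', map_zero]

include hne hobj hker in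
theorem isFiltered [∀ i, Algebra.FiniteType A (C i)] : IsFiltered (Obj C φ) := by
  classical
  have : IsFilteredOrEmpty (Obj C φ) := by
    constructor
    · intro X Y
      obtain ⟨k, ψ₁, ψ₂, h₁, h₂⟩ := hobj X.i Y.i
      exact ⟨⟨k⟩, ⟨ψ₁, h₁⟩, ⟨ψ₂, h₂⟩, trivial⟩
    · intro X Y f g
      obtain ⟨s, hs⟩ := (inferInstance : Algebra.FiniteType A (C X.i)).out
      obtain ⟨Z, h, hh⟩ := exists_kill hker Y (s.image (fun x => f.1 x - g.1 x)) (by
        intro z hz
        obtain ⟨x, -, rfl⟩ := Finset.mem_image.1 hz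
        rw [map_sub, φ_hom, φ_hom, sub_self])
      refine ⟨Z, h, ?_⟩
      apply hom_ext
      rw [comp_val, comp_val]
      apply AlgHom.ext_of_adjoin_eq_top hs
      intro x hx
      have := hh (f.1 x - g.1 x) (Finset.mem_image.2 ⟨x, hx, rfl⟩)
      rw [map_sub, sub_eq_zero] at this
      exact this
  obtain ⟨i⟩ := hne
  exact { nonempty := ⟨⟨i⟩⟩ }

end Filtered

section Colimit

variable (C φ)

/-- the diagram -/
def D : Obj C φ ⥤ Under (CommRingCat.of A) where
  obj X := Under.mk (CommRingCat.ofHom (algebraMap A (C X.i)))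
  map {X Y} f := Under.homMk (CommRingCat.ofHom f.1.toRingHom) (by
    ext a
    exact f.1.commutes a)
  map_id X := by
    apply Under.UnderMorphism.ext
    rfl
  map_comp f g := by
    apply Under.UnderMorphism.ext
    rfl

/-- the cocone -/
def cocone : Cocone (D C φ) where
  pt := Under.mk (CommRingCat.ofHom (algebraMap A B))
  ι :=
    { app := fun X => Under.homMk (CommRingCat.ofHom (φ X.i).toRingHom) (by
        ext a
        exact (φ X.i).commutes a)
      naturality := fun X Y f => by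
        apply Under.UnderMorphism.ext
        ext x
        exact φ_hom f x }

variable {C φ}

theorem cocone_ι_apply (X : Obj C φ) (x : C X.i) :
    ((cocone C φ).ι.app X).right.hom x = φ X.i x := rfl

theorem D_map_apply {X Y : Obj C φ} (f : X ⟶ Y) (x : C X.i) :
    ((D C φ).map f).right.hom x = f.1 x := rfl

end Colimit

section IsColimit

variable (hsurj : ∀ b : B, ∃ (i : ι) (c : C i), φ i c = b)
  (hker : ∀ (i : ι) (x : C i), φ i x = 0 →
    ∃ (j : ι) (ψ : C i →ₐ[A] C j), (φ j).comp ψ = φ i ∧ ψ x = 0)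

include hsurj hker in
theorem isColimit_cocone [IsFiltered (Obj C φ)] : Nonempty (IsColimit (cocone C φ)) := by
  have : IsConnected (Obj C φ) := IsFiltered.isConnected _
  have : ReflectsColimitsOfShape (Obj C φ) (forget CommRingCat.{u}) :=
    reflectsColimitsOfShape_of_reflectsIsomorphisms
  refine ⟨isColimitOfReflects (Under.forget (CommRingCat.of A)) ?_⟩
  refine isColimitOfReflects (forget CommRingCat.{u}) ?_
  refine Types.FilteredColimit.isColimitOf' _ _ ?_ ?_
  · intro b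
    obtain ⟨i, c, hc⟩ := hsurj b
    exact ⟨⟨i⟩, c, hc.symm⟩
  · intro X (x : C X.i) (y : C X.i) hxy
    have hxy' : φ X.i x = φ X.i y := hxy
    have h0 : φ X.i (x - y) = 0 := by
      rw [map_sub, sub_eq_zero]
      exact hxy'
    obtain ⟨j, ψ, hψ, hψ0⟩ := hker X.i (x - y) h0
    refine ⟨⟨j⟩, (⟨ψ, hψ⟩ : X ⟶ ⟨j⟩), ?_⟩
    rw [map_sub, sub_eq_zero] at hψ0
    exact hψ0

end IsColimit

theorem etale_toAlgebra (A B : Type u) [CommRing A] [CommRing B] [i : Algebra A B]
    [Algebra.Etale A B] :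
    letI := (algebraMap A B).toAlgebra; Algebra.Etale A B := by
  have : (algebraMap A B).toAlgebra = i := Algebra.algebra_ext _ _ (fun _ => rfl)
  rw [this]; infer_instance

/-- The criterion. -/
theorem isIndEtale_of_family (C : ι → Type u) [∀ i, CommRing (C i)] [∀ i, Algebra A (C i)]
    [∀ i, Algebra.Etale A (C i)] (φ : ∀ i, C i →ₐ[A] B)
    (hobj : ∀ i j, ∃ (k : ι) (ψ₁ : C i →ₐ[A] C k) (ψ₂ : C j →ₐ[A] C k),
      (φ k).comp ψ₁ = φ i ∧ (φ k).comp ψ₂ = φ j)
    (hker : ∀ (i : ι) (x : C i), φ i x = 0 →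
      ∃ (j : ι) (ψ : C i →ₐ[A] C j), (φ j).comp ψ = φ i ∧ ψ x = 0)
    (hsurj : ∀ b : B, ∃ (i : ι) (c : C i), φ i c = b) :
    EtPBC.IsIndEtale A B := by
  have hne : Nonempty ι := by
    obtain ⟨i, -⟩ := hsurj 0
    exact ⟨i⟩
  have hF : IsFiltered (Obj C φ) := isFiltered hne hobj hker
  obtain ⟨hc⟩ := isColimit_cocone (C := C) (φ := φ) hsurj hker
  refine ⟨Obj C φ, inferInstance, hF, D C φ, cocone C φ, hc, ?_, ⟨Iso.refl _⟩⟩
  intro X
  exact etale_toAlgebra A (C X.i)

/-- Transport along an algebra isomorphism. -/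
theorem isIndEtale_of_algEquiv {B' : Type u} [CommRing B'] [Algebra A B'] (e : B ≃ₐ[A] B')
    (h : EtPBC.IsIndEtale A B) : EtPBC.IsIndEtale A B' := by
  obtain ⟨J, hJ, hJf, D, c, hc, hD, ⟨e'⟩⟩ := h
  refine ⟨J, hJ, hJf, D, c, hc, hD, ⟨e' ≪≫ ?_⟩⟩
  refine Under.isoMk (e.toRingEquiv.toCommRingCatIso) ?_
  ext a
  exact e.commutes a

/-- The converse of the criterion: an ind-étale algebra admits such a family. -/
theorem exists_family_of_isIndEtale (h : EtPBC.IsIndEtale A B) :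
    ∃ (ι : Type u) (C : ι → Type u) (_ : ∀ i, CommRing (C i)) (_ : ∀ i, Algebra A (C i))
      (_ : ∀ i, Algebra.Etale A (C i)) (φ : ∀ i, C i →ₐ[A] B),
      (∀ i j, ∃ (k : ι) (ψ₁ : C i →ₐ[A] C k) (ψ₂ : C j →ₐ[A] C k),
        (φ k).comp ψ₁ = φ i ∧ (φ k).comp ψ₂ = φ j) ∧
      (∀ (i : ι) (x : C i), φ i x = 0 →
        ∃ (j : ι) (ψ : C i →ₐ[A] C j), (φ j).comp ψ = φ i ∧ ψ x = 0) ∧
      (∀ b : B, ∃ (i : ι) (c : C i), φ i c = b) := by
  obtain ⟨J, hJ, hJf, D, c, hc, hD, ⟨e⟩⟩ := h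
  -- replace the cocone by one with point `B`
  let c₂ : Cocone D :=
    { pt := Under.mk (CommRingCat.ofHom (algebraMap A B))
      ι := c.ι ≫ (Functor.const J).map e.hom }
  have hc₂ : IsColimit c₂ := IsColimit.ofIsoColimit hc (Cocone.ext e (fun j => rfl))
  let F : J ⥤ CommRingCat.{u} := D ⋙ Under.forget _
  let c' : Cocone F := (Under.forget _).mapCocone c₂
  have hc' : IsColimit c' := isColimitOfPreserves (Under.forget _) hc₂
  letI alg : ∀ j : J, Algebra A (D.obj j).right := fun j => (D.obj j).hom.hom.toAlgebra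
  let φ : ∀ j : J, (D.obj j).right →ₐ[A] B := fun j =>
    { toRingHom := (c₂.ι.app j).right.hom
      commutes' := fun a =>
        congrArg (fun f : CommRingCat.of A ⟶ CommRingCat.of B => f.hom a) (Under.w (c₂.ι.app j)) }
  let tr : ∀ {i j : J} (f : i ⟶ j), (D.obj i).right →ₐ[A] (D.obj j).right := fun {i j} f =>
    { toRingHom := (D.map f).right.hom
      commutes' := fun a =>
        congrArg (fun g : CommRingCat.of A ⟶ (D.obj j).right => g.hom a) (Under.w (D.map f)) }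
  have hφtr : ∀ {i j : J} (f : i ⟶ j), (φ j).comp (tr f) = φ i := by
    intro i j f
    ext x
    have := c₂.w f
    exact congrArg (fun g : D.obj i ⟶ c₂.pt => g.right.hom x) this
  refine ⟨J, fun j => (D.obj j).right, fun j => inferInstance, alg, hD, φ, ?_, ?_, ?_⟩
  · intro i j
    exact ⟨IsFiltered.max i j, tr (IsFiltered.leftToMax i j), tr (IsFiltered.rightToMax i j),
      hφtr _, hφtr _⟩
  · intro i x hx
    have h0 : c'.ι.app i x = c'.ι.app i (0 : (D.obj i).right) := by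
      have : φ i x = φ i 0 := by rw [hx, map_zero]
      exact this
    obtain ⟨k, f, g, hfg⟩ := Limits.Concrete.isColimit_exists_of_rep_eq F hc' x
      (0 : (D.obj i).right) h0
    refine ⟨k, tr f, hφtr f, ?_⟩
    have h1 : tr f x = tr g 0 := hfg
    rw [h1, map_zero]
  · intro b
    obtain ⟨j, y, hy⟩ := Limits.Concrete.isColimit_exists_rep F hc' b
    exact ⟨j, y, hy⟩

end Groth.Agent.Lib.Helper24.IndEtaleCrit
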