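import Mathlib
import Groth.Agent.Lib.Helper24.HenselLocal
import Groth.Agent.S0505

/-!
# Lifting maps out of étale algebras into finite algebras over a henselian local ring
-/

open Polynomial IsLocalRing TensorProduct

namespace Groth.Agent.Lib.Helper24.EtaleHomLift

universe u

open Groth.Agent.Lib.helper24.HenselLocal

section Ext

/-- Two algebra maps from an unramified algebra that agree modulo an ideal contained in the
Jacobson radical are equal. -/
theorem algHom_ext_of_jacobson {R A S : Type*} [CommRing R] [CommRing A] [CommRing S]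
    [Algebra R A] [Algebra R S] [Algebra.EssFiniteType R A] [Algebra.FormallyUnramified R A]
    (J : Ideal S) (hJ : J ≤ Ideal.jacobson ⊥)
    (f₁ f₂ : A →ₐ[R] S) (h : ∀ a, f₁ a - f₂ a ∈ J) : f₁ = f₂ := by
  obtain ⟨e, he, hsp⟩ : ∃ e, IsIdempotentElem e ∧ KaehlerDifferential.ideal R A = A ⊗[R] A ∙ e :=
    (Ideal.isIdempotentElem_iff_of_fg _ (KaehlerDifferential.ideal_fg R A)).mp <|
      (Ideal.cotangent_subsingleton_iff _).mp <| inferInstanceAs <| Subsingleton Ω[A⁄R]
  let F : A ⊗[R] A →ₐ[R] S := Algebra.TensorProduct.productMap f₁ f₂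
  have hF : ∀ a : A, F ((1 : A) ⊗ₜ[R] a - a ⊗ₜ[R] (1 : A)) = f₂ a - f₁ a := by
    intro a
    simp [F, Algebra.TensorProduct.productMap_apply_tmul]
  have hJ' : ∀ x ∈ KaehlerDifferential.ideal R A, F x ∈ J := by
    intro x hx
    rw [← KaehlerDifferential.span_range_eq_ideal] at hx
    have hle : Ideal.span (Set.range fun s : A => (1 : A) ⊗ₜ[R] s - s ⊗ₜ[R] (1 : A)) ≤
        Ideal.comap F.toRingHom J := by
      rw [Ideal.span_le]
      rintro _ ⟨a, rfl⟩
      show F _ ∈ J
      rw [hF]
      have := h a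
      rw [← neg_sub]
      exact neg_mem this
    exact hle hx
  have hFe : F e = 0 := by
    have h1 : IsIdempotentElem (F e) := he.map F
    have h2 : F e ∈ J := hJ' e (hsp ▸ Ideal.mem_span_singleton_self e)
    have h3 : IsUnit (1 - F e) := by
      have := (Ideal.mem_jacobson_bot.1 (hJ h2)) (-1)
      have h4 : F e * -1 + 1 = 1 - F e := by ring
      rwa [h4] at this
    have h4 : F e * (1 - F e) = 0 := by
      rw [mul_sub, mul_one, h1.eq, sub_self]
    exact (h3.mul_left_eq_zero).1 h4
  ext a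
  have h5 : (1 : A) ⊗ₜ[R] a - a ⊗ₜ[R] (1 : A) ∈ KaehlerDifferential.ideal R A := by
    rw [← KaehlerDifferential.span_range_eq_ideal]
    exact Ideal.subset_span ⟨a, rfl⟩
  rw [hsp, Ideal.mem_span_singleton'] at h5
  obtain ⟨c, hc⟩ := h5
  have h6 := hF a
  rw [← hc, map_mul, hFe, mul_zero] at h6
  exact (sub_eq_zero.1 h6.symm).symm

/-- For an integral algebra over a local ring, the extension of the maximal ideal lies in the
Jacobson radical. -/
theorem map_maximalIdeal_le_jacobson (A C : Type*) [CommRing A] [IsLocalRing A] [CommRing C]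
    [Algebra A C] [Algebra.IsIntegral A C] :
    Ideal.map (algebraMap A C) (maximalIdeal A) ≤ Ideal.jacobson ⊥ := by
  rw [Ideal.jacobson, Ideal.map_le_iff_le_comap]
  refine le_trans ?_ (Ideal.comap_sInf' _ _).ge
  refine le_iInf₂ fun M hM => ?_
  obtain ⟨M, ⟨-, hM'⟩, rfl⟩ := hM
  have h1 : (M.comap (algebraMap A C)).IsMaximal :=
    Ideal.isMaximal_comap_of_isIntegral_of_isMaximal M
  rw [IsLocalRing.eq_maximalIdeal h1]

end Ext

section LocalCase

/-- Lifting in the local case, general ideal. -/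
theorem exists_lift_of_henselian {A : Type u} [CommRing A] (C : Type u) [CommRing C]
    [HenselianLocalRing C] [Algebra A C]
    (E : Type u) [CommRing E] [Algebra A E] [Algebra.Etale A E]
    (J : Ideal C) (hJ : J ≤ maximalIdeal C) (ψ : E →ₐ[A] C ⧸ J) :
    ∃ φ : E →ₐ[A] C, ∀ x, Ideal.Quotient.mk _ (φ x) = ψ x := by
  have hJjac : J ≤ Ideal.jacobson ⊥ := by
    rwa [IsLocalRing.jacobson_eq_maximalIdeal ⊥ bot_ne_top]
  have hloc : IsLocalHom (Ideal.Quotient.mk J) := isLocalHom_of_le_jacobson_bot J hJjac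
  have hnt : Nontrivial (C ⧸ J) :=
    Ideal.Quotient.nontrivial_iff.2 (fun h => (maximalIdeal.isMaximal C).ne_top
      (top_le_iff.1 (h ▸ hJ)))
  have hlocq : IsLocalRing (C ⧸ J) :=
    IsLocalRing.of_surjective' (Ideal.Quotient.mk J) Ideal.Quotient.mk_surjective
  let fac : C ⧸ J →ₐ[A] ResidueField C := Ideal.Quotient.factorₐ A hJ
  let χ : C ⊗[A] E →ₐ[C] ResidueField C :=
    Algebra.TensorProduct.lift (Algebra.ofId C (ResidueField C)) (fac.comp ψ)
      (fun _ _ => Commute.all _ _)
  obtain ⟨σ, hσ⟩ := exists_lift_residue χ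
  let φ : E →ₐ[A] C := (σ.restrictScalars A).comp Algebra.TensorProduct.includeRight
  have hφ : ∀ x, residue C (φ x) = fac (ψ x) := by
    intro x
    have := hσ (1 ⊗ₜ x)
    simpa [χ, φ] using this
  refine ⟨φ, fun x => ?_⟩
  have key : (Ideal.Quotient.mkₐ A J).comp φ = ψ := by
    apply algHom_ext_of_residue
    intro a
    obtain ⟨y, hy⟩ := Ideal.Quotient.mk_surjective (ψ a)
    rw [AlgHom.comp_apply, Ideal.Quotient.mkₐ_eq_mk, ← hy, ← map_sub]
    intro hu
    have hu' : IsUnit (φ a - y) := isUnit_of_map_unit (Ideal.Quotient.mk J) _ hu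
    have h1 : residue C (φ a - y) = 0 := by
      rw [map_sub, hφ, ← hy, sub_eq_zero]
      rfl
    rw [residue_eq_zero_iff] at h1
    exact h1 hu'
  exact congrArg (fun f => f x) key

variable {A : Type u} [CommRing A] [HenselianLocalRing A]

/-- Lifting in the local case. -/
theorem exists_lift_of_isLocalRing (C : Type u) [CommRing C] [IsLocalRing C] [Algebra A C]
    [Module.Finite A C] (E : Type u) [CommRing E] [Algebra A E] [Algebra.Etale A E]
    (ψ : E →ₐ[A] C ⧸ Ideal.map (algebraMap A C) (maximalIdeal A)) :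
    ∃ φ : E →ₐ[A] C, ∀ x, Ideal.Quotient.mk _ (φ x) = ψ x := by
  have hC : HenselianLocalRing C := Groth.Agent.S0505.result A C
  have hJjac := map_maximalIdeal_le_jacobson A C
  rw [IsLocalRing.jacobson_eq_maximalIdeal ⊥ bot_ne_top] at hJjac
  exact exists_lift_of_henselian C E _ hJjac ψ

end LocalCase

section Product

theorem mem_map_of_forall_pi {A : Type*} [CommRing A] {ι : Type*} [Fintype ι] [DecidableEq ι]
    (B : ι → Type*) [∀ i, CommRing (B i)] [∀ i, Algebra A (B i)] (C : Type*) [CommRing C]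
    [Algebra A C] (α : C ≃ₐ[A] Π i, B i) (I₀ : Ideal A) (z : C)
    (hz : ∀ i, α z i ∈ Ideal.map (algebraMap A (B i)) I₀) :
    z ∈ Ideal.map (algebraMap A C) I₀ := by
  have h1 : z = ∑ i, α.symm (Pi.single i (α z i)) := by
    rw [← map_sum, Finset.univ_sum_single, AlgEquiv.symm_apply_apply]
  rw [h1]
  refine Ideal.sum_mem _ fun i _ => ?_
  have h2 : α z i ∈ (I₀ • ⊤ : Submodule A (B i)) := by
    rw [Ideal.smul_top_eq_map]
    exact hz i
  let L : B i →ₗ[A] C := α.symm.toLinearMap ∘ₗ LinearMap.single A B i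
  have h3 : L (α z i) ∈ (I₀ • ⊤ : Submodule A C) := by
    have h4 : (I₀ • ⊤ : Submodule A (B i)).map L ≤ I₀ • ⊤ := by
      rw [Submodule.map_smul'']
      exact Submodule.smul_mono le_rfl le_top
    exact h4 (Submodule.mem_map_of_mem h2)
  rw [Ideal.smul_top_eq_map] at h3
  exact h3

variable {A : Type u} [CommRing A] [HenselianLocalRing A]

theorem exists_lift_pi {ι : Type u} [Fintype ι] (B : ι → Type u) [∀ i, CommRing (B i)]
    [∀ i, IsLocalRing (B i)] [∀ i, Algebra A (B i)] [∀ i, Module.Finite A (B i)]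
    (C : Type u) [CommRing C] [Algebra A C] (α : C ≃ₐ[A] Π i, B i)
    (E : Type u) [CommRing E] [Algebra A E] [Algebra.Etale A E]
    (ψ : E →ₐ[A] C ⧸ Ideal.map (algebraMap A C) (maximalIdeal A)) :
    ∃ φ : E →ₐ[A] C, ∀ x, Ideal.Quotient.mk _ (φ x) = ψ x := by
  classical
  let p : ∀ i, C →ₐ[A] B i := fun i => (Pi.evalAlgHom A B i).comp α.toAlgHom
  have hp : ∀ i, Ideal.map (algebraMap A C) (maximalIdeal A) ≤
      Ideal.comap (p i) (Ideal.map (algebraMap A (B i)) (maximalIdeal A)) := by
    intro i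
    rw [← Ideal.map_le_iff_le_comap]
    have h0 : Ideal.map (p i) (Ideal.map (algebraMap A C) (maximalIdeal A)) =
        Ideal.map ((p i : C →+* B i).comp (algebraMap A C)) (maximalIdeal A) :=
      Ideal.map_map (algebraMap A C) (p i : C →+* B i)
    have : (p i : C →+* B i).comp (algebraMap A C) = algebraMap A (B i) := (p i).comp_algebraMap
    rw [h0, this]
  let q : ∀ i, (C ⧸ Ideal.map (algebraMap A C) (maximalIdeal A)) →ₐ[A]
      (B i ⧸ Ideal.map (algebraMap A (B i)) (maximalIdeal A)) :=
    fun i => Ideal.quotientMapₐ _ (p i) (hp i)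
  choose φi hφi using fun i => exists_lift_of_isLocalRing (B i) E ((q i).comp ψ)
  refine ⟨α.symm.toAlgHom.comp (AlgHom.pi φi), fun x => ?_⟩
  obtain ⟨y, hy⟩ := Ideal.Quotient.mk_surjective (ψ x)
  rw [← hy, Ideal.Quotient.eq]
  apply mem_map_of_forall_pi B C α
  intro i
  have h1 := hφi i x
  rw [AlgHom.comp_apply, ← hy] at h1
  have h2 : q i (Ideal.Quotient.mk _ y) = Ideal.Quotient.mk _ (p i y) := rfl
  rw [h2, Ideal.Quotient.eq] at h1
  simpa [p] using h1

end Product

section General

variable {A : Type u} [CommRing A] [HenselianLocalRing A]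

theorem exists_lift (C : Type u) [CommRing C] [Algebra A C] [Module.Finite A C]
    (E : Type u) [CommRing E] [Algebra A E] [Algebra.Etale A E]
    (ψ : E →ₐ[A] C ⧸ Ideal.map (algebraMap A C) (maximalIdeal A)) :
    ∃ φ : E →ₐ[A] C, ∀ x, Ideal.Quotient.mk _ (φ x) = ψ x := by
  obtain ⟨ι, hι, B, hB, hloc, ⟨e⟩⟩ := isPiLocal_of_finite A C
  let alg : ∀ i, Algebra A (B i) := fun i =>
    ((Pi.evalRingHom B i).comp (e.toRingHom.comp (algebraMap A C))).toAlgebra
  let α : C ≃ₐ[A] Π i, B i := AlgEquiv.ofRingEquiv (f := e) (fun a => rfl)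
  have hfin : ∀ i, Module.Finite A (B i) := fun i =>
    Module.Finite.of_surjective ((Pi.evalAlgHom A B i).comp α.toAlgHom).toLinearMap
      ((Function.surjective_eval i).comp α.surjective)
  exact exists_lift_pi B C α E ψ

/-- **Lifting of maps out of étale algebras** for finite algebras over a henselian local ring. -/
theorem bijective_comp_mk (C : Type u) [CommRing C] [Algebra A C] [Module.Finite A C]
    (E : Type u) [CommRing E] [Algebra A E] [Algebra.Etale A E] :
    Function.Bijective (fun φ : E →ₐ[A] C =>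
      (Ideal.Quotient.mkₐ A (Ideal.map (algebraMap A C) (maximalIdeal A))).comp φ) := by
  constructor
  · intro φ₁ φ₂ h
    apply algHom_ext_of_jacobson _ (map_maximalIdeal_le_jacobson A C)
    intro a
    have := congrArg (fun f => f a) h
    simp only [AlgHom.comp_apply, Ideal.Quotient.mkₐ_eq_mk] at this
    exact Ideal.Quotient.eq.1 this
  · intro ψ
    obtain ⟨φ, hφ⟩ := exists_lift C E ψ
    exact ⟨φ, AlgHom.ext hφ⟩

end General

section Converse

/-- If maps from standard étale algebras to the residue field lift, the local ring is henselian. -/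
theorem henselian_of_surjective (A : Type u) [CommRing A] [IsLocalRing A]
    (h : ∀ (E : Type u) [CommRing E] [Algebra A E] [Algebra.Etale A E],
      Function.Surjective (fun φ : E →ₐ[A] A =>
        (Ideal.Quotient.mkₐ A (Ideal.map (algebraMap A A) (maximalIdeal A))).comp φ)) :
    HenselianLocalRing A := by
  refine ⟨fun f hf a₀ h0 h1 => ?_⟩
  let P : StandardEtalePair A :=
    { f := f
      monic_f := hf
      g := derivative f
      cond := ⟨1, 0, 1, by ring⟩ }
  have hmap : Ideal.map (algebraMap A A) (maximalIdeal A) = maximalIdeal A := by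
    rw [Algebra.algebraMap_self, Ideal.map_id]
  have hP : P.HasMap (Ideal.Quotient.mk (Ideal.map (algebraMap A A) (maximalIdeal A)) a₀) := by
    constructor
    · have : aeval (Ideal.Quotient.mk (Ideal.map (algebraMap A A) (maximalIdeal A)) a₀) f =
          Ideal.Quotient.mk _ (f.eval a₀) := by
        rw [← Ideal.Quotient.mkₐ_eq_mk A, Polynomial.aeval_algHom_apply,
          Polynomial.coe_aeval_eq_eval]
      show aeval _ f = 0
      rw [this, Ideal.Quotient.eq_zero_iff_mem, hmap]
      exact h0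
    · have : aeval (Ideal.Quotient.mk (Ideal.map (algebraMap A A) (maximalIdeal A)) a₀)
          (derivative f) = Ideal.Quotient.mk _ ((derivative f).eval a₀) := by
        rw [← Ideal.Quotient.mkₐ_eq_mk A, Polynomial.aeval_algHom_apply,
          Polynomial.coe_aeval_eq_eval]
      show IsUnit (aeval _ (derivative f))
      rw [this]
      exact h1.map _
  obtain ⟨φ, hφ⟩ := h P.Ring (P.lift _ hP)
  have hφX := congrArg (fun g => g P.X) hφ
  simp only [AlgHom.comp_apply, Ideal.Quotient.mkₐ_eq_mk, StandardEtalePair.lift_X] at hφX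
  have hroot : P.HasMap (φ P.X) := StandardEtalePair.hasMap_X.map φ
  refine ⟨φ P.X, ?_, ?_⟩
  · have := hroot.1
    rw [Polynomial.IsRoot.def, ← Polynomial.coe_aeval_eq_eval]
    exact this
  · rw [← hmap]
    exact Ideal.Quotient.eq.1 hφX

end Converse

end Groth.Agent.Lib.Helper24.EtaleHomLift
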