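import Groth.Agent.Lib.Helper24.IndEtaleCrit
import Groth.Agent.Lib.Helper24.EtaleReduced
import Groth.Agent.Lib.Helper24.EtaleHomLift

/-!
# Properties of ind-étale algebras (helper24)
-/

set_option autoImplicit false

namespace Groth.Agent.Lib.Helper24.IndEtaleProps

open Groth.Agent.Lib.Helper24.IndEtaleCrit

universe u

/-- An ind-étale algebra over a reduced ring is reduced. -/
theorem isReduced_of_isIndEtale (A B : Type u) [CommRing A] [CommRing B] [Algebra A B] [IsReduced A]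
    (h : EtPBC.IsIndEtale A B) : IsReduced B := by
  obtain ⟨ι, C, _, _, _, φ, -, hker, hsurj⟩ := exists_family_of_isIndEtale h
  constructor
  intro z hz
  obtain ⟨n, hn⟩ := hz
  obtain ⟨i, c, rfl⟩ := hsurj z
  rw [← map_pow] at hn
  obtain ⟨j, ψ, hψ, hψ0⟩ := hker i (c ^ n) hn
  have hred : IsReduced (C j) := Groth.Agent.Lib.Helper24.EtaleReduced.isReduced_of_etale A (C j)
  rw [map_pow] at hψ0
  have h0 : ψ c = 0 := (IsNilpotent.eq_zero ⟨n, hψ0⟩)
  have := congrArg (fun F : C i →ₐ[A] B => F c) hψ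
  simp only [AlgHom.comp_apply] at this
  rw [← this, h0, map_zero]

section Desc

open CategoryTheory CategoryTheory.Limits

variable {A B ι : Type u} [CommRing A] [CommRing B] [Algebra A B]
  (C : ι → Type u) [∀ i, CommRing (C i)] [∀ i, Algebra A (C i)] [∀ i, Algebra.Etale A (C i)]
  (φ : ∀ i, C i →ₐ[A] B)

/-- The universal property of an ind-étale family: compatible maps out of the stages glue. -/
theorem existsUnique_desc
    (hobj : ∀ i j, ∃ (k : ι) (ψ₁ : C i →ₐ[A] C k) (ψ₂ : C j →ₐ[A] C k),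
      (φ k).comp ψ₁ = φ i ∧ (φ k).comp ψ₂ = φ j)
    (hker : ∀ (i : ι) (x : C i), φ i x = 0 →
      ∃ (j : ι) (ψ : C i →ₐ[A] C j), (φ j).comp ψ = φ i ∧ ψ x = 0)
    (hsurj : ∀ b : B, ∃ (i : ι) (c : C i), φ i c = b)
    (T : Type u) [CommRing T] [Algebra A T] (θ : ∀ i, C i →ₐ[A] T)
    (hθ : ∀ i j (w : C i →ₐ[A] C j), (φ j).comp w = φ i → (θ j).comp w = θ i) :
    ∃! g : B →ₐ[A] T, ∀ i, g.comp (φ i) = θ i := by
  have hne : Nonempty ι := by
    obtain ⟨i, -⟩ := hsurj 0
    exact ⟨i⟩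
  have hF : IsFiltered (Obj C φ) := isFiltered hne hobj hker
  obtain ⟨hc⟩ := isColimit_cocone (C := C) (φ := φ) hsurj hker
  let s : Cocone (D C φ) :=
    { pt := Under.mk (CommRingCat.ofHom (algebraMap A T))
      ι :=
        { app := fun X => Under.homMk (CommRingCat.ofHom (θ X.i).toRingHom) (by
            ext a
            exact (θ X.i).commutes a)
          naturality := fun X Y f => by
            apply Under.UnderMorphism.ext
            ext x
            exact congrArg (fun F : C X.i →ₐ[A] T => F x) (hθ X.i Y.i f.1 f.2) } }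
  let g : B →ₐ[A] T :=
    { toRingHom := (hc.desc s).right.hom
      commutes' := fun a =>
        congrArg (fun f : CommRingCat.of A ⟶ CommRingCat.of T => f.hom a) (Under.w (hc.desc s)) }
  have hg : ∀ i, g.comp (φ i) = θ i := by
    intro i
    ext x
    have := hc.fac s ⟨i⟩
    exact congrArg (fun f : (D C φ).obj ⟨i⟩ ⟶ s.pt => f.right.hom x) this
  refine ⟨g, hg, ?_⟩
  intro g' hg'
  ext b
  obtain ⟨i, c, rfl⟩ := hsurj b
  have h1 := congrArg (fun F : C i →ₐ[A] T => F c) (hg' i)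
  have h2 := congrArg (fun F : C i →ₐ[A] T => F c) (hg i)
  simp only [AlgHom.comp_apply] at h1 h2
  rw [h1, h2]

end Desc

section Henselian

open IsLocalRing

/-- Lifting maps from an étale algebra along a surjection from a henselian local ring. -/
theorem exists_lift_of_surjective {A : Type u} [CommRing A] (T : Type u) [CommRing T]
    [HenselianLocalRing T] [Algebra A T] (E : Type u) [CommRing E] [Algebra A E]
    [Algebra.Etale A E] (K : Type u) [CommRing K] [Algebra A K] (v : T →ₐ[A] K)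
    (hv : Function.Surjective v) (hker : RingHom.ker v ≤ maximalIdeal T) (ψ : E →ₐ[A] K) :
    ∃ θ : E →ₐ[A] T, v.comp θ = ψ := by
  let e := Ideal.quotientKerAlgEquivOfSurjective hv
  obtain ⟨θ, hθ⟩ := Groth.Agent.Lib.Helper24.EtaleHomLift.exists_lift_of_henselian T E
    (RingHom.ker v) hker (e.symm.toAlgHom.comp ψ)
  refine ⟨θ, ?_⟩
  ext x
  have h1 := hθ x
  have h2 : e (Ideal.Quotient.mk _ (θ x)) = e (e.symm (ψ x)) := congrArg e h1
  rw [AlgEquiv.apply_symm_apply] at h2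
  exact h2

/-- Uniqueness of such lifts. -/
theorem lift_unique_of_surjective {A : Type u} [CommRing A] (T : Type u) [CommRing T]
    [IsLocalRing T] [Algebra A T] (E : Type u) [CommRing E] [Algebra A E]
    [Algebra.Etale A E] (K : Type u) [CommRing K] [Algebra A K] (v : T →ₐ[A] K)
    (hker : RingHom.ker v ≤ maximalIdeal T) (θ₁ θ₂ : E →ₐ[A] T) (h : v.comp θ₁ = v.comp θ₂) :
    θ₁ = θ₂ := by
  apply Groth.Agent.Lib.helper24.HenselLocal.algHom_ext_of_residue
  intro a
  apply hker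
  rw [RingHom.mem_ker, map_sub, sub_eq_zero]
  exact congrArg (fun F : E →ₐ[A] K => F a) h

/-- Maps from an ind-étale algebra to a henselian local ring are determined by, and can be
prescribed on, the residue field. -/
theorem existsUnique_algHom_of_isIndEtale {A : Type u} [CommRing A] (S : Type u) [CommRing S]
    [Algebra A S] (hS : EtPBC.IsIndEtale A S) (T : Type u) [CommRing T]
    [HenselianLocalRing T] [Algebra A T] (K : Type u) [CommRing K] [Algebra A K] (v : T →ₐ[A] K)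
    (hv : Function.Surjective v) (hker : RingHom.ker v ≤ maximalIdeal T) (u : S →ₐ[A] K) :
    ∃! g : S →ₐ[A] T, v.comp g = u := by
  obtain ⟨ι, C, _, _, _, φ, hobj, hkerφ, hsurj⟩ := exists_family_of_isIndEtale hS
  choose θ hθ using fun i => exists_lift_of_surjective T (C i) K v hv hker (u.comp (φ i))
  have hcompat : ∀ i j (w : C i →ₐ[A] C j), (φ j).comp w = φ i → (θ j).comp w = θ i := by
    intro i j w hw
    apply lift_unique_of_surjective T (C i) K v hker
    rw [← AlgHom.comp_assoc, hθ j, hθ i, AlgHom.comp_assoc, hw]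
  obtain ⟨g, hg, hguniq⟩ := existsUnique_desc C φ hobj hkerφ hsurj T θ hcompat
  refine ⟨g, ?_, ?_⟩
  · ext s
    obtain ⟨i, c, rfl⟩ := hsurj s
    have h1 := congrArg (fun F : C i →ₐ[A] T => F c) (hg i)
    have h2 := congrArg (fun F : C i →ₐ[A] K => F c) (hθ i)
    simp only [AlgHom.comp_apply] at h1 h2 ⊢
    rw [h1, h2]
  · intro g' hg'
    apply hguniq
    intro i
    apply lift_unique_of_surjective T (C i) K v hker
    rw [← AlgHom.comp_assoc, hg', hθ i]

end Henselian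

section Factor

variable {A B ι : Type u} [CommRing A] [CommRing B] [Algebra A B]
  (C : ι → Type u) [∀ i, CommRing (C i)] [∀ i, Algebra A (C i)]
  (φ : ∀ i, C i →ₐ[A] B)

/-- finitely many elements come from a common stage -/
theorem exists_common_stage
    (hobj : ∀ i j, ∃ (k : ι) (ψ₁ : C i →ₐ[A] C k) (ψ₂ : C j →ₐ[A] C k),
      (φ k).comp ψ₁ = φ i ∧ (φ k).comp ψ₂ = φ j)
    (hsurj : ∀ b : B, ∃ (i : ι) (c : C i), φ i c = b) :
    ∀ (n : ℕ) (b : Fin n → B), ∃ (i : ι) (c : Fin n → C i), ∀ t, φ i (c t) = b t := by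
  intro n
  induction n with
  | zero =>
    intro b
    obtain ⟨i, -⟩ := hsurj 0
    exact ⟨i, fun t => t.elim0, fun t => t.elim0⟩
  | succ n ih =>
    intro b
    obtain ⟨i, c, hc⟩ := ih (fun t => b t.succ)
    obtain ⟨j, d, hd⟩ := hsurj (b 0)
    obtain ⟨k, ψ₁, ψ₂, h₁, h₂⟩ := hobj i j
    refine ⟨k, Fin.cons (ψ₂ d) (fun t => ψ₁ (c t)), ?_⟩
    intro t
    refine Fin.cases ?_ (fun t' => ?_) t
    · rw [Fin.cons_zero]
      have := congrArg (fun F : C j →ₐ[A] B => F d) h₂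
      simp only [AlgHom.comp_apply] at this
      rw [this, hd]
    · rw [Fin.cons_succ]
      have := congrArg (fun F : C i →ₐ[A] B => F (c t')) h₁
      simp only [AlgHom.comp_apply] at this
      rw [this, hc]

/-- Maps from a finitely presented algebra factor through a stage. -/
theorem exists_factor
    (hobj : ∀ i j, ∃ (k : ι) (ψ₁ : C i →ₐ[A] C k) (ψ₂ : C j →ₐ[A] C k),
      (φ k).comp ψ₁ = φ i ∧ (φ k).comp ψ₂ = φ j)
    (hker : ∀ (i : ι) (x : C i), φ i x = 0 →
      ∃ (j : ι) (ψ : C i →ₐ[A] C j), (φ j).comp ψ = φ i ∧ ψ x = 0)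
    (hsurj : ∀ b : B, ∃ (i : ι) (c : C i), φ i c = b)
    (E : Type u) [CommRing E] [Algebra A E] [Algebra.FinitePresentation A E] (ψ : E →ₐ[A] B) :
    ∃ (i : ι) (ψ' : E →ₐ[A] C i), (φ i).comp ψ' = ψ := by
  classical
  obtain ⟨n, f, hf, G, hG⟩ := Algebra.FinitePresentation.out (R := A) (A := E)
  obtain ⟨i, c, hc⟩ := exists_common_stage C φ hobj hsurj n (fun t => ψ (f (MvPolynomial.X t)))
  let α : MvPolynomial (Fin n) A →ₐ[A] C i := MvPolynomial.aeval c
  have hα : (φ i).comp α = ψ.comp f := by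
    apply MvPolynomial.algHom_ext
    intro t
    simp only [AlgHom.comp_apply, α, MvPolynomial.aeval_X]
    exact hc t
  have hG0 : ∀ z ∈ G.image α, φ i z = 0 := by
    intro z hz
    obtain ⟨r, hr, rfl⟩ := Finset.mem_image.1 hz
    have h1 := congrArg (fun F : MvPolynomial (Fin n) A →ₐ[A] B => F r) hα
    simp only [AlgHom.comp_apply] at h1
    rw [h1]
    have : r ∈ RingHom.ker f.toRingHom := by
      rw [← hG]
      exact Ideal.subset_span hr
    have hfr : f r = 0 := this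
    rw [hfr, map_zero]
  obtain ⟨Z, w, hw⟩ := exists_kill hker (⟨i⟩ : Obj C φ) (G.image α) hG0
  let β : MvPolynomial (Fin n) A →ₐ[A] C Z.i := w.1.comp α
  have hβ : ∀ x ∈ RingHom.ker f, β x = 0 := by
    intro x hx
    have hx' : x ∈ Ideal.span (G : Set (MvPolynomial (Fin n) A)) := by
      rw [hG]
      exact hx
    have hle : Ideal.span (G : Set (MvPolynomial (Fin n) A)) ≤ RingHom.ker β := by
      rw [Ideal.span_le]
      intro r hr
      exact hw (α r) (Finset.mem_image.2 ⟨r, hr, rfl⟩)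
    exact hle hx'
  let e := Ideal.quotientKerAlgEquivOfSurjective hf
  refine ⟨Z.i, (Ideal.Quotient.liftₐ (RingHom.ker f) β hβ).comp e.symm.toAlgHom, ?_⟩
  ext x
  obtain ⟨p, rfl⟩ := hf x
  have h1 : e.symm (f p) = Ideal.Quotient.mk _ p := by
    rw [AlgEquiv.symm_apply_eq]
    exact (Ideal.quotientKerAlgEquivOfSurjective_mk hf p).symm
  show φ Z.i ((Ideal.Quotient.liftₐ (RingHom.ker f) β hβ) (e.symm (f p))) = ψ (f p)
  rw [h1]
  have h2 : (Ideal.Quotient.liftₐ (RingHom.ker f) β hβ) (Ideal.Quotient.mk _ p) = β p := rfl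
  rw [h2]
  show φ Z.i (w.1 (α p)) = ψ (f p)
  rw [φ_hom w]
  exact congrArg (fun F : MvPolynomial (Fin n) A →ₐ[A] B => F p) hα

end Factor

section Colimit

open CategoryTheory CategoryTheory.Limits

/-- Bundled ind-étale family. -/
structure Family (A B : Type u) [CommRing A] [CommRing B] [Algebra A B] where
  ι : Type u
  C : ι → Type u
  [cr : ∀ i, CommRing (C i)]
  [alg : ∀ i, Algebra A (C i)]
  [et : ∀ i, Algebra.Etale A (C i)]
  φ : ∀ i, C i →ₐ[A] B
  hobj : ∀ i j, ∃ (k : ι) (ψ₁ : C i →ₐ[A] C k) (ψ₂ : C j →ₐ[A] C k),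
      (φ k).comp ψ₁ = φ i ∧ (φ k).comp ψ₂ = φ j
  hker : ∀ (i : ι) (x : C i), φ i x = 0 →
      ∃ (j : ι) (ψ : C i →ₐ[A] C j), (φ j).comp ψ = φ i ∧ ψ x = 0
  hsurj : ∀ b : B, ∃ (i : ι) (c : C i), φ i c = b

attribute [instance] Family.cr Family.alg Family.et

theorem nonempty_family {A B : Type u} [CommRing A] [CommRing B] [Algebra A B]
    (h : EtPBC.IsIndEtale A B) : Nonempty (Family A B) := by
  obtain ⟨ι, C, _, _, _, φ, hobj, hker, hsurj⟩ := exists_family_of_isIndEtale h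
  exact ⟨⟨ι, C, φ, hobj, hker, hsurj⟩⟩

variable {A B : Type u} [CommRing A] [CommRing B] [Algebra A B]

/-- A "filtered union" of ind-étale algebras is ind-étale (elementary form). -/
theorem isIndEtale_of_stages {J : Type u} (Bj : J → Type u) [∀ j, CommRing (Bj j)]
    [∀ j, Algebra A (Bj j)] (lam : ∀ j, Bj j →ₐ[A] B)
    (hobj : ∀ i j, ∃ (k : J) (ψ₁ : Bj i →ₐ[A] Bj k) (ψ₂ : Bj j →ₐ[A] Bj k),
      (lam k).comp ψ₁ = lam i ∧ (lam k).comp ψ₂ = lam j)
    (hker : ∀ (i : J) (x : Bj i), lam i x = 0 →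
      ∃ (j : J) (ψ : Bj i →ₐ[A] Bj j), (lam j).comp ψ = lam i ∧ ψ x = 0)
    (hsurj : ∀ b : B, ∃ (i : J) (c : Bj i), lam i c = b)
    (hind : ∀ j, EtPBC.IsIndEtale A (Bj j)) : EtPBC.IsIndEtale A B := by
  let F : ∀ j, Family A (Bj j) := fun j => Classical.choice (nonempty_family (hind j))
  let I := Σ j, (F j).ι
  let C : I → Type u := fun x => (F x.1).C x.2
  let φ : ∀ x : I, C x →ₐ[A] B := fun x => (lam x.1).comp ((F x.1).φ x.2)
  -- transport a stage of `j` along a map of stages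
  have key : ∀ (j j' : J) (μ : Bj j →ₐ[A] Bj j') (i : (F j).ι),
      ∃ (i' : (F j').ι) (ψ' : (F j).C i →ₐ[A] (F j').C i'),
        ((F j').φ i').comp ψ' = μ.comp ((F j).φ i) := by
    intro j j' μ i
    exact exists_factor (F j').C (F j').φ (F j').hobj (F j').hker (F j').hsurj ((F j).C i)
      (μ.comp ((F j).φ i))
  refine isIndEtale_of_family C φ ?_ ?_ ?_
  · rintro ⟨j₁, i₁⟩ ⟨j₂, i₂⟩
    obtain ⟨j, μ₁, μ₂, hμ₁, hμ₂⟩ := hobj j₁ j₂
    obtain ⟨i'₁, ψ'₁, h'₁⟩ := key j₁ j μ₁ i₁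
    obtain ⟨i'₂, ψ'₂, h'₂⟩ := key j₂ j μ₂ i₂
    obtain ⟨k, w₁, w₂, hw₁, hw₂⟩ := (F j).hobj i'₁ i'₂
    refine ⟨⟨j, k⟩, w₁.comp ψ'₁, w₂.comp ψ'₂, ?_, ?_⟩
    · show ((lam j).comp ((F j).φ k)).comp (w₁.comp ψ'₁) = (lam j₁).comp ((F j₁).φ i₁)
      rw [AlgHom.comp_assoc, ← AlgHom.comp_assoc ((F j).φ k), hw₁, h'₁, ← AlgHom.comp_assoc, hμ₁]
    · show ((lam j).comp ((F j).φ k)).comp (w₂.comp ψ'₂) = (lam j₂).comp ((F j₂).φ i₂)
      rw [AlgHom.comp_assoc, ← AlgHom.comp_assoc ((F j).φ k), hw₂, h'₂, ← AlgHom.comp_assoc, hμ₂]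
  · rintro ⟨j, i⟩ x hx
    have hx' : lam j ((F j).φ i x) = 0 := hx
    obtain ⟨j', μ, hμ, hμ0⟩ := hker j _ hx'
    obtain ⟨i', ψ', h'⟩ := key j j' μ i
    have h0 : (F j').φ i' (ψ' x) = 0 := by
      have := congrArg (fun G : (F j).C i →ₐ[A] Bj j' => G x) h'
      simp only [AlgHom.comp_apply] at this
      rw [this, hμ0]
    obtain ⟨i'', w, hw, hw0⟩ := (F j').hker i' _ h0
    refine ⟨⟨j', i''⟩, w.comp ψ', ?_, hw0⟩
    show ((lam j').comp ((F j').φ i'')).comp (w.comp ψ') = (lam j).comp ((F j).φ i)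
    rw [AlgHom.comp_assoc, ← AlgHom.comp_assoc ((F j').φ i''), hw, h', ← AlgHom.comp_assoc, hμ]
  · intro b
    obtain ⟨j, b', rfl⟩ := hsurj b
    obtain ⟨i, c, rfl⟩ := (F j).hsurj b'
    exact ⟨⟨j, i⟩, c, rfl⟩

end Colimit

section Cat

open CategoryTheory CategoryTheory.Limits

variable {A B : Type u} [CommRing A] [CommRing B] [Algebra A B]

/-- A filtered colimit (in rings under `A`) of ind-étale `A`-algebras is ind-étale. -/
theorem isIndEtale_of_isColimit {J : Type u} [SmallCategory J] [IsFiltered J]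
    (D : J ⥤ Under (CommRingCat.of A))
    (hD : ∀ j, letI := (D.obj j).hom.hom.toAlgebra; EtPBC.IsIndEtale A ↥(D.obj j).right)
    (c : Cocone D) (hc : IsColimit c)
    (e : c.pt ≅ Under.mk (CommRingCat.ofHom (algebraMap A B))) :
    EtPBC.IsIndEtale A B := by
  let c₂ : Cocone D :=
    { pt := Under.mk (CommRingCat.ofHom (algebraMap A B))
      ι := c.ι ≫ (Functor.const J).map e.hom }
  have hc₂ : IsColimit c₂ := IsColimit.ofIsoColimit hc (Cocone.ext e (fun j => rfl))
  let F : J ⥤ CommRingCat.{u} := D ⋙ Under.forget _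
  let c' : Cocone F := (Under.forget _).mapCocone c₂
  have hc' : IsColimit c' := isColimitOfPreserves (Under.forget _) hc₂
  letI alg : ∀ j : J, Algebra A (D.obj j).right := fun j => (D.obj j).hom.hom.toAlgebra
  let φ : ∀ j : J, (D.obj j).right →ₐ[A] B := fun j =>
    { toRingHom := (c₂.ι.app j).right.hom
      commutes' := fun a =>
        congrArg (fun f : CommRingCat.of A ⟶ CommRingCat.of B => f.hom a) (Under.w (c₂.ι.app j)) }
  let tr : ∀ {i j : J} (f : i ⟶ j), (D.obj i).right →ₐ[A] (D.obj j).right := fun {i j} f =>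
    { toRingHom := (D.map f).right.hom
      commutes' := fun a =>
        congrArg (fun g : CommRingCat.of A ⟶ (D.obj j).right => g.hom a) (Under.w (D.map f)) }
  have hφtr : ∀ {i j : J} (f : i ⟶ j), (φ j).comp (tr f) = φ i := by
    intro i j f
    ext x
    have := c₂.w f
    exact congrArg (fun g : D.obj i ⟶ c₂.pt => g.right.hom x) this
  refine isIndEtale_of_stages (fun j : J => ((D.obj j).right : Type u)) φ ?_ ?_ ?_ hD
  · intro i j
    exact ⟨IsFiltered.max i j, tr (IsFiltered.leftToMax i j), tr (IsFiltered.rightToMax i j),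
      hφtr _, hφtr _⟩
  · intro i x hx
    have h0 : c'.ι.app i x = c'.ι.app i (0 : (D.obj i).right) := by
      have : φ i x = φ i 0 := by rw [hx, map_zero]
      exact this
    obtain ⟨k, f, g, hfg⟩ := Limits.Concrete.isColimit_exists_of_rep_eq F hc' x
      (0 : (D.obj i).right) h0
    refine ⟨k, tr f, hφtr f, ?_⟩
    have h1 : tr f x = tr g 0 := hfg
    rw [h1, map_zero]
  · intro b
    obtain ⟨j, y, hy⟩ := Limits.Concrete.isColimit_exists_rep F hc' b
    exact ⟨j, y, hy⟩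

end Cat

end Groth.Agent.Lib.Helper24.IndEtaleProps
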