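import Mathlib

/-!
# Descending étale algebras along ring maps

If `S` is an étale `R`-algebra, there is a finite set `Z ⊆ R` such that for every ring map
`R₀ → R` whose range contains `Z`, `S` is the base change of an étale `R₀`-algebra.
(No injectivity is needed.)
-/

set_option autoImplicit false

namespace Groth.Agent.Lib.Helper24.EtaleDescent

open TensorProduct

universe u

theorem etale_away_jacobian' {R S : Type u} [CommRing R] [CommRing S] [Algebra R S] {ι σ : Type}
    [Finite ι] [Finite σ] (Pre : Algebra.PreSubmersivePresentation R S ι σ)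
    (hdim : Pre.dimension = 0) :
    Algebra.Etale R (Localization.Away Pre.jacobian) := by
  set Δ := Pre.jacobian with hΔdef
  have hΔ : IsUnit (algebraMap _ (Localization.Away Δ) Δ) :=
    IsLocalization.Away.algebraMap_isUnit _
  let SP : Algebra.SubmersivePresentation R (Localization.Away Δ) _ _ :=
    { toPreSubmersivePresentation := .comp (.localizationAway (Localization.Away Δ) Δ) Pre,
      jacobian_isUnit := by simpa [Algebra.smul_def, -isUnit_map_iff, hΔ] }
  have : Algebra.IsStandardSmoothOfRelativeDimension 0 R (Localization.Away Δ) :=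
    SP.isStandardSmoothOfRelativeDimension (by
      simp only [Algebra.PreSubmersivePresentation.dimension_comp_eq_dimension_add_dimension, SP]
      rw [hdim, add_zero]
      exact Algebra.Presentation.localizationAway_dimension_zero (S := Localization.Away Δ) Δ)
  infer_instance

/-- **Descent of étale algebras**: an étale `R`-algebra `S` is the base change of an étale
`R₀`-algebra along any ring map `R₀ → R` whose range contains a certain finite set. -/
theorem exists_finite_descent (R S : Type u) [CommRing R] [CommRing S] [Algebra R S]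
    [Algebra.Etale R S] :
    ∃ Z : Set R, Z.Finite ∧ ∀ (R₀ : Type u) [CommRing R₀] [Algebra R₀ R],
      Z ⊆ Set.range (algebraMap R₀ R) →
      ∃ (E₀ : Type u) (_ : CommRing E₀) (_ : Algebra R₀ E₀), Algebra.Etale R₀ E₀ ∧
        Nonempty (R ⊗[R₀] E₀ ≃ₐ[R] S) := by
  obtain ⟨ι, σ, _, _, P, hP⟩ :=
    (Algebra.Etale.iff_isStandardSmoothOfRelativeDimension_zero.mp ‹_›).out
  refine ⟨P.coeffs, P.finite_coeffs, ?_⟩
  intro R₀ _ _ hZ
  letI : Algebra R₀ S := ((algebraMap R S).comp (algebraMap R₀ R)).toAlgebra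
  haveI : IsScalarTower R₀ R S := .of_algebraMap_eq' rfl
  haveI : P.HasCoeffs R₀ := ⟨by simpa using hZ⟩
  let S₀ := P.toPresentation.ModelOfHasCoeffs R₀
  let Pre₀ := P.toPreSubmersivePresentation.ofHasCoeffs R₀
  let Δ₀ : S₀ := Pre₀.jacobian
  have het : Algebra.Etale R₀ (Localization.Away Δ₀) := etale_away_jacobian' Pre₀ hP
  let θ := P.toPresentation.tensorModelOfHasCoeffsEquiv R₀
  have hθ : θ (1 ⊗ₜ Δ₀) = P.jacobian := by
    classical
    letI : Fintype σ := Fintype.ofFinite σ
    have h1 : Δ₀ = Ideal.Quotient.mk _ (P.jacobianOfHasCoeffs R₀) := by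
      show Pre₀.jacobian = _
      rw [Pre₀.jacobian_eq_jacobiMatrix_det]
      unfold Algebra.SubmersivePresentation.jacobianOfHasCoeffs
      show Ideal.Quotient.mk _ _ = Ideal.Quotient.mk _ _
      congr!
    rw [h1]
    have h2 := Algebra.Presentation.tensorModelOfHasCoeffsEquiv_tmul (P := P.toPresentation) R₀ 1
      (P.jacobianOfHasCoeffs R₀)
    rw [map_one, one_mul, P.aeval_jacobianOfHasCoeffs] at h2
    exact h2
  have hu : IsUnit ((1 : R) ⊗ₜ[R₀] Δ₀ : R ⊗[R₀] S₀) := by
    have h := P.jacobian_isUnit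
    rw [← hθ] at h
    have h3 := h.map θ.symm
    rwa [AlgEquiv.symm_apply_apply] at h3
  let e1 := IsLocalization.Away.tensorProductEquivTMulRight R₀ R Δ₀ (Localization.Away Δ₀)
  have hle : Submonoid.powers ((1 : R) ⊗ₜ[R₀] Δ₀ : R ⊗[R₀] S₀) ≤ IsUnit.submonoid _ := by
    rw [Submonoid.powers_le]
    exact hu
  let e2 : (R ⊗[R₀] S₀) ≃ₐ[R ⊗[R₀] S₀]
      Localization.Away ((1 : R) ⊗ₜ[R₀] Δ₀ : R ⊗[R₀] S₀) :=
    IsLocalization.atUnits _ _ hle
  exact ⟨Localization.Away Δ₀, inferInstance, inferInstance, het,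
    ⟨e1.trans ((e2.restrictScalars R).symm.trans θ)⟩⟩

end Groth.Agent.Lib.Helper24.EtaleDescent
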