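import Mathlib
import Groth.Prelude.Def_PBC
import Groth.Agent.Lib.Helper24.IndEtaleCrit
import Groth.Agent.Lib.Helper24.IndEtaleProps
import Groth.Agent.Lib.Helper24.EtaleDescent
import Groth.Agent.S0733

/-!
# Transitivity of ind-étale algebras (helper24)
-/

set_option autoImplicit false

namespace Groth.Agent.Lib.Helper24.IndEtaleTrans

open CategoryTheory CategoryTheory.Limits TensorProduct
open Groth.Agent.Lib.Helper24.IndEtaleCrit Groth.Agent.Lib.Helper24.IndEtaleProps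

universe u

/-- étale followed by ind-étale is ind-étale -/
theorem isIndEtale_of_etale_of_isIndEtale (A E₀ E : Type u) [CommRing A] [CommRing E₀] [CommRing E]
    [Algebra A E₀] [Algebra E₀ E] [Algebra A E] [IsScalarTower A E₀ E] [Algebra.Etale A E₀]
    (h : EtPBC.IsIndEtale E₀ E) : EtPBC.IsIndEtale A E := by
  obtain ⟨F⟩ := nonempty_family h
  letI algC : ∀ i, Algebra A (F.C i) := fun i =>
    ((algebraMap E₀ (F.C i)).comp (algebraMap A E₀)).toAlgebra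
  haveI tower : ∀ i, IsScalarTower A E₀ (F.C i) := fun i => .of_algebraMap_eq' rfl
  haveI : ∀ i, Algebra.Etale A (F.C i) := fun i => Algebra.Etale.comp A E₀ (F.C i)
  refine isIndEtale_of_family F.C (fun i => (F.φ i).restrictScalars A) ?_ ?_ ?_
  · intro i j
    obtain ⟨k, ψ₁, ψ₂, h₁, h₂⟩ := F.hobj i j
    refine ⟨k, ψ₁.restrictScalars A, ψ₂.restrictScalars A, ?_, ?_⟩
    · ext x
      exact congrArg (fun g : F.C i →ₐ[E₀] E => g x) h₁
    · ext x
      exact congrArg (fun g : F.C j →ₐ[E₀] E => g x) h₂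
  · intro i x hx
    obtain ⟨j, ψ, hψ, hψ0⟩ := F.hker i x hx
    refine ⟨j, ψ.restrictScalars A, ?_, hψ0⟩
    ext y
    exact congrArg (fun g : F.C i →ₐ[E₀] E => g y) hψ
  · intro b
    exact F.hsurj b

/-- `B` is ind-étale over each stage of an ind-étale family -/
theorem isIndEtale_over_stage {A B : Type u} [CommRing A] [CommRing B] [Algebra A B]
    (F : Family A B) (i₀ : F.ι) :
    letI : Algebra (F.C i₀) B := (F.φ i₀).toRingHom.toAlgebra
    EtPBC.IsIndEtale (F.C i₀) B := by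
  letI : Algebra (F.C i₀) B := (F.φ i₀).toRingHom.toAlgebra
  haveI : IsScalarTower A (F.C i₀) B := .of_algebraMap_eq' (F.φ i₀).comp_algebraMap.symm
  have hne : Nonempty F.ι := ⟨i₀⟩
  haveI hfilt : IsFiltered (Obj F.C F.φ) := isFiltered hne F.hobj F.hker
  let I' := {x : Σ j, (F.C i₀ →ₐ[A] F.C j) // (F.φ x.1).comp x.2 = F.φ i₀}
  let C' : I' → Type u := fun x => F.C x.1.1
  letI crC' : ∀ x : I', CommRing (C' x) := fun x => F.cr x.1.1
  letI algC' : ∀ x : I', Algebra (F.C i₀) (C' x) := fun x => x.1.2.toRingHom.toAlgebra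
  letI algAC' : ∀ x : I', Algebra A (C' x) := fun x => F.alg x.1.1
  haveI : ∀ x : I', IsScalarTower A (F.C i₀) (C' x) := fun x =>
    .of_algebraMap_eq' x.1.2.comp_algebraMap.symm
  haveI : ∀ x : I', Algebra.Etale A (C' x) := fun x => F.et x.1.1
  haveI : ∀ x : I', Algebra.Etale (F.C i₀) (C' x) := fun x =>
    Algebra.Etale.of_restrictScalars A (F.C i₀) (C' x)
  let φ' : ∀ x : I', C' x →ₐ[F.C i₀] B := fun x =>
    { (F.φ x.1.1).toRingHom with
      commutes' := fun c => congrArg (fun g : F.C i₀ →ₐ[A] B => g c) x.2 }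
  -- turning compatible `A`-maps into `C i₀`-maps
  let mk : ∀ (x y : I') (ψ : F.C x.1.1 →ₐ[A] F.C y.1.1), ψ.comp x.1.2 = y.1.2 →
      (C' x →ₐ[F.C i₀] C' y) := fun x y ψ hψ =>
    { ψ.toRingHom with
      commutes' := fun c => congrArg (fun g : F.C i₀ →ₐ[A] F.C y.1.1 => g c) hψ }
  refine isIndEtale_of_family C' φ' ?_ ?_ ?_
  · rintro ⟨⟨j, u⟩, hu⟩ ⟨⟨j', u'⟩, hu'⟩
    let X₀ : Obj F.C F.φ := ⟨i₀⟩
    let f : X₀ ⟶ (⟨j⟩ : Obj F.C F.φ) := ⟨u, hu⟩
    let f' : X₀ ⟶ (⟨j'⟩ : Obj F.C F.φ) := ⟨u', hu'⟩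
    obtain ⟨Z, g, g', hgg'⟩ := IsFiltered.span f f'
    have hgg'' : g.1.comp u = g'.1.comp u' := congrArg Subtype.val hgg'
    let z : I' := ⟨⟨Z.i, g.1.comp u⟩, by
      show (F.φ Z.i).comp (g.1.comp u) = F.φ i₀
      rw [← AlgHom.comp_assoc, g.2, hu]⟩
    refine ⟨z, mk ⟨⟨j, u⟩, hu⟩ z g.1 rfl, mk ⟨⟨j', u'⟩, hu'⟩ z g'.1 hgg''.symm, ?_, ?_⟩
    · ext c
      exact φ_hom g c
    · ext c
      exact φ_hom g' c
  · rintro ⟨⟨j, u⟩, hu⟩ c hc
    obtain ⟨j', ψ, hψ, hψ0⟩ := F.hker j c hc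
    let z : I' := ⟨⟨j', ψ.comp u⟩, by
      show (F.φ j').comp (ψ.comp u) = F.φ i₀
      rw [← AlgHom.comp_assoc, hψ, hu]⟩
    refine ⟨z, mk ⟨⟨j, u⟩, hu⟩ z ψ rfl, ?_, hψ0⟩
    ext c'
    exact congrArg (fun g : F.C j →ₐ[A] B => g c') hψ
  · intro b
    obtain ⟨j, c, hc⟩ := F.hsurj b
    obtain ⟨k, ψ₁, ψ₂, h₁, h₂⟩ := F.hobj i₀ j
    refine ⟨⟨⟨k, ψ₁⟩, h₁⟩, ψ₂ c, ?_⟩
    show F.φ k (ψ₂ c) = b
    rw [← hc]
    exact congrArg (fun g : F.C j →ₐ[A] B => g c) h₂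

theorem exists_stage_of_finite {A B : Type u} [CommRing A] [CommRing B] [Algebra A B]
    (F : Family A B) (Z : Set B) (hZ : Z.Finite) : ∃ i, Z ⊆ Set.range (F.φ i) := by
  induction Z, hZ using Set.Finite.induction_on with
  | empty =>
    obtain ⟨i, -⟩ := F.hsurj 0
    exact ⟨i, Set.empty_subset _⟩
  | @insert a Z' _ _ ih =>
    obtain ⟨i, hi⟩ := ih
    obtain ⟨j, c, hc⟩ := F.hsurj a
    obtain ⟨k, ψ₁, ψ₂, h₁, h₂⟩ := F.hobj i j
    refine ⟨k, ?_⟩
    intro z hz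
    rcases Set.mem_insert_iff.1 hz with rfl | hz'
    · refine ⟨ψ₂ c, ?_⟩
      rw [← hc]
      exact congrArg (fun g : F.C j →ₐ[A] B => g c) h₂
    · obtain ⟨c', rfl⟩ := hi hz'
      refine ⟨ψ₁ c', ?_⟩
      exact congrArg (fun g : F.C i →ₐ[A] B => g c') h₁

/-- **Core**: an étale algebra over an ind-étale `A`-algebra is ind-étale over `A`. -/
theorem isIndEtale_of_etale_over_isIndEtale (A B E : Type u) [CommRing A] [CommRing B]
    [CommRing E] [Algebra A B] [Algebra B E] [Algebra A E] [IsScalarTower A B E]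
    [Algebra.Etale B E] (h : EtPBC.IsIndEtale A B) : EtPBC.IsIndEtale A E := by
  obtain ⟨F⟩ := nonempty_family h
  obtain ⟨Z, hZfin, hZ⟩ := Groth.Agent.Lib.Helper24.EtaleDescent.exists_finite_descent B E
  obtain ⟨i₀, hi₀⟩ := exists_stage_of_finite F Z hZfin
  letI algC0B : Algebra (F.C i₀) B := (F.φ i₀).toRingHom.toAlgebra
  haveI : IsScalarTower A (F.C i₀) B := .of_algebraMap_eq' (F.φ i₀).comp_algebraMap.symm
  obtain ⟨E₀, _, _, hE₀, ⟨θ⟩⟩ := hZ (F.C i₀) hi₀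
  have hB : EtPBC.IsIndEtale (F.C i₀) B := isIndEtale_over_stage F i₀
  have h1 : EtPBC.IsIndEtale E₀ (E₀ ⊗[F.C i₀] B) := Groth.Agent.S0733.result (F.C i₀) B E₀ hB
  letI : Algebra A E₀ := ((algebraMap (F.C i₀) E₀).comp (algebraMap A (F.C i₀))).toAlgebra
  haveI : IsScalarTower A (F.C i₀) E₀ := .of_algebraMap_eq' rfl
  haveI : Algebra.Etale A E₀ := Algebra.Etale.comp A (F.C i₀) E₀
  haveI : IsScalarTower A E₀ (E₀ ⊗[F.C i₀] B) := inferInstance
  have h2 : EtPBC.IsIndEtale A (E₀ ⊗[F.C i₀] B) :=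
    isIndEtale_of_etale_of_isIndEtale A E₀ (E₀ ⊗[F.C i₀] B) h1
  let e₀ : (E₀ ⊗[F.C i₀] B) ≃+* E :=
    (Algebra.TensorProduct.comm (F.C i₀) E₀ B).toRingEquiv.trans θ.toRingEquiv
  let e : (E₀ ⊗[F.C i₀] B) ≃ₐ[A] E :=
    { e₀ with
      commutes' := fun a => by
        show θ ((Algebra.TensorProduct.comm (F.C i₀) E₀ B)
          (algebraMap (F.C i₀) E₀ (algebraMap A (F.C i₀) a) ⊗ₜ[F.C i₀] (1 : B))) = algebraMap A E a
        rw [Algebra.TensorProduct.comm_tmul]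
        have h3 : (1 : B) ⊗ₜ[F.C i₀] (algebraMap (F.C i₀) E₀ (algebraMap A (F.C i₀) a)) =
            algebraMap B (B ⊗[F.C i₀] E₀) (algebraMap A B a) := by
          rw [Algebra.TensorProduct.algebraMap_apply, Algebra.algebraMap_self, RingHom.id_apply,
            IsScalarTower.algebraMap_apply A (F.C i₀) B, Algebra.algebraMap_eq_smul_one,
            Algebra.algebraMap_eq_smul_one (A := B), TensorProduct.smul_tmul]
        rw [h3, θ.commutes, ← IsScalarTower.algebraMap_apply] }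
  exact isIndEtale_of_algEquiv e h2

/-- **Transitivity** of ind-étale algebras. -/
theorem isIndEtale_trans (A B C : Type u) [CommRing A] [CommRing B] [CommRing C] [Algebra A B]
    [Algebra B C] [Algebra A C] [IsScalarTower A B C] (hAB : EtPBC.IsIndEtale A B)
    (hBC : EtPBC.IsIndEtale B C) : EtPBC.IsIndEtale A C := by
  obtain ⟨G⟩ := nonempty_family hBC
  letI algC : ∀ k, Algebra A (G.C k) := fun k =>
    ((algebraMap B (G.C k)).comp (algebraMap A B)).toAlgebra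
  haveI tower : ∀ k, IsScalarTower A B (G.C k) := fun k => .of_algebraMap_eq' rfl
  refine isIndEtale_of_stages G.C (fun k => (G.φ k).restrictScalars A) ?_ ?_ ?_ ?_
  · intro i j
    obtain ⟨k, ψ₁, ψ₂, h₁, h₂⟩ := G.hobj i j
    refine ⟨k, ψ₁.restrictScalars A, ψ₂.restrictScalars A, ?_, ?_⟩
    · ext x
      exact congrArg (fun g : G.C i →ₐ[B] C => g x) h₁
    · ext x
      exact congrArg (fun g : G.C j →ₐ[B] C => g x) h₂
  · intro i x hx
    obtain ⟨j, ψ, hψ, hψ0⟩ := G.hker i x hx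
    refine ⟨j, ψ.restrictScalars A, ?_, hψ0⟩
    ext y
    exact congrArg (fun g : G.C i →ₐ[B] C => g y) hψ
  · intro b
    exact G.hsurj b
  · intro k
    exact isIndEtale_of_etale_over_isIndEtale A B (G.C k) hAB

end Groth.Agent.Lib.Helper24.IndEtaleTrans
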