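import Mathlib
import Groth.Prelude.Def_PBC
import Groth.Agent.Lib.Helper24.IndEtaleCrit
import Groth.Agent.Lib.Helper24.IndEtaleProps
import Groth.Agent.Lib.Helper24.IndEtaleTrans

/-!
# Localizations are ind-étale; cancellation for ind-étale algebras (helper24)
-/

set_option autoImplicit false

namespace Groth.Agent.Lib.Helper24.IndEtaleCancel

open CategoryTheory CategoryTheory.Limits TensorProduct
open Groth.Agent.Lib.Helper24.IndEtaleCrit Groth.Agent.Lib.Helper24.IndEtaleProps

universe u

/-- A localization is ind-étale. -/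
theorem isIndEtale_of_isLocalization {E L : Type u} [CommRing E] [CommRing L] [Algebra E L]
    (M : Submonoid E) [IsLocalization M L] : EtPBC.IsIndEtale E L := by
  classical
  let C : M → Type u := fun s => Localization.Away (s : E)
  have hu : ∀ s : M, IsUnit (algebraMap E L (s : E)) := fun s => IsLocalization.map_units L s
  let φ : ∀ s : M, C s →ₐ[E] L := fun s =>
    IsLocalization.liftAlgHom (M := Submonoid.powers (s : E)) (f := Algebra.ofId E L) (by
      rintro ⟨_, n, rfl⟩
      show IsUnit (algebraMap E L ((s : E) ^ n))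
      rw [map_pow]
      exact (hu s).pow n)
  have hsub : ∀ s : M, Subsingleton (C s →ₐ[E] L) := fun s =>
    IsLocalization.algHom_subsingleton (Submonoid.powers (s : E))
  -- transition maps
  have htrans : ∀ s t : M, ∃ ψ : C s →ₐ[E] C (s * t), True := by
    intro s t
    refine ⟨IsLocalization.liftAlgHom (M := Submonoid.powers (s : E))
      (f := Algebra.ofId E (C (s * t))) ?_, trivial⟩
    rintro ⟨_, n, rfl⟩
    show IsUnit (algebraMap E (C (s * t)) ((s : E) ^ n))
    rw [map_pow]
    refine IsUnit.pow n ?_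
    have h1 : IsUnit (algebraMap E (C (s * t)) ((s : E) * (t : E))) :=
      IsLocalization.Away.algebraMap_isUnit _
    rw [map_mul] at h1
    exact isUnit_of_mul_isUnit_left h1
  refine isIndEtale_of_family C φ ?_ ?_ ?_
  · intro s t
    obtain ⟨ψ₁, -⟩ := htrans s t
    obtain ⟨ψ₂', -⟩ := htrans t s
    have hst : (t * s : M) = s * t := mul_comm t s
    refine ⟨s * t, ψ₁, hst ▸ ψ₂', ?_, ?_⟩
    · exact (hsub s).elim _ _
    · exact (hsub t).elim _ _
  · intro s x hx
    obtain ⟨a, ⟨_, n, rfl⟩, rfl⟩ := IsLocalization.exists_mk'_eq (Submonoid.powers (s : E)) x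
    -- `a` maps to zero in `L`
    have ha : algebraMap E L a = 0 := by
      have h1 := IsLocalization.mk'_spec (C s) a (⟨(s : E) ^ n, n, rfl⟩ : Submonoid.powers (s : E))
      have h2 := congrArg (φ s) h1
      rw [map_mul, hx, zero_mul, AlgHom.commutes] at h2
      exact h2.symm
    obtain ⟨t, ht⟩ := (IsLocalization.map_eq_zero_iff M L a).1 ha
    obtain ⟨ψ, -⟩ := htrans s t
    refine ⟨s * t, ψ, (hsub s).elim _ _, ?_⟩
    have h1 := IsLocalization.mk'_spec (C s) a (⟨(s : E) ^ n, n, rfl⟩ : Submonoid.powers (s : E))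
    have h2 := congrArg ψ h1
    rw [map_mul, AlgHom.commutes, AlgHom.commutes] at h2
    -- `a` maps to zero in `C (s * t)`
    have h3 : algebraMap E (C (s * t)) a = 0 := by
      have h4 : IsUnit (algebraMap E (C (s * t)) ((s : E) * (t : E))) :=
        IsLocalization.Away.algebraMap_isUnit _
      rw [map_mul] at h4
      have h5 : IsUnit (algebraMap E (C (s * t)) (t : E)) := isUnit_of_mul_isUnit_right h4
      have h6 : algebraMap E (C (s * t)) (t : E) * algebraMap E (C (s * t)) a = 0 := by
        rw [← map_mul, ht, map_zero]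
      exact (h5.mul_right_eq_zero).1 h6
    rw [h3] at h2
    have h7 : IsUnit (algebraMap E (C (s * t)) ((s : E) ^ n)) := by
      have h4 : IsUnit (algebraMap E (C (s * t)) ((s : E) * (t : E))) :=
        IsLocalization.Away.algebraMap_isUnit _
      rw [map_mul] at h4
      rw [map_pow]
      exact (isUnit_of_mul_isUnit_left h4).pow n
    exact (h7.mul_left_eq_zero).1 h2
  · intro y
    obtain ⟨a, s, rfl⟩ := IsLocalization.exists_mk'_eq M y
    refine ⟨s, IsLocalization.mk' (C s) a (⟨(s : E), 1, pow_one _⟩ : Submonoid.powers (s : E)), ?_⟩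
    have h1 := IsLocalization.mk'_spec (C s) a (⟨(s : E), 1, pow_one _⟩ : Submonoid.powers (s : E))
    have h2 := congrArg (φ s) h1
    rw [map_mul, AlgHom.commutes, AlgHom.commutes] at h2
    have h3 := IsLocalization.mk'_spec L a s
    exact ((hu s).mul_left_inj).1 (h2.trans h3.symm)

/-- A surjection whose kernel elements are annihilated by elements mapping to `1` is a
localization, hence ind-étale. -/
theorem isIndEtale_of_surjective_of_annihilated {E C : Type u} [CommRing E] [CommRing C]
    [Algebra E C] (hsurj : Function.Surjective (algebraMap E C))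
    (hann : ∀ x : E, algebraMap E C x = 0 → ∃ s : E, algebraMap E C s = 1 ∧ s * x = 0) :
    EtPBC.IsIndEtale E C := by
  let M : Submonoid E :=
    { carrier := {s | algebraMap E C s = 1}
      one_mem' := map_one _
      mul_mem' := fun {a b} ha hb => by
        show algebraMap E C (a * b) = 1
        rw [map_mul, show algebraMap E C a = 1 from ha, show algebraMap E C b = 1 from hb,
          one_mul] }
  haveI : IsLocalization M C :=
    { map_units := fun s => by
        rw [show algebraMap E C s = 1 from s.2]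
        exact isUnit_one
      surj := fun y => by
        obtain ⟨x, rfl⟩ := hsurj y
        refine ⟨(x, 1), ?_⟩
        simp
      exists_of_eq := fun {x y} h => by
        obtain ⟨s, hs1, hs0⟩ := hann (x - y) (by rw [map_sub, h, sub_self])
        refine ⟨⟨s, hs1⟩, ?_⟩
        rw [mul_sub] at hs0
        exact sub_eq_zero.1 hs0 }
  exact isIndEtale_of_isLocalization M

section Tensor

variable {A B C : Type u} [CommRing A] [CommRing B] [CommRing C] [Algebra A B] [Algebra A C]

/-- the multiplication-type map `B ⊗[A] C → C` attached to `g : B → C` -/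
noncomputable def mulMap (g : B →ₐ[A] C) : B ⊗[A] C →ₐ[A] C :=
  Algebra.TensorProduct.lift g (AlgHom.id A C) (fun _ _ => Commute.all _ _)

@[simp]
theorem mulMap_tmul (g : B →ₐ[A] C) (b : B) (c : C) : mulMap g (b ⊗ₜ c) = g b * c := by
  simp [mulMap]

theorem exists_annihilator (F : Family A B) (g : B →ₐ[A] C) (x : B ⊗[A] C) :
    ∃ s : B ⊗[A] C, mulMap g s = 1 ∧ s * (x - 1 ⊗ₜ mulMap g x) = 0 := by
  induction x using TensorProduct.induction_on with
  | zero => exact ⟨1, map_one _, by simp⟩
  | tmul b c =>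
    obtain ⟨i, c₀, rfl⟩ := F.hsurj b
    let t := Algebra.FormallyUnramified.elem A (F.C i)
    let ρ : F.C i ⊗[A] F.C i →ₐ[A] B ⊗[A] C :=
      Algebra.TensorProduct.map (F.φ i) (g.comp (F.φ i))
    have hmρ : (mulMap g).comp ρ =
        (g.comp (F.φ i)).comp (Algebra.TensorProduct.lmul' A (S := F.C i)) := by
      apply Algebra.TensorProduct.ext'
      intro u v
      simp [ρ]
    refine ⟨ρ t, ?_, ?_⟩
    · have h1 := congrArg (fun G : F.C i ⊗[A] F.C i →ₐ[A] C => G t) hmρ
      simp only [AlgHom.comp_apply] at h1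
      rw [h1, Algebra.FormallyUnramified.lmul_elem, map_one, map_one]
    · have h2 : (F.φ i c₀) ⊗ₜ[A] c - 1 ⊗ₜ[A] mulMap g ((F.φ i c₀) ⊗ₜ[A] c) =
          - (ρ ((1 : F.C i) ⊗ₜ[A] c₀ - c₀ ⊗ₜ[A] (1 : F.C i)) * ((1 : B) ⊗ₜ[A] c)) := by
        simp only [mulMap_tmul, ρ, map_sub, Algebra.TensorProduct.map_tmul, map_one,
          AlgHom.comp_apply, sub_mul, Algebra.TensorProduct.tmul_mul_tmul, one_mul, mul_one]
        ring
      rw [h2, mul_neg, ← mul_assoc, ← map_mul, mul_comm t,
        Algebra.FormallyUnramified.one_tmul_sub_tmul_one_mul_elem, map_zero, zero_mul, neg_zero]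
  | add x y hx hy =>
    obtain ⟨s₁, h₁, h₁'⟩ := hx
    obtain ⟨s₂, h₂, h₂'⟩ := hy
    refine ⟨s₁ * s₂, by rw [map_mul, h₁, h₂, one_mul], ?_⟩
    have : x + y - 1 ⊗ₜ[A] mulMap g (x + y) =
        (x - 1 ⊗ₜ[A] mulMap g x) + (y - 1 ⊗ₜ[A] mulMap g y) := by
      rw [map_add, TensorProduct.tmul_add]
      ring
    rw [this, mul_add, mul_comm s₁ s₂, mul_assoc, h₁', mul_zero, mul_comm s₂ s₁, mul_assoc, h₂',
      mul_zero, add_zero]

/-- For `B` ind-étale over `A` and any `g : B → C`, the map `B ⊗[A] C → C` is ind-étale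
(in fact a localization). -/
theorem isIndEtale_mulMap (h : EtPBC.IsIndEtale A B) (g : B →ₐ[A] C) :
    letI : Algebra (B ⊗[A] C) C := (mulMap g).toRingHom.toAlgebra
    EtPBC.IsIndEtale (B ⊗[A] C) C := by
  letI : Algebra (B ⊗[A] C) C := (mulMap g).toRingHom.toAlgebra
  obtain ⟨F⟩ := nonempty_family h
  refine isIndEtale_of_surjective_of_annihilated ?_ ?_
  · intro c
    refine ⟨1 ⊗ₜ c, ?_⟩
    show mulMap g (1 ⊗ₜ c) = c
    simp
  · intro x hx
    have hx' : mulMap g x = 0 := hx
    obtain ⟨s, hs1, hs0⟩ := exists_annihilator F g x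
    refine ⟨s, hs1, ?_⟩
    rw [hx', TensorProduct.tmul_zero, sub_zero] at hs0
    exact hs0

end Tensor

/-- **Cancellation** for ind-étale algebras. -/
theorem isIndEtale_cancel (A B C : Type u) [CommRing A] [CommRing B] [CommRing C] [Algebra A B]
    [Algebra B C] [Algebra A C] [IsScalarTower A B C] (hB : EtPBC.IsIndEtale A B)
    (hC : EtPBC.IsIndEtale A C) : EtPBC.IsIndEtale B C := by
  let g : B →ₐ[A] C := IsScalarTower.toAlgHom A B C
  have hBT : EtPBC.IsIndEtale B (B ⊗[A] C) := Groth.Agent.S0733.result A C B hC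
  letI : Algebra (B ⊗[A] C) C := (mulMap g).toRingHom.toAlgebra
  have hTC : EtPBC.IsIndEtale (B ⊗[A] C) C := isIndEtale_mulMap hB g
  haveI : IsScalarTower B (B ⊗[A] C) C := by
    refine .of_algebraMap_eq' ?_
    ext b
    show algebraMap B C b = mulMap g (b ⊗ₜ 1)
    simp [g]
  exact Groth.Agent.Lib.Helper24.IndEtaleTrans.isIndEtale_trans B (B ⊗[A] C) C hBT hTC

end Groth.Agent.Lib.Helper24.IndEtaleCancel
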