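import Groth.Agent.Lib.Helper24.HenselizationFlat
import Groth.Agent.Lib.Helper24.HensIndEtale
import Groth.Agent.Lib.Helper24.IndEtaleTrans
import Groth.Agent.Lib.Helper24.IndEtaleCancel
import Groth.Agent.Lib.Helper24.IndEtaleProps
import Groth.Agent.Lib.Helper24.EtalePairs
import Groth.Agent.Lib.Helper24.HenselLocal

/-!
The henselization of `R_p` as a colimit of étale pairs `(S, q)` with trivial residue field
extension (helper24).
-/

set_option autoImplicit false

noncomputable section

namespace Groth.Agent.Lib.Helper24.HensAtPrime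

open IsLocalRing TensorProduct
open Groth.Agent.Lib.helper24.Henselization Groth.Agent.Lib.helper24.Henselization.Idx

universe u

section Residue

variable {A : Type u} [CommRing A] [IsLocalRing A]

/-- Every element of `Hens A` is congruent to an element of `A` modulo the maximal ideal. -/
theorem exists_sub_mem_Hens (z : Hens A) :
    ∃ a : A, z - algebraMap A (Hens A) a ∈ maximalIdeal (Hens A) := by
  obtain ⟨i, x, rfl⟩ := exists_ofH z
  obtain ⟨c, s, rfl⟩ := IsLocalization.exists_mk'_eq i.q.primeCompl x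
  have hs : i.χ (s : i.C) ≠ 0 := fun h => s.2 ((i.mem_q _).2 h)
  obtain ⟨a, ha⟩ := residue_surjective (i.χ c / i.χ (s : i.C))
  refine ⟨a, ?_⟩
  rw [algebraMap_eq i a, ← map_sub, ofH_mem_maximalIdeal_iff]
  have hu : IsUnit (algebraMap i.C i.G (s : i.C)) := IsLocalization.map_units _ s
  have h1 : algebraMap i.C i.G (s : i.C) * (IsLocalization.mk' i.G c s - algebraMap A i.G a) =
      algebraMap i.C i.G (c - (s : i.C) * algebraMap A i.C a) := by
    rw [mul_sub, IsLocalization.mk'_spec', map_sub, map_mul,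
      ← IsScalarTower.algebraMap_apply A i.C i.G]
  have hq : c - (s : i.C) * algebraMap A i.C a ∈ i.q := by
    rw [mem_q, map_sub, map_mul, AlgHom.commutes]
    have : algebraMap A (ResidueField A) a = residue A a := rfl
    rw [this, ha, mul_div_cancel₀ _ hs, sub_self]
  have h2 : algebraMap i.C i.G (c - (s : i.C) * algebraMap A i.C a) ∈ maximalIdeal i.G := by
    rw [← IsLocalization.AtPrime.to_map_mem_maximal_iff i.G i.q] at hq
    exact hq
  rw [← h1] at h2
  exact ((Ideal.IsPrime.mem_or_mem (maximalIdeal.isMaximal i.G).isPrime h2).resolve_left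
    (fun h => h hu))

/-- Every element of a henselization of `A` is congruent to an element of `A` modulo the maximal
ideal. -/
theorem exists_sub_mem (A Rh : Type u) [CommRing A] [IsLocalRing A] [CommRing Rh] [IsLocalRing Rh]
    [Algebra A Rh] [IsLocalHom (algebraMap A Rh)] [Hensel.IsHenselization A Rh] (y : Rh) :
    ∃ a : A, y - algebraMap A Rh a ∈ maximalIdeal Rh := by
  obtain ⟨e⟩ := exists_algEquiv A (Hens A) Rh
  obtain ⟨a, ha⟩ := exists_sub_mem_Hens (e.symm y)
  refine ⟨a, ?_⟩
  by_contra hcon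
  have hu : IsUnit (y - algebraMap A Rh a) := by
    by_contra h
    exact hcon h
  have hu' : IsUnit (e.symm (y - algebraMap A Rh a)) := hu.map e.symm
  rw [map_sub, AlgEquiv.commutes] at hu'
  exact ha hu'

/-- A henselization is ind-étale. -/
theorem isIndEtale_of_isHenselization (A Rh : Type u) [CommRing A] [IsLocalRing A] [CommRing Rh]
    [IsLocalRing Rh] [Algebra A Rh] [IsLocalHom (algebraMap A Rh)] [Hensel.IsHenselization A Rh] :
    EtPBC.IsIndEtale A Rh := by
  obtain ⟨e⟩ := exists_algEquiv A (Hens A) Rh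
  exact Groth.Agent.Lib.Helper24.IndEtaleCrit.isIndEtale_of_algEquiv e
    (Groth.Agent.Lib.Helper24.HensIndEtale.isIndEtale_Hens A)

end Residue

section Main

variable (R : Type u) [CommRing R] (p : Ideal R) [p.IsPrime] (Rh : Type u) [CommRing Rh]
  [IsLocalRing Rh] [Algebra (Localization.AtPrime p) Rh]
  [IsLocalHom (algebraMap (Localization.AtPrime p) Rh)]
  [Hensel.IsHenselization (Localization.AtPrime p) Rh] [Algebra R Rh]
  [IsScalarTower R (Localization.AtPrime p) Rh]

include p in
theorem isIndEtale_atPrime : EtPBC.IsIndEtale R Rh :=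
  Groth.Agent.Lib.Helper24.IndEtaleTrans.isIndEtale_trans R (Localization.AtPrime p) Rh
    (Groth.Agent.Lib.Helper24.IndEtaleCancel.isIndEtale_of_isLocalization p.primeCompl)
    (isIndEtale_of_isHenselization (Localization.AtPrime p) Rh)

/-- The comparison of residue fields `κ(p) → κ(R^h)`. -/
def resMap : p.ResidueField →+* ResidueField Rh :=
  IsLocalRing.ResidueField.map (algebraMap (Localization.AtPrime p) Rh)

theorem resMap_bijective : Function.Bijective (resMap R p Rh) := by
  refine ⟨RingHom.injective _, ?_⟩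
  intro y
  obtain ⟨y, rfl⟩ := residue_surjective y
  obtain ⟨a, ha⟩ := exists_sub_mem (Localization.AtPrime p) Rh y
  refine ⟨residue _ a, ?_⟩
  show IsLocalRing.ResidueField.map (algebraMap (Localization.AtPrime p) Rh) (residue _ a) = _
  rw [IsLocalRing.ResidueField.map_residue]
  symm
  rw [← sub_eq_zero, ← map_sub, residue_eq_zero_iff]
  exact ha

theorem resMap_algebraMap (r : R) :
    resMap R p Rh (algebraMap R p.ResidueField r) = residue Rh (algebraMap R Rh r) := by
  have h1 : algebraMap R p.ResidueField r =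
      residue (Localization.AtPrime p) (algebraMap R (Localization.AtPrime p) r) := rfl
  rw [h1]
  show IsLocalRing.ResidueField.map (algebraMap (Localization.AtPrime p) Rh) (residue _ _) = _
  rw [IsLocalRing.ResidueField.map_residue, ← IsScalarTower.algebraMap_apply]

/-- The character of an étale algebra mapping to `R^h`. -/
def charOf (S : Type u) [CommRing S] [Algebra R S] (f : S →ₐ[R] Rh) : S →ₐ[R] p.ResidueField :=
  { toRingHom := ((RingEquiv.ofBijective (resMap R p Rh) (resMap_bijective R p Rh)).symm :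
        ResidueField Rh →+* p.ResidueField).comp ((residue Rh).comp f.toRingHom)
    commutes' := by
      intro r
      show (RingEquiv.ofBijective (resMap R p Rh) (resMap_bijective R p Rh)).symm
        (residue Rh (f (algebraMap R S r))) = _
      rw [RingEquiv.symm_apply_eq, f.commutes]
      exact (resMap_algebraMap R p Rh r).symm }

theorem resMap_charOf (S : Type u) [CommRing S] [Algebra R S] (f : S →ₐ[R] Rh) (s : S) :
    resMap R p Rh (charOf R p Rh S f s) = residue Rh (f s) :=
  (RingEquiv.ofBijective (resMap R p Rh) (resMap_bijective R p Rh)).apply_symm_apply _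

theorem charOf_eq_zero_iff (S : Type u) [CommRing S] [Algebra R S] (f : S →ₐ[R] Rh) (s : S) :
    charOf R p Rh S f s = 0 ↔ s ∈ (maximalIdeal Rh).comap f.toRingHom := by
  rw [← map_eq_zero_iff _ (resMap_bijective R p Rh).1, resMap_charOf, residue_eq_zero_iff,
    Ideal.mem_comap]
  rfl

end Main

section Pairs

variable (R : Type u) [CommRing R] (p : Ideal R) [p.IsPrime] (Rh : Type u) [CommRing Rh]
  [IsLocalRing Rh] [Algebra (Localization.AtPrime p) Rh]
  [IsLocalHom (algebraMap (Localization.AtPrime p) Rh)]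
  [Hensel.IsHenselization (Localization.AtPrime p) Rh] [Algebra R Rh]
  [IsScalarTower R (Localization.AtPrime p) Rh]

open Groth.Agent.Lib.helper24.EtalePairs

/-- The pair conditions hold automatically for the pullback of the maximal ideal. -/
theorem pair_of_algHom (S : Type u) [CommRing S] [Algebra R S] (f : S →ₐ[R] Rh) (q : Ideal S)
    [q.IsPrime] (hf : (maximalIdeal Rh).comap f.toRingHom = q) :
    ∃ hq : p = q.comap (algebraMap R S),
      Function.Bijective (Ideal.ResidueField.map p q (algebraMap R S) hq) := by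
  have hχ : ∀ s, charOf R p Rh S f s = 0 ↔ s ∈ q := by
    intro s
    rw [charOf_eq_zero_iff, hf]
  have hq := comap_eq_of_character R p S (charOf R p Rh S f) q hχ
  exact ⟨hq, bijective_of_character R p S (charOf R p Rh S f) q hχ hq⟩

/-- (a) existence -/
theorem exists_algHom (S : Type u) [CommRing S] [Algebra R S] [Algebra.Etale R S] (q : Ideal S)
    [q.IsPrime] (hq : p = q.comap (algebraMap R S))
    (hbij : Function.Bijective (Ideal.ResidueField.map p q (algebraMap R S) hq)) :
    ∃ f : S →ₐ[R] Rh, (maximalIdeal Rh).comap f.toRingHom = q := by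
  obtain ⟨χ, hχ⟩ := exists_character R p S q hq hbij
  have hH : HenselianLocalRing Rh :=
    (inferInstance : Hensel.IsHenselization (Localization.AtPrime p) Rh).henselian
  let ιa : p.ResidueField →ₐ[R] ResidueField Rh :=
    { toRingHom := resMap R p Rh
      commutes' := fun r => resMap_algebraMap R p Rh r }
  let χ' : Rh ⊗[R] S →ₐ[Rh] ResidueField Rh :=
    Algebra.TensorProduct.lift (Algebra.ofId Rh (ResidueField Rh)) (ιa.comp χ)
      (fun _ _ => Commute.all _ _)
  obtain ⟨σ, hσ⟩ := Groth.Agent.Lib.helper24.HenselLocal.exists_lift_residue χ'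
  refine ⟨(σ.restrictScalars R).comp Algebra.TensorProduct.includeRight, ?_⟩
  ext s
  rw [Ideal.mem_comap, ← hχ]
  show σ ((1 : Rh) ⊗ₜ[R] s) ∈ maximalIdeal Rh ↔ _
  rw [← residue_eq_zero_iff, hσ]
  show Algebra.TensorProduct.lift (Algebra.ofId Rh (ResidueField Rh)) (ιa.comp χ)
      (fun _ _ => Commute.all _ _) ((1 : Rh) ⊗ₜ[R] s) = 0 ↔ _
  rw [Algebra.TensorProduct.lift_tmul, map_one, one_mul]
  show resMap R p Rh (χ s) = 0 ↔ _
  rw [map_eq_zero_iff _ (resMap_bijective R p Rh).1]

include p in
/-- (a) uniqueness -/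
theorem algHom_unique (S : Type u) [CommRing S] [Algebra R S] [Algebra.Etale R S] (q : Ideal S)
    [q.IsPrime] (f₁ f₂ : S →ₐ[R] Rh) (h₁ : (maximalIdeal Rh).comap f₁.toRingHom = q)
    (h₂ : (maximalIdeal Rh).comap f₂.toRingHom = q) : f₁ = f₂ := by
  have hχ₁ : ∀ s, charOf R p Rh S f₁ s = 0 ↔ s ∈ q := by
    intro s
    rw [charOf_eq_zero_iff, h₁]
  have hχ₂ : ∀ s, charOf R p Rh S f₂ s = 0 ↔ s ∈ q := by
    intro s
    rw [charOf_eq_zero_iff, h₂]
  have hχ := character_unique R p S _ _ q hχ₁ hχ₂
  apply Groth.Agent.Lib.helper24.HenselLocal.algHom_ext_of_residue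
  intro s
  rw [← residue_eq_zero_iff, map_sub, sub_eq_zero, ← resMap_charOf R p Rh S f₁,
    ← resMap_charOf R p Rh S f₂, hχ]

/-- (b) -/
theorem exists_pair_of_mem (x : Rh) :
    ∃ (S : Type u) (_ : CommRing S) (_ : Algebra R S) (_ : Algebra.Etale R S) (q : Ideal S)
      (_ : q.IsPrime) (hq : p = q.comap (algebraMap R S)),
      Function.Bijective (Ideal.ResidueField.map p q (algebraMap R S) hq) ∧
        ∃ (f : S →ₐ[R] Rh) (s : S), (maximalIdeal Rh).comap f.toRingHom = q ∧ f s = x := by
  obtain ⟨F⟩ := Groth.Agent.Lib.Helper24.IndEtaleProps.nonempty_family (isIndEtale_atPrime R p Rh)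
  obtain ⟨i, c, hc⟩ := F.hsurj x
  have hprime : ((maximalIdeal Rh).comap (F.φ i).toRingHom).IsPrime := Ideal.comap_isPrime _ _
  obtain ⟨hq, hbij⟩ := pair_of_algHom R p Rh (F.C i) (F.φ i) _ rfl
  exact ⟨F.C i, inferInstance, inferInstance, inferInstance, _, hprime, hq, hbij, F.φ i, c, rfl, hc⟩

/-- (c) -/
theorem exists_pair_of_eq_zero (S : Type u) [CommRing S] [Algebra R S] [Algebra.Etale R S]
    (q : Ideal S) (f : S →ₐ[R] Rh) (hf : (maximalIdeal Rh).comap f.toRingHom = q) (s : S)
    (hs : f s = 0) :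
    ∃ (S' : Type u) (_ : CommRing S') (_ : Algebra R S') (_ : Algebra.Etale R S') (q' : Ideal S')
      (_ : q'.IsPrime) (hq' : p = q'.comap (algebraMap R S')),
      Function.Bijective (Ideal.ResidueField.map p q' (algebraMap R S') hq') ∧
        ∃ φ : S →ₐ[R] S', q'.comap φ.toRingHom = q ∧ φ s = 0 := by
  obtain ⟨F⟩ := Groth.Agent.Lib.Helper24.IndEtaleProps.nonempty_family (isIndEtale_atPrime R p Rh)
  obtain ⟨i, ψ', hψ'⟩ := Groth.Agent.Lib.Helper24.IndEtaleProps.exists_factor F.C F.φ F.hobj F.hker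
    F.hsurj S f
  have h0 : F.φ i (ψ' s) = 0 := by
    have := congrArg (fun g : S →ₐ[R] Rh => g s) hψ'
    simp only [AlgHom.comp_apply] at this
    rw [this, hs]
  obtain ⟨j, ψ, hψ, hψ0⟩ := F.hker i (ψ' s) h0
  have hprime : ((maximalIdeal Rh).comap (F.φ j).toRingHom).IsPrime := Ideal.comap_isPrime _ _
  obtain ⟨hq, hbij⟩ := pair_of_algHom R p Rh (F.C j) (F.φ j) _ rfl
  refine ⟨F.C j, inferInstance, inferInstance, inferInstance, _, hprime, hq, hbij, ψ.comp ψ', ?_,
    hψ0⟩
  rw [← hf]
  ext t
  simp only [Ideal.mem_comap]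
  show F.φ j (ψ (ψ' t)) ∈ maximalIdeal Rh ↔ f t ∈ maximalIdeal Rh
  have e1 := congrArg (fun g : F.C i →ₐ[R] Rh => g (ψ' t)) hψ
  have e2 := congrArg (fun g : S →ₐ[R] Rh => g t) hψ'
  simp only [AlgHom.comp_apply] at e1 e2
  rw [e1, e2]

end Pairs

end Groth.Agent.Lib.Helper24.HensAtPrime

end
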