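import Mathlib

/-!
# Cotangent spaces along flat local homomorphisms with `m_R S = m_S` (helper24)
-/

set_option autoImplicit false

namespace Groth.Agent.Lib.Helper24.FlatCotangent

open IsLocalRing

universe u

variable (R S : Type u) [CommRing R] [CommRing S] [IsLocalRing R] [IsLocalRing S]
  [IsNoetherianRing R] [IsNoetherianRing S] [Algebra R S] [IsLocalHom (algebraMap R S)]

omit [IsNoetherianRing R] [IsNoetherianRing S] in
theorem algebraMap_mem_maximalIdeal {x : R} (hx : x ∈ maximalIdeal R) :
    algebraMap R S x ∈ maximalIdeal S :=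
  map_nonunit (algebraMap R S) x hx

/-- A basis of `m_R/m_R²` stays linearly independent in `m_S/m_S²`. -/
theorem finrank_cotangentSpace_le_of_flat [Module.Flat R S]
    (hm : (maximalIdeal R).map (algebraMap R S) = maximalIdeal S) :
    Module.finrank (ResidueField R) (CotangentSpace R) ≤
      Module.finrank (ResidueField S) (CotangentSpace S) := by
  classical
  set r := Module.finrank (ResidueField R) (CotangentSpace R) with hr
  let b : Module.Basis (Fin r) (ResidueField R) (CotangentSpace R) := Module.finBasis _ _
  choose x hx using fun i => (maximalIdeal R).toCotangent_surjective (b i)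
  let X : Fin r → maximalIdeal S := fun i =>
    ⟨algebraMap R S (x i), algebraMap_mem_maximalIdeal R S (x i).2⟩
  let v : Fin r → CotangentSpace S := fun i => (maximalIdeal S).toCotangent (X i)
  have hli : LinearIndependent (ResidueField S) v := by
    rw [Fintype.linearIndependent_iff]
    intro c hc
    choose s hs using fun i => residue_surjective (c i)
    -- the relation lies in `m_S ^ 2`
    have h1 : (∑ i, s i * algebraMap R S (x i) : S) ∈ maximalIdeal S ^ 2 := by
      have h2 : (maximalIdeal S).toCotangent (∑ i, s i • X i) = 0 := by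
        rw [map_sum, ← hc]
        refine Finset.sum_congr rfl (fun i _ => ?_)
        rw [map_smul, ← hs i]
        exact (IsScalarTower.algebraMap_smul (ResidueField S) (s i) (v i)).symm
      rw [Ideal.toCotangent_eq_zero] at h2
      have h3 : ((∑ i, s i • X i : maximalIdeal S) : S) = ∑ i, s i * algebraMap R S (x i) := by
        rw [AddSubmonoidClass.coe_finsetSum]
        rfl
      rwa [h3] at h2
    -- generators of `m_R ^ 2`
    obtain ⟨q, y, hy⟩ := Submodule.fg_iff_exists_fin_generating_family.1
      (IsNoetherian.noetherian (maximalIdeal R ^ 2))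
    have hymem : ∀ j, y j ∈ maximalIdeal R ^ 2 := by
      intro j
      rw [← hy]
      exact Submodule.subset_span ⟨j, rfl⟩
    have h4 : maximalIdeal S ^ 2 = Ideal.span (Set.range (fun j => algebraMap R S (y j))) := by
      rw [← hm, ← Ideal.map_pow, ← hy]
      show Ideal.map (algebraMap R S) (Ideal.span (Set.range y)) = _
      rw [Ideal.map_span, ← Set.range_comp]
      rfl
    rw [h4] at h1
    obtain ⟨t, ht⟩ := (Ideal.mem_span_range_iff_exists_fun).1 h1
    -- the relation in the flat module `S`
    let f : Fin r ⊕ Fin q → R := Sum.elim (fun i => (x i : R)) (fun j => - y j)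
    let m : Fin r ⊕ Fin q → S := Sum.elim s t
    have hrel : ∑ i, f i • m i = 0 := by
      rw [Fintype.sum_sum_type]
      simp only [f, m, Sum.elim_inl, Sum.elim_inr, Algebra.smul_def, map_neg, neg_mul,
        Finset.sum_neg_distrib]
      rw [add_neg_eq_zero]
      calc ∑ i, algebraMap R S (x i : R) * s i = ∑ i, s i * algebraMap R S (x i : R) :=
            Finset.sum_congr rfl (fun i _ => mul_comm _ _)
        _ = ∑ j, t j * algebraMap R S (y j) := ht.symm
        _ = ∑ j, algebraMap R S (y j) * t j := Finset.sum_congr rfl (fun j _ => mul_comm _ _)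
    obtain ⟨κ', a, z, hz1, hz2⟩ := Module.Flat.isTrivialRelation_of_sum_smul_eq_zero (R := R) (M := S) (f := f) (x := m) hrel
    -- the coefficients `a (inl i) k` lie in `m_R`
    have ha : ∀ i k, a (Sum.inl i) k ∈ maximalIdeal R := by
      intro i k
      have h5 := hz2 k
      rw [Fintype.sum_sum_type] at h5
      simp only [f, Sum.elim_inl, Sum.elim_inr, neg_mul, Finset.sum_neg_distrib] at h5
      rw [add_neg_eq_zero] at h5
      have h6 : (∑ i, (x i : R) * a (Sum.inl i) k) ∈ maximalIdeal R ^ 2 := by
        rw [h5]
        exact Ideal.sum_mem _ (fun j _ => Ideal.mul_mem_right _ _ (hymem j))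
      have h7 : (maximalIdeal R).toCotangent (∑ i, a (Sum.inl i) k • x i) = 0 := by
        rw [Ideal.toCotangent_eq_zero, AddSubmonoidClass.coe_finsetSum]
        have e : ∑ i, ((a (Sum.inl i) k • x i : maximalIdeal R) : R) =
            ∑ i, (x i : R) * a (Sum.inl i) k :=
          Finset.sum_congr rfl (fun i _ => mul_comm _ _)
        rw [e]
        exact h6
      rw [map_sum] at h7
      have h8 : ∑ i, (residue R (a (Sum.inl i) k)) • b i = 0 := by
        rw [← h7]
        refine Finset.sum_congr rfl (fun i _ => ?_)
        rw [map_smul, hx i]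
        exact IsScalarTower.algebraMap_smul (ResidueField R) (a (Sum.inl i) k) (b i)
      have h9 := Fintype.linearIndependent_iff.1 b.linearIndependent _ h8 i
      exact (residue_eq_zero_iff _).1 h9
    intro i
    rw [← hs i, residue_eq_zero_iff]
    have h10 : s i = ∑ k, a (Sum.inl i) k • z k := hz1 (Sum.inl i)
    rw [h10]
    refine Ideal.sum_mem _ (fun k _ => ?_)
    rw [Algebra.smul_def]
    exact Ideal.mul_mem_right _ _ (algebraMap_mem_maximalIdeal R S (ha i k))
  have := hli.fintype_card_le_finrank
  simpa using this

theorem spanFinrank_maximalIdeal_eq_of_flat [Module.Flat R S]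
    (hm : (maximalIdeal R).map (algebraMap R S) = maximalIdeal S) :
    (maximalIdeal S).spanFinrank = (maximalIdeal R).spanFinrank := by
  apply le_antisymm
  · rw [← hm]
    exact Ideal.spanFinrank_map_le_of_fg (algebraMap R S) (IsNoetherian.noetherian _)
  · rw [spanFinrank_maximalIdeal_eq_finrank_cotangentSpace,
      spanFinrank_maximalIdeal_eq_finrank_cotangentSpace]
    exact finrank_cotangentSpace_le_of_flat R S hm

theorem isRegularLocalRing_iff_of_flat [Module.Flat R S]
    (hm : (maximalIdeal R).map (algebraMap R S) = maximalIdeal S)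
    (hdim : ringKrullDim S = ringKrullDim R) :
    IsRegularLocalRing R ↔ IsRegularLocalRing S := by
  rw [isRegularLocalRing_iff, isRegularLocalRing_iff, hdim,
    spanFinrank_maximalIdeal_eq_of_flat R S hm]

end Groth.Agent.Lib.Helper24.FlatCotangent
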