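import Mathlib

/-!
# Krull dimension of faithfully flat ind-quasi-finite algebras (helper24)
-/

set_option autoImplicit false

namespace Groth.Agent.Lib.Helper24.IndQuasiFiniteDim

universe u v

/-- Going down plus surjectivity on spectra: dimension does not drop. -/
theorem ringKrullDim_le_of_faithfullyFlat (R : Type u) (S : Type v) [CommRing R] [CommRing S]
    [Algebra R S] [Module.FaithfullyFlat R S] : ringKrullDim R ≤ ringKrullDim S := by
  unfold ringKrullDim Order.krullDim
  apply iSup_le
  intro l
  obtain ⟨P, hP⟩ := PrimeSpectrum.comap_surjective_of_faithfullyFlat (A := R) (B := S) l.last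
  have hlo : P.asIdeal.LiesOver l.last.asIdeal := ⟨by
    rw [← hP]
    rfl⟩
  obtain ⟨L, hlen, -, -⟩ := Ideal.exists_ltSeries_of_hasGoingDown l P.asIdeal
  rw [← hlen]
  exact le_iSup (fun p : LTSeries (PrimeSpectrum S) => (p.length : WithBot ℕ∞)) L

/-- If every element of `S` lies in the image of a quasi-finite `R`-algebra, then contraction of
primes is strictly monotone, so the dimension does not grow. -/
theorem ringKrullDim_le_of_ind_quasiFinite (R : Type u) (S : Type v) [CommRing R] [CommRing S]
    [Algebra R S]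
    (H : ∀ x : S, ∃ (G : Type v) (_ : CommRing G) (_ : Algebra R G) (_ : Algebra.QuasiFinite R G)
      (φ : G →ₐ[R] S), x ∈ Set.range φ) :
    ringKrullDim S ≤ ringKrullDim R := by
  unfold ringKrullDim
  refine Order.krullDim_le_of_strictMono (PrimeSpectrum.comap (algebraMap R S)) ?_
  intro P P' hlt
  refine lt_of_le_of_ne ?_ ?_
  · exact Ideal.comap_mono (f := algebraMap R S) hlt.le
  · intro heq
    have hne : ¬ (P'.asIdeal ≤ P.asIdeal) := fun h => (not_le_of_gt hlt) h
    obtain ⟨x, hx', hx⟩ := Set.not_subset.1 hne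
    obtain ⟨G, _, _, _, φ, y, rfl⟩ := H x
    have hle : P.asIdeal.comap φ.toRingHom ≤ P'.asIdeal.comap φ.toRingHom :=
      Ideal.comap_mono hlt.le
    have hunder : (P.asIdeal.comap φ.toRingHom).under R = (P'.asIdeal.comap φ.toRingHom).under R := by
      have e1 : ∀ Q : Ideal S, (Q.comap φ.toRingHom).under R = Q.under R := by
        intro Q
        ext r
        simp only [Ideal.under_def, Ideal.mem_comap]
        show φ (algebraMap R G r) ∈ Q ↔ _
        rw [φ.commutes]
      rw [e1, e1]
      exact congrArg PrimeSpectrum.asIdeal heq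
    have heq' := Algebra.QuasiFinite.eq_of_le_of_under_eq (R := R) _ _ hle hunder
    have : y ∈ P.asIdeal.comap φ.toRingHom := by
      rw [heq']
      exact hx'
    exact hx this

/-- Incomparability for ind-quasi-finite algebras. -/
theorem under_lt_under_of_ind_quasiFinite (R : Type u) (S : Type v) [CommRing R] [CommRing S]
    [Algebra R S]
    (H : ∀ x : S, ∃ (G : Type v) (_ : CommRing G) (_ : Algebra R G) (_ : Algebra.QuasiFinite R G)
      (φ : G →ₐ[R] S), x ∈ Set.range φ)
    (P P' : Ideal S) [P.IsPrime] [P'.IsPrime] (hlt : P < P') : P.under R < P'.under R := by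
  refine lt_of_le_of_ne (Ideal.comap_mono hlt.le) ?_
  intro heq
  have hne : ¬ (P' ≤ P) := fun h => (not_le_of_gt hlt) h
  obtain ⟨x, hx', hx⟩ := Set.not_subset.1 hne
  obtain ⟨G, _, _, _, φ, y, rfl⟩ := H x
  have hle : P.comap φ.toRingHom ≤ P'.comap φ.toRingHom := Ideal.comap_mono hlt.le
  have hunder : (P.comap φ.toRingHom).under R = (P'.comap φ.toRingHom).under R := by
    have e1 : ∀ Q : Ideal S, (Q.comap φ.toRingHom).under R = Q.under R := by
      intro Q
      ext r
      simp only [Ideal.under_def, Ideal.mem_comap]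
      show φ (algebraMap R G r) ∈ Q ↔ _
      rw [φ.commutes]
    rw [e1, e1]
    exact heq
  have heq' := Algebra.QuasiFinite.eq_of_le_of_under_eq (R := R) _ _ hle hunder
  have : y ∈ P.comap φ.toRingHom := by
    rw [heq']
    exact hx'
  exact hx this

end Groth.Agent.Lib.Helper24.IndQuasiFiniteDim
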