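import Groth.Agent.Lib.Helper24.StrictHensProps
import Groth.Agent.Lib.Helper24.HenselizationFlat
import Groth.Agent.Lib.Helper24.IndQuasiFiniteDim

/-!
# Krull dimension of the henselization and the strict henselization (helper24)
-/

set_option autoImplicit false
set_option linter.unusedSectionVars false

noncomputable section

namespace Groth.Agent.Lib.Helper24.HensDim

open IsLocalRing Groth.Agent.Lib.Helper24.IndQuasiFiniteDim

universe u

section Strict

open Groth.Agent.Lib.Helper24.StrictHens Groth.Agent.Lib.Helper24.StrictHens.SIdx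

variable {A : Type u} [CommRing A] [IsLocalRing A] {Ω : Type u} [Field Ω] [Algebra A Ω]
  [Algebra (ResidueField A) Ω] [IsScalarTower A (ResidueField A) Ω]

/-- the canonical maps as algebra homs -/
def ofSₐ (i : SIdx A Ω) : i.G →ₐ[A] SHens A Ω :=
  { ofS i with commutes' := fun a => (algebraMap_eq i a).symm }

theorem ofSₐ_apply (i : SIdx A Ω) (x : i.G) : ofSₐ i x = ofS i x := rfl

instance (i : SIdx A Ω) : Algebra.QuasiFinite A i.G := inferInstance

theorem ringKrullDim_SHens : ringKrullDim (SHens A Ω) = ringKrullDim A := by
  apply le_antisymm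
  · apply ringKrullDim_le_of_ind_quasiFinite
    intro x
    obtain ⟨i, y, rfl⟩ := exists_ofS x
    exact ⟨i.G, inferInstance, inferInstance, inferInstance, ofSₐ i, y, rfl⟩
  · exact ringKrullDim_le_of_faithfullyFlat A (SHens A Ω)

theorem ringKrullDim_of_isStrictHenselization (R : Type u) [CommRing R] [IsLocalRing R]
    (S : Type u) [CommRing S] [IsLocalRing S] [Algebra R S] [IsLocalHom (algebraMap R S)]
    [Hensel.IsStrictHenselization R S] : ringKrullDim S = ringKrullDim R := by
  obtain ⟨e⟩ := exists_algEquiv_SH R S
  rw [← ringKrullDim_eq_of_ringEquiv e.toRingEquiv]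
  exact ringKrullDim_SHens

end Strict

section Hens

open Groth.Agent.Lib.helper24.Henselization Groth.Agent.Lib.helper24.Henselization.Idx

variable {A : Type u} [CommRing A] [IsLocalRing A]

/-- the canonical maps as algebra homs -/
def ofHₐ (i : Idx A) : i.G →ₐ[A] Hens A :=
  { ofH i with commutes' := fun a => (algebraMap_eq i a).symm }

instance (i : Idx A) : Algebra.QuasiFinite A i.G :=
  (inferInstance : Algebra.QuasiFinite A (Localization.AtPrime i.q))

theorem ringKrullDim_Hens : ringKrullDim (Hens A) = ringKrullDim A := by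
  apply le_antisymm
  · apply ringKrullDim_le_of_ind_quasiFinite
    intro x
    obtain ⟨i, y, rfl⟩ := exists_ofH x
    exact ⟨i.G, inferInstance, inferInstance, inferInstance, ofHₐ i, y, rfl⟩
  · have := faithfullyFlat_of_isHenselization A (Hens A)
    exact ringKrullDim_le_of_faithfullyFlat A (Hens A)

theorem ringKrullDim_of_isHenselization (R : Type u) [CommRing R] [IsLocalRing R]
    (S : Type u) [CommRing S] [IsLocalRing S] [Algebra R S] [IsLocalHom (algebraMap R S)]
    [Hensel.IsHenselization R S] : ringKrullDim S = ringKrullDim R := by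
  obtain ⟨e⟩ := exists_algEquiv R (Hens R) S
  rw [← ringKrullDim_eq_of_ringEquiv e.toRingEquiv]
  exact ringKrullDim_Hens

end Hens

end Groth.Agent.Lib.Helper24.HensDim

end
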