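import Groth.Agent.Lib.Helper24.HensNoeth
import Groth.Agent.Lib.Helper24.HensDim
import Groth.Agent.Lib.Helper24.FlatCotangent

/-!
# Regularity of the henselization and the strict henselization (helper24)
-/

set_option autoImplicit false
set_option linter.unusedSectionVars false

noncomputable section

namespace Groth.Agent.Lib.Helper24.HensRegular

open IsLocalRing Groth.Agent.Lib.Helper24.FlatCotangent

universe u

theorem isRegularLocalRing_iff_of_isStrictHenselization (R S : Type u) [CommRing R] [IsLocalRing R]
    [IsNoetherianRing R] [CommRing S] [IsLocalRing S] [Algebra R S] [IsLocalHom (algebraMap R S)]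
    [Hensel.IsStrictHenselization R S] : IsRegularLocalRing S ↔ IsRegularLocalRing R := by
  have hN : IsNoetherianRing S :=
    (Groth.Agent.Lib.Helper24.HensNoeth.isNoetherianRing_iff_of_isStrictHenselization R S).1
      inferInstance
  have hff := Groth.Agent.Lib.Helper24.StrictHens.faithfullyFlat_of_isStrictHenselization R S
  exact (isRegularLocalRing_iff_of_flat R S
    (Groth.Agent.Lib.Helper24.StrictHens.map_maximalIdeal_of_isStrictHenselization R S)
    (Groth.Agent.Lib.Helper24.HensDim.ringKrullDim_of_isStrictHenselization R S)).symm

theorem map_maximalIdeal_of_isHenselization (R S : Type u) [CommRing R] [IsLocalRing R]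
    [CommRing S] [IsLocalRing S] [Algebra R S] [IsLocalHom (algebraMap R S)]
    [Hensel.IsHenselization R S] :
    (maximalIdeal R).map (algebraMap R S) = maximalIdeal S := by
  obtain ⟨e⟩ := Groth.Agent.Lib.helper24.Henselization.exists_algEquiv R
    (Groth.Agent.Lib.helper24.Henselization.Hens R) S
  apply le_antisymm (IsLocalRing.map_maximalIdeal_le (algebraMap R S))
  intro z hz
  have h1 : e.symm z ∈ maximalIdeal (Groth.Agent.Lib.helper24.Henselization.Hens R) := by
    by_contra hnu
    have hu : IsUnit (e.symm z) := by
      by_contra h'
      exact hnu h'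
    have hu' : IsUnit (e (e.symm z)) := hu.map e
    rw [e.apply_symm_apply] at hu'
    exact hz hu'
  rw [← Groth.Agent.Lib.Helper24.HensNoeth.map_maximalIdeal_Hens] at h1
  have h2 : e (e.symm z) ∈ ((maximalIdeal R).map (algebraMap R
      (Groth.Agent.Lib.helper24.Henselization.Hens R))).map
      (e : Groth.Agent.Lib.helper24.Henselization.Hens R →+* S) := Ideal.mem_map_of_mem _ h1
  rw [e.apply_symm_apply, Ideal.map_map] at h2
  have h3 : (e : Groth.Agent.Lib.helper24.Henselization.Hens R →+* S).comp
      (algebraMap R (Groth.Agent.Lib.helper24.Henselization.Hens R)) = algebraMap R S := by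
    ext r
    exact e.commutes r
  rwa [h3] at h2

theorem isRegularLocalRing_iff_of_isHenselization (R S : Type u) [CommRing R] [IsLocalRing R]
    [IsNoetherianRing R] [CommRing S] [IsLocalRing S] [Algebra R S] [IsLocalHom (algebraMap R S)]
    [Hensel.IsHenselization R S] : IsRegularLocalRing R ↔ IsRegularLocalRing S := by
  have hN : IsNoetherianRing S :=
    (Groth.Agent.Lib.Helper24.HensNoeth.isNoetherianRing_iff_of_isHenselization R S).1
      inferInstance
  have hff := Groth.Agent.Lib.helper24.Henselization.faithfullyFlat_of_isHenselization R S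
  exact isRegularLocalRing_iff_of_flat R S (map_maximalIdeal_of_isHenselization R S)
    (Groth.Agent.Lib.Helper24.HensDim.ringKrullDim_of_isHenselization R S)

end Groth.Agent.Lib.Helper24.HensRegular

end
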