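import Mathlib

/-!
# A local ring over which finite type algebras split off their finite part is henselian
-/

open Polynomial IsLocalRing

namespace Groth.Agent.Lib.Helper24.HenselSplitting

universe u

section FiniteEtaleLocal

variable {R A : Type*} [CommRing R] [CommRing A] [Algebra R A] [IsLocalRing R] [IsLocalRing A]
  [IsLocalHom (algebraMap R A)]

/-- A finite unramified local algebra with trivial residue field extension is a quotient. -/
theorem surjective_algebraMap_of_finite_unramified [Module.Finite R A]
    [Algebra.FormallyUnramified R A]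
    (hres : Function.Surjective (algebraMap R (ResidueField A))) :
    Function.Surjective (algebraMap R A) := by
  have : Algebra.EssFiniteType R A := inferInstance
  have hmax : (maximalIdeal R).map (algebraMap R A) = maximalIdeal A :=
    Algebra.FormallyUnramified.map_maximalIdeal
  have htop : (⊤ : Submodule R A) ≤ LinearMap.range (Algebra.linearMap R A) := by
    apply Submodule.le_of_le_smul_of_le_jacobson_bot (I := maximalIdeal R)
      (Module.finite_def.mp inferInstance) (IsLocalRing.maximalIdeal_le_jacobson ⊥)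
    intro a _
    obtain ⟨r, hr⟩ := hres (residue A a)
    rw [Ideal.smul_top_eq_map, hmax]
    refine Submodule.mem_sup.mpr ⟨algebraMap R A r, ⟨r, rfl⟩, a - algebraMap R A r, ?_, by ring⟩
    rw [Submodule.restrictScalars_mem, ← residue_eq_zero_iff, map_sub, sub_eq_zero, ← hr]
    rfl
  intro a
  obtain ⟨r, hr⟩ := htop (Submodule.mem_top (x := a))
  exact ⟨r, hr⟩

/-- A finite étale local algebra with trivial residue field extension is trivial. -/
theorem bijective_algebraMap_of_finite_etale [Module.Finite R A] [Algebra.Etale R A]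
    (hres : Function.Surjective (algebraMap R (ResidueField A))) :
    Function.Bijective (algebraMap R A) := by
  have hflat : Module.Flat R A := inferInstance
  have hff : Module.FaithfullyFlat R A := Module.FaithfullyFlat.of_flat_of_isLocalHom
  exact ⟨FaithfulSMul.algebraMap_injective R A,
    surjective_algebraMap_of_finite_unramified hres⟩

end FiniteEtaleLocal

section Main

variable (R : Type u) [CommRing R] [IsLocalRing R]

omit [IsLocalRing R] in
/-- division of `f` by `X - a₀`. -/
theorem div_X_sub_C (f : R[X]) (a₀ : R) :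
    f = C (f.eval a₀) + (X - C a₀) * (f /ₘ (X - C a₀)) ∧
      (f /ₘ (X - C a₀)).eval a₀ = f.derivative.eval a₀ := by
  have hdiv : f = C (f.eval a₀) + (X - C a₀) * (f /ₘ (X - C a₀)) := by
    have := Polynomial.modByMonic_add_div f (X - C a₀)
    rw [Polynomial.modByMonic_X_sub_C_eq_C_eval] at this
    exact this.symm
  refine ⟨hdiv, ?_⟩
  have := congrArg (fun p => (derivative p).eval a₀) hdiv
  simp only [derivative_add, derivative_C, zero_add, derivative_mul, derivative_sub,
    derivative_X, sub_zero, one_mul, eval_add, eval_mul, eval_sub, eval_X, eval_C, sub_self,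
    zero_mul, add_zero] at this
  exact this.symm

theorem henselian_of_splitting
    (h : ∀ (S : Type u) [CommRing S] [Algebra R S] [Algebra.FiniteType R S],
      ∃ e : S, IsIdempotentElem e ∧ Module.Finite R (S ⧸ Ideal.span ({1 - e} : Set S)) ∧
        ∀ (q : Ideal (S ⧸ Ideal.span ({e} : Set S))) [q.IsPrime],
          q.LiesOver (IsLocalRing.maximalIdeal R) → ¬ Algebra.QuasiFiniteAt R q) :
    HenselianLocalRing R := by
  refine ⟨fun f hf a₀ h0 h1 => ?_⟩
  obtain ⟨hdiv, hGa⟩ := div_X_sub_C R f a₀
  set G : R[X] := f /ₘ (X - C a₀) with hG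
  let P : StandardEtalePair R :=
    { f := f
      monic_f := hf
      g := derivative f * G
      cond := ⟨G, 0, 1, by ring⟩ }
  obtain ⟨e, he, hfin, hnq⟩ := h P.Ring
  -- the character at the given root
  have hP : P.HasMap (residue R a₀) := by
    constructor
    · show aeval (residue R a₀) f = 0
      rw [← IsLocalRing.ResidueField.algebraMap_eq, Polynomial.aeval_algebraMap_apply,
        Polynomial.coe_aeval_eq_eval, IsLocalRing.ResidueField.algebraMap_eq,
        residue_eq_zero_iff]
      exact h0
    · show IsUnit (aeval (residue R a₀) (derivative f * G))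
      rw [← IsLocalRing.ResidueField.algebraMap_eq, Polynomial.aeval_algebraMap_apply,
        Polynomial.coe_aeval_eq_eval, eval_mul, hGa]
      exact (h1.mul h1).map _
  let χ : P.Ring →ₐ[R] ResidueField R := P.lift _ hP
  have hχX : χ P.X = residue R a₀ := P.lift_X _ hP
  -- key: every prime over `m` contains `X - a₀`
  have hGu : IsUnit (aeval P.X G) := by
    have : IsUnit (aeval P.X (derivative f * G)) := (StandardEtalePair.hasMap_X (P := P)).2
    rw [map_mul] at this
    exact isUnit_of_mul_isUnit_right this
  have hfX : aeval P.X f = 0 := (StandardEtalePair.hasMap_X (P := P)).1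
  have key : ∀ (M : Ideal P.Ring) [M.IsPrime],
      maximalIdeal R ≤ M.comap (algebraMap R P.Ring) → P.X - algebraMap R P.Ring a₀ ∈ M := by
    intro M _ hM
    have h2 := congrArg (fun p => aeval P.X p) hdiv
    simp only [map_add, map_mul, map_sub, aeval_X, aeval_C] at h2
    rw [hfX] at h2
    have h3 : (P.X - algebraMap R P.Ring a₀) * aeval P.X G =
        -algebraMap R P.Ring (f.eval a₀) := by
      linear_combination -h2
    have h4 : (P.X - algebraMap R P.Ring a₀) * aeval P.X G ∈ M := by
      rw [h3]
      exact neg_mem (hM h0)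
    rcases Ideal.IsPrime.mem_or_mem inferInstance h4 with h5 | h5
    · exact h5
    · exact absurd (Ideal.eq_top_of_isUnit_mem _ h5 hGu) (Ideal.IsPrime.ne_top inferInstance)
  -- the kernel of χ is contained in every prime over `m`
  have hker : ∀ (M : Ideal P.Ring) [M.IsPrime],
      maximalIdeal R ≤ M.comap (algebraMap R P.Ring) → RingHom.ker χ.toRingHom ≤ M := by
    intro M _ hM
    let ι : ResidueField R →ₐ[R] P.Ring ⧸ M :=
      Ideal.Quotient.liftₐ (maximalIdeal R) (Algebra.ofId R (P.Ring ⧸ M)) (by
        intro r hr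
        show algebraMap R (P.Ring ⧸ M) r = 0
        rw [IsScalarTower.algebraMap_apply R P.Ring (P.Ring ⧸ M), Ideal.Quotient.algebraMap_eq,
          Ideal.Quotient.eq_zero_iff_mem]
        exact hM hr)
    have hcomp : ι.comp χ = Ideal.Quotient.mkₐ R M := by
      apply StandardEtalePair.hom_ext
      rw [AlgHom.comp_apply, hχX, Ideal.Quotient.mkₐ_eq_mk]
      have : ι (residue R a₀) = algebraMap R (P.Ring ⧸ M) a₀ := rfl
      rw [this, IsScalarTower.algebraMap_apply R P.Ring (P.Ring ⧸ M),
        Ideal.Quotient.algebraMap_eq, eq_comm, Ideal.Quotient.eq]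
      exact key M hM
    intro s hs
    have h2 := congrArg (fun g => g s) hcomp
    simp only [AlgHom.comp_apply, Ideal.Quotient.mkₐ_eq_mk] at h2
    rw [RingHom.mem_ker] at hs
    have hs' : χ s = 0 := hs
    rw [hs', map_zero] at h2
    exact Ideal.Quotient.eq_zero_iff_mem.1 h2.symm
  have hχsurj : Function.Surjective χ := by
    intro z
    obtain ⟨r, rfl⟩ := residue_surjective z
    exact ⟨algebraMap R P.Ring r, χ.commutes r⟩
  have hkmax : (RingHom.ker χ.toRingHom).IsMaximal :=
    RingHom.ker_isMaximal_of_surjective _ hχsurj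
  have hkover : (RingHom.ker χ.toRingHom).comap (algebraMap R P.Ring) = maximalIdeal R := by
    ext r
    rw [Ideal.mem_comap, RingHom.mem_ker]
    show χ (algebraMap R P.Ring r) = 0 ↔ _
    rw [χ.commutes, IsLocalRing.ResidueField.algebraMap_eq, residue_eq_zero_iff]
  -- `e` is not in the kernel
  have heχ : χ e = 1 := by
    have hid : IsIdempotentElem (χ e) := he.map χ
    rcases IsIdempotentElem.iff_eq_zero_or_one.1 hid with h0' | h1'
    · exfalso
      have hle : Ideal.span ({e} : Set P.Ring) ≤ RingHom.ker χ.toRingHom := by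
        rw [Ideal.span_le, Set.singleton_subset_iff]
        exact h0'
      let χ' : P.Ring ⧸ Ideal.span ({e} : Set P.Ring) →ₐ[R] ResidueField R :=
        Ideal.Quotient.liftₐ _ χ (fun a ha => hle ha)
      have hχ'surj : Function.Surjective χ' := by
        intro z
        obtain ⟨s, rfl⟩ := hχsurj z
        exact ⟨Ideal.Quotient.mk _ s, rfl⟩
      have hmax' : (RingHom.ker χ'.toRingHom).IsMaximal :=
        RingHom.ker_isMaximal_of_surjective _ hχ'surj
      have hprime' : (RingHom.ker χ'.toRingHom).IsPrime := hmax'.isPrime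
      have hlies : (RingHom.ker χ'.toRingHom).LiesOver (maximalIdeal R) := by
        refine ⟨?_⟩
        ext r
        rw [Ideal.under_def, Ideal.mem_comap, RingHom.mem_ker]
        show _ ↔ χ' (algebraMap R _ r) = 0
        rw [χ'.commutes, IsLocalRing.ResidueField.algebraMap_eq, residue_eq_zero_iff]
      exact hnq (RingHom.ker χ'.toRingHom) hlies inferInstance
    · exact h1'
  -- the finite part
  have h1e : (1 - e) ∈ RingHom.ker χ.toRingHom := by
    rw [RingHom.mem_ker]
    show χ (1 - e) = 0
    rw [map_sub, map_one, heχ, sub_self]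
  have hle : Ideal.span ({1 - e} : Set P.Ring) ≤ RingHom.ker χ.toRingHom := by
    rw [Ideal.span_le, Set.singleton_subset_iff]
    exact h1e
  let χA : P.Ring ⧸ Ideal.span ({1 - e} : Set P.Ring) →ₐ[R] ResidueField R :=
    Ideal.Quotient.liftₐ _ χ (fun a ha => hle ha)
  have hχAmk : ∀ s, χA (Ideal.Quotient.mk _ s) = χ s := fun s => rfl
  have hχAsurj : Function.Surjective χA := by
    intro z
    obtain ⟨s, rfl⟩ := hχsurj z
    exact ⟨Ideal.Quotient.mk _ s, rfl⟩
  have hmaxA : (RingHom.ker χA.toRingHom).IsMaximal :=
    RingHom.ker_isMaximal_of_surjective _ hχAsurj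
  have hint : Algebra.IsIntegral R (P.Ring ⧸ Ideal.span ({1 - e} : Set P.Ring)) :=
    Algebra.IsIntegral.of_finite R _
  have hlocA : IsLocalRing (P.Ring ⧸ Ideal.span ({1 - e} : Set P.Ring)) := by
    refine IsLocalRing.of_unique_max_ideal ⟨_, hmaxA, fun M hM => ?_⟩
    have hM1 : (M.comap (algebraMap R (P.Ring ⧸ Ideal.span ({1 - e} : Set P.Ring)))).IsMaximal :=
      Ideal.isMaximal_comap_of_isIntegral_of_isMaximal M
    have hM2 := IsLocalRing.eq_maximalIdeal hM1
    have hMp : (M.comap (Ideal.Quotient.mk (Ideal.span ({1 - e} : Set P.Ring)))).IsPrime :=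
      Ideal.comap_isPrime _ _
    have hM3 : maximalIdeal R ≤
        (M.comap (Ideal.Quotient.mk (Ideal.span ({1 - e} : Set P.Ring)))).comap
          (algebraMap R P.Ring) := by
      rw [Ideal.comap_comap, ← hM2]
      rfl
    have hM4 := hker _ hM3
    have hM5 : RingHom.ker χA.toRingHom ≤ M := by
      intro a ha
      obtain ⟨s, rfl⟩ := Ideal.Quotient.mk_surjective a
      rw [RingHom.mem_ker] at ha
      have ha' : χ s = 0 := ha
      exact hM4 (RingHom.mem_ker.2 ha')
    exact (hmaxA.eq_of_le hM.ne_top hM5).symm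
  have hkerA : RingHom.ker χA.toRingHom =
      maximalIdeal (P.Ring ⧸ Ideal.span ({1 - e} : Set P.Ring)) :=
    IsLocalRing.eq_maximalIdeal hmaxA
  have hawayA : IsLocalization.Away e (P.Ring ⧸ Ideal.span ({1 - e} : Set P.Ring)) :=
    IsLocalization.Away.quotient_of_isIdempotentElem he
  have hetA' : Algebra.Etale P.Ring (P.Ring ⧸ Ideal.span ({1 - e} : Set P.Ring)) :=
    Algebra.Etale.of_isLocalizationAway e
  have hetA : Algebra.Etale R (P.Ring ⧸ Ideal.span ({1 - e} : Set P.Ring)) :=
    Algebra.Etale.comp R P.Ring _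
  have hlh : IsLocalHom (algebraMap R (P.Ring ⧸ Ideal.span ({1 - e} : Set P.Ring))) := by
    constructor
    intro r hu
    have h2 := hu.map χA
    rw [χA.commutes, IsLocalRing.ResidueField.algebraMap_eq, isUnit_iff_ne_zero,
      residue_ne_zero_iff_isUnit] at h2
    exact h2
  have hres : Function.Surjective
      (algebraMap R (ResidueField (P.Ring ⧸ Ideal.span ({1 - e} : Set P.Ring)))) := by
    intro z
    obtain ⟨a, rfl⟩ := residue_surjective z
    obtain ⟨r, hr⟩ := residue_surjective (χA a)
    refine ⟨r, ?_⟩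
    rw [IsScalarTower.algebraMap_apply R (P.Ring ⧸ Ideal.span ({1 - e} : Set P.Ring)),
      IsLocalRing.ResidueField.algebraMap_eq, ← sub_eq_zero, ← map_sub, residue_eq_zero_iff,
      ← hkerA, RingHom.mem_ker]
    show χA (algebraMap R _ r - a) = 0
    rw [map_sub, χA.commutes, IsLocalRing.ResidueField.algebraMap_eq, hr, sub_self]
  have hbij := bijective_algebraMap_of_finite_etale
    (R := R) (A := P.Ring ⧸ Ideal.span ({1 - e} : Set P.Ring)) hres
  let σ : (P.Ring ⧸ Ideal.span ({1 - e} : Set P.Ring)) ≃ₐ[R] R :=
    (AlgEquiv.ofBijective (Algebra.ofId R _) hbij).symm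
  let φ : P.Ring →ₐ[R] R := σ.toAlgHom.comp (Ideal.Quotient.mkₐ R _)
  have hroot : P.HasMap (φ P.X) := StandardEtalePair.hasMap_X.map φ
  refine ⟨φ P.X, ?_, ?_⟩
  · have := hroot.1
    rw [Polynomial.IsRoot.def, ← Polynomial.coe_aeval_eq_eval]
    exact this
  · have hMp : ((maximalIdeal R).comap φ.toRingHom).IsPrime := Ideal.comap_isPrime _ _
    have hM3 : maximalIdeal R ≤ ((maximalIdeal R).comap φ.toRingHom).comap
        (algebraMap R P.Ring) := by
      intro r hr
      rw [Ideal.mem_comap, Ideal.mem_comap]
      show φ (algebraMap R P.Ring r) ∈ maximalIdeal R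
      rw [φ.commutes]
      exact hr
    have h5 := key _ hM3
    rw [Ideal.mem_comap] at h5
    have h6 : φ (P.X - algebraMap R P.Ring a₀) ∈ maximalIdeal R := h5
    rw [map_sub, φ.commutes] at h6
    exact h6

end Main

end Groth.Agent.Lib.Helper24.HenselSplitting
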