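import Mathlib
import Groth.Agent.Lib.Helper24.HenselLocal

/-!
# Splitting off the finite part of a finite type algebra over a henselian local ring
-/

open IsLocalRing TensorProduct

namespace Groth.Agent.Lib.Helper24.QuasiFiniteSplit

universe u

open Groth.Agent.Lib.helper24.HenselLocal

section Transfer

variable {R S : Type*} [CommRing R] [CommRing S] [Algebra R S]

/-- quasi-finiteness at a prime of a quotient by an idempotent passes to the preimage. -/
theorem quasiFiniteAt_comap_of_idempotent (e : S) (he : IsIdempotentElem e)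
    (q' : Ideal (S ⧸ Ideal.span ({e} : Set S))) [q'.IsPrime] [Algebra.QuasiFiniteAt R q'] :
    Algebra.QuasiFiniteAt R (q'.comap (algebraMap S (S ⧸ Ideal.span ({e} : Set S)))) := by
  have haway : IsLocalization.Away (1 - e) (S ⧸ Ideal.span ({e} : Set S)) :=
    IsLocalization.away_of_isIdempotentElem he.one_sub
      (by rw [Ideal.Quotient.algebraMap_eq, Ideal.mk_ker, sub_sub_cancel])
      Ideal.Quotient.mk_surjective
  have : IsLocalization.AtPrime (Localization.AtPrime q')
      (q'.comap (algebraMap S (S ⧸ Ideal.span ({e} : Set S)))) :=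
    IsLocalization.isLocalization_isLocalization_atPrime_isLocalization
      (.powers (1 - e)) _ q'
  exact (Algebra.QuasiFinite.iff_of_algEquiv
    ((IsLocalization.algEquiv (q'.comap (algebraMap S (S ⧸ Ideal.span ({e} : Set S)))).primeCompl
      (Localization.AtPrime (q'.comap (algebraMap S (S ⧸ Ideal.span ({e} : Set S)))))
      (Localization.AtPrime q')).restrictScalars R)).2 inferInstance

end Transfer

section Finiteness

variable {R S : Type*} [CommRing R] [CommRing S] [Algebra R S] [Algebra.FiniteType R S]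

/-- There are finitely many primes over a given prime at which the algebra is quasi-finite. -/
theorem finite_quasiFiniteAt (p : PrimeSpectrum R) :
    {q : PrimeSpectrum S | q.comap (algebraMap R S) = p ∧
      Algebra.QuasiFiniteAt R q.asIdeal}.Finite := by
  have hnoeth : IsNoetherianRing (p.asIdeal.Fiber S) :=
    Algebra.FiniteType.isNoetherianRing p.asIdeal.ResidueField _
  have hX : TopologicalSpace.NoetherianSpace (PrimeSpectrum.comap (algebraMap R S) ⁻¹' {p}) :=
    (PrimeSpectrum.preimageHomeomorphFiber R S p).isInducing.noetherianSpace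
  let D : Set (PrimeSpectrum.comap (algebraMap R S) ⁻¹' {p}) := {x | IsOpen {x}}
  have hDc : IsCompact D := TopologicalSpace.NoetherianSpace.isCompact D
  have hDd : DiscreteTopology D := by
    rw [discreteTopology_iff_isOpen_singleton]
    intro x
    have : ({x} : Set D) = Subtype.val ⁻¹' {x.1} := by
      ext y
      simp [Subtype.ext_iff]
    rw [this]
    have hx : IsOpen ({x.1} : Set (PrimeSpectrum.comap (algebraMap R S) ⁻¹' {p})) := x.2
    exact hx.preimage continuous_subtype_val
  have hDf : D.Finite := hDc.finite (isDiscrete_iff_discreteTopology.2 hDd)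
  refine (hDf.image (fun x => x.1)).subset ?_
  intro q hq
  obtain ⟨hqp, hqf⟩ := hq
  subst hqp
  refine ⟨⟨q, rfl⟩, ?_, rfl⟩
  exact (Algebra.quasiFiniteAt_iff_isOpen_singleton_fiber q).1 hqf

end Finiteness

section Binary

variable {R S : Type*} [CommRing R] [CommRing S] [Algebra R S]

/-- multiplication by an idempotent, as a map out of the quotient by its complement. -/
noncomputable def mulIdem (e₁ e : S) (he₁ : IsIdempotentElem e₁) :
    (S ⧸ Ideal.span ({1 - e₁} : Set S)) →ₗ[S] (S ⧸ Ideal.span ({1 - e} : Set S)) :=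
  Submodule.liftQ (Ideal.span ({1 - e₁} : Set S))
    ((Submodule.mkQ (Ideal.span ({1 - e} : Set S))) ∘ₗ (LinearMap.mulRight S e₁)) (by
      rw [Ideal.span_le, Set.singleton_subset_iff]
      show (1 - e₁) ∈ LinearMap.ker _
      rw [LinearMap.mem_ker, LinearMap.comp_apply, LinearMap.mulRight_apply, sub_mul, one_mul,
        he₁.eq, sub_self, map_zero])

theorem mulIdem_mk (e₁ e : S) (he₁ : IsIdempotentElem e₁) (x : S) :
    mulIdem e₁ e he₁ (Ideal.Quotient.mk _ x) = Ideal.Quotient.mk _ (x * e₁) := rfl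

theorem finite_quotient_sup (e₁ e₂ : S) (he₁ : IsIdempotentElem e₁) (he₂ : IsIdempotentElem e₂)
    (h₁ : Module.Finite R (S ⧸ Ideal.span ({1 - e₁} : Set S)))
    (h₂ : Module.Finite R (S ⧸ Ideal.span ({1 - e₂} : Set S))) :
    Module.Finite R (S ⧸ Ideal.span ({1 - (e₁ + e₂ - e₁ * e₂)} : Set S)) := by
  let Φ : ((S ⧸ Ideal.span ({1 - e₁} : Set S)) × (S ⧸ Ideal.span ({1 - e₂} : Set S))) →ₗ[S]
      (S ⧸ Ideal.span ({1 - (e₁ + e₂ - e₁ * e₂)} : Set S)) :=
    (mulIdem e₁ _ he₁).coprod (mulIdem e₂ _ he₂)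
  have hsurj : Function.Surjective Φ := by
    intro z
    obtain ⟨z, rfl⟩ := Ideal.Quotient.mk_surjective z
    refine ⟨(Ideal.Quotient.mk _ z, Ideal.Quotient.mk _ (z * (1 - e₁))), ?_⟩
    rw [LinearMap.coprod_apply, mulIdem_mk, mulIdem_mk, ← map_add, Ideal.Quotient.eq,
      Ideal.mem_span_singleton']
    refine ⟨-z, ?_⟩
    ring
  exact Module.Finite.of_surjective (Φ.restrictScalars R) hsurj

end Binary

section Peel

variable {R : Type u} [CommRing R] [HenselianLocalRing R] {S : Type u} [CommRing S] [Algebra R S]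
  [Algebra.FiniteType R S]

theorem exists_idempotent_of_quasiFiniteAt (q : Ideal S) [q.IsPrime]
    [hqm : q.LiesOver (maximalIdeal R)] [Algebra.QuasiFiniteAt R q] :
    ∃ e : S, IsIdempotentElem e ∧ e ∉ q ∧
      Module.Finite R (S ⧸ Ideal.span ({1 - e} : Set S)) := by
  obtain ⟨R', _, _, hEt, P, hPprime, hPlies, e', he', P', hP'prime, hP'lies, hP'q, he'P', hbij,
    hfin, -⟩ := Algebra.exists_etale_isIdempotentElem_forall_liesOver_eq (maximalIdeal R) q
  have hsurj : Function.Surjective (algebraMap R P.ResidueField) := by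
    intro z
    obtain ⟨w, rfl⟩ := hbij.2 z
    obtain ⟨r, rfl⟩ := Ideal.algebraMap_residueField_surjective (maximalIdeal R) w
    exact ⟨r, (AlgHom.commutes _ r).symm⟩
  obtain ⟨σ, hσ⟩ := exists_section_of_etale P hsurj
  let τ : R' ⊗[R] S →ₐ[R] S :=
    Algebra.TensorProduct.lift ((Algebra.ofId R S).comp σ) (AlgHom.id R S)
      (fun _ _ => Commute.all _ _)
  have hτ : ∀ r' s, τ (r' ⊗ₜ s) = algebraMap R S (σ r') * s := by
    intro r' s
    simp [τ, Algebra.ofId_apply]
  have hτalg : ∀ r' : R', τ (algebraMap R' (R' ⊗[R] S) r') = algebraMap R S (σ r') := by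
    intro r'
    rw [Algebra.TensorProduct.algebraMap_apply, Algebra.algebraMap_self, RingHom.id_apply, hτ,
      mul_one]
  refine ⟨τ e', he'.map τ, ?_, ?_⟩
  · intro hmem
    have hQ'prime : (q.comap τ.toRingHom).IsPrime := Ideal.comap_isPrime _ _
    have hQ'lies : (q.comap τ.toRingHom).LiesOver P := by
      refine ⟨?_⟩
      ext r'
      rw [Ideal.under_def, Ideal.mem_comap, Ideal.mem_comap, ← hσ, Ideal.mem_comap]
      show σ r' ∈ maximalIdeal R ↔ τ (algebraMap R' (R' ⊗[R] S) r') ∈ q
      rw [hτalg, hqm.over, Ideal.under_def, Ideal.mem_comap]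
    have hcomap : (q.comap τ.toRingHom).comap
        (Algebra.TensorProduct.includeRight : S →ₐ[R] R' ⊗[R] S).toRingHom =
        P'.comap (Algebra.TensorProduct.includeRight : S →ₐ[R] R' ⊗[R] S).toRingHom := by
      rw [hP'q]
      ext s
      rw [Ideal.mem_comap, Ideal.mem_comap]
      show τ (1 ⊗ₜ s) ∈ q ↔ _
      rw [hτ, map_one, map_one, one_mul]
    have heq := Ideal.eq_of_comap_eq_comap_of_bijective_residueFieldMap hbij
      (q.comap τ.toRingHom) P' hcomap
    apply he'P'
    rw [← heq, Ideal.mem_comap]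
    exact hmem
  · have haway : IsLocalization.Away e'
        ((R' ⊗[R] S) ⧸ Ideal.span ({1 - e'} : Set (R' ⊗[R] S))) :=
      IsLocalization.Away.quotient_of_isIdempotentElem he'
    let ε : Localization.Away e' ≃ₐ[R' ⊗[R] S]
        ((R' ⊗[R] S) ⧸ Ideal.span ({1 - e'} : Set (R' ⊗[R] S))) :=
      IsLocalization.algEquiv (Submonoid.powers e') _ _
    have hfinT : Module.Finite R' ((R' ⊗[R] S) ⧸ Ideal.span ({1 - e'} : Set (R' ⊗[R] S))) :=
      Module.Finite.equiv (ε.restrictScalars R').toLinearEquiv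
    obtain ⟨s, hs⟩ := hfinT.fg_top
    have hle : Ideal.span ({1 - e'} : Set (R' ⊗[R] S)) ≤
        (Ideal.span ({1 - τ e'} : Set S)).comap τ.toRingHom := by
      rw [Ideal.span_le, Set.singleton_subset_iff]
      show τ (1 - e') ∈ Ideal.span ({1 - τ e'} : Set S)
      rw [map_sub, map_one]
      exact Ideal.subset_span rfl
    let τb : ((R' ⊗[R] S) ⧸ Ideal.span ({1 - e'} : Set (R' ⊗[R] S))) →+*
        S ⧸ Ideal.span ({1 - τ e'} : Set S) := Ideal.quotientMap _ τ.toRingHom hle
    have hτb : ∀ x, τb (Ideal.Quotient.mk _ x) = Ideal.Quotient.mk _ (τ x) := fun x => rfl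
    classical
    refine ⟨⟨s.image τb, ?_⟩⟩
    rw [eq_top_iff]
    rintro y -
    obtain ⟨y, rfl⟩ := Ideal.Quotient.mk_surjective y
    have hy : Ideal.Quotient.mk (Ideal.span ({1 - τ e'} : Set S)) y =
        τb (Ideal.Quotient.mk _ (1 ⊗ₜ y)) := by
      rw [hτb, hτ, map_one, map_one, one_mul]
    rw [hy]
    have hmem : (Ideal.Quotient.mk (Ideal.span ({1 - e'} : Set (R' ⊗[R] S))) (1 ⊗ₜ y)) ∈
        Submodule.span R' (s : Set ((R' ⊗[R] S) ⧸ Ideal.span ({1 - e'} : Set (R' ⊗[R] S)))) := by
      rw [hs]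
      exact Submodule.mem_top
    refine Submodule.span_induction
      (p := fun t _ => τb t ∈ Submodule.span R (↑(s.image τb) : Set _)) ?_ ?_ ?_ ?_ hmem
    · intro t ht
      apply Submodule.subset_span
      rw [Finset.coe_image]
      exact ⟨t, ht, rfl⟩
    · rw [map_zero]
      exact Submodule.zero_mem _
    · intro a b _ _ ha hb
      rw [map_add]
      exact add_mem ha hb
    · intro r' t _ ht
      have hsemi : τb (r' • t) = σ r' • τb t := by
        obtain ⟨t, rfl⟩ := Ideal.Quotient.mk_surjective t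
        have h1 : r' • (Ideal.Quotient.mk (Ideal.span ({1 - e'} : Set (R' ⊗[R] S))) t) =
            Ideal.Quotient.mk _ (algebraMap R' (R' ⊗[R] S) r' * t) := by
          rw [← Algebra.smul_def]
          rfl
        rw [h1, hτb, hτb, map_mul, hτalg, ← Algebra.smul_def]
        rfl
      rw [hsemi]
      exact Submodule.smul_mem _ _ ht

end Peel

section Main

variable (R : Type u) [CommRing R] [HenselianLocalRing R] (S : Type u) [CommRing S] [Algebra R S]
  [Algebra.FiniteType R S]

/-- the set of primes over the maximal ideal at which `S` is quasi-finite. -/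
def qfSet : Set (PrimeSpectrum S) :=
  {q | q.comap (algebraMap R S) = closedPoint R ∧ Algebra.QuasiFiniteAt R q.asIdeal}

theorem exists_idempotent_finset (F : Finset (PrimeSpectrum S)) (hF : ↑F ⊆ qfSet R S) :
    ∃ e : S, IsIdempotentElem e ∧ Module.Finite R (S ⧸ Ideal.span ({1 - e} : Set S)) ∧
      ∀ q ∈ F, e ∉ q.asIdeal := by
  classical
  induction F using Finset.induction_on with
  | empty =>
    refine ⟨0, IsIdempotentElem.zero, ?_, by simp⟩
    have : Subsingleton (S ⧸ Ideal.span ({1 - 0} : Set S)) := by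
      rw [sub_zero, Ideal.span_singleton_one]
      exact Ideal.Quotient.subsingleton_iff.2 rfl
    infer_instance
  | insert q F hq ih =>
    obtain ⟨e₁, he₁, hfin₁, hmem₁⟩ := ih (fun x hx => hF (Finset.mem_insert_of_mem hx))
    obtain ⟨hqm, hqf⟩ := hF (Finset.mem_insert_self q F)
    have hlies : q.asIdeal.LiesOver (maximalIdeal R) := ⟨congrArg PrimeSpectrum.asIdeal hqm.symm⟩
    obtain ⟨e₂, he₂, hmem₂, hfin₂⟩ := exists_idempotent_of_quasiFiniteAt (R := R) q.asIdeal
    refine ⟨e₁ + e₂ - e₁ * e₂, ?_, finite_quotient_sup e₁ e₂ he₁ he₂ hfin₁ hfin₂, ?_⟩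
    · have h1 : IsIdempotentElem ((1 - e₁) * (1 - e₂)) := he₁.one_sub.mul he₂.one_sub
      have h2 : e₁ + e₂ - e₁ * e₂ = 1 - (1 - e₁) * (1 - e₂) := by ring
      rw [h2]
      exact h1.one_sub
    · intro x hx hmem
      rcases Finset.mem_insert.1 hx with rfl | hx
      · apply hmem₂
        have : e₂ = e₂ * (e₁ + e₂ - e₁ * e₂) := by
          have := he₂.eq
          linear_combination (e₁ - 1) * this
        rw [this]
        exact Ideal.mul_mem_left _ _ hmem
      · apply hmem₁ x hx
        have : e₁ = e₁ * (e₁ + e₂ - e₁ * e₂) := by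
          have := he₁.eq
          linear_combination (e₂ - 1) * this
        rw [this]
        exact Ideal.mul_mem_left _ _ hmem

/-- **Splitting off the finite part** (Stacks 04GG (11)). -/
theorem exists_idempotent_split :
    ∃ e : S, IsIdempotentElem e ∧ Module.Finite R (S ⧸ Ideal.span ({1 - e} : Set S)) ∧
      ∀ (q : Ideal (S ⧸ Ideal.span ({e} : Set S))) [q.IsPrime],
        q.LiesOver (IsLocalRing.maximalIdeal R) → ¬ Algebra.QuasiFiniteAt R q := by
  have hfin : (qfSet R S).Finite := finite_quasiFiniteAt (closedPoint R)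
  obtain ⟨e, he, hefin, hmem⟩ := exists_idempotent_finset R S hfin.toFinset (by simp)
  refine ⟨e, he, hefin, ?_⟩
  intro q' hq'prime hq'lies hq'qf
  have hqf := quasiFiniteAt_comap_of_idempotent (R := R) e he q'
  let q : PrimeSpectrum S := ⟨q'.comap (algebraMap S (S ⧸ Ideal.span ({e} : Set S))), inferInstance⟩
  have hq : q ∈ qfSet R S := by
    refine ⟨?_, hqf⟩
    apply PrimeSpectrum.ext
    show (q'.comap (algebraMap S (S ⧸ Ideal.span ({e} : Set S)))).comap (algebraMap R S) =
      maximalIdeal R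
    rw [Ideal.comap_comap, hq'lies.over, Ideal.under_def]
    rfl
  apply hmem q (by simpa using hq)
  show algebraMap S (S ⧸ Ideal.span ({e} : Set S)) e ∈ q'
  have h0 : Ideal.Quotient.mk (Ideal.span ({e} : Set S)) e = 0 :=
    Ideal.Quotient.eq_zero_iff_mem.2 (Ideal.subset_span (Set.mem_singleton e))
  rw [Ideal.Quotient.algebraMap_eq, h0]
  exact Ideal.zero_mem _

/-- **Splitting a quasi-finite algebra** (Stacks 04GG (10)). -/
theorem exists_idempotent_split_quasiFinite [Algebra.QuasiFinite R S] :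
    ∃ e : S, IsIdempotentElem e ∧ Module.Finite R (S ⧸ Ideal.span ({1 - e} : Set S)) ∧
      Ideal.map (algebraMap R (S ⧸ Ideal.span ({e} : Set S))) (IsLocalRing.maximalIdeal R) = ⊤ := by
  obtain ⟨e, he, hefin, hnq⟩ := exists_idempotent_split R S
  refine ⟨e, he, hefin, ?_⟩
  by_contra hne
  obtain ⟨M, hM, hle⟩ := Ideal.exists_le_maximal _ hne
  have hMp : M.IsPrime := hM.isPrime
  have hlies : M.LiesOver (maximalIdeal R) := by
    refine ⟨?_⟩
    have h1 : maximalIdeal R ≤ M.comap (algebraMap R (S ⧸ Ideal.span ({e} : Set S))) :=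
      Ideal.map_le_iff_le_comap.1 hle
    exact (maximalIdeal.isMaximal R).eq_of_le (Ideal.comap_ne_top _ hM.ne_top) h1
  exact hnq M hlies inferInstance

end Main

end Groth.Agent.Lib.Helper24.QuasiFiniteSplit
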