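import Mathlib
import Groth.Agent.Lib.Helper24.HenselLocal
import Groth.Agent.Lib.Helper24.HenselSplitting
import Groth.Agent.Lib.Helper24.QuasiFiniteSplit

/-!
# Local rings integral over a henselian local ring are henselian
-/

set_option autoImplicit false
open IsLocalRing Polynomial

universe u

namespace Groth.Agent.Lib.Helper24.IntegralHensel

open Groth.Agent.Lib.helper24.HenselLocal

/-- an integral algebra map out of a local ring into a nontrivial ring is local. -/
theorem isLocalHom_of_isIntegral (A B : Type*) [CommRing A] [IsLocalRing A] [CommRing B]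
    [Nontrivial B] [Algebra A B] [Algebra.IsIntegral A B] : IsLocalHom (algebraMap A B) := by
  have hint : (algebraMap A B).IsIntegral := algebraMap_isIntegral_iff.mpr inferInstance
  haveI : Nontrivial (A ⧸ RingHom.ker (algebraMap A B)) :=
    Ideal.Quotient.nontrivial_iff.2 (RingHom.ker_ne_top _)
  haveI h1 : IsLocalHom (Ideal.Quotient.mk (RingHom.ker (algebraMap A B))) :=
    IsLocalHom.of_surjective _ Ideal.Quotient.mk_surjective
  haveI h2 : IsLocalHom (algebraMap A B).kerLift :=
    hint.kerLift.isLocalHom (RingHom.kerLift_injective _)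
  have : algebraMap A B = (algebraMap A B).kerLift.comp
      (Ideal.Quotient.mk (RingHom.ker (algebraMap A B))) := by
    ext a; rfl
  rw [this]
  infer_instance

/-- A subring of a local ring over which the latter is integral is local. -/
theorem isLocalRing_of_injective_of_isIntegral (B₀ B : Type*) [CommRing B₀] [CommRing B]
    [IsLocalRing B] [Algebra B₀ B] [Algebra.IsIntegral B₀ B]
    (hinj : Function.Injective (algebraMap B₀ B)) : IsLocalRing B₀ := by
  have hint : (algebraMap B₀ B).IsIntegral := algebraMap_isIntegral_iff.mpr inferInstance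
  haveI : IsLocalHom (algebraMap B₀ B) := hint.isLocalHom hinj
  exact RingHom.domain_isLocalRing (algebraMap B₀ B)

/-- A local ring finite over a henselian local ring is henselian. -/
theorem henselian_of_finite (A B : Type u) [CommRing A] [HenselianLocalRing A] [CommRing B]
    [IsLocalRing B] [Algebra A B] [Module.Finite A B] : HenselianLocalRing B := by
  apply Groth.Agent.Lib.Helper24.HenselSplitting.henselian_of_splitting B
  intro S _ _ _
  letI : Algebra A S := ((algebraMap B S).comp (algebraMap A B)).toAlgebra
  haveI : IsScalarTower A B S := IsScalarTower.of_algebraMap_eq' rfl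
  haveI : Algebra.FiniteType A S :=
    Algebra.FiniteType.trans (inferInstance : Algebra.FiniteType A B) inferInstance
  obtain ⟨e, he, hfin, hnq⟩ :=
    Groth.Agent.Lib.Helper24.QuasiFiniteSplit.exists_idempotent_split A S
  refine ⟨e, he, ?_, ?_⟩
  · exact Module.Finite.of_restrictScalars_finite A B _
  · intro q _ hq hqf
    haveI : IsLocalHom (algebraMap A B) := isLocalHom_of_isIntegral A B
    haveI : (maximalIdeal B).LiesOver (maximalIdeal A) :=
      ⟨(IsLocalRing.maximalIdeal_comap (algebraMap A B)).symm⟩
    have hq' : q.LiesOver (maximalIdeal A) := Ideal.LiesOver.trans q (maximalIdeal B) (maximalIdeal A)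
    refine hnq q hq' ?_
    haveI : Algebra.QuasiFinite B (Localization.AtPrime q) := hqf
    exact Algebra.QuasiFinite.trans A B (Localization.AtPrime q)

/-- A local ring integral over a henselian local ring is henselian. -/
theorem henselian_of_isIntegral (A B : Type u) [CommRing A] [HenselianLocalRing A] [CommRing B]
    [IsLocalRing B] [Algebra A B] [Algebra.IsIntegral A B] : HenselianLocalRing B := by
  refine ⟨fun f hf a₀ h0 h1 => ?_⟩
  classical
  let s : Finset B := f.coeffs ∪ {a₀}
  let B₀ : Subalgebra A B := Algebra.adjoin A (s : Set B)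
  haveI : Module.Finite A B₀ :=
    Algebra.finite_adjoin_of_finite_of_isIntegral s.finite_toSet
      (fun x _ => Algebra.IsIntegral.isIntegral x)
  haveI : Algebra.IsIntegral B₀ B := Algebra.IsIntegral.tower_top A
  have hinj : Function.Injective (algebraMap B₀ B) := Subtype.val_injective
  haveI : IsLocalRing B₀ := isLocalRing_of_injective_of_isIntegral B₀ B hinj
  haveI : HenselianLocalRing B₀ := henselian_of_finite A B₀
  haveI : IsLocalHom (algebraMap B₀ B) :=
    (algebraMap_isIntegral_iff.mpr inferInstance).isLocalHom hinj
  have hfl : f ∈ Polynomial.lifts (algebraMap B₀ B) := by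
    rw [Polynomial.lifts_iff_coeffs_subset_range]
    intro c hc
    exact ⟨⟨c, Algebra.subset_adjoin (by simp [s, Finset.mem_coe.1 hc])⟩, rfl⟩
  obtain ⟨f₀, hf₀, -, hf₀m⟩ := Polynomial.lifts_and_degree_eq_and_monic hfl hf
  let a₀' : B₀ := ⟨a₀, Algebra.subset_adjoin (by simp [s])⟩
  have hev : ∀ (g : B₀[X]) (x : B₀), (g.map (algebraMap B₀ B)).eval (algebraMap B₀ B x) =
      algebraMap B₀ B (g.eval x) := by
    intro g x
    rw [Polynomial.eval_map_algebraMap, Polynomial.aeval_algebraMap_apply,
      Polynomial.coe_aeval_eq_eval]
  have e1 : algebraMap B₀ B (f₀.eval a₀') = f.eval a₀ := by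
    rw [← hev, hf₀]; rfl
  have e2 : algebraMap B₀ B (f₀.derivative.eval a₀') = f.derivative.eval a₀ := by
    rw [← hev, ← Polynomial.derivative_map, hf₀]; rfl
  have h0' : f₀.eval a₀' ∈ maximalIdeal B₀ := by
    rw [IsLocalRing.mem_maximalIdeal, mem_nonunits_iff]
    intro hunit
    have := hunit.map (algebraMap B₀ B)
    rw [e1] at this
    exact (IsLocalRing.mem_maximalIdeal _).1 h0 this
  have h1' : IsUnit (f₀.derivative.eval a₀') := by
    apply isUnit_of_map_unit (algebraMap B₀ B)
    rw [e2]; exact h1
  obtain ⟨a, ha, haa⟩ := HenselianLocalRing.is_henselian f₀ hf₀m a₀' h0' h1'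
  refine ⟨algebraMap B₀ B a, ?_, ?_⟩
  · rw [Polynomial.IsRoot.def, ← hf₀, hev, ha, map_zero]
  · have := _root_.map_nonunit (algebraMap B₀ B) _ haa
    rwa [map_sub] at this

/-- A domain which is a finite product of local rings is local. -/
theorem isLocalRing_of_isPiLocal_of_isDomain (S : Type u) [CommRing S] [IsDomain S]
    (h : IsPiLocal S) : IsLocalRing S := by
  classical
  obtain ⟨ι, _, A, _, hloc, ⟨e⟩⟩ := h
  haveI : Nonempty ι := by
    by_contra hne
    rw [not_nonempty_iff] at hne
    have : (0 : S) = 1 := e.injective (Subsingleton.elim _ _)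
    exact zero_ne_one this
  haveI : Subsingleton ι := by
    refine ⟨fun i j => ?_⟩
    by_contra hij
    have hmul : e.symm (Pi.single i 1) * e.symm (Pi.single j 1) = 0 := by
      rw [← map_mul, ← Pi.single_mul_left, Pi.single_eq_of_ne hij, mul_zero, Pi.single_zero,
        map_zero]
    have hne : ∀ i, e.symm (Pi.single i (1 : A i)) ≠ 0 := by
      intro i h0
      have h1 : (Pi.single i (1 : A i) : ∀ i, A i) = 0 := by
        rw [← e.apply_symm_apply (Pi.single i (1 : A i)), h0, map_zero]
      have h2 := congrFun h1 i
      rw [Pi.single_eq_same, Pi.zero_apply] at h2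
      haveI := hloc i
      exact one_ne_zero h2
    rcases mul_eq_zero.1 hmul with h0 | h0
    · exact hne i h0
    · exact hne j h0
  haveI : Unique ι := Classical.choice ((unique_iff_subsingleton_and_nonempty ι).2 ⟨inferInstance, inferInstance⟩)
  haveI := hloc default
  exact (e.trans (RingEquiv.piUnique A)).symm.isLocalRing

/-- A domain integral over a henselian local ring is local. -/
theorem isLocalRing_of_isDomain_of_isIntegral (A B : Type u) [CommRing A] [HenselianLocalRing A]
    [CommRing B] [IsDomain B] [Algebra A B] [Algebra.IsIntegral A B] : IsLocalRing B := by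
  classical
  apply IsLocalRing.of_isUnit_or_isUnit_of_isUnit_add
  intro a b hab
  obtain ⟨c, hc⟩ := hab.exists_right_inv
  let s : Finset B := {a, b, c}
  let B₁ : Subalgebra A B := Algebra.adjoin A (s : Set B)
  haveI : Module.Finite A B₁ :=
    Algebra.finite_adjoin_of_finite_of_isIntegral s.finite_toSet
      (fun x _ => Algebra.IsIntegral.isIntegral x)
  haveI : IsLocalRing B₁ :=
    isLocalRing_of_isPiLocal_of_isDomain B₁ (isPiLocal_of_finite A B₁)
  let a' : B₁ := ⟨a, Algebra.subset_adjoin (by simp [s])⟩
  let b' : B₁ := ⟨b, Algebra.subset_adjoin (by simp [s])⟩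
  let c' : B₁ := ⟨c, Algebra.subset_adjoin (by simp [s])⟩
  have hu : IsUnit (a' + b') := by
    refine IsUnit.of_mul_eq_one c' ?_
    apply Subtype.ext
    exact hc
  rcases IsLocalRing.isUnit_or_isUnit_of_isUnit_add hu with h | h
  · exact Or.inl (h.map (algebraMap B₁ B))
  · exact Or.inr (h.map (algebraMap B₁ B))

theorem isIntegral_residueField_map (A B : Type*) [CommRing A] [IsLocalRing A] [CommRing B]
    [IsLocalRing B] [Algebra A B] [IsLocalHom (algebraMap A B)] [Algebra.IsIntegral A B] :
    (ResidueField.map (algebraMap A B)).IsIntegral := by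
  have h1 : (algebraMap A B).IsIntegral := algebraMap_isIntegral_iff.mpr inferInstance
  have h2 : (residue B).IsIntegral := RingHom.isIntegral_of_surjective _ residue_surjective
  have h3 := RingHom.IsIntegral.trans _ _ h1 h2
  have h4 : (ResidueField.map (algebraMap A B)).comp (residue A) =
      (residue B).comp (algebraMap A B) := ResidueField.map_comp_residue _
  exact RingHom.IsIntegral.tower_top (residue A) _ (h4 ▸ h3)

/-- Residue fields of a local ring integral over a local ring with separably closed residue
field. -/
theorem residueField_of_isSepClosed (A B : Type*) [CommRing A] [IsLocalRing A] [CommRing B]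
    [IsLocalRing B] [Algebra A B] [IsLocalHom (algebraMap A B)] [Algebra.IsIntegral A B]
    [IsSepClosed (ResidueField A)] :
    IsSepClosed (ResidueField B) ∧
      letI := (ResidueField.map (algebraMap A B)).toAlgebra
      IsPurelyInseparable (ResidueField A) (ResidueField B) := by
  letI := (ResidueField.map (algebraMap A B)).toAlgebra
  haveI : Algebra.IsIntegral (ResidueField A) (ResidueField B) :=
    algebraMap_isIntegral_iff.mp (isIntegral_residueField_map A B)
  exact ⟨Algebra.IsAlgebraic.isSepClosed (F := ResidueField A), inferInstance⟩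

end Groth.Agent.Lib.Helper24.IntegralHensel
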