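import Mathlib
import Groth.Prelude.Def_Hensel
import Groth.Agent.Lib.Helper24.IntegralHensel
import Groth.Agent.Lib.Helper24.HensRegular
import Groth.Agent.Lib.Helper24.HensAtPrime
import Groth.Agent.Lib.Helper24.HenselizationFlat

/-!
# Henselization commutes with integral local extensions: `B ⊗[A] A^h = B^h`.
-/

set_option autoImplicit false
open IsLocalRing TensorProduct

universe u

namespace Groth.Agent.Lib.Helper24.HensIntegralTensor

variable (A B S : Type u) [CommRing A] [IsLocalRing A]
    [CommRing B] [IsLocalRing B] [Algebra A B] [IsLocalHom (algebraMap A B)] [Algebra.IsIntegral A B]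
    [CommRing S] [IsLocalRing S] [Algebra A S] [IsLocalHom (algebraMap A S)]
    [Hensel.IsHenselization A S]

/-- `B ⊗[A] S` is integral over `S`. -/
theorem isIntegral_right :
    (Algebra.TensorProduct.includeRight : S →ₐ[A] B ⊗[A] S).toRingHom.IsIntegral := by
  intro x
  induction x using TensorProduct.induction_on with
  | zero => exact RingHom.isIntegralElem_zero _
  | tmul b s =>
    have h1 : (Algebra.TensorProduct.includeRight : S →ₐ[A] B ⊗[A] S).toRingHom.IsIntegralElem
        (b ⊗ₜ[A] (1 : S)) := by
      have hb : (algebraMap A B).IsIntegralElem b := Algebra.IsIntegral.isIntegral (R := A) b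
      have hb' := hb.map (algebraMap B (B ⊗[A] S))
      have hc : (algebraMap B (B ⊗[A] S)).comp (algebraMap A B) =
          (Algebra.TensorProduct.includeRight : S →ₐ[A] B ⊗[A] S).toRingHom.comp
            (algebraMap A S) := by
        ext a
        simp [Algebra.algebraMap_eq_smul_one]
      rw [hc] at hb'
      exact hb'.of_comp
    have h2 : (Algebra.TensorProduct.includeRight : S →ₐ[A] B ⊗[A] S).toRingHom.IsIntegralElem
        ((1 : B) ⊗ₜ[A] s) := RingHom.isIntegralElem_map _
    have : b ⊗ₜ[A] s = (b ⊗ₜ[A] (1 : S)) * ((1 : B) ⊗ₜ[A] s) := by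
      rw [Algebra.TensorProduct.tmul_mul_tmul, mul_one, one_mul]
    rw [this]
    exact RingHom.IsIntegralElem.mul _ h1 h2
  | add x y hx hy => exact RingHom.IsIntegralElem.add _ hx hy

/-- the candidate maximal ideal of `B ⊗[A] S`. -/
noncomputable def J : Ideal (B ⊗[A] S) := (maximalIdeal B).map (algebraMap B (B ⊗[A] S))

theorem one_tmul_mem_J (t : S) (ht : t ∈ maximalIdeal S) : (1 : B) ⊗ₜ[A] t ∈ J A B S := by
  have : maximalIdeal S ≤ (J A B S).comap
      (Algebra.TensorProduct.includeRight : S →ₐ[A] B ⊗[A] S).toRingHom := by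
    rw [← Groth.Agent.Lib.Helper24.HensRegular.map_maximalIdeal_of_isHenselization A S,
      Ideal.map_le_iff_le_comap]
    intro α hα
    show (Algebra.TensorProduct.includeRight : S →ₐ[A] B ⊗[A] S) (algebraMap A S α) ∈ J A B S
    rw [AlgHom.commutes, IsScalarTower.algebraMap_apply A B (B ⊗[A] S)]
    exact Ideal.mem_map_of_mem _ (map_nonunit (algebraMap A B) α hα)
  exact this ht

theorem surjective_mk_J :
    Function.Surjective ((Ideal.Quotient.mk (J A B S)).comp (algebraMap B (B ⊗[A] S))) := by
  intro y
  obtain ⟨x, rfl⟩ := Ideal.Quotient.mk_surjective y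
  induction x using TensorProduct.induction_on with
  | zero => exact ⟨0, by simp⟩
  | tmul b s =>
    obtain ⟨a, ha⟩ := Groth.Agent.Lib.Helper24.HensAtPrime.exists_sub_mem A S s
    refine ⟨a • b, ?_⟩
    rw [RingHom.comp_apply, Ideal.Quotient.eq]
    have h1 : algebraMap B (B ⊗[A] S) (a • b) - b ⊗ₜ[A] s =
        - ((b ⊗ₜ[A] (1 : S)) * ((1 : B) ⊗ₜ[A] (s - algebraMap A S a))) := by
      rw [Algebra.TensorProduct.tmul_mul_tmul, mul_one, one_mul, TensorProduct.tmul_sub,
        Algebra.TensorProduct.algebraMap_apply, Algebra.algebraMap_eq_smul_one a,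
        ← TensorProduct.smul_tmul]
      simp
    rw [h1]
    exact neg_mem ((J A B S).mul_mem_left _ (one_tmul_mem_J A B S _ ha))
  | add x y hx hy =>
    obtain ⟨b1, h1⟩ := hx
    obtain ⟨b2, h2⟩ := hy
    exact ⟨b1 + b2, by rw [map_add, h1, h2, map_add]⟩

theorem faithfullyFlat_left : Module.FaithfullyFlat B (B ⊗[A] S) := by
  haveI : Module.FaithfullyFlat A S :=
    Groth.Agent.Lib.helper24.Henselization.faithfullyFlat_of_isHenselization A S
  infer_instance

theorem comap_J : (J A B S).comap (algebraMap B (B ⊗[A] S)) = maximalIdeal B := by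
  haveI := faithfullyFlat_left A B S
  exact Ideal.comap_map_eq_self_of_faithfullyFlat _

theorem isMaximal_J : (J A B S).IsMaximal := by
  have hker : RingHom.ker ((Ideal.Quotient.mk (J A B S)).comp (algebraMap B (B ⊗[A] S))) =
      maximalIdeal B := by
    rw [← RingHom.comap_ker, Ideal.mk_ker, comap_J]
  have hmax : (RingHom.ker ((Ideal.Quotient.mk (J A B S)).comp
      (algebraMap B (B ⊗[A] S)))).IsMaximal := by
    rw [hker]; infer_instance
  have hfld := (Ideal.Quotient.maximal_ideal_iff_isField_quotient _).1 hmax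
  apply Ideal.Quotient.maximal_of_isField
  exact MulEquiv.isField hfld
    (RingHom.quotientKerEquivOfSurjective (surjective_mk_J A B S)).symm.toMulEquiv

theorem eq_J_of_isMaximal (M : Ideal (B ⊗[A] S)) [hM : M.IsMaximal] : M = J A B S := by
  have hint := isIntegral_right A B S
  -- contraction to `S`
  have h1 : (M.comap (Algebra.TensorProduct.includeRight : S →ₐ[A] B ⊗[A] S).toRingHom).IsMaximal :=
    Ideal.isMaximal_comap_of_isIntegral_of_isMaximal' _ hint M
  have h2 : M.comap (Algebra.TensorProduct.includeRight : S →ₐ[A] B ⊗[A] S).toRingHom =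
      maximalIdeal S := IsLocalRing.eq_maximalIdeal h1
  -- contraction to `B`
  have h3 : (M.comap (algebraMap B (B ⊗[A] S))).comap (algebraMap A B) = maximalIdeal A := by
    rw [Ideal.comap_comap]
    have : (algebraMap B (B ⊗[A] S)).comp (algebraMap A B) =
        (Algebra.TensorProduct.includeRight : S →ₐ[A] B ⊗[A] S).toRingHom.comp
          (algebraMap A S) := by
      ext a
      simp [Algebra.algebraMap_eq_smul_one]
    rw [this, ← Ideal.comap_comap, h2]
    exact IsLocalRing.maximalIdeal_comap (algebraMap A S)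
  haveI : (M.comap (algebraMap B (B ⊗[A] S))).IsPrime := Ideal.comap_isPrime _ _
  have h4 : (M.comap (algebraMap B (B ⊗[A] S))).IsMaximal :=
    Ideal.isMaximal_of_isIntegral_of_isMaximal_comap _ (by rw [h3]; infer_instance)
  have h5 : M.comap (algebraMap B (B ⊗[A] S)) = maximalIdeal B := IsLocalRing.eq_maximalIdeal h4
  have h6 : J A B S ≤ M := by
    rw [J, Ideal.map_le_iff_le_comap, h5]
  exact ((isMaximal_J A B S).eq_of_le hM.ne_top h6).symm

theorem isLocalRing_tensor : IsLocalRing (B ⊗[A] S) :=
  IsLocalRing.of_unique_max_ideal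
    ⟨J A B S, isMaximal_J A B S, fun M hM => haveI := hM; eq_J_of_isMaximal A B S M⟩

theorem henselian_tensor : HenselianLocalRing (B ⊗[A] S) := by
  haveI := isLocalRing_tensor A B S
  letI : Algebra S (B ⊗[A] S) := Algebra.TensorProduct.rightAlgebra
  haveI : Algebra.IsIntegral S (B ⊗[A] S) :=
    algebraMap_isIntegral_iff.mp (isIntegral_right A B S)
  haveI : HenselianLocalRing S := Hensel.IsHenselization.henselian (R := A)
  exact Groth.Agent.Lib.Helper24.IntegralHensel.henselian_of_isIntegral S (B ⊗[A] S)

theorem isHenselization_tensor :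
    ∃ (_ : IsLocalRing (B ⊗[A] S)) (_ : IsLocalHom (algebraMap B (B ⊗[A] S))),
      Hensel.IsHenselization B (B ⊗[A] S) := by
  haveI hloc := isLocalRing_tensor A B S
  haveI := faithfullyFlat_left A B S
  have hlh : IsLocalHom (algebraMap B (B ⊗[A] S)) := inferInstance
  refine ⟨hloc, hlh, ?_⟩
  refine ⟨henselian_tensor A B S, ?_⟩
  intro T _ _ f hf
  haveI := hf
  -- the map from `S`
  have hf' : IsLocalHom (f.comp (algebraMap A B)) := inferInstance
  obtain ⟨h, hh, hhu⟩ := Hensel.IsHenselization.universal (R := A) (S := S) T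
    (f.comp (algebraMap A B)) hf'
  letI : Algebra A T := (f.comp (algebraMap A B)).toAlgebra
  let fA : B →ₐ[A] T := { f with commutes' := fun a => rfl }
  let hA : S →ₐ[A] T := { h with commutes' := fun a => congrArg (fun φ => φ a) hh }
  let g : B ⊗[A] S →ₐ[A] T := Algebra.TensorProduct.lift fA hA (fun _ _ => Commute.all _ _)
  refine ⟨g.toRingHom, ?_, ?_⟩
  · ext b
    show g (b ⊗ₜ[A] (1 : S)) = f b
    rw [Algebra.TensorProduct.lift_tmul]
    show f b * h 1 = f b
    rw [map_one, mul_one]
  · intro g' hg'
    have h1 : g'.comp (Algebra.TensorProduct.includeRight : S →ₐ[A] B ⊗[A] S).toRingHom = h := by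
      apply hhu
      rw [RingHom.comp_assoc]
      have : (Algebra.TensorProduct.includeRight : S →ₐ[A] B ⊗[A] S).toRingHom.comp
          (algebraMap A S) = (algebraMap B (B ⊗[A] S)).comp (algebraMap A B) := by
        ext a
        simp [Algebra.algebraMap_eq_smul_one]
      rw [this, ← RingHom.comp_assoc, hg']
    refine RingHom.ext fun x => ?_
    induction x using TensorProduct.induction_on with
    | zero => simp
    | tmul b s =>
      have e1 : b ⊗ₜ[A] s = algebraMap B (B ⊗[A] S) b *
          (Algebra.TensorProduct.includeRight : S →ₐ[A] B ⊗[A] S) s := by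
        rw [Algebra.TensorProduct.algebraMap_apply, Algebra.TensorProduct.includeRight_apply,
          Algebra.TensorProduct.tmul_mul_tmul, mul_one, one_mul]
        rfl
      have e2 : g' (algebraMap B (B ⊗[A] S) b) = f b := congrArg (fun φ => φ b) hg'
      have e3 : g' ((Algebra.TensorProduct.includeRight : S →ₐ[A] B ⊗[A] S) s) = h s :=
        congrArg (fun φ => φ s) h1
      rw [e1, map_mul, e2, e3]
      show f b * h s = g (algebraMap B (B ⊗[A] S) b *
        (Algebra.TensorProduct.includeRight : S →ₐ[A] B ⊗[A] S) s)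
      rw [← e1, Algebra.TensorProduct.lift_tmul]
      rfl
    | add x y hx hy => rw [map_add, hx, hy, map_add]

end Groth.Agent.Lib.Helper24.HensIntegralTensor
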