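import Mathlib

/-!
# Local rings of étale algebras over normal domains are normal domains (helper24)
-/

set_option autoImplicit false

namespace Groth.Agent.Lib.Helper24.EtaleNormal

open Polynomial TensorProduct

universe u

/-- An Artinian reduced ring is von Neumann regular. -/
theorem exists_eq_sq_mul {T : Type u} [CommRing T] [IsArtinianRing T] [IsReduced T] (t : T) :
    ∃ y : T, t = t ^ 2 * y := by
  obtain ⟨n, y, hy⟩ := IsArtinian.exists_pow_succ_smul_dvd t (1 : T)
  rw [smul_eq_mul, smul_eq_mul, mul_one] at hy
  refine ⟨y, ?_⟩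
  have hu : IsNilpotent (t - t ^ 2 * y) := by
    refine ⟨n + 1, ?_⟩
    have e : t - t ^ 2 * y = t * (1 - t * y) := by ring
    have h0 : t ^ n * (1 - t * y) = 0 := by
      rw [mul_sub, mul_one, ← mul_assoc, ← pow_succ, hy, sub_self]
    rw [e, mul_pow, pow_succ, pow_succ (1 - t * y)]
    calc t ^ n * t * ((1 - t * y) ^ n * (1 - t * y))
        = (t ^ n * (1 - t * y)) * (t * (1 - t * y) ^ n) := by ring
      _ = 0 := by rw [h0, zero_mul]
  exact sub_eq_zero.1 hu.eq_zero

/-- In a local ring, idempotents are trivial. -/
theorem eq_zero_or_eq_one_of_isIdempotentElem {G : Type u} [CommRing G] [IsLocalRing G] {g : G}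
    (hg : IsIdempotentElem g) : g = 0 ∨ g = 1 := by
  have h0 : g * (1 - g) = 0 := by
    rw [mul_sub, mul_one, hg.eq, sub_self]
  rcases IsLocalRing.isUnit_or_isUnit_one_sub_self g with h | h
  · right
    have := (h.mul_right_eq_zero).1 h0
    exact (sub_eq_zero.1 this).symm
  · left
    exact (h.mul_left_eq_zero).1 h0

/-- A nontrivial Artinian reduced ring in which all idempotents are `0` or `1` is a field. -/
theorem isField_of_idempotents {T : Type u} [CommRing T] [Nontrivial T] [IsArtinianRing T]
    [IsReduced T] (H : ∀ e : T, IsIdempotentElem e → e = 0 ∨ e = 1) : IsField T := by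
  refine ⟨exists_pair_ne T, mul_comm, ?_⟩
  intro t ht
  obtain ⟨y, hy⟩ := exists_eq_sq_mul t
  have he : IsIdempotentElem (t * y) := by
    show t * y * (t * y) = t * y
    calc t * y * (t * y) = (t ^ 2 * y) * y := by ring
      _ = t * y := by rw [← hy]
  rcases H _ he with h | h
  · exfalso
    apply ht
    calc t = t ^ 2 * y := hy
      _ = t * (t * y) := by ring
      _ = 0 := by rw [h, mul_zero]
  · exact ⟨y, h⟩

section Stage

/-- The local ring of an étale algebra over a normal domain is a normal domain. -/
theorem isDomain_and_isIntegrallyClosed_of_localization_etale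
    (A C G : Type u) [CommRing A] [IsDomain A] [IsIntegrallyClosed A]
    [CommRing C] [Algebra A C] [Algebra.Etale A C]
    [CommRing G] [Algebra C G] [Algebra A G] [IsScalarTower A C G]
    (M : Submonoid C) [IsLocalization M G] [IsLocalRing G] :
    IsDomain G ∧ IsIntegrallyClosed G := by
  let K := FractionRing A
  have hflatC : Module.Flat A C := inferInstance
  have hflatCG : Module.Flat C G := IsLocalization.flat G M
  have hflat : Module.Flat A G := Module.Flat.trans A C G
  have hbij : Function.Bijective (TensorProduct.toIntegralClosure A G K) :=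
    TensorProduct.toIntegralClosure_bijective_of_tower (S := C)
      TensorProduct.toIntegralClosure_bijective_of_smooth
      (TensorProduct.toIntegralClosure_bijective_of_isLocalization M)
  have hbot : integralClosure A K = ⊥ := (IsIntegrallyClosed.integralClosure_eq_bot_iff K).2 ‹_›
  -- injectivity
  have hinj : Function.Injective (algebraMap G (G ⊗[A] K)) :=
    Algebra.TensorProduct.includeLeft_injective (S := G) (IsFractionRing.injective A K)
  -- integrally closed in `T`
  have hclosed : ∀ z : G ⊗[A] K, IsIntegral G z → ∃ g : G, algebraMap G (G ⊗[A] K) g = z := by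
    intro z hz
    obtain ⟨w, hw⟩ := hbij.2 ⟨z, hz⟩
    have hw' : ∀ w : G ⊗[A] integralClosure A K, ∃ g : G, w = g ⊗ₜ 1 := by
      intro w
      induction w using TensorProduct.induction_on with
      | zero => exact ⟨0, by simp⟩
      | tmul g k =>
        have hk : (k : K) ∈ (⊥ : Subalgebra A K) := hbot ▸ k.2
        obtain ⟨a, ha⟩ := Algebra.mem_bot.1 hk
        refine ⟨a • g, ?_⟩
        have hk' : k = a • (1 : integralClosure A K) := by
          apply Subtype.ext
          rw [← ha]
          simp [Algebra.smul_def]
        rw [hk', TensorProduct.tmul_smul, TensorProduct.smul_tmul']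
      | add x y hx hy =>
        obtain ⟨g₁, rfl⟩ := hx
        obtain ⟨g₂, rfl⟩ := hy
        exact ⟨g₁ + g₂, by rw [TensorProduct.add_tmul]⟩
    obtain ⟨g, rfl⟩ := hw' w
    refine ⟨g, ?_⟩
    have := congrArg Subtype.val hw
    rw [Algebra.TensorProduct.algebraMap_apply, Algebra.algebraMap_self, RingHom.id_apply]
    simpa [TensorProduct.toIntegralClosure] using this
  -- `T` is Artinian and reduced
  have hfin : Algebra.EssFiniteType A G := by
    have : Algebra.EssFiniteType C G := Algebra.EssFiniteType.of_isLocalization G M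
    exact Algebra.EssFiniteType.comp A C G
  have hunr : Algebra.FormallyUnramified A G := by
    have : Algebra.FormallyUnramified C G := Algebra.FormallyUnramified.of_isLocalization M
    exact Algebra.FormallyUnramified.comp A C G
  have hfinK : Module.Finite K (K ⊗[A] G) := Algebra.FormallyUnramified.finite_of_free K _
  have hredK : IsReduced (K ⊗[A] G) := Algebra.FormallyUnramified.isReduced_of_field K _
  have hartK : IsArtinianRing (K ⊗[A] G) := IsArtinianRing.of_finite K _
  let e : G ⊗[A] K ≃ₐ[A] K ⊗[A] G := Algebra.TensorProduct.comm A G K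
  have hred : IsReduced (G ⊗[A] K) := isReduced_of_injective e.toRingHom e.injective
  have hart : IsArtinianRing (G ⊗[A] K) :=
    e.symm.toRingEquiv.surjective.isArtinianRing
  have hnt : Nontrivial (G ⊗[A] K) := hinj.nontrivial
  -- idempotents of `T` are trivial
  have hidem : ∀ t : G ⊗[A] K, IsIdempotentElem t → t = 0 ∨ t = 1 := by
    intro t ht
    have hint : IsIntegral G t := by
      refine ⟨X ^ 2 - X, monic_X_pow_sub (by simp), ?_⟩
      simp [pow_two, ht.eq]
    obtain ⟨g, rfl⟩ := hclosed t hint
    have hg : IsIdempotentElem g := by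
      apply hinj
      rw [map_mul]
      exact ht
    rcases eq_zero_or_eq_one_of_isIdempotentElem hg with h | h
    · left
      rw [h, map_zero]
    · right
      rw [h, map_one]
  have hfield : IsField (G ⊗[A] K) := isField_of_idempotents hidem
  let _ : Field (G ⊗[A] K) := hfield.toField
  have hfaith : FaithfulSMul G (G ⊗[A] K) := (faithfulSMul_iff_algebraMap_injective G _).2 hinj
  have hicl : IsIntegrallyClosedIn G (G ⊗[A] K) :=
    isIntegrallyClosedIn_iff.2 ⟨hinj, fun {x} hx => hclosed x hx⟩
  exact ⟨hinj.isDomain _, IsIntegrallyClosed.of_isIntegrallyClosedIn G (G ⊗[A] K)⟩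

end Stage

section FractionFree

/-- A fraction-free formulation of integral closedness. -/
def NF (R : Type u) [CommRing R] : Prop :=
  ∀ (p : R[X]), p.Monic → ∀ a b : R, b ≠ 0 → (scaleRoots p b).eval a = 0 → b ∣ a

theorem nf_of_isIntegrallyClosed (R : Type u) [CommRing R] [IsDomain R] [IsIntegrallyClosed R] :
    NF R := by
  intro p hp a b hb h0
  let K := FractionRing R
  have hbK : algebraMap R K b ≠ 0 := by
    rw [Ne, map_eq_zero_iff _ (IsFractionRing.injective R K)]
    exact hb
  have h1 := scaleRoots_eval₂_mul (p := p) (algebraMap R K) (algebraMap R K a / algebraMap R K b) b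
  rw [mul_div_cancel₀ _ hbK] at h1
  have h2 : eval₂ (algebraMap R K) (algebraMap R K a) (scaleRoots p b) = 0 := by
    rw [eval₂_at_apply, h0, map_zero]
  rw [h2] at h1
  have h3 : eval₂ (algebraMap R K) (algebraMap R K a / algebraMap R K b) p = 0 := by
    rcases mul_eq_zero.1 h1.symm with h | h
    · exact absurd (pow_eq_zero_iff'.1 h).1 hbK
    · exact h
  have hint : IsIntegral R (algebraMap R K a / algebraMap R K b) := ⟨p, hp, h3⟩
  obtain ⟨c, hc⟩ := (isIntegrallyClosed_iff K).1 ‹_› hint
  refine ⟨c, ?_⟩
  apply IsFractionRing.injective R K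
  rw [map_mul, hc, mul_div_cancel₀ _ hbK]

theorem isIntegrallyClosed_of_nf (R : Type u) [CommRing R] [IsDomain R] (h : NF R) :
    IsIntegrallyClosed R := by
  let K := FractionRing R
  rw [isIntegrallyClosed_iff K]
  intro x hx
  obtain ⟨p, hp, hpx⟩ := hx
  obtain ⟨a, b, hb, rfl⟩ := IsFractionRing.div_surjective (A := R) x
  have hb0 : b ≠ 0 := nonZeroDivisors.ne_zero hb
  have hbK : algebraMap R K b ≠ 0 := by
    rw [Ne, map_eq_zero_iff _ (IsFractionRing.injective R K)]
    exact hb0
  have h1 := scaleRoots_eval₂_mul (p := p) (algebraMap R K) (algebraMap R K a / algebraMap R K b) b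
  rw [mul_div_cancel₀ _ hbK, hpx, mul_zero, eval₂_at_apply] at h1
  have h2 : (scaleRoots p b).eval a = 0 := by
    apply IsFractionRing.injective R K
    rw [h1, map_zero]
  obtain ⟨c, hc⟩ := h p hp a b hb0 h2
  refine ⟨c, ?_⟩
  rw [hc, map_mul, mul_div_cancel_left₀ _ hbK]

/-- NF descends along faithfully flat maps. -/
theorem nf_of_faithfullyFlat (R S : Type u) [CommRing R] [CommRing S] [Algebra R S]
    [Module.FaithfullyFlat R S] [Nontrivial S] (h : NF S) : NF R := by
  intro p hp a b hb h0
  have hinj : Function.Injective (algebraMap R S) := FaithfulSMul.algebraMap_injective R S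
  have hb' : algebraMap R S b ≠ 0 := by
    rw [Ne, map_eq_zero_iff _ hinj]
    exact hb
  have h1 : (scaleRoots (p.map (algebraMap R S)) (algebraMap R S b)).eval (algebraMap R S a) = 0 := by
    rw [← map_scaleRoots, eval_map, eval₂_at_apply, h0, map_zero]
    rw [hp.leadingCoeff, map_one]
    exact one_ne_zero
  obtain ⟨c, hc⟩ := h _ (hp.map _) _ _ hb' h1
  have hmem : a ∈ Ideal.comap (algebraMap R S) (Ideal.map (algebraMap R S) (Ideal.span {b})) := by
    rw [Ideal.mem_comap, Ideal.map_span, Set.image_singleton, hc]
    exact Ideal.mul_mem_right _ _ (Ideal.subset_span rfl)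
  rw [Ideal.comap_map_eq_self_of_faithfullyFlat] at hmem
  exact Ideal.mem_span_singleton.1 hmem

end FractionFree

end Groth.Agent.Lib.Helper24.EtaleNormal
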