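import Groth.Agent.Lib.Helper24.DirectLimitLocal
import Groth.Agent.Lib.Helper24.EtaleNormal

/-!
# Direct limits of domains / integrally closed domains (helper24)
-/

set_option autoImplicit false

noncomputable section

namespace Groth.Agent.Lib.Helper24.DirectLimitProps

open IsLocalRing Polynomial Groth.Agent.Lib.helper24.DirectLimitLocal
  Groth.Agent.Lib.Helper24.EtaleNormal

universe u v

variable {ι : Type v} [Preorder ι] [Nonempty ι] [IsDirected ι (· ≤ ·)]
  (G : ι → Type u) [∀ i, CommRing (G i)]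
  (f : ∀ i j, i ≤ j → G i →+* G j) [DirectedSystem G (fun i j h => f i j h)]

local notation "L" => Ring.DirectLimit G (fun i j h => f i j h)
local notation "ofL" => Ring.DirectLimit.of G (fun i j h => f i j h)

theorem of_eq_zero {i : ι} {x : G i} (h : ofL i x = 0) :
    ∃ (k : ι) (hik : i ≤ k), f i k hik x = 0 :=
  Ring.DirectLimit.of.zero_exact h

theorem nontrivial_limit' [∀ i, Nontrivial (G i)] : Nontrivial L := by
  refine ⟨⟨0, 1, ?_⟩⟩
  intro h
  have i : ι := Classical.arbitrary _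
  have h1 : ofL i (1 : G i) = 0 := by rw [map_one]; exact h.symm
  obtain ⟨j, hij, hj⟩ := Ring.DirectLimit.of.zero_exact h1
  rw [map_one] at hj
  exact one_ne_zero hj

theorem exists_monic_of' [∀ i, Nontrivial (G i)] (p : Polynomial L) (hp : p.Monic) :
    ∃ (i : ι) (q : (G i)[X]), q.Monic ∧ q.map (ofL i) = p := by
  have := nontrivial_limit' G f
  obtain ⟨i, q, hq⟩ := Ring.DirectLimit.Polynomial.exists_of p
  have hlifts : p ∈ lifts (ofL i) := (mem_lifts _).2 ⟨q, hq⟩
  obtain ⟨q₁, hq₁, -, hq₁m⟩ := lifts_and_degree_eq_and_monic hlifts hp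
  exact ⟨i, q₁, hq₁m, hq₁⟩

theorem noZeroDivisors_limit (h : ∀ i, NoZeroDivisors (G i)) : NoZeroDivisors L := by
  constructor
  intro x y hxy
  obtain ⟨i, a, rfl⟩ := Ring.DirectLimit.exists_of x
  obtain ⟨j, b, rfl⟩ := Ring.DirectLimit.exists_of y
  obtain ⟨k, hik, hjk⟩ := exists_ge_ge i j
  rw [← of_f' G f i k hik, ← of_f' G f j k hjk, ← map_mul] at hxy
  obtain ⟨l, hkl, hl⟩ := of_eq_zero G f hxy
  rw [map_mul] at hl
  rcases mul_eq_zero.1 hl with h0 | h0
  · left
    rw [← of_f' G f i k hik, ← of_f' G f k l hkl, h0, map_zero]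
  · right
    rw [← of_f' G f j k hjk, ← of_f' G f k l hkl, h0, map_zero]

theorem isDomain_limit (h : ∀ i, IsDomain (G i)) : IsDomain L := by
  have := nontrivial_limit' G f
  have := noZeroDivisors_limit G f (fun i => inferInstance)
  exact NoZeroDivisors.to_isDomain _

theorem nf_limit [∀ i, Nontrivial (G i)] (h : ∀ i, NF (G i)) : NF L := by
  have := nontrivial_limit' G f
  intro p hp a b hb h0
  obtain ⟨i, q, hqm, rfl⟩ := exists_monic_of' G f p hp
  obtain ⟨j₁, a₁, rfl⟩ := Ring.DirectLimit.exists_of a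
  obtain ⟨j₂, b₂, rfl⟩ := Ring.DirectLimit.exists_of b
  obtain ⟨k₀, hik₀, hjk₀⟩ := exists_ge_ge i j₁
  obtain ⟨k, hk₀k, hj₂k⟩ := exists_ge_ge k₀ j₂
  have hik : i ≤ k := hik₀.trans hk₀k
  have hj₁k : j₁ ≤ k := hjk₀.trans hk₀k
  set qk : (G k)[X] := q.map (f i k hik) with hqk
  set ak : G k := f j₁ k hj₁k a₁ with hak
  set bk : G k := f j₂ k hj₂k b₂ with hbk
  have hqkm : qk.Monic := hqm.map _
  have e1 : qk.map (ofL k) = q.map (ofL i) := by
    rw [hqk, Polynomial.map_map]
    congr 1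
    ext x
    exact of_f' G f i k hik x
  have e2 : ofL k ak = ofL j₁ a₁ := of_f' G f j₁ k hj₁k a₁
  have e3 : ofL k bk = ofL j₂ b₂ := of_f' G f j₂ k hj₂k b₂
  have h1 : ofL k ((scaleRoots qk bk).eval ak) = 0 := by
    rw [← eval₂_at_apply, ← eval_map, map_scaleRoots, e1, e2, e3]
    · exact h0
    · rw [hqkm.leadingCoeff, map_one]
      exact one_ne_zero
  obtain ⟨l, hkl, hl⟩ := of_eq_zero G f h1
  have h2 : (scaleRoots (qk.map (f k l hkl)) (f k l hkl bk)).eval (f k l hkl ak) = 0 := by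
    rw [← map_scaleRoots, eval_map, eval₂_at_apply]
    · exact hl
    · rw [hqkm.leadingCoeff, map_one]
      exact one_ne_zero
  have hbl : f k l hkl bk ≠ 0 := by
    intro hz
    apply hb
    rw [← e3, ← of_f' G f k l hkl, hz, map_zero]
  obtain ⟨c, hc⟩ := h l _ (hqkm.map _) _ _ hbl h2
  refine ⟨ofL l c, ?_⟩
  rw [← e2, ← e3, ← of_f' G f k l hkl ak, ← of_f' G f k l hkl bk, hc, map_mul]

end Groth.Agent.Lib.Helper24.DirectLimitProps

end
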