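import Groth.Agent.Lib.Helper24.StrictHensProps
import Groth.Agent.Lib.Helper24.HenselizationFlat
import Groth.Agent.Lib.Helper24.DirectLimitProps

/-!
# Normality of the henselization and the strict henselization (helper24)
-/

set_option autoImplicit false
set_option linter.unusedSectionVars false

noncomputable section

namespace Groth.Agent.Lib.Helper24.HensNormal

open IsLocalRing Groth.Agent.Lib.Helper24.EtaleNormal Groth.Agent.Lib.Helper24.DirectLimitProps

universe u

/-- Normality descends along faithfully flat maps. -/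
theorem normal_of_faithfullyFlat (R S : Type u) [CommRing R] [CommRing S] [Algebra R S]
    [Module.FaithfullyFlat R S] [IsDomain S] [IsIntegrallyClosed S] :
    IsDomain R ∧ IsIntegrallyClosed R := by
  have hd : IsDomain R := (FaithfulSMul.algebraMap_injective R S).isDomain _
  exact ⟨hd, isIntegrallyClosed_of_nf R (nf_of_faithfullyFlat R S (nf_of_isIntegrallyClosed S))⟩

theorem normal_of_ringEquiv {S S' : Type u} [CommRing S] [CommRing S'] (e : S ≃+* S')
    (h : IsDomain S ∧ IsIntegrallyClosed S) : IsDomain S' ∧ IsIntegrallyClosed S' := by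
  obtain ⟨h1, h2⟩ := h
  exact ⟨e.symm.injective.isDomain e.symm.toRingHom, IsIntegrallyClosed.of_equiv e⟩

section Strict

open Groth.Agent.Lib.Helper24.StrictHens Groth.Agent.Lib.Helper24.StrictHens.SIdx

variable {A : Type u} [CommRing A] [IsLocalRing A] {Ω : Type u} [Field Ω] [Algebra A Ω]
  [Algebra (ResidueField A) Ω] [IsScalarTower A (ResidueField A) Ω]

theorem normal_stage [IsDomain A] [IsIntegrallyClosed A] (i : SIdx A Ω) :
    IsDomain i.G ∧ IsIntegrallyClosed i.G :=
  isDomain_and_isIntegrallyClosed_of_localization_etale A i.C i.G i.q.primeCompl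

theorem normal_SHens [IsDomain A] [IsIntegrallyClosed A] :
    IsDomain (SHens A Ω) ∧ IsIntegrallyClosed (SHens A Ω) := by
  have hd : IsDomain (SHens A Ω) :=
    isDomain_limit (fun i : SIdx A Ω => i.G) (fun i j h => trR A Ω i j h)
      (fun i => (normal_stage i).1)
  refine ⟨hd, ?_⟩
  apply isIntegrallyClosed_of_nf
  exact nf_limit (fun i : SIdx A Ω => i.G) (fun i j h => trR A Ω i j h) (fun i =>
    have := (normal_stage i).1
    have := (normal_stage i).2
    nf_of_isIntegrallyClosed i.G)

theorem normal_iff_of_isStrictHenselization (R : Type u) [CommRing R] [IsLocalRing R]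
    (S : Type u) [CommRing S] [IsLocalRing S] [Algebra R S] [IsLocalHom (algebraMap R S)]
    [Hensel.IsStrictHenselization R S] :
    (IsDomain S ∧ IsIntegrallyClosed S) ↔ (IsDomain R ∧ IsIntegrallyClosed R) := by
  constructor
  · rintro ⟨h1, h2⟩
    have := faithfullyFlat_of_isStrictHenselization R S
    exact normal_of_faithfullyFlat R S
  · rintro ⟨h1, h2⟩
    obtain ⟨e⟩ := exists_algEquiv_SH R S
    exact normal_of_ringEquiv e.toRingEquiv (normal_SHens (A := R) (Ω := Ωstd R))

end Strict

section Hens

open Groth.Agent.Lib.helper24.Henselization Groth.Agent.Lib.helper24.Henselization.Idx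

variable {A : Type u} [CommRing A] [IsLocalRing A]

theorem normal_stageH [IsDomain A] [IsIntegrallyClosed A] (i : Idx A) :
    IsDomain i.G ∧ IsIntegrallyClosed i.G :=
  isDomain_and_isIntegrallyClosed_of_localization_etale A i.C i.G i.q.primeCompl

theorem normal_Hens [IsDomain A] [IsIntegrallyClosed A] :
    IsDomain (Hens A) ∧ IsIntegrallyClosed (Hens A) := by
  have hd : IsDomain (Hens A) :=
    isDomain_limit (fun i : Idx A => i.G) (fun i j h => trR A i j h)
      (fun i => (normal_stageH i).1)
  refine ⟨hd, ?_⟩
  apply isIntegrallyClosed_of_nf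
  exact nf_limit (fun i : Idx A => i.G) (fun i j h => trR A i j h) (fun i =>
    have := (normal_stageH i).1
    have := (normal_stageH i).2
    nf_of_isIntegrallyClosed i.G)

theorem normal_iff_of_isHenselization (R : Type u) [CommRing R] [IsLocalRing R]
    (S : Type u) [CommRing S] [IsLocalRing S] [Algebra R S] [IsLocalHom (algebraMap R S)]
    [Hensel.IsHenselization R S] :
    (IsDomain R ∧ IsIntegrallyClosed R) ↔ (IsDomain S ∧ IsIntegrallyClosed S) := by
  constructor
  · rintro ⟨h1, h2⟩
    obtain ⟨e⟩ := exists_algEquiv R (Hens R) S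
    exact normal_of_ringEquiv e.toRingEquiv (normal_Hens (A := R))
  · rintro ⟨h1, h2⟩
    have := faithfullyFlat_of_isHenselization R S
    exact normal_of_faithfullyFlat R S

end Hens

end Groth.Agent.Lib.Helper24.HensNormal

end
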