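import Mathlib
import Groth.Prelude.Def_CAlg2
import Groth.Agent.Lib.Helper24.HensIntegralTensor
import Groth.Agent.Lib.Helper24.HensNormal

set_option autoImplicit false

namespace Groth.Agent.Lib.Helper24.Unibranch

open IsLocalRing TensorProduct

universe u

section Backward

variable (R : Type u) [CommRing R]

theorem mk_injective_of_isReduced [IsReduced R] :
    Function.Injective (Ideal.Quotient.mk (nilradical R)) := by
  rw [injective_iff_map_eq_zero]
  intro x hx
  rw [Ideal.Quotient.eq_zero_iff_mem, nilradical_eq_zero, Ideal.zero_eq_bot, Ideal.mem_bot] at hx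
  exact hx

theorem isDomain_red_of_isDomain [IsDomain R] : IsDomain (CAlg2.red R) := by
  have : (nilradical R).IsPrime := by
    rw [nilradical_eq_zero, Ideal.zero_eq_bot]
    exact Ideal.isPrime_bot
  exact Ideal.Quotient.isDomain _

/-- For a domain `R`, the fraction field of `R_red` is a fraction field of `R`. -/
theorem isFractionRing_red [IsDomain R] :
    haveI := isDomain_red_of_isDomain R
    IsFractionRing R (FractionRing (CAlg2.red R)) := by
  haveI := isDomain_red_of_isDomain R
  have hinj := mk_injective_of_isReduced R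
  have hmap : ∀ r : R, algebraMap R (FractionRing (CAlg2.red R)) r =
      algebraMap (CAlg2.red R) (FractionRing (CAlg2.red R)) (Ideal.Quotient.mk _ r) := fun r => by
    rw [IsScalarTower.algebraMap_apply R (CAlg2.red R) (FractionRing (CAlg2.red R))]
    rfl
  refine ⟨?_, ?_, ?_⟩
  · rintro ⟨m, hm⟩
    rw [hmap]
    apply IsLocalization.map_units (FractionRing (CAlg2.red R))
      (⟨Ideal.Quotient.mk _ m, ?_⟩ : nonZeroDivisors (CAlg2.red R))
    rw [mem_nonZeroDivisors_iff_ne_zero, Ne, ← map_zero (Ideal.Quotient.mk (nilradical R)),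
      hinj.eq_iff]
    exact nonZeroDivisors.ne_zero hm
  · intro z
    obtain ⟨⟨x₀, s₀⟩, h⟩ := IsLocalization.surj (nonZeroDivisors (CAlg2.red R)) z
    obtain ⟨x, rfl⟩ := Ideal.Quotient.mk_surjective x₀
    obtain ⟨s, hs⟩ := Ideal.Quotient.mk_surjective s₀.1
    have hs0 : s ≠ 0 := by
      rintro rfl
      rw [map_zero] at hs
      exact nonZeroDivisors.ne_zero s₀.2 hs.symm
    refine ⟨⟨x, ⟨s, mem_nonZeroDivisors_of_ne_zero hs0⟩⟩, ?_⟩
    rw [hmap, hmap, hs]
    exact h
  · intro x y hxy
    rw [hmap, hmap] at hxy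
    have := hinj (IsFractionRing.injective (CAlg2.red R) (FractionRing (CAlg2.red R)) hxy)
    exact ⟨1, by rw [this]⟩

end Backward

section Core

/-- Units descend along faithfully flat base change. -/
theorem isUnit_of_isUnit_tmul (R S : Type u) [CommRing R] [CommRing S] [Algebra R S]
    {A : Type u} [CommRing A] [Algebra R A] [Module.FaithfullyFlat R S]
    (a : A) (h : IsUnit ((1 : S) ⊗ₜ[R] a)) : IsUnit a := by
  let μ : A →ₗ[R] A := LinearMap.mulLeft R a
  have hs : Function.Surjective (LinearMap.lTensor S μ) := by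
    intro z
    obtain ⟨u, hu⟩ := h
    refine ⟨(↑u⁻¹ : S ⊗[R] A) * z, ?_⟩
    have key : ∀ w : S ⊗[R] A, LinearMap.lTensor S μ w = ((1 : S) ⊗ₜ[R] a) * w := by
      intro w
      induction w using TensorProduct.induction_on with
      | zero => simp
      | tmul s b => simp [μ, Algebra.TensorProduct.tmul_mul_tmul]
      | add x y hx hy => rw [map_add, hx, hy, mul_add]
    rw [key, ← hu, ← mul_assoc, Units.mul_inv, one_mul]
  have hμ : Function.Surjective μ := (Module.FaithfullyFlat.lTensor_surjective_iff_surjective R S μ).1 hs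
  obtain ⟨b, hb⟩ := hμ 1
  exact IsUnit.of_mul_eq_one b hb

theorem isUnit_or_isUnit_one_sub_of_finite_injective
    (R S : Type u) [CommRing R] [CommRing S] [Algebra R S]
    [HenselianLocalRing S] [Module.FaithfullyFlat R S]
    (K : Type u) [CommRing K] [Algebra R K] [IsDomain (S ⊗[R] K)]
    (R₁ : Type u) [CommRing R₁] [Algebra R R₁] [Module.Finite R R₁] [Nontrivial R₁]
    (ι : R₁ →ₐ[R] K) (hι : Function.Injective ι) (a : R₁) : IsUnit a ∨ IsUnit (1 - a) := by
  let Φ : S ⊗[R] R₁ →ₐ[S] S ⊗[R] K := Algebra.TensorProduct.map (AlgHom.id S S) ι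
  have hΦ : Function.Injective Φ := by
    have h1 : Function.Injective (LinearMap.lTensor S ι.toLinearMap) :=
      Module.Flat.lTensor_preserves_injective_linearMap _ hι
    have h2 : ∀ w, Φ w = LinearMap.lTensor S ι.toLinearMap w := by
      intro w
      induction w using TensorProduct.induction_on with
      | zero => simp
      | tmul s b => simp [Φ]
      | add x y hx hy => rw [map_add, map_add, hx, hy]
    intro x y hxy
    apply h1
    rw [← h2, ← h2, hxy]
  haveI : Nontrivial (S ⊗[R] R₁) :=
    (Module.FaithfullyFlat.lTensor_nontrivial R S R₁ : Nontrivial (S ⊗[R] R₁))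
  haveI : IsDomain (S ⊗[R] R₁) := hΦ.isDomain Φ.toRingHom
  haveI : IsLocalRing (S ⊗[R] R₁) := by
    obtain ⟨M₁, hM₁⟩ := Ideal.exists_maximal (S ⊗[R] R₁)
    refine IsLocalRing.of_unique_max_ideal ⟨M₁, hM₁, fun M₂ hM₂ => ?_⟩
    by_contra hne
    obtain ⟨e, he, h1, h2⟩ :=
      Groth.Agent.Lib.helper24.HenselLocal.exists_idempotent_separating S M₂ M₁ hne
    have h0 : e * (e - 1) = 0 := by rw [mul_sub, he.eq, mul_one, sub_self]
    rcases mul_eq_zero.1 h0 with h | h
    · rw [h, sub_zero] at h1
      exact hM₂.ne_top ((Ideal.eq_top_iff_one _).2 h1)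
    · rw [sub_eq_zero.1 h] at h2
      exact hM₁.ne_top ((Ideal.eq_top_iff_one _).2 h2)
  rcases IsLocalRing.isUnit_or_isUnit_one_sub_self ((1 : S) ⊗ₜ[R] a) with hu | hu
  · left
    exact isUnit_of_isUnit_tmul R S a hu
  · right
    have h1 : (1 : S ⊗[R] R₁) - (1 : S) ⊗ₜ[R] a = (1 : S) ⊗ₜ[R] (1 - a) := by
      rw [TensorProduct.tmul_sub]
      rfl
    rw [h1] at hu
    exact isUnit_of_isUnit_tmul R S (1 - a) hu

end Core


section Abstract

theorem isLocalRing_of_integral_of_isDomain_tensor
    (R S : Type u) [CommRing R] [CommRing S] [Algebra R S]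
    [HenselianLocalRing S] [Module.FaithfullyFlat R S]
    (K : Type u) [CommRing K] [Algebra R K] [IsDomain (S ⊗[R] K)]
    (N : Type u) [CommRing N] [Algebra R N] [Algebra.IsIntegral R N] [Nontrivial N]
    (j : N →ₐ[R] K) (hj : Function.Injective j) : IsLocalRing N := by
  apply IsLocalRing.of_isUnit_or_isUnit_one_sub_self
  intro a
  haveI hfin : Module.Finite R (Algebra.adjoin R {a}) :=
    Module.Finite.iff_fg.2 (IsIntegral.fg_adjoin_singleton (Algebra.IsIntegral.isIntegral a))
  have hι : Function.Injective (j.comp (Algebra.adjoin R {a}).val) := by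
    intro x y hxy
    apply Subtype.val_injective
    exact hj hxy
  have key := isUnit_or_isUnit_one_sub_of_finite_injective R S K (Algebra.adjoin R {a}) _ hι
    ⟨a, Algebra.subset_adjoin (Set.mem_singleton a)⟩
  rcases key with hu | hu
  · left
    exact hu.map (Algebra.adjoin R {a}).val
  · right
    exact hu.map (Algebra.adjoin R {a}).val

end Abstract

section Main

variable (R S : Type u) [CommRing R] [IsLocalRing R] [CommRing S] [IsLocalRing S] [Algebra R S]
  [IsLocalHom (algebraMap R S)] [Hensel.IsHenselization R S]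

theorem isLocalRing_normRed_of_isDomain [IsDomain S] : IsLocalRing (CAlg2.normRed R) := by
  have hff := Groth.Agent.Lib.helper24.Henselization.faithfullyFlat_of_isHenselization R S
  have hinjRS : Function.Injective (algebraMap R S) := FaithfulSMul.algebraMap_injective R S
  haveI hdR : IsDomain R := hinjRS.isDomain _
  haveI := isDomain_red_of_isDomain R
  haveI hfr := isFractionRing_red R
  haveI : HenselianLocalRing S := Hensel.IsHenselization.henselian (R := R)
  -- `S ⊗ K` is a domain
  haveI hloc : IsLocalization (Algebra.algebraMapSubmonoid S (nonZeroDivisors R))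
      (S ⊗[R] FractionRing (CAlg2.red R)) := IsLocalization.tensor _ (nonZeroDivisors R)
  haveI hSK : IsDomain (S ⊗[R] FractionRing (CAlg2.red R)) :=
    IsLocalization.isDomain_of_le_nonZeroDivisors (S ⊗[R] FractionRing (CAlg2.red R))
      (M := Algebra.algebraMapSubmonoid S (nonZeroDivisors R)) (by
        rintro _ ⟨m, hm, rfl⟩
        exact mem_nonZeroDivisors_of_ne_zero (by
          rw [Ne, map_eq_zero_iff _ hinjRS]
          exact nonZeroDivisors.ne_zero hm))
  -- integrality
  haveI : Algebra.IsIntegral (CAlg2.red R) (CAlg2.normRed R) := inferInstance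
  haveI : Algebra.IsIntegral R (CAlg2.red R) :=
    Algebra.isIntegral_of_surjective Ideal.Quotient.mk_surjective
  haveI : Algebra.IsIntegral R (CAlg2.normRed R) := Algebra.IsIntegral.trans (CAlg2.red R)
  exact isLocalRing_of_integral_of_isDomain_tensor R S (FractionRing (CAlg2.red R))
    (CAlg2.normRed R)
    (IsScalarTower.toAlgHom R (CAlg2.normRed R) (FractionRing (CAlg2.red R)))
    Subtype.val_injective

end Main

section Forward

variable (R S : Type u) [CommRing R] [IsLocalRing R] [CommRing S] [IsLocalRing S] [Algebra R S]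
  [IsLocalHom (algebraMap R S)] [Hensel.IsHenselization R S]

/-- The `R`-algebra structure on the normalization of `R_red`. -/
noncomputable abbrev algNormRed : Algebra R (CAlg2.normRed R) :=
  ((algebraMap (CAlg2.red R) (CAlg2.normRed R)).comp
    (Ideal.Quotient.mk (nilradical R))).toAlgebra

theorem isDomain_of_unibranch [IsReduced R] (h : CAlg2.IsUnibranch R) : IsDomain S := by
  obtain ⟨hd, hloc⟩ := h
  letI := algNormRed R
  haveI : IsScalarTower R (CAlg2.red R) (CAlg2.normRed R) := IsScalarTower.of_algebraMap_eq' rfl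
  haveI : Algebra.IsIntegral (CAlg2.red R) (CAlg2.normRed R) := inferInstance
  haveI : Algebra.IsIntegral R (CAlg2.red R) :=
    Algebra.isIntegral_of_surjective Ideal.Quotient.mk_surjective
  haveI : Algebra.IsIntegral R (CAlg2.normRed R) := Algebra.IsIntegral.trans (CAlg2.red R)
  haveI : IsLocalHom (algebraMap R (CAlg2.normRed R)) :=
    Groth.Agent.Lib.Helper24.IntegralHensel.isLocalHom_of_isIntegral R (CAlg2.normRed R)
  obtain ⟨hT, hTh, hH⟩ := Groth.Agent.Lib.Helper24.HensIntegralTensor.isHenselization_tensor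
    R (CAlg2.normRed R) S
  haveI : IsIntegrallyClosed (CAlg2.normRed R) :=
    integralClosure.isIntegrallyClosedOfFiniteExtension (FractionRing (CAlg2.red R))
  have hn := (Groth.Agent.Lib.Helper24.HensNormal.normal_iff_of_isHenselization
    (CAlg2.normRed R) (CAlg2.normRed R ⊗[R] S)).1 ⟨inferInstance, inferInstance⟩
  haveI := hn.1
  have hff := Groth.Agent.Lib.helper24.Henselization.faithfullyFlat_of_isHenselization R S
  have hinjR : Function.Injective (algebraMap R (CAlg2.normRed R)) := by
    have h1 : Function.Injective (Ideal.Quotient.mk (nilradical R)) := by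
      rw [injective_iff_map_eq_zero]
      intro x hx
      rw [Ideal.Quotient.eq_zero_iff_mem, nilradical_eq_zero, Ideal.zero_eq_bot, Ideal.mem_bot] at hx
      exact hx
    have h2 : Function.Injective (algebraMap (CAlg2.red R) (CAlg2.normRed R)) := by
      intro x y hxy
      apply IsFractionRing.injective (CAlg2.red R) (FractionRing (CAlg2.red R))
      exact congrArg Subtype.val hxy
    exact h2.comp h1
  have hinj : Function.Injective
      (Algebra.TensorProduct.includeRight : S →ₐ[R] CAlg2.normRed R ⊗[R] S) :=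
    Algebra.TensorProduct.includeRight_injective hinjR
  exact hinj.isDomain _

end Forward

end Groth.Agent.Lib.Helper24.Unibranch
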