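import Mathlib
import Groth.Prelude.Def_CAlg2
import Groth.Prelude.Def_CAlgX
import Groth.Agent.Lib.Helper24.Unibranch
import Groth.Agent.Lib.Helper24.HensReduced

set_option autoImplicit false

namespace Groth.Agent.Lib.Helper24.Unibranch

open IsLocalRing TensorProduct

universe u

section UMP

theorem hasUniqueMinimalPrime_of_prime_le_nilradical {S : Type u} [CommRing S] (J : Ideal S)
    (hJ : J.IsPrime) (hle : J ≤ nilradical S) : CAlgX.HasUniqueMinimalPrime S := by
  have hmin : J ∈ minimalPrimes S := by
    refine ⟨⟨hJ, bot_le⟩, fun q hq _ => ?_⟩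
    exact hle.trans (@nilradical_le_prime _ _ q hq.1)
  refine ⟨J, hmin, fun p hp => ?_⟩
  have h1 : J ≤ p := hle.trans (@nilradical_le_prime _ _ p hp.1.1)
  exact le_antisymm (hp.2 ⟨hJ, bot_le⟩ h1) h1

theorem isPrime_nilradical_of_hasUniqueMinimalPrime {S : Type u} [CommRing S]
    (h : CAlgX.HasUniqueMinimalPrime S) : (nilradical S).IsPrime := by
  obtain ⟨p, hp, hu⟩ := h
  have : nilradical S = p := by
    rw [nilradical, ← Ideal.sInf_minimalPrimes]
    apply le_antisymm
    · exact sInf_le hp
    · apply le_sInf
      intro q hq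
      rw [hu q hq]
  rw [this]
  exact hp.1.1

end UMP

section Main2

variable (A S : Type u) [CommRing A] [IsLocalRing A] [CommRing S] [IsLocalRing S] [Algebra A S]
  [IsLocalHom (algebraMap A S)] [Hensel.IsHenselization A S]

theorem isUnibranch_iff_hasUniqueMinimalPrime :
    CAlg2.IsUnibranch A ↔ CAlgX.HasUniqueMinimalPrime S := by
  haveI hBnt : Nontrivial (CAlg2.red A) := Ideal.Quotient.nontrivial_iff.2 (by
    intro h
    have h1 : (1 : A) ∈ nilradical A := h ▸ Submodule.mem_top
    obtain ⟨n, hn⟩ := h1
    rw [one_pow] at hn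
    exact one_ne_zero hn)
  haveI hBloc : IsLocalRing (CAlg2.red A) :=
    IsLocalRing.of_surjective' (Ideal.Quotient.mk (nilradical A)) Ideal.Quotient.mk_surjective
  haveI : Algebra.IsIntegral A (CAlg2.red A) :=
    Algebra.isIntegral_of_surjective Ideal.Quotient.mk_surjective
  haveI : IsLocalHom (algebraMap A (CAlg2.red A)) :=
    Groth.Agent.Lib.Helper24.IntegralHensel.isLocalHom_of_isIntegral A (CAlg2.red A)
  obtain ⟨hT, hTh, hH⟩ := Groth.Agent.Lib.Helper24.HensIntegralTensor.isHenselization_tensor
    A (CAlg2.red A) S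
  haveI hBred : IsReduced (CAlg2.red A) :=
    (Ideal.isRadical_iff_quotient_reduced (nilradical A)).1 (Ideal.radical_isRadical _)
  haveI hTred : IsReduced (CAlg2.red A ⊗[A] S) :=
    (Groth.Agent.Lib.Helper24.HensReduced.isReduced_iff_of_isHenselization (CAlg2.red A)
      (CAlg2.red A ⊗[A] S)).1 hBred
  let e := Algebra.TensorProduct.quotIdealMapEquivQuotTensor S (nilradical A)
  have hJle : (nilradical A).map (algebraMap A S) ≤ nilradical S :=
    Ideal.map_le_iff_le_comap.2 (fun x hx => (IsNilpotent.map hx (algebraMap A S) : _))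
  have hJrad : nilradical S ≤ (nilradical A).map (algebraMap A S) := by
    haveI : IsReduced (S ⧸ (nilradical A).map (algebraMap A S)) :=
      isReduced_of_injective e.toRingEquiv.toRingHom e.injective
    intro x hx
    have h1 : IsNilpotent (Ideal.Quotient.mk ((nilradical A).map (algebraMap A S)) x) :=
      IsNilpotent.map hx _
    rw [← Ideal.Quotient.eq_zero_iff_mem]
    exact h1.eq_zero
  have hJ : (nilradical A).map (algebraMap A S) = nilradical S := le_antisymm hJle hJrad
  have hffA := Groth.Agent.Lib.helper24.Henselization.faithfullyFlat_of_isHenselization A S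
  constructor
  · rintro ⟨hd, hloc⟩
    haveI := hd
    haveI := hloc
    haveI : Algebra.IsIntegral (CAlg2.red A) (CAlg2.normRed A) := inferInstance
    haveI : Algebra.IsIntegral A (CAlg2.normRed A) := Algebra.IsIntegral.trans (CAlg2.red A)
    haveI : IsLocalHom (algebraMap A (CAlg2.normRed A)) :=
      Groth.Agent.Lib.Helper24.IntegralHensel.isLocalHom_of_isIntegral A (CAlg2.normRed A)
    obtain ⟨hN, hNh, hNH⟩ := Groth.Agent.Lib.Helper24.HensIntegralTensor.isHenselization_tensor
      A (CAlg2.normRed A) S
    haveI : IsIntegrallyClosed (CAlg2.normRed A) :=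
      integralClosure.isIntegrallyClosedOfFiniteExtension (FractionRing (CAlg2.red A))
    have hn := (Groth.Agent.Lib.Helper24.HensNormal.normal_iff_of_isHenselization
      (CAlg2.normRed A) (CAlg2.normRed A ⊗[A] S)).1 ⟨inferInstance, inferInstance⟩
    haveI := hn.1
    -- the map `red A ⊗ S → normRed A ⊗ S` is injective
    let ι : CAlg2.red A →ₐ[A] CAlg2.normRed A :=
      IsScalarTower.toAlgHom A (CAlg2.red A) (CAlg2.normRed A)
    have hι : Function.Injective ι := by
      intro x y hxy
      apply IsFractionRing.injective (CAlg2.red A) (FractionRing (CAlg2.red A))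
      exact congrArg Subtype.val hxy
    let Φ : CAlg2.red A ⊗[A] S →ₐ[A] CAlg2.normRed A ⊗[A] S :=
      Algebra.TensorProduct.map ι (AlgHom.id A S)
    have hΦ : Function.Injective Φ := by
      have h1 : Function.Injective (LinearMap.rTensor S ι.toLinearMap) :=
        Module.Flat.rTensor_preserves_injective_linearMap _ hι
      have h2 : ∀ w, Φ w = LinearMap.rTensor S ι.toLinearMap w := by
        intro w
        induction w using TensorProduct.induction_on with
        | zero => simp
        | tmul s b => simp [Φ]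
        | add x y hx hy => rw [map_add, map_add, hx, hy]
      intro x y hxy
      apply h1
      rw [← h2, ← h2, hxy]
    haveI : IsDomain (CAlg2.red A ⊗[A] S) := hΦ.isDomain Φ.toRingHom
    haveI : IsDomain (S ⧸ (nilradical A).map (algebraMap A S)) :=
      e.injective.isDomain e.toRingEquiv.toRingHom
    have hJp : ((nilradical A).map (algebraMap A S)).IsPrime :=
      (Ideal.Quotient.isDomain_iff_prime _).1 inferInstance
    exact hasUniqueMinimalPrime_of_prime_le_nilradical _ hJp hJle
  · intro hU
    have hp : (nilradical S).IsPrime := isPrime_nilradical_of_hasUniqueMinimalPrime hU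
    rw [← hJ] at hp
    haveI : IsDomain (S ⧸ (nilradical A).map (algebraMap A S)) := Ideal.Quotient.isDomain _
    haveI hTd : IsDomain (CAlg2.red A ⊗[A] S) :=
      e.symm.injective.isDomain e.symm.toRingEquiv.toRingHom
    have hff := Groth.Agent.Lib.helper24.Henselization.faithfullyFlat_of_isHenselization
      (CAlg2.red A) (CAlg2.red A ⊗[A] S)
    have hinj : Function.Injective (algebraMap (CAlg2.red A) (CAlg2.red A ⊗[A] S)) :=
      FaithfulSMul.algebraMap_injective _ _
    haveI hBd : IsDomain (CAlg2.red A) := hinj.isDomain _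
    refine ⟨hBd, ?_⟩
    haveI : HenselianLocalRing (CAlg2.red A ⊗[A] S) :=
      Hensel.IsHenselization.henselian (R := CAlg2.red A)
    haveI hloc : IsLocalization
        (Algebra.algebraMapSubmonoid (CAlg2.red A ⊗[A] S) (nonZeroDivisors (CAlg2.red A)))
        ((CAlg2.red A ⊗[A] S) ⊗[CAlg2.red A] FractionRing (CAlg2.red A)) :=
      IsLocalization.tensor _ (nonZeroDivisors (CAlg2.red A))
    haveI hSK : IsDomain ((CAlg2.red A ⊗[A] S) ⊗[CAlg2.red A] FractionRing (CAlg2.red A)) :=
      IsLocalization.isDomain_of_le_nonZeroDivisors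
        ((CAlg2.red A ⊗[A] S) ⊗[CAlg2.red A] FractionRing (CAlg2.red A))
        (M := Algebra.algebraMapSubmonoid (CAlg2.red A ⊗[A] S) (nonZeroDivisors (CAlg2.red A))) (by
          rintro _ ⟨m, hm, rfl⟩
          exact mem_nonZeroDivisors_of_ne_zero (by
            rw [Ne, map_eq_zero_iff _ hinj]
            exact nonZeroDivisors.ne_zero hm))
    exact isLocalRing_of_integral_of_isDomain_tensor (CAlg2.red A) (CAlg2.red A ⊗[A] S)
      (FractionRing (CAlg2.red A)) (CAlg2.normRed A)
      (IsScalarTower.toAlgHom (CAlg2.red A) (CAlg2.normRed A) (FractionRing (CAlg2.red A)))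
      Subtype.val_injective

end Main2

end Groth.Agent.Lib.Helper24.Unibranch
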