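import Groth.Agent.Lib.Helper24.HenselEss2
import Groth.Agent.S2782
import Groth.Prelude.Def_Hensel

/-!
Construction of the henselization of a local ring as a direct limit of strictly essentially
étale local algebras (helper24).
-/

set_option autoImplicit false

noncomputable section

namespace Groth.Agent.Lib.helper24.Henselization

open IsLocalRing Polynomial Groth.Agent.Lib.helper24.HenselEss

universe u

section Character

variable (A : Type u) [CommRing A] [IsLocalRing A]

instance kerPrime (C : Type u) [CommRing C] [Algebra A C] (χ : C →ₐ[A] ResidueField A) :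
    (RingHom.ker χ.toRingHom).IsPrime := RingHom.ker_isPrime _

theorem isLocalHom_of_character (C : Type u) [CommRing C] [Algebra A C] [Algebra.Etale A C]
    (χ : C →ₐ[A] ResidueField A) :
    IsLocalHom (algebraMap A (Localization.AtPrime (RingHom.ker χ.toRingHom))) := by
  obtain ⟨q, hqp, hloc, hq, hstrict⟩ := strict_of_character A C χ
  have : q = RingHom.ker χ.toRingHom := by
    ext c
    rw [hq]
    exact RingHom.mem_ker.symm
  subst this
  exact hloc

theorem strict_of_character' (C : Type u) [CommRing C] [Algebra A C] [Algebra.Etale A C]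
    (χ : C →ₐ[A] ResidueField A) :
    @EGA4loc.IsStrictlyEssentiallyEtale A (Localization.AtPrime (RingHom.ker χ.toRingHom))
      _ _ _ _ _ (isLocalHom_of_character A C χ) := by
  obtain ⟨q, hqp, hloc, hq, hstrict⟩ := strict_of_character A C χ
  have : q = RingHom.ker χ.toRingHom := by
    ext c
    rw [hq]
    exact RingHom.mem_ker.symm
  subst this
  exact hstrict

end Character

/-- Index type: presentations of étale algebras together with a character to the residue
field. -/
structure Idx (A : Type u) [CommRing A] [IsLocalRing A] : Type u where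
  n : ℕ
  I : Ideal (MvPolynomial (Fin n) A)
  χ₀ : MvPolynomial (Fin n) A →ₐ[A] ResidueField A
  hχ₀ : ∀ x ∈ I, χ₀ x = 0
  etale : Algebra.Etale A (MvPolynomial (Fin n) A ⧸ I)

variable {A : Type u} [CommRing A] [IsLocalRing A]

namespace Idx

/-- the étale algebra -/
def C (i : Idx A) : Type u := MvPolynomial (Fin i.n) A ⧸ i.I

instance (i : Idx A) : CommRing i.C :=
  (inferInstance : CommRing (MvPolynomial (Fin i.n) A ⧸ i.I))

instance (i : Idx A) : Algebra A i.C :=
  (inferInstance : Algebra A (MvPolynomial (Fin i.n) A ⧸ i.I))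

instance (i : Idx A) : Algebra.Etale A i.C := i.etale

/-- the character -/
def χ (i : Idx A) : i.C →ₐ[A] ResidueField A := Ideal.Quotient.liftₐ i.I i.χ₀ i.hχ₀

/-- the prime -/
def q (i : Idx A) : Ideal i.C := RingHom.ker i.χ.toRingHom

instance (i : Idx A) : i.q.IsPrime := RingHom.ker_isPrime _

/-- the local ring -/
def G (i : Idx A) : Type u := Localization.AtPrime i.q

instance (i : Idx A) : CommRing i.G := (inferInstance : CommRing (Localization.AtPrime i.q))

instance (i : Idx A) : Algebra i.C i.G :=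
  (inferInstance : Algebra i.C (Localization.AtPrime i.q))

instance (i : Idx A) : IsLocalization.AtPrime i.G i.q :=
  (inferInstance : IsLocalization.AtPrime (Localization.AtPrime i.q) i.q)

instance (i : Idx A) : IsLocalRing i.G :=
  (inferInstance : IsLocalRing (Localization.AtPrime i.q))

instance (i : Idx A) : Algebra A i.G := (inferInstance : Algebra A (Localization.AtPrime i.q))

instance (i : Idx A) : IsScalarTower A i.C i.G :=
  (inferInstance : IsScalarTower A i.C (Localization.AtPrime i.q))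

instance (i : Idx A) : IsLocalHom (algebraMap A i.G) := isLocalHom_of_character A i.C i.χ

theorem strict (i : Idx A) : EGA4loc.IsStrictlyEssentiallyEtale A i.G :=
  strict_of_character' A i.C i.χ

theorem mem_q (i : Idx A) (c : i.C) : c ∈ i.q ↔ i.χ c = 0 := RingHom.mem_ker

instance (i j : Idx A) : Subsingleton (i.G →ₐ[A] j.G) :=
  algHom_subsingleton_of_strictEssEtale A i.G j.G i.strict
    (fun ψ ψ' h => Groth.Agent.S2782.result A i.G j.G i.strict.1 j.strict.1 ψ ψ' h)

instance : Preorder (Idx A) where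
  le i j := Nonempty (i.G →ₐ[A] j.G)
  le_refl i := ⟨AlgHom.id A _⟩
  le_trans i j k := fun ⟨f⟩ ⟨g⟩ => ⟨g.comp f⟩

/-- transition maps -/
def tr (i j : Idx A) (h : i ≤ j) : i.G →ₐ[A] j.G := Classical.choice h

theorem tr_self (i : Idx A) (h : i ≤ i) : tr i i h = AlgHom.id A _ := Subsingleton.elim _ _

theorem tr_comp (i j k : Idx A) (hij : i ≤ j) (hjk : j ≤ k) (hik : i ≤ k) :
    (tr j k hjk).comp (tr i j hij) = tr i k hik := Subsingleton.elim _ _

theorem tr_tr (i j k : Idx A) (hij : i ≤ j) (hjk : j ≤ k) (x : i.G) :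
    tr j k hjk (tr i j hij x) = tr i k (hij.trans hjk) x :=
  congrArg (fun F : i.G →ₐ[A] k.G => F x) (tr_comp i j k hij hjk (hij.trans hjk))

/-- Any algebra map between the local rings is local. -/
theorem map_mem_maximalIdeal (i j : Idx A) (ψ : i.G →ₐ[A] j.G) (x : i.G)
    (hx : x ∈ maximalIdeal i.G) : ψ x ∈ maximalIdeal j.G :=
  algHom_map_maximalIdeal_of_essEtale A i.G j.G i.strict.1 ψ x hx

theorem isUnit_of_map (i j : Idx A) (ψ : i.G →ₐ[A] j.G) (x : i.G) (hx : IsUnit (ψ x)) :
    IsUnit x := by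
  by_contra hnu
  exact (mem_maximalIdeal _).1 (map_mem_maximalIdeal i j ψ x ((mem_maximalIdeal _).2 hnu)) hx

end Idx

open Idx

/-- Every étale algebra with a character is represented by an index. -/
theorem exists_idx_of_character (C : Type u) [CommRing C] [Algebra A C] [Algebra.Etale A C]
    (χ : C →ₐ[A] ResidueField A) :
    ∃ (k : Idx A) (u : C →ₐ[A] k.C), k.χ.comp u = χ ∧ Function.Bijective u := by
  have hft : Algebra.FiniteType A C := inferInstance
  obtain ⟨n, f, hf⟩ := Algebra.FiniteType.iff_quotient_mvPolynomial''.1 hft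
  let e : (MvPolynomial (Fin n) A ⧸ RingHom.ker f) ≃ₐ[A] C :=
    Ideal.quotientKerAlgEquivOfSurjective hf
  have hker : ∀ x ∈ RingHom.ker f, (χ.comp f) x = 0 := by
    intro x hx
    show χ (f x) = 0
    rw [RingHom.mem_ker.1 hx, map_zero]
  let k : Idx A := ⟨n, RingHom.ker f, χ.comp f, hker, Algebra.Etale.of_equiv e.symm⟩
  have hkχ : ∀ x : MvPolynomial (Fin n) A, k.χ (Ideal.Quotient.mk _ x) = χ (f x) := fun x => rfl
  refine ⟨k, e.symm.toAlgHom, ?_, e.symm.bijective⟩
  apply AlgHom.ext
  intro c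
  obtain ⟨x, rfl⟩ := hf c
  show k.χ (e.symm (f x)) = χ (f x)
  have : e.symm (f x) = Ideal.Quotient.mk _ x := by
    rw [AlgEquiv.symm_apply_eq]
    exact (Ideal.quotientKerAlgEquivOfSurjective_mk hf x).symm
  rw [this]
  exact hkχ x

/-- A map of étale algebras compatible with characters induces a map of local rings. -/
theorem exists_le_of_hom (i k : Idx A) (w : i.C →ₐ[A] k.C) (hw : k.χ.comp w = i.χ) :
    ∃ h : i ≤ k, ∀ c, tr i k h (algebraMap i.C i.G c) = algebraMap k.C k.G (w c) := by
  let f : i.C →ₐ[A] k.G := (IsScalarTower.toAlgHom A k.C k.G).comp w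
  have hf : ∀ y : i.q.primeCompl, IsUnit (f y) := by
    intro y
    show IsUnit (algebraMap k.C k.G (w y))
    rw [IsLocalization.AtPrime.isUnit_to_map_iff k.G k.q]
    show ¬ (w (y : i.C) ∈ k.q)
    rw [mem_q]
    have : k.χ (w y) = i.χ y := congrArg (fun F : i.C →ₐ[A] ResidueField A => F y) hw
    rw [this, ← mem_q]
    exact y.2
  let L : i.G →ₐ[A] k.G := IsLocalization.liftAlgHom (M := i.q.primeCompl) (S := i.G) (f := f) hf
  refine ⟨⟨L⟩, ?_⟩
  intro c
  have : tr i k ⟨L⟩ = L := Subsingleton.elim _ _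
  rw [this]
  exact IsLocalization.lift_eq _ c

theorem exists_idx_of_strict (A₃ : Type u) [CommRing A₃] [IsLocalRing A₃] [Algebra A A₃]
    [IsLocalHom (algebraMap A A₃)] (h : EGA4loc.IsStrictlyEssentiallyEtale A A₃) :
    ∃ k : Idx A, Nonempty (A₃ →ₐ[A] k.G) := by
  obtain ⟨⟨C, _, _, q, _, hC, hq, ⟨e⟩⟩, hb⟩ := h
  have : Algebra.Etale A C := hC
  obtain ⟨χ, hχ⟩ := exists_character A A₃ hb C q e
  obtain ⟨k, u, hu, -⟩ := exists_idx_of_character C χ
  let f : C →ₐ[A] k.G := (IsScalarTower.toAlgHom A k.C k.G).comp u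
  have hf : ∀ y : q.primeCompl, IsUnit (f y) := by
    intro y
    show IsUnit (algebraMap k.C k.G (u y))
    rw [IsLocalization.AtPrime.isUnit_to_map_iff k.G k.q]
    show ¬ (u (y : C) ∈ k.q)
    rw [mem_q]
    have : k.χ (u y) = χ y := congrArg (fun F : C →ₐ[A] ResidueField A => F y) hu
    rw [this, hχ]
    exact y.2
  exact ⟨k, ⟨(IsLocalization.liftAlgHom (M := q.primeCompl) (S := Localization.AtPrime q)
      (f := f) hf).comp e.toAlgHom⟩⟩

instance : IsDirectedOrder (Idx A) := by
  constructor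
  intro i j
  obtain ⟨A₃, _, _, _, _, h₃, ⟨f₁⟩, ⟨f₂⟩⟩ := exists_dominating A i.G j.G i.strict j.strict
  obtain ⟨k, ⟨g⟩⟩ := exists_idx_of_strict A₃ h₃
  exact ⟨k, ⟨g.comp f₁⟩, ⟨g.comp f₂⟩⟩

instance : Nonempty (Idx A) := by
  obtain ⟨k, -⟩ := exists_idx_of_character A (Algebra.ofId A (ResidueField A))
  exact ⟨k⟩

section Limit

variable (A)

/-- ring hom version of the transition maps -/
def trR (i j : Idx A) (h : i ≤ j) : i.G →+* j.G := (tr i j h).toRingHom

theorem trR_apply (i j : Idx A) (h : i ≤ j) (x : i.G) : trR A i j h x = tr i j h x := rfl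

instance : DirectedSystem (fun i : Idx A => i.G) (fun i j h => (trR A i j h : i.G → j.G)) where
  map_self i x := by
    show tr i i le_rfl x = x
    rw [tr_self]
    rfl
  map_map k j i hij hjk x := tr_tr i j k hij hjk x

/-- The henselization of `A`. -/
def Hens : Type u := Ring.DirectLimit (fun i : Idx A => i.G) (fun i j h => trR A i j h)

instance : CommRing (Hens A) :=
  (inferInstance :
    CommRing (Ring.DirectLimit (fun i : Idx A => i.G) (fun i j h => trR A i j h)))

variable {A}

/-- the canonical maps -/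
def ofH (i : Idx A) : i.G →+* Hens A :=
  Ring.DirectLimit.of (fun i : Idx A => i.G) (fun i j h => trR A i j h) i

theorem ofH_tr (i j : Idx A) (h : i ≤ j) (x : i.G) : ofH j (tr i j h x) = ofH i x :=
  Ring.DirectLimit.of_f (G := fun i : Idx A => i.G) (f := fun i j h => trR A i j h) h x

theorem exists_ofH (z : Hens A) : ∃ (i : Idx A) (x : i.G), ofH i x = z :=
  Ring.DirectLimit.exists_of (G := fun i : Idx A => i.G) (f := fun i j h => trR A i j h) z

theorem ofH_eq_zero {i : Idx A} {x : i.G} (h : ofH i x = 0) :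
    ∃ (j : Idx A) (hij : i ≤ j), tr i j hij x = 0 := by
  have h' : Ring.DirectLimit.of (fun i : Idx A => i.G) (fun i j h => trR A i j h) i x = 0 := h
  obtain ⟨j, hij, hj⟩ := Ring.DirectLimit.of.zero_exact h'
  exact ⟨j, hij, hj⟩

theorem ofH_eq_ofH {i j : Idx A} {x : i.G} {y : j.G} (h : ofH i x = ofH j y) :
    ∃ (k : Idx A) (hik : i ≤ k) (hjk : j ≤ k), tr i k hik x = tr j k hjk y := by
  obtain ⟨k, hik, hjk⟩ := exists_ge_ge i j
  have h0 : ofH k (tr i k hik x - tr j k hjk y) = 0 := by
    rw [map_sub, ofH_tr, ofH_tr, h, sub_self]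
  obtain ⟨l, hkl, hl⟩ := ofH_eq_zero h0
  refine ⟨l, hik.trans hkl, hjk.trans hkl, ?_⟩
  rw [map_sub, sub_eq_zero, tr_tr, tr_tr] at hl
  exact hl

theorem ofH_algebraMap (i j : Idx A) (a : A) :
    ofH i (algebraMap A i.G a) = ofH j (algebraMap A j.G a) := by
  obtain ⟨k, hik, hjk⟩ := exists_ge_ge i j
  rw [← ofH_tr i k hik, ← ofH_tr j k hjk, AlgHom.commutes, AlgHom.commutes]

instance : Algebra A (Hens A) :=
  ((ofH (Classical.arbitrary (Idx A))).comp (algebraMap A (Classical.arbitrary (Idx A)).G)).toAlgebra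

theorem algebraMap_eq (i : Idx A) (a : A) :
    algebraMap A (Hens A) a = ofH i (algebraMap A i.G a) :=
  ofH_algebraMap _ i a

theorem isUnit_ofH_iff (i : Idx A) (x : i.G) : IsUnit (ofH i x) ↔ IsUnit x := by
  constructor
  · intro hu
    obtain ⟨y, hy⟩ := hu.exists_right_inv
    obtain ⟨j, y', rfl⟩ := exists_ofH y
    obtain ⟨k, hik, hjk⟩ := exists_ge_ge i j
    have h1 : ofH k (tr i k hik x * tr j k hjk y') = ofH k 1 := by
      rw [map_mul, ofH_tr, ofH_tr, hy, map_one]
    obtain ⟨l, hkl, _, hl⟩ := ofH_eq_ofH h1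
    rw [map_mul, tr_tr, tr_tr, map_one] at hl
    have h2 : IsUnit (tr i l (hik.trans hkl) x) := IsUnit.of_mul_eq_one _ hl
    exact isUnit_of_map i l _ x h2
  · intro hu
    exact hu.map _

instance : Nontrivial (Hens A) := by
  refine ⟨⟨0, 1, ?_⟩⟩
  intro h
  have i : Idx A := Classical.arbitrary _
  have h1 : ofH i (1 : i.G) = 0 := by rw [map_one]; exact h.symm
  obtain ⟨j, hij, hj⟩ := ofH_eq_zero h1
  rw [map_one] at hj
  exact one_ne_zero hj

instance : IsLocalRing (Hens A) := by
  apply IsLocalRing.of_nonunits_add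
  intro a b ha hb
  obtain ⟨i, x, rfl⟩ := exists_ofH a
  obtain ⟨j, y, rfl⟩ := exists_ofH b
  obtain ⟨k, hik, hjk⟩ := exists_ge_ge i j
  rw [← ofH_tr i k hik] at ha ⊢
  rw [← ofH_tr j k hjk] at hb ⊢
  rw [mem_nonunits_iff, isUnit_ofH_iff] at ha hb
  rw [← map_add, mem_nonunits_iff, isUnit_ofH_iff]
  exact IsLocalRing.nonunits_add ha hb

theorem ofH_mem_maximalIdeal_iff (i : Idx A) (x : i.G) :
    ofH i x ∈ maximalIdeal (Hens A) ↔ x ∈ maximalIdeal i.G := by
  rw [mem_maximalIdeal, mem_maximalIdeal, mem_nonunits_iff, mem_nonunits_iff, isUnit_ofH_iff]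

instance : IsLocalHom (algebraMap A (Hens A)) := by
  constructor
  intro a ha
  have i : Idx A := Classical.arbitrary _
  rw [algebraMap_eq i, isUnit_ofH_iff] at ha
  exact isUnit_of_map_unit (algebraMap A i.G) a ha

end Limit

section Universal

variable (T : Type u) [CommRing T] [HenselianLocalRing T] (φ : A →+* T) [IsLocalHom φ]

theorem existsUnique_lift_G (i : Idx A) :
    ∃! ψ : i.G →+* T, IsLocalHom ψ ∧ ψ.comp (algebraMap A i.G) = φ :=
  existsUnique_lift_strictEssEtale A i.G i.strict T φ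

/-- the lift on each stage -/
def liftG (i : Idx A) : i.G →+* T := (existsUnique_lift_G T φ i).choose

theorem liftG_spec (i : Idx A) :
    IsLocalHom (liftG T φ i) ∧ (liftG T φ i).comp (algebraMap A i.G) = φ :=
  (existsUnique_lift_G T φ i).choose_spec.1

theorem liftG_unique (i : Idx A) (ψ : i.G →+* T) (h1 : IsLocalHom ψ)
    (h2 : ψ.comp (algebraMap A i.G) = φ) : ψ = liftG T φ i :=
  (existsUnique_lift_G T φ i).choose_spec.2 ψ ⟨h1, h2⟩

theorem isLocalHom_tr (i j : Idx A) (h : i ≤ j) : IsLocalHom (tr i j h).toRingHom :=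
  ⟨fun x hx => isUnit_of_map i j (tr i j h) x hx⟩

theorem liftG_tr (i j : Idx A) (h : i ≤ j) (x : i.G) :
    liftG T φ j (tr i j h x) = liftG T φ i x := by
  have h1 : (liftG T φ j).comp (tr i j h).toRingHom = liftG T φ i := by
    apply liftG_unique
    · have := (liftG_spec T φ j).1
      have := isLocalHom_tr i j h
      exact RingHom.isLocalHom_comp _ _
    · ext a
      show liftG T φ j (tr i j h (algebraMap A i.G a)) = φ a
      rw [AlgHom.commutes]
      exact congrArg (fun F : A →+* T => F a) (liftG_spec T φ j).2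
  exact congrArg (fun F : i.G →+* T => F x) h1

/-- the lift of a local homomorphism to the henselization -/
def liftH : Hens A →+* T :=
  Ring.DirectLimit.lift (fun i : Idx A => i.G) (fun i j h => trR A i j h) T (liftG T φ)
    (fun i j h x => liftG_tr T φ i j h x)

theorem liftH_ofH (i : Idx A) (x : i.G) : liftH T φ (ofH i x) = liftG T φ i x := by
  unfold liftH ofH
  exact Ring.DirectLimit.lift_of _ _ _ _ _

theorem liftH_comp : (liftH T φ).comp (algebraMap A (Hens A)) = φ := by
  ext a
  have i : Idx A := Classical.arbitrary _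
  show liftH T φ (algebraMap A (Hens A) a) = φ a
  rw [algebraMap_eq i, liftH_ofH]
  exact congrArg (fun F : A →+* T => F a) (liftG_spec T φ i).2

theorem liftH_unique (g : Hens A →+* T) (hg : g.comp (algebraMap A (Hens A)) = φ) :
    g = liftH T φ := by
  have key : ∀ i : Idx A, g.comp (ofH i) = liftG T φ i := by
    intro i
    apply liftG_unique
    · constructor
      intro x hx
      by_contra hnu
      have hxm : x ∈ maximalIdeal i.G := (mem_maximalIdeal _).2 hnu
      rw [← map_maximalIdeal_of_essEtale A i.G i.strict.1] at hxm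
      have h1 : (g.comp (ofH i)) x ∈ Ideal.map (g.comp (ofH i))
          (Ideal.map (algebraMap A i.G) (maximalIdeal A)) := Ideal.mem_map_of_mem _ hxm
      rw [Ideal.map_map] at h1
      have h2 : (g.comp (ofH i)).comp (algebraMap A i.G) = φ := by
        rw [← hg]
        ext a
        show g (ofH i (algebraMap A i.G a)) = g (algebraMap A (Hens A) a)
        rw [algebraMap_eq i]
      rw [h2] at h1
      exact (mem_maximalIdeal _).1 (IsLocalRing.map_maximalIdeal_le φ h1) hx
    · rw [← hg]
      ext a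
      show g (ofH i (algebraMap A i.G a)) = g (algebraMap A (Hens A) a)
      rw [algebraMap_eq i]
  apply Ring.DirectLimit.hom_ext
  intro i
  ext x
  show g (ofH i x) = liftH T φ (ofH i x)
  rw [liftH_ofH]
  exact congrArg (fun F : i.G →+* T => F x) (key i)

end Universal

section Henselian

theorem scaleRoots_comp {R : Type*} [CommRing R] (p : R[X]) (s : R) :
    (scaleRoots p s).comp (C s * X) = C (s ^ p.natDegree) * p := by
  ext k
  rw [comp_C_mul_X_coeff, coeff_scaleRoots, coeff_C_mul]
  by_cases hk : k ≤ p.natDegree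
  · rw [mul_assoc, ← pow_add, Nat.sub_add_cancel hk, mul_comm]
  · rw [coeff_eq_zero_of_natDegree_lt (not_le.1 hk), zero_mul, zero_mul, mul_zero]



theorem scaled_conditions {S : Type*} [CommRing S] [IsLocalRing S] (p : S[X]) (σ a : S)
    (hσ : IsUnit σ) (h0 : p.eval a ∈ maximalIdeal S) (h1 : IsUnit (p.derivative.eval a)) :
    (scaleRoots p σ).eval (σ * a) ∈ maximalIdeal S ∧
      IsUnit ((scaleRoots p σ).derivative.eval (σ * a)) := by
  have hcompid := scaleRoots_comp p σ
  have hev : (scaleRoots p σ).eval (σ * a) = σ ^ p.natDegree * p.eval a := by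
    have := congrArg (eval a) hcompid
    rw [eval_comp, eval_mul, eval_mul, eval_C, eval_C, eval_X] at this
    exact this
  have hder : σ * (scaleRoots p σ).derivative.eval (σ * a) =
      σ ^ p.natDegree * p.derivative.eval a := by
    have := congrArg (fun r => eval a (derivative r)) hcompid
    simp only [derivative_comp, derivative_mul, derivative_C, derivative_X, zero_mul, zero_add,
      mul_one, eval_mul, eval_C, eval_comp, eval_X] at this
    exact this
  refine ⟨?_, ?_⟩
  · rw [hev]
    exact Ideal.mul_mem_left _ _ h0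
  · have hu : IsUnit (σ * (scaleRoots p σ).derivative.eval (σ * a)) := by
      rw [hder]
      exact (hσ.pow _).mul h1
    exact isUnit_of_mul_isUnit_right hu

theorem root_of_scaled {S T : Type*} [CommRing S] [CommRing T] [IsLocalRing T] (τ : S →+* T)
    (p : S[X]) (σ a : S) (hσ : IsUnit σ) (β : T)
    (hβ0 : ((scaleRoots p σ).map τ).eval β = 0) (hβm : β - τ (σ * a) ∈ maximalIdeal T) :
    ∃ y : T, (p.map τ).eval y = 0 ∧ y - τ a ∈ maximalIdeal T := by
  have hcompid := scaleRoots_comp p σ
  have hτu : IsUnit (τ σ) := hσ.map τ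
  obtain ⟨υ, hυ⟩ := hτu
  refine ⟨(↑υ⁻¹ : T) * β, ?_, ?_⟩
  · have hmapid := congrArg (Polynomial.map τ) hcompid
    rw [Polynomial.map_comp, Polynomial.map_mul, Polynomial.map_mul, map_C, map_C, map_X,
      map_pow] at hmapid
    have h2 := congrArg (eval ((↑υ⁻¹ : T) * β)) hmapid
    rw [eval_comp, eval_mul, eval_mul, eval_C, eval_C, eval_X, ← hυ, ← mul_assoc,
      Units.mul_inv, one_mul, hβ0] at h2
    have hu : IsUnit ((υ : T) ^ p.natDegree) := (υ.isUnit).pow _
    exact (hu.mul_right_eq_zero).1 h2.symm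
  · have e : (↑υ⁻¹ : T) * (υ : T) = 1 := Units.inv_mul υ
    have h4 : (↑υ⁻¹ : T) * β - τ a = (↑υ⁻¹ : T) * (β - τ (σ * a)) := by
      rw [map_mul, ← hυ]
      linear_combination (τ a) * e
    rw [h4]
    exact Ideal.mul_mem_left _ _ hβm

theorem scaleRoots_mem_lifts {R S : Type*} [CommRing R] [CommRing S] (φ : R →+* S) (p : S[X])
    (hp : p.Monic) (s : R) (hcoef : ∀ k, ∃ c, φ c = φ s * p.coeff k) :
    scaleRoots p (φ s) ∈ lifts φ := by
  rw [lifts_iff_coeff_lifts]
  intro k
  rw [coeff_scaleRoots]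
  rcases lt_trichotomy k p.natDegree with hk | hk | hk
  · obtain ⟨c, hc⟩ := hcoef k
    refine ⟨c * s ^ (p.natDegree - k - 1), ?_⟩
    rw [map_mul, map_pow, hc, mul_comm (φ s), mul_assoc, ← pow_succ']
    congr 2
    omega
  · refine ⟨1, ?_⟩
    rw [hk, hp.coeff_natDegree, Nat.sub_self, pow_zero, mul_one, map_one]
  · refine ⟨0, ?_⟩
    rw [coeff_eq_zero_of_natDegree_lt hk, zero_mul, map_zero]

theorem exists_common_denom {R S : Type*} [CommRing R] [CommRing S] [Algebra R S]
    (M : Submonoid R) [IsLocalization M S] (p : S[X]) (a : S) :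
    ∃ s : M, (∃ c : R, algebraMap R S c = algebraMap R S s * a) ∧
      ∀ k, ∃ c : R, algebraMap R S c = algebraMap R S s * p.coeff k := by
  classical
  obtain ⟨s, hs⟩ := IsLocalization.exist_integer_multiples_of_finset M
    (insert a (p.support.image p.coeff))
  have hint : ∀ z ∈ insert a (p.support.image p.coeff),
      ∃ c : R, algebraMap R S c = algebraMap R S s * z := by
    intro z hz
    obtain ⟨c, hc⟩ := hs z hz
    exact ⟨c, by rw [hc, Algebra.smul_def]⟩
  refine ⟨s, hint a (Finset.mem_insert_self _ _), ?_⟩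
  intro k
  by_cases hk : k ∈ p.support
  · exact hint _ (Finset.mem_insert_of_mem (Finset.mem_image_of_mem _ hk))
  · rw [notMem_support_iff] at hk
    exact ⟨0, by rw [hk, mul_zero, map_zero]⟩

theorem eval_lift_eq {R S : Type*} [CommRing R] [CommRing S] (φ : R →+* S) (F : R[X]) (q : S[X])
    (hF : F.map φ = q) (α : R) :
    φ (F.eval α) = q.eval (φ α) ∧ φ (F.derivative.eval α) = q.derivative.eval (φ α) := by
  subst hF
  constructor
  · rw [eval_map, eval₂_at_apply]
  · rw [derivative_map, eval_map, eval₂_at_apply]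

theorem algebraMap_sub_mem {R S : Type*} [CommRing R] [CommRing S] [IsLocalRing S] [Algebra R S]
    (I : Ideal R) [I.IsPrime] [IsLocalization.AtPrime S I] (x y : R) (h : x - y ∈ I) :
    algebraMap R S x - algebraMap R S y ∈ maximalIdeal S := by
  rw [← map_sub, IsLocalization.AtPrime.to_map_mem_maximal_iff S I]
  exact h



/-- Adjoining a simple root: object level. -/
theorem exists_root_obj (C : Type u) [CommRing C] [Algebra A C] [Algebra.Etale A C]
    (χ : C →ₐ[A] ResidueField A) (F : C[X]) (hF : F.Monic) (α : C)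
    (h0 : χ (F.eval α) = 0) (h1 : χ (F.derivative.eval α) ≠ 0) :
    ∃ (C' : Type u) (_ : CommRing C') (_ : Algebra A C') (_ : Algebra.Etale A C')
      (χ' : C' →ₐ[A] ResidueField A) (w : C →ₐ[A] C') (b : C'),
      χ'.comp w = χ ∧ (F.map w.toRingHom).eval b = 0 ∧ χ' b = χ α := by
  let P : StandardEtalePair C := ⟨F, hF, derivative F, ⟨1, 0, 1, by simp⟩⟩
  letI algAP : Algebra A P.Ring := ((algebraMap C P.Ring).comp (algebraMap A C)).toAlgebra
  haveI towP : IsScalarTower A C P.Ring := IsScalarTower.of_algebraMap_eq (fun _ => rfl)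
  haveI : Algebra.Etale A P.Ring := Algebra.Etale.comp A C P.Ring
  letI algCκ : Algebra C (ResidueField A) := χ.toRingHom.toAlgebra
  haveI towκ : IsScalarTower A C (ResidueField A) :=
    IsScalarTower.of_algebraMap_eq (fun a => (χ.commutes a).symm)
  have hχalg : ∀ c : C, algebraMap C (ResidueField A) c = χ c := fun c => rfl
  have hmap : P.HasMap (χ α) := by
    constructor
    · show aeval (χ α) F = 0
      rw [aeval_def, ← hχalg α, eval₂_at_apply, hχalg]
      exact h0
    · show IsUnit (aeval (χ α) (derivative F))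
      rw [aeval_def, ← hχalg α, eval₂_at_apply, hχalg]
      exact isUnit_iff_ne_zero.2 h1
  let χ'C : P.Ring →ₐ[C] ResidueField A := P.lift (χ α) hmap
  let χ' : P.Ring →ₐ[A] ResidueField A := χ'C.restrictScalars A
  refine ⟨P.Ring, inferInstance, algAP, inferInstance, χ', IsScalarTower.toAlgHom A C P.Ring,
    P.X, ?_, ?_, ?_⟩
  · ext c
    show χ'C (algebraMap C P.Ring c) = χ c
    rw [AlgHom.commutes]
    rfl
  · have := (StandardEtalePair.hasMap_X (P := P)).1
    rw [aeval_def] at this
    rw [eval_map]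
    exact this
  · show χ'C P.X = χ α
    exact P.lift_X _ hmap

/-- Adjoining a simple root: index level. -/
theorem exists_root_idx (i : Idx A) (F : i.C[X]) (hF : F.Monic) (α : i.C)
    (h0 : i.χ (F.eval α) = 0) (h1 : i.χ (F.derivative.eval α) ≠ 0) :
    ∃ (k : Idx A) (h : i ≤ k) (β : k.G),
      (F.map ((tr i k h).toRingHom.comp (algebraMap i.C i.G))).eval β = 0 ∧
      β - tr i k h (algebraMap i.C i.G α) ∈ maximalIdeal k.G := by
  obtain ⟨C', _, _, _, χ', w, b, hw, hb, hχb⟩ := exists_root_obj i.C i.χ F hF α h0 h1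
  obtain ⟨k, u, hu, -⟩ := exists_idx_of_character C' χ'
  have hv : k.χ.comp (u.comp w) = i.χ := by
    rw [← AlgHom.comp_assoc, hu, hw]
  obtain ⟨h, htr⟩ := exists_le_of_hom i k (u.comp w) hv
  refine ⟨k, h, algebraMap k.C k.G (u b), ?_, ?_⟩
  · have hcomp : (tr i k h).toRingHom.comp (algebraMap i.C i.G) =
        ((algebraMap k.C k.G).comp u.toRingHom).comp w.toRingHom := by
      apply RingHom.ext
      intro c
      exact htr c
    rw [hcomp, ← Polynomial.map_map, eval_map]
    have : eval₂ ((algebraMap k.C k.G).comp u.toRingHom) (algebraMap k.C k.G (u b))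
        (F.map w.toRingHom) = ((algebraMap k.C k.G).comp u.toRingHom)
          ((F.map w.toRingHom).eval b) := eval₂_at_apply _ _
    rw [this, hb, map_zero]
  · rw [htr]
    refine algebraMap_sub_mem (R := k.C) (S := k.G) k.q (u b) ((u.comp w) α) ?_
    rw [mem_q, map_sub, sub_eq_zero]
    have e1 : k.χ (u b) = χ' b := congrArg (fun G : C' →ₐ[A] ResidueField A => G b) hu
    have e2 : k.χ ((u.comp w) α) = i.χ α :=
      congrArg (fun G : i.C →ₐ[A] ResidueField A => G α) hv
    rw [e1, e2, hχb]

/-- Adjoining a simple root: for a polynomial over the local ring `i.G`. -/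
theorem exists_root_G (i : Idx A) (p : i.G[X]) (hp : p.Monic) (a : i.G)
    (h0 : p.eval a ∈ maximalIdeal i.G) (h1 : IsUnit (p.derivative.eval a)) :
    ∃ (k : Idx A) (h : i ≤ k) (y : k.G),
      (p.map (tr i k h).toRingHom).eval y = 0 ∧ y - tr i k h a ∈ maximalIdeal k.G := by
  obtain ⟨s, ⟨α, hα⟩, hcoef⟩ :=
    exists_common_denom (R := i.C) (S := i.G) i.q.primeCompl p a
  have hσu : IsUnit (algebraMap i.C i.G (s : i.C)) := IsLocalization.map_units i.G s
  have hqmonic : (scaleRoots p (algebraMap i.C i.G (s : i.C))).Monic :=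
    (monic_scaleRoots_iff _).2 hp
  have hqlifts := scaleRoots_mem_lifts (R := i.C) (S := i.G) (algebraMap i.C i.G) p hp
    (s : i.C) hcoef
  obtain ⟨F, hFmap, -, hFmonic⟩ := lifts_and_degree_eq_and_monic hqlifts hqmonic
  obtain ⟨hq0, hq1⟩ := scaled_conditions p (algebraMap i.C i.G (s : i.C)) a hσu h0 h1
  obtain ⟨hFev, hFder⟩ := eval_lift_eq (algebraMap i.C i.G) F _ hFmap α
  rw [hα] at hFev hFder
  have hF0 : i.χ (F.eval α) = 0 := by
    rw [← mem_q, ← IsLocalization.AtPrime.to_map_mem_maximal_iff i.G i.q, hFev]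
    exact hq0
  have hF1 : i.χ (F.derivative.eval α) ≠ 0 := by
    rw [Ne, ← mem_q, ← IsLocalization.AtPrime.to_map_mem_maximal_iff i.G i.q, hFder,
      mem_maximalIdeal, mem_nonunits_iff, not_not]
    exact hq1
  obtain ⟨k, h, β, hβ0, hβm⟩ := exists_root_idx i F hFmonic α hF0 hF1
  have h3 : ((scaleRoots p (algebraMap i.C i.G (s : i.C))).map (tr i k h).toRingHom).eval β
      = 0 := by
    rw [← hFmap, Polynomial.map_map]
    exact hβ0
  have h5 : β - (tr i k h).toRingHom (algebraMap i.C i.G (s : i.C) * a) ∈ maximalIdeal k.G := by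
    rw [← hα]
    exact hβm
  obtain ⟨y, hy0, hym⟩ := root_of_scaled (tr i k h).toRingHom p _ a hσu β h3 h5
  exact ⟨k, h, y, hy0, hym⟩

theorem exists_poly_ofH (f : (Hens A)[X]) :
    ∃ (i : Idx A) (p : i.G[X]), p.map (ofH i) = f := by
  have := Ring.DirectLimit.Polynomial.exists_of
    (G := fun i : Idx A => i.G) (f' := fun i j h => trR A i j h)
    (show Polynomial (Ring.DirectLimit (fun i : Idx A => i.G) (fun i j h => trR A i j h)) from f)
  exact this

theorem hens_is_henselian (f : (Hens A)[X]) (hf : f.Monic) (a₀ : Hens A)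
    (h0 : f.eval a₀ ∈ maximalIdeal (Hens A)) (h1 : IsUnit (f.derivative.eval a₀)) :
    ∃ a : Hens A, f.IsRoot a ∧ a - a₀ ∈ maximalIdeal (Hens A) := by
  obtain ⟨i, p, hp⟩ := exists_poly_ofH f
  have hlifts : f ∈ lifts (ofH i) := (mem_lifts _).2 ⟨p, hp⟩
  obtain ⟨p₁, hp₁, -, hp₁m⟩ := lifts_and_degree_eq_and_monic hlifts hf
  obtain ⟨j, a', rfl⟩ := exists_ofH a₀
  obtain ⟨k, hik, hjk⟩ := exists_ge_ge i j
  have hofk : (ofH k).comp (tr i k hik).toRingHom = ofH i := by
    ext x
    exact ofH_tr i k hik x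
  set p₂ := p₁.map (tr i k hik).toRingHom with hp₂
  set a₂ := tr j k hjk a' with ha₂
  have hp₂m : p₂.Monic := hp₁m.map _
  have hp₂f : p₂.map (ofH k) = f := by
    rw [hp₂, Polynomial.map_map, hofk, hp₁]
  have ha₂' : ofH k a₂ = ofH j a' := ofH_tr j k hjk a'
  have e0 : f.eval (ofH j a') = ofH k (p₂.eval a₂) := by
    rw [← hp₂f, ← ha₂', eval_map, eval₂_at_apply]
  have e1 : f.derivative.eval (ofH j a') = ofH k (p₂.derivative.eval a₂) := by
    rw [← hp₂f, ← ha₂', derivative_map, eval_map, eval₂_at_apply]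
  rw [e0, ofH_mem_maximalIdeal_iff] at h0
  rw [e1, isUnit_ofH_iff] at h1
  obtain ⟨l, hkl, y, hy0, hym⟩ := exists_root_G k p₂ hp₂m a₂ h0 h1
  have hofl : (ofH l).comp (tr k l hkl).toRingHom = ofH k := by
    ext x
    exact ofH_tr k l hkl x
  refine ⟨ofH l y, ?_, ?_⟩
  · show f.eval (ofH l y) = 0
    rw [← hp₂f, ← hofl, ← Polynomial.map_map, eval_map, eval₂_at_apply, hy0, map_zero]
  · rw [← ha₂', ← ofH_tr k l hkl, ← map_sub, ofH_mem_maximalIdeal_iff]
    exact hym

instance : HenselianLocalRing (Hens A) :=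
  { (inferInstance : IsLocalRing (Hens A)) with
    is_henselian := hens_is_henselian }

end Henselian

instance : Hensel.IsHenselization A (Hens A) where
  henselian := inferInstance
  universal T _ _ f hf := by
    haveI := hf
    exact ⟨liftH T f, liftH_comp T f, fun g hg => liftH_unique T f g hg⟩

theorem exists_isHenselization (R : Type u) [CommRing R] [IsLocalRing R] :
    ∃ (S : Type u) (_ : CommRing S) (_ : IsLocalRing S) (_ : Algebra R S)
      (_ : IsLocalHom (algebraMap R S)), Hensel.IsHenselization R S :=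
  ⟨Hens R, inferInstance, inferInstance, inferInstance, inferInstance, inferInstance⟩

end Groth.Agent.Lib.helper24.Henselization

end
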