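import Groth.Agent.Lib.Helper24.StrictHens
import Groth.Prelude.Def_Hensel

/-!
# Uniqueness, flatness and unramifiedness of the strict henselization (helper24)
-/

set_option autoImplicit false
set_option linter.unusedSectionVars false

noncomputable section

namespace Groth.Agent.Lib.Helper24.StrictHens

open IsLocalRing Polynomial TensorProduct SIdx

universe u

section Uniqueness

/-- Two strict henselizations are isomorphic as algebras. -/
theorem exists_algEquiv (R S S' : Type u) [CommRing R] [IsLocalRing R]
    [CommRing S] [IsLocalRing S] [Algebra R S] [IsLocalHom (algebraMap R S)]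
    [hS : Hensel.IsStrictHenselization R S]
    [CommRing S'] [IsLocalRing S'] [Algebra R S'] [IsLocalHom (algebraMap R S')]
    [hS' : Hensel.IsStrictHenselization R S'] : Nonempty (S ≃ₐ[R] S') := by
  have hSh : HenselianLocalRing S := hS.henselian
  have hS'h : HenselianLocalRing S' := hS'.henselian
  have hsc : IsSepClosure (ResidueField R) (ResidueField S) := hS.isSepClosure
  have hsc' : IsSepClosure (ResidueField R) (ResidueField S') := hS'.isSepClosure
  let φ : ResidueField S ≃ₐ[ResidueField R] ResidueField S' :=
    IsSepClosure.equiv (ResidueField R) (ResidueField S) (ResidueField S')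
  have hφ : (φ : ResidueField S →+* ResidueField S').comp
      (IsLocalRing.ResidueField.map (algebraMap R S)) =
      IsLocalRing.ResidueField.map (algebraMap R S') := by
    ext x
    exact φ.commutes x
  have hφ' : (φ.symm : ResidueField S' →+* ResidueField S).comp
      (IsLocalRing.ResidueField.map (algebraMap R S')) =
      IsLocalRing.ResidueField.map (algebraMap R S) := by
    ext x
    exact φ.symm.commutes x
  obtain ⟨g, ⟨hg, hgr⟩, -⟩ := hS.universal S' (algebraMap R S') _ hφ
  obtain ⟨g', ⟨hg', hgr'⟩, -⟩ := hS'.universal S (algebraMap R S) _ hφ'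
  have hid : (RingHom.id (ResidueField S)).comp (IsLocalRing.ResidueField.map (algebraMap R S)) =
      IsLocalRing.ResidueField.map (algebraMap R S) := RingHom.id_comp _
  have hid' : (RingHom.id (ResidueField S')).comp
      (IsLocalRing.ResidueField.map (algebraMap R S')) =
      IsLocalRing.ResidueField.map (algebraMap R S') := RingHom.id_comp _
  obtain ⟨i, -, hi⟩ := hS.universal S (algebraMap R S) _ hid
  obtain ⟨i', -, hi'⟩ := hS'.universal S' (algebraMap R S') _ hid'
  have h1 : g'.comp g = RingHom.id S := by
    rw [hi (g'.comp g) ⟨by rw [RingHom.comp_assoc, hg, hg'], fun x => by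
        show residue S (g' (g x)) = residue S x
        rw [hgr', hgr]
        exact φ.symm_apply_apply _⟩,
      hi (RingHom.id S) ⟨RingHom.id_comp _, fun x => rfl⟩]
  have h2 : g.comp g' = RingHom.id S' := by
    rw [hi' (g.comp g') ⟨by rw [RingHom.comp_assoc, hg', hg], fun x => by
        show residue S' (g (g' x)) = residue S' x
        rw [hgr, hgr']
        exact φ.apply_symm_apply _⟩,
      hi' (RingHom.id S') ⟨RingHom.id_comp _, fun x => rfl⟩]
  exact ⟨AlgEquiv.ofRingEquiv (f := RingEquiv.ofRingHom g g' h2 h1)
    (fun r => congrArg (fun F : R →+* S' => F r) hg)⟩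

end Uniqueness

variable {A : Type u} [CommRing A] [IsLocalRing A] {Ω : Type u} [Field Ω] [Algebra A Ω]
  [Algebra (ResidueField A) Ω] [IsScalarTower A (ResidueField A) Ω]

instance (i : SIdx A Ω) : Module.Flat A i.C := inferInstance

instance (i : SIdx A Ω) : Module.Flat A i.G := by
  have h1 : Module.Flat A i.C := inferInstance
  have h2 : Module.Flat i.C i.G := IsLocalization.flat i.G i.q.primeCompl
  exact Module.Flat.trans A i.C i.G

attribute [local irreducible] instCommRingSHens SIdx.instCommRingG SIdx.instCommRingC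

theorem exists_ofS_fin {l : ℕ} (x : Fin l → SHens A Ω) :
    ∃ (k : SIdx A Ω) (x' : Fin l → k.G), ∀ i, ofS k (x' i) = x i := by
  induction l with
  | zero => exact ⟨Classical.arbitrary _, fun i => i.elim0, fun i => i.elim0⟩
  | succ l ih =>
    obtain ⟨k, x', hx'⟩ := ih (fun i => x i.succ)
    obtain ⟨j, y, hy⟩ := exists_ofS (x 0)
    obtain ⟨m, hkm, hjm⟩ := exists_ge_ge k j
    refine ⟨m, Fin.cons (tr j m hjm y) (fun i => tr k m hkm (x' i)), ?_⟩
    intro i
    refine Fin.cases ?_ (fun i => ?_) i
    · rw [Fin.cons_zero, ofS_tr, hy]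
    · rw [Fin.cons_succ, ofS_tr, hx']

theorem smul_ofS (i : SIdx A Ω) (a : A) (x : i.G) : a • ofS i x = ofS i (a • x) := by
  rw [Algebra.smul_def, Algebra.smul_def, map_mul, algebraMap_eq i]

theorem ofS_eq_zero {i : SIdx A Ω} {x : i.G} (h : ofS i x = 0) :
    ∃ (k : SIdx A Ω) (hik : i ≤ k), tr i k hik x = 0 := by
  have h' : ofS i x = ofS i 0 := by rw [h, map_zero]
  obtain ⟨k, hik, _, hk⟩ := ofS_eq_ofS h'
  exact ⟨k, hik, by rw [hk, map_zero]⟩

instance : Module.Flat A (SHens A Ω) := by
  refine Module.Flat.iff_forall_isTrivialRelation.2 ?_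
  intro l f x hrel
  obtain ⟨k, x', hx'⟩ := exists_ofS_fin x
  have h0 : ofS k (∑ i, f i • x' i) = 0 := by
    rw [map_sum, ← hrel]
    refine Finset.sum_congr rfl (fun i _ => ?_)
    rw [← smul_ofS, hx']
  obtain ⟨m, hkm, hm⟩ := ofS_eq_zero h0
  have hrel' : ∑ i, f i • (tr k m hkm (x' i)) = 0 := by
    rw [← hm, map_sum]
    refine Finset.sum_congr rfl (fun i _ => ?_)
    rw [map_smul]
  obtain ⟨k', a, y, hy1, hy2⟩ := Module.Flat.isTrivialRelation_of_sum_smul_eq_zero hrel'
  refine ⟨k', a, fun j => ofS m (y j), ?_, hy2⟩
  intro i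
  have hy1' : tr k m hkm (x' i) = ∑ j, a i j • y j := hy1 i
  rw [← hx', ← ofS_tr k m hkm, hy1', map_sum]
  refine Finset.sum_congr rfl (fun j _ => ?_)
  show ofS m (a i j • y j) = a i j • ofS m (y j)
  rw [smul_ofS]

instance : Module.FaithfullyFlat A (SHens A Ω) := Module.FaithfullyFlat.of_flat_of_isLocalHom

theorem map_maximalIdeal_stage (i : SIdx A Ω) :
    (maximalIdeal A).map (algebraMap A i.G) = maximalIdeal i.G :=
  Algebra.FormallyUnramified.map_maximalIdeal

theorem map_maximalIdeal_SHens :
    (maximalIdeal A).map (algebraMap A (SHens A Ω)) = maximalIdeal (SHens A Ω) := by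
  apply le_antisymm (IsLocalRing.map_maximalIdeal_le (algebraMap A (SHens A Ω)))
  intro z hz
  obtain ⟨i, x, rfl⟩ := exists_ofS z
  rw [ofS_mem_maximalIdeal_iff, ← map_maximalIdeal_stage] at hz
  have hcomp : algebraMap A (SHens A Ω) = (ofS i).comp (algebraMap A i.G) := by
    ext a
    exact algebraMap_eq i a
  rw [hcomp, ← Ideal.map_map]
  exact Ideal.mem_map_of_mem _ hz

section Transfer

variable (R : Type u) [CommRing R] [IsLocalRing R]

/-- The standard separable closure of the residue field, as an `R`-algebra. -/
abbrev Ωstd : Type u := SeparableClosure (ResidueField R)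

instance : Algebra R (Ωstd R) :=
  ((algebraMap (ResidueField R) (Ωstd R)).comp (algebraMap R (ResidueField R))).toAlgebra

instance : IsScalarTower R (ResidueField R) (Ωstd R) :=
  IsScalarTower.of_algebraMap_eq (fun _ => rfl)

/-- The standard strict henselization. -/
abbrev SH : Type u := SHens R (Ωstd R)

instance : Hensel.IsStrictHenselization R (SH R) :=
  { henselian := inferInstance
    isSepClosure := inferInstance
    universal := fun T _ _ f _ τ hτ => universal T f τ hτ }

variable (S : Type u) [CommRing S] [IsLocalRing S] [Algebra R S] [IsLocalHom (algebraMap R S)]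
  [Hensel.IsStrictHenselization R S]

/-- Any strict henselization is isomorphic to the standard one. -/
theorem exists_algEquiv_SH : Nonempty (SH R ≃ₐ[R] S) := exists_algEquiv R (SH R) S

theorem faithfullyFlat_of_isStrictHenselization : Module.FaithfullyFlat R S := by
  obtain ⟨e⟩ := exists_algEquiv_SH R S
  have : Module.Flat R S := Module.Flat.of_linearEquiv e.symm.toLinearEquiv
  exact Module.FaithfullyFlat.of_flat_of_isLocalHom

theorem map_maximalIdeal_of_isStrictHenselization :
    (maximalIdeal R).map (algebraMap R S) = maximalIdeal S := by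
  obtain ⟨e⟩ := exists_algEquiv_SH R S
  apply le_antisymm (IsLocalRing.map_maximalIdeal_le (algebraMap R S))
  intro z hz
  have h1 : e.symm z ∈ maximalIdeal (SH R) := by
    by_contra hnu
    have hu : IsUnit (e.symm z) := by
      by_contra h'
      exact hnu h'
    have hu' : IsUnit (e (e.symm z)) := hu.map e
    rw [e.apply_symm_apply] at hu'
    exact hz hu'
  rw [← map_maximalIdeal_SHens] at h1
  have h2 : e (e.symm z) ∈ ((maximalIdeal R).map (algebraMap R (SH R))).map
      (e : SH R →+* S) := Ideal.mem_map_of_mem _ h1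
  rw [e.apply_symm_apply, Ideal.map_map] at h2
  have h3 : (e : SH R →+* S).comp (algebraMap R (SH R)) = algebraMap R S := by
    ext r
    exact e.commutes r
  rwa [h3] at h2

end Transfer

end Groth.Agent.Lib.Helper24.StrictHens

end
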