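import Mathlib
import Groth.Prelude.Def_Found
import Groth.Prelude.Def_EGA4b

/-!
# Catenary equidimensional local rings (helper24)

For a catenary Noetherian local ring `A`:
* `coheight_covBy` (taken from `Groth.Agent.S8815`): `p ⋖ q → coheight p = coheight q + 1`;
* `exists_minimal_height_add_coheight`: every prime `p` has a minimal prime `p₀ ≤ p` with
  `height p + coheight p = coheight p₀`;
* `height_add_dim_quotient_eq`: if moreover `A` is equidimensional,
  `ht p + dim A/p = dim A` for every prime `p`.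
-/

set_option autoImplicit false
universe u

namespace Groth.Agent.Lib.Helper24.CatEquidim

lemma coheight_eq_ringKrullDim_quotient {R : Type*} [CommRing R] (P : PrimeSpectrum R) :
    ((Order.coheight P : ℕ∞) : WithBot ℕ∞) = ringKrullDim (R ⧸ P.asIdeal) := by
  rw [ringKrullDim_quotient, Order.coheight_eq_krullDim_Ici]
  have : Set.Ici P = PrimeSpectrum.zeroLocus (P.asIdeal : Set R) := by
    ext q
    simp only [Set.mem_Ici, PrimeSpectrum.mem_zeroLocus, SetLike.coe_subset_coe]
    exact PrimeSpectrum.asIdeal_le_asIdeal _ _ |>.symm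
  exact Order.krullDim_eq_of_orderIso (OrderIso.setCongr _ _ this)

section Aux
variable {A : Type u} [CommRing A] [IsNoetherianRing A] [IsLocalRing A]

lemma le_closedPoint (x : PrimeSpectrum A) : x ≤ IsLocalRing.closedPoint A :=
  (PrimeSpectrum.le_iff_specializes _ _).mpr (IsLocalRing.specializes_closedPoint x)

lemma cons_covBy {m : ℕ} {x : PrimeSpectrum A} {f : Fin (m + 1) → PrimeSpectrum A}
    (h0 : x ⋖ f 0) (hf : ∀ i : Fin m, f i.castSucc ⋖ f i.succ) :
    ∀ i : Fin (m + 1), (Fin.cons x f : Fin (m + 2) → PrimeSpectrum A) i.castSucc ⋖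
      (Fin.cons x f : Fin (m + 2) → PrimeSpectrum A) i.succ := by
  intro i
  refine Fin.cases ?_ (fun j => ?_) i
  · simp only [Fin.castSucc_zero, Fin.cons_zero, Fin.cons_succ]; exact h0
  · rw [← Fin.succ_castSucc, Fin.cons_succ, Fin.cons_succ]; exact hf j

lemma exists_sat_chain : ∀ (m : ℕ) (x : PrimeSpectrum A), Order.coheight x = m →
    ∃ f : Fin (m + 1) → PrimeSpectrum A, f 0 = x ∧ f (Fin.last m) = IsLocalRing.closedPoint A ∧
      ∀ i : Fin m, f i.castSucc ⋖ f i.succ := by
  intro m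
  induction m with
  | zero =>
    intro x hx
    rw [Nat.cast_zero, Order.coheight_eq_zero] at hx
    have hle := le_closedPoint x
    exact ⟨fun _ => x, rfl, le_antisymm hle (hx hle), fun i => i.elim0⟩
  | succ m ih =>
    intro x hx
    rw [Nat.cast_succ, Order.coheight_eq_coe_add_one_iff] at hx
    obtain ⟨-, ⟨y, hxy, hy⟩, hall⟩ := hx
    obtain ⟨f, hf0, hfl, hfs⟩ := ih y hy
    have hcov : x ⋖ f 0 := by
      rw [hf0]
      refine ⟨hxy, fun z hxz hzy => ?_⟩
      have h1 := hall z hxz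
      have h2 := Order.coheight_add_one_le hzy
      rw [hy] at h2
      have : ((m : ℕ∞) + 1) ≤ m := h2.trans h1
      have : (m + 1 : ℕ) ≤ m := by exact_mod_cast this
      omega
    refine ⟨Fin.cons x f, by simp, ?_, cons_covBy hcov hfs⟩
    rw [← Fin.succ_last, Fin.cons_succ]; exact hfl

lemma coheight_covBy (hA : CAlg.IsCatenary A) {p q : PrimeSpectrum A} (h : p ⋖ q) :
    Order.coheight p = Order.coheight q + 1 := by
  obtain ⟨m, hm⟩ := ENat.ne_top_iff_exists.mp (Order.coheight_lt_top q).ne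
  obtain ⟨m', hm'⟩ := ENat.ne_top_iff_exists.mp (Order.coheight_lt_top p).ne
  obtain ⟨f, hf0, hfl, hfs⟩ := exists_sat_chain m q hm.symm
  obtain ⟨g, hg0, hgl, hgs⟩ := exists_sat_chain m' p hm'.symm
  have hs1 := cons_covBy (x := p) (f := f) (by rw [hf0]; exact h) hfs
  let s : LTSeries (PrimeSpectrum A) :=
    { length := m + 1, toFun := Fin.cons p f, step := fun i => (hs1 i).lt }
  let t : LTSeries (PrimeSpectrum A) :=
    { length := m', toFun := g, step := fun i => (hgs i).lt }
  have hhead : s.head = t.head := by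
    show (Fin.cons p f : Fin (m + 2) → PrimeSpectrum A) 0 = g 0
    rw [Fin.cons_zero, hg0]
  have hlast : s.last = t.last := by
    show (Fin.cons p f : Fin (m + 2) → PrimeSpectrum A) (Fin.last (m + 1)) = g (Fin.last m')
    rw [← Fin.succ_last, Fin.cons_succ, hfl, hgl]
  have key : m + 1 = m' := hA.2 s t hhead hlast hs1 hgs
  rw [← hm, ← hm', ← key]
  push_cast; rfl

/-- Every prime `p` of a catenary Noetherian local ring has a minimal prime `p₀ ≤ p` with
`height p + coheight p = coheight p₀`. -/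
theorem exists_minimal_height_add_coheight (hA : CAlg.IsCatenary A) :
    ∀ (n : ℕ) (p : PrimeSpectrum A), Order.height p = n →
      ∃ p₀ : PrimeSpectrum A, p₀ ≤ p ∧ IsMin p₀ ∧
        (n : ℕ∞) + Order.coheight p = Order.coheight p₀ := by
  intro n
  induction n with
  | zero =>
    intro p hp
    rw [Nat.cast_zero, Order.height_eq_zero] at hp
    exact ⟨p, le_rfl, hp, by simp⟩
  | succ n ih =>
    intro p hp
    rw [Nat.cast_succ, Order.height_eq_coe_add_one_iff] at hp
    obtain ⟨-, ⟨y, hyp, hy⟩, hall⟩ := hp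
    obtain ⟨p₀, hp₀y, hmin, heq⟩ := ih y hy
    have hcov : y ⋖ p := by
      refine ⟨hyp, fun z hyz hzp => ?_⟩
      have h1 := hall z hzp
      have h2 := Order.height_add_one_le hyz
      rw [hy] at h2
      have : ((n : ℕ∞) + 1) ≤ n := h2.trans h1
      have : (n + 1 : ℕ) ≤ n := by exact_mod_cast this
      omega
    refine ⟨p₀, hp₀y.trans hyp.le, hmin, ?_⟩
    rw [← heq, coheight_covBy hA hcov]
    push_cast
    ring

end Aux

section Main
variable (A : Type u) [CommRing A] [IsNoetherianRing A] [IsLocalRing A]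

theorem mem_minimalPrimes_of_isMin (p₀ : PrimeSpectrum A) (h : IsMin p₀) :
    p₀.asIdeal ∈ minimalPrimes A := by
  refine ⟨⟨p₀.isPrime, bot_le⟩, ?_⟩
  rintro q ⟨hq, -⟩ hqp
  exact h (b := ⟨q, hq⟩) hqp

theorem height_eq_orderHeight (p : PrimeSpectrum A) : p.asIdeal.height = Order.height p :=
  PrimeSpectrum.height_eq_orderHeight p

/-- For every prime `p` of a catenary Noetherian local ring there is a minimal prime `p₀ ≤ p` with
`ht p + dim A/p = dim A/p₀`. -/
theorem exists_minimalPrimes_height_add_dim (hA : CAlg.IsCatenary A) (p : Ideal A) [hp : p.IsPrime] :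
    ∃ p₀ ∈ minimalPrimes A, p₀ ≤ p ∧
      (p.height : WithBot ℕ∞) + ringKrullDim (A ⧸ p) = ringKrullDim (A ⧸ p₀) := by
  obtain ⟨n, hn⟩ := ENat.ne_top_iff_exists.mp (Ideal.height_ne_top_of_isPrime (I := p))
  have hn' : Order.height (⟨p, hp⟩ : PrimeSpectrum A) = n := by
    rw [← PrimeSpectrum.height_eq_orderHeight]; exact hn.symm
  obtain ⟨p₀, hle, hmin, heq⟩ := exists_minimal_height_add_coheight hA n ⟨p, hp⟩ hn'
  refine ⟨p₀.asIdeal, mem_minimalPrimes_of_isMin A p₀ hmin, hle, ?_⟩
  rw [← coheight_eq_ringKrullDim_quotient p₀, ← heq, ← hn]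
  have := coheight_eq_ringKrullDim_quotient (⟨p, hp⟩ : PrimeSpectrum A)
  simp only at this
  rw [← this]
  push_cast
  rfl

/-- **Dimension formula**: in an equidimensional catenary Noetherian local ring,
`ht p + dim A/p = dim A`. -/
theorem height_add_dim_quotient_eq (hA : CAlg.IsCatenary A) (heq : EGA4.IsEquidim A)
    (p : Ideal A) [hp : p.IsPrime] :
    (p.height : WithBot ℕ∞) + ringKrullDim (A ⧸ p) = ringKrullDim A := by
  obtain ⟨p₀, hp₀, -, h⟩ := exists_minimalPrimes_height_add_dim A hA p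
  rw [h, heq p₀ hp₀]

end Main

section General

/-- The dimension of a ring is bounded by the dimensions of the quotients by its minimal primes. -/
theorem ringKrullDim_le_of_forall_minimalPrimes (R : Type u) [CommRing R] (c : WithBot ℕ∞)
    (h : ∀ P ∈ minimalPrimes R, ringKrullDim (R ⧸ P) ≤ c) : ringKrullDim R ≤ c := by
  rw [ringKrullDim, Order.krullDim_eq_iSup_coheight]
  refine iSup_le fun q => ?_
  obtain ⟨P, hP, hPq⟩ := Ideal.exists_minimalPrimes_le (I := ⊥) (J := q.asIdeal) bot_le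
  haveI : P.IsPrime := hP.1.1
  have h1 : Order.coheight q ≤ Order.coheight (⟨P, hP.1.1⟩ : PrimeSpectrum R) :=
    Order.coheight_anti (show (⟨P, hP.1.1⟩ : PrimeSpectrum R) ≤ q from hPq)
  have h2 := coheight_eq_ringKrullDim_quotient (⟨P, hP.1.1⟩ : PrimeSpectrum R)
  calc ((Order.coheight q : ℕ∞) : WithBot ℕ∞)
      ≤ ((Order.coheight (⟨P, hP.1.1⟩ : PrimeSpectrum R) : ℕ∞) : WithBot ℕ∞) := by
        exact_mod_cast h1
    _ = ringKrullDim (R ⧸ P) := h2
    _ ≤ c := h P hP

/-- Flat (going-down) maps: a minimal prime over `pS` contracts to `p`. -/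
theorem comap_eq_of_mem_minimalPrimes_map (R S : Type u) [CommRing R] [CommRing S] [Algebra R S]
    [Algebra.HasGoingDown R S] (p : Ideal R) [p.IsPrime] (Q : Ideal S)
    (hQ : Q ∈ (p.map (algebraMap R S)).minimalPrimes) : Q.comap (algebraMap R S) = p := by
  haveI : Q.IsPrime := hQ.1.1
  have hle : p ≤ Q.comap (algebraMap R S) := Ideal.map_le_iff_le_comap.mp hQ.1.2
  haveI : Q.LiesOver (Q.comap (algebraMap R S)) := ⟨rfl⟩
  obtain ⟨Q', hQ'Q, hQ'prime, hQ'lo⟩ :=
    Ideal.exists_ideal_le_liesOver_of_le (p := p) (q := Q.comap (algebraMap R S)) Q hle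
  have hpQ' : p.map (algebraMap R S) ≤ Q' := by
    rw [Ideal.map_le_iff_le_comap]
    exact hQ'lo.over.le
  have hQQ' : Q ≤ Q' := hQ.2 ⟨hQ'prime, hpQ'⟩ hQ'Q
  have heq : Q = Q' := le_antisymm hQQ' hQ'Q
  rw [heq]
  exact hQ'lo.over.symm

end General

end Groth.Agent.Lib.Helper24.CatEquidim
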