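import Mathlib

/-!
# Dimension formula for flat local homomorphisms (helper24)

`ringKrullDim_eq_add_of_flat` : for a flat local homomorphism `R → S` of Noetherian local rings,
`dim S = dim R + dim S/m_R S`.
-/

set_option autoImplicit false

namespace Groth.Agent.Lib.Helper24.FlatDimFormula

open IsLocalRing

universe u

theorem map_le_maximalIdeal (R S : Type u) [CommRing R] [CommRing S] [IsLocalRing R]
    [IsLocalRing S] [Algebra R S] [IsLocalHom (algebraMap R S)] :
    (maximalIdeal R).map (algebraMap R S) ≤ maximalIdeal S :=
  ((IsLocalRing.local_hom_TFAE (algebraMap R S)).out 0 2 rfl rfl).mp ‹_›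

/-- The closed fibre `S/m_R S` is a local ring. -/
theorem isLocalRing_quotient (R S : Type u) [CommRing R] [CommRing S] [IsLocalRing R]
    [IsLocalRing S] [Algebra R S] [IsLocalHom (algebraMap R S)] :
    IsLocalRing (S ⧸ (maximalIdeal R).map (algebraMap R S)) := by
  haveI : Nontrivial (S ⧸ (maximalIdeal R).map (algebraMap R S)) :=
    Ideal.Quotient.nontrivial_iff.mpr
      (ne_top_of_le_ne_top (maximalIdeal.isMaximal S).ne_top (map_le_maximalIdeal R S))
  exact .of_surjective' _ Ideal.Quotient.mk_surjective

theorem maximalIdeal_quotient (R S : Type u) [CommRing R] [CommRing S] [IsLocalRing R]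
    [IsLocalRing S] [Algebra R S] [IsLocalHom (algebraMap R S)] :
    letI := isLocalRing_quotient R S
    maximalIdeal (S ⧸ (maximalIdeal R).map (algebraMap R S)) =
      (maximalIdeal S).map (Ideal.Quotient.mk ((maximalIdeal R).map (algebraMap R S))) := by
  letI := isLocalRing_quotient R S
  symm
  apply IsLocalRing.eq_maximalIdeal
  refine Ideal.IsMaximal.map_of_surjective_of_ker_le Ideal.Quotient.mk_surjective ?_
  rw [Ideal.mk_ker]
  exact map_le_maximalIdeal R S

/-- **Dimension formula** for flat local homomorphisms of Noetherian local rings. -/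
theorem ringKrullDim_eq_add_of_flat (R S : Type u) [CommRing R] [CommRing S] [IsLocalRing R]
    [IsLocalRing S] [IsNoetherianRing R] [IsNoetherianRing S] [Algebra R S]
    [IsLocalHom (algebraMap R S)] [Module.Flat R S] :
    ringKrullDim S = ringKrullDim R +
      ringKrullDim (S ⧸ (maximalIdeal R).map (algebraMap R S)) := by
  letI := isLocalRing_quotient R S
  have hlies : (maximalIdeal S).LiesOver (maximalIdeal R) :=
    ⟨(IsLocalRing.maximalIdeal_comap (algebraMap R S)).symm⟩
  have h := Ideal.height_eq_height_add_of_liesOver_of_hasGoingDown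
    (maximalIdeal R) (maximalIdeal S)
  rw [← maximalIdeal_quotient R S] at h
  rw [← IsLocalRing.maximalIdeal_height_eq_ringKrullDim,
    ← IsLocalRing.maximalIdeal_height_eq_ringKrullDim,
    ← IsLocalRing.maximalIdeal_height_eq_ringKrullDim, h, WithBot.coe_add]

end Groth.Agent.Lib.Helper24.FlatDimFormula
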