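import Mathlib
import Groth.Agent.Lib.Helper24.FlatDimFormula

/-!
# Quotients of flat local homomorphisms (helper24)

For `R → S` flat local and `I ⊆ R` proper: `R/I → S/IS` is flat local with the same closed fibre,
hence `dim S/IS = dim R/I + dim S/m_R S`.
-/

set_option autoImplicit false
universe u

open IsLocalRing

namespace Groth.Agent.Lib.Helper24.FlatQuot

variable (R S : Type u) [CommRing R] [CommRing S] [Algebra R S] (I : Ideal R)

theorem flat_quotient [Module.Flat R S] :
    Module.Flat (R ⧸ I) (S ⧸ I.map (algebraMap R S)) :=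
  Module.Flat.of_linearEquiv (Algebra.TensorProduct.quotIdealMapEquivQuotTensor S I).toLinearEquiv

theorem map_ne_top [IsLocalRing R] [IsLocalRing S] [IsLocalHom (algebraMap R S)] (hI : I ≠ ⊤) :
    I.map (algebraMap R S) ≠ ⊤ := by
  intro h
  have h1 : I.map (algebraMap R S) ≤ maximalIdeal S :=
    (Ideal.map_mono (IsLocalRing.le_maximalIdeal hI)).trans
      (Groth.Agent.Lib.Helper24.FlatDimFormula.map_le_maximalIdeal R S)
  rw [h] at h1
  exact (maximalIdeal.isMaximal S).ne_top (top_le_iff.mp h1)

theorem isLocalHom_quotient [IsLocalRing R] [IsLocalRing S] [IsLocalHom (algebraMap R S)]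
    (hI : I ≠ ⊤) : IsLocalHom (algebraMap (R ⧸ I) (S ⧸ I.map (algebraMap R S))) := by
  constructor
  intro a ha
  obtain ⟨r, rfl⟩ := Ideal.Quotient.mk_surjective a
  have h1 : IsUnit (Ideal.Quotient.mk (I.map (algebraMap R S)) (algebraMap R S r)) := ha
  -- unit mod a proper ideal in a local ring
  have h2 : IsUnit (algebraMap R S r) := by
    by_contra hnu
    have hmem : algebraMap R S r ∈ maximalIdeal S := (IsLocalRing.mem_maximalIdeal _).mpr hnu
    have hle : I.map (algebraMap R S) ≤ maximalIdeal S :=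
      IsLocalRing.le_maximalIdeal (map_ne_top R S I hI)
    -- image lies in the proper ideal m_S / IS
    have : Ideal.Quotient.mk (I.map (algebraMap R S)) (algebraMap R S r) ∈
        (maximalIdeal S).map (Ideal.Quotient.mk (I.map (algebraMap R S))) :=
      Ideal.mem_map_of_mem _ hmem
    have htop := Ideal.eq_top_of_isUnit_mem _ this h1
    have hcomap := congrArg (Ideal.comap (Ideal.Quotient.mk (I.map (algebraMap R S)))) htop
    rw [Ideal.comap_map_of_surjective _ Ideal.Quotient.mk_surjective, ← RingHom.ker_eq_comap_bot,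
      Ideal.mk_ker, sup_eq_left.mpr hle, Ideal.comap_top] at hcomap
    exact (maximalIdeal.isMaximal S).ne_top hcomap
  have h3 : IsUnit r := isUnit_of_map_unit (algebraMap R S) r h2
  exact h3.map _

theorem ringKrullDim_closedFibre_quotient [IsLocalRing R] [IsLocalRing S]
    [IsLocalHom (algebraMap R S)] (hI : I ≠ ⊤) :
    letI : Nontrivial (R ⧸ I) := Ideal.Quotient.nontrivial_iff.mpr hI
    letI : IsLocalRing (R ⧸ I) := .of_surjective' _ Ideal.Quotient.mk_surjective
    ringKrullDim ((S ⧸ I.map (algebraMap R S)) ⧸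
      (maximalIdeal (R ⧸ I)).map (algebraMap (R ⧸ I) (S ⧸ I.map (algebraMap R S)))) =
    ringKrullDim (S ⧸ (maximalIdeal R).map (algebraMap R S)) := by
  letI : Nontrivial (R ⧸ I) := Ideal.Quotient.nontrivial_iff.mpr hI
  letI : IsLocalRing (R ⧸ I) := .of_surjective' _ Ideal.Quotient.mk_surjective
  have hm : maximalIdeal (R ⧸ I) = (maximalIdeal R).map (Ideal.Quotient.mk I) := by
    symm
    apply IsLocalRing.eq_maximalIdeal
    refine Ideal.IsMaximal.map_of_surjective_of_ker_le Ideal.Quotient.mk_surjective ?_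
    rw [Ideal.mk_ker]
    exact IsLocalRing.le_maximalIdeal hI
  have hmap : (maximalIdeal (R ⧸ I)).map (algebraMap (R ⧸ I) (S ⧸ I.map (algebraMap R S))) =
      ((maximalIdeal R).map (algebraMap R S)).map (Ideal.Quotient.mk (I.map (algebraMap R S))) := by
    rw [hm, Ideal.map_map, Ideal.map_map]
    rfl
  rw [hmap]
  have hle : I.map (algebraMap R S) ≤ (maximalIdeal R).map (algebraMap R S) :=
    Ideal.map_mono (IsLocalRing.le_maximalIdeal hI)
  exact ringKrullDim_eq_of_ringEquiv (DoubleQuot.quotQuotEquivQuotOfLE hle)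

/-- Dimension formula for the quotient of a flat local homomorphism. -/
theorem ringKrullDim_quotient_map_eq_add [IsLocalRing R] [IsLocalRing S] [IsNoetherianRing R]
    [IsNoetherianRing S] [IsLocalHom (algebraMap R S)] [Module.Flat R S] (hI : I ≠ ⊤) :
    ringKrullDim (S ⧸ I.map (algebraMap R S)) =
      ringKrullDim (R ⧸ I) + ringKrullDim (S ⧸ (maximalIdeal R).map (algebraMap R S)) := by
  letI : Nontrivial (R ⧸ I) := Ideal.Quotient.nontrivial_iff.mpr hI
  letI : IsLocalRing (R ⧸ I) := .of_surjective' _ Ideal.Quotient.mk_surjective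
  letI : Nontrivial (S ⧸ I.map (algebraMap R S)) :=
    Ideal.Quotient.nontrivial_iff.mpr (map_ne_top R S I hI)
  letI : IsLocalRing (S ⧸ I.map (algebraMap R S)) := .of_surjective' _ Ideal.Quotient.mk_surjective
  haveI := flat_quotient R S I
  haveI := isLocalHom_quotient R S I hI
  rw [Groth.Agent.Lib.Helper24.FlatDimFormula.ringKrullDim_eq_add_of_flat (R ⧸ I)
    (S ⧸ I.map (algebraMap R S)), ringKrullDim_closedFibre_quotient R S I hI]

end Groth.Agent.Lib.Helper24.FlatQuot
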