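import Mathlib

/-!
# A noetherianity criterion via the completion (helper24)

If the `𝔪`-adic completion of `S` is noetherian and every finitely generated ideal of `S` is
closed for the `𝔪`-adic topology, then `S` is noetherian.
-/

set_option autoImplicit false

namespace Groth.Agent.Lib.Helper24.NoethLimit

universe u

/-- Noetherianity descends along faithfully flat ring maps. -/
theorem isNoetherianRing_of_faithfullyFlat (R S : Type u) [CommRing R] [CommRing S] [Algebra R S]
    [Module.FaithfullyFlat R S] [IsNoetherianRing S] : IsNoetherianRing R := by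
  rw [isNoetherianRing_iff, isNoetherian_iff'] at *
  have hmono : StrictMono (Ideal.map (algebraMap R S)) :=
    Monotone.strictMono_of_injective (fun _ _ h => Ideal.map_mono h)
      (Ideal.map_injective_of_faithfullyFlat (A := R) (B := S))
  exact hmono.wellFoundedGT

/-- The criterion. -/
theorem isNoetherianRing_of_completion (S : Type u) [CommRing S] (𝔪 : Ideal S)
    [IsNoetherianRing (AdicCompletion 𝔪 S)]
    (hclosed : ∀ (J₀ : Ideal S), J₀.FG → ∀ x : S, (∀ k : ℕ, x ∈ J₀ ⊔ 𝔪 ^ k) → x ∈ J₀) :
    IsNoetherianRing S := by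
  classical
  rw [isNoetherianRing_iff_ideal_fg]
  intro J
  let φ : S →+* AdicCompletion 𝔪 S := algebraMap S (AdicCompletion 𝔪 S)
  have hfg : (J.map φ).FG := (isNoetherianRing_iff_ideal_fg _).1 inferInstance _
  have hfg' : (Submodule.span (AdicCompletion 𝔪 S) (φ '' (J : Set S))).FG := hfg
  obtain ⟨s', hs's, hspan⟩ := (Submodule.fg_span_iff_fg_span_finset_subset _).1 hfg'
  obtain ⟨t, htJ, rfl⟩ := Finset.subset_set_image_iff.1 hs's
  have hmap : J.map φ = (Ideal.span (t : Set S)).map φ := by
    rw [Ideal.map_span]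
    show Submodule.span (AdicCompletion 𝔪 S) (φ '' (J : Set S)) = _
    rw [hspan, Finset.coe_image]
  have hle : Ideal.span (t : Set S) ≤ J := Ideal.span_le.2 htJ
  have hJ : J = Ideal.span (t : Set S) := by
    apply le_antisymm _ hle
    intro x hx
    apply hclosed _ ⟨t, rfl⟩
    intro k
    have h1 : φ x ∈ (Ideal.span (t : Set S)).map φ := by
      rw [← hmap]
      exact Ideal.mem_map_of_mem _ hx
    have h2 : (AdicCompletion.evalₐ 𝔪 k).toRingHom (φ x) ∈
        ((Ideal.span (t : Set S)).map φ).map (AdicCompletion.evalₐ 𝔪 k).toRingHom :=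
      Ideal.mem_map_of_mem _ h1
    rw [Ideal.map_map] at h2
    have h3 : (AdicCompletion.evalₐ 𝔪 k).toRingHom.comp φ = Ideal.Quotient.mk (𝔪 ^ k) := by
      ext y
      exact (AdicCompletion.evalₐ 𝔪 k).commutes y
    rw [h3] at h2
    have h4 : (AdicCompletion.evalₐ 𝔪 k).toRingHom (φ x) = Ideal.Quotient.mk (𝔪 ^ k) x :=
      (AdicCompletion.evalₐ 𝔪 k).commutes x
    rw [h4, Ideal.mem_map_iff_of_surjective _ Ideal.Quotient.mk_surjective] at h2
    obtain ⟨y, hy, hyx⟩ := h2
    rw [Ideal.Quotient.eq] at hyx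
    have : x = y + (x - y) := by ring
    rw [this]
    refine Ideal.add_mem _ (Ideal.mem_sup_left hy) (Ideal.mem_sup_right ?_)
    rw [← neg_sub]
    exact neg_mem hyx
  rw [hJ]
  exact ⟨t, rfl⟩

/-- In a noetherian local ring every ideal is closed. -/
theorem mem_of_forall_mem_sup_pow {G : Type u} [CommRing G] [IsNoetherianRing G] [IsLocalRing G]
    (I : Ideal G) (x : G) (h : ∀ k : ℕ, x ∈ I ⊔ IsLocalRing.maximalIdeal G ^ k) : x ∈ I := by
  have hH : IsHausdorff (IsLocalRing.maximalIdeal G) (G ⧸ I) := inferInstance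
  have h0 : (Ideal.Quotient.mk I x) = 0 := by
    apply hH.haus'
    intro k
    rw [SModEq.zero]
    obtain ⟨y, hy, z, hz, rfl⟩ := Submodule.mem_sup.1 (h k)
    rw [map_add, Ideal.Quotient.eq_zero_iff_mem.2 hy, zero_add]
    have : (Ideal.Quotient.mk I z) = z • (1 : G ⧸ I) := by
      rw [Algebra.smul_def, mul_one]
      rfl
    rw [this]
    exact Submodule.smul_mem_smul hz Submodule.mem_top
  exact Ideal.Quotient.eq_zero_iff_mem.1 h0

end Groth.Agent.Lib.Helper24.NoethLimit
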