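import Mathlib
import Groth.Prelude.Def_CAlg
import Groth.Agent.S0565
import Groth.Agent.Lib.Helper24.NoethLimit

/-!
# Descent of Serre's condition (R_k) along faithfully flat maps (helper24)
-/

set_option autoImplicit false

namespace Groth.Agent.Lib.Helper24.RkDescent

universe u

variable (R S : Type u) [CommRing R] [CommRing S] [Algebra R S]

/-- For a faithfully flat algebra, every prime `p` of `R` is the contraction of a minimal prime
over `pS`. -/
theorem exists_minimalPrimes_comap_eq [Module.FaithfullyFlat R S] (p : Ideal R) [p.IsPrime] :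
    ∃ q : Ideal S, q ∈ (p.map (algebraMap R S)).minimalPrimes ∧ q.comap (algebraMap R S) = p := by
  obtain ⟨q0, hq0, hlo⟩ := Ideal.exists_isPrime_liesOver_of_faithfullyFlat (B := S) p
  have hle : p.map (algebraMap R S) ≤ q0 := by
    rw [Ideal.map_le_iff_le_comap]
    exact hlo.over.le
  obtain ⟨q, hq, hqq0⟩ := Ideal.exists_minimalPrimes_le hle
  refine ⟨q, hq, le_antisymm ?_ ?_⟩
  · calc q.comap (algebraMap R S) ≤ q0.comap (algebraMap R S) := Ideal.comap_mono hqq0
      _ = p := hlo.over.symm
  · rw [← Ideal.map_le_iff_le_comap]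
    exact hq.1.2

/-- Height of a minimal prime over `pS` lying over `p`, for a flat map of Noetherian rings. -/
theorem height_eq_of_minimalPrimes [Module.Flat R S] [IsNoetherianRing R] [IsNoetherianRing S] (p : Ideal R) [p.IsPrime]
    (q : Ideal S) (hq : q ∈ (p.map (algebraMap R S)).minimalPrimes)
    (hqp : q.comap (algebraMap R S) = p) : q.height = p.height := by
  haveI : q.IsPrime := hq.1.1
  haveI : q.LiesOver p := ⟨hqp.symm⟩
  have h := Ideal.height_eq_height_add_of_liesOver_of_hasGoingDown p q
  have hker : RingHom.ker (Ideal.Quotient.mk (p.map (algebraMap R S))) ≤ q := by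
    rw [Ideal.mk_ker]; exact hq.1.2
  haveI hprime : (q.map (Ideal.Quotient.mk (p.map (algebraMap R S)))).IsPrime :=
    Ideal.map_isPrime_of_surjective Ideal.Quotient.mk_surjective hker
  have h0 : (q.map (Ideal.Quotient.mk (p.map (algebraMap R S)))).height = 0 := by
    rw [Ideal.height_eq_zero_iff]
    have h1 := Ideal.minimalPrimes_map_of_surjective
      (f := Ideal.Quotient.mk (p.map (algebraMap R S))) Ideal.Quotient.mk_surjective
      (p.map (algebraMap R S))
    rw [Ideal.mk_ker, sup_idem, Ideal.map_quotient_self] at h1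
    show _ ∈ (⊥ : Ideal _).minimalPrimes
    rw [h1]
    exact ⟨q, hq, rfl⟩
  rw [h, h0, add_zero]

/-- **Descent of (R_k)** along a faithfully flat map of Noetherian rings. -/
theorem hasRk_of_faithfullyFlat (k : ℕ) [Module.FaithfullyFlat R S] [IsNoetherianRing R]
    [IsNoetherianRing S] (hS : LocCoh.HasRk k S) : LocCoh.HasRk k R := by
  intro p hp hht
  obtain ⟨q, hq, hqp⟩ := exists_minimalPrimes_comap_eq R S p
  haveI : q.IsPrime := hq.1.1
  have hhq : q.height = p.height := height_eq_of_minimalPrimes R S p q hq hqp
  haveI hreg : IsRegularLocalRing (Localization.AtPrime q) := hS q (by rw [hhq]; exact hht)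
  haveI hlo : q.LiesOver p := ⟨hqp.symm⟩
  letI := Localization.AtPrime.algebraOfLiesOver p q
  haveI hloc : IsLocalHom (algebraMap (Localization.AtPrime p) (Localization.AtPrime q)) :=
    Localization.isLocalHom_localRingHom _ q (algebraMap R S) Ideal.LiesOver.over
  haveI : Module.Flat R S := inferInstance
  haveI hflat : Module.Flat (Localization.AtPrime p) (Localization.AtPrime q) := inferInstance
  exact Groth.Agent.S0565.result (Localization.AtPrime p) (Localization.AtPrime q)

end Groth.Agent.Lib.Helper24.RkDescent
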