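import Mathlib
import Groth.Agent.Lib.Helper24.CatEquidim
import Groth.Agent.Lib.Helper24.FlatQuot
import Groth.Agent.Lib.Helper24.RkDescent

/-!
# Equidimensionality of quotients; flat local descent of the dimension formula (helper24)
-/

set_option autoImplicit false
universe u

open IsLocalRing

namespace Groth.Agent.Lib.Helper24.CatEquidim

section General

theorem add_left_cancel_nat (n : ℕ) (x y : WithBot ℕ∞)
    (h : ((n : ℕ∞) : WithBot ℕ∞) + x = ((n : ℕ∞) : WithBot ℕ∞) + y) : x = y := by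
  induction x using WithBot.recBotCoe with
  | bot =>
    rw [WithBot.add_bot] at h
    have := (WithBot.add_eq_bot.mp h.symm)
    rcases this with h1 | h1
    · exact absurd h1 (WithBot.coe_ne_bot)
    · exact h1.symm
  | coe a =>
    induction y using WithBot.recBotCoe with
    | bot =>
      rw [WithBot.add_bot] at h
      rcases WithBot.add_eq_bot.mp h with h1 | h1
      · exact absurd h1 (WithBot.coe_ne_bot)
      · exact absurd h1 (WithBot.coe_ne_bot)
    | coe b =>
      rw [← WithBot.coe_add, ← WithBot.coe_add, WithBot.coe_inj] at h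
      have : a = b := ENat.add_right_injective_of_ne_top (ENat.natCast_ne_top n) h
      rw [this]

theorem exists_nat_eq_ringKrullDim (A : Type u) [CommRing A] [IsLocalRing A] [IsNoetherianRing A] :
    ∃ N : ℕ, ringKrullDim A = ((N : ℕ∞) : WithBot ℕ∞) := by
  have h1 : ringKrullDim A ≠ ⊥ := ringKrullDim_ne_bot
  have h2 : ringKrullDim A ≠ ⊤ := ringKrullDim_ne_top
  induction hd : ringKrullDim A using WithBot.recBotCoe with
  | bot => exact absurd hd h1
  | coe a =>
    induction a using ENat.recTopCoe with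
    | top => exact absurd hd h2
    | coe n => exact ⟨n, rfl⟩

variable (R : Type u) [CommRing R] (I : Ideal R)

/-- Minimal primes of `R/I` and their quotients. -/
theorem minimalPrimes_quotient (P : Ideal (R ⧸ I)) (hP : P ∈ minimalPrimes (R ⧸ I)) :
    P.comap (Ideal.Quotient.mk I) ∈ I.minimalPrimes ∧
      ringKrullDim ((R ⧸ I) ⧸ P) = ringKrullDim (R ⧸ P.comap (Ideal.Quotient.mk I)) := by
  let π := Ideal.Quotient.mk I
  have hπ : Function.Surjective π := Ideal.Quotient.mk_surjective
  have hQ : P.comap π ∈ I.minimalPrimes := by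
    rw [Ideal.minimalPrimes_eq_comap]; exact ⟨P, hP, rfl⟩
  refine ⟨hQ, ?_⟩
  have hPeq : P = (P.comap π).map π := (Ideal.map_comap_of_surjective π hπ P).symm
  have e1 : ((R ⧸ I) ⧸ P) ≃+* ((R ⧸ I) ⧸ (P.comap π).map π) := Ideal.quotEquivOfEq hPeq
  have e2 : ((R ⧸ I) ⧸ (P.comap π).map π) ≃+* R ⧸ P.comap π :=
    DoubleQuot.quotQuotEquivQuotOfLE hQ.1.2
  exact ringKrullDim_eq_of_ringEquiv (e1.trans e2)

theorem map_mem_minimalPrimes_quotient (Q : Ideal R) (hQ : Q ∈ I.minimalPrimes) :
    Q.map (Ideal.Quotient.mk I) ∈ minimalPrimes (R ⧸ I) ∧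
      (Q.map (Ideal.Quotient.mk I)).comap (Ideal.Quotient.mk I) = Q := by
  have hc : (Q.map (Ideal.Quotient.mk I)).comap (Ideal.Quotient.mk I) = Q := by
    rw [Ideal.comap_map_of_surjective _ Ideal.Quotient.mk_surjective, ← RingHom.ker_eq_comap_bot,
      Ideal.mk_ker, sup_eq_left.mpr hQ.1.2]
  refine ⟨?_, hc⟩
  rw [Ideal.minimalPrimes_eq_comap] at hQ
  obtain ⟨P, hP, hPQ⟩ := hQ
  rw [← hPQ, Ideal.map_comap_of_surjective _ Ideal.Quotient.mk_surjective]
  exact hP

/-- `R/I` is equidimensional iff all `R/Q`, `Q` minimal over `I`, have the same dimension. -/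
theorem isEquidim_quotient_iff :
    EGA4.IsEquidim (R ⧸ I) ↔ ∀ Q ∈ I.minimalPrimes, ∀ Q' ∈ I.minimalPrimes,
      ringKrullDim (R ⧸ Q) = ringKrullDim (R ⧸ Q') := by
  constructor
  · intro h Q hQ Q' hQ'
    obtain ⟨h1, h1c⟩ := map_mem_minimalPrimes_quotient R I Q hQ
    obtain ⟨h2, h2c⟩ := map_mem_minimalPrimes_quotient R I Q' hQ'
    have e1 := (minimalPrimes_quotient R I _ h1).2
    have e2 := (minimalPrimes_quotient R I _ h2).2
    rw [h1c] at e1
    rw [h2c] at e2
    rw [← e1, ← e2, h _ h1, h _ h2]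
  · intro h P hP
    obtain ⟨hQ, hdP⟩ := minimalPrimes_quotient R I P hP
    refine le_antisymm (ringKrullDim_quotient_le P) ?_
    apply ringKrullDim_le_of_forall_minimalPrimes
    intro P' hP'
    obtain ⟨hQ', hdP'⟩ := minimalPrimes_quotient R I P' hP'
    rw [hdP, hdP', h _ hQ' _ hQ]

/-- If all `R/Q` (`Q` minimal over `I`) have dimension `c`, so has `R/I` (for `I` proper). -/
theorem ringKrullDim_quotient_eq_of_forall_minimalPrimes (hI : I ≠ ⊤) (c : WithBot ℕ∞)
    (h : ∀ Q ∈ I.minimalPrimes, ringKrullDim (R ⧸ Q) = c) : ringKrullDim (R ⧸ I) = c := by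
  obtain ⟨Q, hQ⟩ := Ideal.nonempty_minimalPrimes hI
  refine le_antisymm ?_ ?_
  · apply ringKrullDim_le_of_forall_minimalPrimes
    intro P hP
    obtain ⟨hQ', hdP⟩ := minimalPrimes_quotient R I P hP
    rw [hdP, h _ hQ']
  · rw [← h Q hQ]
    exact ringKrullDim_le_of_surjective (Ideal.Quotient.factor hQ.1.2)
      (Ideal.Quotient.factor_surjective hQ.1.2)

end General

section FlatLocal

variable (R S : Type u) [CommRing R] [CommRing S] [Algebra R S] [IsLocalRing R] [IsLocalRing S]
  [IsNoetherianRing R] [IsNoetherianRing S] [IsLocalHom (algebraMap R S)] [Module.Flat R S]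

/-- **Descent of the dimension formula**: if `R → S` is flat local and `S` is equidimensional and
catenary, then `ht q + dim R/q = dim R` for all primes `q` of `R`. -/
theorem height_add_dim_quotient_eq_of_flat (hcat : CAlg.IsCatenary S) (heq : EGA4.IsEquidim S)
    (q : Ideal R) [hq : q.IsPrime] :
    ((q.height : ℕ∞) : WithBot ℕ∞) + ringKrullDim (R ⧸ q) = ringKrullDim R := by
  have hqtop : q ≠ ⊤ := hq.ne_top
  have hqS : q.map (algebraMap R S) ≠ ⊤ := FlatQuot.map_ne_top R S q hqtop
  -- (c): ht q + dim S/qS = dim S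
  have hc : ((q.height : ℕ∞) : WithBot ℕ∞) + ringKrullDim (S ⧸ q.map (algebraMap R S)) =
      ringKrullDim S := by
    obtain ⟨n, hn⟩ := ENat.ne_top_iff_exists.mp (Ideal.height_ne_top_of_isPrime (I := q))
    obtain ⟨Q0, hQ0⟩ := Ideal.nonempty_minimalPrimes hqS
    have key : ∀ Q ∈ (q.map (algebraMap R S)).minimalPrimes,
        ((q.height : ℕ∞) : WithBot ℕ∞) + ringKrullDim (S ⧸ Q) = ringKrullDim S := by
      intro Q hQ
      haveI : Q.IsPrime := hQ.1.1
      have hc := comap_eq_of_mem_minimalPrimes_map R S q Q hQ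
      have hht := RkDescent.height_eq_of_minimalPrimes R S q Q hQ hc
      rw [← hht]
      exact height_add_dim_quotient_eq S hcat heq Q
    have hall : ∀ Q ∈ (q.map (algebraMap R S)).minimalPrimes,
        ringKrullDim (S ⧸ Q) = ringKrullDim (S ⧸ Q0) := by
      intro Q hQ
      have h1 := key Q hQ
      have h2 := key Q0 hQ0
      rw [← hn] at h1 h2
      exact add_left_cancel_nat n _ _ (h1.trans h2.symm)
    rw [ringKrullDim_quotient_eq_of_forall_minimalPrimes S _ hqS _ hall]
    exact key Q0 hQ0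
  have ha := FlatDimFormula.ringKrullDim_eq_add_of_flat R S
  have hb := FlatQuot.ringKrullDim_quotient_map_eq_add R S q hqtop
  haveI := FlatDimFormula.isLocalRing_quotient R S
  obtain ⟨F, hF⟩ := exists_nat_eq_ringKrullDim (S ⧸ (maximalIdeal R).map (algebraMap R S))
  rw [hb, ha, hF] at hc
  -- ht q + (dim R/q + F) = dim R + F
  have h3 : ((F : ℕ∞) : WithBot ℕ∞) + (((q.height : ℕ∞) : WithBot ℕ∞) + ringKrullDim (R ⧸ q)) =
      ((F : ℕ∞) : WithBot ℕ∞) + ringKrullDim R := by
    rw [add_comm _ (ringKrullDim R), ← hc]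
    abel
  exact add_left_cancel_nat F _ _ h3

end FlatLocal

end Groth.Agent.Lib.Helper24.CatEquidim
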