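import Mathlib

/-!
# Flat depth formula, part 1 (helper24): tensor identifications

`R → S` a ring map, `N` an `S`-module (also an `R`-module, scalar tower), `M` an `R`-module.
All maps are `S`-linear on `N ⊗[R] M` (left `S`-module structure).
-/

set_option autoImplicit false
universe u
open TensorProduct IsLocalRing
open scoped Pointwise

namespace Groth.Agent.Lib.Helper24.FlatDepth

section Tensor

/-- General principle: a surjection with kernel `s • ⊤` identifies the target with `X/sX`. -/
noncomputable def quotSMulTopEquivOfSurjective {S : Type u} [CommRing S] {X Y : Type u} [AddCommGroup X] [Module S X]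
    [AddCommGroup Y] [Module S Y] (s : S) (f : X →ₗ[S] Y) (hf : Function.Surjective f)
    (hker : LinearMap.ker f = s • (⊤ : Submodule S X)) : QuotSMulTop s X ≃ₗ[S] Y :=
  (Submodule.quotEquivOfEq _ _ hker.symm).trans (f.quotKerEquivOfSurjective hf)


variable (R S : Type u) [CommRing R] [CommRing S] [Algebra R S]
  (N : Type u) [AddCommGroup N] [Module S N] [Module R N] [IsScalarTower R S N]
  (M : Type u) [AddCommGroup M] [Module R M]

/-- The `S`-linear surjection `N ⊗ M → (N/yN) ⊗ M`. -/
noncomputable def phi (y : S) : N ⊗[R] M →ₗ[S] (QuotSMulTop y N) ⊗[R] M :=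
  TensorProduct.AlgebraTensorModule.map (Submodule.mkQ (y • (⊤ : Submodule S N)))
    (LinearMap.id : M →ₗ[R] M)

@[simp] lemma phi_tmul (y : S) (n : N) (m : M) :
    phi R S N M y (n ⊗ₜ m) = (Submodule.Quotient.mk n : QuotSMulTop y N) ⊗ₜ m := rfl

lemma phi_surjective (y : S) : Function.Surjective (phi R S N M y) := by
  intro w
  induction w using TensorProduct.induction_on with
  | zero => exact ⟨0, map_zero _⟩
  | tmul n m =>
    obtain ⟨n, rfl⟩ := Submodule.Quotient.mk_surjective _ n
    exact ⟨n ⊗ₜ m, rfl⟩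
  | add a b ha hb =>
    obtain ⟨a, rfl⟩ := ha
    obtain ⟨b, rfl⟩ := hb
    exact ⟨a + b, map_add _ _ _⟩

lemma smul_eq_zero_quotSMulTop_tensor (y : S) (w : (QuotSMulTop y N) ⊗[R] M) : y • w = 0 := by
  induction w using TensorProduct.induction_on with
  | zero => simp
  | tmul n m =>
    obtain ⟨n, rfl⟩ := Submodule.Quotient.mk_surjective _ n
    rw [TensorProduct.smul_tmul', ← Submodule.Quotient.mk_smul,
      (Submodule.Quotient.mk_eq_zero _).mpr (Submodule.smul_mem_pointwise_smul n y ⊤ trivial),
      TensorProduct.zero_tmul]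
  | add a b ha hb => rw [smul_add, ha, hb, add_zero]

lemma ker_phi (y : S) : LinearMap.ker (phi R S N M y) = y • (⊤ : Submodule S (N ⊗[R] M)) := by
  apply le_antisymm
  · intro z hz
    rw [LinearMap.mem_ker] at hz
    set P : Submodule S N := y • (⊤ : Submodule S N) with hP
    have hex : Function.Exact ((P.restrictScalars R).subtype)
        ((Submodule.mkQ P).restrictScalars R) := by
      intro n
      simp only [LinearMap.coe_restrictScalars, Submodule.mkQ_apply,
        Submodule.Quotient.mk_eq_zero, Set.mem_range, Submodule.coe_subtype]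
      constructor
      · intro h
        exact ⟨⟨n, h⟩, rfl⟩
      · rintro ⟨a, rfl⟩
        exact a.2
    have hsurj : Function.Surjective ((Submodule.mkQ P).restrictScalars R) :=
      Submodule.mkQ_surjective P
    have hex2 := rTensor_exact M hex hsurj
    have hz' : (LinearMap.rTensor M ((Submodule.mkQ P).restrictScalars R)) z = 0 := hz
    obtain ⟨w, rfl⟩ := (hex2 z).mp hz'
    clear hz hz'
    induction w using TensorProduct.induction_on with
    | zero => simp
    | tmul p m =>
      obtain ⟨p, hp⟩ := p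
      obtain ⟨n, -, rfl⟩ := (Submodule.mem_smul_pointwise_iff_exists _ _ _).mp hp
      have : (LinearMap.rTensor M (P.restrictScalars R).subtype)
          ((⟨y • n, hp⟩ : P.restrictScalars R) ⊗ₜ[R] m) = y • (n ⊗ₜ[R] m) := by
        rw [TensorProduct.smul_tmul']
        rfl
      rw [this]
      exact Submodule.smul_mem_pointwise_smul _ y ⊤ trivial
    | add a b ha hb =>
      rw [map_add]
      exact add_mem ha hb
  · intro z hz
    obtain ⟨z, -, rfl⟩ := (Submodule.mem_smul_pointwise_iff_exists _ _ _).mp hz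
    rw [LinearMap.mem_ker, map_smul]
    exact smul_eq_zero_quotSMulTop_tensor R S N M y _

/-- `(N ⊗ M)/y ≃ (N/yN) ⊗ M`, `S`-linearly. -/
noncomputable def quotEquivLeft (y : S) :
    QuotSMulTop y (N ⊗[R] M) ≃ₗ[S] (QuotSMulTop y N) ⊗[R] M :=
  quotSMulTopEquivOfSurjective y (phi R S N M y) (phi_surjective R S N M y) (ker_phi R S N M y)

/-- The `S`-linear surjection `N ⊗ M → N ⊗ (M/xM)`. -/
noncomputable def psi (x : R) : N ⊗[R] M →ₗ[S] N ⊗[R] (QuotSMulTop x M) :=
  TensorProduct.AlgebraTensorModule.lTensor S N (Submodule.mkQ (x • (⊤ : Submodule R M)))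

@[simp] lemma psi_tmul (x : R) (n : N) (m : M) :
    psi R S N M x (n ⊗ₜ m) = n ⊗ₜ (Submodule.Quotient.mk m : QuotSMulTop x M) := rfl

lemma psi_surjective (x : R) : Function.Surjective (psi R S N M x) := by
  intro w
  induction w using TensorProduct.induction_on with
  | zero => exact ⟨0, map_zero _⟩
  | tmul n m =>
    obtain ⟨m, rfl⟩ := Submodule.Quotient.mk_surjective _ m
    exact ⟨n ⊗ₜ m, rfl⟩
  | add a b ha hb =>
    obtain ⟨a, rfl⟩ := ha
    obtain ⟨b, rfl⟩ := hb
    exact ⟨a + b, map_add _ _ _⟩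

lemma smul_eq_zero_tensor_quotSMulTop (x : R) (w : N ⊗[R] (QuotSMulTop x M)) :
    (algebraMap R S x) • w = 0 := by
  rw [algebraMap_smul]
  induction w using TensorProduct.induction_on with
  | zero => simp
  | tmul n m =>
    obtain ⟨m, rfl⟩ := Submodule.Quotient.mk_surjective _ m
    rw [TensorProduct.smul_tmul', TensorProduct.smul_tmul, ← Submodule.Quotient.mk_smul,
      (Submodule.Quotient.mk_eq_zero _).mpr (Submodule.smul_mem_pointwise_smul m x ⊤ trivial),
      TensorProduct.tmul_zero]
  | add a b ha hb => rw [smul_add, ha, hb, add_zero]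

lemma ker_psi (x : R) :
    LinearMap.ker (psi R S N M x) = (algebraMap R S x) • (⊤ : Submodule S (N ⊗[R] M)) := by
  apply le_antisymm
  · intro z hz
    rw [LinearMap.mem_ker] at hz
    set P : Submodule R M := x • (⊤ : Submodule R M) with hP
    have hex2 := lTensor_exact N (LinearMap.exact_subtype_mkQ P) (Submodule.mkQ_surjective P)
    have hz' : (LinearMap.lTensor N (Submodule.mkQ P)) z = 0 := hz
    obtain ⟨w, rfl⟩ := (hex2 z).mp hz'
    clear hz hz'
    induction w using TensorProduct.induction_on with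
    | zero => simp
    | tmul n p =>
      obtain ⟨p, hp⟩ := p
      obtain ⟨m, -, rfl⟩ := (Submodule.mem_smul_pointwise_iff_exists _ _ _).mp hp
      have : (LinearMap.lTensor N P.subtype) (n ⊗ₜ[R] (⟨x • m, hp⟩ : P)) =
          (algebraMap R S x) • (n ⊗ₜ[R] m) := by
        rw [algebraMap_smul, TensorProduct.smul_tmul', TensorProduct.smul_tmul]
        rfl
      rw [this]
      exact Submodule.smul_mem_pointwise_smul _ _ ⊤ trivial
    | add a b ha hb =>
      rw [map_add]
      exact add_mem ha hb
  · intro z hz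
    obtain ⟨z, -, rfl⟩ := (Submodule.mem_smul_pointwise_iff_exists _ _ _).mp hz
    rw [LinearMap.mem_ker, map_smul]
    exact smul_eq_zero_tensor_quotSMulTop R S N M x _

/-- `(N ⊗ M)/x ≃ N ⊗ (M/xM)`, `S`-linearly. -/
noncomputable def quotEquivRight (x : R) :
    QuotSMulTop (algebraMap R S x) (N ⊗[R] M) ≃ₗ[S] N ⊗[R] (QuotSMulTop x M) :=
  quotSMulTopEquivOfSurjective _ (psi R S N M x) (psi_surjective R S N M x) (ker_psi R S N M x)

/-- The `S`-linear surjection `N → N ⊗ (R/I)`. -/
noncomputable def theta (I : Ideal R) : N →ₗ[S] N ⊗[R] (R ⧸ I) where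
  toFun n := n ⊗ₜ 1
  map_add' a b := TensorProduct.add_tmul a b 1
  map_smul' s n := (TensorProduct.smul_tmul' s n (1 : R ⧸ I)).symm

lemma theta_surjective (I : Ideal R) : Function.Surjective (theta R S N I) := by
  intro w
  induction w using TensorProduct.induction_on with
  | zero => exact ⟨0, map_zero _⟩
  | tmul n r =>
    obtain ⟨r, rfl⟩ := Ideal.Quotient.mk_surjective r
    refine ⟨r • n, ?_⟩
    change (r • n) ⊗ₜ[R] (1 : R ⧸ I) = n ⊗ₜ[R] (Ideal.Quotient.mk I r)
    rw [TensorProduct.smul_tmul]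
    congr 1
    rw [Algebra.smul_def, mul_one]
    rfl
  | add a b ha hb =>
    obtain ⟨a, rfl⟩ := ha
    obtain ⟨b, rfl⟩ := hb
    exact ⟨a + b, map_add _ _ _⟩

lemma ker_theta (I : Ideal R) :
    LinearMap.ker (theta R S N I) = (I.map (algebraMap R S)) • (⊤ : Submodule S N) := by
  ext n
  rw [LinearMap.mem_ker]
  have h1 : theta R S N I n = (tensorQuotEquivQuotSMul N I).symm (Submodule.Quotient.mk n) :=
    (tensorQuotEquivQuotSMul_symm_mk I n).symm
  rw [h1, LinearEquiv.map_eq_zero_iff, Submodule.Quotient.mk_eq_zero]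
  have h2 := Ideal.smul_restrictScalars I (⊤ : Submodule S N)
  rw [Submodule.restrictScalars_top] at h2
  rw [← h2, Submodule.restrictScalars_mem]

/-- `N ⊗ (R/I) ≃ N/(IS)N`, `S`-linearly. -/
noncomputable def tensorQuotEquiv (I : Ideal R) :
    N ⊗[R] (R ⧸ I) ≃ₗ[S] N ⧸ (I.map (algebraMap R S)) • (⊤ : Submodule S N) :=
  ((Submodule.quotEquivOfEq _ _ (ker_theta R S N I).symm).trans
    ((theta R S N I).quotKerEquivOfSurjective (theta_surjective R S N I))).symm

end Tensor

end Groth.Agent.Lib.Helper24.FlatDepth
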