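import Mathlib
import Groth.Agent.Lib.Helper24.FlatDepth1

/-!
# Flat depth formula, part 2 (helper24): Stacks 00ME

`R → S` local hom of Noetherian local rings, `N` a finite `S`-module flat over `R`.
If `y ∈ S` is regular on `N ⊗ (R/m)` then `y` is regular on `N ⊗ M` for all finite `M`, and
`N/yN` is flat over `R`.
-/

set_option autoImplicit false
universe u
open TensorProduct IsLocalRing
open scoped Pointwise

namespace Groth.Agent.Lib.Helper24.FlatDepth

section FiniteLength

variable (R S : Type u) [CommRing R] [CommRing S] [Algebra R S] [IsLocalRing R]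
  (N : Type u) [AddCommGroup N] [Module S N] [Module R N] [IsScalarTower R S N] [Module.Flat R N]

theorem isSMulRegular_tensor_of_isFiniteLength (y : S)
    (hy : IsSMulRegular (N ⊗[R] (R ⧸ maximalIdeal R)) y)
    (M : Type u) [AddCommGroup M] [Module R M] (hM : IsFiniteLength R M) :
    IsSMulRegular (N ⊗[R] M) y := by
  induction hM with
  | of_subsingleton =>
    intro a b _
    exact Subsingleton.elim a b
  | @of_simple_quotient M _ _ Q hsimple hQ ih =>
    let f : N ⊗[R] Q →ₗ[S] N ⊗[R] M := TensorProduct.AlgebraTensorModule.lTensor S N Q.subtype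
    let g : N ⊗[R] M →ₗ[S] N ⊗[R] (M ⧸ Q) := TensorProduct.AlgebraTensorModule.lTensor S N Q.mkQ
    have hf : Function.Injective f :=
      Module.Flat.lTensor_preserves_injective_linearMap Q.subtype Q.injective_subtype
    have hex : Function.Exact f g :=
      lTensor_exact N (LinearMap.exact_subtype_mkQ Q) (Submodule.mkQ_surjective Q)
    have hfg : LinearMap.range f = LinearMap.ker g := (LinearMap.exact_iff.mp hex).symm
    obtain ⟨I, hI, ⟨e⟩⟩ := isSimpleModule_iff_quot_maximal.mp hsimple
    obtain rfl : I = maximalIdeal R := IsLocalRing.eq_maximalIdeal hI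
    let e' : N ⊗[R] (M ⧸ Q) ≃ₗ[S] N ⊗[R] (R ⧸ maximalIdeal R) :=
      TensorProduct.AlgebraTensorModule.congr (LinearEquiv.refl S N) e
    have h2 : IsSMulRegular (N ⊗[R] (M ⧸ Q)) y := (LinearEquiv.isSMulRegular_congr e' y).mpr hy
    exact isSMulRegular_of_range_eq_ker hf hfg ih h2

end FiniteLength

section Length

variable (R : Type u) [CommRing R] [IsLocalRing R] [IsNoetherianRing R]

theorem isFiniteLength_quot_pow (M : Type u) [AddCommGroup M] [Module R M] [Module.Finite R M]
    (t : ℕ) : IsFiniteLength R (M ⧸ (maximalIdeal R ^ t) • (⊤ : Submodule R M)) := by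
  rw [isFiniteLength_iff_isNoetherian_isArtinian]
  refine ⟨inferInstance, ?_⟩
  set I := maximalIdeal R ^ t with hIdef
  by_cases hI : I = ⊤
  · have : Subsingleton (M ⧸ I • (⊤ : Submodule R M)) := by
      rw [Submodule.Quotient.subsingleton_iff, hI, Submodule.top_smul]
    infer_instance
  have hnt : Nontrivial (R ⧸ I) := Ideal.Quotient.nontrivial_iff.mpr hI
  have hloc := IsLocalRing.of_surjective' (Ideal.Quotient.mk I) Ideal.Quotient.mk_surjective
  have hlh := IsLocalHom.of_surjective (Ideal.Quotient.mk I) Ideal.Quotient.mk_surjective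
  have hmap : (maximalIdeal R).map (Ideal.Quotient.mk I) = maximalIdeal (R ⧸ I) := by
    ext x
    obtain ⟨x, rfl⟩ := Ideal.Quotient.mk_surjective x
    simp [sup_eq_left.mpr (le_maximalIdeal hI)]
  have hA : IsArtinianRing (R ⧸ I) := by
    rw [isArtinianRing_iff_isNilpotent_maximalIdeal (R ⧸ I)]
    refine ⟨t, ?_⟩
    rw [← hmap, ← Ideal.map_pow, Ideal.zero_eq_bot, Ideal.map_eq_bot_iff_le_ker, Ideal.mk_ker]
  have hfin : Module.Finite (R ⧸ I) (M ⧸ I • (⊤ : Submodule R M)) :=
    Module.Finite.of_restrictScalars_finite R _ _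
  have hart : IsArtinian (R ⧸ I) (M ⧸ I • (⊤ : Submodule R M)) := inferInstance
  exact isArtinian_of_surjective_algebraMap (R := R ⧸ I) (S := R) Ideal.Quotient.mk_surjective

end Length

section Main

variable (R S : Type u) [CommRing R] [CommRing S] [Algebra R S] [IsLocalRing R] [IsLocalRing S]
  [IsNoetherianRing R] [IsNoetherianRing S] [IsLocalHom (algebraMap R S)]
  (N : Type u) [AddCommGroup N] [Module S N] [Module R N] [IsScalarTower R S N]

omit [IsLocalRing R] [IsLocalRing S] [IsNoetherianRing R] [IsNoetherianRing S]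
  [IsLocalHom (algebraMap R S)] in
lemma ker_lTensor_mkQ_le (M : Type u) [AddCommGroup M] [Module R M] (I : Ideal R)
    (z : N ⊗[R] M)
    (hz : (LinearMap.lTensor N (Submodule.mkQ (I • (⊤ : Submodule R M)))) z = 0) :
    z ∈ (I.map (algebraMap R S)) • (⊤ : Submodule S (N ⊗[R] M)) := by
  set P : Submodule R M := I • (⊤ : Submodule R M) with hP
  have hex2 := lTensor_exact N (LinearMap.exact_subtype_mkQ P) (Submodule.mkQ_surjective P)
  obtain ⟨w, rfl⟩ := (hex2 z).mp hz
  clear hz
  induction w using TensorProduct.induction_on with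
  | zero => simp
  | tmul n p =>
    obtain ⟨p, hp⟩ := p
    change n ⊗ₜ[R] p ∈ _
    refine Submodule.smul_induction_on hp ?_ ?_
    · intro a ha m _
      have : n ⊗ₜ[R] (a • m) = (algebraMap R S a) • (n ⊗ₜ[R] m) := by
        rw [algebraMap_smul, TensorProduct.tmul_smul]
      rw [this]
      exact Submodule.smul_mem_smul (Ideal.mem_map_of_mem _ ha) trivial
    · intro a b ha hb
      rw [TensorProduct.tmul_add]
      exact add_mem ha hb
  | add a b ha hb =>
    rw [map_add]
    exact add_mem ha hb

omit [IsLocalRing R] [IsLocalRing S] [IsNoetherianRing R] [IsNoetherianRing S]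
  [IsLocalHom (algebraMap R S)] in
theorem finite_tensor [Module.Finite S N] (M : Type u) [AddCommGroup M] [Module R M]
    [Module.Finite R M] : Module.Finite S (N ⊗[R] M) :=
  Module.Finite.equiv (TensorProduct.AlgebraTensorModule.cancelBaseChange R S S N M)

variable [Module.Flat R N] [Module.Finite S N]

/-- Stacks 00ME, first half. -/
theorem isSMulRegular_tensor (y : S) (hy : IsSMulRegular (N ⊗[R] (R ⧸ maximalIdeal R)) y)
    (M : Type u) [AddCommGroup M] [Module R M] [Module.Finite R M] :
    IsSMulRegular (N ⊗[R] M) y := by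
  refine IsSMulRegular.of_right_eq_zero_of_smul ?_
  intro z hz
  have hmem : ∀ t : ℕ, z ∈ ((maximalIdeal R).map (algebraMap R S)) ^ t •
      (⊤ : Submodule S (N ⊗[R] M)) := by
    intro t
    rw [← Ideal.map_pow]
    apply ker_lTensor_mkQ_le R S N M (maximalIdeal R ^ t) z
    have hreg := isSMulRegular_tensor_of_isFiniteLength R S N y hy _
      (isFiniteLength_quot_pow R M t)
    apply hreg.right_eq_zero_of_smul
    let gS : N ⊗[R] M →ₗ[S] N ⊗[R] (M ⧸ maximalIdeal R ^ t • (⊤ : Submodule R M)) :=
      TensorProduct.AlgebraTensorModule.lTensor S N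
        (Submodule.mkQ (maximalIdeal R ^ t • (⊤ : Submodule R M)))
    change y • gS z = 0
    rw [← map_smul, hz, map_zero]
  have hne : (maximalIdeal R).map (algebraMap R S) ≠ ⊤ := by
    intro h
    have hle : (maximalIdeal R).map (algebraMap R S) ≤ maximalIdeal S :=
      ((IsLocalRing.local_hom_TFAE (algebraMap R S)).out 0 2).mp ‹IsLocalHom (algebraMap R S)›
    rw [h] at hle
    exact (IsLocalRing.maximalIdeal.isMaximal S).ne_top (top_le_iff.mp hle)
  haveI : Module.Finite S (N ⊗[R] M) := finite_tensor R S N M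
  have hkrull := Ideal.iInf_pow_smul_eq_bot_of_isLocalRing
    (M := N ⊗[R] M) ((maximalIdeal R).map (algebraMap R S)) hne
  have : z ∈ (⨅ i : ℕ, ((maximalIdeal R).map (algebraMap R S)) ^ i •
      (⊤ : Submodule S (N ⊗[R] M))) := by
    rw [Submodule.mem_iInf]
    exact hmem
  rw [hkrull] at this
  exact (Submodule.mem_bot S).mp this

/-- Stacks 00ME, second half: `N/yN` is flat over `R`. -/
theorem flat_quotSMulTop (y : S) (hy : IsSMulRegular (N ⊗[R] (R ⧸ maximalIdeal R)) y) :
    Module.Flat R (QuotSMulTop y N) := by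
  rw [Module.Flat.iff_lTensor_injective']
  intro Q
  -- injectivity of `N' ⊗ Q → N' ⊗ R`
  rw [injective_iff_map_eq_zero]
  intro w' hw'
  obtain ⟨w, rfl⟩ := phi_surjective R S N Q y w'
  have hreg : IsSMulRegular (N ⊗[R] (R ⧸ Q)) y := isSMulRegular_tensor R S N y hy (R ⧸ Q)
  have hcomm : ∀ w : N ⊗[R] Q, (LinearMap.lTensor (QuotSMulTop y N) Q.subtype) (phi R S N Q y w) =
      phi R S N R y ((LinearMap.lTensor N Q.subtype) w) := by
    intro w
    induction w using TensorProduct.induction_on with
    | zero => simp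
    | tmul n q => rfl
    | add a b ha hb => simp only [map_add, ha, hb]
  rw [hcomm] at hw'
  have hker : (LinearMap.lTensor N Q.subtype) w ∈ LinearMap.ker (phi R S N R y) := hw'
  rw [ker_phi] at hker
  obtain ⟨v, -, hv⟩ := (Submodule.mem_smul_pointwise_iff_exists _ _ _).mp hker
  -- `π v = 0`
  have hex := lTensor_exact N (LinearMap.exact_subtype_mkQ Q) (Submodule.mkQ_surjective Q)
  have hπ : (LinearMap.lTensor N Q.mkQ) v = 0 := by
    apply hreg.right_eq_zero_of_smul
    let gS : N ⊗[R] R →ₗ[S] N ⊗[R] (R ⧸ Q) :=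
      TensorProduct.AlgebraTensorModule.lTensor S N (Submodule.mkQ Q)
    change y • gS v = 0
    rw [← map_smul, hv]
    exact (hex _).mpr ⟨w, rfl⟩
  obtain ⟨w₁, rfl⟩ := (hex v).mp hπ
  have hinj : Function.Injective (LinearMap.lTensor N Q.subtype) :=
    Module.Flat.lTensor_preserves_injective_linearMap Q.subtype Q.injective_subtype
  have hw : w = y • w₁ := by
    apply hinj
    rw [← hv]
    exact (map_smul (TensorProduct.AlgebraTensorModule.lTensor S N Q.subtype) y w₁).symm
  rw [hw, map_smul]
  exact smul_eq_zero_quotSMulTop_tensor R S N Q y _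

end Main

end Groth.Agent.Lib.Helper24.FlatDepth
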