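import Mathlib
import Groth.Agent.Lib.Helper24.FlatDepth2
import Groth.Agent.Lib.Helper26.CM4

/-!
# Flat depth formula, part 3 (helper24)

`R → S` local hom of Noetherian local rings, `N` a finite `S`-module flat over `R`, `M` a finite
`R`-module: `depth_S (N ⊗_R M) = depth_R M + depth_S (N ⊗_R k)`, `k = R/m_R`.
-/

set_option autoImplicit false
universe u
open TensorProduct IsLocalRing LocCoh RingTheory.Sequence
open Groth.Agent.Lib.helper26.Depth
open scoped Pointwise

namespace Groth.Agent.Lib.Helper24.FlatDepth

section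

variable (R S : Type u) [CommRing R] [CommRing S] [Algebra R S] [IsLocalRing R] [IsLocalRing S]
  [IsNoetherianRing R] [IsNoetherianRing S] [IsLocalHom (algebraMap R S)]

omit [IsNoetherianRing R] [IsNoetherianRing S] [IsLocalRing R] [IsLocalRing S] [Algebra R S]
  [IsLocalHom (algebraMap R S)] [CommRing R] in
lemma idealDepth_of_subsingleton (I : Ideal S) (X : Type u) [AddCommGroup X] [Module S X]
    [Subsingleton X] : idealDepth I X = ⊤ :=
  idealDepth_eq_top_of_smul_top_eq_top I X (Subsingleton.elim _ _)

omit [IsNoetherianRing S] in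
lemma subsingleton_of_depth_eq_top (X : Type u) [AddCommGroup X] [Module S X] [Module.Finite S X]
    (h : depth S X = ⊤) [IsNoetherianRing S] : Subsingleton X := by
  by_contra hns
  rw [not_subsingleton_iff_nontrivial] at hns
  exact depth_ne_top (A := S) X h

omit [IsNoetherianRing R] [IsNoetherianRing S] in
/-- `N ⊗ k = 0 ⇒ N = 0` (Nakayama). -/
lemma subsingleton_of_subsingleton_tensor (N : Type u) [AddCommGroup N] [Module S N] [Module R N]
    [IsScalarTower R S N] [Module.Finite S N]
    [h : Subsingleton (N ⊗[R] (R ⧸ maximalIdeal R))] : Subsingleton N := by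
  by_contra hns
  rw [not_subsingleton_iff_nontrivial] at hns
  have hne : (maximalIdeal R).map (algebraMap R S) ≠ ⊤ := by
    intro h
    have hle : (maximalIdeal R).map (algebraMap R S) ≤ maximalIdeal S :=
      ((IsLocalRing.local_hom_TFAE (algebraMap R S)).out 0 2).mp ‹IsLocalHom (algebraMap R S)›
    rw [h] at hle
    exact (IsLocalRing.maximalIdeal.isMaximal S).ne_top (top_le_iff.mp hle)
  have h1 := smul_top_ne_top_of_ne_top ((maximalIdeal R).map (algebraMap R S)) hne N
  have h2 : Subsingleton (N ⧸ ((maximalIdeal R).map (algebraMap R S)) • (⊤ : Submodule S N)) :=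
    (tensorQuotEquiv R S N (maximalIdeal R)).symm.toEquiv.subsingleton
  exact h1 (Submodule.Quotient.subsingleton_iff.mp h2)

variable (N : Type u) [AddCommGroup N] [Module S N] [Module R N] [IsScalarTower R S N]
  [Module.Flat R N] [Module.Finite S N]

omit [IsLocalHom (algebraMap R S)] in
/-- base case -/
theorem depth_tensor_eq_zero (M : Type u) [AddCommGroup M] [Module R M] [Module.Finite R M]
    (hM : depth R M = 0) (hN : depth S (N ⊗[R] (R ⧸ maximalIdeal R)) = 0) :
    depth S (N ⊗[R] M) = 0 := by
  haveI : Module.Finite S (N ⊗[R] M) := finite_tensor R S N M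
  haveI : Module.Finite S (N ⊗[R] (R ⧸ maximalIdeal R)) := finite_tensor R S N _
  obtain ⟨m0, hm0, hkill0⟩ :=
    exists_ne_zero_annihilated_of_idealDepth_eq_zero (maximalIdeal R) M hM
  have hle : maximalIdeal R ≤ LinearMap.ker (LinearMap.toSpanSingleton R M m0) := by
    intro r hr
    rw [LinearMap.mem_ker, LinearMap.toSpanSingleton_apply]
    exact hkill0 r hr
  let g : (R ⧸ maximalIdeal R) →ₗ[R] M :=
    Submodule.liftQ (maximalIdeal R) (LinearMap.toSpanSingleton R M m0) hle
  have hg : Function.Injective g := by
    rw [injective_iff_map_eq_zero]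
    intro r hr
    obtain ⟨r, rfl⟩ := Ideal.Quotient.mk_surjective r
    have hr' : r • m0 = 0 := hr
    rw [Ideal.Quotient.eq_zero_iff_mem]
    by_contra hnot
    have hu : IsUnit r := by
      by_contra hnu
      exact hnot ((IsLocalRing.mem_maximalIdeal r).mpr hnu)
    exact hm0 (hu.smul_left_cancel.mp (by rw [hr', smul_zero]))
  obtain ⟨w, hw, hkill⟩ := exists_ne_zero_annihilated_of_idealDepth_eq_zero (maximalIdeal S)
    (N ⊗[R] (R ⧸ maximalIdeal R)) hN
  let gS : N ⊗[R] (R ⧸ maximalIdeal R) →ₗ[S] N ⊗[R] M :=
    TensorProduct.AlgebraTensorModule.lTensor S N g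
  have hgS : Function.Injective gS :=
    Module.Flat.lTensor_preserves_injective_linearMap g hg
  have hw' : gS w ≠ 0 := fun h => hw (hgS (h.trans (map_zero gS).symm))
  haveI : Nontrivial (N ⊗[R] M) := ⟨⟨gS w, 0, hw'⟩⟩
  have hIM := maximalIdeal_smul_top_ne_top (A := S) (N ⊗[R] M)
  refine idealDepth_eq_zero_of_annihilated (maximalIdeal S) (N ⊗[R] M) hIM (gS w) hw' ?_
  intro s hs
  rw [← map_smul, hkill s hs, map_zero]

/-- reduction on the fibre depth -/
theorem depth_tensor_of_depth_zero (M : Type u) [AddCommGroup M] [Module R M] [Module.Finite R M]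
    (hM : depth R M = 0) : ∀ (d : ℕ) (N : Type u) [AddCommGroup N] [Module S N] [Module R N]
      [IsScalarTower R S N] [Module.Flat R N] [Module.Finite S N],
      depth S (N ⊗[R] (R ⧸ maximalIdeal R)) = d → depth S (N ⊗[R] M) = d := by
  intro d
  induction d with
  | zero =>
    intro N _ _ _ _ _ _ hN
    exact depth_tensor_eq_zero R S N M hM hN
  | succ d ih =>
    intro N _ _ _ _ _ _ hN
    haveI : Module.Finite S (N ⊗[R] M) := finite_tensor R S N M
    haveI : Module.Finite S (N ⊗[R] (R ⧸ maximalIdeal R)) := finite_tensor R S N _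
    have hIM : maximalIdeal S • (⊤ : Submodule S (N ⊗[R] (R ⧸ maximalIdeal R))) ≠ ⊤ := by
      intro h
      have := idealDepth_eq_top_of_smul_top_eq_top (maximalIdeal S) _ h
      rw [depth, this] at hN
      exact ENat.top_ne_natCast _ hN
    have h1 : ((1 : ℕ) : ℕ∞) ≤ idealDepth (maximalIdeal S) (N ⊗[R] (R ⧸ maximalIdeal R)) := by
      change _ ≤ depth S _
      rw [hN]
      exact_mod_cast Nat.succ_le_succ (Nat.zero_le d)
    obtain ⟨rs, hlen, hmem, hreg⟩ := exists_isWeaklyRegular_of_le hIM h1
    obtain ⟨y, rfl⟩ := List.length_eq_one_iff.mp hlen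
    have hy : y ∈ maximalIdeal S := hmem y (List.mem_singleton.mpr rfl)
    have hyreg : IsSMulRegular (N ⊗[R] (R ⧸ maximalIdeal R)) y :=
      ((isWeaklyRegular_cons_iff _ y []).mp hreg).1
    -- the quotient `N' = N/yN`
    haveI hflat : Module.Flat R (QuotSMulTop y N) := flat_quotSMulTop R S N y hyreg
    have e1 := idealDepth_quotSMulTop_add_one (maximalIdeal S)
      (N ⊗[R] (R ⧸ maximalIdeal R)) y hy hyreg
    have e2 := idealDepth_congr (I := maximalIdeal S)
      (quotEquivLeft R S N (R ⧸ maximalIdeal R) y)
    have hN' : depth S ((QuotSMulTop y N) ⊗[R] (R ⧸ maximalIdeal R)) = d := by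
      change idealDepth (maximalIdeal S) _ = _
      rw [← e2]
      apply enat_add_one_cancel
      rw [e1]
      exact hN
    have h3 := ih (QuotSMulTop y N) hN'
    have hyM : IsSMulRegular (N ⊗[R] M) y := isSMulRegular_tensor R S N y hyreg M
    have e3 := idealDepth_quotSMulTop_add_one (maximalIdeal S) (N ⊗[R] M) y hy hyM
    have e4 := idealDepth_congr (I := maximalIdeal S) (quotEquivLeft R S N M y)
    change idealDepth (maximalIdeal S) _ = _
    rw [← e3, e4]
    change depth S _ + 1 = _
    rw [h3]
    push_cast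
    rfl

/-- reduction on the depth of `M` -/
theorem depth_tensor_of_depth_eq : ∀ (n : ℕ) (M : Type u) [AddCommGroup M] [Module R M]
    [Module.Finite R M], depth R M = n →
      depth S (N ⊗[R] M) = n + depth S (N ⊗[R] (R ⧸ maximalIdeal R)) := by
  intro n
  induction n with
  | zero =>
    intro M _ _ _ hM
    haveI : Module.Finite S (N ⊗[R] M) := finite_tensor R S N M
    haveI : Module.Finite S (N ⊗[R] (R ⧸ maximalIdeal R)) := finite_tensor R S N _
    rw [Nat.cast_zero, zero_add]
    have hM0 : depth R M = 0 := by rw [hM]; rfl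
    cases hD : depth S (N ⊗[R] (R ⧸ maximalIdeal R)) with
    | top =>
      haveI := subsingleton_of_depth_eq_top S _ hD
      haveI : Subsingleton N := subsingleton_of_subsingleton_tensor R S N
      exact idealDepth_of_subsingleton S (maximalIdeal S) _
    | coe d => exact depth_tensor_of_depth_zero R S M hM0 d N hD
  | succ n ih =>
    intro M _ _ _ hM
    haveI : Module.Finite S (N ⊗[R] M) := finite_tensor R S N M
    have hIM : maximalIdeal R • (⊤ : Submodule R M) ≠ ⊤ := by
      intro h
      have := idealDepth_eq_top_of_smul_top_eq_top (maximalIdeal R) _ h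
      rw [depth, this] at hM
      exact ENat.top_ne_natCast _ hM
    have h1 : ((1 : ℕ) : ℕ∞) ≤ idealDepth (maximalIdeal R) M := by
      change _ ≤ depth R _
      rw [hM]
      exact_mod_cast Nat.succ_le_succ (Nat.zero_le n)
    obtain ⟨rs, hlen, hmem, hreg⟩ := exists_isWeaklyRegular_of_le hIM h1
    obtain ⟨x, rfl⟩ := List.length_eq_one_iff.mp hlen
    have hx : x ∈ maximalIdeal R := hmem x (List.mem_singleton.mpr rfl)
    have hxreg : IsSMulRegular M x := ((isWeaklyRegular_cons_iff _ x []).mp hreg).1
    have e1 := idealDepth_quotSMulTop_add_one (maximalIdeal R) M x hx hxreg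
    have hM' : depth R (QuotSMulTop x M) = n := by
      apply enat_add_one_cancel
      change idealDepth (maximalIdeal R) _ + 1 = _
      rw [e1]
      exact hM
    have h3 := ih (QuotSMulTop x M) hM'
    have hxS : algebraMap R S x ∈ maximalIdeal S := by
      have hle : (maximalIdeal R).map (algebraMap R S) ≤ maximalIdeal S :=
        ((IsLocalRing.local_hom_TFAE (algebraMap R S)).out 0 2).mp ‹IsLocalHom (algebraMap R S)›
      exact hle (Ideal.mem_map_of_mem _ hx)
    have hxM : IsSMulRegular (N ⊗[R] M) (algebraMap R S x) := by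
      have h := IsSMulRegular.lTensor N hxreg
      intro a b hab
      simp only [algebraMap_smul] at hab
      exact h hab
    have e3 := idealDepth_quotSMulTop_add_one (maximalIdeal S) (N ⊗[R] M) _ hxS hxM
    have e4 := idealDepth_congr (I := maximalIdeal S) (quotEquivRight R S N M x)
    change idealDepth (maximalIdeal S) _ = _
    rw [← e3, e4]
    change depth S _ + 1 = _
    rw [h3]
    push_cast
    rw [add_right_comm]

/-- **Depth formula for flat local homomorphisms** (tensor form). -/
theorem depth_tensor (M : Type u) [AddCommGroup M] [Module R M] [Module.Finite R M] :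
    depth S (N ⊗[R] M) = depth R M + depth S (N ⊗[R] (R ⧸ maximalIdeal R)) := by
  cases hD : depth R M with
  | top =>
    haveI : Subsingleton M := subsingleton_of_depth_eq_top R M hD
    rw [top_add]
    exact idealDepth_of_subsingleton S (maximalIdeal S) _
  | coe n => exact depth_tensor_of_depth_eq R S N n M hD

/-- **Depth formula for flat local homomorphisms**. -/
theorem depth_tensor' (M : Type u) [AddCommGroup M] [Module R M] [Module.Finite R M] :
    depth S (N ⊗[R] M) = depth R M + depth S
      (N ⧸ (maximalIdeal R).map (algebraMap R S) • (⊤ : Submodule S N)) := by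
  rw [depth_tensor R S N M]
  congr 1
  exact idealDepth_congr (I := maximalIdeal S) (tensorQuotEquiv R S N (maximalIdeal R))

end

end Groth.Agent.Lib.Helper24.FlatDepth
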