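import Mathlib
import Groth.Agent.Lib.Helper24.FlatDepth3
import Groth.Agent.Lib.Helper24.FlatDimFormula
import Groth.Agent.Lib.Helper24.CatEquidim2
import Groth.Agent.Lib.Helper26.Depth7

/-!
# Flat depth formula, part 4 (helper24): ring forms, Cohen–Macaulay ascent and descent
-/

set_option autoImplicit false
universe u
open TensorProduct IsLocalRing LocCoh
open Groth.Agent.Lib.helper26.Depth
open scoped Pointwise

namespace Groth.Agent.Lib.Helper24.FlatDepth

/-- The depth of a quotient ring `S/I` as an `S`-module equals its depth as a ring. -/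
theorem idealDepth_quotient_eq (S : Type u) [CommRing S] [IsLocalRing S] [IsNoetherianRing S]
    (I : Ideal S) [IsLocalRing (S ⧸ I)] :
    idealDepth (maximalIdeal S) (S ⧸ I) = depth (S ⧸ I) (S ⧸ I) := by
  have h1 := idealDepth_map_eq (A := S) (B := S ⧸ I) (maximalIdeal S) (S ⧸ I)
  rw [h1]
  have hI : I ≠ ⊤ := Ideal.Quotient.nontrivial_iff.mp inferInstance
  have hmax : ((maximalIdeal S).map (algebraMap S (S ⧸ I))).IsMaximal := by
    refine Ideal.IsMaximal.map_of_surjective_of_ker_le Ideal.Quotient.mk_surjective ?_
    change RingHom.ker (Ideal.Quotient.mk I) ≤ _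
    rw [Ideal.mk_ker]
    exact le_maximalIdeal hI
  rw [IsLocalRing.eq_maximalIdeal hmax]
  rfl

section

variable (R S : Type u) [CommRing R] [CommRing S] [Algebra R S] [IsLocalRing R] [IsLocalRing S]
  [IsNoetherianRing R] [IsNoetherianRing S] [IsLocalHom (algebraMap R S)] [Module.Flat R S]

/-- **Depth formula** for a flat local homomorphism, closed fibre as an `S`-module. -/
theorem depth_eq_add_idealDepth_of_flat :
    depth S S = depth R R +
      idealDepth (maximalIdeal S) (S ⧸ (maximalIdeal R).map (algebraMap R S)) := by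
  have h := depth_tensor' R S S R
  have e1 : depth S (S ⊗[R] R) = depth S S :=
    idealDepth_congr (I := maximalIdeal S) (TensorProduct.AlgebraTensorModule.rid R S S)
  rw [e1] at h
  rw [h]
  congr 1
  have hI : (maximalIdeal R).map (algebraMap R S) • (⊤ : Submodule S S) =
      (maximalIdeal R).map (algebraMap R S) := by
    rw [smul_eq_mul, Ideal.mul_top]
  exact idealDepth_congr (I := maximalIdeal S) (Submodule.quotEquivOfEq _ _ hI)

/-- **Depth formula** for a flat local homomorphism of Noetherian local rings. -/
theorem depth_eq_add_of_flat [IsLocalRing (S ⧸ (maximalIdeal R).map (algebraMap R S))] :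
    depth S S = depth R R + depth (S ⧸ (maximalIdeal R).map (algebraMap R S))
      (S ⧸ (maximalIdeal R).map (algebraMap R S)) := by
  rw [depth_eq_add_idealDepth_of_flat R S, idealDepth_quotient_eq]

/-- Cohen–Macaulayness along a flat local homomorphism: `S` is CM iff `R` and the closed fibre
`S/m_R S` are CM. -/
theorem cm_iff_of_flat :
    IsCohenMacaulayLocalRing S ↔ IsCohenMacaulayLocalRing R ∧
      IsCohenMacaulayLocalRing (S ⧸ (maximalIdeal R).map (algebraMap R S)) := by
  haveI hloc := Groth.Agent.Lib.Helper24.FlatDimFormula.isLocalRing_quotient R S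
  have hdepth := depth_eq_add_of_flat R S
  have hdim := Groth.Agent.Lib.Helper24.FlatDimFormula.ringKrullDim_eq_add_of_flat R S
  set F := S ⧸ (maximalIdeal R).map (algebraMap R S) with hF
  obtain ⟨dR, hdR⟩ := Groth.Agent.Lib.Helper24.CatEquidim.exists_nat_eq_ringKrullDim R
  obtain ⟨dF, hdF⟩ := Groth.Agent.Lib.Helper24.CatEquidim.exists_nat_eq_ringKrullDim F
  obtain ⟨dS, hdS⟩ := Groth.Agent.Lib.Helper24.CatEquidim.exists_nat_eq_ringKrullDim S
  obtain ⟨eR, heR⟩ := ENat.ne_top_iff_exists.mp (depth_ne_top (A := R) R)
  obtain ⟨eF, heF⟩ := ENat.ne_top_iff_exists.mp (depth_ne_top (A := F) F)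
  obtain ⟨eS, heS⟩ := ENat.ne_top_iff_exists.mp (depth_ne_top (A := S) S)
  have lR := depth_self_le_ringKrullDim R
  have lF := depth_self_le_ringKrullDim F
  have lS := depth_self_le_ringKrullDim S
  rw [hdR, ← heR] at lR
  rw [hdF, ← heF] at lF
  rw [hdS, ← heS] at lS
  rw [hdR, hdF, hdS] at hdim
  rw [← heR, ← heF, ← heS] at hdepth
  have g1 : eR ≤ dR := by exact_mod_cast lR
  have g2 : eF ≤ dF := by exact_mod_cast lF
  have g3 : eS ≤ dS := by exact_mod_cast lS
  have g4 : dS = dR + dF := by exact_mod_cast hdim
  have g5 : eS = eR + eF := by exact_mod_cast hdepth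
  have cmS : IsCohenMacaulayLocalRing S ↔ dS = eS := by
    constructor
    · intro h
      have := h.supportDim_eq_depth
      rw [Module.supportDim_self_eq_ringKrullDim, hdS, ← heS] at this
      exact_mod_cast this
    · intro h
      refine { supportDim_eq_depth := ?_ }
      rw [Module.supportDim_self_eq_ringKrullDim, hdS, ← heS, h]
  have cmR : IsCohenMacaulayLocalRing R ↔ dR = eR := by
    constructor
    · intro h
      have := h.supportDim_eq_depth
      rw [Module.supportDim_self_eq_ringKrullDim, hdR, ← heR] at this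
      exact_mod_cast this
    · intro h
      refine { supportDim_eq_depth := ?_ }
      rw [Module.supportDim_self_eq_ringKrullDim, hdR, ← heR, h]
  have cmF : IsCohenMacaulayLocalRing F ↔ dF = eF := by
    constructor
    · intro h
      have := h.supportDim_eq_depth
      rw [Module.supportDim_self_eq_ringKrullDim, hdF, ← heF] at this
      exact_mod_cast this
    · intro h
      refine { supportDim_eq_depth := ?_ }
      rw [Module.supportDim_self_eq_ringKrullDim, hdF, ← heF, h]
  rw [cmS, cmR, cmF]
  omega

end

end Groth.Agent.Lib.Helper24.FlatDepth
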