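import Mathlib
import Groth.Agent.Lib.Helper24.FlatDepth4

/-!
# Flat depth formula, part 8 (helper24): lifting regular sequences from the closed fibre
-/

set_option autoImplicit false
universe u
open TensorProduct IsLocalRing LocCoh RingTheory.Sequence
open Groth.Agent.Lib.helper26.Depth
open scoped Pointwise

namespace Groth.Agent.Lib.Helper24.FlatDepth

section

variable (R S : Type u) [CommRing R] [CommRing S] [Algebra R S] [IsLocalRing R] [IsLocalRing S]
  [IsNoetherianRing R] [IsNoetherianRing S] [IsLocalHom (algebraMap R S)]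

/-- Iterated Stacks 00ME: a sequence weakly regular on `N ⊗ k` is weakly regular on `N ⊗ M` for
every finite `M`. -/
theorem isWeaklyRegular_tensor : ∀ (ys : List S) (N : Type u) [AddCommGroup N] [Module S N]
    [Module R N] [IsScalarTower R S N] [Module.Flat R N] [Module.Finite S N],
    IsWeaklyRegular (N ⊗[R] (R ⧸ maximalIdeal R)) ys →
    ∀ (M : Type u) [AddCommGroup M] [Module R M] [Module.Finite R M],
      IsWeaklyRegular (N ⊗[R] M) ys := by
  intro ys
  induction ys with
  | nil =>
    intro N _ _ _ _ _ _ _ M _ _ _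
    exact IsWeaklyRegular.nil S _
  | cons y ys ih =>
    intro N _ _ _ _ _ _ h M _ _ _
    obtain ⟨hy, hys⟩ := (isWeaklyRegular_cons_iff _ y ys).mp h
    haveI hflat : Module.Flat R (QuotSMulTop y N) := flat_quotSMulTop R S N y hy
    have h1 : IsWeaklyRegular ((QuotSMulTop y N) ⊗[R] (R ⧸ maximalIdeal R)) ys :=
      (LinearEquiv.isWeaklyRegular_congr (quotEquivLeft R S N (R ⧸ maximalIdeal R) y) ys).mp hys
    have h2 := ih (QuotSMulTop y N) h1 M
    have h3 : IsWeaklyRegular (QuotSMulTop y (N ⊗[R] M)) ys :=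
      (LinearEquiv.isWeaklyRegular_congr (quotEquivLeft R S N M y) ys).mpr h2
    exact (isWeaklyRegular_cons_iff _ y ys).mpr ⟨isSMulRegular_tensor R S N y hy M, h3⟩

variable [Module.Flat R S]

/-- A sequence weakly regular on the closed fibre `S/m_R S` is weakly regular on `S`. -/
theorem isWeaklyRegular_of_closedFibre (ys : List S)
    (h : IsWeaklyRegular (S ⧸ (maximalIdeal R).map (algebraMap R S)) ys) :
    IsWeaklyRegular S ys := by
  have hI : (maximalIdeal R).map (algebraMap R S) • (⊤ : Submodule S S) =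
      (maximalIdeal R).map (algebraMap R S) := by
    rw [smul_eq_mul, Ideal.mul_top]
  let e : S ⊗[R] (R ⧸ maximalIdeal R) ≃ₗ[S] (S ⧸ (maximalIdeal R).map (algebraMap R S)) :=
    (tensorQuotEquiv R S S (maximalIdeal R)).trans (Submodule.quotEquivOfEq _ _ hI)
  have h1 : IsWeaklyRegular (S ⊗[R] (R ⧸ maximalIdeal R)) ys :=
    (LinearEquiv.isWeaklyRegular_congr e ys).mpr h
  have h2 := isWeaklyRegular_tensor R S ys S h1 R
  exact (LinearEquiv.isWeaklyRegular_congr (TensorProduct.AlgebraTensorModule.rid R S S) ys).mp h2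

/-- `depth_I (S/m_R S) ≤ depth_I S` for every proper ideal `I` of `S`. -/
theorem idealDepth_closedFibre_le (I : Ideal S) (hI : I ≠ ⊤) :
    idealDepth I (S ⧸ (maximalIdeal R).map (algebraMap R S)) ≤ idealDepth I S := by
  haveI : Nontrivial (S ⧸ (maximalIdeal R).map (algebraMap R S)) :=
    (Groth.Agent.Lib.Helper24.FlatDimFormula.isLocalRing_quotient R S).toNontrivial
  have hIF := smul_top_ne_top_of_ne_top I hI (S ⧸ (maximalIdeal R).map (algebraMap R S))
  obtain ⟨n, hn⟩ := ENat.ne_top_iff_exists.mp (idealDepth_ne_top I _ hIF)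
  obtain ⟨rs, hlen, hmem, hreg⟩ := exists_isWeaklyRegular_of_le hIF (le_of_eq hn)
  rw [← hn, ← hlen]
  exact length_le_idealDepth (isWeaklyRegular_of_closedFibre R S rs hreg) hmem

end

end Groth.Agent.Lib.Helper24.FlatDepth
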