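import Mathlib
import Groth.Agent.Lib.Helper24.FlatDimFormula

/-!
# Ascent of regularity (helper24)

* `isRegularLocalRing_of_quotient` : `B` Noetherian local, `I ≤ m_B`, `B/I` regular local and
  `spanFinrank I + dim B/I ≤ dim B` ⇒ `B` regular.
* `isRegularLocalRing_of_flat_of_fibre` : flat local `R → S`, `R` regular, closed fibre `S/m_R S`
  regular ⇒ `S` regular.
-/

set_option autoImplicit false

namespace Groth.Agent.Lib.Helper24.RegularAscent

open IsLocalRing

universe u

/-- Counting generators: `m_B` is generated by generators of `I` and lifts of generators of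
`m_{B/I}`. -/
theorem spanFinrank_maximalIdeal_le (B : Type u) [CommRing B] [IsLocalRing B] [IsNoetherianRing B]
    (I : Ideal B) (hI : I ≤ maximalIdeal B) [IsLocalRing (B ⧸ I)] :
    (maximalIdeal B).spanFinrank ≤ I.spanFinrank + (maximalIdeal (B ⧸ I)).spanFinrank := by
  classical
  obtain ⟨sI, hsIc, hsI⟩ := Submodule.FG.exists_span_finset_card_eq_spanFinrank
    (IsNoetherian.noetherian I)
  obtain ⟨s', hs'c, hs'⟩ := Submodule.FG.exists_span_finset_card_eq_spanFinrank
    (IsNoetherian.noetherian (maximalIdeal (B ⧸ I)))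
  let σ : B ⧸ I → B := Function.surjInv Ideal.Quotient.mk_surjective
  have hσ : ∀ y, Ideal.Quotient.mk I (σ y) = y := Function.surjInv_eq Ideal.Quotient.mk_surjective
  let t : Finset B := s'.image σ
  have hmem : ∀ b : B, Ideal.Quotient.mk I b ∈ maximalIdeal (B ⧸ I) → b ∈ maximalIdeal B := by
    intro b hb
    by_contra hnb
    have hu : IsUnit b := by
      by_contra hnu
      exact hnb ((IsLocalRing.mem_maximalIdeal b).2 hnu)
    exact ((IsLocalRing.mem_maximalIdeal _).1 hb) (hu.map _)
  have hspan : Ideal.span ((sI ∪ t : Finset B) : Set B) = maximalIdeal B := by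
    apply le_antisymm
    · rw [Ideal.span_le]
      intro b hb
      rw [Finset.coe_union] at hb
      rcases hb with hb | hb
      · exact hI (hsI ▸ Ideal.subset_span hb)
      · obtain ⟨y, hy, rfl⟩ := Finset.mem_image.1 hb
        apply hmem
        rw [hσ]
        exact hs' ▸ Ideal.subset_span hy
    · intro x hx
      have hx' : Ideal.Quotient.mk I x ∈ maximalIdeal (B ⧸ I) := by
        rw [IsLocalRing.mem_maximalIdeal] at hx ⊢
        intro hu
        apply hx
        haveI := IsLocalHom.of_surjective (Ideal.Quotient.mk I) Ideal.Quotient.mk_surjective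
        exact (isUnit_of_map_unit (Ideal.Quotient.mk I) x hu)
      have h1 : (s' : Set (B ⧸ I)) = Ideal.Quotient.mk I '' (t : Set B) := by
        ext y
        constructor
        · intro hy
          exact ⟨σ y, Finset.mem_image_of_mem σ hy, hσ y⟩
        · rintro ⟨b, hb, rfl⟩
          obtain ⟨y, hy, rfl⟩ := Finset.mem_image.1 hb
          rw [hσ]; exact hy
      have h2 : maximalIdeal (B ⧸ I) = (Ideal.span (t : Set B)).map (Ideal.Quotient.mk I) := by
        rw [Ideal.map_span, ← h1]
        exact hs'.symm
      rw [h2] at hx'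
      obtain ⟨y, hy, hxy⟩ := (Ideal.mem_map_iff_of_surjective _ Ideal.Quotient.mk_surjective).1 hx'
      have h3 : x - y ∈ I := by
        rw [← Ideal.Quotient.eq]; exact hxy.symm
      have h4 : x = (x - y) + y := by ring
      rw [h4]
      refine Ideal.add_mem _ ?_ ?_
      · have : I ≤ Ideal.span ((sI ∪ t : Finset B) : Set B) := by
          rw [← hsI]
          exact Ideal.span_mono (by rw [Finset.coe_union]; exact Set.subset_union_left)
        exact this h3
      · exact Ideal.span_mono (by rw [Finset.coe_union]; exact Set.subset_union_right) hy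
  calc (maximalIdeal B).spanFinrank
      = (Ideal.span ((sI ∪ t : Finset B) : Set B)).spanFinrank := by rw [hspan]
    _ ≤ ((sI ∪ t : Finset B) : Set B).ncard :=
        Submodule.spanFinrank_span_le_ncard_of_finite (Finset.finite_toSet _)
    _ = (sI ∪ t).card := Set.ncard_coe_finset _
    _ ≤ sI.card + t.card := Finset.card_union_le _ _
    _ ≤ sI.card + s'.card := Nat.add_le_add_left Finset.card_image_le _
    _ = I.spanFinrank + (maximalIdeal (B ⧸ I)).spanFinrank := by rw [hsIc, hs'c]

/-- If `B/I` is regular local and `spanFinrank I + dim B/I ≤ dim B`, then `B` is regular. -/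
theorem isRegularLocalRing_of_quotient (B : Type u) [CommRing B] [IsLocalRing B]
    [IsNoetherianRing B] (I : Ideal B) (hI : I ≤ maximalIdeal B) [IsRegularLocalRing (B ⧸ I)]
    (h : (I.spanFinrank : WithBot ℕ∞) + ringKrullDim (B ⧸ I) ≤ ringKrullDim B) :
    IsRegularLocalRing B := by
  apply IsRegularLocalRing.of_spanFinrank_maximalIdeal_le
  have h1 := spanFinrank_maximalIdeal_le B I hI
  have h2 : ((maximalIdeal (B ⧸ I)).spanFinrank : WithBot ℕ∞) = ringKrullDim (B ⧸ I) :=
    IsRegularLocalRing.spanFinrank_maximalIdeal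
  calc ((maximalIdeal B).spanFinrank : WithBot ℕ∞)
      ≤ ((I.spanFinrank + (maximalIdeal (B ⧸ I)).spanFinrank : ℕ) : WithBot ℕ∞) := by
        exact_mod_cast h1
    _ = (I.spanFinrank : WithBot ℕ∞) + ringKrullDim (B ⧸ I) := by
        rw [← h2]; push_cast; rfl
    _ ≤ ringKrullDim B := h

/-- **Ascent of regularity** along a flat local homomorphism with regular closed fibre. -/
theorem isRegularLocalRing_of_flat_of_fibre (R S : Type u) [CommRing R] [CommRing S]
    [IsRegularLocalRing R] [IsLocalRing S] [IsNoetherianRing S] [Algebra R S]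
    [IsLocalHom (algebraMap R S)] [Module.Flat R S]
    [IsRegularLocalRing (S ⧸ (maximalIdeal R).map (algebraMap R S))] :
    IsRegularLocalRing S := by
  haveI : IsNoetherianRing R := inferInstance
  have hdim := Groth.Agent.Lib.Helper24.FlatDimFormula.ringKrullDim_eq_add_of_flat R S
  refine isRegularLocalRing_of_quotient S ((maximalIdeal R).map (algebraMap R S))
    (Groth.Agent.Lib.Helper24.FlatDimFormula.map_le_maximalIdeal R S) ?_
  rw [hdim]
  have h1 : ((maximalIdeal R).map (algebraMap R S)).spanFinrank ≤ (maximalIdeal R).spanFinrank :=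
    Ideal.spanFinrank_map_le_of_fg _ (IsNoetherian.noetherian _)
  have h2 : ((maximalIdeal R).spanFinrank : WithBot ℕ∞) = ringKrullDim R :=
    IsRegularLocalRing.spanFinrank_maximalIdeal
  rw [← h2]
  gcongr

end Groth.Agent.Lib.Helper24.RegularAscent
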