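import Mathlib
import Groth.Agent.Lib.Helper24.RegularAscent

/-!
# Regularity from regular base and regular fibre ring (helper24)
-/

set_option autoImplicit false

namespace Groth.Agent.Lib.Helper24.FibreRegular

open IsLocalRing TensorProduct

universe u

variable (R S : Type u) [CommRing R] [CommRing S] [Algebra R S]

/-- The prime of the fibre ring corresponding to a prime `Q` of `S` over `p`. -/
theorem exists_fiber_prime (p : Ideal R) [p.IsPrime] (Q : Ideal S) [Q.IsPrime] [Q.LiesOver p] :
    ∃ (q : Ideal (p.Fiber S)) (_ : q.IsPrime),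
      q.comap (Algebra.TensorProduct.includeRight : S →ₐ[R] p.Fiber S) = Q := by
  let Q' : p.primesOver S := ⟨Q, ⟨inferInstance, inferInstance⟩⟩
  let q := PrimeSpectrum.primesOverOrderIsoFiber R S p Q'
  refine ⟨q.asIdeal, q.isPrime, ?_⟩
  have h1 : (PrimeSpectrum.primesOverOrderIsoFiber R S p).symm q = Q' :=
    OrderIso.symm_apply_apply _ _
  have h2 := PrimeSpectrum.coe_primesOverOrderIsoFiber_symm_apply (R := R) (S := S) (p := p) q
  rw [h1] at h2
  exact h2.symm

theorem transport_aux (p : Ideal R) [p.IsPrime] (Q r : Ideal S) [Q.IsPrime] [r.IsPrime]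
    (hr : r = Q)
    (hreg : IsRegularLocalRing (Localization.AtPrime r ⧸
      (p.map (algebraMap R S)).map (algebraMap S (Localization.AtPrime r)))) :
    IsRegularLocalRing (Localization.AtPrime Q ⧸
      (p.map (algebraMap R S)).map (algebraMap S (Localization.AtPrime Q))) := by
  subst hr
  exact hreg

/-- The fibre local ring `S_Q / p S_Q` is regular when the fibre ring `κ(p) ⊗ S` is regular. -/
theorem isRegularLocalRing_fibLocRing (p : Ideal R) [p.IsPrime] (Q : Ideal S) [Q.IsPrime]
    [Q.LiesOver p] [IsRegularRing (p.Fiber S)] :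
    IsRegularLocalRing (Localization.AtPrime Q ⧸
      (p.map (algebraMap R S)).map (algebraMap S (Localization.AtPrime Q))) := by
  obtain ⟨q, hq, hqQ⟩ := exists_fiber_prime R S p Q
  haveI : IsRegularLocalRing (Localization.AtPrime q) :=
    IsRegularRing.isRegularLocalRing_localization q
  have e : Localization.AtPrime q ≃+* (Localization.AtPrime
      (q.comap (Algebra.TensorProduct.includeRight : S →ₐ[R] p.Fiber S)) ⧸
      (p.map (algebraMap R S)).map (algebraMap S (Localization.AtPrime
        (q.comap (Algebra.TensorProduct.includeRight : S →ₐ[R] p.Fiber S))))) :=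
    (Ideal.Fiber.algEquivAux₂ p q).toRingEquiv
  exact transport_aux R S p Q _ hqQ (IsRegularLocalRing.of_ringEquiv (R := Localization.AtPrime q) e)

/-- Regular base local ring and regular fibre ring give a regular local ring upstairs. -/
theorem isRegularLocalRing_atPrime_of_fibre [IsNoetherianRing S] [Module.Flat R S]
    (p : Ideal R) [p.IsPrime] (Q : Ideal S) [Q.IsPrime] [Q.LiesOver p]
    [IsRegularLocalRing (Localization.AtPrime p)] [IsRegularRing (p.Fiber S)] :
    IsRegularLocalRing (Localization.AtPrime Q) := by
  letI := Localization.AtPrime.algebraOfLiesOver p Q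
  haveI hloc : IsLocalHom (algebraMap (Localization.AtPrime p) (Localization.AtPrime Q)) :=
    Localization.isLocalHom_localRingHom _ Q (algebraMap R S) Ideal.LiesOver.over
  haveI hflat : Module.Flat (Localization.AtPrime p) (Localization.AtPrime Q) := inferInstance
  have hfib := isRegularLocalRing_fibLocRing R S p Q
  have hI : (maximalIdeal (Localization.AtPrime p)).map
      (algebraMap (Localization.AtPrime p) (Localization.AtPrime Q)) =
      (p.map (algebraMap R S)).map (algebraMap S (Localization.AtPrime Q)) := by
    rw [← Localization.AtPrime.map_eq_maximalIdeal, Ideal.map_map, Ideal.map_map,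
      ← IsScalarTower.algebraMap_eq, ← IsScalarTower.algebraMap_eq]
  haveI : IsRegularLocalRing (Localization.AtPrime Q ⧸
      (maximalIdeal (Localization.AtPrime p)).map
        (algebraMap (Localization.AtPrime p) (Localization.AtPrime Q))) :=
    IsRegularLocalRing.of_ringEquiv (Ideal.quotEquivOfEq hI.symm)
  exact Groth.Agent.Lib.Helper24.RegularAscent.isRegularLocalRing_of_flat_of_fibre
    (Localization.AtPrime p) (Localization.AtPrime Q)

end Groth.Agent.Lib.Helper24.FibreRegular
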