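import Mathlib
import Groth.Prelude.Def_CAlg

set_option autoImplicit false

namespace Groth.Agent.Lib.Helper24.DepthFlat

open IsLocalRing RingTheory.Sequence CategoryTheory Abelian Pointwise

universe u

section StepF

variable (A : Type u) [CommRing A] [IsLocalRing A] [IsNoetherianRing A]

omit [IsNoetherianRing A] in
theorem smul_top_lt_top (M : Type u) [AddCommGroup M] [Module A M] [Module.Finite A M]
    [Nontrivial M] : maximalIdeal A • (⊤ : Submodule A M) < ⊤ :=
  lt_top_iff_ne_top.2 (Ne.symm (Submodule.top_ne_ideal_smul_of_le_jacobson_annihilator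
    (maximalIdeal_le_jacobson _)))

/-- `depth (M/xM) ≥ depth M - 1`. -/
theorem exists_isWeaklyRegular_quotSMulTop
    (M : Type u) [AddCommGroup M] [Module A M] [Module.Finite A M] [Nontrivial M]
    (x : A) (hxm : x ∈ maximalIdeal A) (hx : IsSMulRegular M x) (N : ℕ)
    (h : ∃ ts : List A, ts.length = N + 1 ∧ (∀ t ∈ ts, t ∈ maximalIdeal A) ∧
      IsWeaklyRegular M ts) :
    ∃ ts : List A, ts.length = N ∧ (∀ t ∈ ts, t ∈ maximalIdeal A) ∧
      IsWeaklyRegular (QuotSMulTop x M) ts := by
  obtain ⟨ts, hlen, hmem, hreg⟩ := h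
  have hreg' : IsRegular M ts := IsRegular.of_isWeaklyRegular_of_mem_maximalIdeal M hmem hreg
  let K : ModuleCat.{u} A := ModuleCat.of A (Shrink.{u} (A ⧸ maximalIdeal A))
  haveI : Module.Finite A K := Module.Finite.equiv (Shrink.linearEquiv A (A ⧸ maximalIdeal A)).symm
  have suppK : Module.support A K = PrimeSpectrum.zeroLocus (maximalIdeal A) := by
    rw [(Shrink.linearEquiv A _).support_eq, Module.support_eq_zeroLocus,
      Ideal.annihilator_quotient]
  have hext := ModuleCat.subsingleton_ext_of_exists_isRegular (maximalIdeal A) K suppK.subset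
    (ModuleCat.of A M) (smul_top_lt_top A M) ts hmem hreg'
  have hxM : IsSMulRegular (ModuleCat.of A M) x := hx
  have hext' : ∀ i < N, Subsingleton (Ext K (ModuleCat.of A (QuotSMulTop x (ModuleCat.of A M))) i) := by
    intro i hi
    have zero1 := AddCommGrpCat.isZero_of_iff_subsingleton.mpr (hext i (by omega))
    have zero2 := AddCommGrpCat.isZero_of_iff_subsingleton.mpr (hext (i + 1) (by omega))
    exact AddCommGrpCat.subsingleton_of_isZero <| ShortComplex.Exact.isZero_of_both_zeros
      ((Ext.covariant_sequence_exact₃' K hxM.smulShortComplex_shortExact) i (i + 1) rfl)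
      (zero1.eq_zero_of_src _) (zero2.eq_zero_of_tgt _)
  haveI : Nontrivial (QuotSMulTop x M) := nontrivial_quotSMulTop_of_mem_maximalIdeal M hxm
  obtain ⟨ts', hlen', hmem', hreg''⟩ := ModuleCat.exists_isRegular_of_exists_subsingleton_ext
    (maximalIdeal A) N (ModuleCat.of A (QuotSMulTop x M)) (smul_top_lt_top A (QuotSMulTop x M))
    K suppK hext'
  exact ⟨ts', hlen', hmem', hreg''.toIsWeaklyRegular⟩

/-- If `M` has a regular sequence longer than the weakly regular sequence `rs`, then the maximal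
ideal contains a regular element on `M/(rs)M`. -/
theorem exists_isSMulRegular_quot_ofList (rs : List A) :
    ∀ (M : Type u) [AddCommGroup M] [Module A M] [Module.Finite A M] [Nontrivial M],
      IsWeaklyRegular M rs → (∀ r ∈ rs, r ∈ maximalIdeal A) →
      (∃ ts : List A, ts.length = rs.length + 1 ∧ (∀ t ∈ ts, t ∈ maximalIdeal A) ∧
        IsWeaklyRegular M ts) →
      ∃ x ∈ maximalIdeal A, IsSMulRegular (M ⧸ (Ideal.ofList rs • ⊤ : Submodule A M)) x := by
  induction rs with
  | nil =>
    intro M _ _ _ _ _ _ h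
    obtain ⟨ts, hlen, hmem, hreg⟩ := h
    match ts, hlen with
    | [t], _ =>
      refine ⟨t, hmem t (by simp), ?_⟩
      rw [isWeaklyRegular_singleton_iff] at hreg
      have hbot : (Ideal.ofList ([] : List A) • ⊤ : Submodule A M) = ⊥ := by
        rw [Ideal.ofList_nil, Submodule.bot_smul]
      exact ((Submodule.quotEquivOfEqBot _ hbot).isSMulRegular_congr t).2 hreg
  | cons r rs ih =>
    intro M _ _ _ _ hreg hmem h
    rw [isWeaklyRegular_cons_iff] at hreg
    have hrm : r ∈ maximalIdeal A := hmem r (by simp)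
    haveI : Nontrivial (QuotSMulTop r M) := nontrivial_quotSMulTop_of_mem_maximalIdeal M hrm
    have h' := exists_isWeaklyRegular_quotSMulTop A M r hrm hreg.1 (rs.length + 1)
      (by simpa using h)
    obtain ⟨x, hxm, hx⟩ := ih (QuotSMulTop r M) hreg.2
      (fun s hs => hmem s (List.mem_cons_of_mem _ hs)) h'
    exact ⟨x, hxm,
      ((Submodule.quotOfListConsSMulTopEquivQuotSMulTopInner M r rs).isSMulRegular_congr x).2 hx⟩

end StepF

section Main

variable (R S : Type u) [CommRing R] [CommRing S] [IsLocalRing R] [IsLocalRing S]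
  [IsNoetherianRing R] [IsNoetherianRing S] [Algebra R S] [IsLocalHom (algebraMap R S)]
  [Module.Flat R S]

/-- The predicate "there is a weakly regular sequence of length `n` in the maximal ideal". -/
def HasSeq (A : Type u) [CommRing A] [IsLocalRing A] (n : ℕ) : Prop :=
  ∃ rs : List A, rs.length = n ∧ (∀ r ∈ rs, r ∈ maximalIdeal A) ∧ IsWeaklyRegular A rs

theorem hasSeq_zero (A : Type u) [CommRing A] [IsLocalRing A] : HasSeq A 0 :=
  ⟨[], rfl, by simp, IsWeaklyRegular.nil A A⟩

theorem hasSeq_of_le (A : Type u) [CommRing A] [IsLocalRing A] {m n : ℕ} (hmn : m ≤ n)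
    (h : HasSeq A n) : HasSeq A m := by
  obtain ⟨rs, hlen, hmem, hreg⟩ := h
  refine ⟨rs.take m, by simp [hlen, hmn], fun r hr => hmem r (List.mem_of_mem_take hr), ?_⟩
  have h1 : IsWeaklyRegular A (rs.take m ++ rs.drop m) := by rwa [List.take_append_drop]
  exact ((isWeaklyRegular_append_iff A _ _).1 h1).1

omit [IsNoetherianRing R] [IsNoetherianRing S] in
theorem hasSeq_map {n : ℕ} (h : HasSeq R n) : HasSeq S n := by
  obtain ⟨rs, hlen, hmem, hreg⟩ := h
  refine ⟨rs.map (algebraMap R S), by simp [hlen], ?_, IsWeaklyRegular.of_flat hreg⟩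
  intro s hs
  obtain ⟨r, hr, rfl⟩ := List.mem_map.1 hs
  exact map_nonunit (algebraMap R S) r (hmem r hr)

omit [IsLocalRing S] [IsNoetherianRing S] [IsLocalHom (algebraMap R S)] [Module.Flat R S]
  [CommRing S] [Algebra R S] in
/-- If no element of the maximal ideal is regular on `R/I`, there is a socle element. -/
theorem exists_socle (I : Ideal R)
    (hno : ¬ ∃ r ∈ maximalIdeal R, IsSMulRegular (R ⧸ (I • ⊤ : Submodule R R)) r) :
    ∃ a : R, a ∉ I ∧ ∀ r ∈ maximalIdeal R, r * a ∈ I := by
  have hI : (I • ⊤ : Submodule R R) = I := by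
    rw [smul_eq_mul, Ideal.mul_top]
  have h1 : ¬ Subsingleton ((R ⧸ maximalIdeal R) →ₗ[R] (R ⧸ (I • ⊤ : Submodule R R))) := by
    rw [IsSMulRegular.subsingleton_linearMap_iff, Ideal.annihilator_quotient]
    exact hno
  rw [not_subsingleton_iff_nontrivial] at h1
  obtain ⟨f, hf⟩ := exists_ne (0 : (R ⧸ maximalIdeal R) →ₗ[R] (R ⧸ (I • ⊤ : Submodule R R)))
  obtain ⟨a, ha⟩ := Submodule.Quotient.mk_surjective _ (f 1)
  refine ⟨a, ?_, ?_⟩
  · intro haI
    apply hf
    have h2 : f 1 = 0 := by
      rw [← ha, Submodule.Quotient.mk_eq_zero, hI]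
      exact haI
    ext
    simp [h2]
  · intro r hr
    have h3 : r • f 1 = 0 := by
      rw [← map_smul]
      have : r • (1 : R ⧸ maximalIdeal R) = 0 := by
        rw [Algebra.smul_def, mul_one, Ideal.Quotient.algebraMap_eq,
          Ideal.Quotient.eq_zero_iff_mem]
        exact hr
      rw [this, map_zero]
    rw [← ha, ← Submodule.Quotient.mk_smul, Submodule.Quotient.mk_eq_zero, hI] at h3
    exact h3

/-- Descent of regular sequences along a flat local homomorphism with `m_R S = m_S`. -/
theorem hasSeq_descend (hm : (maximalIdeal R).map (algebraMap R S) = maximalIdeal S) {N : ℕ}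
    (h : HasSeq S N) : HasSeq R N := by
  classical
  by_contra hN
  have hex : ∃ k, ¬ HasSeq R k := ⟨N, hN⟩
  have hk : ¬ HasSeq R (Nat.find hex) := Nat.find_spec hex
  have hk0 : Nat.find hex ≠ 0 := fun h0 => hk (h0 ▸ hasSeq_zero R)
  obtain ⟨n, hn⟩ := Nat.exists_eq_succ_of_ne_zero hk0
  have hPn : HasSeq R n := by
    by_contra h'
    exact Nat.find_min hex (by omega) h'
  have hn1 : ¬ HasSeq R (n + 1) := by rw [← Nat.succ_eq_add_one, ← hn]; exact hk
  have hnN : n + 1 ≤ N := by rw [← Nat.succ_eq_add_one, ← hn]; exact Nat.find_min' hex hN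
  obtain ⟨rs, hlen, hmem, hreg⟩ := hPn
  have hS : HasSeq S (n + 1) := hasSeq_of_le S hnN h
  -- no regular element on `R/(rs)`
  have hno : ¬ ∃ r ∈ maximalIdeal R,
      IsSMulRegular (R ⧸ (Ideal.ofList rs • ⊤ : Submodule R R)) r := by
    rintro ⟨r, hr, hreg'⟩
    apply hn1
    refine ⟨rs ++ [r], by simp [hlen], ?_, ?_⟩
    · intro t ht
      rcases List.mem_append.1 ht with h | h
      · exact hmem t h
      · rw [List.mem_singleton] at h
        exact h ▸ hr
    · rw [isWeaklyRegular_append_iff]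
      exact ⟨hreg, (isWeaklyRegular_singleton_iff _ _).2 hreg'⟩
  obtain ⟨a, haI, ham⟩ := exists_socle R (Ideal.ofList rs) hno
  -- the `S`-side
  haveI : Module.FaithfullyFlat R S := Module.FaithfullyFlat.of_flat_of_isLocalHom
  set rs' := rs.map (algebraMap R S) with hrs'
  have hreg' : IsWeaklyRegular S rs' := IsWeaklyRegular.of_flat hreg
  have hmem' : ∀ s ∈ rs', s ∈ maximalIdeal S := by
    intro s hs
    obtain ⟨r, hr, rfl⟩ := List.mem_map.1 hs
    exact map_nonunit (algebraMap R S) r (hmem r hr)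
  have hI' : Ideal.ofList rs' = (Ideal.ofList rs).map (algebraMap R S) :=
    (Ideal.map_ofList (algebraMap R S) rs).symm
  obtain ⟨ts, htlen, htmem, htreg⟩ := hS
  obtain ⟨x, hxm, hx⟩ := exists_isSMulRegular_quot_ofList S rs' S hreg' hmem'
    ⟨ts, by simp [htlen, hrs', hlen], htmem, htreg⟩
  have hIS : (Ideal.ofList rs' • ⊤ : Submodule S S) = Ideal.ofList rs' := by
    rw [smul_eq_mul, Ideal.mul_top]
  -- `x * a'` lies in `I S`
  have hxa : x * algebraMap R S a ∈ Ideal.ofList rs' := by
    rw [← hm] at hxm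
    rw [hI']
    refine Submodule.span_induction (p := fun y _ => y * algebraMap R S a ∈
      (Ideal.ofList rs).map (algebraMap R S)) ?_ ?_ ?_ ?_ hxm
    · rintro _ ⟨r, hr, rfl⟩
      rw [← map_mul]
      exact Ideal.mem_map_of_mem _ (ham r hr)
    · simp
    · intro y z _ _ hy hz
      rw [add_mul]
      exact Ideal.add_mem _ hy hz
    · intro c y _ hy
      rw [smul_eq_mul, mul_assoc]
      exact Ideal.mul_mem_left _ _ hy
  have h0 : x • (Submodule.Quotient.mk (algebraMap R S a) :
      S ⧸ (Ideal.ofList rs' • ⊤ : Submodule S S)) = x • 0 := by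
    rw [smul_zero, ← Submodule.Quotient.mk_smul, Submodule.Quotient.mk_eq_zero, hIS]
    exact hxa
  have h1 := hx h0
  rw [Submodule.Quotient.mk_eq_zero, hIS, hI'] at h1
  apply haI
  have h2 : a ∈ Ideal.comap (algebraMap R S) ((Ideal.ofList rs).map (algebraMap R S)) := h1
  rwa [Ideal.comap_map_eq_self_of_faithfullyFlat] at h2

end Main

section Depth

theorem depth_eq_iSup (A : Type u) [CommRing A] [IsLocalRing A] :
    LocCoh.depth A A = ⨆ (rs : List A)
      (_ : IsWeaklyRegular A rs ∧ ∀ r ∈ rs, r ∈ maximalIdeal A), (rs.length : ℕ∞) := by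
  unfold LocCoh.depth LocCoh.idealDepth
  rw [if_neg]
  rw [smul_eq_mul, Ideal.mul_top]
  exact Ideal.IsPrime.ne_top'

theorem depth_le_of_hasSeq_imp (A B : Type u) [CommRing A] [IsLocalRing A] [CommRing B]
    [IsLocalRing B] (h : ∀ n, HasSeq A n → HasSeq B n) :
    LocCoh.depth A A ≤ LocCoh.depth B B := by
  rw [depth_eq_iSup, depth_eq_iSup]
  refine iSup₂_le fun rs hrs => ?_
  obtain ⟨rs', hlen, hmem, hreg⟩ := h rs.length ⟨rs, rfl, hrs.2, hrs.1⟩
  rw [← hlen]
  exact le_iSup₂_of_le rs' ⟨hreg, hmem⟩ le_rfl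

/-- Depth is invariant under flat local homomorphisms with `m_R S = m_S`. -/
theorem depth_eq_of_flat (R S : Type u) [CommRing R] [CommRing S] [IsLocalRing R] [IsLocalRing S]
    [IsNoetherianRing R] [IsNoetherianRing S] [Algebra R S] [IsLocalHom (algebraMap R S)]
    [Module.Flat R S] (hm : (maximalIdeal R).map (algebraMap R S) = maximalIdeal S) :
    LocCoh.depth S S = LocCoh.depth R R :=
  le_antisymm (depth_le_of_hasSeq_imp S R fun _ h => hasSeq_descend R S hm h)
    (depth_le_of_hasSeq_imp R S fun _ h => hasSeq_map R S h)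

end Depth

end Groth.Agent.Lib.Helper24.DepthFlat
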