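import Groth.Agent.Lib.Helper24.HensRk
import Groth.Agent.Lib.Helper24.HensRegular
import Groth.Agent.Lib.Helper24.DepthFlat

set_option autoImplicit false

namespace Groth.Agent.Lib.Helper24.HensDepth

open IsLocalRing TensorProduct

universe u

theorem depth_of_isHenselization (R S : Type u) [CommRing R] [IsLocalRing R]
    [IsNoetherianRing R] [CommRing S] [IsLocalRing S] [Algebra R S] [IsLocalHom (algebraMap R S)]
    [Hensel.IsHenselization R S] : LocCoh.depth S S = LocCoh.depth R R := by
  have hN : IsNoetherianRing S :=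
    (Groth.Agent.Lib.Helper24.HensNoeth.isNoetherianRing_iff_of_isHenselization R S).1 inferInstance
  have hff := Groth.Agent.Lib.helper24.Henselization.faithfullyFlat_of_isHenselization R S
  exact Groth.Agent.Lib.Helper24.DepthFlat.depth_eq_of_flat R S
    (Groth.Agent.Lib.Helper24.HensRegular.map_maximalIdeal_of_isHenselization R S)

theorem depth_of_isStrictHenselization (R S : Type u) [CommRing R] [IsLocalRing R]
    [IsNoetherianRing R] [CommRing S] [IsLocalRing S] [Algebra R S] [IsLocalHom (algebraMap R S)]
    [Hensel.IsStrictHenselization R S] : LocCoh.depth S S = LocCoh.depth R R := by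
  have hN : IsNoetherianRing S :=
    (Groth.Agent.Lib.Helper24.HensNoeth.isNoetherianRing_iff_of_isStrictHenselization R S).1
      inferInstance
  have hff := Groth.Agent.Lib.Helper24.StrictHens.faithfullyFlat_of_isStrictHenselization R S
  exact Groth.Agent.Lib.Helper24.DepthFlat.depth_eq_of_flat R S
    (Groth.Agent.Lib.Helper24.StrictHens.map_maximalIdeal_of_isStrictHenselization R S)

/-- Cohen–Macaulayness along a local homomorphism preserving dimension and depth. -/
theorem cm_iff (R S : Type u) [CommRing R] [IsLocalRing R] [IsNoetherianRing R] [CommRing S]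
    [IsLocalRing S] [IsNoetherianRing S]
    (hdim : ringKrullDim S = ringKrullDim R) (hdepth : LocCoh.depth S S = LocCoh.depth R R) :
    LocCoh.IsCohenMacaulayLocalRing S ↔ LocCoh.IsCohenMacaulayLocalRing R := by
  constructor
  · intro h
    refine { supportDim_eq_depth := ?_ }
    rw [Module.supportDim_self_eq_ringKrullDim, ← hdim, ← hdepth,
      ← Module.supportDim_self_eq_ringKrullDim]
    exact h.supportDim_eq_depth
  · intro h
    refine { supportDim_eq_depth := ?_ }
    rw [Module.supportDim_self_eq_ringKrullDim, hdim, hdepth,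
      ← Module.supportDim_self_eq_ringKrullDim]
    exact h.supportDim_eq_depth

theorem cm_iff_of_isHenselization (R S : Type u) [CommRing R] [IsLocalRing R]
    [IsNoetherianRing R] [CommRing S] [IsLocalRing S] [Algebra R S] [IsLocalHom (algebraMap R S)]
    [Hensel.IsHenselization R S] :
    LocCoh.IsCohenMacaulayLocalRing S ↔ LocCoh.IsCohenMacaulayLocalRing R := by
  have hN : IsNoetherianRing S :=
    (Groth.Agent.Lib.Helper24.HensNoeth.isNoetherianRing_iff_of_isHenselization R S).1 inferInstance
  exact cm_iff R S (Groth.Agent.Lib.Helper24.HensDim.ringKrullDim_of_isHenselization R S)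
    (depth_of_isHenselization R S)

theorem cm_iff_of_isStrictHenselization (R S : Type u) [CommRing R] [IsLocalRing R]
    [IsNoetherianRing R] [CommRing S] [IsLocalRing S] [Algebra R S] [IsLocalHom (algebraMap R S)]
    [Hensel.IsStrictHenselization R S] :
    LocCoh.IsCohenMacaulayLocalRing S ↔ LocCoh.IsCohenMacaulayLocalRing R := by
  have hN : IsNoetherianRing S :=
    (Groth.Agent.Lib.Helper24.HensNoeth.isNoetherianRing_iff_of_isStrictHenselization R S).1
      inferInstance
  exact cm_iff R S (Groth.Agent.Lib.Helper24.HensDim.ringKrullDim_of_isStrictHenselization R S)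
    (depth_of_isStrictHenselization R S)

section Sk

variable (R S : Type u) [CommRing R] [CommRing S] [Algebra R S] [IsNoetherianRing R]
  [IsNoetherianRing S] [Module.Flat R S] (p : Ideal R) [p.IsPrime] (q : Ideal S) [q.IsPrime]
  (hpq : p = q.comap (algebraMap R S))
  [IsArtinianRing (p.ResidueField ⊗[R] S)] [IsReduced (p.ResidueField ⊗[R] S)]

include hpq in
theorem depth_localization_eq :
    LocCoh.depth (Localization.AtPrime q) (Localization.AtPrime q) =
      LocCoh.depth (Localization.AtPrime p) (Localization.AtPrime p) := by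
  have hflat : (Localization.localRingHom p q (algebraMap R S) hpq).Flat :=
    RingHom.Flat.localRingHom (RingHom.flat_algebraMap_iff.2 inferInstance) q p hpq
  have hm := Groth.Agent.Lib.Helper24.FlatLocalFibre.map_maximalIdeal_localRingHom R S p q hpq
  algebraize [Localization.localRingHom p q (algebraMap R S) hpq]
  haveI : IsLocalHom (algebraMap (Localization.AtPrime p) (Localization.AtPrime q)) :=
    Localization.isLocalHom_localRingHom p q (algebraMap R S) hpq
  exact Groth.Agent.Lib.Helper24.DepthFlat.depth_eq_of_flat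
    (Localization.AtPrime p) (Localization.AtPrime q) hm

end Sk

/-- The Serre condition at one prime. -/
def SkAt (k : ℕ) (A : Type u) [CommRing A] (p : Ideal A) [p.IsPrime] : Prop :=
  min (k : WithBot ℕ∞) (Module.supportDim (Localization.AtPrime p) (Localization.AtPrime p)) ≤
    ((LocCoh.depth (Localization.AtPrime p) (Localization.AtPrime p) : ℕ∞) : WithBot ℕ∞)

theorem skAt_iff (k : ℕ) (R S : Type u) [CommRing R] [CommRing S] [Algebra R S]
    [IsNoetherianRing R] [IsNoetherianRing S] [Module.Flat R S] (p : Ideal R) [p.IsPrime]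
    (q : Ideal S) [q.IsPrime] (hpq : p = q.comap (algebraMap R S))
    [IsArtinianRing (p.ResidueField ⊗[R] S)] [IsReduced (p.ResidueField ⊗[R] S)] :
    SkAt k S q ↔ SkAt k R p := by
  unfold SkAt
  rw [Module.supportDim_self_eq_ringKrullDim, Module.supportDim_self_eq_ringKrullDim,
    Groth.Agent.Lib.Helper24.FlatLocalFibre.ringKrullDim_localization_eq R S p q hpq,
    depth_localization_eq R S p q hpq]

theorem sk_iff (k : ℕ) (R S : Type u) [CommRing R] [CommRing S] [Algebra R S] [IsNoetherianRing R]
    [IsNoetherianRing S] [Module.FaithfullyFlat R S]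
    (hfib : ∀ (p : Ideal R) [p.IsPrime],
      IsArtinianRing (p.ResidueField ⊗[R] S) ∧ IsReduced (p.ResidueField ⊗[R] S)) :
    (∀ (q : Ideal S) [q.IsPrime], SkAt k S q) ↔ (∀ (p : Ideal R) [p.IsPrime], SkAt k R p) := by
  constructor
  · intro h p hp
    obtain ⟨q, hq, hqp⟩ := Ideal.exists_isPrime_liesOver_of_faithfullyFlat (B := S) p
    have hpq : p = q.comap (algebraMap R S) := hqp.over
    obtain ⟨h1, h2⟩ := hfib p
    exact (skAt_iff k R S p q hpq).1 (h q)
  · intro h q hq
    obtain ⟨h1, h2⟩ := hfib (q.comap (algebraMap R S))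
    exact (skAt_iff k R S (q.comap (algebraMap R S)) q rfl).2 (h _)

theorem hasSk_iff_skAt (k : ℕ) (A : Type u) [CommRing A] :
    LocCoh.HasSk k A A ↔ ∀ (p : Ideal A) [p.IsPrime], SkAt k A p := Iff.rfl

theorem sk_iff_of_isHenselization (k : ℕ) (R S : Type u) [CommRing R] [IsLocalRing R]
    [IsNoetherianRing R] [CommRing S] [IsLocalRing S] [Algebra R S] [IsLocalHom (algebraMap R S)]
    [Hensel.IsHenselization R S] : LocCoh.HasSk k S S ↔ LocCoh.HasSk k R R := by
  have hN : IsNoetherianRing S :=
    (Groth.Agent.Lib.Helper24.HensNoeth.isNoetherianRing_iff_of_isHenselization R S).1 inferInstance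
  have hff := Groth.Agent.Lib.helper24.Henselization.faithfullyFlat_of_isHenselization R S
  rw [hasSk_iff_skAt, hasSk_iff_skAt]
  exact sk_iff k R S fun p _ => Groth.Agent.Lib.Helper24.HensRk.fibre_isHenselization R S p

theorem sk_iff_of_isStrictHenselization (k : ℕ) (R S : Type u) [CommRing R] [IsLocalRing R]
    [IsNoetherianRing R] [CommRing S] [IsLocalRing S] [Algebra R S] [IsLocalHom (algebraMap R S)]
    [Hensel.IsStrictHenselization R S] : LocCoh.HasSk k S S ↔ LocCoh.HasSk k R R := by
  have hN : IsNoetherianRing S :=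
    (Groth.Agent.Lib.Helper24.HensNoeth.isNoetherianRing_iff_of_isStrictHenselization R S).1
      inferInstance
  have hff := Groth.Agent.Lib.Helper24.StrictHens.faithfullyFlat_of_isStrictHenselization R S
  rw [hasSk_iff_skAt, hasSk_iff_skAt]
  exact sk_iff k R S fun p _ => Groth.Agent.Lib.Helper24.HensRk.fibre_isStrictHenselization R S p

end Groth.Agent.Lib.Helper24.HensDepth
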