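import Mathlib
import Groth.Agent.Lib.Helper24.FlatDepth4
import Groth.Agent.Lib.Helper24.HensDepth
import Groth.Agent.Lib.Helper24.FibreRegular

/-!
# Flat depth formula, part 5 (helper24): global forms

`R → S` flat map of Noetherian rings, `Q` a prime of `S` over `p`.  The fibre local ring
`S_Q / p S_Q` is a localization of the fibre ring `κ(p) ⊗ S`; depth and dimension are additive.
Consequences: ascent of `(S_k)` and Cohen–Macaulayness.
-/

set_option autoImplicit false
universe u
open TensorProduct IsLocalRing LocCoh
open Groth.Agent.Lib.helper26.Depth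
open Groth.Agent.Lib.Helper24.HensDepth

namespace Groth.Agent.Lib.Helper24.FlatDepth

/-- Depth is invariant under ring isomorphisms. -/
theorem depth_eq_of_ringEquiv {R S : Type u} [CommRing R] [CommRing S] [IsLocalRing R]
    [IsLocalRing S] [IsNoetherianRing R] [IsNoetherianRing S] (e : R ≃+* S) :
    depth S S = depth R R := by
  letI : Algebra R S := e.toRingHom.toAlgebra
  haveI : IsLocalHom (algebraMap R S) := by
    constructor
    intro a ha
    have : IsUnit (e a) := ha
    exact (isUnit_map_iff e a).mp this
  haveI : Module.Flat R S :=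
    Module.Flat.of_linearEquiv
      (LinearEquiv.ofBijective (Algebra.linearMap R S) e.bijective).symm
  have hm : (IsLocalRing.maximalIdeal R).map (algebraMap R S) = IsLocalRing.maximalIdeal S := by
    have hmax : ((IsLocalRing.maximalIdeal R).map (algebraMap R S)).IsMaximal :=
      (Ideal.isMaximal_map_iff_of_bijective (algebraMap R S) e.bijective).2 inferInstance
    exact IsLocalRing.eq_maximalIdeal hmax
  exact Groth.Agent.Lib.Helper24.DepthFlat.depth_eq_of_flat R S hm

section Fibre

variable (R S : Type u) [CommRing R] [CommRing S] [Algebra R S]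
  (p : Ideal R) [p.IsPrime] (Q : Ideal S) [Q.IsPrime] [Q.LiesOver p]

/-- The fibre local ring `S_Q / p S_Q`. -/
abbrev FibLoc : Type u :=
  Localization.AtPrime Q ⧸ (p.map (algebraMap R S)).map (algebraMap S (Localization.AtPrime Q))

omit [p.IsPrime] in
theorem map_map_le_maximalIdeal :
    (p.map (algebraMap R S)).map (algebraMap S (Localization.AtPrime Q)) ≤
      maximalIdeal (Localization.AtPrime Q) := by
  rw [← Localization.AtPrime.map_eq_maximalIdeal]
  apply Ideal.map_mono
  rw [Ideal.map_le_iff_le_comap, ← Ideal.under_def, ← Ideal.over_def Q p]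

instance isLocalRing_fibLoc : IsLocalRing (FibLoc R S p Q) := by
  haveI : Nontrivial (FibLoc R S p Q) :=
    Ideal.Quotient.nontrivial_iff.mpr
      (ne_top_of_le_ne_top (maximalIdeal.isMaximal _).ne_top (map_map_le_maximalIdeal R S p Q))
  exact .of_surjective' _ Ideal.Quotient.mk_surjective

variable [IsNoetherianRing R] [IsNoetherianRing S] [Module.Flat R S]

/-- Depth and dimension are additive along `R_p → S_Q`. -/
theorem depth_dim_atPrime :
    depth (Localization.AtPrime Q) (Localization.AtPrime Q) =
        depth (Localization.AtPrime p) (Localization.AtPrime p) +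
          depth (FibLoc R S p Q) (FibLoc R S p Q) ∧
      ringKrullDim (Localization.AtPrime Q) =
        ringKrullDim (Localization.AtPrime p) + ringKrullDim (FibLoc R S p Q) := by
  letI := Localization.AtPrime.algebraOfLiesOver p Q
  haveI hloc : IsLocalHom (algebraMap (Localization.AtPrime p) (Localization.AtPrime Q)) :=
    Localization.isLocalHom_localRingHom _ Q (algebraMap R S) Ideal.LiesOver.over
  haveI hflat : Module.Flat (Localization.AtPrime p) (Localization.AtPrime Q) := inferInstance
  have hI : (maximalIdeal (Localization.AtPrime p)).map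
      (algebraMap (Localization.AtPrime p) (Localization.AtPrime Q)) =
      (p.map (algebraMap R S)).map (algebraMap S (Localization.AtPrime Q)) := by
    rw [← Localization.AtPrime.map_eq_maximalIdeal, Ideal.map_map, Ideal.map_map,
      ← IsScalarTower.algebraMap_eq, ← IsScalarTower.algebraMap_eq]
  haveI := Groth.Agent.Lib.Helper24.FlatDimFormula.isLocalRing_quotient
    (Localization.AtPrime p) (Localization.AtPrime Q)
  let e : (Localization.AtPrime Q ⧸ (maximalIdeal (Localization.AtPrime p)).map
      (algebraMap (Localization.AtPrime p) (Localization.AtPrime Q))) ≃+* FibLoc R S p Q :=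
    Ideal.quotEquivOfEq hI
  have h1 := depth_eq_add_of_flat (Localization.AtPrime p) (Localization.AtPrime Q)
  have h2 := Groth.Agent.Lib.Helper24.FlatDimFormula.ringKrullDim_eq_add_of_flat
    (Localization.AtPrime p) (Localization.AtPrime Q)
  rw [h1, h2, depth_eq_of_ringEquiv e, ringKrullDim_eq_of_ringEquiv e]
  exact ⟨rfl, rfl⟩

omit [IsNoetherianRing R] [IsNoetherianRing S] [Module.Flat R S] in
/-- The fibre local ring is a localization of the fibre ring. -/
theorem exists_fibre_prime_equiv :
    ∃ (q : Ideal (p.Fiber S)) (_ : q.IsPrime),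
      Nonempty (Localization.AtPrime q ≃+* FibLoc R S p Q) := by
  obtain ⟨q, hq, hqQ⟩ := Groth.Agent.Lib.Helper24.FibreRegular.exists_fiber_prime R S p Q
  refine ⟨q, hq, ?_⟩
  have e : Localization.AtPrime q ≃+* (Localization.AtPrime
      (q.comap (Algebra.TensorProduct.includeRight : S →ₐ[R] p.Fiber S)) ⧸
      (p.map (algebraMap R S)).map (algebraMap S (Localization.AtPrime
        (q.comap (Algebra.TensorProduct.includeRight : S →ₐ[R] p.Fiber S))))) :=
    (Ideal.Fiber.algEquivAux₂ p q).toRingEquiv
  have aux : ∀ (r : Ideal S) [r.IsPrime], r = Q →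
      (Localization.AtPrime q ≃+* (Localization.AtPrime r ⧸
        (p.map (algebraMap R S)).map (algebraMap S (Localization.AtPrime r)))) →
      Nonempty (Localization.AtPrime q ≃+* FibLoc R S p Q) := by
    intro r _ hr e'
    subst hr
    exact ⟨e'⟩
  exact aux _ hqQ e

/-- `(S_k)` at `Q` from `(S_k)` at `p` and `(S_k)` of the fibre ring. -/
theorem skAt_of_flat (k : ℕ) (hR : SkAt k R p)
    (hF : ∀ (q : Ideal (p.Fiber S)) [q.IsPrime], SkAt k (p.Fiber S) q) : SkAt k S Q := by
  obtain ⟨q, hq, ⟨e⟩⟩ := exists_fibre_prime_equiv R S p Q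
  haveI : IsNoetherianRing (p.Fiber S) :=
    Groth.Agent.Lib.Helper24.HensFibre.isNoetherianRing_fibre R S p
  have hFq := hF q
  obtain ⟨h1, h2⟩ := depth_dim_atPrime R S p Q
  unfold SkAt at hR hFq ⊢
  rw [Module.supportDim_self_eq_ringKrullDim] at hR hFq ⊢
  rw [ringKrullDim_eq_of_ringEquiv e, ← depth_eq_of_ringEquiv e] at hFq
  set F := FibLoc R S p Q with hF'
  obtain ⟨dR, hdR⟩ := Groth.Agent.Lib.Helper24.CatEquidim.exists_nat_eq_ringKrullDim
    (Localization.AtPrime p)
  obtain ⟨dF, hdF⟩ := Groth.Agent.Lib.Helper24.CatEquidim.exists_nat_eq_ringKrullDim F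
  obtain ⟨dS, hdS⟩ := Groth.Agent.Lib.Helper24.CatEquidim.exists_nat_eq_ringKrullDim
    (Localization.AtPrime Q)
  obtain ⟨eR, heR⟩ := ENat.ne_top_iff_exists.mp
    (depth_ne_top (A := Localization.AtPrime p) (Localization.AtPrime p))
  obtain ⟨eF, heF⟩ := ENat.ne_top_iff_exists.mp (depth_ne_top (A := F) F)
  obtain ⟨eS, heS⟩ := ENat.ne_top_iff_exists.mp
    (depth_ne_top (A := Localization.AtPrime Q) (Localization.AtPrime Q))
  rw [hdR, ← heR] at hR
  rw [hdF, ← heF] at hFq
  rw [hdS, ← heS]
  rw [hdR, hdF, hdS] at h2
  rw [← heR, ← heF, ← heS] at h1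
  have g1 : min k dR ≤ eR := by
    rcases min_le_iff.mp hR with h | h
    · exact min_le_iff.mpr (Or.inl (by exact_mod_cast h))
    · exact min_le_iff.mpr (Or.inr (by exact_mod_cast h))
  have g2 : min k dF ≤ eF := by
    rcases min_le_iff.mp hFq with h | h
    · exact min_le_iff.mpr (Or.inl (by exact_mod_cast h))
    · exact min_le_iff.mpr (Or.inr (by exact_mod_cast h))
  have g4 : dS = dR + dF := by exact_mod_cast h2
  have g5 : eS = eR + eF := by exact_mod_cast h1
  have : min k dS ≤ eS := by omega
  rcases min_le_iff.mp this with h | h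
  · exact min_le_iff.mpr (Or.inl (by exact_mod_cast h))
  · exact min_le_iff.mpr (Or.inr (by exact_mod_cast h))

/-- Cohen–Macaulayness at `Q` iff at `p` and at the corresponding prime of the fibre. -/
theorem cm_atPrime_iff :
    IsCohenMacaulayLocalRing (Localization.AtPrime Q) ↔
      IsCohenMacaulayLocalRing (Localization.AtPrime p) ∧
        IsCohenMacaulayLocalRing (FibLoc R S p Q) := by
  letI := Localization.AtPrime.algebraOfLiesOver p Q
  haveI hloc : IsLocalHom (algebraMap (Localization.AtPrime p) (Localization.AtPrime Q)) :=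
    Localization.isLocalHom_localRingHom _ Q (algebraMap R S) Ideal.LiesOver.over
  haveI hflat : Module.Flat (Localization.AtPrime p) (Localization.AtPrime Q) := inferInstance
  have hI : (maximalIdeal (Localization.AtPrime p)).map
      (algebraMap (Localization.AtPrime p) (Localization.AtPrime Q)) =
      (p.map (algebraMap R S)).map (algebraMap S (Localization.AtPrime Q)) := by
    rw [← Localization.AtPrime.map_eq_maximalIdeal, Ideal.map_map, Ideal.map_map,
      ← IsScalarTower.algebraMap_eq, ← IsScalarTower.algebraMap_eq]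
  haveI := Groth.Agent.Lib.Helper24.FlatDimFormula.isLocalRing_quotient
    (Localization.AtPrime p) (Localization.AtPrime Q)
  let e : (Localization.AtPrime Q ⧸ (maximalIdeal (Localization.AtPrime p)).map
      (algebraMap (Localization.AtPrime p) (Localization.AtPrime Q))) ≃+* FibLoc R S p Q :=
    Ideal.quotEquivOfEq hI
  rw [cm_iff_of_flat (Localization.AtPrime p) (Localization.AtPrime Q)]
  have hN : IsNoetherianRing (FibLoc R S p Q) := inferInstance
  rw [Groth.Agent.Lib.Helper24.HensDepth.cm_iff _ _ (ringKrullDim_eq_of_ringEquiv e)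
    (depth_eq_of_ringEquiv e).symm]

end Fibre

end Groth.Agent.Lib.Helper24.FlatDepth
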