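import Mathlib

/-!
# Closed points in Noetherian spectra (helper24)

* `height_le_one_of_forall_mem` : in a Noetherian domain `D`, if a nonzero `f` lies in every nonzero
  prime, every prime has height `≤ 1`.
* `no_isolated_generic` : in `Spec B` (`B` Noetherian) with `p0 < p1 < p2` there is no open `O ∋ p0`
  whose only generization-of-`p0` point is `p0`.
-/

set_option autoImplicit false
universe u

namespace Groth.Agent.Lib.Helper24.ClosedPoint

theorem height_le_one_of_forall_mem (D : Type*) [CommRing D] [IsDomain D] [IsNoetherianRing D]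
    (f : D) (hf : f ≠ 0) (h : ∀ P : Ideal D, P.IsPrime → P ≠ ⊥ → f ∈ P)
    (P : Ideal D) [hP : P.IsPrime] : P.height ≤ 1 := by
  by_contra hcon
  rw [not_le] at hcon
  have hPbot : P ≠ ⊥ := by
    rintro rfl
    rw [Ideal.height_bot] at hcon
    exact absurd hcon (by simp)
  have hfin : (Ideal.span {f}).minimalPrimes.Finite :=
    Ideal.finite_minimalPrimes_of_isNoetherianRing D _
  have hht : ∀ Q ∈ (Ideal.span {f}).minimalPrimes, Q.height ≤ 1 := fun Q hQ =>
    Ideal.height_le_one_of_isPrincipal_of_mem_minimalPrimes (Ideal.span {f}) Q hQ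
  -- prime avoidance
  have hnot : ¬ ((P : Set D) ⊆ ⋃ Q ∈ (hfin.toFinset : Set (Ideal D)), (Q : Set D)) := by
    intro hsub
    have hprime : ∀ i ∈ hfin.toFinset, i ≠ (⊥ : Ideal D) → i ≠ (⊥ : Ideal D) → i.IsPrime := by
      intro i hi _ _
      exact (hfin.mem_toFinset.mp hi).1.1
    obtain ⟨Q, hQ, hPQ⟩ := (Ideal.subset_union_prime (f := fun Q : Ideal D => Q) ⊥ ⊥ hprime).mp hsub
    have hQ' := hfin.mem_toFinset.mp hQ
    have := (Ideal.height_mono hPQ).trans (hht Q hQ')
    exact absurd (lt_of_lt_of_le hcon this) (lt_irrefl _)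
  rw [Set.not_subset] at hnot
  obtain ⟨g, hgP, hg⟩ := hnot
  have hgQ : ∀ Q ∈ (Ideal.span {f}).minimalPrimes, g ∉ Q := by
    intro Q hQ hgQ
    apply hg
    simp only [Set.mem_iUnion]
    exact ⟨Q, by simpa using hQ, hgQ⟩
  obtain ⟨Q', hQ'min, hQ'P⟩ := Ideal.exists_minimalPrimes_le (I := Ideal.span {g}) (J := P)
    (by rw [Ideal.span_singleton_le_iff_mem]; exact hgP)
  haveI hQ'prime : Q'.IsPrime := hQ'min.1.1
  have hgQ' : g ∈ Q' := by
    have := hQ'min.1.2
    rwa [Ideal.span_singleton_le_iff_mem] at this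
  have hQ'ht : Q'.height ≤ 1 :=
    Ideal.height_le_one_of_isPrincipal_of_mem_minimalPrimes (Ideal.span {g}) Q' hQ'min
  -- f ∈ P so there's at least a minimal prime over f
  have hfP : f ∈ P := h P hP hPbot
  obtain ⟨Q0, hQ0, -⟩ := Ideal.exists_minimalPrimes_le (I := Ideal.span {f}) (J := P)
    (by rw [Ideal.span_singleton_le_iff_mem]; exact hfP)
  have hg0 : g ≠ 0 := by
    rintro rfl
    exact hgQ Q0 hQ0 (zero_mem _)
  have hQ'bot : Q' ≠ ⊥ := by
    rintro rfl
    exact hg0 (by simpa using hgQ')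
  have hfQ' : f ∈ Q' := h Q' hQ'prime hQ'bot
  obtain ⟨Q, hQmin, hQQ'⟩ := Ideal.exists_minimalPrimes_le (I := Ideal.span {f}) (J := Q')
    (by rw [Ideal.span_singleton_le_iff_mem]; exact hfQ')
  haveI hQprime : Q.IsPrime := hQmin.1.1
  have hfQ : f ∈ Q := by
    have := hQmin.1.2
    rwa [Ideal.span_singleton_le_iff_mem] at this
  have hQbot : Q ≠ ⊥ := by
    rintro rfl
    exact hf (by simpa using hfQ)
  have hQeq : Q = Q' := by
    by_contra hne
    have hlt : Q < Q' := lt_of_le_of_ne hQQ' hne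
    have h1 : (⊥ : Ideal D) < Q := bot_lt_iff_ne_bot.mpr hQbot
    haveI : (⊥ : Ideal D).IsPrime := Ideal.isPrime_bot
    have h2 := Ideal.height_add_one_le_of_lt_of_isPrime h1
    have h3 := Ideal.height_add_one_le_of_lt_of_isPrime hlt
    have h4 : (1 : ℕ∞) + 1 ≤ Q'.height := by
      refine le_trans ?_ h3
      gcongr
      refine le_trans ?_ h2
      simp
    have := h4.trans hQ'ht
    exact absurd this (by decide)
  exact hgQ Q hQmin (hQeq ▸ hgQ')

theorem no_isolated_generic (B : Type*) [CommRing B] [IsNoetherianRing B]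
    (p0 p1 p2 : PrimeSpectrum B) (h01 : p0 < p1) (h12 : p1 < p2)
    (O : Set (PrimeSpectrum B)) (hO : IsOpen O) (h0 : p0 ∈ O)
    (h : ∀ q ∈ O, p0 ≤ q → q = p0) : False := by
  obtain ⟨v, ⟨f, rfl⟩, hfp0, hfO⟩ :=
    (PrimeSpectrum.isTopologicalBasis_basic_opens).exists_subset_of_mem_open h0 hO
  let D := B ⧸ p0.asIdeal
  let π : B →+* D := Ideal.Quotient.mk p0.asIdeal
  have hπ : Function.Surjective π := Ideal.Quotient.mk_surjective
  have hemb := PrimeSpectrum.isClosedEmbedding_comap_of_surjective D π hπ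
  have hrange : Set.range (PrimeSpectrum.comap π) = PrimeSpectrum.zeroLocus (p0.asIdeal : Set B) := by
    rw [_root_.range_comap_of_surjective _ π hπ, Ideal.mk_ker]
  have hfbar : π f ≠ 0 := by
    intro h0'
    rw [Ideal.Quotient.eq_zero_iff_mem] at h0'
    exact hfp0 h0'
  have hall : ∀ P : Ideal D, P.IsPrime → P ≠ ⊥ → π f ∈ P := by
    intro P hP hPbot
    by_contra hfP
    let q : PrimeSpectrum B := PrimeSpectrum.comap π ⟨P, hP⟩
    have hq : q ∈ O := hfO (by
      change f ∉ q.asIdeal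
      exact hfP)
    have hp0q : p0 ≤ q := by
      change p0.asIdeal ≤ (P.comap π)
      intro a ha
      rw [Ideal.mem_comap]
      have : π a = 0 := Ideal.Quotient.eq_zero_iff_mem.mpr ha
      rw [this]; exact zero_mem _
    have hqp0 := h q hq hp0q
    apply hPbot
    rw [eq_bot_iff]
    intro d hd
    obtain ⟨b, rfl⟩ := hπ d
    have hb : b ∈ q.asIdeal := hd
    rw [hqp0] at hb
    rw [Ideal.mem_bot]
    exact Ideal.Quotient.eq_zero_iff_mem.mpr hb
  have hp1 : p1 ∈ Set.range (PrimeSpectrum.comap π) := by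
    rw [hrange, PrimeSpectrum.mem_zeroLocus]
    exact h01.le
  have hp2 : p2 ∈ Set.range (PrimeSpectrum.comap π) := by
    rw [hrange, PrimeSpectrum.mem_zeroLocus]
    exact h01.le.trans h12.le
  obtain ⟨P1, rfl⟩ := hp1
  obtain ⟨P2, rfl⟩ := hp2
  have hP12 : P1 < P2 := by
    have hle : P1 ≤ P2 := by
      rw [PrimeSpectrum.le_iff_specializes, ← hemb.toIsInducing.specializes_iff,
        ← PrimeSpectrum.le_iff_specializes]
      exact h12.le
    refine lt_of_le_of_ne hle ?_
    rintro rfl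
    exact lt_irrefl _ h12
  have hP1bot : P1.asIdeal ≠ ⊥ := by
    intro hbot
    have : PrimeSpectrum.comap π P1 = p0 := by
      ext a
      change π a ∈ P1.asIdeal ↔ _
      rw [hbot, Ideal.mem_bot, Ideal.Quotient.eq_zero_iff_mem]
    rw [this] at h01
    exact lt_irrefl _ h01
  haveI : IsDomain D := Ideal.Quotient.isDomain p0.asIdeal
  have hht := height_le_one_of_forall_mem D (π f) hfbar hall P2.asIdeal
  haveI : (⊥ : Ideal D).IsPrime := Ideal.isPrime_bot
  have h1 := Ideal.height_add_one_le_of_lt_of_isPrime (bot_lt_iff_ne_bot.mpr hP1bot)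
  have h2 := Ideal.height_add_one_le_of_lt_of_isPrime (I := P1.asIdeal) (J := P2.asIdeal) hP12
  have h4 : (1 : ℕ∞) + 1 ≤ P2.asIdeal.height := by
    refine le_trans ?_ h2
    gcongr
    refine le_trans ?_ h1
    simp
  exact absurd (h4.trans hht) (by decide)

end Groth.Agent.Lib.Helper24.ClosedPoint
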