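import Mathlib

/-!
# Localizations of localizations at primes (helper24)
-/

set_option autoImplicit false

namespace Groth.Agent.Lib.Helper24.LocLoc

universe u

variable (R : Type u) [CommRing R]

/-- For a prime `Q` of `R_p`, `(R_p)_Q ≅ R_{Q ∩ R}`, heights agree and `Q ∩ R ≤ p`. -/
theorem comap_atPrime (p : Ideal R) [p.IsPrime] (Q : Ideal (Localization.AtPrime p)) [Q.IsPrime] :
    Nonempty (Localization.AtPrime (Q.comap (algebraMap R (Localization.AtPrime p))) ≃+*
      Localization.AtPrime Q) ∧
    (Q.comap (algebraMap R (Localization.AtPrime p))).height = Q.height ∧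
    Q.comap (algebraMap R (Localization.AtPrime p)) ≤ p := by
  haveI h1 : IsLocalization.AtPrime (Localization.AtPrime Q)
      (Q.comap (algebraMap R (Localization.AtPrime p))) :=
    IsLocalization.isLocalization_isLocalization_atPrime_isLocalization p.primeCompl
      (Localization.AtPrime Q) Q
  refine ⟨⟨(IsLocalization.algEquiv (Q.comap (algebraMap R (Localization.AtPrime p))).primeCompl
    (Localization.AtPrime (Q.comap (algebraMap R (Localization.AtPrime p))))
    (Localization.AtPrime Q)).toRingEquiv⟩, IsLocalization.height_under p.primeCompl Q, ?_⟩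
  have hQ : Q ≤ IsLocalRing.maximalIdeal (Localization.AtPrime p) :=
    IsLocalRing.le_maximalIdeal (Ideal.IsPrime.ne_top inferInstance)
  calc Q.comap (algebraMap R (Localization.AtPrime p))
      ≤ (IsLocalRing.maximalIdeal (Localization.AtPrime p)).comap
        (algebraMap R (Localization.AtPrime p)) := Ideal.comap_mono hQ
    _ = p := IsLocalization.AtPrime.under_maximalIdeal (Localization.AtPrime p) p

/-- For primes `q ≤ p` of `R` there is a prime `q'` of `R_p` of the same height with
`R_q ≅ (R_p)_{q'}`. -/
theorem exists_prime_of_le (p q : Ideal R) [p.IsPrime] [q.IsPrime] (hqp : q ≤ p) :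
    ∃ (q' : Ideal (Localization.AtPrime p)) (_ : q'.IsPrime), q'.height = q.height ∧
      Nonempty (Localization.AtPrime q ≃+* Localization.AtPrime q') := by
  have hdisj : Disjoint (p.primeCompl : Set R) (q : Set R) := by
    rw [Set.disjoint_left]
    intro a ha hq
    exact ha (hqp hq)
  let q' : Ideal (Localization.AtPrime p) := q.map (algebraMap R (Localization.AtPrime p))
  haveI hq' : q'.IsPrime :=
    IsLocalization.isPrime_of_isPrime_disjoint _ (Localization.AtPrime p) q inferInstance hdisj
  have hq'c : q'.comap (algebraMap R (Localization.AtPrime p)) = q :=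
    IsLocalization.under_map_of_isPrime_disjoint _ (Localization.AtPrime p) inferInstance hdisj
  obtain ⟨⟨e⟩, hht, -⟩ := comap_atPrime R p q'
  have aux : ∀ (q₀ : Ideal R) [q₀.IsPrime], q₀ = q →
      Localization.AtPrime q₀ ≃+* Localization.AtPrime q' →
      Nonempty (Localization.AtPrime q ≃+* Localization.AtPrime q') := by
    intro q₀ _ h0 e0
    subst h0
    exact ⟨e0⟩
  refine ⟨q', hq', ?_, aux _ hq'c e⟩
  rw [← hht, hq'c]

end Groth.Agent.Lib.Helper24.LocLoc
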