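import Mathlib
import Groth.Agent.S9808
import Groth.Agent.Lib.Helper24.FlatDepth4
import Groth.Agent.Lib.Helper15.Regular

/-!
# Quotients by one element: Cohen–Macaulayness (helper24)
-/

set_option autoImplicit false
universe u
open IsLocalRing LocCoh
open Groth.Agent.Lib.helper26.Depth
open Groth.Agent.Lib.Helper24.FlatDepth
open scoped Pointwise

namespace Groth.Agent.Lib.Helper24.HypersurfaceCM

noncomputable def quotSMulTopEquiv (B : Type u) [CommRing B] (a : B) :
    QuotSMulTop a B ≃ₗ[B] (B ⧸ Ideal.span {a}) :=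
  Submodule.quotEquivOfEq _ _ (by
    rw [← Submodule.ideal_span_singleton_smul, smul_eq_mul, Ideal.mul_top])

/-- The quotient of a Cohen–Macaulay local ring by a regular element of the maximal ideal is
Cohen–Macaulay. -/
theorem cm_quotient_regular (B : Type u) [CommRing B] [hB : IsCohenMacaulayLocalRing B] (g : B)
    (hg : g ∈ maximalIdeal B) (hreg : IsSMulRegular B g) :
    IsCohenMacaulayLocalRing (B ⧸ Ideal.span {g}) := by
  haveI : IsLocalRing (B ⧸ Ideal.span {g}) :=
    Groth.Agent.Lib.helper26.SerreConv.isLocalRing_quot g hg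
  have hdim := ringKrullDim_quotient_span_singleton_succ_eq_ringKrullDim hreg hg
  have hdep := idealDepth_quotSMulTop_add_one (maximalIdeal B) B g hg hreg
  rw [idealDepth_congr (quotSMulTopEquiv B g), idealDepth_quotient_eq] at hdep
  have hcm := hB.supportDim_eq_depth
  rw [Module.supportDim_self_eq_ringKrullDim] at hcm
  refine { supportDim_eq_depth := ?_ }
  rw [Module.supportDim_self_eq_ringKrullDim]
  obtain ⟨d1, hd1⟩ := Groth.Agent.Lib.Helper24.CatEquidim.exists_nat_eq_ringKrullDim
    (B ⧸ Ideal.span {g})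
  obtain ⟨e1, he1⟩ := ENat.ne_top_iff_exists.mp
    (depth_ne_top (A := B ⧸ Ideal.span {g}) (B ⧸ Ideal.span {g}))
  obtain ⟨d0, hd0⟩ := Groth.Agent.Lib.Helper24.CatEquidim.exists_nat_eq_ringKrullDim B
  obtain ⟨e0, he0⟩ := ENat.ne_top_iff_exists.mp (depth_ne_top (A := B) B)
  change _ + 1 = depth B B at hdep
  rw [← he1] at hdep ⊢
  rw [← he0] at hdep hcm
  rw [hd1] at hdim ⊢
  rw [hd0] at hdim hcm
  have g1 : d1 + 1 = d0 := by exact_mod_cast hdim
  have g2 : e1 + 1 = e0 := by exact_mod_cast hdep
  have g3 : d0 = e0 := by exact_mod_cast hcm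
  have : d1 = e1 := by omega
  exact_mod_cast this

/-- The quotient of a regular local ring by an element of the maximal ideal is Cohen–Macaulay. -/
theorem cm_quotient_of_regular (B : Type u) [CommRing B] [IsRegularLocalRing B] (g : B)
    (hg : g ∈ maximalIdeal B) : IsCohenMacaulayLocalRing (B ⧸ Ideal.span {g}) := by
  haveI : IsDomain B := Groth.Agent.Lib.helper15.isDomain_of_isRegularLocalRing B
  haveI hB : IsCohenMacaulayLocalRing B :=
    { supportDim_eq_depth := by
        rw [Module.supportDim_self_eq_ringKrullDim]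
        exact (depth_eq_ringKrullDim_of_isRegularLocalRing B).symm }
  by_cases h0 : g = 0
  · subst h0
    have h1 : Ideal.span {(0 : B)} = ⊥ := by simp
    let e : B ≃+* (B ⧸ Ideal.span {(0 : B)}) :=
      (RingEquiv.quotientBot B).symm.trans (Ideal.quotEquivOfEq h1.symm)
    exact Groth.Agent.S9808.cm_of_ringEquiv e
  · have hreg : IsSMulRegular B g := fun x y hxy => mul_left_cancel₀ h0 hxy
    exact cm_quotient_regular B g hg hreg

end Groth.Agent.Lib.Helper24.HypersurfaceCM
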