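import Mathlib
import Groth.Agent.Lib.Helper24.RegularAscent

/-!
# Nagata's criterion, algebraic part (helper24)

If `A_p` is regular then there is `f ∉ p` such that for `q ∈ D(f) ∩ V(p)` with `(A/p)_{q/p}`
regular, `A_q` is regular.
-/

set_option autoImplicit false

namespace Groth.Agent.Lib.Helper24.NagataReg

open IsLocalRing

universe u

theorem height_add_ringKrullDim_quotient_le (B : Type*) [CommRing B] (J : Ideal B) [J.IsPrime] :
    (J.height : WithBot ℕ∞) + ringKrullDim (B ⧸ J) ≤ ringKrullDim B := by
  let x : PrimeSpectrum B := ⟨J, inferInstance⟩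
  have : Nonempty (PrimeSpectrum B) := ⟨x⟩
  have h0 : PrimeSpectrum.zeroLocus (J : Set B) = Set.Ici x := by
    ext y
    rw [PrimeSpectrum.mem_zeroLocus, Set.mem_Ici, ← PrimeSpectrum.asIdeal_le_asIdeal]
    rfl
  have h1 : ringKrullDim (B ⧸ J) = Order.krullDim (Set.Ici x) := by
    rw [ringKrullDim_quotient, h0]
  have h2 : J.height = Order.height x := x.height_eq_orderHeight
  rw [h1, ← Order.coheight_eq_krullDim_Ici, h2, ringKrullDim,
    Order.krullDim_eq_iSup_height_add_coheight_of_nonempty, ← WithBot.coe_add, WithBot.coe_le_coe]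
  exact le_iSup (fun a : PrimeSpectrum B => Order.height a + Order.coheight a) x

variable (A : Type u) [CommRing A] [IsNoetherianRing A]

/-- Near `p`, the ideal `p` is generated by `embdim A_p` elements. -/
theorem exists_notMem_spanFinrank_le (p : Ideal A) [p.IsPrime] :
    ∃ f ∉ p, ∀ (q : Ideal A) [q.IsPrime], f ∉ q →
      (p.map (algebraMap A (Localization.AtPrime q))).spanFinrank ≤
        (maximalIdeal (Localization.AtPrime p)).spanFinrank := by
  classical
  obtain ⟨s, hsc, hs⟩ := Submodule.FG.exists_span_finset_card_eq_spanFinrank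
    (IsNoetherian.noetherian (maximalIdeal (Localization.AtPrime p)))
  let σ : Localization.AtPrime p → A × p.primeCompl := fun x =>
    (IsLocalization.surj p.primeCompl x).choose
  have hσ : ∀ x, x * algebraMap A (Localization.AtPrime p) (σ x).2 =
      algebraMap A (Localization.AtPrime p) (σ x).1 := fun x =>
    (IsLocalization.surj p.primeCompl x).choose_spec
  let sA : Finset A := s.image (fun x => (σ x).1)
  let I : Ideal A := Ideal.span (sA : Set A)
  have hmap : I.map (algebraMap A (Localization.AtPrime p)) =
      maximalIdeal (Localization.AtPrime p) := by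
    apply le_antisymm
    · rw [Ideal.map_le_iff_le_comap, Ideal.span_le]
      intro a ha
      obtain ⟨x, hx, rfl⟩ := Finset.mem_image.1 ha
      show algebraMap A (Localization.AtPrime p) (σ x).1 ∈ maximalIdeal (Localization.AtPrime p)
      rw [← hσ x]
      exact Ideal.mul_mem_right _ _ (hs ▸ Ideal.subset_span hx)
    · have hs' : maximalIdeal (Localization.AtPrime p) = Ideal.span (s : Set _) := hs.symm
      rw [hs', Ideal.span_le]
      intro x hx
      have h1 : algebraMap A (Localization.AtPrime p) (σ x).1 ∈
          I.map (algebraMap A (Localization.AtPrime p)) :=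
        Ideal.mem_map_of_mem _ (Ideal.subset_span (Finset.mem_image_of_mem _ hx))
      rw [← hσ x] at h1
      exact (Ideal.mul_unit_mem_iff_mem _ (IsLocalization.map_units _ (σ x).2)).1 h1
  have hIp : I ≤ p := by
    have h1 : I ≤ (I.map (algebraMap A (Localization.AtPrime p))).comap
        (algebraMap A (Localization.AtPrime p)) := Ideal.le_comap_map
    rw [hmap] at h1
    exact h1.trans (IsLocalization.AtPrime.under_maximalIdeal (Localization.AtPrime p) p).le
  -- generators of p
  obtain ⟨G, hG⟩ := (isNoetherianRing_iff_ideal_fg A).1 inferInstance p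
  have hGmem : ∀ g ∈ G, ∃ c ∈ p.primeCompl, c * g ∈ I := by
    intro g hg
    have hgp : g ∈ p := hG ▸ Ideal.subset_span hg
    have h1 : algebraMap A (Localization.AtPrime p) g ∈
        I.map (algebraMap A (Localization.AtPrime p)) := by
      rw [hmap]
      exact (IsLocalization.AtPrime.to_map_mem_maximal_iff (Localization.AtPrime p) p g).2 hgp
    exact (IsLocalization.algebraMap_mem_map_algebraMap_iff p.primeCompl _ I g).1 h1
  choose! c hc hcI using hGmem
  refine ⟨∏ g ∈ G, c g, ?_, ?_⟩
  · exact fun h => (Submonoid.prod_mem p.primeCompl (fun g hg => hc g hg)) h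
  · intro q hq hfq
    have hfp : ∀ g ∈ G, (∏ g ∈ G, c g) * g ∈ I := by
      intro g hg
      rw [← Finset.prod_erase_mul _ _ hg, mul_assoc]
      exact Ideal.mul_mem_left _ _ (hcI g hg)
    have hpI : p.map (algebraMap A (Localization.AtPrime q)) =
        I.map (algebraMap A (Localization.AtPrime q)) := by
      apply le_antisymm
      · rw [← hG, Ideal.map_span, Ideal.span_le]
        rintro _ ⟨g, hg, rfl⟩
        have h1 : algebraMap A (Localization.AtPrime q) ((∏ g ∈ G, c g) * g) ∈
            I.map (algebraMap A (Localization.AtPrime q)) := Ideal.mem_map_of_mem _ (hfp g hg)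
        rw [map_mul] at h1
        have hu : IsUnit (algebraMap A (Localization.AtPrime q) (∏ g ∈ G, c g)) :=
          IsLocalization.map_units _ (⟨_, hfq⟩ : q.primeCompl)
        exact (Ideal.unit_mul_mem_iff_mem _ hu).1 h1
      · exact Ideal.map_mono hIp
    rw [hpI, Ideal.map_span]
    calc (Ideal.span (algebraMap A (Localization.AtPrime q) '' (sA : Set A))).spanFinrank
        ≤ (algebraMap A (Localization.AtPrime q) '' (sA : Set A)).ncard :=
          Submodule.spanFinrank_span_le_ncard_of_finite ((Finset.finite_toSet _).image _)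
      _ ≤ (sA : Set A).ncard := Set.ncard_image_le (Finset.finite_toSet _)
      _ = sA.card := Set.ncard_coe_finset _
      _ ≤ s.card := Finset.card_image_le
      _ = _ := hsc

/-- **Nagata's criterion, algebraic step.** -/
theorem exists_notMem_regular (p : Ideal A) [p.IsPrime]
    [IsRegularLocalRing (Localization.AtPrime p)] :
    ∃ f ∉ p, ∀ (Q : Ideal (A ⧸ p)) [Q.IsPrime], f ∉ Q.comap (Ideal.Quotient.mk p) →
      IsRegularLocalRing (Localization.AtPrime Q) →
      IsRegularLocalRing (Localization.AtPrime (Q.comap (Ideal.Quotient.mk p))) := by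
  obtain ⟨f, hfp, hf⟩ := exists_notMem_spanFinrank_le A p
  refine ⟨f, hfp, ?_⟩
  intro Q hQ hfQ hreg
  have hpq : p ≤ Q.under A := by
    intro a ha
    show algebraMap A (A ⧸ p) a ∈ Q
    have : algebraMap A (A ⧸ p) a = 0 := Ideal.Quotient.eq_zero_iff_mem.2 ha
    rw [this]; exact Q.zero_mem
  have hspan := hf (Q.under A) hfQ
  have hdisj : Disjoint ((Q.under A).primeCompl : Set A) (p : Set A) := by
    rw [Set.disjoint_left]
    intro a ha hp
    exact ha (hpq hp)
  haveI hJprime : (p.map (algebraMap A (Localization.AtPrime (Q.under A)))).IsPrime :=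
    IsLocalization.isPrime_of_isPrime_disjoint _ (Localization.AtPrime (Q.under A)) p
      inferInstance hdisj
  have hJht : (p.map (algebraMap A (Localization.AtPrime (Q.under A)))).height = p.height :=
    IsLocalization.height_map_of_disjoint (Q.under A).primeCompl p hdisj
  have hJle : p.map (algebraMap A (Localization.AtPrime (Q.under A))) ≤
      maximalIdeal (Localization.AtPrime (Q.under A)) := by
    rw [← Localization.AtPrime.map_eq_maximalIdeal]
    exact Ideal.map_mono hpq
  -- the quotient is the localization of `A/p` at `Q`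
  have hsub := Ideal.algebraMapSubmonoid_primeCompl_of_liesOver_surjective Q (Q.under A)
    (Ideal.Quotient.mk_surjective (I := p))
  haveI hloc : IsLocalization.AtPrime (Localization.AtPrime (Q.under A) ⧸
      p.map (algebraMap A (Localization.AtPrime (Q.under A)))) Q := by
    show IsLocalization Q.primeCompl _
    rw [← hsub]
    infer_instance
  let e : Localization.AtPrime Q ≃ₐ[A ⧸ p] (Localization.AtPrime (Q.under A) ⧸
      p.map (algebraMap A (Localization.AtPrime (Q.under A)))) :=
    IsLocalization.algEquiv Q.primeCompl _ _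
  haveI : IsRegularLocalRing (Localization.AtPrime (Q.under A) ⧸
      p.map (algebraMap A (Localization.AtPrime (Q.under A)))) :=
    IsRegularLocalRing.of_ringEquiv e.toRingEquiv
  refine Groth.Agent.Lib.Helper24.RegularAscent.isRegularLocalRing_of_quotient
    (Localization.AtPrime (Q.under A)) _ hJle ?_
  have h1 : ((maximalIdeal (Localization.AtPrime p)).spanFinrank : WithBot ℕ∞) =
      ringKrullDim (Localization.AtPrime p) := IsRegularLocalRing.spanFinrank_maximalIdeal
  rw [IsLocalization.AtPrime.ringKrullDim_eq_height p] at h1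
  have h2 : ((p.map (algebraMap A (Localization.AtPrime (Q.under A)))).spanFinrank : WithBot ℕ∞) ≤
      ((p.map (algebraMap A (Localization.AtPrime (Q.under A)))).height : WithBot ℕ∞) := by
    rw [hJht, ← h1]
    exact_mod_cast hspan
  exact le_trans (add_le_add_left h2 _) (height_add_ringKrullDim_quotient_le _ _)

end Groth.Agent.Lib.Helper24.NagataReg
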