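import Mathlib
import Groth.Prelude.Def_FSch3
import Groth.Agent.Lib.Helper18.AdicUnit
import Groth.Agent.Lib.Helper18.FlatCrit
import Groth.Agent.S0542

/-!
# The completion of a flat local homomorphism is faithfully flat (helper24)
-/

set_option autoImplicit false
universe u
open IsLocalRing

namespace Groth.Agent.Lib.Helper24.CplFlat

theorem complMap_of {S T : Type u} [CommRing S] [CommRing T] (I : Ideal S) (K : Ideal T)
    (g : S →+* T) (h : I.map g ≤ K) (s : S) :
    FSch.complMap I K g h (AdicCompletion.of I S s) = AdicCompletion.of K T (g s) := by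
  apply AdicCompletion.ext_evalₐ
  intro n
  rw [H18U.evalₐ_complMap, AdicCompletion.evalₐ_of, AdicCompletion.evalₐ_of, Ideal.quotientMap_mk]

theorem exists_sub_mem {R : Type u} [CommRing R] (I : Ideal R) (hfg : I.FG) (k : ℕ)
    (b : AdicCompletion I R) :
    ∃ r : R, b - algebraMap R (AdicCompletion I R) r ∈
      (I ^ k).map (algebraMap R (AdicCompletion I R)) := by
  obtain ⟨r, hr⟩ := Ideal.Quotient.mk_surjective (AdicCompletion.evalₐ I k b)
  refine ⟨r, ?_⟩
  have h0 : AdicCompletion.evalₐ I k (b - algebraMap R (AdicCompletion I R) r) = 0 := by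
    rw [map_sub, ← hr, AdicCompletion.algebraMap_apply, AdicCompletion.evalₐ_of]
    simp
  have h1 : AdicCompletion.eval I R k (b - algebraMap R (AdicCompletion I R) r) = 0 := by
    rw [← AdicCompletion.factor_evalₐ_eq_eval I _ (le_of_eq (by rw [smul_eq_mul, Ideal.mul_top])),
      h0, map_zero]
  have h2 : (b - algebraMap R (AdicCompletion I R) r) ∈
      (I ^ k • ⊤ : Submodule R (AdicCompletion I R)) := by
    rw [AdicCompletion.pow_smul_top_eq_ker_eval hfg]
    exact h1
  rw [← Submodule.restrictScalars_mem R, ← Ideal.smul_top_eq_map]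
  exact h2

variable (A A' : Type u) [CommRing A] [CommRing A'] [IsNoetherianRing A] [IsNoetherianRing A']
  [IsLocalRing A] [IsLocalRing A'] [Algebra A A'] [IsLocalHom (algebraMap A A')]

omit [IsNoetherianRing A] [IsNoetherianRing A'] in
theorem map_maximalIdeal_le : (maximalIdeal A).map (algebraMap A A') ≤ maximalIdeal A' := by
  have h : IsLocalHom (algebraMap A A') := inferInstance
  exact ((IsLocalRing.local_hom_TFAE (algebraMap A A')).out 0 2).mp h

/-- The map on completions induced by a local homomorphism. -/
noncomputable def cplMap :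
    AdicCompletion (maximalIdeal A) A →+* AdicCompletion (maximalIdeal A') A' :=
  FSch.complMap _ _ (algebraMap A A') (map_maximalIdeal_le A A')

omit [IsNoetherianRing A] [IsNoetherianRing A'] in
theorem cplMap_of (a : A) : cplMap A A' (AdicCompletion.of _ A a) =
    AdicCompletion.of _ A' (algebraMap A A' a) :=
  complMap_of _ _ _ _ a

omit [IsNoetherianRing A] [IsNoetherianRing A'] in
theorem cplMap_comp_algebraMap :
    (cplMap A A').comp (algebraMap A (AdicCompletion (maximalIdeal A) A)) =
      algebraMap A (AdicCompletion (maximalIdeal A') A') := by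
  ext a
  simp only [RingHom.comp_apply]
  rw [AdicCompletion.algebraMap_apply, cplMap_of]
  rfl

theorem flat_cplMap [Module.Flat A A'] : (cplMap A A').Flat := by
  letI : Algebra (AdicCompletion (maximalIdeal A) A) (AdicCompletion (maximalIdeal A') A') :=
    (cplMap A A').toAlgebra
  haveI : IsScalarTower A (AdicCompletion (maximalIdeal A) A)
      (AdicCompletion (maximalIdeal A') A') :=
    IsScalarTower.of_algebraMap_eq' (cplMap_comp_algebraMap A A').symm
  haveI : IsNoetherianRing (AdicCompletion (maximalIdeal A) A) :=
    Groth.Agent.S0542.result A _ (maximalIdeal A).fg_of_isNoetherianRing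
  haveI : IsNoetherianRing (AdicCompletion (maximalIdeal A') A') :=
    Groth.Agent.S0542.result A' _ (maximalIdeal A').fg_of_isNoetherianRing
  haveI : Module.Flat A (AdicCompletion (maximalIdeal A') A') :=
    Module.Flat.trans A A' (AdicCompletion (maximalIdeal A') A')
  have hjac : (maximalIdeal A).map (algebraMap A (AdicCompletion (maximalIdeal A') A')) ≤
      Ideal.jacobson ⊥ := by
    rw [IsScalarTower.algebraMap_eq A A' (AdicCompletion (maximalIdeal A') A'), ← Ideal.map_map]
    refine (Ideal.map_mono (map_maximalIdeal_le A A')).trans ?_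
    rw [← AdicCompletion.maximalIdeal_eq_map]
    exact IsLocalRing.maximalIdeal_le_jacobson _
  exact H18Flat.flat_of_flat_of_adic (R := A) (B := AdicCompletion (maximalIdeal A) A)
    (M := AdicCompletion (maximalIdeal A') A') (maximalIdeal A) hjac
    (fun k b => exists_sub_mem _ (maximalIdeal A).fg_of_isNoetherianRing k b)

theorem isLocalHom_cplMap : IsLocalHom (cplMap A A') := by
  apply ((IsLocalRing.local_hom_TFAE _).out 0 2).mpr
  rw [AdicCompletion.maximalIdeal_eq_map, Ideal.map_map, cplMap_comp_algebraMap,
    IsScalarTower.algebraMap_eq A A' (AdicCompletion (maximalIdeal A') A'), ← Ideal.map_map,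
    AdicCompletion.maximalIdeal_eq_map]
  exact Ideal.map_mono (map_maximalIdeal_le A A')

theorem faithfullyFlat_cplMap [Module.Flat A A'] : (cplMap A A').FaithfullyFlat := by
  letI : Algebra (AdicCompletion (maximalIdeal A) A) (AdicCompletion (maximalIdeal A') A') :=
    (cplMap A A').toAlgebra
  haveI : Module.Flat (AdicCompletion (maximalIdeal A) A) (AdicCompletion (maximalIdeal A') A') :=
    flat_cplMap A A'
  haveI : IsLocalHom (algebraMap (AdicCompletion (maximalIdeal A) A)
      (AdicCompletion (maximalIdeal A') A')) := isLocalHom_cplMap A A'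
  exact (Module.FaithfullyFlat.of_flat_of_isLocalHom :
    Module.FaithfullyFlat (AdicCompletion (maximalIdeal A) A) (AdicCompletion (maximalIdeal A') A'))

end Groth.Agent.Lib.Helper24.CplFlat
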