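import Mathlib
import Groth.Agent.Lib.Helper24.CplFlat

/-!
# Completion of a quotient of a Noetherian local ring (helper24)

`Cpl (A ⧸ I) ≃+* Cpl A ⧸ I (Cpl A)`.
-/

set_option autoImplicit false
universe u
open IsLocalRing

namespace Groth.Agent.Lib.Helper24.CplQuot

open Groth.Agent.Lib.Helper24.CplFlat

variable (A : Type u) [CommRing A] [IsLocalRing A] (I : Ideal A) [IsLocalRing (A ⧸ I)]

theorem le_maximalIdeal_of_local : I ≤ maximalIdeal A :=
  le_maximalIdeal (Ideal.Quotient.nontrivial_iff.mp inferInstance)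

theorem map_maximalIdeal_eq :
    (maximalIdeal A).map (Ideal.Quotient.mk I) = maximalIdeal (A ⧸ I) := by
  have hmax : ((maximalIdeal A).map (Ideal.Quotient.mk I)).IsMaximal :=
    Ideal.IsMaximal.map_of_surjective_of_ker_le Ideal.Quotient.mk_surjective
      (by rw [Ideal.mk_ker]; exact le_maximalIdeal_of_local A I)
  exact IsLocalRing.eq_maximalIdeal hmax

instance isLocalHom_mk : IsLocalHom (algebraMap A (A ⧸ I)) := by
  apply ((IsLocalRing.local_hom_TFAE _).out 0 2).mpr
  rw [Ideal.Quotient.algebraMap_eq, map_maximalIdeal_eq]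

variable [IsNoetherianRing A]

/-- The canonical map `Cpl A → Cpl (A ⧸ I)`. -/
noncomputable abbrev φ : AdicCompletion (maximalIdeal A) A →+*
    AdicCompletion (maximalIdeal (A ⧸ I)) (A ⧸ I) := cplMap A (A ⧸ I)

theorem φ_surjective : Function.Surjective (φ A I) := by
  haveI : IsNoetherianRing (AdicCompletion (maximalIdeal A) A) :=
    Groth.Agent.S0542.result A _ (maximalIdeal A).fg_of_isNoetherianRing
  have hmap : (maximalIdeal (AdicCompletion (maximalIdeal A) A)).map (φ A I) =
      maximalIdeal (AdicCompletion (maximalIdeal (A ⧸ I)) (A ⧸ I)) := by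
    rw [AdicCompletion.maximalIdeal_eq_map, Ideal.map_map, cplMap_comp_algebraMap,
      AdicCompletion.maximalIdeal_eq_map, ← map_maximalIdeal_eq A I, Ideal.map_map]
    rfl
  haveI : IsHausdorff ((maximalIdeal (AdicCompletion (maximalIdeal A) A)).map (φ A I))
      (AdicCompletion (maximalIdeal (A ⧸ I)) (A ⧸ I)) := by
    rw [hmap]
    infer_instance
  apply surjective_of_mk_map_comp_surjective (I := maximalIdeal (AdicCompletion (maximalIdeal A) A))
  intro y
  obtain ⟨y, rfl⟩ := Ideal.Quotient.mk_surjective y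
  obtain ⟨b, hb⟩ := exists_sub_mem (maximalIdeal (A ⧸ I)) (maximalIdeal (A ⧸ I)).fg_of_isNoetherianRing 1 y
  obtain ⟨a, rfl⟩ := Ideal.Quotient.mk_surjective b
  refine ⟨AdicCompletion.of _ A a, ?_⟩
  rw [RingHom.comp_apply, cplMap_of, Ideal.Quotient.mk_eq_mk_iff_sub_mem, hmap,
    AdicCompletion.maximalIdeal_eq_map]
  rw [pow_one] at hb
  have := Ideal.neg_mem_iff _ |>.2 hb
  rw [neg_sub] at this
  exact this

omit [IsLocalRing A] [IsLocalRing (A ⧸ I)] [IsNoetherianRing A] in
theorem evalₐ_eq_zero_of_mem_map {R : Type u} [CommRing R] (K : Ideal R) (n : ℕ)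
    (y : AdicCompletion K R) (hy : y ∈ (K ^ n).map (algebraMap R (AdicCompletion K R))) :
    AdicCompletion.evalₐ K n y = 0 := by
  have h : (K ^ n).map (algebraMap R (AdicCompletion K R)) ≤
      RingHom.ker (AdicCompletion.evalₐ K n).toRingHom := by
    rw [Ideal.map_le_iff_le_comap]
    intro a ha
    rw [Ideal.mem_comap, RingHom.mem_ker]
    change AdicCompletion.evalₐ K n (algebraMap R (AdicCompletion K R) a) = 0
    rw [AdicCompletion.algebraMap_apply, AdicCompletion.evalₐ_of]
    exact Ideal.Quotient.eq_zero_iff_mem.mpr ha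
  exact h hy

theorem ker_φ : RingHom.ker (φ A I) = I.map (algebraMap A (AdicCompletion (maximalIdeal A) A)) := by
  haveI : IsNoetherianRing (AdicCompletion (maximalIdeal A) A) :=
    Groth.Agent.S0542.result A _ (maximalIdeal A).fg_of_isNoetherianRing
  apply le_antisymm
  · intro x hx
    rw [RingHom.mem_ker] at hx
    set J := I.map (algebraMap A (AdicCompletion (maximalIdeal A) A)) with hJ
    have key : ∀ n : ℕ, Ideal.Quotient.mk J x ∈
        ((maximalIdeal (AdicCompletion (maximalIdeal A) A)) ^ n • ⊤ :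
          Submodule (AdicCompletion (maximalIdeal A) A) (AdicCompletion (maximalIdeal A) A ⧸ J)) := by
      intro n
      obtain ⟨r, hr⟩ := exists_sub_mem (maximalIdeal A) (maximalIdeal A).fg_of_isNoetherianRing n x
      -- image under φ
      have h1 : φ A I (x - algebraMap A _ r) ∈ ((maximalIdeal (A ⧸ I)) ^ n).map
          (algebraMap (A ⧸ I) (AdicCompletion (maximalIdeal (A ⧸ I)) (A ⧸ I))) := by
        have := Ideal.mem_map_of_mem (φ A I) hr
        rw [Ideal.map_map, cplMap_comp_algebraMap,
          IsScalarTower.algebraMap_eq A (A ⧸ I) (AdicCompletion (maximalIdeal (A ⧸ I)) (A ⧸ I)),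
          ← Ideal.map_map, Ideal.map_pow, Ideal.Quotient.algebraMap_eq, map_maximalIdeal_eq] at this
        exact this
      have h2 := evalₐ_eq_zero_of_mem_map _ n _ h1
      rw [map_sub, hx, zero_sub, map_neg, neg_eq_zero, AdicCompletion.algebraMap_apply, cplMap_of,
        AdicCompletion.evalₐ_of, Ideal.Quotient.eq_zero_iff_mem, ← map_maximalIdeal_eq A I,
        ← Ideal.map_pow] at h2
      obtain ⟨c, hc, hcr⟩ := (Ideal.mem_map_iff_of_surjective _ Ideal.Quotient.mk_surjective).mp h2
      have hi : r - c ∈ I := by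
        rw [← Ideal.Quotient.eq]
        exact hcr.symm
      have hy : x - algebraMap A _ (r - c) ∈
          (maximalIdeal (AdicCompletion (maximalIdeal A) A)) ^ n := by
        rw [AdicCompletion.maximalIdeal_eq_map, ← Ideal.map_pow]
        have : x - algebraMap A _ (r - c) = (x - algebraMap A _ r) + algebraMap A _ c := by
          rw [map_sub]; ring
        rw [this]
        exact Ideal.add_mem _ hr (Ideal.mem_map_of_mem _ hc)
      have hmk : Ideal.Quotient.mk J x = Ideal.Quotient.mk J (x - algebraMap A _ (r - c)) := by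
        rw [Ideal.Quotient.mk_eq_mk_iff_sub_mem]
        have : x - (x - algebraMap A _ (r - c)) = algebraMap A _ (r - c) := by ring
        rw [this]
        exact Ideal.mem_map_of_mem _ hi
      rw [hmk]
      have : Ideal.Quotient.mk J (x - algebraMap A _ (r - c)) =
          (x - algebraMap A _ (r - c)) • (Ideal.Quotient.mk J 1) := by
        rw [Algebra.smul_def, Ideal.Quotient.algebraMap_eq, ← map_mul, mul_one]
      rw [this]
      exact Submodule.smul_mem_smul hy Submodule.mem_top
    have hbot := Ideal.iInf_pow_smul_eq_bot_of_le_jacobson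
      (M := AdicCompletion (maximalIdeal A) A ⧸ J)
      (maximalIdeal (AdicCompletion (maximalIdeal A) A))
      (IsLocalRing.maximalIdeal_le_jacobson _)
    have : Ideal.Quotient.mk J x ∈ (⊥ : Submodule (AdicCompletion (maximalIdeal A) A)
        (AdicCompletion (maximalIdeal A) A ⧸ J)) := by
      rw [← hbot]
      exact (Submodule.mem_iInf _).mpr key
    rw [Submodule.mem_bot] at this
    exact Ideal.Quotient.eq_zero_iff_mem.mp this
  · rw [Ideal.map_le_iff_le_comap]
    intro a ha
    rw [Ideal.mem_comap, RingHom.mem_ker]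
    change φ A I (AdicCompletion.of _ A a) = 0
    rw [cplMap_of]
    have : algebraMap A (A ⧸ I) a = 0 := by
      rw [Ideal.Quotient.algebraMap_eq]
      exact Ideal.Quotient.eq_zero_iff_mem.mpr ha
    rw [this, map_zero]

/-- `Cpl A ⧸ I (Cpl A) ≃+* Cpl (A ⧸ I)`. -/
noncomputable def equiv :
    (AdicCompletion (maximalIdeal A) A ⧸ I.map (algebraMap A (AdicCompletion (maximalIdeal A) A)))
      ≃+* AdicCompletion (maximalIdeal (A ⧸ I)) (A ⧸ I) :=
  (Ideal.quotEquivOfEq (ker_φ A I).symm).trans
    (RingHom.quotientKerEquivOfSurjective (φ_surjective A I))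

theorem equiv_mk (x : AdicCompletion (maximalIdeal A) A) :
    equiv A I (Ideal.Quotient.mk _ x) = φ A I x := by
  unfold equiv
  rw [RingEquiv.trans_apply, Ideal.quotEquivOfEq_mk]
  exact RingHom.quotientKerEquivOfSurjective_apply_mk _ x

theorem equiv_mk_of (a : A) :
    equiv A I (Ideal.Quotient.mk _ (AdicCompletion.of _ A a)) =
      AdicCompletion.of _ (A ⧸ I) (Ideal.Quotient.mk I a) := by
  rw [equiv_mk, cplMap_of]
  rfl


end Groth.Agent.Lib.Helper24.CplQuot
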