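import Mathlib
import Groth.Agent.Lib.Helper24.FlatDepth4

/-!
# Flat depth formula, part 9 (helper24): closed fibre of finite length
-/

set_option autoImplicit false
universe u
open TensorProduct IsLocalRing LocCoh
open Groth.Agent.Lib.helper26.Depth
open scoped Pointwise

namespace Groth.Agent.Lib.Helper24.FlatDepth

/-- A nonzero module of finite length over a local ring has depth zero. -/
theorem depth_eq_zero_of_isFiniteLength (B : Type u) [CommRing B] [IsLocalRing B]
    [IsNoetherianRing B] (X : Type u) [AddCommGroup X] [Module B X] [Nontrivial X]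
    (hX : IsFiniteLength B X) : depth B X = 0 := by
  obtain ⟨hN, hA⟩ := isFiniteLength_iff_isNoetherian_isArtinian.mp hX
  haveI : Module.Finite B X := inferInstance
  have hIM := maximalIdeal_smul_top_ne_top (A := B) X
  obtain ⟨a, ha, -⟩ := (eq_bot_or_exists_atom_le (⊤ : Submodule B X)).resolve_left top_ne_bot
  haveI hs : IsSimpleModule B a := isSimpleModule_iff_isAtom.mpr ha
  obtain ⟨I, hI, ⟨e⟩⟩ := isSimpleModule_iff_quot_maximal.mp hs
  obtain rfl : I = maximalIdeal B := IsLocalRing.eq_maximalIdeal hI
  obtain ⟨x, hxa, hx0⟩ := Submodule.exists_mem_ne_zero_of_ne_bot ha.1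
  refine idealDepth_eq_zero_of_annihilated (maximalIdeal B) X hIM x hx0 ?_
  intro s hs
  have h1 : e (s • (⟨x, hxa⟩ : a)) = 0 := by
    rw [map_smul]
    obtain ⟨b, hb⟩ := Ideal.Quotient.mk_surjective (e ⟨x, hxa⟩)
    rw [← hb, Algebra.smul_def, Ideal.Quotient.algebraMap_eq, ← map_mul,
      Ideal.Quotient.eq_zero_iff_mem]
    exact Ideal.mul_mem_right _ _ hs
  have h2 : s • (⟨x, hxa⟩ : a) = 0 := e.injective (h1.trans (map_zero e).symm)
  exact congrArg Subtype.val h2

section

variable (R S : Type u) [CommRing R] [CommRing S] [Algebra R S] [IsLocalRing R] [IsLocalRing S]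
  [IsNoetherianRing R] [IsNoetherianRing S] [IsLocalHom (algebraMap R S)]
  (N : Type u) [AddCommGroup N] [Module S N] [Module R N] [IsScalarTower R S N]
  [Module.Flat R N] [Module.Finite S N]

/-- If the closed fibre module `N/m_R N` is nonzero of finite length then
`depth_S (N ⊗ M) = depth_R M`. -/
theorem depth_tensor_of_isFiniteLength [Nontrivial N]
    (hN : IsFiniteLength S (N ⧸ (maximalIdeal R).map (algebraMap R S) • (⊤ : Submodule S N)))
    (M : Type u) [AddCommGroup M] [Module R M] [Module.Finite R M] :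
    depth S (N ⊗[R] M) = depth R M := by
  have hne : (maximalIdeal R).map (algebraMap R S) ≠ ⊤ :=
    ne_top_of_le_ne_top (maximalIdeal.isMaximal S).ne_top
      (Groth.Agent.Lib.Helper24.FlatDimFormula.map_le_maximalIdeal R S)
  haveI : Nontrivial (N ⧸ (maximalIdeal R).map (algebraMap R S) • (⊤ : Submodule S N)) :=
    Submodule.Quotient.nontrivial_iff.mpr
      (smul_top_ne_top_of_ne_top ((maximalIdeal R).map (algebraMap R S)) hne N)
  rw [depth_tensor' R S N M, depth_eq_zero_of_isFiniteLength S _ hN, add_zero]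

end

end Groth.Agent.Lib.Helper24.FlatDepth
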