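import Mathlib
import Groth.Agent.Lib.Helper24.FlatDepth9
import Groth.Agent.Lib.Helper24.CplQuot
import Groth.Agent.Lib.Helper26.CM5
import Groth.Agent.S0547
import Groth.Prelude.Def_EGA4b

/-!
# Completion of Cohen–Macaulay modules (helper24)

`A` Noetherian local, `Â = AdicCompletion m A`.

* `depth_baseChange`: `depth_Â (Â ⊗ M) = depth_A M` for finite `M`;
* `supportDim_baseChange_le`: `dim_Â (Â ⊗ M) ≤ dim_A M`;
* `isCohenMacaulayModule_baseChange`: `M` CM ⇒ `Â ⊗ M` CM of the same dimension;
* `isCohenMacaulayLocalRing_cpl`: completion of a CM local ring is CM;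
* `isStrictlyEquidim_of_cm`: a CM local ring is strictly equidimensional;
* `isStrictlyEquidim_cpl_quotient`: if `A` carries a finite CM module with full support then
  `Cpl (A ⧸ P)` is strictly equidimensional for every prime `P` (EGA IV 7.2.5-type statement).
-/

set_option autoImplicit false
universe u
open TensorProduct IsLocalRing LocCoh RingTheory.Sequence
open Groth.Agent.Lib.helper26.Depth
open scoped Pointwise

namespace Groth.Agent.Lib.Helper24.CplCM

open Groth.Agent.Lib.Helper24.CplFlat Groth.Agent.Lib.Helper24.CplQuot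
  Groth.Agent.Lib.Helper24.FlatDepth

section

variable (A : Type u) [CommRing A] [IsLocalRing A] [IsNoetherianRing A]

local notation "Â" => AdicCompletion (maximalIdeal A) A

instance isNoetherianRing_cpl : IsNoetherianRing Â :=
  Groth.Agent.S0542.result A _ (maximalIdeal A).fg_of_isNoetherianRing

theorem map_maximalIdeal_cpl :
    (maximalIdeal A).map (algebraMap A Â) = maximalIdeal Â :=
  AdicCompletion.maximalIdeal_eq_map.symm

instance isLocalHom_cpl : IsLocalHom (algebraMap A Â) := by
  apply ((IsLocalRing.local_hom_TFAE _).out 0 2).mpr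
  rw [map_maximalIdeal_cpl]

instance flat_cpl : Module.Flat A Â := inferInstance

/-- `depth_Â (Â ⊗ M) = depth_A M`. -/
theorem depth_baseChange (M : Type u) [AddCommGroup M] [Module A M] [Module.Finite A M] :
    depth Â (Â ⊗[A] M) = depth A M := by
  refine depth_tensor_of_isFiniteLength A Â Â ?_ M
  rw [map_maximalIdeal_cpl, smul_eq_mul, Ideal.mul_top]
  haveI : IsSimpleModule Â (Â ⧸ maximalIdeal Â) :=
    isSimpleModule_iff_quot_maximal.mpr ⟨_, maximalIdeal.isMaximal _, ⟨LinearEquiv.refl _ _⟩⟩
  exact isFiniteLength_iff_isNoetherian_isArtinian.mpr ⟨inferInstance, inferInstance⟩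

/-- `dim_Â (Â ⊗ M) ≤ dim_A M`. -/
theorem supportDim_baseChange_le (M : Type u) [AddCommGroup M] [Module A M] [Module.Finite A M]
    [Nontrivial M] :
    Module.supportDim Â (Â ⊗[A] M) ≤ Module.supportDim A M := by
  have hne : Module.annihilator A M ≠ ⊤ := by
    intro h
    obtain ⟨m, hm⟩ := exists_ne (0 : M)
    have h1 : (1 : A) ∈ Module.annihilator A M := by rw [h]; trivial
    exact hm (by simpa using Module.mem_annihilator.mp h1 m)
  haveI : Nontrivial (A ⧸ Module.annihilator A M) := Ideal.Quotient.nontrivial_iff.mpr hne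
  haveI : IsLocalRing (A ⧸ Module.annihilator A M) :=
    IsLocalRing.of_surjective' (Ideal.Quotient.mk _) Ideal.Quotient.mk_surjective
  rw [Module.supportDim_eq_ringKrullDim_quotient_annihilator,
    Module.supportDim_eq_ringKrullDim_quotient_annihilator]
  have hle : (Module.annihilator A M).map (algebraMap A Â) ≤
      Module.annihilator Â (Â ⊗[A] M) := by
    rw [Ideal.map_le_iff_le_comap]
    intro a ha
    rw [Ideal.mem_comap, Module.mem_annihilator]
    intro t
    induction t using TensorProduct.induction_on with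
    | zero => exact smul_zero _
    | tmul s m =>
      rw [TensorProduct.smul_tmul', smul_eq_mul, ← Algebra.smul_def,
        TensorProduct.smul_tmul, Module.mem_annihilator.mp ha m, TensorProduct.tmul_zero]
    | add x y hx hy => rw [smul_add, hx, hy, add_zero]
  calc ringKrullDim (Â ⧸ Module.annihilator Â (Â ⊗[A] M))
      ≤ ringKrullDim (Â ⧸ (Module.annihilator A M).map (algebraMap A Â)) :=
        ringKrullDim_le_of_surjective (Ideal.Quotient.factor hle)
          (Ideal.Quotient.factor_surjective hle)
    _ = ringKrullDim (AdicCompletion (maximalIdeal (A ⧸ Module.annihilator A M))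
          (A ⧸ Module.annihilator A M)) :=
        ringKrullDim_eq_of_ringEquiv (CplQuot.equiv A (Module.annihilator A M))
    _ = ringKrullDim (A ⧸ Module.annihilator A M) := Groth.Agent.S0547.result _

/-- The completion of a CM module is CM of the same dimension. -/
theorem isCohenMacaulayModule_baseChange (M : Type u) [AddCommGroup M] [Module A M]
    [Module.Finite A M] (hM : IsCohenMacaulayModule A M) :
    IsCohenMacaulayModule Â (Â ⊗[A] M) ∧
      Module.supportDim Â (Â ⊗[A] M) = Module.supportDim A M := by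
  haveI := nontrivial_of_isCohenMacaulayModule M hM
  haveI : Nontrivial (Â ⊗[A] M) := by
    by_contra hns
    rw [not_nontrivial_iff_subsingleton] at hns
    have h1 := idealDepth_of_subsingleton Â (maximalIdeal Â) (Â ⊗[A] M)
    have h2 := depth_baseChange A M
    unfold depth at h2
    rw [h1] at h2
    exact depth_ne_top (A := A) M h2.symm
  have h1 := depth_baseChange A M
  have h2 := supportDim_baseChange_le A M
  have h3 := depth_le_supportDim (A := Â) (Â ⊗[A] M)
  unfold IsCohenMacaulayModule at hM ⊢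
  rw [h1] at h3 ⊢
  rw [hM] at h2 ⊢
  exact ⟨le_antisymm h2 h3, le_antisymm h2 h3⟩

omit [IsLocalRing A] [IsNoetherianRing A] in
/-- For a surjective ring hom `g : S → C` and an ideal `Q` of `C`: `S ⧸ g⁻¹ Q ≃+* C ⧸ Q`. -/
theorem ringKrullDim_quotient_comap_of_surjective {S C : Type u} [CommRing S] [CommRing C]
    (g : S →+* C) (hg : Function.Surjective g) (Q : Ideal C) :
    ringKrullDim (S ⧸ Q.comap g) = ringKrullDim (C ⧸ Q) := by
  have hsurj : Function.Surjective ((Ideal.Quotient.mk Q).comp g) :=
    Ideal.Quotient.mk_surjective.comp hg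
  have hker : RingHom.ker ((Ideal.Quotient.mk Q).comp g) = Q.comap g := by
    ext x
    rw [RingHom.mem_ker, RingHom.comp_apply, Ideal.Quotient.eq_zero_iff_mem, Ideal.mem_comap]
  exact ringKrullDim_eq_of_ringEquiv
    ((Ideal.quotEquivOfEq hker.symm).trans (RingHom.quotientKerEquivOfSurjective hsurj))

/-- If `A` carries a finite CM module with full support then for every prime `P` the completion of
`A ⧸ P` is strictly equidimensional. -/
theorem isStrictlyEquidim_cpl_quotient (M : Type u) [AddCommGroup M] [Module A M]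
    [Module.Finite A M] (hCM : IsCohenMacaulayModule A M)
    (hsupp : Module.support A M = Set.univ) (P : Ideal A) [P.IsPrime] :
    EGA4.IsStrictlyEquidim (AdicCompletion (maximalIdeal (A ⧸ P)) (A ⧸ P)) := by
  intro Q hQ
  haveI hnt := nontrivial_of_isCohenMacaulayModule M hCM
  have hPne : P ≠ ⊤ := Ideal.IsPrime.ne_top inferInstance
  have hp : (⟨P, inferInstance⟩ : PrimeSpectrum A) ∈ Module.support A M := by
    rw [hsupp]; trivial
  obtain ⟨-, hdim, -⟩ := isCohenMacaulayModule_localization M hCM ⟨P, inferInstance⟩ hp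
  haveI : Nontrivial (LocalizedModule P.primeCompl M) := Module.mem_support_iff.mp hp
  obtain ⟨r, hr⟩ := exists_nat_supportDim (A := Localization.AtPrime P)
    (LocalizedModule P.primeCompl M)
  have hr' : Module.supportDim A (M ⧸ (P • (⊤ : Submodule A M))) + r =
      Module.supportDim A M := by
    rw [hdim, hr]
  have hdp := idealDepth_prime_eq M hCM ⟨P, inferInstance⟩ r hr'
  have hPM : P • (⊤ : Submodule A M) ≠ ⊤ := smul_top_ne_top_of_ne_top P hPne M
  obtain ⟨xs, hlen, hmem, hreg⟩ := exists_isWeaklyRegular_of_le hPM (le_of_eq hdp.symm)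
  obtain ⟨ha, hb, hc, -⟩ :=
    regular_sequence_in_prime M hCM ⟨P, inferInstance⟩ hp r hr' xs hlen hmem hreg
  have hmem' : ∀ x ∈ xs, x ∈ maximalIdeal A := fun x hx => le_maximalIdeal hPne (hmem x hx)
  obtain ⟨hCMN, -⟩ := isCohenMacaulayModule_quot_ofList M hCM xs hmem' hreg
  obtain ⟨hCMN', hdimN⟩ := isCohenMacaulayModule_baseChange A
    (M ⧸ (Ideal.ofList xs • (⊤ : Submodule A M))) hCMN
  obtain ⟨-, f, hf⟩ := (isAssociatedPrime_iff_exists_injective_linearMap P _).mp hc
  have hfinj : Function.Injective (f.baseChange Â) :=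
    Module.Flat.lTensor_preserves_injective_linearMap (M := Â) f hf
  haveI : IsNoetherianRing (AdicCompletion (maximalIdeal (A ⧸ P)) (A ⧸ P)) :=
    isNoetherianRing_cpl (A ⧸ P)
  obtain ⟨hQp, c, hQc⟩ := (isAssociatedPrime_iff (I := Q)).mp hQ
  obtain ⟨â, rfl⟩ := φ_surjective A P c
  have hass : Q.comap (φ A P) ∈
      associatedPrimes Â (Â ⊗[A] (M ⧸ (Ideal.ofList xs • (⊤ : Submodule A M)))) := by
    rw [AssociatedPrimes.mem_iff, isAssociatedPrime_iff]
    refine ⟨Ideal.comap_isPrime _ _, (f.baseChange Â) (â ⊗ₜ[A] (1 : A ⧸ P)), ?_⟩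
    ext b
    have hL : b ∈ Q.comap (φ A P) ↔ b * â ∈ P.map (algebraMap A Â) := by
      rw [Ideal.mem_comap, hQc, Submodule.mem_colon_singleton, Submodule.mem_bot, smul_eq_mul,
        ← map_mul, ← RingHom.mem_ker, ker_φ]
    have hR : b ∈ Submodule.colon (⊥ : Submodule Â
          (Â ⊗[A] (M ⧸ (Ideal.ofList xs • (⊤ : Submodule A M)))))
          {(f.baseChange Â) (â ⊗ₜ[A] (1 : A ⧸ P))} ↔
        b * â ∈ P.map (algebraMap A Â) := by
      rw [Submodule.mem_colon_singleton, Submodule.mem_bot, ← map_smul,
        map_eq_zero_iff _ hfinj, TensorProduct.smul_tmul', smul_eq_mul]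
      have h1 : (b * â) ⊗ₜ[A] (1 : A ⧸ P) = theta A Â Â P (b * â) := rfl
      rw [h1, ← LinearMap.mem_ker, ker_theta, smul_eq_mul, Ideal.mul_top]
    exact hL.trans hR.symm
  have h1 := ringKrullDim_quotient_eq_supportDim_of_isCohenMacaulayModule _ hCMN' _ hass
  rw [← ringKrullDim_quotient_comap_of_surjective (φ A P) (φ_surjective A P) Q, h1, hdimN, ha, hb]
  exact (Groth.Agent.S0547.result (A ⧸ P)).symm
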