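import Mathlib
import Groth.Agent.Lib.Helper24.CplFlat

/-!
# Isomorphisms of adic completions from isomorphisms of the quotients (helper24)

If `f : R →+* S` maps `I` into `J` and induces bijections `R ⧸ I ^ n → S ⧸ J ^ n` for all `n`, then
`FSch.complMap I J f` is bijective.
-/

set_option autoImplicit false
universe u
open IsLocalRing

namespace Groth.Agent.Lib.Helper24.CplIso

variable {R S : Type u} [CommRing R] [CommRing S] (I : Ideal R) (J : Ideal S) (f : R →+* S)
  (h : I.map f ≤ J)

theorem complMap_injective (hinj : ∀ (n : ℕ) (r : R), f r ∈ J ^ n → r ∈ I ^ n) :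
    Function.Injective (FSch.complMap I J f h) := by
  rw [injective_iff_map_eq_zero]
  intro x hx
  apply AdicCompletion.ext_evalₐ
  intro n
  have h1 := H18U.evalₐ_complMap I J f h n x
  rw [hx, map_zero] at h1
  rw [map_zero]
  obtain ⟨r, hr⟩ := Ideal.Quotient.mk_surjective (AdicCompletion.evalₐ I n x)
  rw [← hr, Ideal.quotientMap_mk] at h1
  rw [← hr, Ideal.Quotient.eq_zero_iff_mem]
  exact hinj n r (Ideal.Quotient.eq_zero_iff_mem.mp h1.symm)

theorem complMap_surjective (hinj : ∀ (n : ℕ) (r : R), f r ∈ J ^ n → r ∈ I ^ n)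
    (hsurj : ∀ (n : ℕ) (s : S), ∃ r : R, s - f r ∈ J ^ n) :
    Function.Surjective (FSch.complMap I J f h) := by
  intro y
  obtain ⟨c, rfl⟩ := AdicCompletion.mk_surjective J S y
  choose r hr using fun n => hsurj n (c n)
  have hc : AdicCompletion.IsAdicCauchy I R r := by
    intro m n hmn
    rw [SModEq.sub_mem, smul_eq_mul, Ideal.mul_top]
    apply hinj
    have h1 : c m - f (r m) ∈ J ^ m := hr m
    have h2 : c n - f (r n) ∈ J ^ m := Ideal.pow_le_pow_right hmn (hr n)
    have h3 : c m - c n ∈ J ^ m := by
      have := c.2 hmn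
      rw [SModEq.sub_mem, smul_eq_mul, Ideal.mul_top] at this
      exact this
    have : f (r m - r n) = -(c m - f (r m)) + (c m - c n) + (c n - f (r n)) := by
      rw [map_sub]; ring
    rw [this]
    exact (J ^ m).add_mem ((J ^ m).add_mem ((J ^ m).neg_mem h1) h3) h2
  let cr : AdicCompletion.AdicCauchySequence I R := ⟨r, hc⟩
  refine ⟨AdicCompletion.mk I R cr, ?_⟩
  apply AdicCompletion.ext_evalₐ
  intro n
  rw [H18U.evalₐ_complMap, AdicCompletion.evalₐ_mk I n cr, AdicCompletion.evalₐ_mk J n c,
    Ideal.quotientMap_mk]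
  symm
  rw [Ideal.Quotient.eq]
  exact hr n

/-- The ring isomorphism of completions. -/
noncomputable def complEquiv (hinj : ∀ (n : ℕ) (r : R), f r ∈ J ^ n → r ∈ I ^ n)
    (hsurj : ∀ (n : ℕ) (s : S), ∃ r : R, s - f r ∈ J ^ n) :
    AdicCompletion I R ≃+* AdicCompletion J S :=
  RingEquiv.ofBijective (FSch.complMap I J f h)
    ⟨complMap_injective I J f h hinj, complMap_surjective I J f h hinj hsurj⟩

section atMaximal

variable (R) (p : Ideal R) [p.IsMaximal]

theorem map_le_maximalIdeal :
    p.map (algebraMap R (Localization.AtPrime p)) ≤ maximalIdeal (Localization.AtPrime p) := by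
  rw [IsLocalization.AtPrime.map_eq_maximalIdeal p (Localization.AtPrime p)]

/-- For a maximal ideal `p`, the `p`-adic completion of `R` is the completion of the local ring
`R_p`. -/
noncomputable def atMaximalEquiv :
    AdicCompletion p R ≃+*
      AdicCompletion (maximalIdeal (Localization.AtPrime p)) (Localization.AtPrime p) :=
  complEquiv p (maximalIdeal (Localization.AtPrime p)) (algebraMap R (Localization.AtPrime p))
    (map_le_maximalIdeal R p)
    (by
      intro n r hr
      have : r ∈ (maximalIdeal (Localization.AtPrime p) ^ n).under R := hr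
      rwa [IsLocalization.AtPrime.under_maximalIdeal_pow p] at this)
    (by
      intro n s
      obtain ⟨z, hz⟩ := (IsLocalization.AtPrime.equivQuotMaximalIdealPow p
        (Localization.AtPrime p) n).surjective (Ideal.Quotient.mk _ s)
      obtain ⟨r, rfl⟩ := Ideal.Quotient.mk_surjective z
      refine ⟨r, ?_⟩
      rw [IsLocalization.AtPrime.equivQuotMaximalIdealPow_apply_mk] at hz
      rw [← Ideal.Quotient.eq]
      exact hz.symm)

end atMaximal

end Groth.Agent.Lib.Helper24.CplIso
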