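import Mathlib
import Groth.Agent.Lib.Helper24.CplCM
import Groth.Agent.Lib.Helper24.CplIso
import Groth.Agent.Lib.Helper26.CMPoly1

/-!
# Completion of Cohen–Macaulay rings, part 2 (helper24)

* `isCohenMacaulayModule_cpl_self`, `isStrictlyEquidim_cpl_of_cm`: the completion of a CM local
  ring is CM, hence strictly equidimensional;
* `isEquidim_of_isStrictlyEquidim`: strictly equidimensional Noetherian rings are equidimensional;
* `isEquidim_of_ringEquiv`: equidimensionality is invariant under ring isomorphisms;
* `cplEquivOfRingEquiv`: isomorphic local rings have isomorphic completions.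
-/

set_option autoImplicit false
universe u
open TensorProduct IsLocalRing LocCoh
open Groth.Agent.Lib.helper26.Depth

namespace Groth.Agent.Lib.Helper24.CplCM

section

variable (D : Type u) [CommRing D] [IsLocalRing D] [IsNoetherianRing D]

local notation "D̂" => AdicCompletion (maximalIdeal D) D

/-- The completion of a CM local ring is CM (module form). -/
theorem isCohenMacaulayModule_cpl_self (hD : IsCohenMacaulayModule D D) :
    IsCohenMacaulayModule D̂ D̂ := by
  obtain ⟨h1, -⟩ := isCohenMacaulayModule_baseChange D D hD
  exact isCohenMacaulayModule_congr (TensorProduct.AlgebraTensorModule.rid D D̂ D̂) h1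

/-- The completion of a CM local ring is strictly equidimensional. -/
theorem isStrictlyEquidim_cpl_of_cm (hD : IsCohenMacaulayModule D D) :
    EGA4.IsStrictlyEquidim D̂ := by
  intro Q hQ
  have h3 := isCohenMacaulayModule_cpl_self D hD
  rw [ringKrullDim_quotient_eq_supportDim_of_isCohenMacaulayModule D̂ h3 Q hQ,
    Module.supportDim_self_eq_ringKrullDim]

end

/-- Strictly equidimensional Noetherian rings are equidimensional. -/
theorem isEquidim_of_isStrictlyEquidim (R : Type u) [CommRing R] [IsNoetherianRing R]
    (h : EGA4.IsStrictlyEquidim R) : EGA4.IsEquidim R := by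
  intro p hp
  refine h p ?_
  have h1 := Module.associatedPrimes.minimalPrimes_annihilator_subset_associatedPrimes
    (R := R) (M := R)
  apply h1
  have : Module.annihilator R R = ⊥ := by
    rw [eq_bot_iff]
    intro a ha
    have := Module.mem_annihilator.mp ha 1
    simpa using this
  rw [this]
  exact hp

/-- Equidimensionality is invariant under ring isomorphisms. -/
theorem isEquidim_of_ringEquiv {R S : Type u} [CommRing R] [CommRing S] (e : R ≃+* S)
    (h : EGA4.IsEquidim R) : EGA4.IsEquidim S := by
  intro q hq
  have hq' : q.comap (e : R →+* S) ∈ minimalPrimes R := by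
    have h1 := Ideal.minimalPrimes_comap_of_surjective (f := (e : R →+* S)) e.surjective
      (I := (⊥ : Ideal S)) (J := q) hq
    have h2 : (⊥ : Ideal S).comap (e : R →+* S) = ⊥ := by
      rw [← RingHom.ker_eq_comap_bot]
      exact (RingHom.injective_iff_ker_eq_bot _).mp e.injective
    rw [h2] at h1
    exact h1
  have h3 := h _ hq'
  rw [← ringKrullDim_eq_of_ringEquiv e,
    ← ringKrullDim_quotient_comap_of_surjective (e : R →+* S) e.surjective q]
  exact h3

section iso

variable {R S : Type u} [CommRing R] [CommRing S] [IsLocalRing R] [IsLocalRing S]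

theorem map_maximalIdeal_of_ringEquiv (e : R ≃+* S) :
    (maximalIdeal R).map (e : R →+* S) = maximalIdeal S := by
  have hmax : ((maximalIdeal R).map (e : R →+* S)).IsMaximal :=
    Ideal.map_isMaximal_of_equiv e
  exact IsLocalRing.eq_maximalIdeal hmax

/-- Isomorphic local rings have isomorphic completions. -/
noncomputable def cplEquivOfRingEquiv (e : R ≃+* S) :
    AdicCompletion (maximalIdeal R) R ≃+* AdicCompletion (maximalIdeal S) S :=
  Groth.Agent.Lib.Helper24.CplIso.complEquiv (maximalIdeal R) (maximalIdeal S) (e : R →+* S)
    (map_maximalIdeal_of_ringEquiv e).le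
    (by
      intro n r hr
      rw [← map_maximalIdeal_of_ringEquiv e, ← Ideal.map_pow] at hr
      obtain ⟨r', hr', heq⟩ := (Ideal.mem_map_iff_of_surjective (e : R →+* S) e.surjective).mp hr
      have : r' = r := e.injective heq
      rw [← this]; exact hr')
    (by
      intro n s
      refine ⟨e.symm s, ?_⟩
      have : s - (e : R →+* S) (e.symm s) = 0 := by simp
      rw [this]; exact Ideal.zero_mem _)

end iso

end Groth.Agent.Lib.Helper24.CplCM
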