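import Groth.Agent.LibCR29f
import Mathlib

/-!
# Power series rings over a discrete valuation ring are regular (helper24)
-/

set_option autoImplicit false
universe u

namespace Groth.Agent.Lib.Helper24.RegPS

open IsLocalRing

variable (W : Type u) [CommRing W] [IsDomain W] [IsDiscreteValuationRing W]

lemma le_ringKrullDim_mvPowerSeries (n : ℕ) :
    ((n + 1 : ℕ) : WithBot ℕ∞) ≤ ringKrullDim (MvPowerSeries (Fin n) W) := by
  induction n with
  | zero =>
    rw [ringKrullDim_eq_of_ringEquiv (MvPowerSeries.isEmptyEquiv (Fin 0) W).toRingEquiv,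
      IsDiscreteValuationRing.ringKrullDim_eq_one]
    norm_num
  | succ n ih =>
    rw [ringKrullDim_eq_of_ringEquiv (MvPowerSeries.finSuccEquiv W n).toRingEquiv]
    refine le_trans ?_ ringKrullDim_succ_le_ringKrullDim_powerseries
    push_cast
    push_cast at ih
    gcongr

theorem isRegularLocalRing_mvPowerSeries (π : W) (hπ : maximalIdeal W = Ideal.span {π}) (n : ℕ) :
    IsRegularLocalRing (MvPowerSeries (Fin n) W) := by
  classical
  apply IsRegularLocalRing.of_spanFinrank_maximalIdeal_le
  refine le_trans ?_ (le_ringKrullDim_mvPowerSeries W n)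
  have h1 : maximalIdeal (MvPowerSeries (Fin n) W) =
      Ideal.span ({MvPowerSeries.C π} ∪
        Set.range (MvPowerSeries.X : Fin n → MvPowerSeries (Fin n) W)) := by
    rw [Groth.Agent.LibCR29.maximalIdeal_ps, hπ, Ideal.map_span, Set.image_singleton,
      Ideal.span_union]
  rw [h1]
  have hfin : ({MvPowerSeries.C π} ∪
      Set.range (MvPowerSeries.X : Fin n → MvPowerSeries (Fin n) W)).Finite :=
    (Set.finite_singleton _).union (Set.finite_range _)
  have h2 := Submodule.spanFinrank_span_le_ncard_of_finite
    (R := MvPowerSeries (Fin n) W) hfin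
  have h3 : ({MvPowerSeries.C π} ∪
      Set.range (MvPowerSeries.X : Fin n → MvPowerSeries (Fin n) W)).ncard ≤ n + 1 := by
    refine (Set.ncard_union_le _ _).trans ?_
    rw [Set.ncard_singleton, add_comm]
    have : (Set.range (MvPowerSeries.X : Fin n → MvPowerSeries (Fin n) W)).ncard ≤ n := by
      have e : Set.range (MvPowerSeries.X : Fin n → MvPowerSeries (Fin n) W) =
          ((Finset.univ.image (MvPowerSeries.X : Fin n → MvPowerSeries (Fin n) W) :
            Finset (MvPowerSeries (Fin n) W)) : Set (MvPowerSeries (Fin n) W)) := by simp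
      rw [e, Set.ncard_coe_finset]
      exact Finset.card_image_le.trans (by simp)
    omega
  exact_mod_cast h2.trans h3

end Groth.Agent.Lib.Helper24.RegPS
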