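import Mathlib

/-!
# Towers of monic one-variable extensions inside a polynomial ring, part 1 (helper24)

The one-variable principle: in `MvPolynomial σ C`, a polynomial `F = X_j^d + ∑_{e<d} c_e X_j^e`
with `c_e` not involving `X_j` is a nonzerodivisor modulo any ideal generated by polynomials not
involving `X_j`.
-/

set_option autoImplicit false

noncomputable section

namespace Groth.Agent.Lib.Helper24.Tower

open MvPolynomial

universe u v

variable {C : Type u} [CommRing C] {σ : Type v} [DecidableEq σ]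

/-- `MvPolynomial σ C ≃ (MvPolynomial {i // i ≠ j} C)[X_j]`. -/
def Phi (j : σ) : MvPolynomial σ C ≃ₐ[C] Polynomial (MvPolynomial {i // i ≠ j} C) :=
  (renameEquiv C (Equiv.optionSubtypeNe j).symm).trans (optionEquivLeft C {i // i ≠ j})

theorem Phi_X_self (j : σ) : Phi (C := C) j (X j) = Polynomial.X := by
  simp [Phi]

theorem Phi_X_of_ne (j : σ) {i : σ} (h : i ≠ j) :
    Phi (C := C) j (X i) = Polynomial.C (X ⟨i, h⟩) := by
  simp [Phi, Equiv.optionSubtypeNe_symm_of_ne h]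

theorem Phi_C (j : σ) (a : C) : Phi (C := C) j (MvPolynomial.C a) = Polynomial.C (MvPolynomial.C a) := by
  simp [Phi]

/-- Polynomials not involving `X_j` are constants of `(MvPolynomial {i // i ≠ j} C)[X_j]`. -/
theorem exists_Phi_eq_C (j : σ) {f : MvPolynomial σ C} (hf : f ∈ supported C ({j}ᶜ : Set σ)) :
    ∃ f₀ : MvPolynomial {i // i ≠ j} C, Phi j f = Polynomial.C f₀ := by
  rw [supported_eq_adjoin_X] at hf
  induction hf using Algebra.adjoin_induction with
  | mem x hx =>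
    obtain ⟨i, hi, rfl⟩ := hx
    exact ⟨X ⟨i, hi⟩, Phi_X_of_ne j hi⟩
  | algebraMap r => exact ⟨MvPolynomial.C r, Phi_C j r⟩
  | add x y _ _ hx hy =>
    obtain ⟨x₀, hx₀⟩ := hx
    obtain ⟨y₀, hy₀⟩ := hy
    exact ⟨x₀ + y₀, by rw [map_add, hx₀, hy₀, Polynomial.C_add]⟩
  | mul x y _ _ hx hy =>
    obtain ⟨x₀, hx₀⟩ := hx
    obtain ⟨y₀, hy₀⟩ := hy
    exact ⟨x₀ * y₀, by rw [map_mul, hx₀, hy₀, Polynomial.C_mul]⟩

/-- In a polynomial ring, a monic polynomial is a nonzerodivisor modulo extended ideals. -/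
theorem mem_map_C_of_mul_monic {A : Type*} [CommRing A] (I : Ideal A) {p q : Polynomial A}
    (hq : q.Monic) (h : p * q ∈ Ideal.map Polynomial.C I) : p ∈ Ideal.map Polynomial.C I := by
  have key : ∀ f : Polynomial A, f ∈ Ideal.map Polynomial.C I ↔
      f.map (Ideal.Quotient.mk I) = 0 := by
    intro f
    rw [Ideal.mem_map_C_iff, Polynomial.ext_iff]
    simp only [Polynomial.coeff_map, Polynomial.coeff_zero, Ideal.Quotient.eq_zero_iff_mem]
  rw [key] at h ⊢
  rw [Polynomial.map_mul] at h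
  exact (Polynomial.Monic.mul_left_eq_zero_iff (hq.map _)).1 h

/-- The shape of the polynomials `F_j`. -/
def monicIn (j : σ) (d : ℕ) (c : ℕ → MvPolynomial σ C) : MvPolynomial σ C :=
  X j ^ d + ∑ e ∈ Finset.range d, c e * X j ^ e

theorem Phi_monicIn_monic (j : σ) (d : ℕ) (c : ℕ → MvPolynomial σ C)
    (hc : ∀ e, c e ∈ supported C ({j}ᶜ : Set σ)) : (Phi j (monicIn j d c)).Monic := by
  choose c₀ hc₀ using fun e => exists_Phi_eq_C j (hc e)
  have h1 : Phi j (monicIn j d c) =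
      Polynomial.X ^ d + ∑ e : Fin d, Polynomial.C (c₀ e) * Polynomial.X ^ (e : ℕ) := by
    rw [monicIn, map_add, map_pow, Phi_X_self, map_sum, Fin.sum_univ_eq_sum_range
      (fun e => Polynomial.C (c₀ e) * Polynomial.X ^ e) d]
    congr 1
    refine Finset.sum_congr rfl (fun e _ => ?_)
    rw [map_mul, map_pow, Phi_X_self, hc₀]
  rw [h1]
  exact Polynomial.monic_X_pow_add (Polynomial.degree_sum_fin_lt _)

/-- **One-variable principle.** -/
theorem mem_span_of_mul_monicIn_mem (j : σ) (G : Set (MvPolynomial σ C))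
    (hG : G ⊆ supported C ({j}ᶜ : Set σ)) (d : ℕ) (c : ℕ → MvPolynomial σ C)
    (hc : ∀ e, c e ∈ supported C ({j}ᶜ : Set σ)) (h : MvPolynomial σ C)
    (hmem : h * monicIn j d c ∈ Ideal.span G) : h ∈ Ideal.span G := by
  classical
  let P₀ := MvPolynomial {i // i ≠ j} C
  let G₀ : Set P₀ := {g₀ | ∃ g ∈ G, Phi j g = Polynomial.C g₀}
  let φ : MvPolynomial σ C →+* Polynomial P₀ := (Phi (C := C) j).toAlgHom.toRingHom
  let ψ : Polynomial P₀ →+* MvPolynomial σ C := (Phi (C := C) j).symm.toAlgHom.toRingHom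
  have hφ : ∀ x, φ x = Phi j x := fun _ => rfl
  have hψ : ∀ x, ψ (φ x) = x := fun x => (Phi (C := C) j).symm_apply_apply x
  have hmap : Ideal.map φ (Ideal.span G) = Ideal.map Polynomial.C (Ideal.span G₀) := by
    rw [Ideal.map_span, Ideal.map_span]
    congr 1
    ext y
    constructor
    · rintro ⟨g, hg, rfl⟩
      obtain ⟨g₀, hg₀⟩ := exists_Phi_eq_C j (hG hg)
      exact ⟨g₀, ⟨g, hg, hg₀⟩, hg₀.symm⟩
    · rintro ⟨g₀, ⟨g, hg, hg₀⟩, rfl⟩
      exact ⟨g, hg, hg₀⟩
  have h1 : φ h * Phi j (monicIn j d c) ∈ Ideal.map Polynomial.C (Ideal.span G₀) := by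
    rw [← hmap, ← hφ, ← map_mul]
    exact Ideal.mem_map_of_mem _ hmem
  have h2 := mem_map_C_of_mul_monic _ (Phi_monicIn_monic j d c hc) h1
  rw [← hmap] at h2
  have h3 : ψ (φ h) ∈ Ideal.span G := by
    have := Ideal.mem_map_of_mem ψ h2
    rw [Ideal.map_map] at this
    have hid : ψ.comp φ = RingHom.id _ := RingHom.ext hψ
    rwa [hid, Ideal.map_id] at this
  rwa [hψ] at h3

end Groth.Agent.Lib.Helper24.Tower

end
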