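import Mathlib
import Groth.Agent.Lib.Helper24.Tower1

/-!
# Towers of monic one-variable extensions, part 2: flatness (helper24)

A *tower datum* on a linearly ordered type `J` over `C`: for each `j` a degree `d j` and lower
coefficients `c j e ∈ C[X_i : i < j]`. `F j = X_j^{d j} + ∑_{e < d j} c j e X_j^e`,
`I = (F j : j ∈ J)`. Then `C[X_j : j ∈ J] / I` is flat over `C`.
-/

set_option autoImplicit false

noncomputable section

namespace Groth.Agent.Lib.Helper24.Tower

open MvPolynomial

universe u v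

/-- Flatness of a quotient of a flat algebra by an ideal, ideal-theoretic criterion. -/
theorem flat_quotient_of_map_inf_le {R S : Type*} [CommRing R] [CommRing S] [Algebra R S]
    [Module.Flat R S] (I : Ideal S)
    (h : ∀ 𝔞 : Ideal R, 𝔞.map (algebraMap R S) ⊓ I ≤ 𝔞.map (algebraMap R S) * I) :
    Module.Flat R (S ⧸ I) := by
  refine Module.Flat.iff_forall_isTrivialRelation.2 ?_
  intro l f x hrel
  choose p hp using fun i => Ideal.Quotient.mk_surjective (x i)
  let 𝔞 : Ideal R := Ideal.span (Set.range f)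
  have hsum : ∑ i, f i • p i ∈ 𝔞.map (algebraMap R S) ⊓ I := by
    refine Ideal.mem_inf.2 ⟨?_, ?_⟩
    · refine Ideal.sum_mem _ (fun i _ => ?_)
      rw [Algebra.smul_def]
      exact Ideal.mul_mem_right _ _ (Ideal.mem_map_of_mem _ (Ideal.subset_span ⟨i, rfl⟩))
    · rw [← Ideal.Quotient.eq_zero_iff_mem, map_sum, ← hrel]
      refine Finset.sum_congr rfl (fun i _ => ?_)
      rw [← hp i]
      rfl
  -- elements of `𝔞 S * I` are of the form `∑ f i • y i` with `y i ∈ I`
  have hform : ∀ z ∈ 𝔞.map (algebraMap R S) * I,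
      ∃ y : Fin l → S, (∀ i, y i ∈ I) ∧ z = ∑ i, f i • y i := by
    intro z hz
    refine Submodule.mul_induction_on hz ?_ ?_
    · intro a ha b hb
      rw [Ideal.map_span, ← Set.range_comp, Ideal.mem_span_range_iff_exists_fun] at ha
      obtain ⟨s, rfl⟩ := ha
      refine ⟨fun i => s i * b, fun i => I.mul_mem_left _ hb, ?_⟩
      rw [Finset.sum_mul]
      refine Finset.sum_congr rfl (fun i _ => ?_)
      simp only [Function.comp_apply, Algebra.smul_def]
      ring
    · rintro z₁ z₂ ⟨y₁, hy₁, rfl⟩ ⟨y₂, hy₂, rfl⟩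
      refine ⟨fun i => y₁ i + y₂ i, fun i => I.add_mem (hy₁ i) (hy₂ i), ?_⟩
      rw [← Finset.sum_add_distrib]
      refine Finset.sum_congr rfl (fun i _ => ?_)
      rw [smul_add]
  obtain ⟨y, hy, hyz⟩ := hform _ (h 𝔞 hsum)
  have hrel' : ∑ i, f i • (p i - y i) = 0 := by
    simp only [smul_sub, Finset.sum_sub_distrib]
    rw [hyz, sub_self]
  obtain ⟨k, A, z, hz1, hz2⟩ := Module.Flat.isTrivialRelation_of_sum_smul_eq_zero
    (R := R) (M := S) hrel'
  refine ⟨k, A, fun t => Ideal.Quotient.mk I (z t), ?_, hz2⟩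
  intro i
  have h1 : x i = Ideal.Quotient.mk I (p i - y i) := by
    rw [map_sub, hp i, Ideal.Quotient.eq_zero_iff_mem.2 (hy i), sub_zero]
  have hz1' : p i - y i = ∑ j, A i j • z j := hz1 i
  rw [h1, hz1', map_sum]
  refine Finset.sum_congr rfl (fun t _ => ?_)
  rfl

/-- A tower datum. -/
structure Datum (C : Type u) [CommRing C] (J : Type v) [LinearOrder J] where
  d : J → ℕ
  c : J → ℕ → MvPolynomial J C
  hc : ∀ j e, c j e ∈ supported C (Set.Iio j)

variable {C : Type u} [CommRing C] {J : Type v} [LinearOrder J] (D : Datum C J)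

/-- The relation `F j`. -/
def Datum.F (j : J) : MvPolynomial J C := monicIn j (D.d j) (D.c j)

/-- The ideal of relations. -/
def Datum.I : Ideal (MvPolynomial J C) := Ideal.span (Set.range D.F)

theorem Datum.F_mem_I (j : J) : D.F j ∈ D.I := Ideal.subset_span ⟨j, rfl⟩

theorem Datum.c_mem_compl (j : J) (e : ℕ) : D.c j e ∈ supported C ({j}ᶜ : Set J) :=
  supported_mono (fun i (hi : i < j) => (ne_of_lt hi : i ≠ j)) (D.hc j e)

theorem Datum.F_mem_supported (j : J) : D.F j ∈ supported C (Set.Iic j) := by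
  have hX : (X j : MvPolynomial J C) ∈ supported C (Set.Iic j) := by
    rw [supported_eq_adjoin_X]
    exact Algebra.subset_adjoin ⟨j, Set.mem_Iic.2 le_rfl, rfl⟩
  refine Subalgebra.add_mem _ (Subalgebra.pow_mem _ hX _) (Subalgebra.sum_mem _ (fun e _ => ?_))
  exact Subalgebra.mul_mem _ (supported_mono (fun i (hi : i < j) => le_of_lt hi) (D.hc j e))
    (Subalgebra.pow_mem _ hX _)

theorem Datum.F_mem_compl {i j : J} (h : i < j) : D.F i ∈ supported C ({j}ᶜ : Set J) :=
  supported_mono (fun l (hl : l ≤ i) => (ne_of_lt (lt_of_le_of_lt hl h) : l ≠ j))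
    (D.F_mem_supported i)

/-- Finite-stage version of the flatness criterion. -/
theorem Datum.inf_le_mul_finset (𝔞 : Ideal C) (s : Finset J) :
    Ideal.map MvPolynomial.C 𝔞 ⊓ Ideal.span (D.F '' (s : Set J)) ≤
      Ideal.map MvPolynomial.C 𝔞 * Ideal.span (D.F '' (s : Set J)) := by
  classical
  induction s using Finset.induction_on_max with
  | empty =>
    intro g hg
    have : g = 0 := by simpa using (Ideal.mem_inf.1 hg).2
    rw [this]
    exact Ideal.zero_mem _
  | insert j s hs ih =>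
    intro g hg
    obtain ⟨hg1, hg2⟩ := Ideal.mem_inf.1 hg
    rw [Finset.coe_insert, Set.image_insert_eq, Ideal.mem_span_insert] at hg2
    obtain ⟨h, i, hi, rfl⟩ := hg2
    -- the ideal `𝔟 = 𝔞 Pol + (F_i : i ∈ s)` does not involve `X_j`
    let G : Set (MvPolynomial J C) := (MvPolynomial.C '' (𝔞 : Set C)) ∪ D.F '' (s : Set J)
    have hGspan : Ideal.span G =
        Ideal.map MvPolynomial.C 𝔞 ⊔ Ideal.span (D.F '' (s : Set J)) := by
      rw [Ideal.span_union]
      rfl
    have hG : G ⊆ supported C ({j}ᶜ : Set J) := by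
      rintro x (⟨a, -, rfl⟩ | ⟨i', hi', rfl⟩)
      · exact (supported C ({j}ᶜ : Set J)).algebraMap_mem a
      · exact D.F_mem_compl (hs i' hi')
    have hh : h * D.F j ∈ Ideal.span G := by
      rw [hGspan]
      have : h * D.F j = (h * D.F j + i) - i := by ring
      rw [this]
      exact Ideal.sub_mem _ (Ideal.mem_sup_left hg1) (Ideal.mem_sup_right hi)
    have hh' : h ∈ Ideal.span G :=
      mem_span_of_mul_monicIn_mem j G hG (D.d j) (D.c j) (D.c_mem_compl j) h hh
    rw [hGspan, Submodule.mem_sup] at hh'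
    obtain ⟨a, ha, i', hi', rfl⟩ := hh'
    have hle : Ideal.span (D.F '' (s : Set J)) ≤
        Ideal.span (insert (D.F j) (D.F '' (s : Set J))) :=
      Ideal.span_mono (Set.subset_insert _ _)
    have hFj : D.F j ∈ Ideal.span (insert (D.F j) (D.F '' (s : Set J))) :=
      Ideal.subset_span (Set.mem_insert _ _)
    have e1 : (a + i') * D.F j + i = a * D.F j + (i + i' * D.F j) := by ring
    rw [Finset.coe_insert, Set.image_insert_eq, e1]
    refine Ideal.add_mem _ (Ideal.mul_mem_mul ha hFj) ?_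
    have h2 : i + i' * D.F j ∈ Ideal.map MvPolynomial.C 𝔞 ⊓ Ideal.span (D.F '' (s : Set J)) := by
      refine Ideal.mem_inf.2 ⟨?_, ?_⟩
      · have : i + i' * D.F j = ((a + i') * D.F j + i) - a * D.F j := by ring
        rw [this]
        exact Ideal.sub_mem _ hg1 (Ideal.mul_mem_right _ _ ha)
      · exact Ideal.add_mem _ hi (Ideal.mul_mem_right _ _ hi')
    exact Ideal.mul_mono_right hle (ih h2)

/-- Flatness criterion for the full ideal of relations. -/
theorem Datum.inf_le_mul (𝔞 : Ideal C) :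
    Ideal.map MvPolynomial.C 𝔞 ⊓ D.I ≤ Ideal.map MvPolynomial.C 𝔞 * D.I := by
  classical
  intro g hg
  obtain ⟨hg1, hg2⟩ := Ideal.mem_inf.1 hg
  rw [Datum.I, Ideal.span, Finsupp.mem_span_range_iff_exists_finsupp] at hg2
  obtain ⟨w, rfl⟩ := hg2
  have hmem : (w.sum fun i a => a • D.F i) ∈ Ideal.span (D.F '' (w.support : Set J)) := by
    rw [Finsupp.sum]
    refine Ideal.sum_mem _ (fun i hi => ?_)
    exact Ideal.mul_mem_left _ _ (Ideal.subset_span ⟨i, hi, rfl⟩)
  have h1 := D.inf_le_mul_finset 𝔞 w.support (Ideal.mem_inf.2 ⟨hg1, hmem⟩)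
  refine Ideal.mul_mono_right ?_ h1
  exact Ideal.span_mono (Set.image_subset_range _ _)

/-- **The tower ring is flat over the base.** -/
theorem Datum.flat : Module.Flat C (MvPolynomial J C ⧸ D.I) :=
  flat_quotient_of_map_inf_le D.I (fun 𝔞 => D.inf_le_mul 𝔞)

end Groth.Agent.Lib.Helper24.Tower

end
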