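import Mathlib
import Groth.Agent.Lib.Helper24.Tower2

/-!
# Towers of monic one-variable extensions, part 3: division and the residue ring (helper24)

* `Datum.exists_div`: division with remainder by `F j` inside `C[X_i : i ≤ j]`.
* `Datum.ker_eq`: if `ev : C[X_j] → K` kills all `F j` and `1, x_j, …, x_j^{d j - 1}` are
  linearly independent over `ev(C[X_i : i < j])`, then `ker ev = I + (ker ev|_C) C[X_j]`.
-/

set_option autoImplicit false

noncomputable section

namespace Groth.Agent.Lib.Helper24.Tower

open MvPolynomial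

universe u v w

variable {C : Type u} [CommRing C] {J : Type v} [LinearOrder J] (D : Datum C J)

/-- The set of polynomials admitting a division with remainder by `F j`. -/
def Datum.divSet (j : J) : Submodule C (MvPolynomial J C) where
  carrier := {f | ∃ (q : MvPolynomial J C) (r : ℕ → MvPolynomial J C),
    (∀ e, r e ∈ supported C (Set.Iio j)) ∧
      f = q * D.F j + ∑ e ∈ Finset.range (D.d j), r e * X j ^ e}
  zero_mem' := ⟨0, fun _ => 0, fun _ => Subalgebra.zero_mem _, by simp⟩
  add_mem' := by
    rintro _ _ ⟨q₁, r₁, h₁, rfl⟩ ⟨q₂, r₂, h₂, rfl⟩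
    refine ⟨q₁ + q₂, fun e => r₁ e + r₂ e, fun e => Subalgebra.add_mem _ (h₁ e) (h₂ e), ?_⟩
    simp only [add_mul, Finset.sum_add_distrib]
    ring
  smul_mem' := by
    rintro a _ ⟨q, r, h, rfl⟩
    refine ⟨a • q, fun e => a • r e, fun e => Subalgebra.smul_mem _ (h e) a, ?_⟩
    simp only [smul_add, Finset.smul_sum, smul_mul_assoc]

theorem Datum.mul_F_mem_divSet (j : J) (q : MvPolynomial J C) : q * D.F j ∈ D.divSet j :=
  ⟨q, fun _ => 0, fun _ => Subalgebra.zero_mem _, by simp⟩

theorem Datum.mul_X_pow_mem_divSet (j : J) (n : ℕ) :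
    ∀ g ∈ supported C (Set.Iio j), g * X j ^ n ∈ D.divSet j := by
  classical
  induction n using Nat.strong_induction_on with
  | _ n ih =>
    intro g hg
    by_cases hn : n < D.d j
    · refine ⟨0, fun e => if e = n then g else 0, fun e => ?_, ?_⟩
      · show (if e = n then g else 0) ∈ supported C (Set.Iio j)
        split_ifs
        · exact hg
        · exact Subalgebra.zero_mem _
      · simp only [zero_mul, zero_add, ite_mul]
        rw [Finset.sum_ite_eq' (Finset.range (D.d j)) n (fun e => g * X j ^ e),
          if_pos (Finset.mem_range.2 hn)]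
    · rw [not_lt] at hn
      have hXd : (X j : MvPolynomial J C) ^ D.d j =
          D.F j - ∑ e ∈ Finset.range (D.d j), D.c j e * X j ^ e := by
        rw [Datum.F, monicIn]; ring
      have hdecomp : g * X j ^ n = (g * X j ^ (n - D.d j)) * D.F j -
          ∑ e ∈ Finset.range (D.d j), (g * D.c j e) * X j ^ (n - D.d j + e) := by
        have hn' : n = (n - D.d j) + D.d j := (Nat.sub_add_cancel hn).symm
        conv_lhs => rw [hn', pow_add, hXd]
        rw [mul_sub, mul_sub, Finset.mul_sum, Finset.mul_sum]
        congr 1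
        · ring
        · refine Finset.sum_congr rfl (fun e _ => ?_)
          rw [pow_add]; ring
      rw [hdecomp]
      refine Submodule.sub_mem _ (D.mul_F_mem_divSet j _) (Submodule.sum_mem _ (fun e he => ?_))
      refine ih (n - D.d j + e) ?_ _ (Subalgebra.mul_mem _ hg (D.hc j e))
      have := Finset.mem_range.1 he
      omega

/-- **Division with remainder** by `F j` in `C[X_i : i ≤ j]`. -/
theorem Datum.exists_div (j : J) {f : MvPolynomial J C} (hf : f ∈ supported C (Set.Iic j)) :
    ∃ (q : MvPolynomial J C) (r : ℕ → MvPolynomial J C),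
      (∀ e, r e ∈ supported C (Set.Iio j)) ∧
        f = q * D.F j + ∑ e ∈ Finset.range (D.d j), r e * X j ^ e := by
  classical
  suffices h : f ∈ D.divSet j from h
  rw [as_sum f]
  refine Submodule.sum_mem _ (fun m hm => ?_)
  have hvars : ∀ i, m i ≠ 0 → i ≤ j := by
    intro i hi
    have : i ∈ f.vars := (mem_vars_iff_mem_support i).2 ⟨m, hm, Finsupp.mem_support_iff.2 hi⟩
    exact (mem_supported.1 hf) this
  have h1 : monomial m (coeff m f) =
      (MvPolynomial.C (coeff m f) * (m.erase j).prod fun n e => (X n : MvPolynomial J C) ^ e) *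
        X j ^ m j := by
    rw [monomial_eq, ← Finsupp.mul_prod_erase' m j (fun n e => (X n : MvPolynomial J C) ^ e)
      (fun _ => pow_zero _)]
    ring
  rw [h1]
  refine D.mul_X_pow_mem_divSet j (m j) _ (Subalgebra.mul_mem _ (Subalgebra.algebraMap_mem _ _) ?_)
  refine SubmonoidClass.finsuppProd_mem _ _ _ (fun i hi => ?_)
  refine Subalgebra.pow_mem _ ?_ _
  rw [supported_eq_adjoin_X]
  refine Algebra.subset_adjoin ⟨i, ?_, rfl⟩
  by_cases hij : i = j
  · subst hij
    simp at hi
  · rw [Finsupp.erase_ne hij] at hi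
    exact lt_of_le_of_ne (hvars i hi) hij

section Residue

variable {K : Type w} [CommRing K] (ev : MvPolynomial J C →+* K)

/-- If all polynomials in `C[X_i : i ∈ S]` killed by `ev` and supported below some `i ∈ S` lie in
`T`, then so do all polynomials of `C[X_i : i ∈ S]` killed by `ev`. -/
theorem mem_of_forall_Iic (T : Ideal (MvPolynomial J C))
    (hconst : ∀ a : C, ev (MvPolynomial.C a) = 0 → MvPolynomial.C a ∈ T) (S : Set J)
    (h : ∀ i ∈ S, ∀ f ∈ supported C (Set.Iic i), ev f = 0 → f ∈ T)
    {f : MvPolynomial J C} (hf : f ∈ supported C S) (hev : ev f = 0) : f ∈ T := by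
  classical
  by_cases hne : f.vars.Nonempty
  · let i := f.vars.max' hne
    have hi : i ∈ S := (mem_supported.1 hf) (f.vars.max'_mem hne)
    refine h i hi f ?_ hev
    exact supported_mono (fun l hl => Set.mem_Iic.2 (f.vars.le_max' l hl)) (mem_supported_vars f)
  · rw [Finset.not_nonempty_iff_eq_empty] at hne
    have h0 : f ∈ supported C (∅ : Set J) := by
      have := mem_supported_vars f
      rwa [hne, Finset.coe_empty] at this
    rw [supported_empty, Algebra.mem_bot] at h0
    obtain ⟨a, rfl⟩ := h0
    exact hconst a hev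

variable [WellFoundedLT J]

/-- **The kernel of the evaluation.** -/
theorem Datum.ker_eq (hF : ∀ j, ev (D.F j) = 0)
    (hmin : ∀ (j : J) (r : ℕ → MvPolynomial J C), (∀ e, r e ∈ supported C (Set.Iio j)) →
      ∑ e ∈ Finset.range (D.d j), ev (r e) * ev (X j) ^ e = 0 →
        ∀ e ∈ Finset.range (D.d j), ev (r e) = 0) :
    RingHom.ker ev = D.I ⊔ Ideal.map MvPolynomial.C (RingHom.ker (ev.comp MvPolynomial.C)) := by
  set T : Ideal (MvPolynomial J C) :=
    D.I ⊔ Ideal.map MvPolynomial.C (RingHom.ker (ev.comp MvPolynomial.C)) with hT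
  have hconst : ∀ a : C, ev (MvPolynomial.C a) = 0 → MvPolynomial.C a ∈ T := fun a ha =>
    Ideal.mem_sup_right (Ideal.mem_map_of_mem _ ha)
  have hP : ∀ j : J, ∀ f ∈ supported C (Set.Iic j), ev f = 0 → f ∈ T := by
    intro j
    induction j using WellFoundedLT.induction with
    | _ j ih =>
      intro f hf hev
      have hlt : ∀ g ∈ supported C (Set.Iio j), ev g = 0 → g ∈ T := fun g hg hg0 =>
        mem_of_forall_Iic ev T hconst (Set.Iio j) (fun i hi => ih i hi) hg hg0
      obtain ⟨q, r, hr, rfl⟩ := D.exists_div j hf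
      have h0 : ∑ e ∈ Finset.range (D.d j), ev (r e) * ev (X j) ^ e = 0 := by
        rw [map_add, map_mul, hF, mul_zero, zero_add, map_sum] at hev
        rw [← hev]
        refine Finset.sum_congr rfl (fun e _ => ?_)
        rw [map_mul, map_pow]
      have h1 := hmin j r hr h0
      refine T.add_mem (Ideal.mem_sup_left (Ideal.mul_mem_left _ _ (D.F_mem_I j))) ?_
      exact Ideal.sum_mem _ (fun e he => Ideal.mul_mem_right _ _ (hlt _ (hr e) (h1 e he)))
  apply le_antisymm
  · intro f hf
    refine mem_of_forall_Iic ev T hconst Set.univ (fun i _ => hP i) ?_ hf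
    rw [supported_univ]
    trivial
  · rw [hT]
    refine sup_le ?_ ?_
    · rw [Datum.I, Ideal.span_le]
      rintro _ ⟨j, rfl⟩
      exact hF j
    · rw [Ideal.map_le_iff_le_comap]
      intro a ha
      exact ha

end Residue

end Groth.Agent.Lib.Helper24.Tower

end
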