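import Mathlib
import Groth.Agent.Lib.Helper24.Tower3

/-!
# Towers of monic one-variable extensions, part 4: the algebraic step of EGA 0_III 10.3.1 (helper24)

`R` a local ring with residue field `k`, `K/k` an algebraic field extension. Well-order `K`, and for
`j ∈ K` lift the minimal polynomial of `j` over `k(i : i < j)` to a polynomial `F j` monic in `X_j`
with lower coefficients in `R[X_i : i < j]`. Then `B = R[X_j : j ∈ K]/(F j)` is flat over `R`
and `B / 𝔪 B = K`.
-/

set_option autoImplicit false

noncomputable section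

namespace Groth.Agent.Lib.Helper24.Tower

open MvPolynomial IsLocalRing

universe u

/-- The index type: the field `K` with a well-order. -/
def Idx (K : Type u) : Type u := K

instance (K : Type u) : LinearOrder (Idx K) :=
  @IsWellOrder.linearOrder K WellOrderingRel WellOrderingRel.isWellOrder

instance (K : Type u) : WellFoundedLT (Idx K) :=
  ⟨(WellOrderingRel.isWellOrder (α := K)).wf⟩

/-- The underlying element. -/
def Idx.val {K : Type u} (j : Idx K) : K := j

section

variable (R : Type u) [CommRing R] [IsLocalRing R] (K : Type u) [Field K]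
  [Algebra (ResidueField R) K]

/-- The map `R → k → K`. -/
def toK : R →+* K := (algebraMap (ResidueField R) K).comp (residue R)

/-- The evaluation `R[X_j : j ∈ K] → K`. -/
def ev : MvPolynomial (Idx K) R →+* K := eval₂Hom (toK R K) Idx.val

@[simp] theorem ev_X (j : Idx K) : ev R K (X j) = j.val := by simp [ev]

@[simp] theorem ev_C (a : R) : ev R K (MvPolynomial.C a) = toK R K a := by simp [ev]

theorem ev_surjective : Function.Surjective (ev R K) := fun y => ⟨X (show Idx K from y), by rw [ev_X]; rfl⟩

theorem ev_mem_adjoin (S : Set (Idx K)) {f : MvPolynomial (Idx K) R} (hf : f ∈ supported R S) :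
    ev R K f ∈ Algebra.adjoin (ResidueField R) (Idx.val '' S) := by
  rw [supported_eq_adjoin_X] at hf
  induction hf using Algebra.adjoin_induction with
  | mem x hx =>
    obtain ⟨i, hi, rfl⟩ := hx
    rw [ev_X]
    exact Algebra.subset_adjoin ⟨i, hi, rfl⟩
  | algebraMap r =>
    rw [MvPolynomial.algebraMap_eq, ev_C]
    exact Subalgebra.algebraMap_mem _ _
  | add x y _ _ hx hy => rw [map_add]; exact Subalgebra.add_mem _ hx hy
  | mul x y _ _ hx hy => rw [map_mul]; exact Subalgebra.mul_mem _ hx hy

theorem exists_ev_eq (S : Set (Idx K)) {y : K}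
    (hy : y ∈ Algebra.adjoin (ResidueField R) (Idx.val '' S)) :
    ∃ f ∈ supported R S, ev R K f = y := by
  induction hy using Algebra.adjoin_induction with
  | mem x hx =>
    obtain ⟨i, hi, rfl⟩ := hx
    refine ⟨X i, ?_, ev_X R K i⟩
    rw [supported_eq_adjoin_X]
    exact Algebra.subset_adjoin ⟨i, hi, rfl⟩
  | algebraMap a =>
    obtain ⟨r, rfl⟩ := residue_surjective a
    exact ⟨MvPolynomial.C r, Subalgebra.algebraMap_mem _ r, ev_C R K r⟩
  | add x y _ _ hx hy =>
    obtain ⟨f, hf, rfl⟩ := hx
    obtain ⟨g, hg, rfl⟩ := hy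
    exact ⟨f + g, Subalgebra.add_mem _ hf hg, map_add _ _ _⟩
  | mul x y _ _ hx hy =>
    obtain ⟨f, hf, rfl⟩ := hx
    obtain ⟨g, hg, rfl⟩ := hy
    exact ⟨f * g, Subalgebra.mul_mem _ hf hg, map_mul _ _ _⟩

variable [Algebra.IsAlgebraic (ResidueField R) K]

/-- The field generated by the earlier elements. -/
def Lf (j : Idx K) : IntermediateField (ResidueField R) K :=
  IntermediateField.adjoin (ResidueField R) (Idx.val '' Set.Iio j)

theorem mem_Lf_iff (j : Idx K) (y : K) :
    y ∈ Lf R K j ↔ y ∈ Algebra.adjoin (ResidueField R) (Idx.val '' Set.Iio j) := by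
  rw [← IntermediateField.adjoin_toSubalgebra (F := ResidueField R) (E := K)
    (Idx.val '' Set.Iio j)]
  rfl

/-- The minimal polynomial of `j` over the earlier elements. -/
def mp (j : Idx K) : Polynomial (Lf R K j) := minpoly (Lf R K j) j.val

theorem isIntegral_val (j : Idx K) : IsIntegral (Lf R K j) j.val :=
  (Algebra.IsIntegral.isIntegral (R := ResidueField R) j.val).tower_top

theorem exists_coeff (j : Idx K) (e : ℕ) :
    ∃ f ∈ supported R (Set.Iio j), ev R K f = ((mp R K j).coeff e : K) :=
  exists_ev_eq R K (Set.Iio j) ((mem_Lf_iff R K j _).1 ((mp R K j).coeff e).2)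

/-- The tower datum attached to `K/k`. -/
def datum : Datum R (Idx K) where
  d j := (mp R K j).natDegree
  c j e := (exists_coeff R K j e).choose
  hc j e := (exists_coeff R K j e).choose_spec.1

theorem ev_c (j : Idx K) (e : ℕ) :
    ev R K ((datum R K).c j e) = ((mp R K j).coeff e : K) :=
  (exists_coeff R K j e).choose_spec.2

theorem ev_F (j : Idx K) : ev R K ((datum R K).F j) = 0 := by
  have h0 : Polynomial.aeval j.val (mp R K j) = 0 := minpoly.aeval _ _
  have hmonic : (mp R K j).Monic := minpoly.monic (isIntegral_val R K j)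
  rw [Polynomial.aeval_eq_sum_range, Finset.sum_range_succ,
    hmonic.coeff_natDegree, one_smul] at h0
  rw [Datum.F, monicIn, map_add, map_pow, ev_X, map_sum, add_comm]
  rw [← h0]
  congr 1
  refine Finset.sum_congr rfl (fun e _ => ?_)
  rw [map_mul, map_pow, ev_X, ev_c]
  rfl

theorem ev_min (j : Idx K) (r : ℕ → MvPolynomial (Idx K) R)
    (hr : ∀ e, r e ∈ supported R (Set.Iio j))
    (h0 : ∑ e ∈ Finset.range ((datum R K).d j), ev R K (r e) * ev R K (X j) ^ e = 0) :
    ∀ e ∈ Finset.range ((datum R K).d j), ev R K (r e) = 0 := by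
  have hmem : ∀ e, ev R K (r e) ∈ Lf R K j := fun e =>
    (mem_Lf_iff R K j _).2 (ev_mem_adjoin R K (Set.Iio j) (hr e))
  have hli := linearIndependent_pow (K := Lf R K j) j.val
  rw [Fintype.linearIndependent_iff] at hli
  have h1 := hli (fun i => ⟨ev R K (r i), hmem i⟩) (by
    rw [Finset.sum_range] at h0
    rw [← h0]
    refine Finset.sum_congr rfl (fun i _ => ?_)
    rw [ev_X]
    rfl)
  intro e he
  have := h1 ⟨e, Finset.mem_range.1 he⟩
  exact congrArg Subtype.val this

omit [Algebra.IsAlgebraic (ResidueField R) K] in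
theorem ker_toK : RingHom.ker (toK R K) = maximalIdeal R := by
  ext a
  rw [RingHom.mem_ker, toK, RingHom.comp_apply, map_eq_zero, residue_eq_zero_iff]

theorem ker_ev : RingHom.ker (ev R K) =
    (datum R K).I ⊔ Ideal.map MvPolynomial.C (maximalIdeal R) := by
  have h := (datum R K).ker_eq (ev R K) (ev_F R K) (ev_min R K)
  have hc : (ev R K).comp MvPolynomial.C = toK R K := by
    ext a
    simp
  rw [hc, ker_toK] at h
  exact h

end

set_option backward.isDefEq.respectTransparency false in
/-- **The algebraic step.** For a local ring `R` with residue field `k` and an algebraic field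
extension `K/k` there is a flat `R`-algebra `B` with a surjection `φ : B → K` extending `R → k → K`
whose kernel is `𝔪 B`. -/
theorem exists_algebraic_step (R : Type u) [CommRing R] [IsLocalRing R] (K : Type u) [Field K]
    [Algebra (ResidueField R) K] [Algebra.IsAlgebraic (ResidueField R) K] :
    ∃ (B : Type u) (_ : CommRing B) (_ : Algebra R B) (φ : B →+* K),
      Module.Flat R B ∧ Function.Surjective φ ∧
        RingHom.ker φ = (maximalIdeal R).map (algebraMap R B) ∧
          ∀ a : R, φ (algebraMap R B a) = algebraMap (ResidueField R) K (residue R a) := by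
  let D := datum R K
  have hI : D.I ≤ RingHom.ker (ev R K) := by
    rw [ker_ev]
    exact le_sup_left
  refine ⟨MvPolynomial (Idx K) R ⧸ D.I, inferInstance, inferInstance,
    Ideal.Quotient.lift D.I (ev R K) hI, D.flat, ?_, ?_, ?_⟩
  · exact Ideal.Quotient.lift_surjective_of_surjective _ _ (ev_surjective R K)
  · rw [Ideal.ker_quotient_lift, ker_ev, Ideal.map_sup, Ideal.map_quotient_self, bot_sup_eq,
      Ideal.map_map]
    rfl
  · intro a
    show Ideal.Quotient.lift D.I (ev R K) _ (Ideal.Quotient.mk D.I (MvPolynomial.C a)) = _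
    rw [Ideal.Quotient.lift_mk, ev_C]
    rfl

end Groth.Agent.Lib.Helper24.Tower

end
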