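import Mathlib
import Groth.Agent.Lib.Helper24.Tower4

/-!
# EGA 0_III 10.3.1 without Noetherian hypotheses (helper24)

For a local ring `R` with residue field `k` and any field extension `K/k` there is a flat local
`R`-algebra `R'` with `𝔪 R' = 𝔪'` and residue field `K` (`exists_flat_local`).
-/

set_option autoImplicit false

noncomputable section

namespace Groth.Agent.Lib.Helper24.Tower

open MvPolynomial IsLocalRing

universe u

/-- **Localization step.** -/
theorem loc_step (R : Type u) [CommRing R] [IsLocalRing R] (K : Type u) [Field K]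
    (B : Type u) [CommRing B] [Algebra R B] [Module.Flat R B] (φ : B →+* K)
    (hφ : RingHom.ker φ = (maximalIdeal R).map (algebraMap R B)) :
    ∃ (R' : Type u) (_ : CommRing R') (_ : IsLocalRing R') (_ : Algebra R R') (ι : B →+* R')
      (toK' : R' →+* K),
      IsLocalHom (algebraMap R R') ∧ Module.Flat R R' ∧
        (maximalIdeal R).map (algebraMap R R') = maximalIdeal R' ∧
          RingHom.ker toK' = maximalIdeal R' ∧ algebraMap R R' = ι.comp (algebraMap R B) ∧
            toK'.comp ι = φ ∧ (Function.Surjective φ → Function.Surjective toK') := by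
  haveI hP : (RingHom.ker φ).IsPrime := RingHom.ker_isPrime φ
  let P := RingHom.ker φ
  let R' := Localization.AtPrime P
  have hunit : ∀ y : P.primeCompl, IsUnit (φ y) := fun y =>
    isUnit_iff_ne_zero.2 (fun h => y.2 (RingHom.mem_ker.2 h))
  let toK' : R' →+* K := IsLocalization.lift (M := P.primeCompl) (g := φ) hunit
  have htoK' : ∀ b : B, toK' (algebraMap B R' b) = φ b := fun b =>
    IsLocalization.lift_eq hunit b
  have hmax : (maximalIdeal R).map (algebraMap R R') = maximalIdeal R' := by
    rw [IsScalarTower.algebraMap_eq R B R', ← Ideal.map_map, ← hφ]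
    exact Localization.AtPrime.map_eq_maximalIdeal
  refine ⟨R', inferInstance, inferInstance, inferInstance, algebraMap B R', toK', ?_, ?_, hmax,
    ?_, IsScalarTower.algebraMap_eq R B R', RingHom.ext htoK', ?_⟩
  · constructor
    intro a ha
    by_contra hna
    have h1 : a ∈ maximalIdeal R := hna
    have h2 : algebraMap R R' a ∈ maximalIdeal R' := by
      rw [← hmax]
      exact Ideal.mem_map_of_mem _ h1
    exact h2 ha
  · haveI : Module.Flat B R' := IsLocalization.flat R' P.primeCompl
    exact Module.Flat.trans R B R'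
  · apply le_antisymm
    · exact IsLocalRing.le_maximalIdeal (RingHom.ker_ne_top toK')
    · rw [← Localization.AtPrime.map_eq_maximalIdeal (I := P), Ideal.map_le_iff_le_comap]
      intro b hb
      rw [Ideal.mem_comap, RingHom.mem_ker, htoK']
      exact hb
  · intro hs y
    obtain ⟨b, rfl⟩ := hs y
    exact ⟨algebraMap B R' b, htoK' b⟩

section Transcendental

variable (R : Type u) [CommRing R] [IsLocalRing R] (K : Type u) [Field K]
  [Algebra (ResidueField R) K]

/-- The kernel of the evaluation at an algebraically independent family is `𝔪 R[X_T]`. -/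
theorem ker_eval₂Hom_of_algebraicIndependent {T : Type u} (x : T → K)
    (hx : AlgebraicIndependent (ResidueField R) x) :
    RingHom.ker (eval₂Hom (toK R K) x) =
      (maximalIdeal R).map (algebraMap R (MvPolynomial T R)) := by
  have hfac : eval₂Hom (toK R K) x =
      ((aeval x : MvPolynomial T (ResidueField R) →ₐ[ResidueField R] K) : _ →+* K).comp
        (MvPolynomial.map (residue R)) := by
    refine MvPolynomial.ringHom_ext (fun a => ?_) (fun i => ?_)
    · simp [toK]
    · simp
  ext p
  rw [RingHom.mem_ker, hfac, RingHom.comp_apply]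
  have hinj : Function.Injective (aeval x : MvPolynomial T (ResidueField R) →ₐ[ResidueField R] K) :=
    hx
  rw [show ((aeval x : MvPolynomial T (ResidueField R) →ₐ[ResidueField R] K) : _ →+* K)
      (MvPolynomial.map (residue R) p) = aeval x (MvPolynomial.map (residue R) p) from rfl,
    map_eq_zero_iff _ hinj, ← RingHom.mem_ker, MvPolynomial.ker_map, IsLocalRing.ker_residue]
  rfl

end Transcendental

/-- **EGA 0_III 10.3.1, general form** (no Noetherian hypothesis): a flat local extension with
`𝔪 R' = 𝔪'` and prescribed residue field, with the identification of the residue field given by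
a surjection `toK' : R' → K` with kernel `𝔪'`. -/
theorem exists_flat_local (R : Type u) [CommRing R] [IsLocalRing R] (K : Type u) [Field K]
    [Algebra (ResidueField R) K] :
    ∃ (R' : Type u) (_ : CommRing R') (_ : IsLocalRing R') (_ : Algebra R R') (toK' : R' →+* K),
      IsLocalHom (algebraMap R R') ∧ Module.Flat R R' ∧
        (maximalIdeal R).map (algebraMap R R') = maximalIdeal R' ∧
          Function.Surjective toK' ∧ RingHom.ker toK' = maximalIdeal R' ∧
            ∀ a : R, toK' (algebraMap R R' a) = algebraMap (ResidueField R) K (residue R a) := by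
  -- Step 1: transcendence basis
  obtain ⟨T, hT⟩ := exists_isTranscendenceBasis (ResidueField R) K
  let B₁ := MvPolynomial T R
  let φ₁ : B₁ →+* K := eval₂Hom (toK R K) (Subtype.val : T → K)
  have hφ₁ : RingHom.ker φ₁ = (maximalIdeal R).map (algebraMap R B₁) :=
    ker_eval₂Hom_of_algebraicIndependent R K _ hT.1
  obtain ⟨R₁, _, _, _, ι₁, toK₁, hloc₁, hflat₁, hmax₁, hker₁, halg₁, hcomp₁, -⟩ :=
    loc_step R K B₁ φ₁ hφ₁
  have htoK₁ : ∀ a : R, toK₁ (algebraMap R R₁ a) = toK R K a := by
    intro a
    rw [halg₁, RingHom.comp_apply, ← RingHom.comp_apply toK₁ ι₁, hcomp₁]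
    simp [φ₁, B₁]
  haveI : IsLocalHom toK₁ := by
    constructor
    intro a ha
    by_contra hna
    have h1 : a ∈ maximalIdeal R₁ := hna
    rw [← hker₁, RingHom.mem_ker] at h1
    rw [h1] at ha
    exact not_isUnit_zero ha
  letI algK₁ : Algebra (ResidueField R₁) K := (ResidueField.lift toK₁).toAlgebra
  have halgK₁ : ∀ y : R₁, algebraMap (ResidueField R₁) K (residue R₁ y) = toK₁ y := fun y => rfl
  haveI : IsScalarTower (ResidueField R) (ResidueField R₁) K := by
    refine IsScalarTower.of_algebraMap_eq (fun x => ?_)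
    obtain ⟨a, rfl⟩ := residue_surjective x
    rw [ResidueField.algebraMap_residue, halgK₁, htoK₁]
    rfl
  haveI : Algebra.IsAlgebraic (ResidueField R₁) K := by
    rw [hT.isAlgebraic_iff]
    intro t
    have : (t : K) = algebraMap (ResidueField R₁) K (residue R₁ (ι₁ (X t))) := by
      rw [halgK₁, ← RingHom.comp_apply toK₁ ι₁, hcomp₁]
      exact (eval₂Hom_X' _ _ _).symm
    rw [this]
    exact isAlgebraic_algebraMap _
  -- Step 2: the algebraic tower
  obtain ⟨B₂, _, _, φ₂, hflat₂, hsurj₂, hφ₂, hcomp₂⟩ := exists_algebraic_step R₁ K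
  obtain ⟨R₂, _, _, _, ι₂, toK₂, hloc₂, hflat₂', hmax₂, hker₂, halg₂, hcomp₂', hsurj₂'⟩ :=
    loc_step R₁ K B₂ φ₂ hφ₂
  have htoK₂ : ∀ y : R₁, toK₂ (algebraMap R₁ R₂ y) = toK₁ y := by
    intro y
    rw [halg₂, RingHom.comp_apply, ← RingHom.comp_apply toK₂ ι₂, hcomp₂', hcomp₂, halgK₁]
  letI : Algebra R R₂ := ((algebraMap R₁ R₂).comp (algebraMap R R₁)).toAlgebra
  haveI : IsScalarTower R R₁ R₂ := IsScalarTower.of_algebraMap_eq (fun _ => rfl)
  refine ⟨R₂, inferInstance, inferInstance, inferInstance, toK₂, ?_, ?_, ?_, hsurj₂' hsurj₂,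
    hker₂, ?_⟩
  · show IsLocalHom ((algebraMap R₁ R₂).comp (algebraMap R R₁))
    exact RingHom.isLocalHom_comp _ _
  · exact Module.Flat.trans R R₁ R₂
  · rw [IsScalarTower.algebraMap_eq R R₁ R₂, ← Ideal.map_map, hmax₁, hmax₂]
  · intro a
    rw [IsScalarTower.algebraMap_apply R R₁ R₂, htoK₂, htoK₁]
    rfl

end Groth.Agent.Lib.Helper24.Tower

end
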