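import Mathlib
import Groth.Agent.Lib.Helper8.LocalFlat

/-!
# Flatness of the adic completion of a flat algebra over a Noetherian ring (helper24)

`A` Noetherian, `R'` a flat `A`-algebra (not necessarily Noetherian), `I = 𝔞 R'` finitely generated
with Noetherian `I`-adic completion `B` such that `𝔞 B` lies in the Jacobson radical.
Then `B` is flat over `A`.
-/

set_option autoImplicit false

noncomputable section

namespace Groth.Agent.Lib.Helper24.Tower

open TensorProduct

universe u

section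

variable {A R' : Type u} [CommRing A] [CommRing R'] [Algebra A R']

/-- `𝔞ᵏ N` as an `A`-submodule is `(𝔞 R')ᵏ N`. -/
theorem pow_smul_top_restrictScalars (𝔞 : Ideal A) (I : Ideal R')
    (hI : 𝔞.map (algebraMap A R') = I) (N : Type*) [AddCommGroup N] [Module A N] [Module R' N]
    [IsScalarTower A R' N] (k : ℕ) :
    ((I ^ k • ⊤ : Submodule R' N)).restrictScalars A = (𝔞 ^ k • ⊤ : Submodule A N) := by
  rw [← hI, ← Ideal.map_pow, Ideal.smul_restrictScalars, Submodule.restrictScalars_top]

/-- `B / 𝔞ᵏ B ≃ R' / 𝔞ᵏ R'` for the `I`-adic completion `B` of `R'`, `I = 𝔞 R'`. -/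
def quotEquivCompletion (𝔞 : Ideal A) (I : Ideal R') (hI : 𝔞.map (algebraMap A R') = I)
    (hfg : I.FG) (k : ℕ) :
    (AdicCompletion I R' ⧸ (𝔞 ^ k • ⊤ : Submodule A (AdicCompletion I R'))) ≃ₗ[A]
      R' ⧸ (𝔞 ^ k • ⊤ : Submodule A R') := by
  let g : AdicCompletion I R' →ₗ[A] R' ⧸ (I ^ k • ⊤ : Submodule R' R') :=
    (AdicCompletion.eval I R' k).restrictScalars A
  have hg : Function.Surjective g := AdicCompletion.eval_surjective I R' k
  have hker : LinearMap.ker g = (𝔞 ^ k • ⊤ : Submodule A (AdicCompletion I R')) := by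
    rw [← pow_smul_top_restrictScalars 𝔞 I hI (AdicCompletion I R') k,
      AdicCompletion.pow_smul_top_eq_ker_eval hfg]
    rfl
  exact (Submodule.quotEquivOfEq _ _ hker.symm).trans
    ((LinearMap.quotKerEquivOfSurjective g hg).trans
      ((Submodule.Quotient.restrictScalarsEquiv A (I ^ k • ⊤ : Submodule R' R')).symm.trans
        (Submodule.quotEquivOfEq _ _ (pow_smul_top_restrictScalars 𝔞 I hI R' k))))

variable [IsNoetherianRing A] [Module.Flat A R']

/-- **Flatness of the completion.** -/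
theorem flat_adicCompletion (𝔞 : Ideal A) (I : Ideal R') (hI : 𝔞.map (algebraMap A R') = I)
    (hfg : I.FG) [IsNoetherianRing (AdicCompletion I R')]
    (hjac : 𝔞.map (algebraMap A (AdicCompletion I R')) ≤ Ideal.jacobson ⊥) :
    Module.Flat A (AdicCompletion I R') := by
  refine Groth.Agent.Lib.helper8.LocalFlat.flat_of_forall_flat_quotient_pow
    (R := A) (S := AdicCompletion I R') (M := AdicCompletion I R') 𝔞 hjac ?_
  intro k _
  let f : ((A ⧸ 𝔞 ^ k) ⊗[A] R') ≃ₗ[A] ((A ⧸ 𝔞 ^ k) ⊗[A] AdicCompletion I R') :=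
    (TensorProduct.quotTensorEquivQuotSMul R' (𝔞 ^ k)).trans
      ((quotEquivCompletion 𝔞 I hI hfg k).symm.trans
        (TensorProduct.quotTensorEquivQuotSMul (AdicCompletion I R') (𝔞 ^ k)).symm)
  exact Groth.Agent.Lib.helper8.LocalFlat.flat_of_linearEquiv_of_surjective
    (R := A) (R₁ := A ⧸ 𝔞 ^ k) (R₂ := A ⧸ 𝔞 ^ k) Ideal.Quotient.mk_surjective
    Ideal.Quotient.mk_surjective le_rfl f

end

end Groth.Agent.Lib.Helper24.Tower

end
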