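import Mathlib
import Groth.Agent.Lib.Helper24.Tower5
import Groth.Agent.Lib.Helper24.Tower6
import Groth.Agent.S0542

/-!
# EGA 0_III 10.3.1, complete Noetherian form (helper24)

For a Noetherian local ring `A` with residue field `k` and any field extension `K/k` there is a
complete Noetherian local ring `B`, flat over `A` via a local homomorphism, with `𝔪_A B = 𝔪_B` and
residue field `K`.
-/

set_option autoImplicit false

noncomputable section

namespace Groth.Agent.Lib.Helper24.Tower

open IsLocalRing

universe u

theorem exists_flat_complete_local (A : Type u) [CommRing A] [IsNoetherianRing A] [IsLocalRing A]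
    (K : Type u) [Field K] [Algebra (ResidueField A) K] :
    ∃ (B : Type u) (_ : CommRing B) (_ : IsLocalRing B) (_ : Algebra A B),
      IsNoetherianRing B ∧ IsLocalHom (algebraMap A B) ∧ Module.Flat A B ∧
        (maximalIdeal A).map (algebraMap A B) = maximalIdeal B ∧
          IsAdicComplete (maximalIdeal B) B ∧
            ∃ e : ResidueField B ≃+* K, ∀ a : A,
              e (residue B (algebraMap A B a)) = algebraMap (ResidueField A) K (residue A a) := by
  obtain ⟨R', _, _, _, toK', hloc, hflat, hmax, hsurj, hker, hcompat⟩ := exists_flat_local A K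
  have hfg : (maximalIdeal R').FG := by
    rw [← hmax]
    exact Ideal.FG.map (IsNoetherian.noetherian _) _
  haveI hlocB : IsLocalRing (AdicCompletion (maximalIdeal R') R') :=
    AdicCompletion.isLocalRing_of_fg hfg
  haveI : IsNoetherianRing (R' ⧸ maximalIdeal R') :=
    (inferInstance : IsNoetherianRing (ResidueField R'))
  haveI hnoeth : IsNoetherianRing (AdicCompletion (maximalIdeal R') R') :=
    Groth.Agent.S0542.result R' (maximalIdeal R') hfg
  have hmaxB : (maximalIdeal A).map (algebraMap A (AdicCompletion (maximalIdeal R') R')) =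
      maximalIdeal (AdicCompletion (maximalIdeal R') R') := by
    rw [IsScalarTower.algebraMap_eq A R' (AdicCompletion (maximalIdeal R') R'),
      ← Ideal.map_map, hmax, AdicCompletion.maximalIdeal_eq_map_of_fg hfg]
  haveI hlocR' : IsLocalHom (algebraMap R' (AdicCompletion (maximalIdeal R') R')) :=
    AdicCompletion.algebraMap_isLocalHom_of_fg hfg
  refine ⟨AdicCompletion (maximalIdeal R') R', inferInstance, hlocB, inferInstance,
    hnoeth, ?_, ?_, hmaxB, AdicCompletion.isAdicComplete_of_fg hfg, ?_⟩
  · rw [IsScalarTower.algebraMap_eq A R' (AdicCompletion (maximalIdeal R') R')]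
    exact RingHom.isLocalHom_comp _ _
  · refine flat_adicCompletion (maximalIdeal A) (maximalIdeal R') hmax hfg ?_
    rw [hmaxB, IsLocalRing.jacobson_eq_maximalIdeal ⊥ bot_ne_top]
  · let e₁ : ResidueField R' ≃+* ResidueField (AdicCompletion (maximalIdeal R') R') :=
      RingEquiv.ofBijective _ (AdicCompletion.residueField_map_bijective_of_fg hfg)
    let e₀ : ResidueField R' ≃+* K :=
      (Ideal.quotEquivOfEq hker.symm).trans (RingHom.quotientKerEquivOfSurjective hsurj)
    have he₀ : ∀ y : R', e₀ (residue R' y) = toK' y := fun y => rfl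
    refine ⟨e₁.symm.trans e₀, fun a => ?_⟩
    have h2 : residue _ (algebraMap A (AdicCompletion (maximalIdeal R') R') a) =
        e₁ (residue R' (algebraMap A R' a)) := by
      rw [IsScalarTower.algebraMap_apply A R' (AdicCompletion (maximalIdeal R') R')]
      rfl
    rw [RingEquiv.trans_apply, h2, RingEquiv.symm_apply_apply, he₀, hcompat]

end Groth.Agent.Lib.Helper24.Tower

end
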