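import Groth.Agent.S2456
import Groth.Agent.S0578

/-!
# Coefficient rings of complete Noetherian local rings (helper24)

`exists_coeff_ring`: every complete Noetherian local ring `R` receives a local homomorphism
`v : W → R` from a Cohen ring in the EGA sense (`W` a field of characteristic zero, or a complete
DVR with uniformizer `p`) inducing an isomorphism on residue fields.  (Cohen structure theorem,
existence of coefficient rings; EGA 0_IV 19.8.8.)
-/

set_option autoImplicit false
universe u

namespace Groth.Agent.Lib.Helper24.CohenCoeff

open IsLocalRing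

theorem residue_bijective_of_isField (F : Type*) [CommRing F] [IsLocalRing F] (hF : IsField F) :
    Function.Bijective (residue F) := by
  refine ⟨?_, IsLocalRing.residue_surjective⟩
  rw [injective_iff_map_eq_zero]
  intro x hx
  have h1 : x ∈ maximalIdeal F := (IsLocalRing.residue_eq_zero_iff x).1 hx
  rw [IsLocalRing.isField_iff_maximalIdeal_eq.1 hF] at h1
  exact h1

theorem exists_coeff_ring (R : Type u) [CommRing R] [IsLocalRing R] [IsNoetherianRing R]
    [IsAdicComplete (maximalIdeal R) R] :
    ∃ (W : Type u) (_ : CommRing W) (_ : IsLocalRing W), EGA41.IsCohenRingEGA W ∧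
      IsNoetherianRing W ∧ IsAdicComplete (maximalIdeal W) W ∧
      ∃ (v : W →+* R) (e : ResidueField W ≃+* ResidueField R), IsLocalHom v ∧
        ∀ a, residue R (v a) = e (residue W a) := by
  classical
  haveI : IsLocalRing (R ⧸ maximalIdeal R) := inferInstanceAs (IsLocalRing (ResidueField R))
  have hJ : maximalIdeal R ≠ ⊤ := (IsLocalRing.maximalIdeal.isMaximal R).ne_top
  rcases Nat.eq_zero_or_pos (ringChar (ResidueField R)) with h0 | hpos
  · -- residue characteristic zero
    haveI : CharZero (ResidueField R) := (CharP.ringChar_zero_iff_CharZero _).1 h0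
    have hW : EGA41.IsCohenRingEGA (ResidueField R) :=
      Or.inl ⟨Field.toIsField _, inferInstance⟩
    have hc : IsAdicComplete (maximalIdeal (ResidueField R)) (ResidueField R) := by
      rw [IsLocalRing.maximalIdeal_eq_bot]; infer_instance
    let u : ResidueField R →+* R ⧸ maximalIdeal R := RingHom.id _
    haveI : IsLocalHom u := ⟨fun a ha => ha⟩
    obtain ⟨v, hvloc, hv⟩ := Groth.Agent.S2456.result hW (maximalIdeal R) hJ u
    let e := RingEquiv.ofBijective (residue (ResidueField R))
      (residue_bijective_of_isField _ (Field.toIsField _))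
    refine ⟨ResidueField R, inferInstance, inferInstance, hW, inferInstance, hc, v, e.symm,
      hvloc, fun a => ?_⟩
    have h1 : e.symm (residue (ResidueField R) a) = a := e.symm_apply_apply a
    rw [h1]
    exact RingHom.congr_fun hv a
  · -- positive residue characteristic
    haveI hchar : CharP (ResidueField R) (ringChar (ResidueField R)) := ringChar.charP _
    have hprime : (ringChar (ResidueField R)).Prime :=
      (CharP.char_is_prime_or_zero (ResidueField R) _).resolve_right hpos.ne'
    haveI : Fact (ringChar (ResidueField R)).Prime := ⟨hprime⟩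
    obtain ⟨Λ, _, _, hΛ, ⟨e⟩⟩ :=
      Groth.Agent.S0578.result (ringChar (ResidueField R)) (ResidueField R)
    obtain ⟨hD, hDVR, hc, hrest⟩ := id hΛ
    let u : Λ →+* R ⧸ maximalIdeal R := (e : ResidueField Λ →+* ResidueField R).comp (residue Λ)
    haveI : IsLocalHom u := by
      refine ⟨fun a ha => ?_⟩
      have h3 : IsUnit (e (residue Λ a)) := ha
      have h4 : IsUnit (residue Λ a) := by
        have := h3.map e.symm
        rwa [RingEquiv.symm_apply_apply] at this
      exact isUnit_of_map_unit (residue Λ) a h4
    obtain ⟨v, hvloc, hv⟩ := Groth.Agent.S2456.result (Or.inr hΛ) (maximalIdeal R) hJ u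
    refine ⟨Λ, inferInstance, inferInstance, Or.inr hΛ, inferInstance, hc, v, e, hvloc,
      fun a => ?_⟩
    exact RingHom.congr_fun hv a

end Groth.Agent.Lib.Helper24.CohenCoeff
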