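import Mathlib

/-!
# Local homomorphisms between Cohen rings (helper24)

* `surjective_of_residue`: `v : W →+* W'`, `W` precomplete for `I`, `W'` Hausdorff for `I.map v`,
  and `v` surjective mod `I.map v` ⇒ `v` surjective (Mathlib's
  `surjective_of_mk_map_comp_surjective`, restated for local rings).
* `injective_of_dvr`: a ring hom out of a DVR with uniformizer `π` that does not kill powers of `π`
  and is local is injective.
* `bijective_of_cohen`: local hom of complete DVRs with the same uniformizer `p`, surjective on
  residue fields, is bijective.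
-/

set_option autoImplicit false

namespace Groth.Agent.Lib.Helper24.CohenIso

open IsLocalRing

theorem injective_of_dvr {W W' : Type*} [CommRing W] [IsDomain W] [IsDiscreteValuationRing W]
    [CommRing W'] [IsDomain W'] (π : W) (hm : maximalIdeal W = Ideal.span {π})
    (v : W →+* W') (hπ : v π ≠ 0) : Function.Injective v := by
  rw [injective_iff_map_eq_zero]
  intro x hx
  by_contra hx0
  have hirr : Irreducible π := (IsDiscreteValuationRing.irreducible_iff_uniformizer π).2 hm
  obtain ⟨n, u, rfl⟩ := IsDiscreteValuationRing.eq_unit_mul_pow_irreducible hx0 hirr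
  rw [map_mul, map_pow] at hx
  rcases mul_eq_zero.1 hx with h | h
  · exact ((u.isUnit.map v).ne_zero) h
  · exact hπ (eq_zero_of_pow_eq_zero h)

theorem surjective_of_residue {W W' : Type*} [CommRing W] [IsLocalRing W]
    [IsAdicComplete (maximalIdeal W) W] [CommRing W'] [IsLocalRing W']
    [IsAdicComplete (maximalIdeal W') W'] (v : W →+* W')
    (hmap : (maximalIdeal W).map v = maximalIdeal W')
    (hres : Function.Surjective ((residue W').comp v)) : Function.Surjective v := by
  haveI : IsHausdorff ((maximalIdeal W).map v) W' := by
    rw [hmap]; infer_instance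
  apply surjective_of_mk_map_comp_surjective (I := maximalIdeal W) v
  intro y
  obtain ⟨y, rfl⟩ := Ideal.Quotient.mk_surjective y
  obtain ⟨a, ha⟩ := hres (residue W' y)
  refine ⟨a, ?_⟩
  rw [RingHom.comp_apply, Ideal.Quotient.eq, hmap]
  rw [RingHom.comp_apply] at ha
  exact Ideal.Quotient.eq.1 ha

theorem bijective_of_cohen {W W' : Type*} [CommRing W] [IsDomain W] [IsDiscreteValuationRing W]
    [IsAdicComplete (maximalIdeal W) W] [CommRing W'] [IsDomain W']
    [IsDiscreteValuationRing W'] [IsAdicComplete (maximalIdeal W') W'] (p : ℕ)
    (hm : maximalIdeal W = Ideal.span {(p : W)}) (hm' : maximalIdeal W' = Ideal.span {(p : W')})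
    (v : W →+* W') (hres : Function.Surjective ((residue W').comp v)) :
    Function.Bijective v := by
  have hp' : (p : W') ≠ 0 := by
    intro h0
    have h1 : maximalIdeal W' = ⊥ := by rw [hm', h0, Ideal.span_singleton_eq_bot]
    exact IsDiscreteValuationRing.not_a_field W' h1
  refine ⟨injective_of_dvr (p : W) hm v (by rw [map_natCast]; exact hp'), ?_⟩
  apply surjective_of_residue v _ hres
  rw [hm, hm', Ideal.map_span, Set.image_singleton, map_natCast]

end Groth.Agent.Lib.Helper24.CohenIso
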