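import Groth.Agent.LibCR29g
import Groth.Agent.Lib.Helper24.CohenIso

/-!
# Surjections from power series rings over a complete local coefficient ring (helper24)

`exists_ps_surjective`: `W`, `R` complete Noetherian local rings, `v : W →+* R` surjective on
residue fields, `x : Fin n → R` with `𝔪_R = 𝔪_W R + (x)`.  Then there is a surjection
`f : W⟦X₁..Xₙ⟧ → R` extending `v` with `f Xᵢ = xᵢ`.  (Uses helper29's `exists_ps_algHom` and
`isAdicComplete_mvPowerSeries`.)
-/

set_option autoImplicit false
universe u

namespace Groth.Agent.Lib.Helper24.CohenPS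

open IsLocalRing

theorem exists_ps_surjective {W R : Type u} [CommRing W] [IsLocalRing W] [IsNoetherianRing W]
    [IsAdicComplete (maximalIdeal W) W] [CommRing R] [IsLocalRing R] [IsNoetherianRing R]
    [IsAdicComplete (maximalIdeal R) R] (v : W →+* R)
    (hres : Function.Surjective ((residue R).comp v)) (n : ℕ) (x : Fin n → R)
    (hx : maximalIdeal R = (maximalIdeal W).map v ⊔ Ideal.span (Set.range x)) :
    ∃ f : MvPowerSeries (Fin n) W →+* R, f.comp MvPowerSeries.C = v ∧
      (∀ i, f (MvPowerSeries.X i) = x i) ∧ Function.Surjective f ∧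
      (maximalIdeal (MvPowerSeries (Fin n) W)).map f = maximalIdeal R := by
  classical
  letI : Algebra W R := v.toAlgebra
  letI : Algebra W (ResidueField R) := ((residue R).comp v).toAlgebra
  let S : ArtFun.CRing W (ResidueField R) :=
    { carrier := R
      res := { (residue R) with commutes' := fun r => rfl }
      res_surjective := IsLocalRing.residue_surjective
      isAdicComplete := inferInstance }
  have hxm : ∀ i, x i ∈ maximalIdeal R := fun i => by
    rw [hx]; exact Ideal.mem_sup_right (Ideal.subset_span ⟨i, rfl⟩)
  have hvm : ∀ a ∈ maximalIdeal W, v a ∈ maximalIdeal R := fun a ha => by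
    rw [hx]; exact Ideal.mem_sup_left (Ideal.mem_map_of_mem _ ha)
  obtain ⟨G, hG⟩ := Groth.Agent.LibCR29.exists_ps_algHom S n x hxm
  let f : MvPowerSeries (Fin n) W →+* R := G.toRingHom
  have hfC : f.comp MvPowerSeries.C = v := by
    ext a
    have h1 := G.commutes a
    rw [MvPowerSeries.algebraMap_apply, Algebra.algebraMap_self, RingHom.id_apply] at h1
    exact h1
  have hfX : ∀ i, f (MvPowerSeries.X i) = x i := hG
  haveI := Groth.Agent.LibCR29.isAdicComplete_mvPowerSeries n W
  have hsurj : Function.Surjective ((residue R).comp f) := by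
    intro y
    obtain ⟨a, ha⟩ := hres y
    refine ⟨MvPowerSeries.C a, ?_⟩
    rw [← ha]
    show residue R (f.comp MvPowerSeries.C a) = _
    rw [hfC]
    rfl
  have hker : RingHom.ker ((residue R).comp f) = maximalIdeal (MvPowerSeries (Fin n) W) :=
    IsLocalRing.eq_maximalIdeal (RingHom.ker_isMaximal_of_surjective _ hsurj)
  have hmem : ∀ g, g ∈ maximalIdeal (MvPowerSeries (Fin n) W) ↔ f g ∈ maximalIdeal R := by
    intro g
    rw [← hker, RingHom.mem_ker, RingHom.comp_apply, IsLocalRing.residue_eq_zero_iff]
  have hmap : (maximalIdeal (MvPowerSeries (Fin n) W)).map f = maximalIdeal R := by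
    apply le_antisymm
    · rw [Ideal.map_le_iff_le_comap]
      intro g hg
      exact (hmem g).1 hg
    · rw [hx]
      refine sup_le ?_ ?_
      · rw [← hfC, ← Ideal.map_map]
        apply Ideal.map_mono
        rw [Ideal.map_le_iff_le_comap]
        intro a ha
        rw [Ideal.mem_comap, hmem]
        have : f (MvPowerSeries.C a) = v a := RingHom.congr_fun hfC a
        rw [this]
        exact hvm a ha
      · rw [Ideal.span_le]
        rintro _ ⟨i, rfl⟩
        rw [← hfX i]
        apply Ideal.mem_map_of_mem
        rw [hmem, hfX i]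
        exact hxm i
  exact ⟨f, hfC, hfX, Groth.Agent.Lib.Helper24.CohenIso.surjective_of_residue f hmap hsurj, hmap⟩

end Groth.Agent.Lib.Helper24.CohenPS
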