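import Mathlib
import Groth.Agent.S0580
import Groth.Agent.S9125
import Groth.Agent.Lib.Helper26.CMPoly3
import Groth.Agent.Lib.Helper26.Depth7
import Groth.Agent.Lib.Helper24.RegPS
import Groth.Agent.LibObs29d

/-!
# Complete Noetherian local rings are catenary (helper24)

* `isCatenary_of_isRegularLocalRing`: a regular local ring is catenary (it is Cohen–Macaulay);
* `isRegularLocalRing_mvPowerSeries_of_field_or_cohen`: `Λ[[x₁..xₙ]]` is regular for `Λ` a field or
  a Cohen ring;
* `isCatenary_of_complete_local`: a complete Noetherian local ring is catenary (Cohen structure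
  theorem `S0580` + quotients of catenary rings are catenary).
-/

set_option autoImplicit false
universe u

namespace Groth.Agent.Lib.Helper24.CplCatenary

open IsLocalRing LocCoh

theorem isCohenMacaulayModule_of_isRegularLocalRing (P : Type u) [CommRing P]
    [IsRegularLocalRing P] : IsCohenMacaulayModule P P := by
  unfold IsCohenMacaulayModule
  rw [Module.supportDim_self_eq_ringKrullDim]
  exact (Groth.Agent.Lib.helper26.Depth.depth_eq_ringKrullDim_of_isRegularLocalRing P).symm

theorem isCatenary_of_isRegularLocalRing (P : Type u) [CommRing P] [IsRegularLocalRing P] :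
    CAlg.IsCatenary P :=
  Groth.Agent.Lib.helper26.CMPoly.isCatenary_of_cm_local
    (isCohenMacaulayModule_of_isRegularLocalRing P)

theorem isRegularLocalRing_mvPowerSeries_of_field_or_cohen (Λ : Type u) [CommRing Λ]
    (hΛ : IsField Λ ∨ CAlg.IsCohenRing Λ) (n : ℕ) :
    IsRegularLocalRing (MvPowerSeries (Fin n) Λ) := by
  rcases hΛ with hF | hC
  · letI := hF.toField
    exact Groth.Agent.LibObs29.isRegularLocalRing_mvPowerSeries Λ n
  · obtain ⟨hd, hdvr, hc, p, hp, hm⟩ := hC
    exact Groth.Agent.Lib.Helper24.RegPS.isRegularLocalRing_mvPowerSeries Λ (p : Λ) hm n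

/-- A complete Noetherian local ring is a quotient of a regular local ring. -/
theorem exists_regular_surjective (R : Type u) [CommRing R] [IsLocalRing R] [IsNoetherianRing R]
    [IsAdicComplete (maximalIdeal R) R] :
    ∃ (P : Type u) (_ : CommRing P) (_ : IsRegularLocalRing P) (f : P →+* R),
      Function.Surjective f := by
  obtain ⟨Λ, _, n, f, hΛ, hf⟩ :=
    Groth.Agent.S0580.result R (maximalIdeal R).fg_of_isNoetherianRing
  exact ⟨MvPowerSeries (Fin n) Λ, inferInstance,
    isRegularLocalRing_mvPowerSeries_of_field_or_cohen Λ hΛ n, f, hf⟩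

/-- A complete Noetherian local ring is catenary. -/
theorem isCatenary_of_complete_local (R : Type u) [CommRing R] [IsLocalRing R] [IsNoetherianRing R]
    [IsAdicComplete (maximalIdeal R) R] : CAlg.IsCatenary R := by
  obtain ⟨P, _, hP, f, hf⟩ := exists_regular_surjective R
  have h1 := isCatenary_of_isRegularLocalRing P
  have h2 := Groth.Agent.S9125.result P (RingHom.ker f) h1
  exact Groth.Agent.Lib.helper26.CMPoly.isCatenary_of_ringEquiv
    (RingHom.quotientKerEquivOfSurjective hf) h2

end Groth.Agent.Lib.Helper24.CplCatenary
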