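import Mathlib

/-!
# Fibres of a localized ring map (helper24)

Setting: `A → B`, `S ⊆ A`, `A' = S⁻¹A`, `B' = S⁻¹B`.  For a prime `p'` of `A'` lying over `p` and a field
`K` over `κ(p')`: `K ⊗[κ(p')] p'.Fiber B'` is (iso to) a localization of `K ⊗[κ(p)] p.Fiber B`.
-/

set_option autoImplicit false
universe u

open TensorProduct

namespace Groth.Agent.Lib.Helper24.FibLoc

/-- A ring property stable under ring isomorphisms and localizations. -/
structure LocStable (P : ∀ (R : Type u) [CommRing R], Prop) : Prop where
  iso : ∀ (R R' : Type u) [CommRing R] [CommRing R'], (R ≃+* R') → P R → P R'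
  loc : ∀ (R R' : Type u) [CommRing R] [CommRing R'] [Algebra R R'] (M : Submonoid R)
    [IsLocalization M R'], P R → P R'

section

variable (A B : Type u) [CommRing A] [CommRing B] [Algebra A B] (S : Submonoid A)
  (A' B' : Type u) [CommRing A'] [CommRing B'] [Algebra A A'] [Algebra B B'] [Algebra A' B']
  [Algebra A B'] [IsScalarTower A A' B'] [IsScalarTower A B B'] [IsLocalization S A']
  [IsLocalization (Algebra.algebraMapSubmonoid B S) B']

include S in
/-- `K ⊗[A] B'` is a localization of `K ⊗[A] B`. -/
theorem tensor_loc {P : ∀ (R : Type u) [CommRing R], Prop} (hP : LocStable P)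
    (K : Type u) [CommRing K] [Algebra A K] (h : P (K ⊗[A] B)) : P (K ⊗[A] B') := by
  letI : Algebra (K ⊗[A] B) (K ⊗[A] B') :=
    (Algebra.TensorProduct.map (AlgHom.id K K) (IsScalarTower.toAlgHom A B B')).toRingHom.toAlgebra
  haveI : IsScalarTower K (K ⊗[A] B) (K ⊗[A] B') :=
    IsScalarTower.of_algebraMap_eq' (by
      ext x
      simp [RingHom.algebraMap_toAlgebra])
  have H : (algebraMap (K ⊗[A] B) (K ⊗[A] B')).comp
      (Algebra.TensorProduct.includeRight (R := A) (A := K) (B := B)).toRingHom =
      (Algebra.TensorProduct.includeRight (R := A) (A := K) (B := B')).toRingHom.comp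
        (algebraMap B B') := by
    ext x
    simp [RingHom.algebraMap_toAlgebra]
  haveI := IsLocalization.tensorProduct_tensorProduct_right A K
    (Algebra.algebraMapSubmonoid B S) B' H
  exact hP.loc (K ⊗[A] B) (K ⊗[A] B')
    ((Algebra.algebraMapSubmonoid B S).map
      (Algebra.TensorProduct.includeRight (R := A) (A := K))) h

include S in
/-- Main transfer: `P (K ⊗[κ(p)] p.Fiber B) → P (K ⊗[κ(p')] p'.Fiber B')`. -/
theorem transfer {P : ∀ (R : Type u) [CommRing R], Prop} (hP : LocStable P)
    (p' : Ideal A') [p'.IsPrime] (p : Ideal A) [p.IsPrime]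
    (K : Type u) [Field K] [Algebra A K] [Algebra A' K] [IsScalarTower A A' K]
    [Algebra p.ResidueField K] [IsScalarTower A p.ResidueField K]
    [Algebra p'.ResidueField K] [IsScalarTower A' p'.ResidueField K]
    (h : P (K ⊗[p.ResidueField] p.Fiber B)) : P (K ⊗[p'.ResidueField] p'.Fiber B') := by
  have h1 : P (K ⊗[A] B) :=
    hP.iso _ _ (Algebra.TensorProduct.cancelBaseChange A p.ResidueField K K B).toRingEquiv h
  have h2 : P (K ⊗[A] B') := tensor_loc A B S B' hP K h1
  have h3 : P (K ⊗[A'] B') :=
    hP.iso _ _ (IsLocalization.algebraTensorEquiv S A' K B').symm.toRingEquiv h2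
  exact hP.iso _ _
    (Algebra.TensorProduct.cancelBaseChange A' p'.ResidueField K K B').symm.toRingEquiv h3

include S in
/-- Flatness passes to the localized map. -/
theorem flat_localization [Module.Flat A B] : Module.Flat A' B' := by
  haveI : Module.Flat B B' := IsLocalization.flat B' (Algebra.algebraMapSubmonoid B S)
  haveI : Module.Flat A B' := Module.Flat.trans A B B'
  exact (Module.flat_iff_of_isLocalization A' S B').mpr inferInstance

include S in
/-- Packaged version: for a prime `p'` of `A' = S⁻¹A` with contraction `p`, every field `K` over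
`κ(p')` gets a `κ(p)`-algebra structure (finite/algebraic if it was over `κ(p')`) and the property
`P` transfers from `K ⊗[κ(p)] p.Fiber B` to `K ⊗[κ(p')] p'.Fiber B'`. -/
theorem transfer' {P : ∀ (R : Type u) [CommRing R], Prop} (hP : LocStable P)
    (p' : Ideal A') [p'.IsPrime] (K : Type u) [Field K] [Algebra p'.ResidueField K] :
    ∃ (_ : Algebra (p'.comap (algebraMap A A')).ResidueField K),
      (Module.Finite p'.ResidueField K → Module.Finite (p'.comap (algebraMap A A')).ResidueField K) ∧
      (Algebra.IsAlgebraic p'.ResidueField K →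
        Algebra.IsAlgebraic (p'.comap (algebraMap A A')).ResidueField K) ∧
      (P (K ⊗[(p'.comap (algebraMap A A')).ResidueField] (p'.comap (algebraMap A A')).Fiber B) →
        P (K ⊗[p'.ResidueField] p'.Fiber B')) := by
  set p : Ideal A := p'.comap (algebraMap A A') with hp
  let σ : p.ResidueField →+* p'.ResidueField :=
    Ideal.ResidueField.map p p' (algebraMap A A') rfl
  have hσ : Function.Bijective σ :=
    (RingHom.surjectiveOnStalks_of_isLocalization (M := S) A').residueFieldMap_bijective p p' rfl
  letI iκ : Algebra p.ResidueField p'.ResidueField := σ.toAlgebra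
  letI iK : Algebra p.ResidueField K := ((algebraMap p'.ResidueField K).comp σ).toAlgebra
  haveI : IsScalarTower p.ResidueField p'.ResidueField K :=
    IsScalarTower.of_algebraMap_eq' rfl
  letI iA'K : Algebra A' K :=
    ((algebraMap p'.ResidueField K).comp (algebraMap A' p'.ResidueField)).toAlgebra
  haveI : IsScalarTower A' p'.ResidueField K := IsScalarTower.of_algebraMap_eq' rfl
  letI iAK : Algebra A K := ((algebraMap A' K).comp (algebraMap A A')).toAlgebra
  haveI : IsScalarTower A A' K := IsScalarTower.of_algebraMap_eq' rfl
  haveI : IsScalarTower A p.ResidueField K := IsScalarTower.of_algebraMap_eq' (by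
    ext a
    change algebraMap p'.ResidueField K (algebraMap A' p'.ResidueField (algebraMap A A' a)) =
      algebraMap p'.ResidueField K (σ (algebraMap A p.ResidueField a))
    rw [Ideal.ResidueField.map_algebraMap])
  haveI hfinκ : Module.Finite p.ResidueField p'.ResidueField :=
    Module.Finite.of_surjective (Algebra.linearMap p.ResidueField p'.ResidueField) hσ.2
  refine ⟨iK, ?_, ?_, ?_⟩
  · intro hfin
    exact Module.Finite.trans p'.ResidueField K
  · intro halg
    haveI : Algebra.IsAlgebraic p.ResidueField p'.ResidueField := Algebra.IsAlgebraic.of_finite _ _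
    exact Algebra.IsAlgebraic.trans p.ResidueField p'.ResidueField K
  · intro h
    exact transfer A B S A' B' hP p' p K h

end

/-- "Locally `Q`" is stable under ring isomorphisms and localizations, if `Q` is iso-invariant. -/
theorem locStable_of_local (Q : ∀ (R : Type u) [CommRing R], Prop)
    (hQ : ∀ (R R' : Type u) [CommRing R] [CommRing R'], (R ≃+* R') → Q R → Q R') :
    LocStable (fun R _ => ∀ (q : Ideal R) [q.IsPrime], Q (Localization.AtPrime q)) where
  iso := by
    intro R R' _ _ e h q' hq'
    exact hQ _ _ (IsLocalization.ringEquivOfRingEquiv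
      (Localization.AtPrime (q'.comap e)) (Localization.AtPrime q') e
      (e.map_primeCompl_comap_eq q')) (h (q'.comap e))
  loc := by
    intro R R' _ _ _ M _ h q' hq'
    haveI : IsLocalization.AtPrime (Localization.AtPrime q') (q'.comap (algebraMap R R')) :=
      IsLocalization.isLocalization_isLocalization_atPrime_isLocalization M
        (Localization.AtPrime q') q'
    let e : Localization.AtPrime (q'.comap (algebraMap R R')) ≃ₐ[R] Localization.AtPrime q' :=
      IsLocalization.algEquiv (q'.comap (algebraMap R R')).primeCompl _ _
    exact hQ _ _ e.toRingEquiv (h (q'.comap (algebraMap R R')))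

theorem locStable_isReduced : LocStable (fun R _ => IsReduced R) where
  iso := by
    intro R R' _ _ e h
    exact isReduced_of_injective e.symm.toRingHom e.symm.injective
  loc := by
    intro R R' _ _ _ M _ h
    exact isReduced_localizationPreserves M R' h

theorem locStable_isNoetherianRing : LocStable (fun R _ => IsNoetherianRing R) where
  iso := by
    intro R R' _ _ e h
    exact isNoetherianRing_of_ringEquiv R e
  loc := by
    intro R R' _ _ _ M _ h
    exact IsLocalization.isNoetherianRing M R' h

theorem locStable_isRegularRing : LocStable (fun R _ => IsRegularRing R) where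
  iso := by
    intro R R' _ _ e h
    exact IsRegularRing.of_ringEquiv e
  loc := by
    intro R R' _ _ _ M _ h
    haveI : IsNoetherianRing R' := IsLocalization.isNoetherianRing M R' inferInstance
    rw [isRegularRing_iff]
    exact (locStable_of_local (fun R _ => IsRegularLocalRing R)
      (fun R R' _ _ e h => by haveI := h; exact IsRegularLocalRing.of_ringEquiv e)).loc R R' M
      (fun q hq => inferInstance)

end Groth.Agent.Lib.Helper24.FibLoc
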