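import Mathlib

set_option autoImplicit false

namespace Groth.Agent.Lib.Helper24.FFComp

open TensorProduct

universe u

variable (A B C : Type u) [CommRing A] [CommRing B] [CommRing C] [Algebra A B] [Algebra B C]
  [Algebra A C] [IsScalarTower A B C] [Module.FaithfullyFlat B C]

/-- If `B → C` is faithfully flat then `B ⊗[A] M → C ⊗[A] M` is injective for every `A`-module. -/
theorem rTensor_injective (M : Type u) [AddCommGroup M] [Module A M] :
    Function.Injective (LinearMap.rTensor M (IsScalarTower.toAlgHom A B C).toLinearMap) := by
  have h1 := Module.FaithfullyFlat.tensorProduct_mk_injective (A := B) (B := C) (B ⊗[A] M)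
  have h2 : ∀ x : B ⊗[A] M,
      LinearMap.rTensor M (IsScalarTower.toAlgHom A B C).toLinearMap x =
        TensorProduct.AlgebraTensorModule.cancelBaseChange A B C C M
          (TensorProduct.mk B C (B ⊗[A] M) 1 x) := by
    intro x
    induction x using TensorProduct.induction_on with
    | zero => simp
    | tmul b m => simp [Algebra.smul_def]
    | add x y hx hy => simp only [map_add, hx, hy]
  intro x y hxy
  rw [h2, h2] at hxy
  exact h1 ((TensorProduct.AlgebraTensorModule.cancelBaseChange A B C C M).injective hxy)

theorem lTensor_injective (M : Type u) [AddCommGroup M] [Module A M] :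
    Function.Injective (LinearMap.lTensor M (IsScalarTower.toAlgHom A B C).toLinearMap) :=
  (LinearMap.lTensor_inj_iff_rTensor_inj _ _).2 (rTensor_injective A B C M)

/-- Flatness of `A → B` from flatness of `A → C` and faithful flatness of `B → C`. -/
theorem flat_of_flat_comp [Module.Flat A C] : Module.Flat A B := by
  rw [Module.Flat.iff_rTensor_preserves_injective_linearMap]
  intro N N' _ _ _ _ f hf
  -- `N ⊗ B → N ⊗ C` injective
  have hN := lTensor_injective A B C N
  have hC : Function.Injective (f.rTensor C) :=
    Module.Flat.rTensor_preserves_injective_linearMap f hf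
  intro x y hxy
  apply hN
  apply hC
  have key : ∀ z : N ⊗[A] B, f.rTensor C (LinearMap.lTensor N
      (IsScalarTower.toAlgHom A B C).toLinearMap z) =
      LinearMap.lTensor N' (IsScalarTower.toAlgHom A B C).toLinearMap (f.rTensor B z) := by
    intro z
    induction z using TensorProduct.induction_on with
    | zero => simp
    | tmul n b => simp
    | add x y hx hy => simp only [map_add, hx, hy]
  rw [key, key, hxy]

end Groth.Agent.Lib.Helper24.FFComp
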