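import Groth.Agent.Lib.Helper24.EtaleNormal

/-!
# Fibres of ind-unramified algebras with noetherian fibre rings (helper24)

If `S` is a filtered union of images of essentially finite type, formally unramified `A`-algebras
and `κ(p) ⊗ S` is noetherian, then `κ(p) ⊗ S` is a finite product of separable algebraic field
extensions of `κ(p)`.
-/

set_option autoImplicit false

noncomputable section

namespace Groth.Agent.Lib.Helper24.IndUnramifiedFibre

open TensorProduct Groth.Agent.Lib.Helper24.EtaleNormal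

universe u

/-- `S` is a filtered union of images of essentially finite type unramified `A`-algebras. -/
def IsIndUnramified (A S : Type u) [CommRing A] [CommRing S] [Algebra A S] : Prop :=
  ∀ (n : ℕ) (x : Fin n → S), ∃ (G : Type u) (_ : CommRing G) (_ : Algebra A G)
    (_ : Algebra.EssFiniteType A G) (_ : Algebra.FormallyUnramified A G) (φ : G →ₐ[A] S),
    ∀ i, x i ∈ Set.range φ

section

variable {K : Type u} [Field K]

/-- In an Artinian reduced ring, an element with nilpotent image under a ring hom has zero image. -/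
theorem map_eq_zero_of_isNilpotent_map {T₁ T₂ : Type u} [CommRing T₁] [CommRing T₂]
    [IsArtinianRing T₁] [IsReduced T₁] (φ : T₁ →+* T₂) (w : T₁) (h : IsNilpotent (φ w)) :
    φ w = 0 := by
  obtain ⟨y, hy⟩ := exists_eq_sq_mul w
  obtain ⟨n, hn⟩ := h
  have key : ∀ k : ℕ, w = w ^ (k + 1) * y ^ k := by
    intro k
    induction k with
    | zero => simp
    | succ k ih =>
      calc w = w ^ (k + 1) * y ^ k := ih
        _ = w ^ k * w * y ^ k := by rw [pow_succ]
        _ = w ^ k * (w ^ 2 * y) * y ^ k := by rw [← hy]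
        _ = w ^ (k + 1 + 1) * y ^ (k + 1) := by ring
  rw [key n, map_mul, map_pow, pow_succ, hn, zero_mul, zero_mul]

end

section Main

variable (A S : Type u) [CommRing A] [CommRing S] [Algebra A S] (p : Ideal A) [p.IsPrime]

/-- every finite family in the fibre comes from a finite unramified stage -/
theorem exists_stage (h : IsIndUnramified A S) (z : p.ResidueField ⊗[A] S) :
    ∃ (T₁ : Type u) (_ : CommRing T₁) (_ : Algebra p.ResidueField T₁)
      (_ : Module.Finite p.ResidueField T₁) (_ : Algebra.FormallyUnramified p.ResidueField T₁)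
      (ψ : T₁ →ₐ[p.ResidueField] p.ResidueField ⊗[A] S), z ∈ Set.range ψ := by
  -- write `z` as a finite sum of pure tensors
  obtain ⟨s, hs⟩ := TensorProduct.exists_finset z
  classical
  let e := s.equivFin
  let x : Fin s.card → S := fun i => (e.symm i : p.ResidueField × S).2
  obtain ⟨G, _, _, hfin, hunr, φ, hφ⟩ := h s.card x
  choose g hg using hφ
  let T₁ := p.ResidueField ⊗[A] G
  have h1 : Algebra.EssFiniteType p.ResidueField T₁ := inferInstance
  have h2 : Algebra.FormallyUnramified p.ResidueField T₁ := inferInstance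
  have h3 : Module.Finite p.ResidueField T₁ := Algebra.FormallyUnramified.finite_of_free _ _
  refine ⟨T₁, inferInstance, inferInstance, h3, h2,
    Algebra.TensorProduct.map (AlgHom.id _ _) φ, ?_⟩
  refine ⟨∑ i : Fin s.card, (e.symm i : p.ResidueField × S).1 ⊗ₜ[A] g i, ?_⟩
  rw [map_sum, hs]
  rw [← Finset.sum_coe_sort s, ← e.symm.sum_comp]
  refine Finset.sum_congr rfl (fun i _ => ?_)
  rw [Algebra.TensorProduct.map_tmul, hg i]
  rfl

/-- quotient fields of the fibre are separable over `κ(p)` -/
theorem isSeparable_quotient (h : IsIndUnramified A S) (𝔪 : Ideal (p.ResidueField ⊗[A] S))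
    [𝔪.IsMaximal] :
    let _ : Field ((p.ResidueField ⊗[A] S) ⧸ 𝔪) := Ideal.Quotient.field 𝔪
    Algebra.IsSeparable p.ResidueField ((p.ResidueField ⊗[A] S) ⧸ 𝔪) := by
  intro _
  rw [Algebra.isSeparable_def]
  intro x
  obtain ⟨z, rfl⟩ := Ideal.Quotient.mk_surjective x
  obtain ⟨T₁, _, _, hfin, hunr, ψ, w, rfl⟩ := exists_stage A S p h z
  -- the composite to the quotient field
  let Ψ : T₁ →ₐ[p.ResidueField] (p.ResidueField ⊗[A] S) ⧸ 𝔪 := (Ideal.Quotient.mkₐ _ 𝔪).comp ψ
  have hart : IsArtinianRing T₁ := IsArtinianRing.of_finite p.ResidueField T₁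
  have hprime : (RingHom.ker Ψ.toRingHom).IsPrime := RingHom.ker_isPrime _
  have hmax : (RingHom.ker Ψ.toRingHom).IsMaximal := IsArtinianRing.isMaximal_of_isPrime _
  let _ : Field (T₁ ⧸ RingHom.ker Ψ.toRingHom) := Ideal.Quotient.field _
  have hunr' : Algebra.FormallyUnramified p.ResidueField (T₁ ⧸ RingHom.ker Ψ.toRingHom) :=
    Algebra.FormallyUnramified.quotient _
  have hsep : Algebra.IsSeparable p.ResidueField (T₁ ⧸ RingHom.ker Ψ.toRingHom) :=
    Algebra.FormallyUnramified.isSeparable _ _
  let Ψ' : (T₁ ⧸ RingHom.ker Ψ.toRingHom) →ₐ[p.ResidueField] (p.ResidueField ⊗[A] S) ⧸ 𝔪 :=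
    Ideal.kerLiftAlg Ψ
  have hinj : Function.Injective Ψ' := Ideal.kerLiftAlg_injective Ψ
  have e : Ideal.Quotient.mk 𝔪 (ψ w) = Ψ' (Ideal.Quotient.mk _ w) := rfl
  rw [e]
  show (minpoly p.ResidueField (Ψ' (Ideal.Quotient.mk _ w))).Separable
  rw [minpoly.algHom_eq Ψ' hinj]
  exact Algebra.IsSeparable.isSeparable p.ResidueField _

theorem fibre_equiv_pi (h : IsIndUnramified A S) [IsNoetherianRing (p.ResidueField ⊗[A] S)] :
    ∃ (n : ℕ) (K : Fin n → Type u) (_ : ∀ i, Field (K i))
      (_ : ∀ i, Algebra p.ResidueField (K i)),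
      (∀ i, Algebra.IsSeparable p.ResidueField (K i)) ∧
      Nonempty ((p.ResidueField ⊗[A] S) ≃ₐ[p.ResidueField] (Π i, K i)) := by
  classical
  -- reduced
  have hred : IsReduced (p.ResidueField ⊗[A] S) := by
    constructor
    intro z hz
    obtain ⟨T₁, _, _, hfin, hunr, ψ, w, rfl⟩ := exists_stage A S p h z
    have hart : IsArtinianRing T₁ := IsArtinianRing.of_finite p.ResidueField T₁
    have hred₁ : IsReduced T₁ := Algebra.FormallyUnramified.isReduced_of_field p.ResidueField T₁
    exact map_eq_zero_of_isNilpotent_map ψ.toRingHom w hz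
  -- integral
  have hint : Algebra.IsIntegral p.ResidueField (p.ResidueField ⊗[A] S) := by
    constructor
    intro z
    obtain ⟨T₁, _, _, hfin, hunr, ψ, w, rfl⟩ := exists_stage A S p h z
    exact (Algebra.IsIntegral.isIntegral (R := p.ResidueField) w).map ψ
  -- zero-dimensional
  have hdim : Ring.KrullDimLE 0 (p.ResidueField ⊗[A] S) := by
    rw [Ring.krullDimLE_zero_iff]
    intro I hI
    apply Ideal.isMaximal_of_isIntegral_of_isMaximal_comap (R := p.ResidueField) I
    have : Ideal.comap (algebraMap p.ResidueField (p.ResidueField ⊗[A] S)) I = ⊥ :=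
      Ideal.eq_bot_of_prime _
    rw [this]
    exact Ideal.bot_isMaximal
  have hart : IsArtinianRing (p.ResidueField ⊗[A] S) :=
    isArtinianRing_iff_isNoetherianRing_krullDimLE_zero.2 ⟨inferInstance, hdim⟩
  -- decompose
  let e₀ := (IsArtinianRing.equivPi (p.ResidueField ⊗[A] S)).restrictScalars p.ResidueField
  have hfinite : Finite (MaximalSpectrum (p.ResidueField ⊗[A] S)) := inferInstance
  let n := Nat.card (MaximalSpectrum (p.ResidueField ⊗[A] S))
  let ε : MaximalSpectrum (p.ResidueField ⊗[A] S) ≃ Fin n := Finite.equivFin _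
  let e₁ := AlgEquiv.piCongrLeft' p.ResidueField
    (fun I : MaximalSpectrum (p.ResidueField ⊗[A] S) => (p.ResidueField ⊗[A] S) ⧸ I.asIdeal) ε
  refine ⟨n, fun i => (p.ResidueField ⊗[A] S) ⧸ (ε.symm i).asIdeal,
    fun i => Ideal.Quotient.field _, fun i => inferInstance, ?_, ⟨e₀.trans e₁⟩⟩
  intro i
  have := (ε.symm i).isMaximal
  exact isSeparable_quotient A S p h (ε.symm i).asIdeal

end Main

end Groth.Agent.Lib.Helper24.IndUnramifiedFibre

end
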