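import Groth.Agent.Lib.Helper24.HensNoeth
import Groth.Agent.Lib.Helper24.HensDim
import Groth.Agent.Lib.Helper24.IndUnramifiedFibre

/-!
# Fibres of the henselization and the strict henselization (helper24)
-/

set_option autoImplicit false
set_option linter.unusedSectionVars false

noncomputable section

namespace Groth.Agent.Lib.Helper24.HensFibre

open IsLocalRing TensorProduct Groth.Agent.Lib.Helper24.IndUnramifiedFibre
  Groth.Agent.Lib.Helper24.HensDim

universe u

theorem isIndUnramified_of_algEquiv {R S S' : Type u} [CommRing R] [CommRing S] [CommRing S']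
    [Algebra R S] [Algebra R S'] (e : S ≃ₐ[R] S') (h : IsIndUnramified R S) :
    IsIndUnramified R S' := by
  intro n x
  obtain ⟨G, _, _, h1, h2, φ, hφ⟩ := h n (fun i => e.symm (x i))
  refine ⟨G, inferInstance, inferInstance, h1, h2, e.toAlgHom.comp φ, ?_⟩
  intro i
  obtain ⟨g, hg⟩ := hφ i
  exact ⟨g, by simp [hg]⟩

theorem isNoetherianRing_fibre (R S : Type u) [CommRing R] [CommRing S] [Algebra R S]
    [IsNoetherianRing S] (p : Ideal R) [p.IsPrime] :
    IsNoetherianRing (p.ResidueField ⊗[R] S) := by
  have h1 : IsNoetherianRing (S ⊗[R] p.ResidueField) :=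
    Algebra.EssFiniteType.isNoetherianRing S _
  exact isNoetherianRing_of_ringEquiv _ (Algebra.TensorProduct.comm R S p.ResidueField).toRingEquiv

section Strict

open Groth.Agent.Lib.Helper24.StrictHens Groth.Agent.Lib.Helper24.StrictHens.SIdx

variable {A : Type u} [CommRing A] [IsLocalRing A] {Ω : Type u} [Field Ω] [Algebra A Ω]
  [Algebra (ResidueField A) Ω] [IsScalarTower A (ResidueField A) Ω]

theorem isIndUnramified_SHens : IsIndUnramified A (SHens A Ω) := by
  intro n x
  obtain ⟨k, x', hx'⟩ := exists_ofS_fin x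
  exact ⟨k.G, inferInstance, inferInstance, inferInstance, inferInstance, ofSₐ k,
    fun i => ⟨x' i, hx' i⟩⟩

theorem fibre_of_isStrictHenselization (R S : Type u) [CommRing R] [IsLocalRing R]
    [IsNoetherianRing R] [CommRing S] [IsLocalRing S] [Algebra R S] [IsLocalHom (algebraMap R S)]
    [Hensel.IsStrictHenselization R S] (p : Ideal R) [p.IsPrime] :
    ∃ (n : ℕ) (K : Fin n → Type u) (_ : ∀ i, Field (K i))
      (_ : ∀ i, Algebra p.ResidueField (K i)),
      (∀ i, Algebra.IsSeparable p.ResidueField (K i)) ∧
      Nonempty ((p.ResidueField ⊗[R] S) ≃ₐ[p.ResidueField] (Π i, K i)) := by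
  obtain ⟨e⟩ := exists_algEquiv_SH R S
  have hind : IsIndUnramified R S := isIndUnramified_of_algEquiv e isIndUnramified_SHens
  have hN : IsNoetherianRing S :=
    (Groth.Agent.Lib.Helper24.HensNoeth.isNoetherianRing_iff_of_isStrictHenselization R S).1
      inferInstance
  have := isNoetherianRing_fibre R S p
  exact fibre_equiv_pi R S p hind

end Strict

section Hens

open Groth.Agent.Lib.helper24.Henselization Groth.Agent.Lib.helper24.Henselization.Idx

variable {A : Type u} [CommRing A] [IsLocalRing A]

theorem isIndUnramified_Hens : IsIndUnramified A (Hens A) := by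
  intro n x
  obtain ⟨k, x', hx'⟩ := exists_ofH_fin x
  exact ⟨k.G, inferInstance, inferInstance,
    (inferInstance : Algebra.EssFiniteType A (Localization.AtPrime k.q)),
    (inferInstance : Algebra.FormallyUnramified A (Localization.AtPrime k.q)), ofHₐ k,
    fun i => ⟨x' i, hx' i⟩⟩

theorem fibre_of_isHenselization (R S : Type u) [CommRing R] [IsLocalRing R]
    [IsNoetherianRing R] [CommRing S] [IsLocalRing S] [Algebra R S] [IsLocalHom (algebraMap R S)]
    [Hensel.IsHenselization R S] (p : Ideal R) [p.IsPrime] :
    ∃ (n : ℕ) (K : Fin n → Type u) (_ : ∀ i, Field (K i))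
      (_ : ∀ i, Algebra p.ResidueField (K i)),
      (∀ i, Algebra.IsSeparable p.ResidueField (K i)) ∧
      Nonempty ((p.ResidueField ⊗[R] S) ≃ₐ[p.ResidueField] (Π i, K i)) := by
  obtain ⟨e⟩ := exists_algEquiv R (Hens R) S
  have hind : IsIndUnramified R S := isIndUnramified_of_algEquiv e isIndUnramified_Hens
  have hN : IsNoetherianRing S :=
    (Groth.Agent.Lib.Helper24.HensNoeth.isNoetherianRing_iff_of_isHenselization R S).1
      inferInstance
  have := isNoetherianRing_fibre R S p
  exact fibre_equiv_pi R S p hind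

end Hens

end Groth.Agent.Lib.Helper24.HensFibre

end
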