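import Mathlib
import Groth.Prelude.Def_CAlg
import Groth.Agent.Lib.Helper24.DepthFlat

set_option autoImplicit false

namespace Groth.Agent.Lib.Helper24.DepthFlat

open IsLocalRing RingTheory.Sequence Pointwise

universe u

section Main2

variable (R S : Type u) [CommRing R] [CommRing S] [IsLocalRing R] [IsLocalRing S]
  [IsNoetherianRing R] [IsNoetherianRing S] [Algebra R S] [IsLocalHom (algebraMap R S)]
  [Module.Flat R S]

/-- Descent of regular sequences along a flat local homomorphism with Artinian closed fibre. -/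
theorem hasSeq_descend' (hm : ∃ n : ℕ, maximalIdeal S ^ n ≤ (maximalIdeal R).map (algebraMap R S))
    {N : ℕ} (h : HasSeq S N) : HasSeq R N := by
  classical
  obtain ⟨e, he⟩ := hm
  by_contra hN
  have hex : ∃ k, ¬ HasSeq R k := ⟨N, hN⟩
  have hk : ¬ HasSeq R (Nat.find hex) := Nat.find_spec hex
  have hk0 : Nat.find hex ≠ 0 := fun h0 => hk (h0 ▸ hasSeq_zero R)
  obtain ⟨n, hn⟩ := Nat.exists_eq_succ_of_ne_zero hk0
  have hPn : HasSeq R n := by
    by_contra h'
    exact Nat.find_min hex (by omega) h'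
  have hn1 : ¬ HasSeq R (n + 1) := by rw [← Nat.succ_eq_add_one, ← hn]; exact hk
  have hnN : n + 1 ≤ N := by rw [← Nat.succ_eq_add_one, ← hn]; exact Nat.find_min' hex hN
  obtain ⟨rs, hlen, hmem, hreg⟩ := hPn
  have hS : HasSeq S (n + 1) := hasSeq_of_le S hnN h
  have hno : ¬ ∃ r ∈ maximalIdeal R,
      IsSMulRegular (R ⧸ (Ideal.ofList rs • ⊤ : Submodule R R)) r := by
    rintro ⟨r, hr, hreg'⟩
    apply hn1
    refine ⟨rs ++ [r], by simp [hlen], ?_, ?_⟩
    · intro t ht
      rcases List.mem_append.1 ht with h | h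
      · exact hmem t h
      · rw [List.mem_singleton] at h
        exact h ▸ hr
    · rw [isWeaklyRegular_append_iff]
      exact ⟨hreg, (isWeaklyRegular_singleton_iff _ _).2 hreg'⟩
  obtain ⟨a, haI, ham⟩ := exists_socle R (Ideal.ofList rs) hno
  haveI : Module.FaithfullyFlat R S := Module.FaithfullyFlat.of_flat_of_isLocalHom
  set rs' := rs.map (algebraMap R S) with hrs'
  have hreg' : IsWeaklyRegular S rs' := IsWeaklyRegular.of_flat hreg
  have hmem' : ∀ s ∈ rs', s ∈ maximalIdeal S := by
    intro s hs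
    obtain ⟨r, hr, rfl⟩ := List.mem_map.1 hs
    exact map_nonunit (algebraMap R S) r (hmem r hr)
  have hI' : Ideal.ofList rs' = (Ideal.ofList rs).map (algebraMap R S) :=
    (Ideal.map_ofList (algebraMap R S) rs).symm
  obtain ⟨ts, htlen, htmem, htreg⟩ := hS
  obtain ⟨x₀, hxm₀, hx₀⟩ := exists_isSMulRegular_quot_ofList S rs' S hreg' hmem'
    ⟨ts, by simp [htlen, hrs', hlen], htmem, htreg⟩
  -- replace `x₀` by a power lying in `m_R S`
  have hxm : x₀ ^ e ∈ (maximalIdeal R).map (algebraMap R S) := he (Ideal.pow_mem_pow hxm₀ e)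
  have hx : IsSMulRegular (S ⧸ (Ideal.ofList rs' • ⊤ : Submodule S S)) (x₀ ^ e) := hx₀.pow e
  set x := x₀ ^ e with hxdef
  have hIS : (Ideal.ofList rs' • ⊤ : Submodule S S) = Ideal.ofList rs' := by
    rw [smul_eq_mul, Ideal.mul_top]
  have hxa : x * algebraMap R S a ∈ Ideal.ofList rs' := by
    rw [hI']
    refine Submodule.span_induction (p := fun y _ => y * algebraMap R S a ∈
      (Ideal.ofList rs).map (algebraMap R S)) ?_ ?_ ?_ ?_ hxm
    · rintro _ ⟨r, hr, rfl⟩
      rw [← map_mul]
      exact Ideal.mem_map_of_mem _ (ham r hr)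
    · simp
    · intro y z _ _ hy hz
      rw [add_mul]
      exact Ideal.add_mem _ hy hz
    · intro c y _ hy
      rw [smul_eq_mul, mul_assoc]
      exact Ideal.mul_mem_left _ _ hy
  have h0 : x • (Submodule.Quotient.mk (algebraMap R S a) :
      S ⧸ (Ideal.ofList rs' • ⊤ : Submodule S S)) = x • 0 := by
    rw [smul_zero, ← Submodule.Quotient.mk_smul, Submodule.Quotient.mk_eq_zero, hIS]
    exact hxa
  have h1 := hx h0
  rw [Submodule.Quotient.mk_eq_zero, hIS, hI'] at h1
  apply haI
  have h2 : a ∈ Ideal.comap (algebraMap R S) ((Ideal.ofList rs).map (algebraMap R S)) := h1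
  rwa [Ideal.comap_map_eq_self_of_faithfullyFlat] at h2

theorem depth_eq_of_flat' (hm : ∃ n : ℕ, maximalIdeal S ^ n ≤ (maximalIdeal R).map (algebraMap R S)) :
    LocCoh.depth S S = LocCoh.depth R R :=
  le_antisymm (depth_le_of_hasSeq_imp S R fun _ h => hasSeq_descend' R S hm h)
    (depth_le_of_hasSeq_imp R S fun _ h => hasSeq_map R S h)

/-- Dimension equality along a flat local homomorphism with Artinian closed fibre. -/
theorem ringKrullDim_eq_of_flat' (hm : ∃ n : ℕ, maximalIdeal S ^ n ≤ (maximalIdeal R).map (algebraMap R S)) :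
    ringKrullDim S = ringKrullDim R := by
  obtain ⟨e, he⟩ := hm
  have hlies : (maximalIdeal S).LiesOver (maximalIdeal R) :=
    ⟨(IsLocalRing.maximalIdeal_comap (algebraMap R S)).symm⟩
  have h := Ideal.height_eq_height_add_of_liesOver_of_hasGoingDown
    (maximalIdeal R) (maximalIdeal S)
  have hle : (maximalIdeal R).map (algebraMap R S) ≤ maximalIdeal S :=
    IsLocalRing.map_maximalIdeal_le _
  haveI hprime : ((maximalIdeal S).map
      (Ideal.Quotient.mk ((maximalIdeal R).map (algebraMap R S)))).IsPrime :=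
    Ideal.map_isPrime_of_surjective Ideal.Quotient.mk_surjective (by
      rw [Ideal.mk_ker]; exact hle)
  have h0 : ((maximalIdeal S).map
      (Ideal.Quotient.mk ((maximalIdeal R).map (algebraMap R S)))).height = 0 := by
    rw [Ideal.height_eq_zero_iff]
    refine ⟨⟨hprime, bot_le⟩, fun Q hQ _ => ?_⟩
    haveI := hQ.1
    -- `m_S / m_R S` is nilpotent hence inside every prime
    rw [Ideal.map_le_iff_le_comap]
    intro x hx
    rw [Ideal.mem_comap]
    have hxe : x ^ e ∈ (maximalIdeal R).map (algebraMap R S) := he (Ideal.pow_mem_pow hx e)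
    have : (Ideal.Quotient.mk ((maximalIdeal R).map (algebraMap R S)) x) ^ e = 0 := by
      rw [← map_pow, Ideal.Quotient.eq_zero_iff_mem]
      exact hxe
    exact hQ.1.mem_of_pow_mem e (this ▸ Q.zero_mem)
  rw [h0, add_zero] at h
  rw [← IsLocalRing.maximalIdeal_height_eq_ringKrullDim,
    ← IsLocalRing.maximalIdeal_height_eq_ringKrullDim, h]

end Main2

end Groth.Agent.Lib.Helper24.DepthFlat
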