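import Mathlib
import Groth.Prelude.Def_CAlg
import Groth.Agent.Lib.Helper24.DepthFlat2
import Groth.Agent.Lib.Helper24.HensDepth
import Groth.Agent.Lib.Helper24.NoethLimit

set_option autoImplicit false

namespace Groth.Agent.Lib.Helper24.SkDescent

open IsLocalRing

universe u

section Local

variable (R S : Type u) [CommRing R] [CommRing S] [Algebra R S] [IsNoetherianRing R]
  [IsNoetherianRing S] [Module.Flat R S] (p : Ideal R) [p.IsPrime] (q : Ideal S) [q.IsPrime]
  (hpq : p = q.comap (algebraMap R S))
  (hmin : q ∈ (p.map (algebraMap R S)).minimalPrimes)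

omit [IsNoetherianRing R] [Module.Flat R S] in
include hmin in
theorem exists_pow_le :
    ∃ n : ℕ, maximalIdeal (Localization.AtPrime q) ^ n ≤
      (maximalIdeal (Localization.AtPrime p)).map
        (Localization.localRingHom p q (algebraMap R S) hpq) := by
  have hJ : (maximalIdeal (Localization.AtPrime p)).map
      (Localization.localRingHom p q (algebraMap R S) hpq) =
      (p.map (algebraMap R S)).map (algebraMap S (Localization.AtPrime q)) := by
    rw [← Localization.AtPrime.map_eq_maximalIdeal (I := p), Ideal.map_map, Ideal.map_map]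
    congr 1
    ext r
    exact Localization.localRingHom_to_map p q (algebraMap R S) hpq r
  rw [hJ]
  apply Ideal.exists_pow_le_of_le_radical_of_fg _ (IsNoetherian.noetherian _)
  rw [Ideal.radical_eq_sInf]
  apply le_sInf
  rintro P' ⟨hJP, hP'⟩
  have hP : (P'.comap (algebraMap S (Localization.AtPrime q))).IsPrime := Ideal.comap_isPrime _ _
  have h1 : p.map (algebraMap R S) ≤ P'.comap (algebraMap S (Localization.AtPrime q)) :=
    Ideal.map_le_iff_le_comap.1 hJP
  have h2 : P'.comap (algebraMap S (Localization.AtPrime q)) ≤ q := by
    have := IsLocalRing.le_maximalIdeal hP'.ne_top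
    calc P'.comap (algebraMap S (Localization.AtPrime q))
        ≤ (maximalIdeal (Localization.AtPrime q)).comap (algebraMap S _) := Ideal.comap_mono this
      _ = q := Localization.AtPrime.under_maximalIdeal (I := q)
  have h3 : q ≤ P'.comap (algebraMap S (Localization.AtPrime q)) := hmin.2 ⟨hP, h1⟩ h2
  rw [← Localization.AtPrime.map_eq_maximalIdeal (I := q)]
  exact Ideal.map_le_iff_le_comap.2 h3

include hpq hmin in
theorem depth_localization_eq' :
    LocCoh.depth (Localization.AtPrime q) (Localization.AtPrime q) =
      LocCoh.depth (Localization.AtPrime p) (Localization.AtPrime p) := by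
  have hflat : (Localization.localRingHom p q (algebraMap R S) hpq).Flat :=
    RingHom.Flat.localRingHom (RingHom.flat_algebraMap_iff.2 inferInstance) q p hpq
  have hm := exists_pow_le R S p q hpq hmin
  algebraize [Localization.localRingHom p q (algebraMap R S) hpq]
  haveI : IsLocalHom (algebraMap (Localization.AtPrime p) (Localization.AtPrime q)) :=
    Localization.isLocalHom_localRingHom p q (algebraMap R S) hpq
  exact Groth.Agent.Lib.Helper24.DepthFlat.depth_eq_of_flat'
    (Localization.AtPrime p) (Localization.AtPrime q) hm

include hpq hmin in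
theorem ringKrullDim_localization_eq' :
    ringKrullDim (Localization.AtPrime q) = ringKrullDim (Localization.AtPrime p) := by
  have hflat : (Localization.localRingHom p q (algebraMap R S) hpq).Flat :=
    RingHom.Flat.localRingHom (RingHom.flat_algebraMap_iff.2 inferInstance) q p hpq
  have hm := exists_pow_le R S p q hpq hmin
  algebraize [Localization.localRingHom p q (algebraMap R S) hpq]
  haveI : IsLocalHom (algebraMap (Localization.AtPrime p) (Localization.AtPrime q)) :=
    Localization.isLocalHom_localRingHom p q (algebraMap R S) hpq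
  exact Groth.Agent.Lib.Helper24.DepthFlat.ringKrullDim_eq_of_flat'
    (Localization.AtPrime p) (Localization.AtPrime q) hm

include hpq hmin in
theorem skAt_iff' (k : ℕ) :
    Groth.Agent.Lib.Helper24.HensDepth.SkAt k S q ↔
      Groth.Agent.Lib.Helper24.HensDepth.SkAt k R p := by
  unfold Groth.Agent.Lib.Helper24.HensDepth.SkAt
  rw [Module.supportDim_self_eq_ringKrullDim, Module.supportDim_self_eq_ringKrullDim,
    ringKrullDim_localization_eq' R S p q hpq hmin, depth_localization_eq' R S p q hpq hmin]

end Local

/-- Serre's condition `(S_k)` descends along faithfully flat maps of Noetherian rings. -/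
theorem hasSk_of_faithfullyFlat (k : ℕ) (R S : Type u) [CommRing R] [CommRing S] [Algebra R S]
    [Module.FaithfullyFlat R S] [IsNoetherianRing S] (hS : LocCoh.HasSk k S S) :
    LocCoh.HasSk k R R := by
  haveI : IsNoetherianRing R :=
    Groth.Agent.Lib.Helper24.NoethLimit.isNoetherianRing_of_faithfullyFlat R S
  rw [Groth.Agent.Lib.Helper24.HensDepth.hasSk_iff_skAt] at hS ⊢
  intro p hp
  obtain ⟨Q, hQ, hQp⟩ := Ideal.exists_isPrime_liesOver_of_faithfullyFlat (B := S) p
  have hle : p.map (algebraMap R S) ≤ Q := by
    rw [Ideal.map_le_iff_le_comap]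
    exact le_of_eq hQp.over
  obtain ⟨q, hq, hqQ⟩ := Ideal.exists_minimalPrimes_le hle
  haveI := hq.1.1
  have hpq : p = q.comap (algebraMap R S) := by
    apply le_antisymm
    · exact Ideal.map_le_iff_le_comap.1 hq.1.2
    · calc q.comap (algebraMap R S) ≤ Q.comap (algebraMap R S) := Ideal.comap_mono hqQ
        _ = p := hQp.over.symm
  exact (skAt_iff' R S p q hpq hq k).1 (hS q)

end Groth.Agent.Lib.Helper24.SkDescent
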