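import Mathlib
import Groth.Prelude.Def_CAlg
import Groth.Agent.Lib.Helper24.SkDescent
import Groth.Agent.Lib.Helper24.FFComp
import Groth.Agent.Lib.Helper24.HensFibre

set_option autoImplicit false

namespace Groth.Agent.Lib.Helper24.FibreFF

open TensorProduct

universe u

/-- Ring hom version of `S_k` descent. -/
theorem hasSk_of_faithfullyFlat_ringHom (k : ℕ) {R S : Type u} [CommRing R] [CommRing S]
    (f : R →+* S) (hf : f.FaithfullyFlat) [IsNoetherianRing S] (hS : LocCoh.HasSk k S S) :
    LocCoh.HasSk k R R := by
  letI : Algebra R S := f.toAlgebra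
  haveI : Module.FaithfullyFlat R S := hf
  exact Groth.Agent.Lib.Helper24.SkDescent.hasSk_of_faithfullyFlat k R S hS

variable (A B C : Type u) [CommRing A] [CommRing B] [CommRing C] [Algebra A B] [Algebra B C]
  [Algebra A C] [IsScalarTower A B C] [Module.FaithfullyFlat B C]

/-- The map `B ⊗[A] T → C ⊗[A] T` is faithfully flat. -/
theorem faithfullyFlat_map_right (T : Type u) [CommRing T] [Algebra A T] :
    (Algebra.TensorProduct.map (IsScalarTower.toAlgHom A B C)
      (AlgHom.id A T)).toRingHom.FaithfullyFlat := by
  letI alg : Algebra (B ⊗[A] T) (C ⊗[A] T) :=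
    (Algebra.TensorProduct.map (IsScalarTower.toAlgHom A B C) (AlgHom.id A T)).toRingHom.toAlgebra
  haveI tow : IsScalarTower B (B ⊗[A] T) (C ⊗[A] T) := IsScalarTower.of_algebraMap_eq fun b => by
    rw [RingHom.algebraMap_toAlgebra]
    simp [Algebra.TensorProduct.algebraMap_apply]
  have H : (algebraMap (B ⊗[A] T) (C ⊗[A] T)).comp
      (Algebra.TensorProduct.includeRight : T →ₐ[A] B ⊗[A] T).toRingHom =
      (Algebra.TensorProduct.includeRight : T →ₐ[A] C ⊗[A] T).toRingHom := by
    ext t
    rw [RingHom.algebraMap_toAlgebra]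
    simp
  haveI := @Algebra.IsPushout.tensorProduct_tensorProduct A T B C _ _ _ _ _ _ _ _ _ alg tow H
  have h := RingHom.FaithfullyFlat.isStableUnderBaseChange B C (B ⊗[A] T) (C ⊗[A] T)
    (RingHom.faithfullyFlat_algebraMap_iff.2 inferInstance)
  rwa [RingHom.algebraMap_toAlgebra] at h

/-- The map `T ⊗[A] B → T ⊗[A] C` is faithfully flat. -/
theorem faithfullyFlat_map_left (T : Type u) [CommRing T] [Algebra A T] :
    (Algebra.TensorProduct.map (AlgHom.id A T)
      (IsScalarTower.toAlgHom A B C)).toRingHom.FaithfullyFlat := by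
  have h1 := faithfullyFlat_map_right A B C T
  have h2 : (Algebra.TensorProduct.map (AlgHom.id A T) (IsScalarTower.toAlgHom A B C)).toRingHom =
      ((Algebra.TensorProduct.comm A C T).toRingEquiv.toRingHom.comp
        (Algebra.TensorProduct.map (IsScalarTower.toAlgHom A B C) (AlgHom.id A T)).toRingHom).comp
        (Algebra.TensorProduct.comm A T B).toRingEquiv.toRingHom := by
    apply RingHom.ext
    intro x
    induction x using TensorProduct.induction_on with
    | zero => simp
    | tmul t b => simp
    | add x y hx hy => rw [map_add, map_add, hx, hy]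
  rw [h2]
  apply RingHom.FaithfullyFlat.stableUnderComposition
  · exact RingHom.FaithfullyFlat.of_bijective (Algebra.TensorProduct.comm A T B).bijective
  · apply RingHom.FaithfullyFlat.stableUnderComposition
    · exact h1
    · exact RingHom.FaithfullyFlat.of_bijective (Algebra.TensorProduct.comm A C T).bijective

end Groth.Agent.Lib.Helper24.FibreFF
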