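import Mathlib
import Groth.Prelude.Def_CAlg
import Groth.Agent.Lib.Helper24.FibreFF

set_option autoImplicit false

namespace Groth.Agent.Lib.Helper24.CMDescent

open IsLocalRing

universe u

/-- Cohen–Macaulayness descends along faithfully flat maps of Noetherian rings. -/
theorem isCohenMacaulayRing_of_faithfullyFlat (R S : Type u) [CommRing R] [CommRing S]
    [Algebra R S] [Module.FaithfullyFlat R S] [hS : LocCoh.IsCohenMacaulayRing S] :
    LocCoh.IsCohenMacaulayRing R := by
  haveI : IsNoetherianRing S := inferInstance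
  haveI : IsNoetherianRing R :=
    Groth.Agent.Lib.Helper24.NoethLimit.isNoetherianRing_of_faithfullyFlat R S
  refine { isCohenMacaulayLocalRing_localization := fun p hp => ?_ }
  obtain ⟨Q, hQ, hQp⟩ := Ideal.exists_isPrime_liesOver_of_faithfullyFlat (B := S) p
  have hle : p.map (algebraMap R S) ≤ Q := by
    rw [Ideal.map_le_iff_le_comap]
    exact le_of_eq hQp.over
  obtain ⟨q, hq, hqQ⟩ := Ideal.exists_minimalPrimes_le hle
  haveI := hq.1.1
  have hpq : p = q.comap (algebraMap R S) := by
    apply le_antisymm
    · exact Ideal.map_le_iff_le_comap.1 hq.1.2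
    · calc q.comap (algebraMap R S) ≤ Q.comap (algebraMap R S) := Ideal.comap_mono hqQ
        _ = p := hQp.over.symm
  have hcm := hS.isCohenMacaulayLocalRing_localization q
  have h1 := hcm.supportDim_eq_depth
  refine { supportDim_eq_depth := ?_ }
  rw [Module.supportDim_self_eq_ringKrullDim] at h1 ⊢
  rw [← Groth.Agent.Lib.Helper24.SkDescent.ringKrullDim_localization_eq' R S p q hpq hq,
    ← Groth.Agent.Lib.Helper24.SkDescent.depth_localization_eq' R S p q hpq hq]
  exact h1

theorem isCohenMacaulayRing_of_faithfullyFlat_ringHom {R S : Type u} [CommRing R] [CommRing S]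
    (f : R →+* S) (hf : f.FaithfullyFlat) [hS : LocCoh.IsCohenMacaulayRing S] :
    LocCoh.IsCohenMacaulayRing R := by
  letI : Algebra R S := f.toAlgebra
  haveI : Module.FaithfullyFlat R S := hf
  exact isCohenMacaulayRing_of_faithfullyFlat R S

end Groth.Agent.Lib.Helper24.CMDescent
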