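import Mathlib
import Groth.Prelude.Def_EGA4b
import Groth.Agent.Lib.Helper24.FibreFF
import Groth.Agent.Lib.Helper24.HensNormal

set_option autoImplicit false

namespace Groth.Agent.Lib.Helper24.NormalDescent

open IsLocalRing TensorProduct

universe u

/-- Normality (all localizations normal domains) descends along faithfully flat maps. -/
theorem isNormalRing_of_faithfullyFlat (R S : Type u) [CommRing R] [CommRing S]
    [Algebra R S] [Module.FaithfullyFlat R S] (hS : EGA4.IsNormalRing S) :
    EGA4.IsNormalRing R := by
  intro p hp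
  obtain ⟨q, hq, hqp⟩ := Ideal.exists_isPrime_liesOver_of_faithfullyFlat (B := S) p
  have hpq : p = q.comap (algebraMap R S) := hqp.over
  obtain ⟨h1, h2⟩ := hS q
  have hflat : (Localization.localRingHom p q (algebraMap R S) hpq).Flat :=
    RingHom.Flat.localRingHom (RingHom.flat_algebraMap_iff.2 inferInstance) q p hpq
  algebraize [Localization.localRingHom p q (algebraMap R S) hpq]
  haveI : IsLocalHom (algebraMap (Localization.AtPrime p) (Localization.AtPrime q)) :=
    Localization.isLocalHom_localRingHom p q (algebraMap R S) hpq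
  haveI : Module.FaithfullyFlat (Localization.AtPrime p) (Localization.AtPrime q) :=
    Module.FaithfullyFlat.of_flat_of_isLocalHom
  exact Groth.Agent.Lib.Helper24.HensNormal.normal_of_faithfullyFlat
    (Localization.AtPrime p) (Localization.AtPrime q)

theorem isNormalRing_of_faithfullyFlat_ringHom {R S : Type u} [CommRing R] [CommRing S]
    (f : R →+* S) (hf : f.FaithfullyFlat) (hS : EGA4.IsNormalRing S) :
    EGA4.IsNormalRing R := by
  letI : Algebra R S := f.toAlgebra
  haveI : Module.FaithfullyFlat R S := hf
  exact isNormalRing_of_faithfullyFlat R S hS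

variable (A B C : Type u) [CommRing A] [CommRing B] [CommRing C] [Algebra A B] [Algebra B C]
  [Algebra A C] [IsScalarTower A B C] [Module.FaithfullyFlat B C]

/-- Double base change `k' ⊗[k] (k ⊗[A] B) → k' ⊗[k] (k ⊗[A] C)` is faithfully flat. -/
theorem faithfullyFlat_map_left_left (k k' : Type u) [CommRing k] [Algebra A k] [CommRing k']
    [Algebra k k'] :
    (Algebra.TensorProduct.map (AlgHom.id k k')
      (Algebra.TensorProduct.map (AlgHom.id k k) (IsScalarTower.toAlgHom A B C))).toRingHom.FaithfullyFlat := by
  have h1 := Groth.Agent.Lib.Helper24.FibreFF.faithfullyFlat_map_left A B C k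
  letI alg : Algebra (k ⊗[A] B) (k ⊗[A] C) :=
    (Algebra.TensorProduct.map (AlgHom.id k k) (IsScalarTower.toAlgHom A B C)).toRingHom.toAlgebra
  haveI tow : IsScalarTower k (k ⊗[A] B) (k ⊗[A] C) := IsScalarTower.of_algebraMap_eq fun b => by
    rw [RingHom.algebraMap_toAlgebra]
    simp [Algebra.TensorProduct.algebraMap_apply]
  haveI : Module.FaithfullyFlat (k ⊗[A] B) (k ⊗[A] C) := h1
  have h2 := Groth.Agent.Lib.Helper24.FibreFF.faithfullyFlat_map_left k (k ⊗[A] B) (k ⊗[A] C) k'
  convert h2 using 2
  apply AlgHom.ext
  intro x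
  induction x using TensorProduct.induction_on with
  | zero => simp
  | tmul t b => simp [RingHom.algebraMap_toAlgebra]
  | add x y hx hy => rw [map_add, map_add, hx, hy]

end Groth.Agent.Lib.Helper24.NormalDescent
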