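import Mathlib
import Groth.Agent.Lib.Helper24.CplQuot
import Groth.Agent.Lib.Helper24.NormalDescent
import Groth.Agent.Lib.Helper24.CMDescent

/-!
# Fibres of `B/IB` over `R/I` (helper24)

For an `R`-algebra `B`, an `(R/I)`-algebra `B'` with `B/IB ≃ₐ[R/I] B'`, and a prime `P` of `R/I` with
preimage `p` in `R`: `P.Fiber B' ≃ₐ[κ(P)] κ(P) ⊗[κ(p)] p.Fiber B`, where `κ(p) → κ(P)` is bijective.
-/

set_option autoImplicit false
universe u
open IsLocalRing TensorProduct

namespace Groth.Agent.Lib.Helper24.FibreQuot

variable {R : Type u} [CommRing R] (I : Ideal R) (P : Ideal (R ⧸ I)) [P.IsPrime]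

/-- The preimage of `P` in `R`. -/
abbrev pr : Ideal R := P.comap (Ideal.Quotient.mk I)

instance : (pr I P).IsPrime := Ideal.comap_isPrime _ _

/-- The residue field map `κ(p) → κ(P)`. -/
noncomputable abbrev σ : (pr I P).ResidueField →+* P.ResidueField :=
  Ideal.ResidueField.map (pr I P) P (Ideal.Quotient.mk I) rfl

theorem σ_bijective : Function.Bijective (σ I P) :=
  (RingHom.surjectiveOnStalks_of_surjective Ideal.Quotient.mk_surjective).residueFieldMap_bijective
    _ _ rfl

noncomputable instance algσ : Algebra (pr I P).ResidueField P.ResidueField := (σ I P).toAlgebra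

instance towσ : IsScalarTower R (pr I P).ResidueField P.ResidueField := by
  apply IsScalarTower.of_algebraMap_eq'
  ext a
  rw [RingHom.comp_apply]
  change _ = σ I P _
  rw [Ideal.ResidueField.map_algebraMap, IsScalarTower.algebraMap_apply R (R ⧸ I) P.ResidueField]
  rfl

variable (B B' : Type u) [CommRing B] [CommRing B'] [Algebra R B] [Algebra (R ⧸ I) B']

/-- The fibre of `B' ≅ B/IB` over `P`. -/
noncomputable def fibreEquiv (e : (B ⧸ I.map (algebraMap R B)) ≃ₐ[R ⧸ I] B') :
    P.Fiber B' ≃ₐ[P.ResidueField] P.ResidueField ⊗[(pr I P).ResidueField] ((pr I P).Fiber B) :=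
  ((Algebra.TensorProduct.congr (AlgEquiv.refl : P.ResidueField ≃ₐ[P.ResidueField] P.ResidueField)
    (e.symm.trans (Algebra.TensorProduct.quotIdealMapEquivQuotTensor B I))).trans
    (Algebra.TensorProduct.cancelBaseChange R (R ⧸ I) P.ResidueField P.ResidueField B)).trans
    (Algebra.TensorProduct.cancelBaseChange R (pr I P).ResidueField P.ResidueField
      P.ResidueField B).symm

section field

variable (k K F : Type u) [Field k] [Field K] [Algebra k K] [CommRing F] [Algebra k F]

theorem isGeometricallyReduced_baseChange (hbij : Function.Bijective (algebraMap k K))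
    [h : Algebra.IsGeometricallyReduced k F] : Algebra.IsGeometricallyReduced K (K ⊗[k] F) := by
  rw [Algebra.isGeometricallyReduced_field_iff]
  haveI : Module.Finite k K := Module.Finite.of_surjective (Algebra.linearMap k K) hbij.2
  haveI : Algebra.IsAlgebraic k K := Algebra.IsAlgebraic.of_finite k K
  haveI : Algebra.IsAlgebraic k (AlgebraicClosure K) := Algebra.IsAlgebraic.trans k K _
  exact isReduced_of_injective
    (Algebra.TensorProduct.cancelBaseChange k K K (AlgebraicClosure K) F).toRingEquiv
    (Algebra.TensorProduct.cancelBaseChange k K K (AlgebraicClosure K) F).injective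

theorem isNormalRing_of_ringEquiv {S S' : Type u} [CommRing S] [CommRing S'] (e : S ≃+* S')
    (h : EGA4.IsNormalRing S) : EGA4.IsNormalRing S' :=
  NormalDescent.isNormalRing_of_faithfullyFlat_ringHom e.symm.toRingHom
    (.of_bijective e.symm.bijective) h

theorem isGeomNormal_baseChange (hbij : Function.Bijective (algebraMap k K))
    (h : EGA4.IsGeomNormal k F) : EGA4.IsGeomNormal K (K ⊗[k] F) := by
  intro k' _ _ hfin
  letI : Algebra k k' := ((algebraMap K k').comp (algebraMap k K)).toAlgebra
  haveI : IsScalarTower k K k' := IsScalarTower.of_algebraMap_eq' rfl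
  haveI : Module.Finite k K := Module.Finite.of_surjective (Algebra.linearMap k K) hbij.2
  haveI : Module.Finite k k' := Module.Finite.trans K k'
  exact isNormalRing_of_ringEquiv
    (Algebra.TensorProduct.cancelBaseChange k K K k' F).symm.toRingEquiv (h k' inferInstance)

/-- `K ⊗[k] F ≃+* F` when `k → K` is bijective. -/
noncomputable def baseChangeEquiv (hbij : Function.Bijective (algebraMap k K)) : K ⊗[k] F ≃+* F :=
  ((Algebra.TensorProduct.congr (AlgEquiv.ofBijective (Algebra.ofId k K) hbij).symm
    (AlgEquiv.refl : F ≃ₐ[k] F)).trans (Algebra.TensorProduct.lid k F)).toRingEquiv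

end field

section transfer

variable {B B'}
variable (e : (B ⧸ I.map (algebraMap R B)) ≃ₐ[R ⧸ I] B')

include e in
theorem isGeometricallyReduced_fibre
    [h : Algebra.IsGeometricallyReduced (pr I P).ResidueField ((pr I P).Fiber B)] :
    Algebra.IsGeometricallyReduced P.ResidueField (P.Fiber B') := by
  haveI := isGeometricallyReduced_baseChange (pr I P).ResidueField P.ResidueField
    ((pr I P).Fiber B) (σ_bijective I P)
  exact Algebra.IsGeometricallyReduced.of_injective (fibreEquiv I P B B' e).toAlgHom
    (fibreEquiv I P B B' e).injective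

include e in
theorem isGeomNormal_fibre (h : EGA4.IsGeomNormal (pr I P).ResidueField ((pr I P).Fiber B)) :
    EGA4.IsGeomNormal P.ResidueField (P.Fiber B') := by
  have h1 := isGeomNormal_baseChange (pr I P).ResidueField P.ResidueField
    ((pr I P).Fiber B) (σ_bijective I P) h
  intro k' _ _ hfin
  exact isNormalRing_of_ringEquiv
    (Algebra.TensorProduct.congr (AlgEquiv.refl : k' ≃ₐ[P.ResidueField] k')
      (fibreEquiv I P B B' e).symm).toRingEquiv (h1 k' hfin)

/-- Ring isomorphism between the fibres. -/
noncomputable def fibreRingEquiv : P.Fiber B' ≃+* (pr I P).Fiber B :=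
  (fibreEquiv I P B B' e).toRingEquiv.trans
    (baseChangeEquiv (pr I P).ResidueField P.ResidueField ((pr I P).Fiber B) (σ_bijective I P))

include e in
theorem cm_fibre (h : LocCoh.IsCohenMacaulayRing ((pr I P).Fiber B)) :
    LocCoh.IsCohenMacaulayRing (P.Fiber B') :=
  haveI := h
  CMDescent.isCohenMacaulayRing_of_faithfullyFlat_ringHom (fibreRingEquiv I P e).toRingHom
    (.of_bijective (fibreRingEquiv I P e).bijective)

end transfer

section completion

variable (A : Type u) [CommRing A] [IsLocalRing A] [IsNoetherianRing A] (J : Ideal A)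
  [IsLocalRing (A ⧸ J)]

/-- `Cpl A ⧸ J (Cpl A) ≃ₐ[A ⧸ J] Cpl (A ⧸ J)`. -/
noncomputable def cplEquivₐ :
    (AdicCompletion (maximalIdeal A) A ⧸ J.map (algebraMap A (AdicCompletion (maximalIdeal A) A)))
      ≃ₐ[A ⧸ J] AdicCompletion (maximalIdeal (A ⧸ J)) (A ⧸ J) :=
  AlgEquiv.ofRingEquiv (f := CplQuot.equiv A J) (by
    intro x
    obtain ⟨a, rfl⟩ := Ideal.Quotient.mk_surjective x
    have : algebraMap (A ⧸ J) (AdicCompletion (maximalIdeal A) A ⧸
        J.map (algebraMap A (AdicCompletion (maximalIdeal A) A))) (Ideal.Quotient.mk J a) =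
        Ideal.Quotient.mk _ (AdicCompletion.of _ A a) := rfl
    rw [this, CplQuot.equiv_mk_of]
    rfl)

end completion

end Groth.Agent.Lib.Helper24.FibreQuot
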