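import Mathlib
import Groth.Agent.Lib.Helper24.FibLoc

/-!
# Fibres of a localized ring map, general version (helper24)

Setting: `A → B`, `S ⊆ A`, `A' = S⁻¹A`, `M ⊆ B`, `B' = M⁻¹B` an `A'`-algebra compatibly.
For a prime `p'` of `A'` lying over `p` and a field `K` over `κ(p')`:
`K ⊗[κ(p')] p'.Fiber B'` is (iso to) a localization of `K ⊗[κ(p)] p.Fiber B`.
Typical use: `A' = A_p`, `B' = B_q` with `q` over `p`.
-/

set_option autoImplicit false
universe u

open TensorProduct

namespace Groth.Agent.Lib.Helper24.FibLoc

section

variable (A B : Type u) [CommRing A] [CommRing B] [Algebra A B] (S : Submonoid A)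
  (M : Submonoid B)
  (A' B' : Type u) [CommRing A'] [CommRing B'] [Algebra A A'] [Algebra B B'] [Algebra A' B']
  [Algebra A B'] [IsScalarTower A A' B'] [IsScalarTower A B B'] [IsLocalization S A']
  [IsLocalization M B']

include M in
/-- `K ⊗[A] B'` is a localization of `K ⊗[A] B`. -/
theorem tensor_loc2 {P : ∀ (R : Type u) [CommRing R], Prop} (hP : LocStable P)
    (K : Type u) [CommRing K] [Algebra A K] (h : P (K ⊗[A] B)) : P (K ⊗[A] B') := by
  letI : Algebra (K ⊗[A] B) (K ⊗[A] B') :=
    (Algebra.TensorProduct.map (AlgHom.id K K) (IsScalarTower.toAlgHom A B B')).toRingHom.toAlgebra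
  haveI : IsScalarTower K (K ⊗[A] B) (K ⊗[A] B') :=
    IsScalarTower.of_algebraMap_eq' (by
      ext x
      simp [RingHom.algebraMap_toAlgebra])
  have H : (algebraMap (K ⊗[A] B) (K ⊗[A] B')).comp
      (Algebra.TensorProduct.includeRight (R := A) (A := K) (B := B)).toRingHom =
      (Algebra.TensorProduct.includeRight (R := A) (A := K) (B := B')).toRingHom.comp
        (algebraMap B B') := by
    ext x
    simp [RingHom.algebraMap_toAlgebra]
  haveI := IsLocalization.tensorProduct_tensorProduct_right A K M B' H
  exact hP.loc (K ⊗[A] B) (K ⊗[A] B')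
    (M.map (Algebra.TensorProduct.includeRight (R := A) (A := K))) h

include S M in
/-- Main transfer: `P (K ⊗[κ(p)] p.Fiber B) → P (K ⊗[κ(p')] p'.Fiber B')`. -/
theorem transfer2 {P : ∀ (R : Type u) [CommRing R], Prop} (hP : LocStable P)
    (p' : Ideal A') [p'.IsPrime] (p : Ideal A) [p.IsPrime]
    (K : Type u) [Field K] [Algebra A K] [Algebra A' K] [IsScalarTower A A' K]
    [Algebra p.ResidueField K] [IsScalarTower A p.ResidueField K]
    [Algebra p'.ResidueField K] [IsScalarTower A' p'.ResidueField K]
    (h : P (K ⊗[p.ResidueField] p.Fiber B)) : P (K ⊗[p'.ResidueField] p'.Fiber B') := by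
  have h1 : P (K ⊗[A] B) :=
    hP.iso _ _ (Algebra.TensorProduct.cancelBaseChange A p.ResidueField K K B).toRingEquiv h
  have h2 : P (K ⊗[A] B') := tensor_loc2 A B M B' hP K h1
  have h3 : P (K ⊗[A'] B') :=
    hP.iso _ _ (IsLocalization.algebraTensorEquiv S A' K B').symm.toRingEquiv h2
  exact hP.iso _ _
    (Algebra.TensorProduct.cancelBaseChange A' p'.ResidueField K K B').symm.toRingEquiv h3

include S M in
/-- Packaged version. -/
theorem transfer2' {P : ∀ (R : Type u) [CommRing R], Prop} (hP : LocStable P)
    (p' : Ideal A') [p'.IsPrime] (K : Type u) [Field K] [Algebra p'.ResidueField K] :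
    ∃ (_ : Algebra (p'.comap (algebraMap A A')).ResidueField K),
      (Module.Finite p'.ResidueField K → Module.Finite (p'.comap (algebraMap A A')).ResidueField K) ∧
      (Algebra.IsAlgebraic p'.ResidueField K →
        Algebra.IsAlgebraic (p'.comap (algebraMap A A')).ResidueField K) ∧
      (P (K ⊗[(p'.comap (algebraMap A A')).ResidueField] (p'.comap (algebraMap A A')).Fiber B) →
        P (K ⊗[p'.ResidueField] p'.Fiber B')) := by
  set p : Ideal A := p'.comap (algebraMap A A') with hp
  let σ : p.ResidueField →+* p'.ResidueField :=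
    Ideal.ResidueField.map p p' (algebraMap A A') rfl
  have hσ : Function.Bijective σ :=
    (RingHom.surjectiveOnStalks_of_isLocalization (M := S) A').residueFieldMap_bijective p p' rfl
  letI iκ : Algebra p.ResidueField p'.ResidueField := σ.toAlgebra
  letI iK : Algebra p.ResidueField K := ((algebraMap p'.ResidueField K).comp σ).toAlgebra
  haveI : IsScalarTower p.ResidueField p'.ResidueField K :=
    IsScalarTower.of_algebraMap_eq' rfl
  letI iA'K : Algebra A' K :=
    ((algebraMap p'.ResidueField K).comp (algebraMap A' p'.ResidueField)).toAlgebra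
  haveI : IsScalarTower A' p'.ResidueField K := IsScalarTower.of_algebraMap_eq' rfl
  letI iAK : Algebra A K := ((algebraMap A' K).comp (algebraMap A A')).toAlgebra
  haveI : IsScalarTower A A' K := IsScalarTower.of_algebraMap_eq' rfl
  haveI : IsScalarTower A p.ResidueField K := IsScalarTower.of_algebraMap_eq' (by
    ext a
    change algebraMap p'.ResidueField K (algebraMap A' p'.ResidueField (algebraMap A A' a)) =
      algebraMap p'.ResidueField K (σ (algebraMap A p.ResidueField a))
    rw [Ideal.ResidueField.map_algebraMap])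
  haveI hfinκ : Module.Finite p.ResidueField p'.ResidueField :=
    Module.Finite.of_surjective (Algebra.linearMap p.ResidueField p'.ResidueField) hσ.2
  refine ⟨iK, ?_, ?_, ?_⟩
  · intro hfin
    exact Module.Finite.trans p'.ResidueField K
  · intro halg
    haveI : Algebra.IsAlgebraic p.ResidueField p'.ResidueField := Algebra.IsAlgebraic.of_finite _ _
    exact Algebra.IsAlgebraic.trans p.ResidueField p'.ResidueField K
  · intro h
    exact transfer2 A B S M A' B' hP p' p K h

include S M in
/-- The fibre ring of the localized map, without field extension: `P (p.Fiber B) → P (p'.Fiber B')`. -/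
theorem transfer_fiber {P : ∀ (R : Type u) [CommRing R], Prop} (hP : LocStable P)
    (p' : Ideal A') [p'.IsPrime]
    (h : P ((p'.comap (algebraMap A A')).Fiber B)) : P (p'.Fiber B') := by
  let σ : (p'.comap (algebraMap A A')).ResidueField →ₐ[A] p'.ResidueField :=
    Ideal.ResidueField.mapₐ (p'.comap (algebraMap A A')) p' (Algebra.ofId A A') rfl
  have hσ : Function.Bijective σ :=
    (RingHom.surjectiveOnStalks_of_isLocalization (M := S) A').residueFieldMap_bijective
      (p'.comap (algebraMap A A')) p' rfl
  let e : (p'.comap (algebraMap A A')).ResidueField ≃ₐ[A] p'.ResidueField :=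
    AlgEquiv.ofBijective σ hσ
  have h1 : P ((p'.comap (algebraMap A A')).ResidueField ⊗[A] B') :=
    tensor_loc2 A B M B' hP (p'.comap (algebraMap A A')).ResidueField h
  have h2 : P (p'.ResidueField ⊗[A] B') :=
    hP.iso _ _ (Algebra.TensorProduct.congr e (AlgEquiv.refl (R := A) (A₁ := B'))).toRingEquiv h1
  exact hP.iso _ _
    (IsLocalization.algebraTensorEquiv S A' p'.ResidueField B').symm.toRingEquiv h2

end

end Groth.Agent.Lib.Helper24.FibLoc
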