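import Mathlib
import Groth.Agent.S0602
import Groth.Agent.S2086
import Groth.Agent.Lib.Helper24.FlatDepth5
import Groth.Agent.Lib.Helper24.RegularAscent

/-!
# Ascent of `(R_k)` and reducedness along flat maps with good fibres (helper24)
-/

set_option autoImplicit false
universe u
open TensorProduct IsLocalRing LocCoh
open Groth.Agent.Lib.Helper24.FlatDepth

namespace Groth.Agent.Lib.Helper24.ReducedAscent

variable (R S : Type u) [CommRing R] [CommRing S] [Algebra R S] [IsNoetherianRing R]
  [IsNoetherianRing S] [Module.Flat R S]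

/-- `(R_k)` ascends along flat maps whose fibre rings satisfy `(R_k)`. -/
theorem hasRk_of_flat_of_fibres (k : ℕ) (hR : HasRk k R)
    (hfib : ∀ (p : Ideal R) [p.IsPrime], HasRk k (p.Fiber S)) : HasRk k S := by
  intro Q hQ hht
  set p : Ideal R := Q.under R with hp
  haveI : Q.LiesOver p := ⟨rfl⟩
  obtain ⟨-, h2⟩ := depth_dim_atPrime R S p Q
  obtain ⟨q', hq', ⟨e⟩⟩ := exists_fibre_prime_equiv R S p Q
  obtain ⟨dR, hdR⟩ := Groth.Agent.Lib.Helper24.CatEquidim.exists_nat_eq_ringKrullDim
    (Localization.AtPrime p)
  obtain ⟨dF, hdF⟩ := Groth.Agent.Lib.Helper24.CatEquidim.exists_nat_eq_ringKrullDim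
    (FibLoc R S p Q)
  have hQd : ringKrullDim (Localization.AtPrime Q) ≤ k := by
    rw [IsLocalization.AtPrime.ringKrullDim_eq_height Q]
    exact_mod_cast hht
  rw [h2, hdR, hdF] at hQd
  have hsum : dR + dF ≤ k := by exact_mod_cast hQd
  -- the base is regular at `p`
  have hpk : p.height ≤ k := by
    have : ringKrullDim (Localization.AtPrime p) ≤ k := by
      rw [hdR]
      exact_mod_cast (le_trans (Nat.le_add_right dR dF) hsum)
    rw [IsLocalization.AtPrime.ringKrullDim_eq_height p] at this
    exact_mod_cast this
  haveI hRp : IsRegularLocalRing (Localization.AtPrime p) := hR p hpk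
  -- the fibre is regular at `q'`
  have hq'k : q'.height ≤ k := by
    have : ringKrullDim (Localization.AtPrime q') ≤ k := by
      rw [ringKrullDim_eq_of_ringEquiv e, hdF]
      exact_mod_cast (le_trans (Nat.le_add_left dF dR) hsum)
    have h3 := IsLocalization.AtPrime.ringKrullDim_eq_height q' (Localization.AtPrime q')
    have h4 : ((q'.height : ℕ∞) : WithBot ℕ∞) ≤ k := by
      rw [← h3]; convert this using 2
    exact_mod_cast h4
  haveI hFq : IsRegularLocalRing (Localization.AtPrime q') := hfib p q' hq'k
  haveI hF : IsRegularLocalRing (FibLoc R S p Q) :=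
    IsRegularLocalRing.of_ringEquiv (R := Localization.AtPrime q') e
  -- ascent
  letI := Localization.AtPrime.algebraOfLiesOver p Q
  haveI hloc : IsLocalHom (algebraMap (Localization.AtPrime p) (Localization.AtPrime Q)) :=
    Localization.isLocalHom_localRingHom _ Q (algebraMap R S) Ideal.LiesOver.over
  haveI hflat : Module.Flat (Localization.AtPrime p) (Localization.AtPrime Q) := inferInstance
  have hI : (maximalIdeal (Localization.AtPrime p)).map
      (algebraMap (Localization.AtPrime p) (Localization.AtPrime Q)) =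
      (p.map (algebraMap R S)).map (algebraMap S (Localization.AtPrime Q)) := by
    rw [← Localization.AtPrime.map_eq_maximalIdeal, Ideal.map_map, Ideal.map_map,
      ← IsScalarTower.algebraMap_eq, ← IsScalarTower.algebraMap_eq]
  haveI : IsRegularLocalRing (Localization.AtPrime Q ⧸
      (maximalIdeal (Localization.AtPrime p)).map
        (algebraMap (Localization.AtPrime p) (Localization.AtPrime Q))) :=
    IsRegularLocalRing.of_ringEquiv (Ideal.quotEquivOfEq hI.symm)
  exact Groth.Agent.Lib.Helper24.RegularAscent.isRegularLocalRing_of_flat_of_fibre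
    (Localization.AtPrime p) (Localization.AtPrime Q)

/-- Reducedness ascends along flat maps of Noetherian rings with reduced fibre rings. -/
theorem isReduced_of_flat_of_fibres [IsReduced R]
    (hfib : ∀ (p : Ideal R) [p.IsPrime], IsReduced (p.Fiber S)) : IsReduced S := by
  have hR := (Groth.Agent.S0602.result R).mp inferInstance
  have hF : ∀ (p : Ideal R) [p.IsPrime], HasRk 0 (p.Fiber S) ∧ HasSk 1 (p.Fiber S) (p.Fiber S) := by
    intro p _
    haveI : IsNoetherianRing (p.Fiber S) :=
      Groth.Agent.Lib.Helper24.HensFibre.isNoetherianRing_fibre R S p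
    exact (Groth.Agent.S0602.result (p.Fiber S)).mp (hfib p)
  rw [Groth.Agent.S0602.result S]
  exact ⟨hasRk_of_flat_of_fibres R S 0 hR.1 (fun p _ => (hF p).1),
    Groth.Agent.S2086.result 1 hR.2 (fun p _ => (hF p).2)⟩

end Groth.Agent.Lib.Helper24.ReducedAscent
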