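import Mathlib
import Groth.Agent.S0602
import Groth.Agent.Lib.Helper24.FlatDepth5

/-!
# Serre's normality criterion, part 1 (helper24): `(R_k)`, `(S_k)` localize; monotonicity
-/

set_option autoImplicit false
universe u
open IsLocalRing LocCoh
open Groth.Agent.Lib.Helper24.HensDepth
open Groth.Agent.Lib.Helper24.FlatDepth

namespace Groth.Agent.Lib.Helper24.SerreNormal

theorem hasRk_mono {k l : ℕ} (h : k ≤ l) (R : Type u) [CommRing R] (hR : HasRk l R) :
    HasRk k R := by
  intro p _ hp
  exact hR p (le_trans hp (by exact_mod_cast h))

theorem hasSk_mono {k l : ℕ} (h : k ≤ l) (R : Type u) [CommRing R] (hR : HasSk l R R) :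
    HasSk k R R := by
  intro p _
  refine le_trans (min_le_min_right _ ?_) (hR p)
  exact_mod_cast h

section loc

variable (R : Type u) [CommRing R] [IsNoetherianRing R] (p : Ideal R) [p.IsPrime]

omit [IsNoetherianRing R] in
/-- the local ring of `R_p` at `q'` is the local ring of `R` at the contraction. -/
theorem exists_equiv_under (q' : Ideal (Localization.AtPrime p)) [q'.IsPrime] :
    Nonempty (Localization.AtPrime (q'.under R) ≃+* Localization.AtPrime q') := by
  haveI h1 : IsLocalization.AtPrime (Localization.AtPrime q')
      (q'.comap (algebraMap R (Localization.AtPrime p))) :=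
    IsLocalization.isLocalization_isLocalization_atPrime_isLocalization p.primeCompl
      (Localization.AtPrime q') q'
  let e : Localization.AtPrime (q'.comap (algebraMap R (Localization.AtPrime p))) ≃ₐ[R]
      Localization.AtPrime q' :=
    IsLocalization.algEquiv (q'.comap (algebraMap R (Localization.AtPrime p))).primeCompl _ _
  exact ⟨e.toRingEquiv⟩

omit [IsNoetherianRing R] in
theorem hasRk_localization (k : ℕ) (hR : HasRk k R) : HasRk k (Localization.AtPrime p) := by
  intro q' _ hq'
  obtain ⟨e⟩ := exists_equiv_under R p q'
  have hh : (q'.under R).height ≤ k := by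
    rw [IsLocalization.height_under p.primeCompl q']; exact hq'
  haveI := hR (q'.under R) hh
  exact IsRegularLocalRing.of_ringEquiv (R := Localization.AtPrime (q'.under R)) e

theorem hasSk_localization (k : ℕ) (hR : HasSk k R R) :
    HasSk k (Localization.AtPrime p) (Localization.AtPrime p) := by
  rw [hasSk_iff_skAt] at hR ⊢
  intro q' _
  obtain ⟨e⟩ := exists_equiv_under R p q'
  have h := hR (q'.under R)
  unfold SkAt at h ⊢
  rw [Module.supportDim_self_eq_ringKrullDim] at h ⊢
  rw [← ringKrullDim_eq_of_ringEquiv e, depth_eq_of_ringEquiv e]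
  exact h

end loc

end Groth.Agent.Lib.Helper24.SerreNormal
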