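import Mathlib
import Groth.Agent.Lib.Helper24.SerreNormal1
import Groth.Agent.Lib.Helper26.DepthLoc
import Groth.Agent.Lib.Helper26.RegularNormal

/-!
# Serre's normality criterion, part 2 (helper24): the key divisibility lemma
-/

set_option autoImplicit false
universe u
open IsLocalRing LocCoh Polynomial
open Groth.Agent.Lib.Helper24.HensDepth
open Groth.Agent.Lib.Helper24.FlatDepth
open Groth.Agent.Lib.helper26.Depth
open scoped Pointwise

namespace Groth.Agent.Lib.Helper24.SerreNormal

/-- In an integrally closed domain, a monic homogeneous relation forces divisibility. -/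
theorem dvd_of_scaleRoots_eval_eq_zero (B : Type u) [CommRing B] [IsDomain B]
    [IsIntegrallyClosed B] (a b : B) (hb : b ≠ 0) (P : B[X]) (hP : P.Monic)
    (h : (scaleRoots P b).eval a = 0) : b ∣ a := by
  let K := FractionRing B
  let f := algebraMap B K
  have hfb : f b ≠ 0 := by
    rw [Ne, map_eq_zero_iff _ (IsFractionRing.injective B K)]; exact hb
  let x : K := f a / f b
  have hx : f b * x = f a := by
    simp only [x]; rw [mul_div_cancel₀ _ hfb]
  have h1 : eval₂ f (f b * x) (scaleRoots P b) = f b ^ P.natDegree * eval₂ f x P :=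
    scaleRoots_eval₂_mul f x b
  rw [hx, eval₂_at_apply, h, map_zero] at h1
  have h2 : eval₂ f x P = 0 := by
    rcases mul_eq_zero.mp h1.symm with h3 | h3
    · exact absurd (pow_eq_zero_iff (n := P.natDegree) (by
        intro h0; rw [h0] at h3; simp at h3) |>.mp h3) hfb
    · exact h3
  have hint : IsIntegral B x := ⟨P, hP, h2⟩
  obtain ⟨c, hc⟩ := (IsIntegrallyClosed.isIntegral_iff (R := B) (K := K)).1 hint
  refine ⟨c, ?_⟩
  apply IsFractionRing.injective B K
  rw [map_mul, hc]
  exact hx.symm

/-- Key lemma for Serre's criterion: under `(R_1)` and `(S_2)`, a fraction `a/b` with `b` a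
non-zero-divisor which satisfies a monic homogeneous relation lies in the ring. -/
theorem dvd_of_scaleRoots (A : Type u) [CommRing A] [IsNoetherianRing A]
    (hR : HasRk 1 A) (hS : HasSk 2 A A) (a b : A) (hb : b ∈ nonZeroDivisors A)
    (P : A[X]) (hP : P.Monic) (h0 : (scaleRoots P b).eval a = 0) : b ∣ a := by
  classical
  by_contra hdvd
  have hreg : IsSMulRegular A b := by
    intro x y hxy
    have h1 : b * (x - y) = 0 := by
      rw [mul_sub]; exact sub_eq_zero.mpr hxy
    have h2 := (mem_nonZeroDivisors_iff.mp hb).1 (x - y) h1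
    exact sub_eq_zero.mp h2
  let abar : QuotSMulTop b A := Submodule.Quotient.mk a
  have habar : abar ≠ 0 := by
    intro h
    rw [Submodule.Quotient.mk_eq_zero] at h
    obtain ⟨c, -, hc⟩ := (Submodule.mem_smul_pointwise_iff_exists _ _ _).mp h
    exact hdvd ⟨c, hc.symm⟩
  obtain ⟨q, hq, hle⟩ := exists_le_isAssociatedPrime_of_isNoetherianRing A abar habar
  haveI hqp : q.IsPrime := hq.isPrime
  have hbq : b ∈ q := by
    apply hle
    rw [Submodule.mem_colon_singleton, Submodule.mem_bot]
    change (Submodule.Quotient.mk (b • a) : QuotSMulTop b A) = 0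
    rw [Submodule.Quotient.mk_eq_zero]
    exact Submodule.smul_mem_pointwise_smul a b ⊤ Submodule.mem_top
  -- depth of `A_q` is one
  obtain ⟨_, hd0⟩ := depth_localization_eq_zero_of_mem_associatedPrimes (QuotSMulTop b A) q hq
  have hd1 := depth_localization_quotSMulTop q A b hbq hreg
  rw [hd0, zero_add] at hd1
  have hS2 := hS q
  rw [← hd1] at hS2
  have hdim : ringKrullDim (Localization.AtPrime q) ≤ 1 := by
    have h3 : Module.supportDim (Localization.AtPrime q) (LocalizedModule q.primeCompl A) =
        ringKrullDim (Localization.AtPrime q) :=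
      Module.supportDim_self_eq_ringKrullDim (R := Localization.AtPrime q)
    rw [h3] at hS2
    rcases min_le_iff.mp hS2 with h4 | h4
    · exfalso
      have h7 : ((2 : ℕ) : ℕ∞) ≤ ((1 : ℕ) : ℕ∞) := WithBot.coe_le_coe.mp h4
      have := Nat.cast_le.mp h7
      omega
    · exact_mod_cast h4
  have hht : q.height ≤ 1 := by
    rw [IsLocalization.AtPrime.ringKrullDim_eq_height q] at hdim
    exact_mod_cast hdim
  haveI hreg1 : IsRegularLocalRing (Localization.AtPrime q) := hR q (by exact_mod_cast hht)
  haveI : IsDomain (Localization.AtPrime q) :=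
    Groth.Agent.Lib.helper15.isDomain_of_isRegularLocalRing _
  haveI : IsIntegrallyClosed (Localization.AtPrime q) :=
    Groth.Agent.Lib.helper26.RegNormal.isIntegrallyClosed _
  -- pass to `A_q`
  let φ := algebraMap A (Localization.AtPrime q)
  have hφb : φ b ≠ 0 := by
    intro h
    obtain ⟨s, hs⟩ := (IsLocalization.map_eq_zero_iff q.primeCompl (Localization.AtPrime q) b).mp h
    have : (s : A) = 0 := (mem_nonZeroDivisors_iff.mp hb).2 _ hs
    exact s.2 (this ▸ q.zero_mem)
  have hmap : (scaleRoots (P.map φ) (φ b)).eval (φ a) = 0 := by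
    rw [← map_scaleRoots P b φ (by rw [hP.leadingCoeff, map_one]; exact one_ne_zero),
      eval_map, eval₂_at_apply, h0, map_zero]
  obtain ⟨c', hc'⟩ := dvd_of_scaleRoots_eval_eq_zero (Localization.AtPrime q) (φ a) (φ b) hφb
    (P.map φ) (hP.map φ) hmap
  -- clear denominators
  have hmem : φ a ∈ (Ideal.span {b}).map φ := by
    rw [Ideal.map_span, Set.image_singleton, Ideal.mem_span_singleton]
    exact ⟨c', hc'⟩
  obtain ⟨⟨⟨i, hi⟩, s⟩, his⟩ :=
    (IsLocalization.mem_map_algebraMap_iff q.primeCompl (Localization.AtPrime q)).mp hmem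
  simp only at his
  rw [← map_mul] at his
  obtain ⟨t, ht⟩ := (IsLocalization.eq_iff_exists q.primeCompl (Localization.AtPrime q)).mp his
  have hts : ((t : A) * (s : A)) ∈ (⊥ : Submodule A (QuotSMulTop b A)).colon {abar} := by
    rw [Submodule.mem_colon_singleton, Submodule.mem_bot]
    change (Submodule.Quotient.mk (((t : A) * (s : A)) • a) : QuotSMulTop b A) = 0
    rw [Submodule.Quotient.mk_eq_zero]
    obtain ⟨d, hd⟩ := Ideal.mem_span_singleton.mp hi
    have : ((t : A) * (s : A)) • a = b • ((t : A) * d) := by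
      simp only [smul_eq_mul]
      rw [mul_assoc, mul_comm (s : A) a, ht, hd]; ring
    rw [this]
    exact Submodule.smul_mem_pointwise_smul _ b ⊤ Submodule.mem_top
  exact (q.primeCompl.mul_mem t.2 s.2) (hle hts)

end Groth.Agent.Lib.Helper24.SerreNormal
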