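import Mathlib
import Groth.Agent.Lib.Helper24.SerreNormal2

/-!
# Serre's normality criterion, part 3 (helper24): from divisibility to normality
-/

set_option autoImplicit false
universe u
open IsLocalRing LocCoh Polynomial

namespace Groth.Agent.Lib.Helper24.SerreNormal

/-- Under `(R_1)` and `(S_2)`, a Noetherian ring is integrally closed in its total ring of
fractions, in the form of a divisibility statement. -/
theorem dvd_of_isIntegral (A : Type u) [CommRing A] [IsNoetherianRing A]
    (hR : HasRk 1 A) (hS : HasSk 2 A A) (a : A) (b : nonZeroDivisors A)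
    (hint : IsIntegral A (IsLocalization.mk' (FractionRing A) a b)) : (b : A) ∣ a := by
  obtain ⟨P, hP, hPx⟩ := hint
  have h1 : aeval (algebraMap A (FractionRing A) a) (scaleRoots P (b : A)) = 0 :=
    scaleRoots_aeval_eq_zero_of_aeval_mk'_eq_zero (S := FractionRing A) hPx
  rw [aeval_algebraMap_apply] at h1
  have h0 : (scaleRoots P (b : A)).eval a = 0 := by
    apply IsLocalization.injective (FractionRing A) (le_refl (nonZeroDivisors A))
    rw [map_zero, ← h1, coe_aeval_eq_eval]
  exact dvd_of_scaleRoots A hR hS a b b.2 P hP h0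

/-- In a Noetherian ring, an ideal with trivial annihilator contains a non-zero-divisor. -/
theorem exists_nonZeroDivisor_mem (A : Type u) [CommRing A] [IsNoetherianRing A] (I : Ideal A)
    (hI : ∀ z : A, (∀ i ∈ I, z * i = 0) → z = 0) : ∃ s ∈ I, s ∈ nonZeroDivisors A := by
  by_contra h
  push Not at h
  have hdisj : Disjoint (I : Set A) (nonZeroDivisors A) :=
    Set.disjoint_left.mpr (fun s hs => h s hs)
  obtain ⟨-, z, hz, hz0⟩ := SetLike.lt_iff_le_and_exists.mp
    (Ideal.bot_lt_annihilator_of_disjoint_nonZeroDivisors hdisj)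
  apply hz0
  rw [Submodule.mem_bot]
  apply hI z
  intro i hi
  have := Module.mem_annihilator.mp hz ⟨i, hi⟩
  exact congrArg Subtype.val this

section

variable (A : Type u) [CommRing A]
  (H : ∀ (a : A) (b : nonZeroDivisors A),
    IsIntegral A (IsLocalization.mk' (FractionRing A) a b) → (b : A) ∣ a)

include H in
theorem isDomain_of_local [IsNoetherianRing A] [IsLocalRing A] [IsReduced A] : IsDomain A := by
  haveI : NoZeroDivisors A := by
    constructor
    intro x y hxy
    by_contra hne
    push Not at hne
    obtain ⟨hx, hy⟩ := hne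
    let J : Ideal A := (Ideal.span {x}).annihilator
    let J' : Ideal A := J.annihilator
    have hI : ∀ z : A, (∀ i ∈ J ⊔ J', z * i = 0) → z = 0 := by
      intro z hz
      have hzJ' : z ∈ J' := by
        rw [Submodule.mem_annihilator]
        intro i hi
        exact hz i (Submodule.mem_sup_left hi)
      have hzz : z * z = 0 := hz z (Submodule.mem_sup_right hzJ')
      exact IsReduced.eq_zero z ⟨2, by rw [pow_two]; exact hzz⟩
    obtain ⟨s, hsI, hs⟩ := exists_nonZeroDivisor_mem A (J ⊔ J') hI
    obtain ⟨u, hu, v, hv, rfl⟩ := Submodule.mem_sup.mp hsI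
    have hvu : v * u = 0 := (Submodule.mem_annihilator.mp hv) u hu
    have huu : u * u = (u + v) * u := by rw [add_mul, hvu, add_zero]
    -- the idempotent
    let e : FractionRing A := IsLocalization.mk' (FractionRing A) u (⟨u + v, hs⟩ : nonZeroDivisors A)
    have hee : e * e = e := by
      simp only [e]
      rw [← IsLocalization.mk'_mul, IsLocalization.mk'_eq_iff_eq]
      congr 1
      simp only [Submonoid.coe_mul]
      rw [huu]; ring
    have hint : IsIntegral A e := by
      refine ⟨X * (X - C 1), monic_X.mul (monic_X_sub_C 1), ?_⟩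
      rw [eval₂_mul, eval₂_X, eval₂_sub, eval₂_X, eval₂_C, map_one, mul_sub, hee, mul_one, sub_self]
    obtain ⟨c, hc⟩ := H u ⟨u + v, hs⟩ hint
    simp only at hc
    have hcc : c * c = c := by
      have h1 : (u + v) * (u + v) * (c * c - c) = 0 := by
        have : (u + v) * (u + v) * (c * c - c) = ((u + v) * c) * ((u + v) * c) - (u + v) * ((u + v) * c) := by
          ring
        rw [this, ← hc, huu]; ring
      have h2 := (mem_nonZeroDivisors_iff.mp (mul_mem hs hs)).1 _ h1
      exact sub_eq_zero.mp h2
    have hc1 : c * (1 - c) = 0 := by rw [mul_sub, mul_one, hcc, sub_self]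
    rcases IsLocalRing.isUnit_or_isUnit_one_sub_self c with hcu | hcu
    · -- c = 1
      have h1 : 1 - c = 0 := by
        have := hcu.mul_right_eq_zero.mp hc1
        exact this
      have hc' : c = 1 := (sub_eq_zero.mp h1).symm
      rw [hc', mul_one] at hc
      -- u = u + v, so `u + v ∈ J`
      have : (u + v) * x = 0 := by
        rw [← hc]
        exact Submodule.mem_annihilator_span_singleton _ _ |>.mp hu
      exact hx ((mem_nonZeroDivisors_iff.mp hs).1 x this)
    · -- c = 0
      have hc' : c = 0 := hcu.mul_left_eq_zero.mp hc1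
      rw [hc', mul_zero] at hc
      have hyJ : y ∈ J := by
        rw [Submodule.mem_annihilator_span_singleton]
        rw [smul_eq_mul, mul_comm]; exact hxy
      have : (u + v) * y = 0 := by
        rw [hc, zero_add]
        exact (Submodule.mem_annihilator.mp hv) y hyJ
      exact hy ((mem_nonZeroDivisors_iff.mp hs).1 y this)
  exact NoZeroDivisors.to_isDomain A

include H in
theorem isIntegrallyClosed_of_dvd [IsDomain A] : IsIntegrallyClosed A := by
  rw [isIntegrallyClosed_iff (FractionRing A)]
  intro x hx
  obtain ⟨a, b, rfl⟩ := IsLocalization.exists_mk'_eq (nonZeroDivisors A) x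
  obtain ⟨c, hc⟩ := H a b hx
  refine ⟨c, ?_⟩
  rw [eq_comm, IsLocalization.mk'_eq_iff_eq_mul, hc, map_mul, mul_comm]

end

/-- Serre's criterion, local form. -/
theorem normal_of_local (A : Type u) [CommRing A] [IsNoetherianRing A] [IsLocalRing A]
    (hR : HasRk 1 A) (hS : HasSk 2 A A) : IsDomain A ∧ IsIntegrallyClosed A := by
  haveI : IsReduced A := (Groth.Agent.S0602.result A).mpr
    ⟨hasRk_mono (by norm_num) A hR, hasSk_mono (by norm_num) A hS⟩
  haveI hdom : IsDomain A := isDomain_of_local A (dvd_of_isIntegral A hR hS)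
  exact ⟨hdom, isIntegrallyClosed_of_dvd A (dvd_of_isIntegral A hR hS)⟩

/-- Serre's criterion, `(R_1) + (S_2) ⇒` normal. -/
theorem normal_of_R1_S2 (R : Type u) [CommRing R] [IsNoetherianRing R]
    (hR : HasRk 1 R) (hS : HasSk 2 R R) (p : Ideal R) [p.IsPrime] :
    IsDomain (Localization.AtPrime p) ∧ IsIntegrallyClosed (Localization.AtPrime p) :=
  normal_of_local (Localization.AtPrime p) (hasRk_localization R p 1 hR)
    (hasSk_localization R p 2 hS)

end Groth.Agent.Lib.Helper24.SerreNormal
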