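import Mathlib
import Groth.Agent.S14359
import Groth.Agent.Lib.Helper24.SerreNormal3

/-!
# Serre's normality criterion, part 4 (helper24): normal ⇒ `(R_1) + (S_2)`
-/

set_option autoImplicit false
universe u
open IsLocalRing LocCoh Polynomial
open Groth.Agent.Lib.helper26.Depth
open scoped Pointwise

namespace Groth.Agent.Lib.Helper24.SerreNormal

section local_

variable (B : Type u) [CommRing B] [IsNoetherianRing B] [IsLocalRing B] [IsDomain B]
  [IsIntegrallyClosed B]

theorem regular_of_normal_dim_le_one (hd : ringKrullDim B ≤ 1) : IsRegularLocalRing B := by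
  by_cases hm : maximalIdeal B = ⊥
  · exact Groth.Agent.S0602.regular_of_maxIdeal_eq_bot hm
  · have hnf : ¬ IsField B := fun hf => hm (IsLocalRing.isField_iff_maximalIdeal_eq.mp hf)
    haveI : IsDiscreteValuationRing B := by
      apply ((IsDiscreteValuationRing.TFAE B hnf).out 0 3).mpr
      refine ⟨inferInstance, maximalIdeal B, ⟨hm, inferInstance⟩, ?_⟩
      rintro P ⟨hP0, hPp⟩
      by_contra hne
      haveI := hPp
      have hlt : P < maximalIdeal B := lt_of_le_of_ne (le_maximalIdeal hPp.ne_top) hne
      have h1 : 1 ≤ P.height := by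
        rw [Order.one_le_iff_pos, pos_iff_ne_zero, Ne, Ideal.height_eq_zero_iff_eq_bot]
        exact hP0
      have h2 : P.height < (maximalIdeal B).height := Ideal.height_strict_mono_of_isPrime hlt
      have h3 : ((maximalIdeal B).height : WithBot ℕ∞) ≤ 1 := by
        rw [IsLocalRing.maximalIdeal_height_eq_ringKrullDim]; exact hd
      have h4 : (maximalIdeal B).height ≤ 1 := by exact_mod_cast h3
      exact absurd (lt_of_le_of_lt h1 (lt_of_lt_of_le h2 h4)) (lt_irrefl _)
    infer_instance

noncomputable def quotSMulTopEquiv (a : B) : QuotSMulTop a B ≃ₗ[B] (B ⧸ Ideal.span {a}) :=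
  Submodule.quotEquivOfEq _ _ (by
    rw [← Submodule.ideal_span_singleton_smul, smul_eq_mul, Ideal.mul_top])

theorem sk_two_of_normal :
    min (2 : WithBot ℕ∞) (ringKrullDim B) ≤ ((depth B B : ℕ∞) : WithBot ℕ∞) := by
  by_cases hm : maximalIdeal B = ⊥
  · rw [Groth.Agent.S0602.krullDim_of_maxIdeal_eq_bot hm]
    refine le_trans (min_le_right _ _) ?_
    exact WithBot.coe_le_coe.mpr (zero_le : (0 : ℕ∞) ≤ depth B B)
  · obtain ⟨a, ham, ha0⟩ : ∃ a ∈ maximalIdeal B, a ≠ 0 := Submodule.exists_mem_ne_zero_of_ne_bot hm
    have hreg : IsSMulRegular B a := by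
      intro x y hxy
      exact mul_left_cancel₀ ha0 hxy
    have h1 := idealDepth_quotSMulTop_add_one (maximalIdeal B) B a ham hreg
    by_cases h0 : idealDepth (maximalIdeal B) (QuotSMulTop a B) = 0
    · obtain ⟨P, hP, hmP⟩ := exists_associatedPrime_ge_of_idealDepth_eq_zero (maximalIdeal B)
        (QuotSMulTop a B) h0
      have hPm : P = maximalIdeal B := le_antisymm (le_maximalIdeal hP.isPrime.ne_top) hmP
      have hP' : P ∈ associatedPrimes B (B ⧸ Ideal.span {a}) := by
        rw [← LinearEquiv.AssociatedPrimes.eq (quotSMulTopEquiv B a)]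
        exact hP
      have hht := Groth.Agent.S14359.result B a ha0 P hP'
      have hdim : ringKrullDim B = 1 := by
        rw [← IsLocalRing.maximalIdeal_height_eq_ringKrullDim, ← hPm, hht]; rfl
      unfold depth
      rw [← h1, h0, hdim, zero_add]
      exact min_le_right _ _
    · have h2 : 1 ≤ idealDepth (maximalIdeal B) (QuotSMulTop a B) :=
        Order.one_le_iff_ne_zero.mpr h0
      have h3 : (2 : ℕ∞) ≤ depth B B := by
        unfold depth
        rw [← h1]
        calc (2 : ℕ∞) = 1 + 1 := by norm_num
          _ ≤ _ := add_le_add_left h2 1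
      refine le_trans (min_le_left _ _) ?_
      exact WithBot.coe_le_coe.mpr h3

end local_

section global

variable (R : Type u) [CommRing R] [IsNoetherianRing R]
  (h : ∀ (p : Ideal R) [p.IsPrime],
    IsDomain (Localization.AtPrime p) ∧ IsIntegrallyClosed (Localization.AtPrime p))

include h in
theorem hasRk_one_of_normal : HasRk 1 R := by
  intro p _ hp
  obtain ⟨h1, h2⟩ := h p
  apply regular_of_normal_dim_le_one
  rw [IsLocalization.AtPrime.ringKrullDim_eq_height p]
  exact_mod_cast hp

include h in
theorem hasSk_two_of_normal : HasSk 2 R R := by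
  intro p _
  obtain ⟨h1, h2⟩ := h p
  have h3 : Module.supportDim (Localization.AtPrime p) (LocalizedModule p.primeCompl R) =
      ringKrullDim (Localization.AtPrime p) :=
    Module.supportDim_self_eq_ringKrullDim (R := Localization.AtPrime p)
  rw [h3]
  exact sk_two_of_normal (Localization.AtPrime p)

end global

end Groth.Agent.Lib.Helper24.SerreNormal
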