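import Mathlib
import Groth.Agent.S0601
import Groth.Agent.S2086
import Groth.Agent.Lib.Helper24.ReducedAscent
import Groth.Agent.Lib.Helper24.FibLoc2

/-!
# Ascent of normality along flat maps with normal fibres (helper24)
-/

set_option autoImplicit false
universe u
open TensorProduct IsLocalRing LocCoh

namespace Groth.Agent.Lib.Helper24.NormalAscent

/-- An integrally closed domain is a normal ring. -/
theorem isNormalRing_of_isIntegrallyClosed (A : Type u) [CommRing A] [IsDomain A]
    [IsIntegrallyClosed A] : EGA4.IsNormalRing A := by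
  intro P _
  have hle : P.primeCompl ≤ nonZeroDivisors A := Ideal.primeCompl_le_nonZeroDivisors P
  exact ⟨IsLocalization.isDomain_localization hle,
    isIntegrallyClosed_of_isLocalization _ P.primeCompl hle⟩

/-- Normality ascends along flat maps of Noetherian rings with normal fibre rings. -/
theorem isNormalRing_of_flat_of_fibres (R S : Type u) [CommRing R] [CommRing S] [Algebra R S]
    [IsNoetherianRing R] [IsNoetherianRing S] [Module.Flat R S] (hR : EGA4.IsNormalRing R)
    (hfib : ∀ (p : Ideal R) [p.IsPrime], EGA4.IsNormalRing (p.Fiber S)) :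
    EGA4.IsNormalRing S := by
  have h1 := (Groth.Agent.S0601.result R).mp hR
  have hF : ∀ (p : Ideal R) [p.IsPrime],
      HasRk 1 (p.Fiber S) ∧ HasSk 2 (p.Fiber S) (p.Fiber S) := by
    intro p _
    haveI : IsNoetherianRing (p.Fiber S) :=
      Groth.Agent.Lib.Helper24.HensFibre.isNoetherianRing_fibre R S p
    exact (Groth.Agent.S0601.result _).mp (hfib p)
  exact (Groth.Agent.S0601.result S).mpr
    ⟨Groth.Agent.Lib.Helper24.ReducedAscent.hasRk_of_flat_of_fibres R S 1 h1.1
      (fun p _ => (hF p).1),
     Groth.Agent.S2086.result 2 h1.2 (fun p _ => (hF p).2)⟩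

/-- The fibre rings are normal as soon as the fibre local rings are. -/
theorem isNormalRing_fiber (A B : Type u) [CommRing A] [CommRing B] [Algebra A B]
    (hfib : ∀ (q : Ideal B) [q.IsPrime],
      IsDomain (EGA4.FibLocRing A B q) ∧ IsIntegrallyClosed (EGA4.FibLocRing A B q))
    (P : Ideal A) [P.IsPrime] : EGA4.IsNormalRing (P.Fiber B) := by
  intro r _
  have e : Localization.AtPrime r ≃+* (Localization.AtPrime
      (r.comap (Algebra.TensorProduct.includeRight : B →ₐ[A] P.Fiber B)) ⧸
      (P.map (algebraMap A B)).map (algebraMap B (Localization.AtPrime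
        (r.comap (Algebra.TensorProduct.includeRight : B →ₐ[A] P.Fiber B))))) :=
    (Ideal.Fiber.algEquivAux₂ P r).toRingEquiv
  have hQP : (r.comap (Algebra.TensorProduct.includeRight : B →ₐ[A] P.Fiber B)).comap
      (algebraMap A B) = P := by
    have h1 : r.comap (algebraMap A (P.Fiber B)) = P := (Ideal.over_def r P).symm
    refine Eq.trans ?_ h1
    ext a
    simp only [Ideal.mem_comap]
    rw [AlgHom.commutes]
  obtain ⟨h1, h2⟩ := hfib (r.comap (Algebra.TensorProduct.includeRight : B →ₐ[A] P.Fiber B))
  have hI : ((r.comap (Algebra.TensorProduct.includeRight : B →ₐ[A] P.Fiber B)).comap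
      (algebraMap A B)).map (algebraMap A (Localization.AtPrime
        (r.comap (Algebra.TensorProduct.includeRight : B →ₐ[A] P.Fiber B)))) =
      (P.map (algebraMap A B)).map (algebraMap B (Localization.AtPrime
        (r.comap (Algebra.TensorProduct.includeRight : B →ₐ[A] P.Fiber B)))) := by
    rw [hQP, Ideal.map_map, ← IsScalarTower.algebraMap_eq]
  let e' := e.trans (Ideal.quotEquivOfEq hI.symm)
  exact ⟨e'.toMulEquiv.isDomain, IsIntegrallyClosed.of_equiv e'.symm⟩

end Groth.Agent.Lib.Helper24.NormalAscent
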