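import Mathlib
import Groth.Prelude.Def_EGA4b
import Groth.Agent.S4756
import Groth.Agent.S0542
import Groth.Agent.Lib.Helper24.NormalAscent
import Groth.Agent.Lib.Helper24.NormalDescent
import Groth.Agent.Lib.Helper24.FibreQuot
import Groth.Agent.Lib.Helper24.FibLoc

/-!
# The Zariski localization `(1+J)⁻¹A` versus the `J`-adic completion (helper24)

`A` Noetherian, `J` an ideal, `T = 1 + J`, `A_T = T⁻¹A`, `Â` the `J`-adic completion.

* `isUnit_algebraMap_of_mem`: elements of `T` become units in `Â`;
* `algT`, `towT`: the `A_T`-algebra structure on `Â`;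
* `faithfullyFlat`: `Â` is faithfully flat over `A_T`;
* `isNormalHom`: if `A → Â` is a normal homomorphism then so is `A_T → Â`;
* `isNormalRing_iff`: under that hypothesis `A_T` is normal iff `Â` is.
-/

set_option autoImplicit false
universe u

namespace Groth.Agent.Lib.Helper24.ZarCpl

variable (A : Type u) [CommRing A] [IsNoetherianRing A] (J : Ideal A)

/-- The multiplicative set `1 + J`. -/
def T : Submonoid A := MonoidHom.mker (Ideal.Quotient.mk J)

omit [IsNoetherianRing A] in
theorem mem_T {a : A} : a ∈ T A J ↔ a - 1 ∈ J := by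
  rw [T, MonoidHom.mem_mker]
  show Ideal.Quotient.mk J a = 1 ↔ _
  rw [← map_one (Ideal.Quotient.mk J), Ideal.Quotient.eq]

theorem isAdicComplete_cpl :
    IsAdicComplete (J.map (algebraMap A (AdicCompletion J A))) (AdicCompletion J A) :=
  (IsAdicComplete.map_algebraMap_iff (R := A) (S := AdicCompletion J A) (I := J)
    (M := AdicCompletion J A)).mpr (AdicCompletion.isAdicComplete (IsNoetherian.noetherian J))

theorem isUnit_algebraMap_of_mem {a : A} (ha : a ∈ T A J) :
    IsUnit (algebraMap A (AdicCompletion J A) a) := by
  haveI := isAdicComplete_cpl A J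
  have h1 : algebraMap A (AdicCompletion J A) (a - 1) ∈
      (⊥ : Ideal (AdicCompletion J A)).jacobson :=
    IsAdicComplete.le_jacobson_bot (J.map (algebraMap A (AdicCompletion J A)))
      (Ideal.mem_map_of_mem _ ((mem_T A J).1 ha))
  have h2 := (Ideal.mem_jacobson_bot.1 h1) 1
  rw [mul_one, ← map_one (algebraMap A (AdicCompletion J A)), ← map_add, sub_add_cancel] at h2
  exact h2

noncomputable instance algT : Algebra (Localization (T A J)) (AdicCompletion J A) :=
  (IsLocalization.lift (M := T A J) (S := Localization (T A J))
    (g := algebraMap A (AdicCompletion J A))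
    (fun y => isUnit_algebraMap_of_mem A J y.2)).toAlgebra

instance towT : IsScalarTower A (Localization (T A J)) (AdicCompletion J A) :=
  IsScalarTower.of_algebraMap_eq fun x => by
    rw [RingHom.algebraMap_toAlgebra]
    exact (IsLocalization.lift_eq _ x).symm

instance isLocalization_self :
    IsLocalization (Algebra.algebraMapSubmonoid (AdicCompletion J A) (T A J))
      (AdicCompletion J A) := by
  apply IsLocalization.self
  rintro _ ⟨a, ha, rfl⟩
  exact isUnit_algebraMap_of_mem A J ha

theorem flat : Module.Flat (Localization (T A J)) (AdicCompletion J A) :=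
  Groth.Agent.Lib.Helper24.FibLoc.flat_localization A (AdicCompletion J A) (T A J)
    (Localization (T A J)) (AdicCompletion J A)

omit [IsNoetherianRing A] in
/-- `J A_T` lies in every maximal ideal of `A_T`. -/
theorem algebraMap_mem_of_isMaximal (m : Ideal (Localization (T A J))) (hm : m.IsMaximal)
    {j : A} (hj : j ∈ J) : algebraMap A (Localization (T A J)) j ∈ m := by
  by_contra hjm
  obtain ⟨y, i, hi, hyi⟩ := hm.exists_inv hjm
  obtain ⟨a, t, rfl⟩ := IsLocalization.exists_mk'_eq (T A J) y
  have ht : (t : A) - a * j ∈ T A J := by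
    rw [mem_T]
    have h1 : (t : A) - 1 ∈ J := (mem_T A J).1 t.2
    have h2 : a * j ∈ J := J.mul_mem_left a hj
    have : (t : A) - a * j - 1 = ((t : A) - 1) - a * j := by ring
    rw [this]
    exact J.sub_mem h1 h2
  have hu : IsUnit (algebraMap A (Localization (T A J)) ((t : A) - a * j)) :=
    IsLocalization.map_units (Localization (T A J)) (⟨_, ht⟩ : T A J)
  have heq : i * algebraMap A (Localization (T A J)) (t : A) =
      algebraMap A (Localization (T A J)) ((t : A) - a * j) := by
    have hi' : i = 1 - IsLocalization.mk' (Localization (T A J)) a t *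
        algebraMap A (Localization (T A J)) j := by
      rw [← hyi]; ring
    rw [hi', sub_mul, one_mul, mul_assoc, mul_comm (algebraMap A _ j), ← mul_assoc,
      IsLocalization.mk'_spec, map_sub, map_mul]
  have hmem : algebraMap A (Localization (T A J)) ((t : A) - a * j) ∈ m := by
    rw [← heq]
    exact m.mul_mem_right _ hi
  exact hm.ne_top (Ideal.eq_top_of_isUnit_mem m hmem hu)

theorem faithfullyFlat : Module.FaithfullyFlat (Localization (T A J)) (AdicCompletion J A) := by
  haveI := flat A J
  refine { submodule_ne_top := fun m hm htop => ?_ }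
  let φ₀ : A ⧸ J →+* Localization (T A J) ⧸ m :=
    Ideal.Quotient.lift J ((Ideal.Quotient.mk m).comp (algebraMap A (Localization (T A J))))
      (fun j hj => Ideal.Quotient.eq_zero_iff_mem.2 (algebraMap_mem_of_isMaximal A J m hm hj))
  let φ : AdicCompletion J A →+* Localization (T A J) ⧸ m :=
    φ₀.comp (AdicCompletion.evalOneₐ J).toRingHom
  have hφ : φ.comp (algebraMap (Localization (T A J)) (AdicCompletion J A)) =
      Ideal.Quotient.mk m := by
    apply IsLocalization.ringHom_ext (T A J)
    ext a
    show φ₀ ((AdicCompletion.evalOneₐ J).toRingHom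
      (algebraMap (Localization (T A J)) (AdicCompletion J A)
        (algebraMap A (Localization (T A J)) a))) = _
    rw [← IsScalarTower.algebraMap_apply A (Localization (T A J)) (AdicCompletion J A)]
    have h1 : (AdicCompletion.evalOneₐ J).toRingHom (algebraMap A (AdicCompletion J A) a) =
        Ideal.Quotient.mk J a :=
      congrArg (fun f => f a) (AdicCompletion.evalOneₐ_comp_algebraMap_eq_mk J)
    rw [h1]
    rfl
  have hzero : ∀ x ∈ (m • (⊤ : Submodule (Localization (T A J)) (AdicCompletion J A))),
      φ x = 0 := by
    intro x hx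
    refine Submodule.smul_induction_on hx (fun r hr n _ => ?_) (fun x y hx hy => ?_)
    · rw [Algebra.smul_def, map_mul]
      have : φ (algebraMap (Localization (T A J)) (AdicCompletion J A) r) =
          Ideal.Quotient.mk m r := congrArg (fun f => f r) hφ
      rw [this, Ideal.Quotient.eq_zero_iff_mem.2 hr, zero_mul]
    · rw [map_add, hx, hy, add_zero]
  have h1 : φ 1 = 0 := hzero 1 (by rw [htop]; trivial)
  rw [map_one] at h1
  haveI : Nontrivial (Localization (T A J) ⧸ m) :=
    Ideal.Quotient.nontrivial_iff.2 hm.ne_top
  exact one_ne_zero h1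

variable {A J} in
theorem isNormalHom (hf : EGA4.IsNormalHom A (AdicCompletion J A)) :
    EGA4.IsNormalHom (Localization (T A J)) (AdicCompletion J A) := by
  haveI : IsNoetherianRing (AdicCompletion J A) :=
    Groth.Agent.S0542.result A J (IsNoetherian.noetherian J)
  exact Groth.Agent.S4756.result A (AdicCompletion J A) hf (T A J) (Localization (T A J))
    (AdicCompletion J A)

variable {A J} in
theorem isNormalRing_iff (hf : EGA4.IsNormalHom A (AdicCompletion J A)) :
    EGA4.IsNormalRing (Localization (T A J)) ↔ EGA4.IsNormalRing (AdicCompletion J A) := by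
  haveI : IsNoetherianRing (AdicCompletion J A) :=
    Groth.Agent.S0542.result A J (IsNoetherian.noetherian J)
  haveI : IsNoetherianRing (Localization (T A J)) :=
    IsLocalization.isNoetherianRing (T A J) _ inferInstance
  have hn := isNormalHom hf
  haveI := flat A J
  constructor
  · intro h
    refine Groth.Agent.Lib.Helper24.NormalAscent.isNormalRing_of_flat_of_fibres _ _ h
      (fun p _ => ?_)
    have h1 := hn.2 p p.ResidueField (Module.Finite.self _)
    exact Groth.Agent.Lib.Helper24.FibreQuot.isNormalRing_of_ringEquiv
      (Algebra.TensorProduct.lid _ _).toRingEquiv h1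
  · intro h
    haveI := faithfullyFlat A J
    exact Groth.Agent.Lib.Helper24.NormalDescent.isNormalRing_of_faithfullyFlat _ _ h

end Groth.Agent.Lib.Helper24.ZarCpl
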