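import Mathlib
import Groth.Agent.S2630
import Groth.Agent.S2631
import Groth.Agent.S2635
import Groth.Agent.S0547
import Groth.Agent.S9124
import Groth.Agent.S9125
import Groth.Agent.Lib.Helper24.CplCatenary
import Groth.Agent.Lib.Helper24.CplCM2
import Groth.Agent.Lib.Helper24.ZarCpl
import Groth.Agent.Lib.Helper24.CplQuot
import Groth.Agent.Lib.Helper24.CplFlat
import Groth.Agent.Lib.Helper24.CatEquidim2
import Groth.Agent.Lib.Helper24.FlatQuot

/-!
# Formal equidimensionality: descent, minimal primes, quotients of CM rings (helper24)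

* `isCatenary_cpl`: the completion of a Noetherian local ring is catenary;
* `isFormallyEquidim_of_flat`: `C → C'` flat local, `C'` formally equidimensional ⇒ `C` is;
* `isFormallyEquidim_of_minimalPrimes`: `C` equidimensional with `C ⧸ q` formally equidimensional
  for every minimal prime `q` ⇒ `C` formally equidimensional;
* `isFormallyEquidim_of_quotient_cm`: an equidimensional quotient of a CM local ring is formally
  equidimensional;
* `isFormallyEquidim_quotient_of_flat`: the core descent statement (Ratliff / EGA IV 7.1).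
-/

set_option autoImplicit false
universe u

namespace Groth.Agent.Lib.Helper24.FormalEquidimLoc

open IsLocalRing EGA4
open Groth.Agent.Lib.Helper24.CplFlat Groth.Agent.Lib.Helper24.CplCM
  Groth.Agent.Lib.Helper24.CatEquidim

section Cpl

variable (C : Type u) [CommRing C] [IsNoetherianRing C] [IsLocalRing C]

theorem isAdicComplete_cpl :
    IsAdicComplete (maximalIdeal (AdicCompletion (maximalIdeal C) C))
      (AdicCompletion (maximalIdeal C) C) := by
  rw [← Groth.Agent.Lib.Helper24.CplCM.map_maximalIdeal_cpl]
  exact Groth.Agent.Lib.Helper24.ZarCpl.isAdicComplete_cpl C (maximalIdeal C)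

theorem isCatenary_cpl : CAlg.IsCatenary (AdicCompletion (maximalIdeal C) C) := by
  haveI := isAdicComplete_cpl C
  exact Groth.Agent.Lib.Helper24.CplCatenary.isCatenary_of_complete_local _

end Cpl

section FD

variable (C C' : Type u) [CommRing C] [CommRing C'] [IsNoetherianRing C] [IsNoetherianRing C']
  [IsLocalRing C] [IsLocalRing C'] [Algebra C C'] [IsLocalHom (algebraMap C C')]
  [Module.Flat C C']

/-- Descent of formal equidimensionality along flat local homomorphisms. -/
theorem isFormallyEquidim_of_flat (h : IsFormallyEquidim C') : IsFormallyEquidim C := by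
  unfold IsFormallyEquidim at h ⊢
  letI : Algebra (AdicCompletion (maximalIdeal C) C) (AdicCompletion (maximalIdeal C') C') :=
    (cplMap C C').toAlgebra
  haveI : IsLocalHom (algebraMap (AdicCompletion (maximalIdeal C) C)
      (AdicCompletion (maximalIdeal C') C')) := isLocalHom_cplMap C C'
  haveI : Module.Flat (AdicCompletion (maximalIdeal C) C) (AdicCompletion (maximalIdeal C') C') :=
    flat_cplMap C C'
  exact (Groth.Agent.S2630.result _ _ h (isCatenary_cpl C')).1

end FD

section FE

variable (C : Type u) [CommRing C] [IsNoetherianRing C] [IsLocalRing C]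

/-- If `C` is equidimensional and all `C ⧸ q`, `q` a minimal prime, are formally equidimensional,
then `C` is formally equidimensional. -/
theorem isFormallyEquidim_of_minimalPrimes (heq : IsEquidim C)
    (h : ∀ (q : Ideal C) [q.IsPrime], q ∈ minimalPrimes C → IsFormallyEquidim (C ⧸ q)) :
    IsFormallyEquidim C := by
  unfold IsFormallyEquidim
  intro Q hQ
  haveI : Q.IsPrime := hQ.1.1
  have hQ' : Q ∈ ((⊥ : Ideal C).map (algebraMap C (AdicCompletion (maximalIdeal C) C))).minimalPrimes := by
    rw [Ideal.map_bot]; exact hQ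
  obtain ⟨hq, hQq⟩ := Groth.Agent.S2631.comap_mem_minimalPrimes C
    (AdicCompletion (maximalIdeal C) C) ⊥ Q hQ'
  set q := Q.comap (algebraMap C (AdicCompletion (maximalIdeal C) C)) with hqdef
  haveI : q.IsPrime := hq.1.1
  have hq' : q ∈ minimalPrimes C := hq
  have h1 := h q hq'
  unfold IsFormallyEquidim at h1
  -- `Ĉ ⧸ q Ĉ` is equidimensional
  have h2 : IsEquidim (AdicCompletion (maximalIdeal C) C ⧸
      q.map (algebraMap C (AdicCompletion (maximalIdeal C) C))) :=
    isEquidim_of_ringEquiv (Groth.Agent.Lib.Helper24.CplQuot.equiv C q).symm h1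
  obtain ⟨hm, hc⟩ := map_mem_minimalPrimes_quotient _ _ Q hQq
  have h3 := h2 _ hm
  have h4 := (minimalPrimes_quotient _ _ _ hm).2
  rw [hc] at h4
  rw [← h4, h3, ringKrullDim_eq_of_ringEquiv (Groth.Agent.Lib.Helper24.CplQuot.equiv C q),
    Groth.Agent.S0547.result, heq q hq', Groth.Agent.S0547.result]

end FE

section QCM

/-- An equidimensional Noetherian local ring which is a quotient of a Cohen–Macaulay local ring is
formally equidimensional. -/
theorem isFormallyEquidim_of_quotient_cm (P : Type u) [CommRing P]
    [LocCoh.IsCohenMacaulayLocalRing P] (C : Type u) [CommRing C] [IsNoetherianRing C]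
    [IsLocalRing C] [Algebra P C] (hs : Function.Surjective (algebraMap P C))
    (heq : IsEquidim C) : IsFormallyEquidim C :=
  isFormallyEquidim_of_minimalPrimes C heq
    (fun q _ _ => Groth.Agent.S2635.result P C hs q)

end QCM

section Core

variable (R R' : Type u) [CommRing R] [CommRing R'] [IsNoetherianRing R] [IsNoetherianRing R']
  [IsLocalRing R] [IsLocalRing R'] [Algebra R R'] [IsLocalHom (algebraMap R R')]
  [Module.Flat R R']

/-- **Core descent**: `R → R'` flat local with zero-dimensional closed fibre, `R'` equidimensional,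
catenary and a quotient of a Cohen–Macaulay local ring. Then every equidimensional quotient
`R ⧸ a` is formally equidimensional. -/
theorem isFormallyEquidim_quotient_of_flat (heq : IsEquidim R') (hcat : CAlg.IsCatenary R')
    (h0 : ringKrullDim (FibRing R R') = 0)
    (P : Type u) [CommRing P] [LocCoh.IsCohenMacaulayLocalRing P] [Algebra P R']
    (hs : Function.Surjective (algebraMap P R'))
    (a : Ideal R) [Nontrivial (R ⧸ a)] (ha : IsEquidim (R ⧸ a)) :
    IsFormallyEquidim (R ⧸ a) := by
  have hne : a ≠ ⊤ := Ideal.Quotient.nontrivial_iff.mp inferInstance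
  have hne' : a.map (algebraMap R R') ≠ ⊤ :=
    Groth.Agent.Lib.Helper24.FlatQuot.map_ne_top R R' a hne
  haveI : Nontrivial (R' ⧸ a.map (algebraMap R R')) := Ideal.Quotient.nontrivial_iff.mpr hne'
  have h1 : IsEquidim (R' ⧸ a.map (algebraMap R R')) :=
    (Groth.Agent.S2631.result R R' heq hcat h0 a).mpr ha
  letI : Algebra P (R' ⧸ a.map (algebraMap R R')) :=
    ((Ideal.Quotient.mk (a.map (algebraMap R R'))).comp (algebraMap P R')).toAlgebra
  have hs' : Function.Surjective (algebraMap P (R' ⧸ a.map (algebraMap R R'))) :=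
    Ideal.Quotient.mk_surjective.comp hs
  have h2 : IsFormallyEquidim (R' ⧸ a.map (algebraMap R R')) :=
    isFormallyEquidim_of_quotient_cm P _ hs' h1
  haveI : IsLocalHom (algebraMap (R ⧸ a) (R' ⧸ a.map (algebraMap R R'))) :=
    Groth.Agent.Lib.Helper24.FlatQuot.isLocalHom_quotient R R' a hne
  haveI : Module.Flat (R ⧸ a) (R' ⧸ a.map (algebraMap R R')) :=
    Groth.Agent.Lib.Helper24.FlatQuot.flat_quotient R R' a
  exact isFormallyEquidim_of_flat (R ⧸ a) (R' ⧸ a.map (algebraMap R R')) h2

/-- The case `a = ⊥`. -/
theorem isFormallyEquidim_of_flat_of_cm (heq : IsEquidim R') (hcat : CAlg.IsCatenary R')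
    (h0 : ringKrullDim (FibRing R R') = 0)
    (P : Type u) [CommRing P] [LocCoh.IsCohenMacaulayLocalRing P] [Algebra P R']
    (hs : Function.Surjective (algebraMap P R')) (hR : IsEquidim R) :
    IsFormallyEquidim R := by
  haveI : Nontrivial (R ⧸ (⊥ : Ideal R)) := Ideal.Quotient.nontrivial_iff.mpr bot_ne_top
  have h1 : IsEquidim (R ⧸ (⊥ : Ideal R)) :=
    isEquidim_of_ringEquiv (RingEquiv.quotientBot R).symm hR
  have h2 := isFormallyEquidim_quotient_of_flat R R' heq hcat h0 P hs ⊥ h1
  unfold IsFormallyEquidim at h2 ⊢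
  exact isEquidim_of_ringEquiv (cplEquivOfRingEquiv (RingEquiv.quotientBot R)) h2

end Core

end Groth.Agent.Lib.Helper24.FormalEquidimLoc
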