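import Mathlib
import Groth.Agent.Lib.Helper24.FormalEquidimLoc
import Groth.Agent.Lib.Helper24.RkDescent
import Groth.Agent.Lib.Helper24.FlatDimFormula
import Groth.Agent.S9808

/-!
# Localizations of formally equidimensional rings (helper24)

* `isEquidim_localization`: localizations at primes of a catenary equidimensional Noetherian local
  ring are equidimensional;
* `exists_cm_surjective_localization`: localizations of complete Noetherian local rings are quotients
  of Cohen–Macaulay local rings;
* `isFormallyEquidim_localization`: `R` formally equidimensional ⇒ `R_q` formally equidimensional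
  (Matsumura 31.6 (i)).
-/

set_option autoImplicit false
universe u

namespace Groth.Agent.Lib.Helper24.FormalEquidimLoc

open IsLocalRing EGA4
open Groth.Agent.Lib.Helper24.CplFlat Groth.Agent.Lib.Helper24.CplCM
  Groth.Agent.Lib.Helper24.CatEquidim

section LocEq

theorem isEquidim_of_isDomain (A : Type u) [CommRing A] [IsDomain A] : IsEquidim A := by
  intro p hp
  rw [IsDomain.minimalPrimes_eq_singleton_bot] at hp
  have : p = ⊥ := hp
  subst this
  exact ringKrullDim_eq_of_ringEquiv (RingEquiv.quotientBot A)

variable (A : Type u) [CommRing A] [IsNoetherianRing A] [IsLocalRing A]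

theorem height_map_mk_eq (hcat : CAlg.IsCatenary A) (heq : IsEquidim A) (q : Ideal A) [q.IsPrime]
    (Q : Ideal A) (hQ : Q ∈ minimalPrimes A) (hQq : Q ≤ q) :
    (q.map (Ideal.Quotient.mk Q)).height = q.height := by
  haveI : Q.IsPrime := hQ.1.1
  haveI : (q.map (Ideal.Quotient.mk Q)).IsPrime :=
    Ideal.map_isPrime_of_surjective Ideal.Quotient.mk_surjective (by rwa [Ideal.mk_ker])
  have hcat' : CAlg.IsCatenary (A ⧸ Q) := Groth.Agent.S9125.result A Q hcat
  have heq' : IsEquidim (A ⧸ Q) := isEquidim_of_isDomain _
  have h1 := height_add_dim_quotient_eq (A ⧸ Q) hcat' heq' (q.map (Ideal.Quotient.mk Q))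
  have h2 := height_add_dim_quotient_eq A hcat heq q
  rw [heq Q hQ, ← h2,
    ringKrullDim_eq_of_ringEquiv (DoubleQuot.quotQuotEquivQuotOfLE hQq)] at h1
  haveI : IsLocalRing (A ⧸ q) :=
    IsLocalRing.of_surjective' (Ideal.Quotient.mk q) Ideal.Quotient.mk_surjective
  obtain ⟨c, hc⟩ := exists_nat_eq_ringKrullDim (A ⧸ q)
  rw [hc, add_comm, add_comm _ (((c : ℕ∞) : WithBot ℕ∞))] at h1
  have h3 := add_left_cancel_nat c _ _ h1
  exact_mod_cast h3

theorem isEquidim_localization (hcat : CAlg.IsCatenary A) (heq : IsEquidim A) (q : Ideal A)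
    [q.IsPrime] : IsEquidim (Localization.AtPrime q) := by
  intro P hP
  haveI : P.IsPrime := hP.1.1
  have hP' : P ∈ ((⊥ : Ideal A).map (algebraMap A (Localization.AtPrime q))).minimalPrimes := by
    rw [Ideal.map_bot]; exact hP
  rw [IsLocalization.minimalPrimes_map q.primeCompl] at hP'
  set Q := P.under A with hQdef
  have hQ : Q ∈ minimalPrimes A := hP'
  haveI : Q.IsPrime := hQ.1.1
  have hPQ : P = Q.map (algebraMap A (Localization.AtPrime q)) :=
    (IsLocalization.map_under q.primeCompl (Localization.AtPrime q) P).symm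
  have hQq : Q ≤ q := by
    have h1 : P ≤ maximalIdeal (Localization.AtPrime q) := le_maximalIdeal hP.1.1.ne_top
    have h2 : P.under A ≤ (maximalIdeal (Localization.AtPrime q)).under A :=
      Ideal.comap_mono (f := algebraMap A (Localization.AtPrime q)) h1
    rwa [Localization.AtPrime.under_maximalIdeal] at h2
  haveI : (q.map (Ideal.Quotient.mk Q)).IsPrime :=
    Ideal.map_isPrime_of_surjective Ideal.Quotient.mk_surjective (by rwa [Ideal.mk_ker])
  have hsub : Algebra.algebraMapSubmonoid (A ⧸ Q) q.primeCompl =
      (q.map (Ideal.Quotient.mk Q)).primeCompl := by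
    ext x
    constructor
    · rintro ⟨a, ha, rfl⟩
      intro hx
      apply ha
      have : a ∈ (q.map (Ideal.Quotient.mk Q)).comap (Ideal.Quotient.mk Q) := hx
      rw [Ideal.comap_map_of_surjective _ Ideal.Quotient.mk_surjective, ← RingHom.ker_eq_comap_bot,
        Ideal.mk_ker, sup_eq_left.mpr hQq] at this
      exact this
    · intro hx
      obtain ⟨a, rfl⟩ := Ideal.Quotient.mk_surjective x
      refine ⟨a, ?_, rfl⟩
      intro ha
      exact hx (Ideal.mem_map_of_mem _ ha)
  haveI : IsLocalization.AtPrime
      (Localization.AtPrime q ⧸ Q.map (algebraMap A (Localization.AtPrime q)))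
      (q.map (Ideal.Quotient.mk Q)) := by
    unfold IsLocalization.AtPrime
    rw [← hsub]
    infer_instance
  have h1 := IsLocalization.AtPrime.ringKrullDim_eq_height (q.map (Ideal.Quotient.mk Q))
    (Localization.AtPrime q ⧸ Q.map (algebraMap A (Localization.AtPrime q)))
  have h2 := IsLocalization.AtPrime.ringKrullDim_eq_height q (Localization.AtPrime q)
  rw [h2, ← height_map_mk_eq A hcat heq q Q hQ hQq, ← h1]
  exact ringKrullDim_eq_of_ringEquiv (Ideal.quotEquivOfEq hPQ)

end LocEq

section Loc

theorem localRingHom_surjective {P S : Type u} [CommRing P] [CommRing S] (f : P →+* S)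
    (hf : Function.Surjective f) (J : Ideal S) [J.IsPrime] :
    Function.Surjective (Localization.localRingHom (J.comap f) J f rfl) := by
  intro y
  obtain ⟨r, s, rfl⟩ := IsLocalization.exists_mk'_eq J.primeCompl y
  obtain ⟨a, rfl⟩ := hf r
  obtain ⟨b, hb⟩ := hf s.1
  have hbJ : b ∈ (J.comap f).primeCompl := by
    intro h
    apply s.2
    rw [← hb]
    exact h
  refine ⟨IsLocalization.mk' _ a ⟨b, hbJ⟩, ?_⟩
  rw [Localization.localRingHom_mk']
  congr 1
  exact Subtype.ext hb

theorem isCohenMacaulayLocalRing_of_isRegularLocalRing (P : Type u) [CommRing P]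
    [IsRegularLocalRing P] : LocCoh.IsCohenMacaulayLocalRing P :=
  { supportDim_eq_depth :=
      Groth.Agent.Lib.Helper24.CplCatenary.isCohenMacaulayModule_of_isRegularLocalRing P }

/-- Localizations of a complete Noetherian local ring are quotients of CM local rings. -/
theorem exists_cm_surjective_localization (S : Type u) [CommRing S] [IsLocalRing S]
    [IsNoetherianRing S] [IsAdicComplete (maximalIdeal S) S] (J : Ideal S) [J.IsPrime] :
    ∃ (P : Type u) (_ : CommRing P) (_ : LocCoh.IsCohenMacaulayLocalRing P)
      (g : P →+* Localization.AtPrime J), Function.Surjective g := by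
  obtain ⟨P, _, hP, f, hf⟩ :=
    Groth.Agent.Lib.Helper24.CplCatenary.exists_regular_surjective S
  haveI := isCohenMacaulayLocalRing_of_isRegularLocalRing P
  exact ⟨Localization.AtPrime (J.comap f), inferInstance,
    Groth.Agent.S9808.cm_localization P (J.comap f),
    Localization.localRingHom (J.comap f) J f rfl, localRingHom_surjective f hf J⟩

variable (R : Type u) [CommRing R] [IsNoetherianRing R] [IsLocalRing R]

/-- **Localizations of formally equidimensional local rings are formally equidimensional.** -/
theorem isFormallyEquidim_localization (hR : IsFormallyEquidim R) (q : Ideal R) [q.IsPrime] :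
    IsFormallyEquidim (Localization.AtPrime q) := by
  have hcatC := isCatenary_cpl R
  have hR' : IsEquidim (AdicCompletion (maximalIdeal R) R) := hR
  haveI := isAdicComplete_cpl R
  -- `R` itself is equidimensional and catenary
  have hRR := Groth.Agent.S2630.result R (AdicCompletion (maximalIdeal R) R) hR' hcatC
  haveI : Module.FaithfullyFlat R (AdicCompletion (maximalIdeal R) R) :=
    Module.FaithfullyFlat.of_flat_of_isLocalHom
  obtain ⟨Q, hQ, hQq⟩ := Groth.Agent.Lib.Helper24.RkDescent.exists_minimalPrimes_comap_eq R
    (AdicCompletion (maximalIdeal R) R) q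
  haveI : Q.IsPrime := hQ.1.1
  have hht : Q.height = q.height :=
    Groth.Agent.Lib.Helper24.RkDescent.height_eq_of_minimalPrimes R _ q Q hQ hQq
  haveI hlo : Q.LiesOver q := ⟨hQq.symm⟩
  letI := Localization.AtPrime.algebraOfLiesOver q Q
  haveI hloc : IsLocalHom (algebraMap (Localization.AtPrime q) (Localization.AtPrime Q)) :=
    Localization.isLocalHom_localRingHom _ Q (algebraMap R _) Ideal.LiesOver.over
  haveI hflat : Module.Flat (Localization.AtPrime q) (Localization.AtPrime Q) := inferInstance
  have heq' : IsEquidim (Localization.AtPrime Q) := isEquidim_localization _ hcatC hR' Q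
  have hcat' : CAlg.IsCatenary (Localization.AtPrime Q) :=
    Groth.Agent.S9124.result _ Q.primeCompl _ hcatC
  have h0 : ringKrullDim (FibRing (Localization.AtPrime q) (Localization.AtPrime Q)) = 0 := by
    have ha := Groth.Agent.Lib.Helper24.FlatDimFormula.ringKrullDim_eq_add_of_flat
      (Localization.AtPrime q) (Localization.AtPrime Q)
    rw [IsLocalization.AtPrime.ringKrullDim_eq_height Q (Localization.AtPrime Q),
      IsLocalization.AtPrime.ringKrullDim_eq_height q (Localization.AtPrime q), hht] at ha
    obtain ⟨n, hn⟩ := ENat.ne_top_iff_exists.mp (Ideal.height_ne_top_of_isPrime (I := q))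
    obtain ⟨F, hF⟩ := exists_nat_eq_ringKrullDim
      (FibRing (Localization.AtPrime q) (Localization.AtPrime Q))
    rw [hF]
    have hF' : ringKrullDim (Localization.AtPrime Q ⧸ (maximalIdeal (Localization.AtPrime q)).map
        (algebraMap (Localization.AtPrime q) (Localization.AtPrime Q))) =
        ((F : ℕ∞) : WithBot ℕ∞) := hF
    rw [hF', ← hn] at ha
    have h3 : ((n : ℕ∞) : WithBot ℕ∞) + ((F : ℕ∞) : WithBot ℕ∞) =
        ((n : ℕ∞) : WithBot ℕ∞) + ((0 : ℕ) : ℕ∞) := by
      rw [← ha]; simp
    have h4 := add_left_cancel_nat n _ _ h3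
    exact_mod_cast h4
  obtain ⟨P, _, hP, g, hg⟩ := exists_cm_surjective_localization
    (AdicCompletion (maximalIdeal R) R) Q
  letI : Algebra P (Localization.AtPrime Q) := g.toAlgebra
  have hC : IsEquidim (Localization.AtPrime q) := isEquidim_localization R hRR.2 hRR.1 q
  exact isFormallyEquidim_of_flat_of_cm (Localization.AtPrime q) (Localization.AtPrime Q)
    heq' hcat' h0 P hg hC

end Loc

end Groth.Agent.Lib.Helper24.FormalEquidimLoc
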