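import Mathlib
import Groth.Agent.Lib.Helper24.EtaleNormal

set_option autoImplicit false

namespace Groth.Agent.Lib.Helper24.SmoothNormal

open Polynomial TensorProduct

universe u

theorem isIntegrallyClosed_mvPolynomial_fin (n : ℕ) (R : Type u) [CommRing R] [IsDomain R]
    [IsIntegrallyClosed R] : IsIntegrallyClosed (MvPolynomial (Fin n) R) := by
  induction n with
  | zero =>
    exact IsIntegrallyClosed.of_equiv (MvPolynomial.isEmptyAlgEquiv R (Fin 0)).symm.toRingEquiv
  | succ n ih =>
    exact IsIntegrallyClosed.of_equiv (MvPolynomial.finSuccEquiv R n).symm.toRingEquiv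

set_option backward.isDefEq.respectTransparency false in
/-- Smooth algebra over a ring whose local ring at the contracted prime is a normal domain:
the local ring upstairs is a normal domain. -/
theorem isDomain_isIntegrallyClosed_atPrime_of_smooth (A B : Type u) [CommRing A] [CommRing B]
    [Algebra A B] [Algebra.Smooth A B] (q : Ideal B) [q.IsPrime]
    (hdom : IsDomain (Localization.AtPrime (q.comap (algebraMap A B))))
    (hic : IsIntegrallyClosed (Localization.AtPrime (q.comap (algebraMap A B)))) :
    IsDomain (Localization.AtPrime q) ∧ IsIntegrallyClosed (Localization.AtPrime q) := by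
  set p : Ideal A := q.comap (algebraMap A B) with hp
  let Ap := Localization.AtPrime p
  let Bp := Localization (Algebra.algebraMapSubmonoid B p.primeCompl)
  have hsm : Algebra.Smooth Ap Bp := by
    have h1 : (algebraMap A B).Smooth := RingHom.smooth_algebraMap.2 inferInstance
    haveI : IsLocalization (Submonoid.map (algebraMap A B) p.primeCompl) Bp :=
      inferInstanceAs (IsLocalization (Algebra.algebraMapSubmonoid B p.primeCompl) Bp)
    have h2 := RingHom.Smooth.isStableUnderBaseChange.localizationPreserves (algebraMap A B)
      p.primeCompl Ap Bp h1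
    exact RingHom.smooth_algebraMap.1 h2
  -- the prime of `Bp`
  have hdisj : Disjoint (Algebra.algebraMapSubmonoid B p.primeCompl : Set B) (q : Set B) := by
    rw [Set.disjoint_left]
    rintro _ ⟨a, ha, rfl⟩ hq
    exact ha hq
  let q' : Ideal Bp := q.map (algebraMap B Bp)
  have hq' : q'.IsPrime := IsLocalization.isPrime_of_isPrime_disjoint _ Bp q inferInstance hdisj
  have hq'c : q'.comap (algebraMap B Bp) = q :=
    IsLocalization.under_map_of_isPrime_disjoint _ Bp inferInstance hdisj
  -- chart
  have hsmAt : Algebra.IsSmoothAt Ap q' := by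
    have : Algebra.FormallySmooth Bp (Localization.AtPrime q') :=
      Algebra.FormallySmooth.of_isLocalization q'.primeCompl
    exact Algebra.FormallySmooth.comp Ap Bp (Localization.AtPrime q')
  obtain ⟨f, hf, n, alg, tower, hstd⟩ :=
    Algebra.IsSmoothAt.exists_isStandardEtale_mvPolynomial (R := Ap) (S := Bp) (p := q')
  let C := Localization.Away f
  have hdisj2 : Disjoint (Submonoid.powers f : Set Bp) (q' : Set Bp) := by
    rw [Set.disjoint_left]
    rintro _ ⟨k, rfl⟩ hq
    exact hf (hq'.mem_of_pow_mem _ hq)
  let q'' : Ideal C := q'.map (algebraMap Bp C)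
  have hq'' : q''.IsPrime := IsLocalization.isPrime_of_isPrime_disjoint _ C q' inferInstance hdisj2
  have hq''c : q''.comap (algebraMap Bp C) = q' :=
    IsLocalization.under_map_of_isPrime_disjoint _ C inferInstance hdisj2
  let G := Localization.AtPrime q''
  have hP : IsIntegrallyClosed (MvPolynomial (Fin n) Ap) := isIntegrallyClosed_mvPolynomial_fin n Ap
  have hEt : Algebra.Etale (MvPolynomial (Fin n) Ap) C := inferInstance
  have hG := Groth.Agent.Lib.Helper24.EtaleNormal.isDomain_and_isIntegrallyClosed_of_localization_etale
    (MvPolynomial (Fin n) Ap) C G q''.primeCompl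
  have i1 : IsLocalization.AtPrime G (q''.comap (algebraMap Bp C)) := inferInstance
  have hc1 : (q''.comap (algebraMap Bp C)).primeCompl = q'.primeCompl :=
    Submonoid.ext fun x => by
      rw [Ideal.mem_primeCompl_iff, Ideal.mem_primeCompl_iff, hq''c]
  have i1' : IsLocalization.AtPrime G q' := by
    change IsLocalization q'.primeCompl G
    rw [← hc1]
    exact i1
  have t1 : IsScalarTower Bp C G := inferInstance
  have t2 : IsScalarTower B Bp C := inferInstance
  have t3 : IsScalarTower B C G := inferInstance
  have i2 : IsLocalization.AtPrime G (q'.comap (algebraMap B Bp)) :=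
    @IsLocalization.isLocalization_isLocalization_atPrime_isLocalization B _
      (Algebra.algebraMapSubmonoid B p.primeCompl) Bp _ _ G _ _ _
      (IsScalarTower.of_algebraMap_eq fun x => by
        rw [IsScalarTower.algebraMap_apply B C G, IsScalarTower.algebraMap_apply B Bp C,
          ← IsScalarTower.algebraMap_apply Bp C G]) _ q' _ i1'
  have hc2 : (q'.comap (algebraMap B Bp)).primeCompl = q.primeCompl :=
    Submonoid.ext fun x => by
      rw [Ideal.mem_primeCompl_iff, Ideal.mem_primeCompl_iff, hq'c]
  have i2' : IsLocalization.AtPrime G q := by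
    change IsLocalization q.primeCompl G
    rw [← hc2]
    exact i2
  let e : Localization.AtPrime q ≃ₐ[B] G := IsLocalization.algEquiv q.primeCompl _ _
  haveI := hG.1
  have hd : IsDomain (Localization.AtPrime q) :=
    e.toRingEquiv.injective.isDomain e.toRingEquiv.toRingHom
  haveI := hG.2
  let e' : G ≃+* Localization.AtPrime q := e.symm.toRingEquiv
  exact ⟨hd, @IsIntegrallyClosed.of_equiv G _ _ _ e' hG.2⟩

/-- Descent of "normal domain" for local rings along a faithfully flat ring map. -/
theorem isDomain_isIntegrallyClosed_atPrime_of_faithfullyFlat (A B : Type u) [CommRing A]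
    [CommRing B] [Algebra A B] [Module.FaithfullyFlat A B]
    (hB : ∀ (q : Ideal B) [q.IsPrime],
      IsDomain (Localization.AtPrime q) ∧ IsIntegrallyClosed (Localization.AtPrime q))
    (p : Ideal A) [p.IsPrime] :
    IsDomain (Localization.AtPrime p) ∧ IsIntegrallyClosed (Localization.AtPrime p) := by
  obtain ⟨q, hq, hqp⟩ := Ideal.exists_isPrime_liesOver_of_faithfullyFlat (B := B) p
  obtain ⟨hd, hic⟩ := hB q
  have hpq : p = q.comap (algebraMap A B) := hqp.over
  have hflat : (Localization.localRingHom p q (algebraMap A B) hpq).Flat :=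
    RingHom.Flat.localRingHom (RingHom.flat_algebraMap_iff.2 inferInstance) q p hpq
  algebraize [Localization.localRingHom p q (algebraMap A B) hpq]
  haveI : IsLocalHom (algebraMap (Localization.AtPrime p) (Localization.AtPrime q)) :=
    Localization.isLocalHom_localRingHom p q (algebraMap A B) hpq
  haveI : Module.FaithfullyFlat (Localization.AtPrime p) (Localization.AtPrime q) :=
    Module.FaithfullyFlat.of_flat_of_isLocalHom
  have hinj : Function.Injective (algebraMap (Localization.AtPrime p) (Localization.AtPrime q)) :=
    FaithfulSMul.algebraMap_injective _ _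
  haveI hdp : IsDomain (Localization.AtPrime p) := hinj.isDomain _
  refine ⟨hdp, ?_⟩
  apply Groth.Agent.Lib.Helper24.EtaleNormal.isIntegrallyClosed_of_nf
  exact Groth.Agent.Lib.Helper24.EtaleNormal.nf_of_faithfullyFlat _ (Localization.AtPrime q)
    (Groth.Agent.Lib.Helper24.EtaleNormal.nf_of_isIntegrallyClosed _)

end Groth.Agent.Lib.Helper24.SmoothNormal
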