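import Mathlib
import Groth.Agent.Lib.Helper24.EtaleReduced

/-!
# Smooth algebras over reduced rings are reduced (helper24)
-/

set_option autoImplicit false

namespace Groth.Agent.Lib.Helper24.SmoothReduced

universe u

set_option backward.isDefEq.respectTransparency false in
/-- A smooth algebra over a reduced ring is reduced. -/
theorem isReduced_of_smooth (A B : Type u) [CommRing A] [CommRing B] [Algebra A B] [IsReduced A]
    [Algebra.Smooth A B] : IsReduced B := by
  constructor
  intro c hc
  by_contra hc0
  have hne : (Ideal.span {c}).annihilator ≠ ⊤ := by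
    intro h
    have h1 : (1 : B) ∈ (Ideal.span {c}).annihilator := h ▸ Submodule.mem_top
    rw [Submodule.mem_annihilator_span_singleton, one_smul] at h1
    exact hc0 h1
  obtain ⟨q, hq, hle⟩ := Ideal.exists_le_maximal _ hne
  haveI : q.IsPrime := hq.isPrime
  haveI : Algebra.IsSmoothAt A q := by
    have : Algebra.FormallySmooth B (Localization.AtPrime q) :=
      Algebra.FormallySmooth.of_isLocalization q.primeCompl
    exact Algebra.FormallySmooth.comp A B (Localization.AtPrime q)
  obtain ⟨f, hf, n, alg, tower, hstd⟩ :=
    Algebra.IsSmoothAt.exists_isStandardEtale_mvPolynomial (R := A) (S := B) (p := q)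
  haveI : IsReduced (Localization.Away f) :=
    Groth.Agent.Lib.Helper24.EtaleReduced.isReduced_of_isStandardEtale
      (MvPolynomial (Fin n) A) (Localization.Away f)
  have h0 : algebraMap B (Localization.Away f) c = 0 := (hc.map _).eq_zero
  rw [IsLocalization.map_eq_zero_iff (Submonoid.powers f)] at h0
  obtain ⟨⟨_, k, rfl⟩, hk⟩ := h0
  have hmem : f ^ k ∈ (Ideal.span {c}).annihilator := by
    rw [Submodule.mem_annihilator_span_singleton, smul_eq_mul]
    exact hk
  exact hf (Ideal.IsPrime.mem_of_pow_mem inferInstance k (hle hmem))

end Groth.Agent.Lib.Helper24.SmoothReduced
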