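import Mathlib
import Groth.Agent.Lib.Helper24.SmoothNormal
import Groth.Agent.Lib.Helper24.SmoothReduced

/-!
# Reduced / normal local rings along smooth ring maps (helper24)

For a smooth ring map `A → B`, a prime `q` of `B` with contraction `p`:
* `isReduced_atPrime_iff_of_smooth` : `A_p` reduced ↔ `B_q` reduced;
* `isNormalDomain_atPrime_iff_of_smooth` : `A_p` normal domain ↔ `B_q` normal domain.
-/

set_option autoImplicit false

namespace Groth.Agent.Lib.Helper24.SmoothLocalIff

universe u

variable (A B : Type u) [CommRing A] [CommRing B] [Algebra A B]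

/-- `B_q` is the localization of `B_p := (A∖p)⁻¹B` at the extended prime. -/
theorem exists_ringEquiv_atPrime (q : Ideal B) [q.IsPrime] :
    let p := q.comap (algebraMap A B)
    let Bp := Localization (Algebra.algebraMapSubmonoid B p.primeCompl)
    ∃ (q' : Ideal Bp) (_ : q'.IsPrime), Nonempty (Localization.AtPrime q ≃+* Localization.AtPrime q') := by
  intro p Bp
  have hdisj : Disjoint (Algebra.algebraMapSubmonoid B p.primeCompl : Set B) (q : Set B) := by
    rw [Set.disjoint_left]
    rintro _ ⟨a, ha, rfl⟩ hq
    exact ha hq
  let q' : Ideal Bp := q.map (algebraMap B Bp)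
  have hq' : q'.IsPrime := IsLocalization.isPrime_of_isPrime_disjoint _ Bp q inferInstance hdisj
  have hq'c : q'.comap (algebraMap B Bp) = q :=
    IsLocalization.under_map_of_isPrime_disjoint _ Bp inferInstance hdisj
  refine ⟨q', hq', ?_⟩
  let G := Localization.AtPrime q'
  have i2 : IsLocalization.AtPrime G (q'.comap (algebraMap B Bp)) :=
    IsLocalization.isLocalization_isLocalization_atPrime_isLocalization
      (Algebra.algebraMapSubmonoid B p.primeCompl) G q'
  have hc2 : (q'.comap (algebraMap B Bp)).primeCompl = q.primeCompl :=
    Submonoid.ext fun x => by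
      rw [Ideal.mem_primeCompl_iff, Ideal.mem_primeCompl_iff, hq'c]
  have i2' : IsLocalization.AtPrime G q := by
    change IsLocalization q.primeCompl G
    rw [← hc2]
    exact i2
  exact ⟨(IsLocalization.algEquiv q.primeCompl (Localization.AtPrime q) G).toRingEquiv⟩

/-- The base change `A_p → (A∖p)⁻¹B` of a smooth map is smooth. -/
theorem smooth_localization (p : Ideal A) [p.IsPrime] [Algebra.Smooth A B] :
    Algebra.Smooth (Localization.AtPrime p)
      (Localization (Algebra.algebraMapSubmonoid B p.primeCompl)) := by
  have h1 : (algebraMap A B).Smooth := RingHom.smooth_algebraMap.2 inferInstance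
  haveI : IsLocalization (Submonoid.map (algebraMap A B) p.primeCompl)
      (Localization (Algebra.algebraMapSubmonoid B p.primeCompl)) :=
    inferInstanceAs (IsLocalization (Algebra.algebraMapSubmonoid B p.primeCompl)
      (Localization (Algebra.algebraMapSubmonoid B p.primeCompl)))
  have h2 := RingHom.Smooth.isStableUnderBaseChange.localizationPreserves (algebraMap A B)
    p.primeCompl (Localization.AtPrime p)
    (Localization (Algebra.algebraMapSubmonoid B p.primeCompl)) h1
  exact RingHom.smooth_algebraMap.1 h2

variable [Algebra.Smooth A B]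

/-- Faithful flatness of `A_p → B_q`. -/
theorem faithfullyFlat_atPrime (q : Ideal B) [q.IsPrime] :
    letI : q.LiesOver (q.comap (algebraMap A B)) := ⟨rfl⟩
    letI := Localization.AtPrime.algebraOfLiesOver (q.comap (algebraMap A B)) q
    Module.FaithfullyFlat (Localization.AtPrime (q.comap (algebraMap A B)))
      (Localization.AtPrime q) := by
  haveI hlo : q.LiesOver (q.comap (algebraMap A B)) := ⟨rfl⟩
  letI := Localization.AtPrime.algebraOfLiesOver (q.comap (algebraMap A B)) q
  haveI hloc : IsLocalHom (algebraMap (Localization.AtPrime (q.comap (algebraMap A B)))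
      (Localization.AtPrime q)) :=
    Localization.isLocalHom_localRingHom _ q (algebraMap A B) Ideal.LiesOver.over
  haveI : Module.Flat A B := inferInstance
  haveI hflat : Module.Flat (Localization.AtPrime (q.comap (algebraMap A B)))
      (Localization.AtPrime q) := inferInstance
  exact Module.FaithfullyFlat.of_flat_of_isLocalHom

theorem isReduced_atPrime_iff_of_smooth (q : Ideal B) [q.IsPrime] :
    IsReduced (Localization.AtPrime (q.comap (algebraMap A B))) ↔
      IsReduced (Localization.AtPrime q) := by
  constructor
  · intro h
    obtain ⟨q', hq', ⟨e⟩⟩ := exists_ringEquiv_atPrime A B q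
    haveI := smooth_localization A B (q.comap (algebraMap A B))
    haveI : IsReduced (Localization (Algebra.algebraMapSubmonoid B
        (q.comap (algebraMap A B)).primeCompl)) :=
      Groth.Agent.Lib.Helper24.SmoothReduced.isReduced_of_smooth
        (Localization.AtPrime (q.comap (algebraMap A B))) _
    exact isReduced_of_injective e.toRingHom e.injective
  · intro h
    haveI hlo : q.LiesOver (q.comap (algebraMap A B)) := ⟨rfl⟩
    letI := Localization.AtPrime.algebraOfLiesOver (q.comap (algebraMap A B)) q
    haveI := faithfullyFlat_atPrime A B q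
    exact isReduced_of_injective (algebraMap (Localization.AtPrime (q.comap (algebraMap A B)))
      (Localization.AtPrime q)) (FaithfulSMul.algebraMap_injective _ _)

theorem isNormalDomain_atPrime_iff_of_smooth (q : Ideal B) [q.IsPrime] :
    (IsDomain (Localization.AtPrime (q.comap (algebraMap A B))) ∧
      IsIntegrallyClosed (Localization.AtPrime (q.comap (algebraMap A B)))) ↔
    (IsDomain (Localization.AtPrime q) ∧ IsIntegrallyClosed (Localization.AtPrime q)) := by
  constructor
  · rintro ⟨hd, hic⟩
    exact Groth.Agent.Lib.Helper24.SmoothNormal.isDomain_isIntegrallyClosed_atPrime_of_smooth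
      A B q hd hic
  · rintro ⟨hd, hic⟩
    haveI hlo : q.LiesOver (q.comap (algebraMap A B)) := ⟨rfl⟩
    letI := Localization.AtPrime.algebraOfLiesOver (q.comap (algebraMap A B)) q
    haveI := faithfullyFlat_atPrime A B q
    have hinj : Function.Injective (algebraMap (Localization.AtPrime (q.comap (algebraMap A B)))
        (Localization.AtPrime q)) := FaithfulSMul.algebraMap_injective _ _
    haveI hdA : IsDomain (Localization.AtPrime (q.comap (algebraMap A B))) := hinj.isDomain _
    refine ⟨hdA, ?_⟩
    apply Groth.Agent.Lib.Helper24.EtaleNormal.isIntegrallyClosed_of_nf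
    exact Groth.Agent.Lib.Helper24.EtaleNormal.nf_of_faithfullyFlat _ (Localization.AtPrime q)
      (Groth.Agent.Lib.Helper24.EtaleNormal.nf_of_isIntegrallyClosed _)

end Groth.Agent.Lib.Helper24.SmoothLocalIff
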