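import Groth.Agent.S0501
import Groth.Prelude.Def_EssEt

/-!
Lifting local homomorphisms from essentially étale local algebras to henselian local rings
(helper24).
-/

set_option autoImplicit false

noncomputable section

namespace Groth.Agent.Lib.helper24.HenselEss

open IsLocalRing

universe u

/-- lifting for a localisation of an étale algebra. -/
theorem existsUnique_lift_atPrime (A : Type u) [CommRing A] [IsLocalRing A] (C : Type u)
    [CommRing C] [Algebra A C] [Algebra.Etale A C] (q : Ideal C) [q.IsPrime]
    (B : Type u) [CommRing B] [HenselianLocalRing B] (ψ : A →+* B)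
    (τ : ResidueField (Localization.AtPrime q) →+* ResidueField B)
    (hτ : ∀ a : A, τ (residue _ (algebraMap A (Localization.AtPrime q) a)) = residue B (ψ a)) :
    ∃! g : Localization.AtPrime q →+* B, IsLocalHom g ∧
      g.comp (algebraMap A (Localization.AtPrime q)) = ψ ∧
      ∀ x, residue B (g x) = τ (residue _ x) := by
  letI : Algebra A B := ψ.toAlgebra
  have halg : ∀ a : A, algebraMap A B a = ψ a := fun a => rfl
  have hτ' : (τ : q.ResidueField →+* ResidueField B).comp (algebraMap A q.ResidueField) =
      (residue B).comp (algebraMap A B) := by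
    ext a
    exact hτ a
  obtain ⟨f, ⟨hf1, hf2⟩, hfuniq⟩ := Groth.Agent.S0501.result A B C q τ hτ'
  have hunit : ∀ y : q.primeCompl, IsUnit (f.toRingHom y) := by
    intro y
    by_contra hnu
    have h1 : (y : C) ∈ Ideal.comap f.toRingHom (maximalIdeal B) := (mem_maximalIdeal _).2 hnu
    rw [hf1] at h1
    exact y.2 h1
  let g : Localization.AtPrime q →+* B := IsLocalization.lift (M := q.primeCompl) hunit
  have hgC : ∀ c : C, g (algebraMap C (Localization.AtPrime q) c) = f c := fun c =>
    IsLocalization.lift_eq hunit c
  have hres : ∀ (g' : Localization.AtPrime q →+* B),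
      (∀ c : C, residue B (g' (algebraMap C (Localization.AtPrime q) c)) =
        τ (algebraMap C q.ResidueField c)) → ∀ x, residue B (g' x) = τ (residue _ x) := by
    intro g' hg' x
    have h2 : ((residue B).comp g') = τ.comp (residue (Localization.AtPrime q)) := by
      apply IsLocalization.ringHom_ext q.primeCompl
      ext c
      exact hg' c
    exact congrArg (fun F : Localization.AtPrime q →+* ResidueField B => F x) h2
  have hglocal : ∀ (g' : Localization.AtPrime q →+* B),
      (∀ c : C, g' (algebraMap C (Localization.AtPrime q) c) ∈ maximalIdeal B ↔ c ∈ q) →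
      IsLocalHom g' := by
    intro g' hg'
    refine ⟨fun x hx => ?_⟩
    obtain ⟨c, s, rfl⟩ := IsLocalization.exists_mk'_eq q.primeCompl x
    have h3 : g' (IsLocalization.mk' (Localization.AtPrime q) c s) *
        g' (algebraMap C _ (s : C)) = g' (algebraMap C _ c) := by
      rw [← map_mul, IsLocalization.mk'_spec]
    have h4 : IsUnit (g' (algebraMap C (Localization.AtPrime q) c)) := by
      rw [← h3]
      refine hx.mul ?_
      by_contra hnu
      exact s.2 ((hg' _).1 ((mem_maximalIdeal _).2 hnu))
    have h5 : c ∉ q := fun hc => ((mem_maximalIdeal _).1 ((hg' c).2 hc)) h4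
    exact (IsLocalization.AtPrime.isUnit_mk'_iff (Localization.AtPrime q) q c s).2 h5
  have hfmem : ∀ c : C, f c ∈ maximalIdeal B ↔ c ∈ q := by
    intro c
    rw [← hf1]
    rfl
  refine ⟨g, ⟨?_, ?_, ?_⟩, ?_⟩
  · apply hglocal
    intro c
    rw [hgC]
    exact hfmem c
  · ext a
    show g (algebraMap A (Localization.AtPrime q) a) = ψ a
    rw [IsScalarTower.algebraMap_apply A C (Localization.AtPrime q), hgC, f.commutes]
    rfl
  · apply hres
    intro c
    rw [hgC]
    exact hf2 c
  · rintro g' ⟨hg'loc, hg'ψ, hg'res⟩
    -- the restriction of g' to C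
    let f' : C →ₐ[A] B :=
      { toRingHom := g'.comp (algebraMap C (Localization.AtPrime q))
        commutes' := by
          intro a
          show g' (algebraMap C (Localization.AtPrime q) (algebraMap A C a)) = ψ a
          rw [← IsScalarTower.algebraMap_apply A C (Localization.AtPrime q)]
          exact congrArg (fun F : A →+* B => F a) hg'ψ }
    have hf'app : ∀ c, f' c = g' (algebraMap C (Localization.AtPrime q) c) := fun c => rfl
    have hf'eq : f' = f := by
      apply hfuniq
      refine ⟨?_, ?_⟩
      · ext c
        rw [Ideal.mem_comap]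
        show f' c ∈ maximalIdeal B ↔ c ∈ q
        rw [hf'app]
        constructor
        · intro hc
          by_contra hcq
          have h6 : IsUnit (algebraMap C (Localization.AtPrime q) c) :=
            IsLocalization.map_units (Localization.AtPrime q) (⟨c, hcq⟩ : q.primeCompl)
          exact ((mem_maximalIdeal _).1 hc) (h6.map g')
        · intro hc
          rw [mem_maximalIdeal, mem_nonunits_iff]
          intro hu
          have h7 := hg'loc.map_nonunit _ hu
          rw [IsLocalization.AtPrime.isUnit_to_map_iff (Localization.AtPrime q) q] at h7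
          exact h7 hc
      · intro c
        rw [hf'app, hg'res]
        rfl
    apply IsLocalization.ringHom_ext q.primeCompl
    ext c
    show g' (algebraMap C (Localization.AtPrime q) c) = g (algebraMap C (Localization.AtPrime q) c)
    rw [hgC, ← hf'eq, hf'app]

/-- S2781 without the separably closed hypothesis. -/
theorem existsUnique_lift_essEtale (A A' : Type u) [CommRing A] [IsLocalRing A]
    [CommRing A'] [IsLocalRing A'] [Algebra A A'] [IsLocalHom (algebraMap A A')]
    (hA' : EGA4loc.IsEssentiallyEtale A A')
    (B : Type u) [CommRing B] [HenselianLocalRing B]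
    (ψ : A →+* B) [IsLocalHom ψ]
    (α : IsLocalRing.ResidueField A' →+* IsLocalRing.ResidueField B)
    (hα : α.comp (IsLocalRing.ResidueField.map (algebraMap A A')) = IsLocalRing.ResidueField.map ψ) :
    ∃! ψ' : A' →+* B, IsLocalHom ψ' ∧ ψ'.comp (algebraMap A A') = ψ ∧
      ∀ x : A', IsLocalRing.residue B (ψ' x) = α (IsLocalRing.residue A' x) := by
  obtain ⟨C, _, _, q, _, hC, hq, ⟨e⟩⟩ := hA'
  have : Algebra.Etale A C := hC
  let eR : A' ≃+* Localization.AtPrime q := e.toRingEquiv
  have heR : ∀ x, eR x = e x := fun x => rfl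
  have heRs : ∀ x, eR.symm x = e.symm x := fun x => rfl
  let τ : ResidueField (Localization.AtPrime q) →+* ResidueField B :=
    α.comp (ResidueField.map (eR.symm : Localization.AtPrime q →+* A'))
  have hτapp : ∀ x : Localization.AtPrime q, τ (residue _ x) = α (residue A' (e.symm x)) := by
    intro x
    show α (ResidueField.map (eR.symm : Localization.AtPrime q →+* A') (residue _ x)) = _
    rw [ResidueField.map_residue]
    rfl
  have hτ : ∀ a : A, τ (residue _ (algebraMap A (Localization.AtPrime q) a)) = residue B (ψ a) := by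
    intro a
    rw [hτapp, AlgEquiv.commutes]
    have h1 := congrArg (fun φ => φ (residue A a)) hα
    simp only [RingHom.comp_apply, ResidueField.map_residue] at h1
    exact h1
  obtain ⟨g, ⟨hg1, hg2, hg3⟩, hguniq⟩ :=
    existsUnique_lift_atPrime A C q B ψ τ hτ
  refine ⟨g.comp (eR : A' →+* Localization.AtPrime q), ⟨?_, ?_, ?_⟩, ?_⟩
  · have : IsLocalHom (eR : A' →+* Localization.AtPrime q) := by
      constructor
      intro a ha
      have := ha.map (eR.symm : Localization.AtPrime q →+* A')
      simpa using this
    exact RingHom.isLocalHom_comp _ _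
  · rw [← hg2]
    ext a
    show g (eR (algebraMap A A' a)) = g (algebraMap A _ a)
    rw [heR, AlgEquiv.commutes]
  · intro x
    show residue B (g (eR x)) = _
    rw [hg3, hτapp, heR, AlgEquiv.symm_apply_apply]
  · intro ψ'' ⟨h1, h2, h3⟩
    have hkey : ψ''.comp (eR.symm : Localization.AtPrime q →+* A') = g := by
      apply hguniq
      refine ⟨?_, ?_, ?_⟩
      · have : IsLocalHom (eR.symm : Localization.AtPrime q →+* A') := by
          constructor
          intro a ha
          have := ha.map (eR : A' →+* Localization.AtPrime q)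
          simpa using this
        exact RingHom.isLocalHom_comp _ _
      · rw [← h2]
        ext a
        show ψ'' (eR.symm (algebraMap A _ a)) = ψ'' (algebraMap A A' a)
        rw [heRs, AlgEquiv.commutes]
      · intro x
        show residue B (ψ'' (eR.symm x)) = _
        rw [h3, hτapp, heRs]
    rw [← hkey]
    ext x
    show ψ'' x = ψ'' (eR.symm (eR x))
    rw [RingEquiv.symm_apply_apply]

/-- S2778-type statement. -/
theorem existsUnique_lift_strictEssEtale (A A' : Type u) [CommRing A] [IsLocalRing A]
    [CommRing A'] [IsLocalRing A'] [Algebra A A'] [IsLocalHom (algebraMap A A')]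
    (hA' : EGA4loc.IsStrictlyEssentiallyEtale A A')
    (B : Type u) [CommRing B] [HenselianLocalRing B] (ψ : A →+* B) [IsLocalHom ψ] :
    ∃! ψ' : A' →+* B, IsLocalHom ψ' ∧ ψ'.comp (algebraMap A A') = ψ := by
  obtain ⟨hess, hbij⟩ := hA'
  let ε : ResidueField A ≃+* ResidueField A' := RingEquiv.ofBijective _ hbij
  have hε : ∀ x, ε x = ResidueField.map (algebraMap A A') x := fun x => rfl
  let α : ResidueField A' →+* ResidueField B :=
    (ResidueField.map ψ).comp (ε.symm : ResidueField A' →+* ResidueField A)
  have hα : α.comp (ResidueField.map (algebraMap A A')) = ResidueField.map ψ := by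
    ext x
    show ResidueField.map ψ (ε.symm (ResidueField.map (algebraMap A A') x)) = _
    rw [← hε, RingEquiv.symm_apply_apply]
  obtain ⟨ψ', ⟨h1, h2, h3⟩, huniq⟩ := existsUnique_lift_essEtale A A' hess B ψ α hα
  refine ⟨ψ', ⟨h1, h2⟩, ?_⟩
  intro ψ'' ⟨k1, k2⟩
  apply huniq
  refine ⟨k1, k2, ?_⟩
  intro x
  have hmap : (ResidueField.map ψ'').comp (ResidueField.map (algebraMap A A')) =
      ResidueField.map ψ := by
    ext a
    induction a using Quotient.inductionOn with
    | _ a =>
    show ResidueField.map ψ'' (ResidueField.map (algebraMap A A') (residue A a)) =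
      ResidueField.map ψ (residue A a)
    rw [ResidueField.map_residue, ResidueField.map_residue, ResidueField.map_residue, ← k2]
    rfl
  have hα' : α = ResidueField.map ψ'' := by
    ext y
    obtain ⟨a, rfl⟩ := ε.surjective y
    show ResidueField.map ψ (ε.symm (ε a)) = _
    rw [RingEquiv.symm_apply_apply, hε, ← hmap]
    rfl
  rw [hα', ResidueField.map_residue]

/-- The maximal ideal of an essentially étale local algebra is generated by the maximal ideal of
the base. -/
theorem map_maximalIdeal_of_essEtale (A A' : Type u) [CommRing A] [IsLocalRing A]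
    [CommRing A'] [IsLocalRing A'] [Algebra A A'] [IsLocalHom (algebraMap A A')]
    (hA' : EGA4loc.IsEssentiallyEtale A A') :
    (maximalIdeal A).map (algebraMap A A') = maximalIdeal A' := by
  obtain ⟨C, _, _, q, _, hC, hq, ⟨e⟩⟩ := hA'
  have : Algebra.Etale A C := hC
  have h1 : Algebra.FormallyUnramified C (Localization.AtPrime q) :=
    Algebra.FormallyUnramified.of_isLocalization q.primeCompl
  have h2 : Algebra.FormallyUnramified A (Localization.AtPrime q) :=
    Algebra.FormallyUnramified.comp A C _
  have h3 : Algebra.EssFiniteType C (Localization.AtPrime q) :=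
    Algebra.EssFiniteType.of_isLocalization _ q.primeCompl
  have h4 : Algebra.EssFiniteType A (Localization.AtPrime q) :=
    Algebra.EssFiniteType.comp A C _
  have h5 : Algebra.FormallyUnramified A A' := Algebra.FormallyUnramified.of_equiv e.symm
  have h6 : Algebra.EssFiniteType A A' := (Algebra.EssFiniteType.iff_of_algEquiv e).2 h4
  exact Algebra.FormallyUnramified.map_maximalIdeal

/-- Any algebra homomorphism out of an essentially étale local algebra to a local algebra
(with local structure map) is local. -/
theorem algHom_map_maximalIdeal_of_essEtale (A A₁ A₂ : Type u) [CommRing A] [IsLocalRing A]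
    [CommRing A₁] [IsLocalRing A₁] [Algebra A A₁] [IsLocalHom (algebraMap A A₁)]
    [CommRing A₂] [IsLocalRing A₂] [Algebra A A₂] [IsLocalHom (algebraMap A A₂)]
    (h₁ : EGA4loc.IsEssentiallyEtale A A₁) (ψ : A₁ →ₐ[A] A₂) (y : A₁)
    (hy : y ∈ maximalIdeal A₁) : ψ y ∈ maximalIdeal A₂ := by
  rw [← map_maximalIdeal_of_essEtale A A₁ h₁] at hy
  have hle : (maximalIdeal A).map (algebraMap A A₁) ≤
      Ideal.comap ψ.toRingHom (maximalIdeal A₂) := by
    rw [Ideal.map_le_iff_le_comap]
    intro a ha
    rw [Ideal.mem_comap, Ideal.mem_comap]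
    show ψ (algebraMap A A₁ a) ∈ maximalIdeal A₂
    rw [AlgHom.commutes, mem_maximalIdeal, mem_nonunits_iff]
    intro hu
    exact ((mem_maximalIdeal _).1 ha) (isUnit_of_map_unit (algebraMap A A₂) a hu)
  exact hle hy

theorem algHom_subsingleton_of_strictEssEtale (A A₁ A₂ : Type u) [CommRing A] [IsLocalRing A]
    [CommRing A₁] [IsLocalRing A₁] [Algebra A A₁] [IsLocalHom (algebraMap A A₁)]
    [CommRing A₂] [IsLocalRing A₂] [Algebra A A₂] [IsLocalHom (algebraMap A A₂)]
    (h₁ : EGA4loc.IsStrictlyEssentiallyEtale A A₁)
    (hext : ∀ ψ ψ' : A₁ →ₐ[A] A₂,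
      (∀ x : A₁, residue A₂ (ψ x) = residue A₂ (ψ' x)) → ψ = ψ') :
    Subsingleton (A₁ →ₐ[A] A₂) := by
  constructor
  intro ψ ψ'
  apply hext
  intro x
  obtain ⟨a, ha⟩ := h₁.2.surjective (residue A₁ x)
  obtain ⟨a, rfl⟩ := residue_surjective a
  rw [ResidueField.map_residue] at ha
  have hmem : x - algebraMap A A₁ a ∈ maximalIdeal A₁ := by
    rw [← residue_eq_zero_iff, map_sub, ha, sub_self]
  have k1 := algHom_map_maximalIdeal_of_essEtale A A₁ A₂ h₁.1 ψ _ hmem
  have k2 := algHom_map_maximalIdeal_of_essEtale A A₁ A₂ h₁.1 ψ' _ hmem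
  rw [← residue_eq_zero_iff, map_sub, map_sub, AlgHom.commutes, sub_eq_zero] at k1 k2
  rw [k1, k2]

end Groth.Agent.Lib.helper24.HenselEss

end
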