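import Groth.Agent.Lib.Helper24.IndEtaleProps

/-!
# Ind-étale algebras over a field (helper24)
-/

set_option autoImplicit false

namespace Groth.Agent.Lib.Helper24.IndEtaleField

open Groth.Agent.Lib.Helper24.IndEtaleCrit Groth.Agent.Lib.Helper24.IndEtaleProps

universe u

variable (k F : Type u) [Field k] [CommRing F] [Algebra k F]

/-- An ind-étale algebra over a field is integral. -/
theorem isIntegral_of_isIndEtale (h : EtPBC.IsIndEtale k F) : Algebra.IsIntegral k F := by
  obtain ⟨ι, C, _, _, _, φ, -, -, hsurj⟩ := exists_family_of_isIndEtale h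
  constructor
  intro z
  obtain ⟨i, c, rfl⟩ := hsurj z
  have hfin : Module.Finite k (C i) := Algebra.FormallyUnramified.finite_of_free k (C i)
  have hc : IsIntegral k c := Algebra.IsIntegral.isIntegral c
  exact hc.map (φ i)

/-- An ind-étale algebra over a field has dimension `≤ 0`. -/
theorem krullDimLE_zero_of_isIndEtale (h : EtPBC.IsIndEtale k F) : Ring.KrullDimLE 0 F := by
  have := isIntegral_of_isIndEtale k F h
  rw [Ring.krullDimLE_zero_iff]
  intro P hP
  have h1 : (P.comap (algebraMap k F)).IsMaximal := by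
    have : (P.comap (algebraMap k F)).IsPrime := Ideal.comap_isPrime _ _
    rw [Ideal.eq_bot_of_prime (P.comap (algebraMap k F))]
    exact Ideal.bot_isMaximal
  exact Ideal.isMaximal_of_isIntegral_of_isMaximal_comap P h1

/-- The image of an element of an ind-étale algebra over a field in a field extension is
separable. -/
theorem isSeparable_of_isIndEtale (h : EtPBC.IsIndEtale k F) (L : Type u) [Field L] [Algebra k L]
    (π : F →ₐ[k] L) (z : F) : IsSeparable k (π z) := by
  obtain ⟨ι, C, _, _, _, φ, -, -, hsurj⟩ := exists_family_of_isIndEtale h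
  obtain ⟨i, c, rfl⟩ := hsurj z
  let ψ : C i →ₐ[k] L := π.comp (φ i)
  have hfin : Module.Finite k (C i) := Algebra.FormallyUnramified.finite_of_free k (C i)
  have hprime : (RingHom.ker ψ).IsPrime := RingHom.ker_isPrime ψ
  have hArt : IsArtinianRing (C i) := IsArtinianRing.of_finite k (C i)
  have hmax : (RingHom.ker ψ).IsMaximal := IsArtinianRing.isMaximal_of_isPrime _
  let _ : Field (C i ⧸ RingHom.ker ψ) := Ideal.Quotient.field _
  have hunr : Algebra.FormallyUnramified k (C i ⧸ RingHom.ker ψ) :=
    Algebra.FormallyUnramified.of_surjective (Ideal.Quotient.mkₐ k (RingHom.ker ψ))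
      Ideal.Quotient.mk_surjective
  have hsep : Algebra.IsSeparable k (C i ⧸ RingHom.ker ψ) :=
    Algebra.FormallyUnramified.isSeparable k (C i ⧸ RingHom.ker ψ)
  let ψ' : (C i ⧸ RingHom.ker ψ) →ₐ[k] L := Ideal.Quotient.liftₐ (RingHom.ker ψ) ψ (fun a ha => ha)
  have h1 : IsSeparable k (Ideal.Quotient.mk (RingHom.ker ψ) c) := Algebra.IsSeparable.isSeparable k _
  have h2 : ψ' (Ideal.Quotient.mk (RingHom.ker ψ) c) = π (φ i c) := rfl
  rw [← h2]
  exact h1.map ψ' (RingHom.injective ψ'.toRingHom)

end Groth.Agent.Lib.Helper24.IndEtaleField
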