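import Groth.Agent.Lib.Helper24.HensStage
import Groth.Agent.Lib.Helper24.NoethLimit
import Groth.Agent.S0542

/-!
# Noetherianity of the henselization and the strict henselization (helper24)
-/

set_option autoImplicit false
set_option linter.unusedSectionVars false

noncomputable section

namespace Groth.Agent.Lib.Helper24.HensNoeth

open IsLocalRing Groth.Agent.Lib.Helper24.NoethLimit Groth.Agent.Lib.Helper24.HensStage

universe u

/-- A local ring with finitely generated maximal ideal has noetherian completion. -/
theorem isNoetherianRing_completion_of_fg (S : Type u) [CommRing S] [IsLocalRing S]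
    (hfg : (maximalIdeal S).FG) : IsNoetherianRing (AdicCompletion (maximalIdeal S) S) := by
  have : IsNoetherianRing (S ⧸ maximalIdeal S) :=
    (inferInstance : IsNoetherianRing (ResidueField S))
  exact Groth.Agent.S0542.result S (maximalIdeal S) hfg

section Strict

open Groth.Agent.Lib.Helper24.StrictHens Groth.Agent.Lib.Helper24.StrictHens.SIdx

variable {A : Type u} [CommRing A] [IsLocalRing A] {Ω : Type u} [Field Ω] [Algebra A Ω]
  [Algebra (ResidueField A) Ω] [IsScalarTower A (ResidueField A) Ω]

theorem isNoetherianRing_stage [IsNoetherianRing A] (j : SIdx A Ω) : IsNoetherianRing j.G := by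
  have : IsNoetherianRing j.C := Algebra.FiniteType.isNoetherianRing A j.C
  exact IsLocalization.isNoetherianRing j.q.primeCompl j.G inferInstance

theorem map_maximalIdeal_ofS (j : SIdx A Ω) :
    (maximalIdeal j.G).map (ofS j) = maximalIdeal (SHens A Ω) := by
  rw [← map_maximalIdeal_stage j, Ideal.map_map, ← map_maximalIdeal_SHens]
  congr 1
  ext a
  exact (algebraMap_eq j a).symm

theorem isNoetherianRing_SHens [IsNoetherianRing A] [IsSepClosure (ResidueField A) Ω] :
    IsNoetherianRing (SHens A Ω) := by
  have hfg : (maximalIdeal (SHens A Ω)).FG := by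
    rw [← map_maximalIdeal_SHens]
    exact Ideal.FG.map (IsNoetherian.noetherian _) _
  have hcomp := isNoetherianRing_completion_of_fg (SHens A Ω) hfg
  apply isNoetherianRing_of_completion _ (maximalIdeal (SHens A Ω))
  intro J₀ hJ₀ x hx
  obtain ⟨n, s, rfl⟩ := Submodule.fg_iff_exists_fin_generating_family.1 hJ₀
  obtain ⟨k, x', hx'⟩ := exists_ofS_fin (Fin.cons x s : Fin (n + 1) → SHens A Ω)
  let I' : Ideal k.G := Ideal.span (Set.range (fun i : Fin n => x' i.succ))
  have hI' : I'.map (ofS k) = Ideal.span (Set.range s) := by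
    rw [Ideal.map_span, ← Set.range_comp]
    congr 2
    ext i
    have := hx' i.succ
    rw [Fin.cons_succ] at this
    exact this
  have hx0 : ofS k (x' 0) = x := by
    have := hx' 0
    rw [Fin.cons_zero] at this
    exact this
  let _ : Algebra k.G (SHens A Ω) := stageAlgebra k
  have hff := faithfullyFlat_stage (A := A) (Ω := Ω) k
  have hNk := isNoetherianRing_stage k
  have key : ∀ m : ℕ, x' 0 ∈ I' ⊔ maximalIdeal k.G ^ m := by
    intro m
    have h1 : ofS k (x' 0) ∈ (I' ⊔ maximalIdeal k.G ^ m).map (ofS k) := by
      rw [Ideal.map_sup, Ideal.map_pow, map_maximalIdeal_ofS, hI', hx0]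
      exact hx m
    have h2 : x' 0 ∈ ((I' ⊔ maximalIdeal k.G ^ m).map (algebraMap k.G (SHens A Ω))).comap
        (algebraMap k.G (SHens A Ω)) := h1
    rwa [Ideal.comap_map_eq_self_of_faithfullyFlat] at h2
  have hmem : x' 0 ∈ I' := mem_of_forall_mem_sup_pow I' (x' 0) key
  have hfin : ofS k (x' 0) ∈ I'.map (ofS k) := Ideal.mem_map_of_mem _ hmem
  rw [hI', hx0] at hfin
  exact hfin

theorem isNoetherianRing_iff_of_isStrictHenselization (R : Type u) [CommRing R] [IsLocalRing R]
    (S : Type u) [CommRing S] [IsLocalRing S] [Algebra R S] [IsLocalHom (algebraMap R S)]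
    [Hensel.IsStrictHenselization R S] : IsNoetherianRing R ↔ IsNoetherianRing S := by
  constructor
  · intro h
    obtain ⟨e⟩ := exists_algEquiv_SH R S
    have := isNoetherianRing_SHens (A := R) (Ω := Ωstd R)
    exact isNoetherianRing_of_ringEquiv _ e.toRingEquiv
  · intro h
    have := faithfullyFlat_of_isStrictHenselization R S
    exact isNoetherianRing_of_faithfullyFlat R S

end Strict

section Hens

open Groth.Agent.Lib.helper24.Henselization Groth.Agent.Lib.helper24.Henselization.Idx

variable {A : Type u} [CommRing A] [IsLocalRing A]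

theorem isNoetherianRing_stageH [IsNoetherianRing A] (j : Idx A) : IsNoetherianRing j.G := by
  have : IsNoetherianRing j.C := Algebra.FiniteType.isNoetherianRing A j.C
  exact IsLocalization.isNoetherianRing j.q.primeCompl j.G inferInstance

theorem map_maximalIdeal_stageH (j : Idx A) :
    (maximalIdeal A).map (algebraMap A j.G) = maximalIdeal j.G :=
  Groth.Agent.Lib.helper24.HenselEss.map_maximalIdeal_of_essEtale A j.G j.strict.1

theorem map_maximalIdeal_Hens :
    (maximalIdeal A).map (algebraMap A (Hens A)) = maximalIdeal (Hens A) := by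
  apply le_antisymm (IsLocalRing.map_maximalIdeal_le (algebraMap A (Hens A)))
  intro z hz
  obtain ⟨i, x, rfl⟩ := exists_ofH z
  rw [ofH_mem_maximalIdeal_iff, ← map_maximalIdeal_stageH] at hz
  have hcomp : algebraMap A (Hens A) = (ofH i).comp (algebraMap A i.G) := by
    ext a
    exact algebraMap_eq i a
  rw [hcomp, ← Ideal.map_map]
  exact Ideal.mem_map_of_mem _ hz

theorem map_maximalIdeal_ofH (j : Idx A) :
    (maximalIdeal j.G).map (ofH j) = maximalIdeal (Hens A) := by
  rw [← map_maximalIdeal_stageH j, Ideal.map_map, ← map_maximalIdeal_Hens]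
  congr 1
  ext a
  exact (algebraMap_eq j a).symm

theorem isNoetherianRing_Hens [IsNoetherianRing A] : IsNoetherianRing (Hens A) := by
  have hfg : (maximalIdeal (Hens A)).FG := by
    rw [← map_maximalIdeal_Hens]
    exact Ideal.FG.map (IsNoetherian.noetherian _) _
  have hcomp := isNoetherianRing_completion_of_fg (Hens A) hfg
  apply isNoetherianRing_of_completion _ (maximalIdeal (Hens A))
  intro J₀ hJ₀ x hx
  obtain ⟨n, s, rfl⟩ := Submodule.fg_iff_exists_fin_generating_family.1 hJ₀
  obtain ⟨k, x', hx'⟩ := exists_ofH_fin (Fin.cons x s : Fin (n + 1) → Hens A)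
  let I' : Ideal k.G := Ideal.span (Set.range (fun i : Fin n => x' i.succ))
  have hI' : I'.map (ofH k) = Ideal.span (Set.range s) := by
    rw [Ideal.map_span, ← Set.range_comp]
    congr 2
    ext i
    have := hx' i.succ
    rw [Fin.cons_succ] at this
    exact this
  have hx0 : ofH k (x' 0) = x := by
    have := hx' 0
    rw [Fin.cons_zero] at this
    exact this
  let _ : Algebra k.G (Hens A) := stageAlgebraH k
  have hff := faithfullyFlat_stageH (A := A) k
  have hNk := isNoetherianRing_stageH k
  have key : ∀ m : ℕ, x' 0 ∈ I' ⊔ maximalIdeal k.G ^ m := by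
    intro m
    have h1 : ofH k (x' 0) ∈ (I' ⊔ maximalIdeal k.G ^ m).map (ofH k) := by
      rw [Ideal.map_sup, Ideal.map_pow, map_maximalIdeal_ofH, hI', hx0]
      exact hx m
    have h2 : x' 0 ∈ ((I' ⊔ maximalIdeal k.G ^ m).map (algebraMap k.G (Hens A))).comap
        (algebraMap k.G (Hens A)) := h1
    rwa [Ideal.comap_map_eq_self_of_faithfullyFlat] at h2
  have hmem : x' 0 ∈ I' := mem_of_forall_mem_sup_pow I' (x' 0) key
  have hfin : ofH k (x' 0) ∈ I'.map (ofH k) := Ideal.mem_map_of_mem _ hmem
  rw [hI', hx0] at hfin
  exact hfin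

theorem isNoetherianRing_iff_of_isHenselization (R : Type u) [CommRing R] [IsLocalRing R]
    (S : Type u) [CommRing S] [IsLocalRing S] [Algebra R S] [IsLocalHom (algebraMap R S)]
    [Hensel.IsHenselization R S] : IsNoetherianRing R ↔ IsNoetherianRing S := by
  constructor
  · intro h
    obtain ⟨e⟩ := exists_algEquiv R (Hens R) S
    have := isNoetherianRing_Hens (A := R)
    exact isNoetherianRing_of_ringEquiv _ e.toRingEquiv
  · intro h
    have := faithfullyFlat_of_isHenselization R S
    exact isNoetherianRing_of_faithfullyFlat R S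

end Hens

end Groth.Agent.Lib.Helper24.HensNoeth

end
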