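import Groth.Agent.Lib.Helper24.IndEtaleProps

/-!
A module over an ind-étale `A`-algebra `B` which is flat over `A` is flat over `B`
(Stacks 092C for ind-étale algebras) (helper24).
-/

set_option autoImplicit false

noncomputable section

namespace Groth.Agent.Lib.Helper24.FlatOverIndEtale

open TensorProduct

universe u v

section Unramified

variable (A C : Type u) [CommRing A] [CommRing C] [Algebra A C]
  (M : Type v) [AddCommGroup M] [Module A M] [Module C M] [IsScalarTower A C M]

/-- The action map `C ⊗ M → M`, `C`-linear. -/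
def act : C ⊗[A] M →ₗ[C] M := LinearMap.liftBaseChange C (LinearMap.id : M →ₗ[A] M)

theorem act_tmul (c : C) (m : M) : act A C M (c ⊗ₜ m) = c • m := by
  simp [act]

/-- `(u ⊗ v) ⊗ m ↦ u ⊗ v • m`. -/
def Θ : (C ⊗[A] C) ⊗[A] M →ₗ[A] C ⊗[A] M :=
  (LinearMap.lTensor C ((act A C M).restrictScalars A)).comp
    (TensorProduct.assoc A C C M).toLinearMap

theorem Θ_tmul (u v : C) (m : M) : Θ A C M ((u ⊗ₜ v) ⊗ₜ m) = u ⊗ₜ (v • m) := by
  simp [Θ, act_tmul]

theorem Θ_left (c : C) (t : C ⊗[A] C) (m : M) :
    Θ A C M (((c ⊗ₜ[A] (1 : C)) * t) ⊗ₜ m) = c • Θ A C M (t ⊗ₜ m) := by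
  induction t using TensorProduct.induction_on with
  | zero => simp
  | tmul u v =>
    rw [Algebra.TensorProduct.tmul_mul_tmul, Θ_tmul, Θ_tmul, one_mul, TensorProduct.smul_tmul',
      smul_eq_mul]
  | add x y hx hy =>
    rw [mul_add, TensorProduct.add_tmul, map_add, hx, hy, TensorProduct.add_tmul, map_add, smul_add]

theorem Θ_right (c : C) (t : C ⊗[A] C) (m : M) :
    Θ A C M ((((1 : C) ⊗ₜ[A] c) * t) ⊗ₜ m) = Θ A C M (t ⊗ₜ (c • m)) := by
  induction t using TensorProduct.induction_on with
  | zero => simp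
  | tmul u v =>
    rw [Algebra.TensorProduct.tmul_mul_tmul, Θ_tmul, Θ_tmul, one_mul, mul_comm, mul_smul]
  | add x y hx hy =>
    rw [mul_add, TensorProduct.add_tmul, map_add, hx, hy, TensorProduct.add_tmul, map_add]

theorem act_Θ (t : C ⊗[A] C) (m : M) :
    act A C M (Θ A C M (t ⊗ₜ m)) = (Algebra.TensorProduct.lmul' A t) • m := by
  induction t using TensorProduct.induction_on with
  | zero => simp
  | tmul u v =>
    rw [Θ_tmul, act_tmul, Algebra.TensorProduct.lmul'_apply_tmul, mul_smul]
  | add x y hx hy =>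
    rw [TensorProduct.add_tmul, map_add, map_add, hx, hy, map_add, add_smul]

/-- A module over an unramified `A`-algebra `C` of (essentially) finite type which is flat over `A`
is flat over `C`. -/
theorem flat_of_unramified [Algebra.EssFiniteType A C] [Algebra.FormallyUnramified A C]
    [Module.Flat A M] : Module.Flat C M := by
  obtain ⟨e, he1, he2⟩ := Algebra.FormallyUnramified.iff_exists_tensorProduct.mp
    (inferInstance : Algebra.FormallyUnramified A C)
  have he : ∀ c : C, ((1 : C) ⊗ₜ[A] c) * e = (c ⊗ₜ[A] (1 : C)) * e := by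
    intro c
    have := he1 c
    rw [sub_mul, sub_eq_zero] at this
    exact this
  let i : M →ₗ[C] C ⊗[A] M :=
    { toFun := fun m => Θ A C M (e ⊗ₜ m)
      map_add' := by
        intro m m'
        rw [TensorProduct.tmul_add, map_add]
      map_smul' := by
        intro c m
        rw [RingHom.id_apply, ← Θ_right, he, Θ_left] }
  refine Module.Flat.of_retract (R := C) (M := C ⊗[A] M) i (act A C M) ?_
  ext m
  show act A C M (Θ A C M (e ⊗ₜ m)) = m
  rw [act_Θ, he2, one_smul]

end Unramified

section Colimit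

open Groth.Agent.Lib.Helper24.IndEtaleProps

variable {A B : Type u} [CommRing A] [CommRing B] [Algebra A B]

/-- A module over an ind-étale `A`-algebra `B` which is flat over `A` is flat over `B`. -/
theorem flat_of_isIndEtale (h : EtPBC.IsIndEtale A B) (M : Type v) [AddCommGroup M] [Module A M]
    [Module B M] [IsScalarTower A B M] [Module.Flat A M] : Module.Flat B M := by
  obtain ⟨F⟩ := nonempty_family h
  apply Module.Flat.of_forall_isTrivialRelation
  intro l f x hfx
  obtain ⟨i, c, hc⟩ := exists_common_stage F.C F.φ F.hobj F.hsurj l f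
  letI modC : Module (F.C i) M := Module.compHom M (F.φ i).toRingHom
  have hsmul : ∀ (c : F.C i) (m : M), c • m = F.φ i c • m := fun _ _ => rfl
  haveI : IsScalarTower A (F.C i) M := ⟨fun a c m => by
    rw [hsmul, hsmul, map_smul, smul_assoc]⟩
  haveI : Module.Flat (F.C i) M := flat_of_unramified A (F.C i) M
  have hrel : ∑ k, c k • x k = 0 := by
    simp only [hsmul, hc]
    exact hfx
  obtain ⟨k, a, y, h1, h2⟩ := Module.Flat.isTrivialRelation_of_sum_smul_eq_zero hrel
  refine ⟨k, fun t j => F.φ i (a t j), y, ?_, ?_⟩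
  · intro t
    rw [h1 t]
    rfl
  · intro j
    have := congrArg (F.φ i) (h2 j)
    simpa [map_sum, map_mul, hc] using this

end Colimit

end Groth.Agent.Lib.Helper24.FlatOverIndEtale

end
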