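import Mathlib

set_option autoImplicit false
universe u

namespace Groth.Agent.Lib.Helper24.AnUnram

open TensorProduct

/-- N-1 descends along a faithfully flat extension `R → T` with `T` reduced Noetherian whose
quotients by minimal primes are N-1. -/
theorem finite_integralClosure_of_faithfullyFlat_reduced (R T : Type u) [CommRing R] [IsDomain R]
    [CommRing T] [Algebra R T] [Module.FaithfullyFlat R T] [IsNoetherianRing T] [IsReduced T]
    (h : ∀ (p : Ideal T) [p.IsPrime], p ∈ minimalPrimes T →
      Module.Finite (T ⧸ p) (integralClosure (T ⧸ p) (FractionRing (T ⧸ p)))) :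
    Module.Finite R (integralClosure R (FractionRing R)) := by
  classical
  let ι := {p : Ideal T // p ∈ minimalPrimes T}
  haveI : Finite ι := (minimalPrimes.finite_of_isNoetherianRing T).to_subtype
  haveI hprime : ∀ i : ι, (i.1).IsPrime := fun i => i.2.1.1
  -- nonzero elements of `R` avoid minimal primes
  have hnot : ∀ (i : ι) (r : R), r ≠ 0 → algebraMap R T r ∉ i.1 := by
    intro i r hr hmem
    have h1 : IsSMulRegular R r := (IsRegular.of_ne_zero hr).left.isSMulRegular
    have h2 : IsSMulRegular T (algebraMap R T r) := IsSMulRegular.of_flat h1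
    have h3 : algebraMap R T r ∈ nonZeroDivisors T := by
      rw [mem_nonZeroDivisors_iff_right]
      intro t ht
      apply h2
      show algebraMap R T r * t = algebraMap R T r * 0
      rw [mul_zero, mul_comm]
      exact ht
    exact Set.disjoint_left.mp (Ideal.disjoint_nonZeroDivisors_of_mem_minimalPrimes i.2) hmem h3
  have htower : ∀ i : ι, IsScalarTower R T (FractionRing (T ⧸ i.1)) := fun i =>
    IsScalarTower.of_algebraMap_eq fun r => by
      rw [IsScalarTower.algebraMap_apply R (T ⧸ i.1) (FractionRing (T ⧸ i.1)),
        IsScalarTower.algebraMap_apply T (T ⧸ i.1) (FractionRing (T ⧸ i.1)),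
        ← IsScalarTower.algebraMap_apply R T (T ⧸ i.1)]
  have hinj : ∀ i : ι, Function.Injective (algebraMap R (FractionRing (T ⧸ i.1))) := by
    intro i
    rw [injective_iff_map_eq_zero]
    intro r hr
    by_contra hne
    apply hnot i r hne
    rw [IsScalarTower.algebraMap_apply R T (FractionRing (T ⧸ i.1)),
      IsScalarTower.algebraMap_apply T (T ⧸ i.1) (FractionRing (T ⧸ i.1))] at hr
    have := (IsFractionRing.injective (T ⧸ i.1) (FractionRing (T ⧸ i.1))) (hr.trans (map_zero _).symm)
    exact Ideal.Quotient.eq_zero_iff_mem.mp this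
  haveI hfaith : ∀ i : ι, FaithfulSMul R (FractionRing (T ⧸ i.1)) := fun i =>
    (faithfulSMul_iff_algebraMap_injective _ _).mpr (hinj i)
  letI halg : ∀ i : ι, Algebra (FractionRing R) (FractionRing (T ⧸ i.1)) := fun i =>
    FractionRing.liftAlgebra R (FractionRing (T ⧸ i.1))
  haveI htowerK : ∀ i : ι, IsScalarTower R (FractionRing R) (FractionRing (T ⧸ i.1)) := fun i =>
    FractionRing.isScalarTower_liftAlgebra R (FractionRing (T ⧸ i.1))
  -- the map `R' → ∏ Lᵢ`
  let ψ : integralClosure R (FractionRing R) →ₗ[R] (∀ i : ι, FractionRing (T ⧸ i.1)) :=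
    LinearMap.pi (fun i =>
      ((Algebra.linearMap (FractionRing R) (FractionRing (T ⧸ i.1))).restrictScalars R).comp
        (integralClosure R (FractionRing R)).val.toLinearMap)
  have hψ : ∀ (x : integralClosure R (FractionRing R)) (i : ι),
      ψ x i = algebraMap (FractionRing R) (FractionRing (T ⧸ i.1)) (x : FractionRing R) :=
    fun x i => rfl
  let Ψ : T ⊗[R] integralClosure R (FractionRing R) →ₗ[T] (∀ i : ι, FractionRing (T ⧸ i.1)) :=
    ψ.liftBaseChange T
  -- the target submodule
  let C : Submodule T (∀ i : ι, FractionRing (T ⧸ i.1)) :=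
    Submodule.pi Set.univ (fun i =>
      (Subalgebra.toSubmodule (integralClosure (T ⧸ i.1) (FractionRing (T ⧸ i.1)))).restrictScalars T)
  have hCfg : C.FG := by
    apply Submodule.fg_pi
    intro i
    apply Submodule.FG.restrictScalars
    have := h i.1 i.2
    exact (Module.Finite.iff_fg).mp this
  haveI : IsNoetherian T C := isNoetherian_of_fg_of_noetherian C hCfg
  have hψC : ∀ x, ψ x ∈ C := by
    intro x
    rw [Submodule.mem_pi]
    intro i _
    show IsIntegral (T ⧸ i.1) (ψ x i)
    rw [hψ]
    refine IsIntegral.map_of_comp_eq (algebraMap R (T ⧸ i.1))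
      (algebraMap (FractionRing R) (FractionRing (T ⧸ i.1))) ?_ x.2
    ext r
    simp only [RingHom.comp_apply]
    rw [← IsScalarTower.algebraMap_apply, ← IsScalarTower.algebraMap_apply]
  have hΨC : ∀ z, Ψ z ∈ C := by
    intro z
    induction z using TensorProduct.induction_on with
    | zero => rw [map_zero]; exact C.zero_mem
    | tmul t x =>
      rw [LinearMap.liftBaseChange_tmul]
      exact C.smul_mem t (hψC x)
    | add a b ha hb => rw [map_add]; exact C.add_mem ha hb
  -- (i) `T → ∏ Lᵢ` is injective
  have hTinj : ∀ a : T, (∀ i : ι, algebraMap T (FractionRing (T ⧸ i.1)) a = 0) → a = 0 := by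
    intro a ha
    have h1 : ∀ i : ι, a ∈ i.1 := by
      intro i
      have h2 := ha i
      rw [IsScalarTower.algebraMap_apply T (T ⧸ i.1) (FractionRing (T ⧸ i.1))] at h2
      have := (IsFractionRing.injective (T ⧸ i.1) (FractionRing (T ⧸ i.1)))
        (h2.trans (map_zero _).symm)
      exact Ideal.Quotient.eq_zero_iff_mem.mp this
    have h3 : a ∈ sInf (minimalPrimes T) := by
      rw [Ideal.mem_sInf]
      intro p hp
      exact h1 ⟨p, hp⟩
    have h4 : sInf (minimalPrimes T) = ⊥ := by
      rw [minimalPrimes, Ideal.sInf_minimalPrimes]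
      exact nilradical_eq_zero T
    rw [h4] at h3
    exact h3
  -- (ii) clearing denominators
  have hden : ∀ z : T ⊗[R] integralClosure R (FractionRing R),
      ∃ s : R, s ≠ 0 ∧ ∃ a : T, s • z = a ⊗ₜ[R] (1 : integralClosure R (FractionRing R)) := by
    intro z
    induction z using TensorProduct.induction_on with
    | zero => exact ⟨1, one_ne_zero, 0, by simp⟩
    | tmul t x =>
      obtain ⟨r, s, hs, hrs⟩ := IsFractionRing.div_surjective (A := R) (x : FractionRing R)
      have hs0 : s ≠ 0 := nonZeroDivisors.ne_zero hs
      refine ⟨s, hs0, r • t, ?_⟩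
      have hx : s • x = r • (1 : integralClosure R (FractionRing R)) := by
        apply Subtype.ext
        show s • (x : FractionRing R) = r • (1 : FractionRing R)
        rw [Algebra.smul_def, Algebra.smul_def, mul_one, ← hrs]
        have : algebraMap R (FractionRing R) s ≠ 0 := by
          intro h0
          exact hs0 ((IsFractionRing.injective R (FractionRing R)) (h0.trans (map_zero _).symm))
        field_simp
      rw [TensorProduct.smul_tmul', TensorProduct.smul_tmul, hx, ← TensorProduct.smul_tmul]
    | add a b ha hb =>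
      obtain ⟨s₁, hs₁, a₁, h₁⟩ := ha
      obtain ⟨s₂, hs₂, a₂, h₂⟩ := hb
      refine ⟨s₁ * s₂, mul_ne_zero hs₁ hs₂, s₂ • a₁ + s₁ • a₂, ?_⟩
      have e1 : (s₁ * s₂) • a = s₂ • (s₁ • a) := by rw [mul_comm, mul_smul]
      have e2 : (s₁ * s₂) • b = s₁ • (s₂ • b) := by rw [mul_smul]
      rw [smul_add, e1, e2, h₁, h₂, TensorProduct.add_tmul, TensorProduct.smul_tmul',
        TensorProduct.smul_tmul']
  -- (iii) regularity
  have hreg : ∀ (s : R), s ≠ 0 → ∀ z : T ⊗[R] integralClosure R (FractionRing R),
      s • z = 0 → z = 0 := by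
    intro s hs z hz
    have h1 : IsSMulRegular (integralClosure R (FractionRing R)) s := by
      intro x y hxy
      have h2 := congrArg Subtype.val hxy
      apply Subtype.ext
      have h3 : algebraMap R (FractionRing R) s * (x : FractionRing R) =
          algebraMap R (FractionRing R) s * (y : FractionRing R) := by
        rw [← Algebra.smul_def, ← Algebra.smul_def]; exact h2
      have : algebraMap R (FractionRing R) s ≠ 0 := by
        intro h0
        exact hs ((IsFractionRing.injective R (FractionRing R)) (h0.trans (map_zero _).symm))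
      exact mul_left_cancel₀ this h3
    have h2 : IsSMulRegular (T ⊗[R] integralClosure R (FractionRing R)) (algebraMap R T s) :=
      IsSMulRegular.of_flat_of_isBaseChange
        (TensorProduct.isBaseChange R (integralClosure R (FractionRing R)) T) h1
    apply h2
    show algebraMap R T s • z = algebraMap R T s • 0
    rw [smul_zero, algebraMap_smul]
    exact hz
  -- injectivity
  have hΨinj : Function.Injective Ψ := by
    rw [injective_iff_map_eq_zero]
    intro z hz
    obtain ⟨s, hs, a, hsa⟩ := hden z
    have h1 : Ψ (a ⊗ₜ[R] (1 : integralClosure R (FractionRing R))) = 0 := by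
      rw [← hsa, ← algebraMap_smul T s z, map_smul, hz, smul_zero]
    have h2 : a = 0 := by
      apply hTinj
      intro i
      have h3 := congrFun h1 i
      rw [LinearMap.liftBaseChange_tmul] at h3
      have h4 : (a • ψ 1) i = a • (ψ 1 i) := rfl
      rw [h4, hψ] at h3
      simp only [OneMemClass.coe_one, map_one] at h3
      rw [Algebra.smul_def, mul_one] at h3
      exact h3
    apply hreg s hs
    rw [hsa, h2, TensorProduct.zero_tmul]
  -- conclusion
  let Ψ' : T ⊗[R] integralClosure R (FractionRing R) →ₗ[T] C := Ψ.codRestrict C hΨC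
  have hΨ'inj : Function.Injective Ψ' := fun a b hab => hΨinj (congrArg Subtype.val hab)
  haveI : Module.Finite T (T ⊗[R] integralClosure R (FractionRing R)) :=
    Module.Finite.of_injective Ψ' hΨ'inj
  exact Module.Finite.of_finite_tensorProduct_of_faithfullyFlat T

end Groth.Agent.Lib.Helper24.AnUnram
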