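import Mathlib
import Groth.Agent.Lib.Helper24.AnUnram
import Groth.Agent.Lib.Helper13.PIns2

set_option autoImplicit false
universe u

namespace Groth.Agent.Lib.Helper24.AnUnram

open TensorProduct

/-- A finite subalgebra with full fraction field. -/
theorem exists_finite_subalgebra (A : Type u) [CommRing A] [IsDomain A]
    (K : Type u) [Field K] [Algebra A K] [IsFractionRing A K]
    (L : Type u) [Field L] [Algebra A L] [Algebra K L] [IsScalarTower A K L]
    [FiniteDimensional K L] :
    ∃ B : Subalgebra A L, Module.Finite A B ∧ IsFractionRing B L := by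
  classical
  obtain ⟨s, b, hb⟩ := FiniteDimensional.exists_is_basis_integral A K L
  let B : Subalgebra A L := Algebra.adjoin A (Set.range b)
  have hBfg : (Subalgebra.toSubmodule B).FG :=
    fg_adjoin_of_finite (Set.finite_range b) (by rintro _ ⟨i, rfl⟩; exact hb i)
  have hBfin : Module.Finite A B := Module.Finite.iff_fg.mpr hBfg
  refine ⟨B, hBfin, ?_⟩
  haveI : FaithfulSMul B L :=
    (faithfulSMul_iff_algebraMap_injective B L).mpr Subtype.val_injective
  refine IsFractionRing.of_field B L (fun z => ?_)
  obtain ⟨d, hd⟩ := IsLocalization.exist_integer_multiples (nonZeroDivisors A) Finset.univ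
    (fun i : s => b.repr z i)
  have hd0 : (d : A) ≠ 0 := nonZeroDivisors.ne_zero d.2
  have hdL : algebraMap A L (d : A) ≠ 0 := by
    intro h0
    apply hd0
    have hinj : Function.Injective (algebraMap A L) := by
      rw [IsScalarTower.algebraMap_eq A K L]
      exact (algebraMap K L).injective.comp (IsFractionRing.injective A K)
    exact hinj (h0.trans (map_zero _).symm)
  choose a ha using fun i : s => hd i (Finset.mem_univ i)
  have hz : (d : A) • z = ∑ i, a i • b i := by
    conv_lhs => rw [← b.sum_repr z]
    rw [Finset.smul_sum]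
    refine Finset.sum_congr rfl (fun i _ => ?_)
    rw [← smul_assoc, ← ha i, algebraMap_smul]
  have hmem : (d : A) • z ∈ B := by
    rw [hz]
    refine Subalgebra.sum_mem _ (fun i _ => Subalgebra.smul_mem _ ?_ _)
    exact Algebra.subset_adjoin (Set.mem_range_self i)
  refine ⟨⟨(d : A) • z, hmem⟩, algebraMap A B (d : A), ?_⟩
  show z = ((d : A) • z) / algebraMap A L (d : A)
  rw [Algebra.smul_def, mul_div_assoc, mul_comm, div_mul_cancel₀ _ hdL]

/-- N-1 in terms of an arbitrary fraction field. -/
theorem finite_integralClosure_of_isFractionRing (B : Type u) [CommRing B] [IsDomain B]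
    (L : Type u) [Field L] [Algebra B L] [IsFractionRing B L]
    (h : Module.Finite B (integralClosure B (FractionRing B))) :
    Module.Finite B (integralClosure B L) := by
  let e : FractionRing B ≃ₐ[B] L := FractionRing.algEquiv B L
  let f : integralClosure B (FractionRing B) →ₗ[B] integralClosure B L :=
    { toFun := fun x => ⟨e x, x.2.map e⟩
      map_add' := fun x y => Subtype.ext (map_add e _ _)
      map_smul' := fun a x => Subtype.ext (map_smul e a x.1) }
  refine Module.Finite.of_surjective f (fun y => ?_)
  exact ⟨⟨e.symm y, y.2.map e.symm⟩, Subtype.ext (e.apply_symm_apply _)⟩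

/-- Quotients of a finite algebra over a "Nagata" ring are N-1. -/
theorem finite_integralClosure_quotient_of_finite (Â T : Type u) [CommRing Â] [CommRing T]
    [Algebra Â T] [Module.Finite Â T]
    (hnag : ∀ (q : Ideal Â) [q.IsPrime], CAlg.IsN2 (Â ⧸ q)) (p : Ideal T) [p.IsPrime] :
    Module.Finite (T ⧸ p) (integralClosure (T ⧸ p) (FractionRing (T ⧸ p))) := by
  haveI : (p.comap (algebraMap Â T)).IsPrime := Ideal.comap_isPrime _ p
  haveI : Module.Finite Â (T ⧸ p) := inferInstance
  haveI : Module.Finite (Â ⧸ p.comap (algebraMap Â T)) (T ⧸ p) :=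
    Module.Finite.of_restrictScalars_finite Â _ _
  haveI : FaithfulSMul (Â ⧸ p.comap (algebraMap Â T)) (T ⧸ p) :=
    (faithfulSMul_iff_algebraMap_injective _ _).mpr Ideal.algebraMap_quotient_injective
  exact Groth.Agent.Lib.helper13.PIns.finite_integralClosure_of_finite_injective
    (hnag (p.comap (algebraMap Â T))) (FractionRing (T ⧸ p)) (FractionRing (T ⧸ p))

/-- Finiteness of the integral closure in a finite extension `L`, from reducedness of
`L ⊗ Q` where `Q` contains a faithfully flat "Nagata" extension `Â` of `A`. -/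
theorem finite_integralClosure_of_reduced_tensor
    (A : Type u) [CommRing A] [IsDomain A] [IsNoetherianRing A]
    (Â : Type u) [CommRing Â] [Algebra A Â] [Module.FaithfullyFlat A Â] [IsNoetherianRing Â]
    (hnag : ∀ (q : Ideal Â) [q.IsPrime], CAlg.IsN2 (Â ⧸ q))
    (Q : Type u) [CommRing Q] [Algebra Â Q] [Algebra A Q] [IsScalarTower A Â Q]
    (hQinj : Function.Injective (algebraMap Â Q))
    (K : Type u) [Field K] [Algebra A K] [IsFractionRing A K] [Algebra K Q] [IsScalarTower A K Q]
    (L : Type u) [Field L] [Algebra A L] [Algebra K L] [IsScalarTower A K L]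
    [FiniteDimensional K L] [hred : IsReduced (L ⊗[K] Q)] :
    Module.Finite A (integralClosure A L) := by
  classical
  obtain ⟨B, hBfin, hBfrac⟩ := exists_finite_subalgebra A K L
  -- reducedness of `T = B ⊗ Â`
  haveI : Module.Flat A K := IsLocalization.flat K (nonZeroDivisors A)
  haveI : Module.Flat A L := Module.Flat.trans A K L
  haveI : IsReduced (L ⊗[A] Q) :=
    isReduced_of_injective (IsLocalization.algebraTensorEquiv (nonZeroDivisors A) K L Q).symm
      (IsLocalization.algebraTensorEquiv (nonZeroDivisors A) K L Q).symm.injective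
  let g : B ⊗[A] Â →ₐ[A] L ⊗[A] Q :=
    Algebra.TensorProduct.map B.val (IsScalarTower.toAlgHom A Â Q)
  have hg : Function.Injective g :=
    TensorProduct.map_injective_of_flat_flat B.val.toLinearMap
      (IsScalarTower.toAlgHom A Â Q).toLinearMap Subtype.val_injective hQinj
  haveI hTred : IsReduced (B ⊗[A] Â) := isReduced_of_injective g hg
  -- `Â → T` is finite
  let j : Â →+* B ⊗[A] Â := (Algebra.TensorProduct.includeRight : Â →ₐ[A] B ⊗[A] Â).toRingHom
  have hj : j.Finite := by
    have h1 : (algebraMap Â (Â ⊗[A] B)).Finite := RingHom.finite_algebraMap.mpr inferInstance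
    have h2 : ((Algebra.TensorProduct.comm A Â B : Â ⊗[A] B ≃ₐ[A] B ⊗[A] Â) :
        Â ⊗[A] B →+* B ⊗[A] Â).Finite :=
      RingHom.Finite.of_surjective _ (Algebra.TensorProduct.comm A Â B).surjective
    have h3 : j = ((Algebra.TensorProduct.comm A Â B : Â ⊗[A] B ≃ₐ[A] B ⊗[A] Â) :
        Â ⊗[A] B →+* B ⊗[A] Â).comp (algebraMap Â (Â ⊗[A] B)) := by
      ext a
      simp [j]
    rw [h3]
    exact h2.comp h1
  haveI : IsNoetherianRing (B ⊗[A] Â) := by
    letI := j.toAlgebra
    haveI : Module.Finite Â (B ⊗[A] Â) := hj
    exact IsNoetherianRing.of_finite Â (B ⊗[A] Â)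
  -- quotients by primes of `T` are N-1
  have hN1 : ∀ (p : Ideal (B ⊗[A] Â)) [p.IsPrime], p ∈ minimalPrimes (B ⊗[A] Â) →
      Module.Finite ((B ⊗[A] Â) ⧸ p)
        (integralClosure ((B ⊗[A] Â) ⧸ p) (FractionRing ((B ⊗[A] Â) ⧸ p))) := by
    intro p _ _
    letI algT : Algebra Â (B ⊗[A] Â) := j.toAlgebra
    haveI : Module.Finite Â (B ⊗[A] Â) := hj
    exact finite_integralClosure_quotient_of_finite Â (B ⊗[A] Â) hnag p
  have h1 : Module.Finite B (integralClosure B (FractionRing B)) :=
    finite_integralClosure_of_faithfullyFlat_reduced B (B ⊗[A] Â) hN1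
  have h2 : Module.Finite B (integralClosure B L) :=
    finite_integralClosure_of_isFractionRing B L h1
  haveI : Module.Finite A (integralClosure B L) := Module.Finite.trans B _
  haveI : IsNoetherian A (integralClosure B L) := isNoetherian_of_isNoetherianRing_of_finite A _
  let f : integralClosure A L →ₗ[A] integralClosure B L :=
    { toFun := fun x => ⟨x.1, x.2.tower_top⟩
      map_add' := fun x y => rfl
      map_smul' := fun a x => rfl }
  exact Module.Finite.of_injective f
    (fun x y hxy => Subtype.ext (congrArg (fun z : integralClosure B L => (z : L)) hxy))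

end Groth.Agent.Lib.Helper24.AnUnram
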