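import Mathlib

/-!
# Local-global principle for N-1 (Stacks 0333, elementary version; helper24)

`R` a Noetherian domain with fraction field `K`, `f ≠ 0` in `R` such that every element of `K`
integral over `R` has a power of `f` as denominator (for instance `R_f` integrally closed).

* `Mn K f n`: the `R`-module of integral `z ∈ K` with `f^n z ∈ R`;
* `finite_integralClosure_of_local_bounds`: if for every maximal `m` there is `n` such that every
  integral `z` has `s ∉ m` with `s z ∈ Mn n`, then the integral closure is finite;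
* `exists_local_bound`: such a bound exists as soon as the integral closure of a localization is
  finite.
-/

set_option autoImplicit false
universe u

namespace Groth.Agent.Lib.Helper24.LocGlobN1

section defs

variable {R : Type u} [CommRing R] (K : Type u) [Field K] [Algebra R K] (f : R)

/-- integral elements `z` with `f^n z ∈ R`. -/
def Mn (n : ℕ) : Submodule R K where
  carrier := {z | IsIntegral R z ∧ ∃ b : R, algebraMap R K (f ^ n) * z = algebraMap R K b}
  add_mem' := by
    rintro x y ⟨hx, b, hb⟩ ⟨hy, c, hc⟩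
    exact ⟨hx.add hy, b + c, by rw [mul_add, hb, hc, map_add]⟩
  zero_mem' := ⟨isIntegral_zero, 0, by simp⟩
  smul_mem' := by
    rintro c x ⟨hx, b, hb⟩
    refine ⟨?_, c * b, ?_⟩
    · rw [Algebra.smul_def]
      exact isIntegral_algebraMap.mul hx
    · rw [Algebra.smul_def, mul_left_comm, hb, map_mul]

variable {K f}

theorem mem_Mn {n : ℕ} {z : K} :
    z ∈ Mn K f n ↔ IsIntegral R z ∧ ∃ b : R, algebraMap R K (f ^ n) * z = algebraMap R K b :=
  Iff.rfl

theorem Mn_mono {n n' : ℕ} (h : n ≤ n') : Mn K f n ≤ Mn K f n' := by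
  rintro z ⟨hz, b, hb⟩
  obtain ⟨k, rfl⟩ := Nat.exists_eq_add_of_le h
  refine ⟨hz, f ^ k * b, ?_⟩
  rw [pow_add, map_mul, map_mul, ← hb]
  ring

variable (K f)

/-- the ideal of `s` with `s • Mn (n+1) ⊆ Mn n`. -/
def In (n : ℕ) : Ideal R where
  carrier := {s | ∀ z ∈ Mn K f (n + 1), s • z ∈ Mn K f n}
  add_mem' := by
    intro a b ha hb z hz
    rw [add_smul]
    exact Submodule.add_mem _ (ha z hz) (hb z hz)
  zero_mem' := by
    intro z _
    rw [zero_smul]
    exact Submodule.zero_mem _
  smul_mem' := by
    intro c a ha z hz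
    rw [smul_eq_mul, mul_smul]
    exact Submodule.smul_mem _ c (ha z hz)

theorem In_le_succ (n : ℕ) : In K f n ≤ In K f (n + 1) := by
  intro s hs z hz
  obtain ⟨hzint, b, hb⟩ := hz
  have h1 : f • z ∈ Mn K f (n + 1) := by
    refine ⟨?_, b, ?_⟩
    · rw [Algebra.smul_def]
      exact isIntegral_algebraMap.mul hzint
    · rw [Algebra.smul_def, ← hb, pow_succ (f) (n + 1), map_mul]
      ring
  obtain ⟨-, c, hc⟩ := hs _ h1
  refine ⟨?_, c, ?_⟩
  · rw [Algebra.smul_def]
    exact isIntegral_algebraMap.mul hzint
  · rw [← hc, Algebra.smul_def, Algebra.smul_def, Algebra.smul_def, pow_succ, map_mul]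
    ring

theorem In_mono : Monotone (In K f) := monotone_nat_of_le_succ (In_le_succ K f)

end defs

section main

variable {R : Type u} [CommRing R] [IsDomain R] [IsNoetherianRing R]
  (K : Type u) [Field K] [Algebra R K] [IsFractionRing R K] (f : R)

theorem Mn_fg (hf : f ≠ 0) (n : ℕ) : (Mn K f n).FG := by
  have hfK : algebraMap R K (f ^ n) ≠ 0 := by
    rw [Ne, map_eq_zero_iff _ (IsFractionRing.injective R K)]
    exact pow_ne_zero n hf
  let g : K →ₗ[R] K := LinearMap.lsmul R K (f ^ n)
  have hg : Function.Injective g := by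
    intro x y hxy
    have : (f ^ n) • x = (f ^ n) • y := hxy
    rw [Algebra.smul_def, Algebra.smul_def] at this
    exact mul_left_cancel₀ hfK this
  apply Submodule.fg_of_fg_map_injective g hg
  have hle : (Mn K f n).map g ≤ LinearMap.range (Algebra.linearMap R K) := by
    rintro _ ⟨z, ⟨-, b, hb⟩, rfl⟩
    refine ⟨b, ?_⟩
    rw [Algebra.linearMap_apply, ← hb]
    change _ = (f ^ n) • z
    rw [Algebra.smul_def]
  haveI : IsNoetherian R (LinearMap.range (Algebra.linearMap R K)) :=
    isNoetherian_of_surjective (Algebra.linearMap R K).rangeRestrict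
      (LinearMap.range_rangeRestrict _)
  exact isNoetherian_submodule.mp inferInstance _ hle

theorem finite_integralClosure_of_local_bounds (hf : f ≠ 0)
    (hpow : ∀ z : K, IsIntegral R z → ∃ n, z ∈ Mn K f n)
    (hloc : ∀ (m : Ideal R) [m.IsMaximal], ∃ n : ℕ, ∀ z : K, IsIntegral R z →
      ∃ s : R, s ∉ m ∧ s • z ∈ Mn K f n) :
    Module.Finite R (integralClosure R K) := by
  classical
  obtain ⟨N, hN⟩ := monotone_stabilizes_iff_noetherian.mpr
    (inferInstance : IsNoetherian R R) ⟨In K f, In_mono K f⟩
  have hN' : ∀ n, N ≤ n → In K f n = In K f N := fun n hn => (hN n hn).symm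
  have htop : In K f N = ⊤ := by
    by_contra hne
    obtain ⟨m, hm, hle⟩ := Ideal.exists_le_maximal _ hne
    obtain ⟨n₀, hn₀⟩ := hloc m
    obtain ⟨S, hS⟩ := Mn_fg K f hf (max n₀ N + 1)
    have hch : ∀ z ∈ S, ∃ s : R, s ∉ m ∧ s • z ∈ Mn K f (max n₀ N) := by
      intro z hz
      have hzM : z ∈ Mn K f (max n₀ N + 1) := hS ▸ Submodule.subset_span hz
      obtain ⟨s, hs, hsz⟩ := hn₀ z hzM.1
      exact ⟨s, hs, Mn_mono (le_max_left _ _) hsz⟩
    choose! σ hσ1 hσ2 using hch
    have hprod : (∏ z ∈ S, σ z) ∉ m := by
      intro hmem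
      obtain ⟨z, hz, hzm⟩ := (hm.isPrime.prod_mem_iff).mp hmem
      exact hσ1 z hz hzm
    have hI : (∏ z ∈ S, σ z) ∈ In K f (max n₀ N) := by
      intro z hz
      rw [← hS] at hz
      induction hz using Submodule.span_induction with
      | mem z hz =>
        rw [← Finset.mul_prod_erase S σ hz, mul_comm, mul_smul]
        exact Submodule.smul_mem _ _ (hσ2 z hz)
      | zero => rw [smul_zero]; exact Submodule.zero_mem _
      | add x y _ _ hx hy => rw [smul_add]; exact Submodule.add_mem _ hx hy
      | smul a x _ hx => rw [smul_comm]; exact Submodule.smul_mem _ _ hx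
    rw [hN' _ (le_max_right _ _)] at hI
    exact hprod (hle hI)
  have hstab : ∀ n, N ≤ n → Mn K f n ≤ Mn K f N := by
    intro n hn
    induction n, hn using Nat.le_induction with
    | base => exact le_rfl
    | succ n hn ih =>
      have h1 : (1 : R) ∈ In K f n := by
        rw [hN' n hn, htop]
        exact Submodule.mem_top
      intro z hz
      have := h1 z hz
      rw [one_smul] at this
      exact ih this
  have heq : Subalgebra.toSubmodule (integralClosure R K) = Mn K f N := by
    apply le_antisymm
    · intro z hz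
      obtain ⟨n, hn⟩ := hpow z hz
      rcases le_total n N with h | h
      · exact Mn_mono h hn
      · exact hstab n h hn
    · intro z hz
      exact hz.1
  have hfg : (Subalgebra.toSubmodule (integralClosure R K)).FG := by
    rw [heq]
    exact Mn_fg K f hf N
  exact Module.Finite.iff_fg.mpr hfg

end main

section localBound

variable {R : Type u} [CommRing R] [IsDomain R]
  (K : Type u) [Field K] [Algebra R K] (f : R)

/-- A uniform local bound from finiteness of the integral closure of a localization. -/
theorem exists_local_bound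
    (hpow : ∀ z : K, IsIntegral R z → ∃ n, z ∈ Mn K f n)
    {B : Type u} [CommRing B] [Algebra B R] [Algebra.IsIntegral B R] [Algebra B K]
    [IsScalarTower B R K]
    (M : Submonoid B) (D : Type u) [CommRing D] [Algebra B D] [IsLocalization M D] [Algebra D K]
    [IsScalarTower B D K]
    (hfin : Module.Finite D (integralClosure D K)) :
    ∃ n : ℕ, ∀ z : K, IsIntegral R z → ∃ s ∈ M, (algebraMap B R s) • z ∈ Mn K f n := by
  classical
  obtain ⟨S, hS⟩ := hfin.fg_top
  have hgen : ∀ d ∈ S, ∃ (s : B) (n : ℕ), s ∈ M ∧
      (algebraMap B R s) • ((d : integralClosure D K) : K) ∈ Mn K f n := by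
    intro d _
    obtain ⟨m, hm⟩ := IsIntegral.exists_multiple_integral_of_isLocalization M (d : K) d.2
    have h1 : IsIntegral R ((algebraMap B R (m : B)) • (d : K)) := by
      have : (algebraMap B R (m : B)) • (d : K) = m • (d : K) := by
        rw [Submonoid.smul_def, algebraMap_smul]
      rw [this]
      exact hm.tower_top
    obtain ⟨n, hn⟩ := hpow _ h1
    exact ⟨m, n, m.2, hn⟩
  choose! σ ν hσ hν using hgen
  refine ⟨S.sup ν, fun z hz => ?_⟩
  have hzB : IsIntegral B z := isIntegral_trans (R := B) (A := R) z hz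
  have hzD : IsIntegral D z := hzB.tower_top
  have hmem : (⟨z, hzD⟩ : integralClosure D K) ∈ Submodule.span D (S : Set (integralClosure D K)) := by
    rw [hS]; trivial
  suffices h : ∀ x ∈ Submodule.span D (S : Set (integralClosure D K)),
      ∃ s ∈ M, (algebraMap B R s) • ((x : integralClosure D K) : K) ∈ Mn K f (S.sup ν) from
    h _ hmem
  intro x hx
  induction hx using Submodule.span_induction with
  | mem d hd =>
    exact ⟨σ d, hσ d hd, Mn_mono (Finset.le_sup hd) (hν d hd)⟩
  | zero =>
    refine ⟨1, M.one_mem, ?_⟩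
    rw [ZeroMemClass.coe_zero, smul_zero]
    exact Submodule.zero_mem _
  | add x y _ _ hx hy =>
    obtain ⟨s, hs, hsx⟩ := hx
    obtain ⟨t, ht, hty⟩ := hy
    refine ⟨s * t, M.mul_mem hs ht, ?_⟩
    have : (algebraMap B R (s * t)) • (((x + y : integralClosure D K)) : K) =
        (algebraMap B R t) • ((algebraMap B R s) • (x : K)) +
          (algebraMap B R s) • ((algebraMap B R t) • (y : K)) := by
      rw [map_mul, AddMemClass.coe_add, smul_add, mul_smul, mul_smul,
        smul_comm (algebraMap B R s) (algebraMap B R t) (x : K)]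
    rw [this]
    exact Submodule.add_mem _ (Submodule.smul_mem _ _ hsx) (Submodule.smul_mem _ _ hty)
  | smul a x _ hx =>
    obtain ⟨s, hs, hsx⟩ := hx
    obtain ⟨⟨b, t⟩, hbt⟩ := IsLocalization.surj M a
    refine ⟨t * s, M.mul_mem t.2 hs, ?_⟩
    have : (algebraMap B R ((t : B) * s)) • (((a • x : integralClosure D K)) : K) =
        (algebraMap B R b) • ((algebraMap B R s) • (x : K)) := by
      have h1 : ((a • x : integralClosure D K) : K) = algebraMap D K a * (x : K) := by
        rw [Algebra.smul_def]; rfl
      rw [h1, algebraMap_smul, algebraMap_smul, algebraMap_smul, Algebra.smul_def,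
        Algebra.smul_def, Algebra.smul_def, map_mul,
        IsScalarTower.algebraMap_apply B D K (t : B), IsScalarTower.algebraMap_apply B D K b,
        ← hbt, map_mul]
      ring
    rw [this]
    exact Submodule.smul_mem _ _ hsx

end localBound

end Groth.Agent.Lib.Helper24.LocGlobN1
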