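import Mathlib

/-!
# Openness of the normal locus of a Noetherian domain with a normal basic open (helper24)

`R` a Noetherian domain, `K` its fraction field.

* `isIntegrallyClosed_iff_denominators`: a localization `S = M⁻¹R` is integrally closed iff every
  `z ∈ K` integral over `R` has a denominator in `M`;
* `denom z`: the denominator ideal of `z ∈ K`;
* `associatedPrimes_quotient_pow_subset`: `Ass (R/fⁿ) ⊆ Ass (R/f)`;
* `isOpen_integrallyClosed_locus`: if `R_f` is integrally closed (`f ≠ 0`), the set of primes `p`
  with `R_p` integrally closed is open.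
-/

set_option autoImplicit false
universe u

namespace Groth.Agent.Lib.Helper24.NorOpen

section denominators

variable {R : Type u} [CommRing R] [IsDomain R] (M : Submonoid R) (S : Type u) [CommRing S]
  [Algebra R S] [IsLocalization M S] (K : Type u) [Field K] [Algebra R K] [IsFractionRing R K]
  [Algebra S K] [IsScalarTower R S K]

include M in
theorem isIntegrallyClosed_iff_denominators :
    IsIntegrallyClosed S ↔ ∀ z : K, IsIntegral R z →
      ∃ u ∈ M, ∃ b : R, algebraMap R K u * z = algebraMap R K b := by
  haveI : IsFractionRing S K :=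
    IsFractionRing.isFractionRing_of_isDomain_of_isLocalization M S K
  constructor
  · intro h z hz
    have hz' : IsIntegral S z := hz.tower_top
    obtain ⟨y, rfl⟩ := IsIntegrallyClosed.algebraMap_eq_of_integral hz'
    obtain ⟨⟨b, u⟩, hbu⟩ := IsLocalization.surj M y
    refine ⟨u, u.2, b, ?_⟩
    have := congrArg (algebraMap S K) hbu
    rw [map_mul, ← IsScalarTower.algebraMap_apply, ← IsScalarTower.algebraMap_apply] at this
    rw [mul_comm]
    exact this
  · intro h
    rw [isIntegrallyClosed_iff K]
    intro x hx
    obtain ⟨m, hm⟩ := IsIntegral.exists_multiple_integral_of_isLocalization M x hx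
    obtain ⟨u, hu, b, hb⟩ := h _ hm
    refine ⟨IsLocalization.mk' S b (⟨u, hu⟩ * m), ?_⟩
    have hunit : IsUnit (algebraMap S K (algebraMap R S ((⟨u, hu⟩ * m : M) : R))) :=
      (IsLocalization.map_units S (⟨u, hu⟩ * m)).map _
    apply hunit.mul_left_cancel
    rw [← map_mul, IsLocalization.mk'_spec', ← IsScalarTower.algebraMap_apply,
      ← IsScalarTower.algebraMap_apply, ← hb, Submonoid.smul_def, Algebra.smul_def,
      Submonoid.coe_mul, map_mul]
    ring

end denominators

section denom

variable (R : Type u) [CommRing R] [IsDomain R] (K : Type u) [Field K] [Algebra R K]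
  [IsFractionRing R K]

/-- The denominator ideal of `z ∈ K`. -/
def denom (z : K) : Ideal R where
  carrier := {r | ∃ b : R, algebraMap R K r * z = algebraMap R K b}
  add_mem' := by
    rintro a b ⟨c, hc⟩ ⟨d, hd⟩
    exact ⟨c + d, by rw [map_add, add_mul, hc, hd, map_add]⟩
  zero_mem' := ⟨0, by simp⟩
  smul_mem' := by
    rintro c a ⟨b, hb⟩
    exact ⟨c * b, by rw [smul_eq_mul, map_mul, mul_assoc, hb, map_mul]⟩

omit [IsDomain R] [IsFractionRing R K] in
theorem mem_denom {z : K} {r : R} :
    r ∈ denom R K z ↔ ∃ b : R, algebraMap R K r * z = algebraMap R K b := Iff.rfl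

omit [IsDomain R] [IsFractionRing R K] in
/-- `(denom z : r) = denom (r z)`. -/
theorem mem_denom_mul {z : K} {r s : R} :
    s ∈ denom R K (algebraMap R K r * z) ↔ s * r ∈ denom R K z := by
  rw [mem_denom R K, mem_denom R K, map_mul, mul_assoc]

variable [IsNoetherianRing R]

omit [IsDomain R] in
/-- If `f ∈ denom w` and `denom w` is a proper ideal, then `denom w` is the annihilator of an element
of `R ⧸ (f)`; in particular if it is prime it is an associated prime of `R ⧸ (f)`. -/
theorem denom_mem_associatedPrimes (f : R) (hf : f ≠ 0) (w : K) (hprime : (denom R K w).IsPrime)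
    (hfw : f ∈ denom R K w) : denom R K w ∈ associatedPrimes R (R ⧸ Ideal.span {f}) := by
  obtain ⟨a, ha⟩ := hfw
  rw [AssociatedPrimes.mem_iff, isAssociatedPrime_iff]
  refine ⟨hprime, Ideal.Quotient.mk _ a, ?_⟩
  have hfK : algebraMap R K f ≠ 0 := by
    rw [Ne, map_eq_zero_iff _ (IsFractionRing.injective R K)]
    exact hf
  ext s
  rw [Submodule.mem_colon_singleton, Submodule.mem_bot, Algebra.smul_def,
    Ideal.Quotient.algebraMap_eq, ← map_mul, Ideal.Quotient.eq_zero_iff_mem,
    Ideal.mem_span_singleton', mem_denom R K]
  constructor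
  · rintro ⟨b, hb⟩
    refine ⟨b, ?_⟩
    apply IsFractionRing.injective R K
    rw [map_mul, map_mul, ← hb, ← ha]
    ring
  · rintro ⟨b, hb⟩
    refine ⟨b, ?_⟩
    apply mul_left_cancel₀ hfK
    have := congrArg (algebraMap R K) hb
    rw [map_mul, map_mul, ← ha] at this
    rw [mul_comm _ (algebraMap R K b), this]
    ring

end denom

section main

variable (R : Type u) [CommRing R] [IsDomain R] [IsNoetherianRing R]

/-- **Openness of the normal locus** of a Noetherian domain with a nonempty normal basic open. -/
theorem isOpen_integrallyClosed_locus (f : R) (hf : f ≠ 0)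
    (hn : IsIntegrallyClosed (Localization.Away f)) :
    IsOpen {p : PrimeSpectrum R | IsIntegrallyClosed (Localization.AtPrime p.asIdeal)} := by
  -- `R_f` integrally closed: every integral element has a power of `f` as denominator
  have hpow : ∀ z : FractionRing R, IsIntegral R z → ∃ n : ℕ, f ^ n ∈ denom R (FractionRing R) z := by
    have hle : Submonoid.powers f ≤ nonZeroDivisors R :=
      Submonoid.powers_le.mpr (mem_nonZeroDivisors_of_ne_zero hf)
    letI : Algebra (Localization.Away f) (FractionRing R) :=
      IsLocalization.localizationAlgebraOfSubmonoidLe (Localization.Away f) (FractionRing R)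
        (Submonoid.powers f) (nonZeroDivisors R) hle
    haveI : IsScalarTower R (Localization.Away f) (FractionRing R) :=
      IsLocalization.localization_isScalarTower_of_submonoid_le (Localization.Away f)
        (FractionRing R) (Submonoid.powers f) (nonZeroDivisors R) hle
    intro z hz
    obtain ⟨u, ⟨n, rfl⟩, b, hb⟩ :=
      (isIntegrallyClosed_iff_denominators (Submonoid.powers f) (Localization.Away f)
        (FractionRing R)).mp hn z hz
    exact ⟨n, b, hb⟩
  -- characterization of the locus
  have hchar : ∀ p : PrimeSpectrum R, IsIntegrallyClosed (Localization.AtPrime p.asIdeal) ↔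
      ∀ z : FractionRing R, IsIntegral R z → ¬ (denom R (FractionRing R) z ≤ p.asIdeal) := by
    intro p
    rw [isIntegrallyClosed_iff_denominators p.asIdeal.primeCompl (Localization.AtPrime p.asIdeal)
      (FractionRing R)]
    refine forall₂_congr fun z hz => ?_
    constructor
    · rintro ⟨u, hu, b, hb⟩ hle
      exact hu (hle ⟨b, hb⟩)
    · intro hnle
      obtain ⟨u, hu, hup⟩ := Set.not_subset.mp hnle
      obtain ⟨b, hb⟩ := hu
      exact ⟨u, hup, b, hb⟩
  -- the finite set of bad primes
  set T : Set (Ideal R) := {q | q ∈ associatedPrimes R (R ⧸ Ideal.span {f}) ∧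
    ∃ w : FractionRing R, IsIntegral R w ∧ denom R (FractionRing R) w = q} with hT
  have hTfin : T.Finite :=
    (associatedPrimes.finite R (R ⧸ Ideal.span {f})).subset (fun q hq => hq.1)
  have hset : {p : PrimeSpectrum R | IsIntegrallyClosed (Localization.AtPrime p.asIdeal)}ᶜ =
      ⋃ q ∈ T, PrimeSpectrum.zeroLocus (q : Set R) := by
    ext p
    rw [Set.mem_compl_iff, Set.mem_ofPred_eq, hchar, Set.mem_iUnion₂]
    push Not
    constructor
    · rintro ⟨z, hz, hle⟩
      obtain ⟨q, hqmin, hqp⟩ := Ideal.exists_minimalPrimes_le hle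
      have hqass : q ∈ associatedPrimes R (R ⧸ denom R (FractionRing R) z) := by
        apply Module.associatedPrimes.minimalPrimes_annihilator_subset_associatedPrimes
        rw [Ideal.annihilator_quotient]
        exact hqmin
      obtain ⟨hqprime, x, hqx⟩ := (isAssociatedPrime_iff (I := q)).mp hqass
      obtain ⟨r, rfl⟩ := Ideal.Quotient.mk_surjective x
      -- `q = denom (r z)`
      have hq_eq : denom R (FractionRing R) (algebraMap R (FractionRing R) r * z) = q := by
        ext s
        rw [mem_denom_mul R (FractionRing R), hqx, Submodule.mem_colon_singleton, Submodule.mem_bot, Algebra.smul_def,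
          Ideal.Quotient.algebraMap_eq, ← map_mul, Ideal.Quotient.eq_zero_iff_mem]
      have hwint : IsIntegral R (algebraMap R (FractionRing R) r * z) :=
        isIntegral_algebraMap.mul hz
      obtain ⟨n, hn⟩ := hpow _ hwint
      have hfq : f ∈ q := by
        rw [hq_eq] at hn
        exact hqprime.mem_of_pow_mem n hn
      refine ⟨q, ⟨?_, _, hwint, hq_eq⟩, ?_⟩
      · rw [← hq_eq]
        exact denom_mem_associatedPrimes R (FractionRing R) f hf _ (hq_eq ▸ hqprime) (hq_eq ▸ hfq)
      · exact hqp
    · rintro ⟨q, ⟨-, w, hw, rfl⟩, hp⟩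
      exact ⟨w, hw, hp⟩
  rw [← isClosed_compl_iff, hset]
  exact hTfin.isClosed_biUnion fun q _ => PrimeSpectrum.isClosed_zeroLocus _

end main

end Groth.Agent.Lib.Helper24.NorOpen
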