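import Mathlib
import Groth.Agent.Lib.Helper24.LocGlobN1
import Groth.Agent.Lib.Helper24.NorOpen
import Groth.Agent.Lib.Helper24.AnUnram2
import Groth.Agent.Lib.Helper13.PIns2
import Groth.Agent.S0564

/-!
# Ingredients for the Nagata criterion (EGA IV 7.7.x; helper24)
-/

set_option autoImplicit false
universe u

namespace Groth.Agent.Lib.Helper24.NagataCrit

open Groth.Agent.Lib.Helper24.LocGlobN1

/-- If `R_f` is integrally closed, every integral element has a power of `f` as denominator. -/
theorem hpow_of_isIntegrallyClosed_away {R : Type u} [CommRing R] [IsDomain R]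
    (K : Type u) [Field K] [Algebra R K] [IsFractionRing R K] (f : R) (hf : f ≠ 0)
    (hn : IsIntegrallyClosed (Localization.Away f)) :
    ∀ z : K, IsIntegral R z → ∃ n, z ∈ Mn K f n := by
  have hle : Submonoid.powers f ≤ nonZeroDivisors R :=
    Submonoid.powers_le.mpr (mem_nonZeroDivisors_of_ne_zero hf)
  letI : Algebra (Localization.Away f) K :=
    IsLocalization.localizationAlgebraOfSubmonoidLe (Localization.Away f) K
      (Submonoid.powers f) (nonZeroDivisors R) hle
  haveI : IsScalarTower R (Localization.Away f) K :=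
    IsLocalization.localization_isScalarTower_of_submonoid_le (Localization.Away f)
      K (Submonoid.powers f) (nonZeroDivisors R) hle
  intro z hz
  obtain ⟨u, ⟨n, rfl⟩, b, hb⟩ :=
    (Groth.Agent.Lib.Helper24.NorOpen.isIntegrallyClosed_iff_denominators (Submonoid.powers f)
      (Localization.Away f) K).mp hn z hz
  exact ⟨n, hz, b, hb⟩

/-- The local bound needed for `finite_integralClosure_of_local_bounds`, from the N-2 property
of the quotients of the localizations of `A` at maximal ideals. -/
theorem exists_local_bound_of_quotient (A : Type u) [CommRing A]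
    (p : Ideal A) [p.IsPrime]
    (h1 : ∀ (m : Ideal A) [m.IsMaximal] (P : Ideal (Localization.AtPrime m)) [P.IsPrime],
          CAlg.IsN2 (Localization.AtPrime m ⧸ P))
    (K' : Type u) [Field K'] [Algebra (A ⧸ p) K'] [Algebra (FractionRing (A ⧸ p)) K']
    [IsScalarTower (A ⧸ p) (FractionRing (A ⧸ p)) K'] [FiniteDimensional (FractionRing (A ⧸ p)) K']
    (R : Type u) [CommRing R] [IsDomain R] [Algebra (A ⧸ p) R] [Module.Finite (A ⧸ p) R]
    [Algebra R K'] [IsScalarTower (A ⧸ p) R K']
    (f : R) (hpow : ∀ z : K', IsIntegral R z → ∃ n, z ∈ Mn K' f n)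
    (m' : Ideal R) [m'.IsMaximal] :
    ∃ n : ℕ, ∀ z : K', IsIntegral R z → ∃ s : R, s ∉ m' ∧ s • z ∈ Mn K' f n := by
  haveI : Algebra.IsIntegral (A ⧸ p) R := Algebra.IsIntegral.of_finite (A ⧸ p) R
  haveI h𝔫 : (m'.comap (algebraMap (A ⧸ p) R)).IsMaximal :=
    Ideal.isMaximal_comap_of_isIntegral_of_isMaximal m'
  obtain ⟨m, hm⟩ : ∃ m : Ideal A, m = (m'.comap (algebraMap (A ⧸ p) R)).comap
    (Ideal.Quotient.mk p) := ⟨_, rfl⟩
  haveI hmmax : m.IsMaximal := by
    rw [hm]
    exact Ideal.comap_isMaximal_of_surjective _ Ideal.Quotient.mk_surjective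
  have hpm : p ≤ m := by
    intro a ha
    rw [hm, Ideal.mem_comap, Ideal.mem_comap, Ideal.Quotient.eq_zero_iff_mem.mpr ha, map_zero]
    exact m'.zero_mem
  haveI hP : (p.map (algebraMap A (Localization.AtPrime m))).IsPrime :=
    IsLocalization.isPrime_of_isPrime_disjoint m.primeCompl _ p inferInstance
      (Set.disjoint_left.mpr (fun a ha hap => ha (hpm hap)))
  have hD : CAlg.IsN2 (Localization.AtPrime m ⧸ p.map (algebraMap A (Localization.AtPrime m))) :=
    h1 m _
  haveI hloc : IsLocalization (Algebra.algebraMapSubmonoid (A ⧸ p) m.primeCompl)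
      (Localization.AtPrime m ⧸ p.map (algebraMap A (Localization.AtPrime m))) := inferInstance
  have hM0 : ∀ y ∈ Algebra.algebraMapSubmonoid (A ⧸ p) m.primeCompl, y ≠ 0 := by
    rintro _ ⟨a, ha, rfl⟩ h0
    exact ha (hpm (Ideal.Quotient.eq_zero_iff_mem.mp h0))
  have hMle : Algebra.algebraMapSubmonoid (A ⧸ p) m.primeCompl ≤ nonZeroDivisors (A ⧸ p) :=
    fun y hy => mem_nonZeroDivisors_of_ne_zero (hM0 y hy)
  letI algDF : Algebra (Localization.AtPrime m ⧸ p.map (algebraMap A (Localization.AtPrime m)))
      (FractionRing (A ⧸ p)) :=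
    IsLocalization.localizationAlgebraOfSubmonoidLe _ (FractionRing (A ⧸ p))
      (Algebra.algebraMapSubmonoid (A ⧸ p) m.primeCompl) (nonZeroDivisors (A ⧸ p)) hMle
  haveI : IsScalarTower (A ⧸ p)
      (Localization.AtPrime m ⧸ p.map (algebraMap A (Localization.AtPrime m)))
      (FractionRing (A ⧸ p)) :=
    IsLocalization.localization_isScalarTower_of_submonoid_le _ (FractionRing (A ⧸ p))
      (Algebra.algebraMapSubmonoid (A ⧸ p) m.primeCompl) (nonZeroDivisors (A ⧸ p)) hMle
  haveI : IsFractionRing
      (Localization.AtPrime m ⧸ p.map (algebraMap A (Localization.AtPrime m)))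
      (FractionRing (A ⧸ p)) :=
    IsFractionRing.isFractionRing_of_isDomain_of_isLocalization
      (Algebra.algebraMapSubmonoid (A ⧸ p) m.primeCompl) _ (FractionRing (A ⧸ p))
  letI algDK : Algebra (Localization.AtPrime m ⧸ p.map (algebraMap A (Localization.AtPrime m)))
      K' :=
    ((algebraMap (FractionRing (A ⧸ p)) K').comp
      (algebraMap (Localization.AtPrime m ⧸ p.map (algebraMap A (Localization.AtPrime m)))
        (FractionRing (A ⧸ p)))).toAlgebra
  haveI : IsScalarTower (Localization.AtPrime m ⧸ p.map (algebraMap A (Localization.AtPrime m)))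
      (FractionRing (A ⧸ p)) K' := IsScalarTower.of_algebraMap_eq (fun _ => rfl)
  haveI : IsScalarTower (A ⧸ p)
      (Localization.AtPrime m ⧸ p.map (algebraMap A (Localization.AtPrime m))) K' :=
    IsScalarTower.of_algebraMap_eq (fun b => by
      rw [RingHom.algebraMap_toAlgebra, RingHom.comp_apply,
        ← IsScalarTower.algebraMap_apply (A ⧸ p) _ (FractionRing (A ⧸ p)),
        ← IsScalarTower.algebraMap_apply (A ⧸ p) (FractionRing (A ⧸ p)) K'])
  have hfin : Module.Finite
      (Localization.AtPrime m ⧸ p.map (algebraMap A (Localization.AtPrime m)))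
      (integralClosure (Localization.AtPrime m ⧸ p.map (algebraMap A (Localization.AtPrime m)))
        K') :=
    Groth.Agent.Lib.helper13.PIns.IsN2.finite_integralClosure hD (FractionRing (A ⧸ p)) K'
  obtain ⟨n, hn⟩ := exists_local_bound K' f hpow
    (Algebra.algebraMapSubmonoid (A ⧸ p) m.primeCompl)
    (Localization.AtPrime m ⧸ p.map (algebraMap A (Localization.AtPrime m))) hfin
  refine ⟨n, fun z hz => ?_⟩
  obtain ⟨s, hs, hsz⟩ := hn z hz
  refine ⟨algebraMap (A ⧸ p) R s, ?_, hsz⟩
  obtain ⟨a, ha, rfl⟩ := hs
  intro hmem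
  apply ha
  rw [hm]
  exact hmem


/-! ### Restored: Nagata topological openness criterion (used by S4700, S9296, S9807, S5785, CohenK5) -/

section Restored

open TopologicalSpace


/-- **Nagata's criterion** (topological form). In a Noetherian quasi-sober space, a set `E` stable
under generization such that for each `x ∈ E` the set `E` contains a nonempty open part of
`closure {x}` is open. -/
theorem isOpen_of_nagata {X : Type*} [TopologicalSpace X] [NoetherianSpace X] [QuasiSober X]
    (E : Set X) (hgen : StableUnderGeneralization E)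
    (h : ∀ x ∈ E, ∃ U : Set X, IsOpen U ∧ (U ∩ closure {x}).Nonempty ∧ U ∩ closure {x} ⊆ E) :
    IsOpen E := by
  have key : ∀ Z : Closeds X, IsClosed ((Z : Set X) \ E) := by
    intro Z
    induction Z using WellFoundedLT.induction with
    | ind Z ih =>
    by_cases hZE : (Z : Set X) ∩ E = ∅
    · have : (Z : Set X) \ E = Z := by
        ext z
        simp only [Set.mem_sdiff, SetLike.mem_coe, and_iff_left_iff_imp]
        intro hz hzE
        have : z ∈ (Z : Set X) ∩ E := ⟨hz, hzE⟩
        rw [hZE] at this
        exact this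
      rw [this]
      exact Z.isClosed
    by_cases hirr : IsPreirreducible (Z : Set X)
    · -- irreducible case
      obtain ⟨x, hxZ, hxE⟩ := Set.nonempty_iff_ne_empty.mpr hZE
      have hZirr : IsIrreducible (Z : Set X) := ⟨⟨x, hxZ⟩, hirr⟩
      obtain ⟨η, hη⟩ := QuasiSober.sober hZirr Z.isClosed
      have hcl : closure ({η} : Set X) = Z := hη.def
      have hηx : η ⤳ x := by
        rw [specializes_iff_mem_closure, hcl]
        exact hxZ
      have hηE : η ∈ E := hgen hηx hxE
      obtain ⟨U, hU, hne, hsub⟩ := h η hηE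
      rw [hcl] at hne hsub
      let Z' : Closeds X := ⟨(Z : Set X) ∩ Uᶜ, Z.isClosed.inter hU.isClosed_compl⟩
      have hlt : Z' < Z := by
        refine lt_of_le_of_ne ?_ ?_
        · intro z hz
          exact hz.1
        · intro heq
          obtain ⟨z, hzU, hzZ⟩ := hne
          have : z ∈ (Z' : Set X) := by rw [heq]; exact hzZ
          exact this.2 hzU
      have hZ' := ih Z' hlt
      have : (Z : Set X) \ E = (Z' : Set X) \ E := by
        ext z
        constructor
        · rintro ⟨hzZ, hzE⟩
          exact ⟨⟨hzZ, fun hzU => hzE (hsub ⟨hzU, hzZ⟩)⟩, hzE⟩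
        · rintro ⟨hzZ', hzE⟩
          exact ⟨hzZ'.1, hzE⟩
      rw [this]
      exact hZ'
    · -- reducible case
      rw [isPreirreducible_iff_isClosed_union_isClosed] at hirr
      push Not at hirr
      obtain ⟨Z1, Z2, hZ1, hZ2, hcov, hn1, hn2⟩ := hirr
      let W1 : Closeds X := ⟨(Z : Set X) ∩ Z1, Z.isClosed.inter hZ1⟩
      let W2 : Closeds X := ⟨(Z : Set X) ∩ Z2, Z.isClosed.inter hZ2⟩
      have hlt1 : W1 < Z := by
        refine lt_of_le_of_ne (fun z hz => hz.1) ?_
        intro heq
        apply hn1
        intro z hz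
        have : z ∈ (W1 : Set X) := by rw [heq]; exact hz
        exact this.2
      have hlt2 : W2 < Z := by
        refine lt_of_le_of_ne (fun z hz => hz.1) ?_
        intro heq
        apply hn2
        intro z hz
        have : z ∈ (W2 : Set X) := by rw [heq]; exact hz
        exact this.2
      have h1 := ih W1 hlt1
      have h2 := ih W2 hlt2
      have : (Z : Set X) \ E = ((W1 : Set X) \ E) ∪ ((W2 : Set X) \ E) := by
        ext z
        constructor
        · rintro ⟨hzZ, hzE⟩
          rcases hcov hzZ with hz1 | hz2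
          · exact Or.inl ⟨⟨hzZ, hz1⟩, hzE⟩
          · exact Or.inr ⟨⟨hzZ, hz2⟩, hzE⟩
        · rintro (⟨hz, hzE⟩ | ⟨hz, hzE⟩)
          · exact ⟨hz.1, hzE⟩
          · exact ⟨hz.1, hzE⟩
      rw [this]
      exact h1.union h2
  have := key ⊤
  rw [Closeds.coe_top, ← Set.compl_eq_univ_sdiff] at this
  exact isClosed_compl_iff.mp this

/-- Regularity of localizations passes to smaller primes (Serre). -/
theorem isRegularLocalRing_atPrime_of_le (R : Type u) [CommRing R] (p q : Ideal R) [p.IsPrime]
    [q.IsPrime] (hqp : q ≤ p) [IsRegularLocalRing (Localization.AtPrime p)] :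
    IsRegularLocalRing (Localization.AtPrime q) := by
  have hdisj : Disjoint (p.primeCompl : Set R) (q : Set R) := by
    rw [Set.disjoint_left]
    intro a ha hq
    exact ha (hqp hq)
  let q' : Ideal (Localization.AtPrime p) := q.map (algebraMap R (Localization.AtPrime p))
  haveI hq' : q'.IsPrime :=
    IsLocalization.isPrime_of_isPrime_disjoint _ (Localization.AtPrime p) q inferInstance hdisj
  have hq'c : q'.comap (algebraMap R (Localization.AtPrime p)) = q :=
    IsLocalization.under_map_of_isPrime_disjoint _ (Localization.AtPrime p) inferInstance hdisj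
  haveI h1 : IsLocalization.AtPrime (Localization.AtPrime q')
      (q'.comap (algebraMap R (Localization.AtPrime p))) :=
    IsLocalization.isLocalization_isLocalization_atPrime_isLocalization p.primeCompl
      (Localization.AtPrime q') q'
  haveI hreg : IsRegularLocalRing (Localization.AtPrime q') :=
    Groth.Agent.S0564.result (Localization.AtPrime p) q'
  have aux : ∀ (q₀ : Ideal R) [q₀.IsPrime], q₀ = q →
      IsLocalization.AtPrime (Localization.AtPrime q') q₀ →
      IsRegularLocalRing (Localization.AtPrime q) := by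
    intro q₀ _ h0 hloc
    subst h0
    let e : Localization.AtPrime q₀ ≃ₐ[R] Localization.AtPrime q' :=
      IsLocalization.algEquiv q₀.primeCompl _ _
    exact IsRegularLocalRing.of_ringEquiv e.symm.toRingEquiv
  exact aux _ hq'c h1

theorem stableUnderGeneralization_regLocus (R : Type u) [CommRing R] :
    StableUnderGeneralization
      {p : PrimeSpectrum R | IsRegularLocalRing (Localization.AtPrime p.asIdeal)} := by
  intro x y hyx hx
  have hle : y.asIdeal ≤ x.asIdeal := (PrimeSpectrum.le_iff_specializes y x).mpr hyx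
  haveI : IsRegularLocalRing (Localization.AtPrime x.asIdeal) := hx
  exact isRegularLocalRing_atPrime_of_le R x.asIdeal y.asIdeal hle


end Restored

end Groth.Agent.Lib.Helper24.NagataCrit
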