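import Mathlib
import Groth.Agent.Lib.Helper24.FibLoc

/-!
# Geometric (local) properties and separable algebraic base field extensions (helper24)

For a property `Q` of rings invariant under isomorphism, write `P R := ∀ q prime, Q (R_q)`.
We show that "`K ⊗[k] A` has `P` for all finite field extensions `K/k`" is insensitive to replacing
`k` by a separable algebraic extension `k'` (when `A` is a `k'`-algebra).
-/

set_option autoImplicit false
set_option linter.unusedSectionVars false

noncomputable section

namespace Groth.Agent.Lib.Helper24.GeomSepAlg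

open TensorProduct Groth.Agent.Lib.Helper24.FibLoc

universe u

/-- "locally Q" -/
abbrev Loc (Q : ∀ (R : Type u) [CommRing R], Prop) (R : Type u) [CommRing R] : Prop :=
  ∀ (q : Ideal R) [q.IsPrime], Q (Localization.AtPrime q)

section cover

variable (Q : ∀ (R : Type u) [CommRing R], Prop)
  (hQ : ∀ (R R' : Type u) [CommRing R] [CommRing R'], (R ≃+* R') → Q R → Q R')

include hQ in
/-- `Loc Q` can be checked on a cover by localizations. -/
theorem cover (R : Type u) [CommRing R]
    (h : ∀ (𝔓 : Ideal R) [𝔓.IsPrime], ∃ (R' : Type u) (_ : CommRing R') (_ : Algebra R R')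
      (M : Submonoid R), IsLocalization M R' ∧ Disjoint (M : Set R) (𝔓 : Set R) ∧ Loc Q R') :
    Loc Q R := by
  intro 𝔓 h𝔓
  obtain ⟨R', _, _, M, hloc, hdisj, hP⟩ := h 𝔓
  haveI := hloc
  haveI hq' : (𝔓.map (algebraMap R R')).IsPrime :=
    IsLocalization.isPrime_of_isPrime_disjoint M R' 𝔓 h𝔓 hdisj
  have hcomap : (𝔓.map (algebraMap R R')).comap (algebraMap R R') = 𝔓 :=
    IsLocalization.under_map_of_isPrime_disjoint M R' h𝔓 hdisj
  have h1 : IsLocalization.AtPrime (Localization.AtPrime (𝔓.map (algebraMap R R')))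
      ((𝔓.map (algebraMap R R')).comap (algebraMap R R')) :=
    IsLocalization.isLocalization_isLocalization_atPrime_isLocalization M
      (Localization.AtPrime (𝔓.map (algebraMap R R'))) (𝔓.map (algebraMap R R'))
  have h2 : IsLocalization 𝔓.primeCompl (Localization.AtPrime (𝔓.map (algebraMap R R'))) := by
    convert h1 using 2
    exact hcomap.symm
  let e : Localization.AtPrime 𝔓 ≃ₐ[R] Localization.AtPrime (𝔓.map (algebraMap R R')) :=
    IsLocalization.algEquiv 𝔓.primeCompl _ _
  exact hQ _ _ e.symm.toRingEquiv (hP (𝔓.map (algebraMap R R')))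

end cover

/-- A surjection from a reduced artinian ring onto a field is a localization. -/
theorem isLocalization_of_artinian_reduced (T L : Type u) [CommRing T] [IsArtinianRing T]
    [IsReduced T] [Field L] [Algebra T L] (hsurj : Function.Surjective (algebraMap T L))
    (m : Ideal T) [m.IsPrime] (hm : m = RingHom.ker (algebraMap T L)) :
    IsLocalization m.primeCompl L := by
  have hf : IsField (Localization.AtPrime m) :=
    IsArtinianRing.isField_of_isReduced_of_isLocalRing _
  have hunit : ∀ y : m.primeCompl, IsUnit (algebraMap T L y) := by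
    intro y
    rw [isUnit_iff_ne_zero]
    intro h0
    apply y.2
    have : (y : T) ∈ RingHom.ker (algebraMap T L) := (RingHom.mem_ker).2 h0
    rw [← hm] at this
    exact this
  let f : Localization.AtPrime m →ₐ[T] L :=
    IsLocalization.liftAlgHom (M := m.primeCompl) (f := Algebra.ofId T L) hunit
  have hinj : Function.Injective f := by
    letI := hf.toField
    exact (f : Localization.AtPrime m →+* L).injective
  have hsur : Function.Surjective f := by
    intro l
    obtain ⟨t, rfl⟩ := hsurj l
    exact ⟨algebraMap T _ t, f.commutes t⟩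
  exact IsLocalization.isLocalization_of_algEquiv m.primeCompl
    (AlgEquiv.ofBijective f ⟨hinj, hsur⟩)

/-- For `k'/k` separable algebraic and any field extension `K/k`, `K ⊗[k] k'` is reduced. -/
theorem isReduced_tensor (k k' K : Type u) [Field k] [Field k'] [Field K] [Algebra k k']
    [Algebra k K] [Algebra.IsSeparable k k'] : IsReduced (K ⊗[k] k') := by
  apply IsReduced.tensorProduct_of_flat_of_forall_fg
  intro B hB
  obtain ⟨s, hs⟩ := hB
  let E : IntermediateField k k' := IntermediateField.adjoin k (s : Set k')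
  haveI : FiniteDimensional k E :=
    IntermediateField.finiteDimensional_adjoin (fun x _ => Algebra.IsIntegral.isIntegral x)
  haveI : Algebra.IsSeparable k E := Algebra.isSeparable_tower_bot_of_isSeparable k E k'
  haveI : Algebra.FormallyUnramified k E := Algebra.FormallyUnramified.of_isSeparable k E
  haveI : IsReduced (K ⊗[k] E) := Algebra.FormallyUnramified.isReduced_of_field K (K ⊗[k] E)
  have hle : B ≤ E.toSubalgebra := by
    rw [← hs]
    exact Algebra.adjoin_le (IntermediateField.subset_adjoin k _)
  let ι : B →ₐ[k] E := Subalgebra.inclusion hle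
  exact isReduced_of_injective (Algebra.TensorProduct.map (AlgHom.id K K) ι)
    (Module.Flat.lTensor_preserves_injective_linearMap _ (Subalgebra.inclusion_injective hle))

theorem exists_index_finset (k : Type u) [Field k] {ι : Type u}
    (K : ι → Type u) [∀ i, Field (K i)] [∀ i, Algebra (K i) k]
    (hdir : ∀ i j, ∃ l, Set.range (algebraMap (K i) k) ⊆ Set.range (algebraMap (K l) k) ∧
      Set.range (algebraMap (K j) k) ⊆ Set.range (algebraMap (K l) k))
    (hcov : ∀ x : k, ∃ i, x ∈ Set.range (algebraMap (K i) k)) (s : Finset k) :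
    ∃ i, ∀ x ∈ s, x ∈ Set.range (algebraMap (K i) k) := by
  classical
  induction s using Finset.induction_on with
  | empty =>
    obtain ⟨i, -⟩ := hcov 0
    exact ⟨i, by simp⟩
  | insert a s _ ih =>
    obtain ⟨i, hi⟩ := ih
    obtain ⟨j, hj⟩ := hcov a
    obtain ⟨l, hl1, hl2⟩ := hdir i j
    refine ⟨l, fun x hx => ?_⟩
    rcases Finset.mem_insert.1 hx with rfl | hx
    · exact hl2 hj
    · exact hl1 (hi x hx)

/-- descent of a finite field extension to a subfield containing the structure constants -/
theorem descend (k k' F : Type u) [Field k] [Field k'] [Field F] [Algebra k k'] [Algebra F k]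
    [Algebra F k'] [IsScalarTower F k k'] {n : ℕ} (b : Module.Basis (Fin n) k k')
    (h1 : ∀ e, b.repr 1 e ∈ Set.range (algebraMap F k))
    (hmul : ∀ a c e, b.repr (b a * b c) e ∈ Set.range (algebraMap F k)) :
    ∃ (L : Subalgebra F k') (_ : Module.Finite F L) (_ : IsField L),
      Nonempty (TensorProduct F k L ≃ₐ[k] k') := by
  classical
  set V : Submodule F k' := Submodule.span F (Set.range b) with hV
  have hbV : ∀ e, b e ∈ V := fun e => Submodule.subset_span ⟨e, rfl⟩
  have hsum : ∀ x : k', (∀ e, b.repr x e ∈ Set.range (algebraMap F k)) → x ∈ V := by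
    intro x hx
    rw [← b.sum_repr x]
    refine Submodule.sum_mem _ fun e _ => ?_
    obtain ⟨c, hc⟩ := hx e
    rw [← hc, algebraMap_smul]
    exact V.smul_mem c (hbV e)
  have hone : (1 : k') ∈ V := hsum 1 h1
  have hmulV : ∀ x y, x ∈ V → y ∈ V → x * y ∈ V := by
    intro x y hx hy
    have h2 : V * V ≤ V := by
      rw [hV, Submodule.span_mul_span, Submodule.span_le]
      rintro _ ⟨_, ⟨a, rfl⟩, _, ⟨c, rfl⟩, rfl⟩
      exact hsum _ (hmul a c)
    exact h2 (Submodule.mul_mem_mul hx hy)
  let L : Subalgebra F k' := V.toSubalgebra hone hmulV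
  have hinjF : Function.Injective fun r : F => r • (1 : k) := by
    intro x y hxy
    simp only [Algebra.smul_def, mul_one] at hxy
    exact (algebraMap F k).injective hxy
  have hli : LinearIndependent F b := b.linearIndependent.restrict_scalars hinjF
  let bV : Module.Basis (Fin n) F V := Module.Basis.span hli
  have hbV' : ∀ e, ((bV e : V) : k') = b e := fun e => by
    rw [show bV e = _ from Module.Basis.span_apply hli e]
  let eLV : L ≃ₗ[F] V := LinearEquiv.refl F V
  let bL : Module.Basis (Fin n) F L := bV.map eLV.symm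
  have hbL : ∀ e, ((bL e : L) : k') = b e := fun e => by
    simp only [bL, Module.Basis.map_apply]
    exact hbV' e
  haveI hfin : Module.Finite F L := Module.Finite.of_basis bL
  have hfield : IsField L := isField_of_isIntegral_of_isField' (R := F) (Field.toIsField F)
  refine ⟨L, hfin, hfield, ?_⟩
  let f : TensorProduct F k L →ₐ[k] k' :=
    Algebra.TensorProduct.lift (Algebra.ofId k k') L.val (fun _ _ => Commute.all _ _)
  let bT : Module.Basis (Fin n) k (TensorProduct F k L) := Algebra.TensorProduct.basis k bL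
  have hf : f.toLinearMap = (bT.equiv b (Equiv.refl _)).toLinearMap := by
    apply bT.ext
    intro e
    have h3 : bT e = (1 : k) ⊗ₜ[F] bL e := Algebra.TensorProduct.basis_apply bL e
    rw [LinearEquiv.coe_coe, Module.Basis.equiv_apply, h3]
    simp [f, hbL]
  have hbij : Function.Bijective f := by
    have : (f : TensorProduct F k L → k') = (bT.equiv b (Equiv.refl _)) := by
      ext x
      exact LinearMap.congr_fun hf x
    rw [this]
    exact (bT.equiv b (Equiv.refl _)).bijective
  exact ⟨AlgEquiv.ofBijective f hbij⟩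


/-- Generic version of S9409: a property of rings invariant under isomorphisms, which holds
"geometrically" over each member of a directed family of subfields, holds geometrically over the
union. -/
theorem directed (P : ∀ (R : Type u) [CommRing R], Prop)
    (hiso : ∀ (R R' : Type u) [CommRing R] [CommRing R'], (R ≃+* R') → P R → P R')
    (k : Type u) [Field k] {ι : Type u}
    (K : ι → Type u) [∀ i, Field (K i)] [∀ i, Algebra (K i) k]
    (hdir : ∀ i j, ∃ l, Set.range (algebraMap (K i) k) ⊆ Set.range (algebraMap (K l) k) ∧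
      Set.range (algebraMap (K j) k) ⊆ Set.range (algebraMap (K l) k))
    (hcov : ∀ x : k, ∃ i, x ∈ Set.range (algebraMap (K i) k))
    (A : Type u) [CommRing A] [Algebra k A] [∀ i, Algebra (K i) A]
    [∀ i, IsScalarTower (K i) k A]
    (h : ∀ i, ∀ (L : Type u) [Field L] [Algebra (K i) L], Module.Finite (K i) L →
      P (L ⊗[K i] A)) :
    ∀ (k' : Type u) [Field k'] [Algebra k k'], Module.Finite k k' → P (k' ⊗[k] A) := by
  intro k' _ _ hfin
  classical
  let b : Module.Basis (Fin (Module.finrank k k')) k k' := Module.finBasis k k'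
  let T : Finset k := (Finset.univ.image fun e => b.repr 1 e) ∪
    (Finset.univ.image fun (x : Fin (Module.finrank k k') × Fin (Module.finrank k k') ×
      Fin (Module.finrank k k')) => b.repr (b x.1 * b x.2.1) x.2.2)
  obtain ⟨i, hi⟩ := exists_index_finset k K hdir hcov T
  letI : Algebra (K i) k' := ((algebraMap k k').comp (algebraMap (K i) k)).toAlgebra
  haveI : IsScalarTower (K i) k k' := IsScalarTower.of_algebraMap_eq (fun _ => rfl)
  have hi1 : ∀ e, b.repr 1 e ∈ Set.range (algebraMap (K i) k) := fun e => hi _ (by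
    apply Finset.mem_union_left
    exact Finset.mem_image.2 ⟨e, Finset.mem_univ _, rfl⟩)
  have hi2 : ∀ a c e, b.repr (b a * b c) e ∈ Set.range (algebraMap (K i) k) := fun a c e =>
    hi _ (by
      apply Finset.mem_union_right
      exact Finset.mem_image.2 ⟨(a, c, e), Finset.mem_univ _, rfl⟩)
  obtain ⟨L, hLfin, hLfield, ⟨e⟩⟩ := descend k k' (K i) b hi1 hi2
  letI := hLfield.toField
  have hreg : P (TensorProduct (K i) L A) := h i L hLfin
  let e1 : TensorProduct (K i) L A ≃+* TensorProduct (K i) A L :=
    (Algebra.TensorProduct.comm (K i) L A).toRingEquiv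
  let e2 : TensorProduct k A (TensorProduct (K i) k L) ≃+* TensorProduct (K i) A L :=
    (Algebra.TensorProduct.cancelBaseChange (K i) k k A L).toRingEquiv
  let e3 : TensorProduct k A (TensorProduct (K i) k L) ≃+* TensorProduct k A k' :=
    (Algebra.TensorProduct.congr (AlgEquiv.refl (R := k) (A₁ := A)) e).toRingEquiv
  let e4 : TensorProduct k A k' ≃+* TensorProduct k k' A :=
    (Algebra.TensorProduct.comm k A k').toRingEquiv
  exact hiso _ _ (((e1.trans e2.symm).trans e3).trans e4) hreg

section updown

/-- key step: a surjection `T → L` of `k₁`-algebras from a reduced artinian ring onto a field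
induces a localization `A ⊗[k₁] T → A ⊗[k₁] L`. -/
theorem exists_loc (k₁ A T L : Type u) [Field k₁] [CommRing A] [Algebra k₁ A]
    [CommRing T] [Algebra k₁ T] [IsArtinianRing T] [IsReduced T] [Field L] [Algebra k₁ L]
    (μ : T →ₐ[k₁] L) (hμ : Function.Surjective μ) (m : Ideal T) [m.IsPrime]
    (hm : m = RingHom.ker μ.toRingHom) :
    ∃ (alg : Algebra (A ⊗[k₁] T) (A ⊗[k₁] L)),
      @IsLocalization _ _ (m.primeCompl.map
        (Algebra.TensorProduct.includeRight (R := k₁) (A := A) (B := T))) (A ⊗[k₁] L) _ alg := by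
  letI : Algebra T L := μ.toRingHom.toAlgebra
  haveI : IsScalarTower k₁ T L := IsScalarTower.of_algebraMap_eq' (μ.comp_algebraMap).symm
  have hsurj : Function.Surjective (algebraMap T L) := hμ
  haveI := isLocalization_of_artinian_reduced T L hsurj m hm
  letI alg : Algebra (A ⊗[k₁] T) (A ⊗[k₁] L) :=
    (Algebra.TensorProduct.map (AlgHom.id A A) (IsScalarTower.toAlgHom k₁ T L)).toRingHom.toAlgebra
  haveI : IsScalarTower A (A ⊗[k₁] T) (A ⊗[k₁] L) :=
    IsScalarTower.of_algebraMap_eq' (by
      ext x
      simp [RingHom.algebraMap_toAlgebra])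
  have H : (algebraMap (A ⊗[k₁] T) (A ⊗[k₁] L)).comp
      (Algebra.TensorProduct.includeRight (R := k₁) (A := A) (B := T)).toRingHom =
      (Algebra.TensorProduct.includeRight (R := k₁) (A := A) (B := L)).toRingHom.comp
        (algebraMap T L) := by
    ext x
    simp [RingHom.algebraMap_toAlgebra]
  exact ⟨alg, IsLocalization.tensorProduct_tensorProduct_right k₁ A m.primeCompl L H⟩

variable (Q : ∀ (R : Type u) [CommRing R], Prop)
  (hQ : ∀ (R R' : Type u) [CommRing R] [CommRing R'], (R ≃+* R') → Q R → Q R')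

include hQ in
theorem loc_of_surjective (k₁ A T L : Type u) [Field k₁] [CommRing A] [Algebra k₁ A]
    [CommRing T] [Algebra k₁ T] [IsArtinianRing T] [IsReduced T] [Field L] [Algebra k₁ L]
    (μ : T →ₐ[k₁] L) (hμ : Function.Surjective μ) (h : Loc Q (A ⊗[k₁] T)) :
    Loc Q (A ⊗[k₁] L) := by
  have hLS := locStable_of_local Q hQ
  haveI : (RingHom.ker μ.toRingHom).IsPrime := RingHom.ker_isPrime _
  obtain ⟨alg, hloc⟩ := exists_loc k₁ A T L μ hμ (RingHom.ker μ.toRingHom) rfl
  letI := alg
  haveI := hloc
  exact hLS.loc (A ⊗[k₁] T) (A ⊗[k₁] L) ((RingHom.ker μ.toRingHom).primeCompl.map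
        (Algebra.TensorProduct.includeRight (R := k₁) (A := A) (B := T))) h

include hQ in
/-- going up along a finite separable extension `k₁/k` -/
theorem up_finite (k k₁ A : Type u) [Field k] [Field k₁] [Algebra k k₁] [Module.Finite k k₁]
    [Algebra.IsSeparable k k₁] [CommRing A] [Algebra k₁ A] [Algebra k A] [IsScalarTower k k₁ A]
    (h : ∀ (L : Type u) [Field L] [Algebra k L], Module.Finite k L → Loc Q (L ⊗[k] A)) :
    ∀ (L : Type u) [Field L] [Algebra k₁ L], Module.Finite k₁ L → Loc Q (L ⊗[k₁] A) := by
  intro L _ _ hL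
  have hLS := locStable_of_local Q hQ
  letI : Algebra k L := ((algebraMap k₁ L).comp (algebraMap k k₁)).toAlgebra
  haveI : IsScalarTower k k₁ L := IsScalarTower.of_algebraMap_eq (fun _ => rfl)
  haveI : Module.Finite k L := Module.Finite.trans k₁ L
  have h0 : Loc Q (L ⊗[k] A) := h L inferInstance
  haveI : Module.Finite k₁ (k₁ ⊗[k] L) := inferInstance
  haveI : IsArtinianRing (k₁ ⊗[k] L) := IsArtinianRing.of_finite k₁ (k₁ ⊗[k] L)
  haveI : IsReduced (k₁ ⊗[k] L) := by
    haveI := isReduced_tensor k k₁ L
    exact isReduced_of_injective (Algebra.TensorProduct.comm k k₁ L).toRingHom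
      (Algebra.TensorProduct.comm k k₁ L).injective
  let μ : k₁ ⊗[k] L →ₐ[k₁] L :=
    Algebra.TensorProduct.lift (Algebra.ofId k₁ L) (AlgHom.id k L) (fun _ _ => Commute.all _ _)
  have hμ : Function.Surjective μ := fun l => ⟨1 ⊗ₜ l, by simp [μ]⟩
  have h1 : Loc Q (A ⊗[k₁] (k₁ ⊗[k] L)) :=
    hLS.iso _ _ (((Algebra.TensorProduct.comm k L A).toRingEquiv).trans
      (Algebra.TensorProduct.cancelBaseChange k k₁ k₁ A L).symm.toRingEquiv) h0
  have h2 : Loc Q (A ⊗[k₁] L) := loc_of_surjective Q hQ k₁ A (k₁ ⊗[k] L) L μ hμ h1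
  exact hLS.iso _ _ (Algebra.TensorProduct.comm k₁ A L).toRingEquiv h2

include hQ in
/-- going down along a separable algebraic extension `k'/k` -/
theorem down (k k' A : Type u) [Field k] [Field k'] [Algebra k k'] [Algebra.IsSeparable k k']
    [CommRing A] [Algebra k' A] [Algebra k A] [IsScalarTower k k' A]
    (h : ∀ (K' : Type u) [Field K'] [Algebra k' K'], Module.Finite k' K' → Loc Q (K' ⊗[k'] A)) :
    ∀ (K : Type u) [Field K] [Algebra k K], Module.Finite k K → Loc Q (K ⊗[k] A) := by
  intro K _ _ hK
  have hLS := locStable_of_local Q hQ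
  haveI : Module.Finite k' (k' ⊗[k] K) := inferInstance
  haveI : IsArtinianRing (k' ⊗[k] K) := IsArtinianRing.of_finite k' (k' ⊗[k] K)
  haveI : IsReduced (k' ⊗[k] K) := by
    haveI := isReduced_tensor k k' K
    exact isReduced_of_injective (Algebra.TensorProduct.comm k k' K).toRingHom
      (Algebra.TensorProduct.comm k k' K).injective
  have h1 : Loc Q (A ⊗[k'] (k' ⊗[k] K)) := by
    apply cover Q hQ
    intro 𝔓 h𝔓
    let m : Ideal (k' ⊗[k] K) := 𝔓.comap
      (Algebra.TensorProduct.includeRight (R := k') (A := A) (B := k' ⊗[k] K)).toRingHom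
    haveI hmp : m.IsPrime := Ideal.comap_isPrime _ _
    haveI : m.IsMaximal := IsArtinianRing.isMaximal_of_isPrime m
    letI : Field ((k' ⊗[k] K) ⧸ m) := Ideal.Quotient.field m
    let μ : (k' ⊗[k] K) →ₐ[k'] (k' ⊗[k] K) ⧸ m := Ideal.Quotient.mkₐ k' m
    have hμ : Function.Surjective μ := Ideal.Quotient.mkₐ_surjective k' m
    obtain ⟨alg, hloc⟩ := exists_loc k' A (k' ⊗[k] K) ((k' ⊗[k] K) ⧸ m) μ hμ m
      (by ext x; simp [μ])
    refine ⟨A ⊗[k'] ((k' ⊗[k] K) ⧸ m), inferInstance, alg, _, hloc, ?_, ?_⟩
    · rw [Set.disjoint_left]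
      rintro _ ⟨t, ht, rfl⟩ h2
      exact ht h2
    · haveI : Module.Finite k' ((k' ⊗[k] K) ⧸ m) := Module.Finite.of_surjective μ.toLinearMap hμ
      exact hLS.iso _ _ (Algebra.TensorProduct.comm k' _ A).toRingEquiv (h _ inferInstance)
  exact hLS.iso _ _ ((Algebra.TensorProduct.cancelBaseChange k k' k' A K).toRingEquiv.trans
    (Algebra.TensorProduct.comm k A K).toRingEquiv) h1

include hQ in
/-- going up along a separable algebraic extension `k'/k` -/
theorem up (k k' A : Type u) [Field k] [Field k'] [Algebra k k'] [Algebra.IsSeparable k k']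
    [CommRing A] [Algebra k' A] [Algebra k A] [IsScalarTower k k' A]
    (h : ∀ (L : Type u) [Field L] [Algebra k L], Module.Finite k L → Loc Q (L ⊗[k] A)) :
    ∀ (K' : Type u) [Field K'] [Algebra k' K'], Module.Finite k' K' → Loc Q (K' ⊗[k'] A) := by
  have hLS := locStable_of_local Q hQ
  let Kf : {E : IntermediateField k k' // FiniteDimensional k E} → Type u := fun i => ↥i.1
  letI : ∀ i, Field (Kf i) := fun i => inferInstanceAs (Field ↥i.1)
  letI : ∀ i, Algebra (Kf i) k' := fun i => inferInstanceAs (Algebra ↥i.1 k')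
  letI : ∀ i, Algebra k (Kf i) := fun i => inferInstanceAs (Algebra k ↥i.1)
  haveI : ∀ i, IsScalarTower k (Kf i) k' := fun i => inferInstanceAs (IsScalarTower k ↥i.1 k')
  letI : ∀ i, Algebra (Kf i) A := fun i => inferInstanceAs (Algebra ↥i.1 A)
  haveI : ∀ i, IsScalarTower (Kf i) k' A := fun i => inferInstanceAs (IsScalarTower ↥i.1 k' A)
  have hrange : ∀ i, Set.range (algebraMap (Kf i) k') = (i.1 : Set k') := by
    intro i
    ext x
    constructor
    · rintro ⟨y, rfl⟩
      exact y.2
    · intro hx
      exact ⟨⟨x, hx⟩, rfl⟩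
  refine directed (Loc Q) hLS.iso k' Kf ?_ ?_ A ?_
  · intro i j
    haveI := i.2
    haveI := j.2
    refine ⟨⟨i.1 ⊔ j.1, IntermediateField.finiteDimensional_sup i.1 j.1⟩, ?_, ?_⟩
    · rw [hrange, hrange]
      exact (le_sup_left : i.1 ≤ i.1 ⊔ j.1)
    · rw [hrange, hrange]
      exact (le_sup_right : j.1 ≤ i.1 ⊔ j.1)
  · intro x
    refine ⟨⟨IntermediateField.adjoin k {x},
      IntermediateField.adjoin.finiteDimensional (Algebra.IsIntegral.isIntegral x)⟩, ?_⟩
    rw [hrange]
    exact IntermediateField.mem_adjoin_simple_self k x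
  · intro i
    haveI : Module.Finite k (Kf i) := i.2
    haveI : Algebra.IsSeparable k (Kf i) := Algebra.isSeparable_tower_bot_of_isSeparable k (Kf i) k'
    haveI : IsScalarTower k (Kf i) A := IsScalarTower.of_algebraMap_eq (fun x => by
      rw [IsScalarTower.algebraMap_apply (Kf i) k' A, ← IsScalarTower.algebraMap_apply k (Kf i) k',
        ← IsScalarTower.algebraMap_apply k k' A])
    exact up_finite Q hQ k (Kf i) A h

end updown


end Groth.Agent.Lib.Helper24.GeomSepAlg

end
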