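import Mathlib
import Groth.Agent.Lib.Helper24.EtaleNormal
import Groth.Agent.Lib.Helper24.FlatCotangent

set_option autoImplicit false

namespace Groth.Agent.Lib.Helper24.FlatLocalFibre

open IsLocalRing TensorProduct

universe u

section Kernel

variable (R S : Type u) [CommRing R] [CommRing S] [Algebra R S] (p : Ideal R) [p.IsPrime]

/-- The kernel of `S → κ(p) ⊗ S`. -/
theorem exists_smul_mem_of_one_tmul_eq_zero (z : S)
    (hz : (1 : p.ResidueField) ⊗ₜ[R] z = 0) :
    ∃ t : R, t ∉ p ∧ algebraMap R S t * z ∈ p.map (algebraMap R S) := by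
  letI : Algebra S (p.Fiber S) := Algebra.TensorProduct.rightAlgebra
  let e₁ := Ideal.Fiber.algEquivAux₁ p (S := S)
  have h1 : e₁ ((1 : p.ResidueField) ⊗ₜ[R] z) = 0 := by rw [hz, map_zero]
  have h2 : (1 : p.ResidueField) ⊗ₜ[R] z = algebraMap S (p.Fiber S) z := by
    rfl
  rw [h2, AlgEquiv.commutes,
    IsScalarTower.algebraMap_apply S (Localization (Algebra.algebraMapSubmonoid S p.primeCompl)),
    Ideal.Quotient.algebraMap_eq, Ideal.Quotient.eq_zero_iff_mem,
    IsLocalization.mem_map_algebraMap_iff (Algebra.algebraMapSubmonoid S p.primeCompl)] at h1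
  obtain ⟨⟨a, m⟩, ha⟩ := h1
  obtain ⟨t, ht, htm⟩ := m.2
  have h3 : algebraMap S (Localization (Algebra.algebraMapSubmonoid S p.primeCompl)) (z * m) =
      algebraMap S _ (a : S) := by
    rw [map_mul]; exact ha
  obtain ⟨c, hc⟩ := (IsLocalization.eq_iff_exists (Algebra.algebraMapSubmonoid S p.primeCompl) _).1 h3
  obtain ⟨t₂, ht₂, htc⟩ := c.2
  refine ⟨t₂ * t, ‹p.IsPrime›.mul_notMem ht₂ ht, ?_⟩
  have h4 : algebraMap R S (t₂ * t) * z = (c : S) * (a : S) := by
    rw [← hc, map_mul, htc, htm]; ring
  rw [h4]
  exact Ideal.mul_mem_left _ _ a.2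

/-- If the fibre ring `κ(p) ⊗ S` is Artinian and reduced, and `q` lies over `p`,
then `p S_q = q S_q`. -/
theorem mem_map_of_mem (q : Ideal S) [q.IsPrime] (hqp : q.comap (algebraMap R S) = p)
    [IsArtinianRing (p.ResidueField ⊗[R] S)] [IsReduced (p.ResidueField ⊗[R] S)]
    (x : S) (hx : x ∈ q) :
    algebraMap S (Localization.AtPrime q) x ∈
      (p.map (algebraMap R S)).map (algebraMap S (Localization.AtPrime q)) := by
  obtain ⟨v, hv⟩ := Groth.Agent.Lib.Helper24.EtaleNormal.exists_eq_sq_mul
    ((1 : p.ResidueField) ⊗ₜ[R] x)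
  obtain ⟨s, hs, y, hy⟩ := Ideal.Fiber.exists_smul_eq_one_tmul p v
  have h0 : (1 : p.ResidueField) ⊗ₜ[R] (algebraMap R S s * x - x ^ 2 * y) = 0 := by
    have h1 : s • ((1 : p.ResidueField) ⊗ₜ[R] x) = ((1 : p.ResidueField) ⊗ₜ[R] x) ^ 2 * (s • v) := by
      conv_lhs => rw [hv]
      rw [mul_smul_comm]
    rw [hy] at h1
    rw [TensorProduct.tmul_sub, sub_eq_zero]
    calc (1 : p.ResidueField) ⊗ₜ[R] (algebraMap R S s * x)
        = s • ((1 : p.ResidueField) ⊗ₜ[R] x) := by
          rw [TensorProduct.smul_tmul', TensorProduct.smul_tmul, Algebra.smul_def]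
      _ = ((1 : p.ResidueField) ⊗ₜ[R] x) ^ 2 * ((1 : p.ResidueField) ⊗ₜ[R] y) := h1
      _ = (1 : p.ResidueField) ⊗ₜ[R] (x ^ 2 * y) := by
          simp [pow_two, Algebra.TensorProduct.tmul_mul_tmul]
  obtain ⟨t, ht, htz⟩ := exists_smul_mem_of_one_tmul_eq_zero R S p _ h0
  -- units in the localization
  have hsq : algebraMap R S s ∉ q := fun h => hs (hqp ▸ (Ideal.mem_comap.2 h))
  have htq : algebraMap R S t ∉ q := fun h => ht (hqp ▸ (Ideal.mem_comap.2 h))
  have hu1 : algebraMap R S s - x * y ∉ q := fun h =>
    hsq (by simpa using q.add_mem h (q.mul_mem_right y hx))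
  have hU : IsUnit (algebraMap S (Localization.AtPrime q)
      (algebraMap R S t * (algebraMap R S s - x * y))) :=
    IsLocalization.map_units (Localization.AtPrime q)
      (⟨_, ‹q.IsPrime›.mul_notMem htq hu1⟩ : q.primeCompl)
  have h5 : algebraMap S (Localization.AtPrime q)
      (algebraMap R S t * (algebraMap R S s - x * y)) * algebraMap S (Localization.AtPrime q) x ∈
      (p.map (algebraMap R S)).map (algebraMap S (Localization.AtPrime q)) := by
    rw [← map_mul]
    apply Ideal.mem_map_of_mem
    convert htz using 1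
    ring
  obtain ⟨u, hu⟩ := hU
  have := Ideal.mul_mem_left _ (↑u⁻¹ : Localization.AtPrime q) h5
  rwa [← hu, ← mul_assoc, Units.inv_mul, one_mul] at this

end Kernel

section LocalHom

/-- Dimension equality along a flat local homomorphism with `m_R S = m_S`. -/
theorem ringKrullDim_eq_of_flat (R S : Type u) [CommRing R] [CommRing S] [IsLocalRing R]
    [IsLocalRing S] [IsNoetherianRing R] [IsNoetherianRing S] [Algebra R S]
    [IsLocalHom (algebraMap R S)]
    [Module.Flat R S] (hm : (maximalIdeal R).map (algebraMap R S) = maximalIdeal S) :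
    ringKrullDim S = ringKrullDim R := by
  have hlies : (maximalIdeal S).LiesOver (maximalIdeal R) :=
    ⟨(IsLocalRing.maximalIdeal_comap (algebraMap R S)).symm⟩
  have h := Ideal.height_eq_height_add_of_liesOver_of_hasGoingDown
    (maximalIdeal R) (maximalIdeal S)
  rw [hm, Ideal.map_quotient_self, Ideal.height_bot, add_zero] at h
  rw [← IsLocalRing.maximalIdeal_height_eq_ringKrullDim,
    ← IsLocalRing.maximalIdeal_height_eq_ringKrullDim, h]

variable (R S : Type u) [CommRing R] [CommRing S] [Algebra R S] [IsNoetherianRing R]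
  [IsNoetherianRing S] [Module.Flat R S] (p : Ideal R) [p.IsPrime] (q : Ideal S) [q.IsPrime]
  (hpq : p = q.comap (algebraMap R S))
  [IsArtinianRing (p.ResidueField ⊗[R] S)] [IsReduced (p.ResidueField ⊗[R] S)]

omit [IsNoetherianRing R] [IsNoetherianRing S] [Module.Flat R S] in
include hpq in
theorem map_maximalIdeal_localRingHom :
    (maximalIdeal (Localization.AtPrime p)).map
      (Localization.localRingHom p q (algebraMap R S) hpq) =
      maximalIdeal (Localization.AtPrime q) := by
  apply le_antisymm
  · haveI : IsLocalHom (Localization.localRingHom p q (algebraMap R S) hpq) :=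
      Localization.isLocalHom_localRingHom p q (algebraMap R S) hpq
    exact IsLocalRing.map_maximalIdeal_le _
  · rw [← Localization.AtPrime.map_eq_maximalIdeal (I := q), Ideal.map_le_iff_le_comap]
    intro x hx
    rw [Ideal.mem_comap]
    have h1 := mem_map_of_mem R S p q hpq.symm x hx
    rw [Ideal.map_map] at h1
    rw [← Localization.AtPrime.map_eq_maximalIdeal (I := p), Ideal.map_map]
    have h2 : (Localization.localRingHom p q (algebraMap R S) hpq).comp
        (algebraMap R (Localization.AtPrime p)) =
        (algebraMap S (Localization.AtPrime q)).comp (algebraMap R S) := by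
      ext r
      exact Localization.localRingHom_to_map p q (algebraMap R S) hpq r
    rw [h2]
    exact h1

include hpq in
theorem ringKrullDim_localization_eq :
    ringKrullDim (Localization.AtPrime q) = ringKrullDim (Localization.AtPrime p) := by
  have hflat : (Localization.localRingHom p q (algebraMap R S) hpq).Flat :=
    RingHom.Flat.localRingHom (RingHom.flat_algebraMap_iff.2 inferInstance) q p hpq
  have hm := map_maximalIdeal_localRingHom R S p q hpq
  algebraize [Localization.localRingHom p q (algebraMap R S) hpq]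
  haveI : IsLocalHom (algebraMap (Localization.AtPrime p) (Localization.AtPrime q)) :=
    Localization.isLocalHom_localRingHom p q (algebraMap R S) hpq
  exact ringKrullDim_eq_of_flat (Localization.AtPrime p) (Localization.AtPrime q) hm

include hpq in
theorem height_eq : q.height = p.height := by
  have h := ringKrullDim_localization_eq R S p q hpq
  rw [IsLocalization.AtPrime.ringKrullDim_eq_height q, IsLocalization.AtPrime.ringKrullDim_eq_height p] at h
  exact_mod_cast h

include hpq in
theorem isRegularLocalRing_localization_iff :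
    IsRegularLocalRing (Localization.AtPrime p) ↔ IsRegularLocalRing (Localization.AtPrime q) := by
  have hflat : (Localization.localRingHom p q (algebraMap R S) hpq).Flat :=
    RingHom.Flat.localRingHom (RingHom.flat_algebraMap_iff.2 inferInstance) q p hpq
  have hm := map_maximalIdeal_localRingHom R S p q hpq
  have hdim := ringKrullDim_localization_eq R S p q hpq
  algebraize [Localization.localRingHom p q (algebraMap R S) hpq]
  haveI : IsLocalHom (algebraMap (Localization.AtPrime p) (Localization.AtPrime q)) :=
    Localization.isLocalHom_localRingHom p q (algebraMap R S) hpq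
  exact Groth.Agent.Lib.Helper24.FlatCotangent.isRegularLocalRing_iff_of_flat
    (Localization.AtPrime p) (Localization.AtPrime q) hm hdim

end LocalHom

end Groth.Agent.Lib.Helper24.FlatLocalFibre
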