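import Mathlib
import Groth.Agent.S9246

/-!
# Smooth algebras over regular rings are regular (helper24)

* `isRegularLocalRing_atPrime_of_smoothAt` : `B` f.p. over a regular ring `A`, smooth at `q`
  ⇒ `B_q` is a regular local ring.
* `isRegularRing_of_smooth` : `B` smooth over a regular ring `A` ⇒ `B` is a regular ring.
-/

set_option autoImplicit false

namespace Groth.Agent.Lib.Helper24.SmoothRegular

universe u

set_option backward.isDefEq.respectTransparency false in
/-- A finitely presented algebra over a regular ring is regular at the primes where it is smooth. -/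
theorem isRegularLocalRing_atPrime_of_smoothAt (A B : Type u) [CommRing A] [CommRing B]
    [Algebra A B] [IsRegularRing A] [Algebra.FinitePresentation A B] (q : Ideal B) [q.IsPrime]
    [Algebra.IsSmoothAt A q] : IsRegularLocalRing (Localization.AtPrime q) := by
  obtain ⟨f, hf, n, alg, tower, hstd⟩ :=
    Algebra.IsSmoothAt.exists_isStandardEtale_mvPolynomial (R := A) (S := B) (p := q)
  let C := Localization.Away f
  have hdisj2 : Disjoint (Submonoid.powers f : Set B) (q : Set B) := by
    rw [Set.disjoint_left]
    rintro _ ⟨k, rfl⟩ hq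
    exact hf (Ideal.IsPrime.mem_of_pow_mem inferInstance _ hq)
  let q'' : Ideal C := q.map (algebraMap B C)
  have hq'' : q''.IsPrime := IsLocalization.isPrime_of_isPrime_disjoint _ C q inferInstance hdisj2
  have hq''c : q''.comap (algebraMap B C) = q :=
    IsLocalization.under_map_of_isPrime_disjoint _ C inferInstance hdisj2
  let G := Localization.AtPrime q''
  have hEt : Algebra.Etale (MvPolynomial (Fin n) A) C := inferInstance
  have hreg : IsRegularLocalRing
      (Localization.AtPrime (Ideal.comap (algebraMap (MvPolynomial (Fin n) A) C) q'')) :=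
    inferInstance
  have hG : IsRegularLocalRing G :=
    (Groth.Agent.S9246.result (MvPolynomial (Fin n) A) C q'').1 hreg
  have i1 : IsLocalization.AtPrime G (q''.comap (algebraMap B C)) := inferInstance
  have hc1 : (q''.comap (algebraMap B C)).primeCompl = q.primeCompl :=
    Submonoid.ext fun x => by
      rw [Ideal.mem_primeCompl_iff, Ideal.mem_primeCompl_iff, hq''c]
  have i1' : IsLocalization.AtPrime G q := by
    change IsLocalization q.primeCompl G
    rw [← hc1]
    exact i1
  let e : Localization.AtPrime q ≃ₐ[B] G := IsLocalization.algEquiv q.primeCompl _ _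
  exact IsRegularLocalRing.of_ringEquiv e.symm.toRingEquiv

/-- A smooth algebra over a regular ring is a regular ring. -/
theorem isRegularRing_of_smooth (A B : Type u) [CommRing A] [CommRing B]
    [Algebra A B] [IsRegularRing A] [Algebra.Smooth A B] : IsRegularRing B := by
  haveI : Algebra.FinitePresentation A B := inferInstance
  haveI : IsNoetherianRing B := Algebra.FiniteType.isNoetherianRing A B
  rw [isRegularRing_iff]
  intro q hq
  haveI : Algebra.IsSmoothAt A q := by
    have : Algebra.FormallySmooth B (Localization.AtPrime q) :=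
      Algebra.FormallySmooth.of_isLocalization q.primeCompl
    exact Algebra.FormallySmooth.comp A B (Localization.AtPrime q)
  exact isRegularLocalRing_atPrime_of_smoothAt A B q

open TensorProduct in
/-- Base change of a smooth map `A → B` of `k`-algebras along `k → T`: `A ⊗[k] T → B ⊗[k] T`
is smooth. -/
theorem smooth_map_right (k A B T : Type u) [CommRing k] [CommRing A] [CommRing B] [CommRing T]
    [Algebra k A] [Algebra k B] [Algebra A B] [IsScalarTower k A B] [Algebra.Smooth A B]
    [Algebra k T] :
    (Algebra.TensorProduct.map (IsScalarTower.toAlgHom k A B)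
      (AlgHom.id k T)).toRingHom.Smooth := by
  letI alg : Algebra (A ⊗[k] T) (B ⊗[k] T) :=
    (Algebra.TensorProduct.map (IsScalarTower.toAlgHom k A B) (AlgHom.id k T)).toRingHom.toAlgebra
  haveI tow : IsScalarTower A (A ⊗[k] T) (B ⊗[k] T) := IsScalarTower.of_algebraMap_eq fun b => by
    rw [RingHom.algebraMap_toAlgebra]
    simp [Algebra.TensorProduct.algebraMap_apply]
  have H : (algebraMap (A ⊗[k] T) (B ⊗[k] T)).comp
      (Algebra.TensorProduct.includeRight : T →ₐ[k] A ⊗[k] T).toRingHom =
      (Algebra.TensorProduct.includeRight : T →ₐ[k] B ⊗[k] T).toRingHom := by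
    ext t
    rw [RingHom.algebraMap_toAlgebra]
    simp
  haveI := @Algebra.IsPushout.tensorProduct_tensorProduct k T A B _ _ _ _ _ _ _ _ _ alg tow H
  have h := RingHom.Smooth.isStableUnderBaseChange A B (A ⊗[k] T) (B ⊗[k] T)
    (RingHom.smooth_algebraMap.2 inferInstance)
  rwa [RingHom.algebraMap_toAlgebra] at h

open TensorProduct in
/-- Geometric form: if `k' ⊗[k] A` is a regular ring and `B` is smooth over `A`, then
`k' ⊗[k] B` is a regular ring. -/
theorem isRegularRing_tensor_of_smooth (k A B T : Type u) [CommRing k] [CommRing A] [CommRing B]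
    [CommRing T] [Algebra k A] [Algebra k B] [Algebra A B] [IsScalarTower k A B]
    [Algebra.Smooth A B] [Algebra k T] (h : IsRegularRing (T ⊗[k] A)) :
    IsRegularRing (T ⊗[k] B) := by
  haveI hA'' : IsRegularRing (A ⊗[k] T) :=
    IsRegularRing.of_ringEquiv (Algebra.TensorProduct.comm k T A).toRingEquiv
  letI alg : Algebra (A ⊗[k] T) (B ⊗[k] T) :=
    (Algebra.TensorProduct.map (IsScalarTower.toAlgHom k A B) (AlgHom.id k T)).toRingHom.toAlgebra
  haveI : Algebra.Smooth (A ⊗[k] T) (B ⊗[k] T) := by
    apply RingHom.smooth_algebraMap.1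
    rw [RingHom.algebraMap_toAlgebra]
    exact smooth_map_right k A B T
  haveI hB'' : IsRegularRing (B ⊗[k] T) := isRegularRing_of_smooth (A ⊗[k] T) (B ⊗[k] T)
  exact IsRegularRing.of_ringEquiv (Algebra.TensorProduct.comm k B T).toRingEquiv

end Groth.Agent.Lib.Helper24.SmoothRegular
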