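import Mathlib
import Groth.Agent.Lib.Helper24.SmoothRegular
import Groth.Agent.Lib.Helper24.SmoothLocalIff
import Groth.Agent.S0564
import Groth.Agent.S0565

/-!
# Regularity along smooth maps, both directions (helper24)

Uses helper26's Serre theorems (S0564: localization of a regular local ring is regular;
S0565: flat local descent of regularity).
-/

set_option autoImplicit false

namespace Groth.Agent.Lib.Helper24.SmoothRegularIff

universe u

/-- A regular local ring is a regular ring (Serre). -/
theorem isRegularRing_of_isRegularLocalRing (R : Type u) [CommRing R] [IsRegularLocalRing R] :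
    IsRegularRing R :=
  { isRegularLocalRing_localization := fun p _ => Groth.Agent.S0564.result R p }

variable (A B : Type u) [CommRing A] [CommRing B] [Algebra A B] [Algebra.Smooth A B]

theorem isRegularLocalRing_atPrime_of_smooth (q : Ideal B) [q.IsPrime]
    (h : IsRegularLocalRing (Localization.AtPrime (q.comap (algebraMap A B)))) :
    IsRegularLocalRing (Localization.AtPrime q) := by
  obtain ⟨q', hq', ⟨e⟩⟩ := Groth.Agent.Lib.Helper24.SmoothLocalIff.exists_ringEquiv_atPrime A B q
  haveI := Groth.Agent.Lib.Helper24.SmoothLocalIff.smooth_localization A B
    (q.comap (algebraMap A B))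
  haveI : IsRegularRing (Localization.AtPrime (q.comap (algebraMap A B))) :=
    isRegularRing_of_isRegularLocalRing _
  haveI : IsRegularRing (Localization (Algebra.algebraMapSubmonoid B
      (q.comap (algebraMap A B)).primeCompl)) :=
    Groth.Agent.Lib.Helper24.SmoothRegular.isRegularRing_of_smooth
      (Localization.AtPrime (q.comap (algebraMap A B))) _
  haveI : IsRegularLocalRing (Localization.AtPrime q') :=
    IsRegularRing.isRegularLocalRing_localization q'
  exact IsRegularLocalRing.of_ringEquiv e.symm

theorem isRegularLocalRing_atPrime_of_smooth' [IsNoetherianRing A] (q : Ideal B) [q.IsPrime]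
    (h : IsRegularLocalRing (Localization.AtPrime q)) :
    IsRegularLocalRing (Localization.AtPrime (q.comap (algebraMap A B))) := by
  haveI hlo : q.LiesOver (q.comap (algebraMap A B)) := ⟨rfl⟩
  letI := Localization.AtPrime.algebraOfLiesOver (q.comap (algebraMap A B)) q
  haveI hloc : IsLocalHom (algebraMap (Localization.AtPrime (q.comap (algebraMap A B)))
      (Localization.AtPrime q)) :=
    Localization.isLocalHom_localRingHom _ q (algebraMap A B) Ideal.LiesOver.over
  haveI : Module.Flat A B := inferInstance
  haveI hflat : Module.Flat (Localization.AtPrime (q.comap (algebraMap A B)))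
      (Localization.AtPrime q) := inferInstance
  exact Groth.Agent.S0565.result (Localization.AtPrime (q.comap (algebraMap A B)))
    (Localization.AtPrime q)

theorem isRegularLocalRing_atPrime_iff_of_smooth [IsNoetherianRing A] (q : Ideal B) [q.IsPrime] :
    IsRegularLocalRing (Localization.AtPrime (q.comap (algebraMap A B))) ↔
      IsRegularLocalRing (Localization.AtPrime q) :=
  ⟨isRegularLocalRing_atPrime_of_smooth A B q, isRegularLocalRing_atPrime_of_smooth' A B q⟩

end Groth.Agent.Lib.Helper24.SmoothRegularIff
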