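import Mathlib

/-!
# Lifting algebra maps to adic completions via formal smoothness (helper24)

* `exists_lift`: `A` formally smooth over `V`, `I` an ideal of `V`; any `V`-algebra map
  `φ₀ : A/IA → C/IC` lifts to a `V`-algebra map `Â → Ĉ` of the `I`-adic completions.
* `isPrecomplete_pi`, `finite_of_quotient`: complete Nakayama.
* `finite_lift`: if `φ₀` is finite and `I` is finitely generated then the lift is finite.
-/

set_option autoImplicit false
universe u

namespace Groth.Agent.Lib.Helper24.CplLift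

open AdicCompletion

section lift

variable {V A C : Type*} [CommRing V] [CommRing A] [CommRing C] [Algebra V A] [Algebra V C]
  (I : Ideal V)

/-- A `V`-algebra map to an algebra killed by `I ^ n` kills `(IA) ^ n`. -/
theorem eq_zero_of_mem_pow {Q : Type*} [CommRing Q] [Algebra V Q] (h : A →ₐ[V] Q) (n : ℕ)
    (hQ : ∀ i ∈ I ^ n, algebraMap V Q i = 0) {a : A} (ha : a ∈ (I.map (algebraMap V A)) ^ n) :
    h a = 0 := by
  have e : (I.map (algebraMap V A)) ^ n = (I ^ n).map (algebraMap V A) :=
    (Ideal.map_pow _ _ _).symm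
  rw [e] at ha
  have h1 : ((I ^ n).map (algebraMap V A)).map h.toRingHom = ⊥ := by
    rw [Ideal.map_map, eq_bot_iff, Ideal.map_le_iff_le_comap]
    intro i hi
    rw [Ideal.mem_comap, Ideal.mem_bot]
    show h (algebraMap V A i) = 0
    rw [AlgHom.commutes]
    exact hQ i hi
  have h2 := Ideal.mem_map_of_mem h.toRingHom ha
  rw [h1, Ideal.mem_bot] at h2
  exact h2

theorem algebraMap_quot_eq_zero (n : ℕ) (i : V) (hi : i ∈ I ^ n) :
    algebraMap V (C ⧸ (I.map (algebraMap V C)) ^ n) i = 0 := by
  have e : (I.map (algebraMap V C)) ^ n = (I ^ n).map (algebraMap V C) :=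
    (Ideal.map_pow _ _ _).symm
  rw [IsScalarTower.algebraMap_apply V C (C ⧸ _), Ideal.Quotient.algebraMap_eq,
    Ideal.Quotient.eq_zero_iff_mem, e]
  exact Ideal.mem_map_of_mem _ hi

/-- The level-`n` map `A/(IA)^n → C/(IC)^n` induced by `g : A → Ĉ`. -/
noncomputable def level (g : A →ₐ[V] AdicCompletion (I.map (algebraMap V C)) C) (n : ℕ) :
    (A ⧸ (I.map (algebraMap V A)) ^ n) →ₐ[V] (C ⧸ (I.map (algebraMap V C)) ^ n) :=
  Ideal.Quotient.liftₐ ((I.map (algebraMap V A)) ^ n)
    (((evalₐ (I.map (algebraMap V C)) n).restrictScalars V).comp g)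
    (fun a ha => eq_zero_of_mem_pow I _ n (algebraMap_quot_eq_zero I n) ha)

theorem level_mk (g : A →ₐ[V] AdicCompletion (I.map (algebraMap V C)) C) (n : ℕ) (a : A) :
    level I g n (Ideal.Quotient.mk _ a) = evalₐ (I.map (algebraMap V C)) n (g a) := rfl

theorem factor_evalₐ {R : Type*} [CommRing R] (J : Ideal R) {m n : ℕ} (hle : m ≤ n)
    (x : AdicCompletion J R) :
    Ideal.Quotient.factor (Ideal.pow_le_pow_right hle) (evalₐ J n x) = evalₐ J m x := by
  obtain ⟨r, rfl⟩ := AdicCompletion.mk_surjective J R x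
  rw [evalₐ_mk, evalₐ_mk, Ideal.Quotient.factor_mk]
  exact AdicCompletion.Ideal.mk_eq_mk J hle r

/-- The maps `Â → C/(IC)^n`. -/
noncomputable def toLevel (g : A →ₐ[V] AdicCompletion (I.map (algebraMap V C)) C) (n : ℕ) :
    AdicCompletion (I.map (algebraMap V A)) A →ₐ[V] (C ⧸ (I.map (algebraMap V C)) ^ n) :=
  (level I g n).comp ((evalₐ (I.map (algebraMap V A)) n).restrictScalars V)

theorem toLevel_apply (g : A →ₐ[V] AdicCompletion (I.map (algebraMap V C)) C) (n : ℕ)
    (x : AdicCompletion (I.map (algebraMap V A)) A) (a : A)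
    (ha : evalₐ (I.map (algebraMap V A)) n x = Ideal.Quotient.mk _ a) :
    toLevel I g n x = evalₐ (I.map (algebraMap V C)) n (g a) := by
  show level I g n (evalₐ (I.map (algebraMap V A)) n x) = _
  rw [ha, level_mk]

theorem toLevel_compat (g : A →ₐ[V] AdicCompletion (I.map (algebraMap V C)) C) {m n : ℕ}
    (hle : m ≤ n) :
    (Ideal.Quotient.factorₐ V (Ideal.pow_le_pow_right hle)).comp (toLevel I g n) =
      toLevel I g m := by
  ext x
  obtain ⟨a, ha⟩ := Ideal.Quotient.mk_surjective (evalₐ (I.map (algebraMap V A)) n x)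
  have ha' : evalₐ (I.map (algebraMap V A)) m x = Ideal.Quotient.mk _ a := by
    rw [← factor_evalₐ _ hle, ← ha, Ideal.Quotient.factor_mk]
  rw [AlgHom.comp_apply, toLevel_apply I g n x a ha.symm, toLevel_apply I g m x a ha']
  exact factor_evalₐ _ hle (g a)

/-- The lift `Â → Ĉ` of the system of level maps. -/
noncomputable def lift (g : A →ₐ[V] AdicCompletion (I.map (algebraMap V C)) C) :
    AdicCompletion (I.map (algebraMap V A)) A →ₐ[V] AdicCompletion (I.map (algebraMap V C)) C :=
  AdicCompletion.liftAlgHom _ (toLevel I g) (fun hle => toLevel_compat I g hle)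

theorem evalₐ_lift (g : A →ₐ[V] AdicCompletion (I.map (algebraMap V C)) C) (n : ℕ)
    (x : AdicCompletion (I.map (algebraMap V A)) A) :
    evalₐ (I.map (algebraMap V C)) n (lift I g x) = toLevel I g n x :=
  AdicCompletion.evalₐ_liftAlgHom _ _ _ n x

theorem evalOneₐ_lift (g : A →ₐ[V] AdicCompletion (I.map (algebraMap V C)) C)
    (φ₀ : (A ⧸ I.map (algebraMap V A)) →ₐ[V] (C ⧸ I.map (algebraMap V C)))
    (hg : ((evalOneₐ (I.map (algebraMap V C))).restrictScalars V).comp g =
      φ₀.comp (Ideal.Quotient.mkₐ V (I.map (algebraMap V A))))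
    (x : AdicCompletion (I.map (algebraMap V A)) A) :
    evalOneₐ (I.map (algebraMap V C)) (lift I g x) =
      φ₀ (evalOneₐ (I.map (algebraMap V A)) x) := by
  obtain ⟨a, ha⟩ := Ideal.Quotient.mk_surjective (evalₐ (I.map (algebraMap V A)) 1 x)
  rw [← factorₐ_evalₐ_one, ← factorₐ_evalₐ_one, evalₐ_lift, toLevel_apply I g 1 x a ha.symm,
    ← ha, Ideal.Quotient.factor_mk, factorₐ_evalₐ_one]
  exact congrArg (fun F => F a) hg

variable [Algebra.FormallySmooth V A]

theorem exists_lift (φ₀ : (A ⧸ I.map (algebraMap V A)) →ₐ[V] (C ⧸ I.map (algebraMap V C))) :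
    ∃ φ : AdicCompletion (I.map (algebraMap V A)) A →ₐ[V]
        AdicCompletion (I.map (algebraMap V C)) C,
      ∀ x, evalOneₐ (I.map (algebraMap V C)) (φ x) =
        φ₀ (evalOneₐ (I.map (algebraMap V A)) x) := by
  obtain ⟨g, hg⟩ := Algebra.FormallySmooth.exists_adicCompletionEvalOneₐ_comp_eq
    (φ₀.comp (Ideal.Quotient.mkₐ V (I.map (algebraMap V A))))
  exact ⟨lift I g, evalOneₐ_lift I g φ₀ hg⟩

end lift

section nakayama

variable {R : Type*} [CommRing R] (J : Ideal R)

theorem isPrecomplete_pi [IsPrecomplete J R] (r : ℕ) : IsPrecomplete J (Fin r → R) := by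
  constructor
  intro f hf
  have hcomp : ∀ i : Fin r, ∃ L : R, ∀ n, f n i ≡ L [SMOD (J ^ n • ⊤ : Submodule R R)] := by
    intro i
    apply IsPrecomplete.prec' (I := J) (M := R) (fun n => f n i)
    intro m n hmn
    have h1 := hf hmn
    rw [SModEq.sub_mem] at h1 ⊢
    have h2 := Submodule.mem_map_of_mem (f := (LinearMap.proj i : (Fin r → R) →ₗ[R] R)) h1
    rw [Submodule.map_smul''] at h2
    exact Submodule.smul_mono le_rfl le_top h2
  choose L hL using hcomp
  refine ⟨L, fun n => ?_⟩
  rw [SModEq.sub_mem]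
  have e : f n - L = ∑ i, (f n i - L i) • (Pi.single i (1 : R) : Fin r → R) := by
    ext j
    simp [Finset.sum_apply, Pi.single_apply]
  rw [e]
  refine Submodule.sum_mem _ fun i _ => Submodule.smul_mem_smul ?_ trivial
  have h3 := hL i n
  rw [SModEq.sub_mem] at h3
  simpa using h3

/-- Complete Nakayama: a Hausdorff module over a precomplete ring whose reduction mod `J` is
generated by the images of `s` is generated by `s`. -/
theorem span_eq_top_of_quotient [IsPrecomplete J R] {N : Type*} [AddCommGroup N] [Module R N]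
    [IsHausdorff J N] {r : ℕ} (s : Fin r → N)
    (h : Submodule.span R (Set.range s) ⊔ (J • ⊤ : Submodule R N) = ⊤) :
    Submodule.span R (Set.range s) = ⊤ := by
  haveI := isPrecomplete_pi J r
  have hsurj : Function.Surjective (Fintype.linearCombination R s) := by
    apply surjective_of_mkQ_comp_surjective (I := J)
    intro y
    obtain ⟨x, rfl⟩ := Submodule.mkQ_surjective _ y
    have hx : x ∈ Submodule.span R (Set.range s) ⊔ (J • ⊤ : Submodule R N) := by
      rw [h]; trivial
    obtain ⟨u, hu, v, hv, rfl⟩ := Submodule.mem_sup.1 hx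
    rw [← Fintype.range_linearCombination] at hu
    obtain ⟨a, rfl⟩ := hu
    refine ⟨a, ?_⟩
    rw [LinearMap.comp_apply, map_add]
    have hv0 : (J • ⊤ : Submodule R N).mkQ v = 0 := (Submodule.Quotient.mk_eq_zero _).2 hv
    rw [hv0, add_zero]
  rw [← Fintype.range_linearCombination, LinearMap.range_eq_top]
  exact hsurj

end nakayama

section finite

variable {V A C : Type*} [CommRing V] [CommRing A] [CommRing C] [Algebra V A] [Algebra V C]
  (I : Ideal V)

theorem finite_of_compat' (IA : Ideal A) (IC : Ideal C) (hIA : IA = I.map (algebraMap V A))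
    (hIC : IC = I.map (algebraMap V C)) (hI : I.FG)
    (φ : AdicCompletion IA A →ₐ[V] AdicCompletion IC C)
    (φ₀ : (A ⧸ IA) →ₐ[V] (C ⧸ IC))
    (hφ : ∀ x, evalOneₐ IC (φ x) = φ₀ (evalOneₐ IA x))
    (hfin : φ₀.toRingHom.Finite) : φ.toRingHom.Finite := by
  have hIAfg : IA.FG := hIA ▸ hI.map _
  have hICfg : IC.FG := hIC ▸ hI.map _
  letI algφ : Algebra (AdicCompletion IA A) (AdicCompletion IC C) := φ.toRingHom.toAlgebra
  show Module.Finite (AdicCompletion IA A) (AdicCompletion IC C)
  set J : Ideal (AdicCompletion IA A) := IA.map (algebraMap A (AdicCompletion IA A)) with hJ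
  haveI hRc : IsAdicComplete J (AdicCompletion IA A) := AdicCompletion.isAdicComplete_self IA hIAfg
  have hCc : IsAdicComplete (IC.map (algebraMap C (AdicCompletion IC C))) (AdicCompletion IC C) :=
    AdicCompletion.isAdicComplete_self IC hICfg
  have hJmap : J.map (algebraMap (AdicCompletion IA A) (AdicCompletion IC C)) =
      IC.map (algebraMap C (AdicCompletion IC C)) := by
    show J.map φ.toRingHom = _
    rw [hJ]
    subst hIA hIC
    rw [Ideal.map_map, Ideal.map_map, Ideal.map_map]
    congr 1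
    refine RingHom.ext fun v => ?_
    simp only [RingHom.comp_apply]
    rw [← IsScalarTower.algebraMap_apply V A (AdicCompletion _ A),
      ← IsScalarTower.algebraMap_apply V C (AdicCompletion _ C)]
    exact φ.commutes v
  haveI hH : IsHausdorff J (AdicCompletion IC C) := by
    rw [← IsHausdorff.map_algebraMap_iff (S := AdicCompletion IC C), hJmap]
    exact hCc.toIsHausdorff
  -- generators
  letI algφ₀ : Algebra (A ⧸ IA) (C ⧸ IC) := φ₀.toRingHom.toAlgebra
  haveI hfin' : Module.Finite (A ⧸ IA) (C ⧸ IC) := hfin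
  obtain ⟨r, sbar, hsbar⟩ := Module.Finite.exists_fin (R := A ⧸ IA) (M := C ⧸ IC)
  choose s hs using fun i => evalOneₐ_surjective IC (sbar i)
  have hsup : Submodule.span (AdicCompletion IA A) (Set.range s) ⊔
      (J • ⊤ : Submodule (AdicCompletion IA A) (AdicCompletion IC C)) = ⊤ := by
    rw [eq_top_iff]
    intro y _
    have hy : evalOneₐ IC y ∈ Submodule.span (A ⧸ IA) (Set.range sbar) := by
      rw [hsbar]; trivial
    obtain ⟨abar, habar⟩ := (Submodule.mem_span_range_iff_exists_fun _).1 hy
    choose a ha using fun i => evalOneₐ_surjective IA (abar i)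
    have hz : y - ∑ i, a i • s i ∈
        (J • ⊤ : Submodule (AdicCompletion IA A) (AdicCompletion IC C)) := by
      rw [Ideal.smul_top_eq_map, Submodule.restrictScalars_mem, hJmap,
        ← AdicCompletion.ker_evalOneₐ_eq_map IC hICfg, RingHom.mem_ker]
      show evalOneₐ IC (y - ∑ i, a i • s i) = 0
      rw [map_sub, map_sum, ← habar, sub_eq_zero]
      refine Finset.sum_congr rfl fun i _ => ?_
      show abar i • sbar i = evalOneₐ IC (φ (a i) * s i)
      rw [map_mul, hφ, ha, hs]
      rfl
    have hsum : ∑ i, a i • s i ∈ Submodule.span (AdicCompletion IA A) (Set.range s) :=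
      Submodule.sum_mem _ fun i _ =>
        Submodule.smul_mem _ _ (Submodule.subset_span ⟨i, rfl⟩)
    have : y = ∑ i, a i • s i + (y - ∑ i, a i • s i) := by abel
    rw [this]
    exact Submodule.add_mem_sup hsum hz
  have htop := span_eq_top_of_quotient J s hsup
  exact Module.finite_def.2 (htop ▸ Submodule.fg_span (Set.finite_range s))

theorem finite_of_compat (hI : I.FG)
    (φ : AdicCompletion (I.map (algebraMap V A)) A →ₐ[V] AdicCompletion (I.map (algebraMap V C)) C)
    (φ₀ : (A ⧸ I.map (algebraMap V A)) →ₐ[V] (C ⧸ I.map (algebraMap V C)))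
    (hφ : ∀ x, evalOneₐ (I.map (algebraMap V C)) (φ x) =
      φ₀ (evalOneₐ (I.map (algebraMap V A)) x))
    (hfin : φ₀.toRingHom.Finite) : φ.toRingHom.Finite :=
  finite_of_compat' I _ _ rfl rfl hI φ φ₀ hφ hfin

end finite

end Groth.Agent.Lib.Helper24.CplLift
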