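import Mathlib
import Groth.Agent.Lib.Helper24.CplLift

/-!
# Finiteness and injectivity of maps from complete regular rings along systems of parameters
(helper24)

* `finite_of_primary`: `P → R` local homomorphism of Noetherian local rings, `P` complete,
  `𝔪_P R` is `𝔪_R`-primary and `κ(R)/κ(P)` finite ⇒ `R` is a finite `P`-module.
* `ringKrullDim_le_of_isIntegral`: `dim R ≤ dim P` for `P → R` integral.
* `injective_of_isIntegral_of_dim_le`: `P` a domain, `P → R` integral with `dim P ≤ dim R < ∞`
  ⇒ injective.
-/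

set_option autoImplicit false
universe u

namespace Groth.Agent.Lib.Helper24.SopFinite

open IsLocalRing

section finite

variable {P R : Type u} [CommRing P] [IsLocalRing P] [CommRing R] [IsLocalRing R]
  [IsNoetherianRing R] [Algebra P R] [IsLocalHom (algebraMap P R)]

omit [IsNoetherianRing R] in
theorem map_le_maximalIdeal : (maximalIdeal P).map (algebraMap P R) ≤ maximalIdeal R := by
  rw [Ideal.map_le_iff_le_comap]
  intro a ha
  rw [Ideal.mem_comap, IsLocalRing.mem_maximalIdeal]
  intro h
  exact (IsLocalRing.mem_maximalIdeal _).1 ha (isUnit_of_map_unit (algebraMap P R) a h)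

/-- `R ⧸ J` has finite length over `R` when `J` contains a power of the maximal ideal. -/
theorem isFiniteLength_quotient (J : Ideal R) (hJ : J ≠ ⊤) (N : ℕ) (hN : maximalIdeal R ^ N ≤ J) :
    IsFiniteLength R (R ⧸ J) := by
  haveI : Nontrivial (R ⧸ J) := Ideal.Quotient.nontrivial_iff.2 hJ
  haveI : IsLocalRing (R ⧸ J) := IsLocalRing.of_surjective' _ Ideal.Quotient.mk_surjective
  have hnil : IsNilpotent (maximalIdeal (R ⧸ J)) := by
    refine ⟨N, ?_⟩
    rw [← IsLocalRing.map_maximalIdeal_of_surjective _ Ideal.Quotient.mk_surjective,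
      ← Ideal.map_pow, Ideal.zero_eq_bot, eq_bot_iff]
    exact (Ideal.map_mono hN).trans (le_of_eq (Ideal.map_quotient_self J))
  haveI : IsArtinianRing (R ⧸ J) := (isArtinianRing_iff_isNilpotent_maximalIdeal _).2 hnil
  haveI : IsArtinian R (R ⧸ J) :=
    isArtinian_of_surjective_algebraMap (S := R) (R := R ⧸ J) (M := R ⧸ J)
      Ideal.Quotient.mk_surjective
  exact isFiniteLength_iff_isNoetherian_isArtinian.2 ⟨inferInstance, inferInstance⟩

theorem finite_quotient [Module.Finite (ResidueField P) (ResidueField R)]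
    (N : ℕ) (hN : maximalIdeal R ^ N ≤ (maximalIdeal P).map (algebraMap P R)) :
    Module.Finite P (R ⧸ (maximalIdeal P).map (algebraMap P R)) := by
  have hJ : (maximalIdeal P).map (algebraMap P R) ≠ ⊤ := by
    intro h
    have := map_le_maximalIdeal (P := P) (R := R)
    rw [h] at this
    exact (IsLocalRing.maximalIdeal.isMaximal R).ne_top (top_le_iff.1 this)
  have h1 := isFiniteLength_quotient _ hJ N hN
  have h2 : Module.length P (R ⧸ (maximalIdeal P).map (algebraMap P R)) ≠ ⊤ := by
    rw [IsLocalRing.length_restrictScalars P R]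
    exact WithTop.mul_ne_top (Module.length_ne_top_iff.2 h1) Module.length_ne_top
  have h3 := Module.length_ne_top_iff.1 h2
  haveI := (isFiniteLength_iff_isNoetherian_isArtinian.1 h3).1
  infer_instance

/-- **Finiteness along a system of parameters.** -/
theorem finite_of_primary [IsAdicComplete (maximalIdeal P) P]
    [Module.Finite (ResidueField P) (ResidueField R)]
    (N : ℕ) (hN : maximalIdeal R ^ N ≤ (maximalIdeal P).map (algebraMap P R)) :
    Module.Finite P R := by
  classical
  haveI := finite_quotient (P := P) (R := R) N hN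
  obtain ⟨n, s, hs⟩ := Module.Finite.exists_fin (R := P)
    (M := R ⧸ (maximalIdeal P).map (algebraMap P R))
  choose t ht using fun i => Ideal.Quotient.mk_surjective (s i)
  haveI : IsHausdorff (maximalIdeal P) R := by
    constructor
    intro x hx
    apply IsHausdorff.haus' (I := maximalIdeal R)
    intro k
    have h1 := hx k
    rw [SModEq.zero] at h1 ⊢
    rw [Ideal.smul_top_eq_map] at h1
    have h2 : x ∈ (maximalIdeal P ^ k).map (algebraMap P R) := h1
    rw [Ideal.map_pow] at h2
    rw [smul_eq_mul, Ideal.mul_top]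
    exact Ideal.pow_right_mono map_le_maximalIdeal k h2
  have hspan : Submodule.span P (Set.range t) ⊔ (maximalIdeal P • ⊤ : Submodule P R) = ⊤ := by
    rw [eq_top_iff]
    intro y _
    have hy : Ideal.Quotient.mk ((maximalIdeal P).map (algebraMap P R)) y ∈
        Submodule.span P (Set.range s) := by rw [hs]; trivial
    rw [Submodule.mem_span_range_iff_exists_fun] at hy
    obtain ⟨c, hc⟩ := hy
    have h1 : y - ∑ i, c i • t i ∈ (maximalIdeal P).map (algebraMap P R) := by
      rw [← Ideal.Quotient.eq_zero_iff_mem, map_sub, ← hc, map_sum]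
      rw [sub_eq_zero]
      refine Finset.sum_congr rfl fun i _ => ?_
      rw [← ht i]
      rfl
    have h2 : y = ∑ i, c i • t i + (y - ∑ i, c i • t i) := by ring
    rw [h2]
    refine Submodule.add_mem _ (Submodule.mem_sup_left ?_) (Submodule.mem_sup_right ?_)
    · exact Submodule.sum_mem _ fun i _ =>
        Submodule.smul_mem _ _ (Submodule.subset_span ⟨i, rfl⟩)
    · rw [Ideal.smul_top_eq_map]
      exact h1
  have := Groth.Agent.Lib.Helper24.CplLift.span_eq_top_of_quotient (maximalIdeal P) t hspan
  exact ⟨⟨Finset.univ.image t, by rw [Finset.coe_image, Finset.coe_univ, Set.image_univ, this]⟩⟩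

end finite

section dim

theorem ringKrullDim_le_of_isIntegral {P R : Type*} [CommRing P] [CommRing R] (f : P →+* R)
    (hf : f.IsIntegral) : ringKrullDim R ≤ ringKrullDim P := by
  letI : Algebra P R := f.toAlgebra
  refine Order.krullDim_le_of_strictMono (f := PrimeSpectrum.comap f) ?_
  intro p q hpq
  rw [← PrimeSpectrum.asIdeal_lt_asIdeal] at hpq ⊢
  obtain ⟨x, hxq, hxp⟩ := SetLike.exists_of_lt hpq
  exact Ideal.comap_lt_comap_of_integral_mem_sdiff (R := P) hpq.le ⟨hxq, hxp⟩ (hf x)

theorem injective_of_isIntegral_of_dim_le {P R : Type*} [CommRing P] [IsDomain P] [CommRing R]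
    [Nontrivial R] [FiniteRingKrullDim R] (f : P →+* R) (hf : f.IsIntegral)
    (hdim : ringKrullDim P ≤ ringKrullDim R) : Function.Injective f := by
  rw [injective_iff_map_eq_zero]
  intro x hx
  by_contra hx0
  -- `f` factors through `P ⧸ (x)`
  have hle : Ideal.span {x} ≤ RingHom.ker f := by
    rw [Ideal.span_singleton_le_iff_mem]; exact hx
  let g : P ⧸ Ideal.span {x} →+* R := Ideal.Quotient.lift _ f (fun a ha => hle ha)
  have hg : g.IsIntegral := by
    have : g.comp (Ideal.Quotient.mk _) = f := by ext; rfl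
    exact RingHom.IsIntegral.tower_top (Ideal.Quotient.mk _) g (by rw [this]; exact hf)
  have h1 := ringKrullDim_le_of_isIntegral g hg
  have h2 : ringKrullDim (P ⧸ Ideal.span {x}) + 1 ≤ ringKrullDim P :=
    ringKrullDim_quotient_succ_le_of_nonZeroDivisor (mem_nonZeroDivisors_of_ne_zero hx0)
  have h3 : ringKrullDim R + 1 ≤ ringKrullDim R :=
    (add_le_add_left h1 1).trans (h2.trans hdim)
  have hne_top : ringKrullDim R ≠ ⊤ := ringKrullDim_ne_top
  have hne_bot : ringKrullDim R ≠ ⊥ := ringKrullDim_ne_bot
  obtain ⟨n, hn⟩ : ∃ n : ℕ, ringKrullDim R = n := by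
    cases h : ringKrullDim R with
    | bot => exact absurd h hne_bot
    | coe a =>
      cases ha : a with
      | top => rw [ha] at h; exact absurd h hne_top
      | coe n => exact ⟨n, rfl⟩
  rw [hn] at h3
  have : ((n + 1 : ℕ) : WithBot ℕ∞) ≤ (n : WithBot ℕ∞) := by exact_mod_cast h3
  have h4 : n + 1 ≤ n := by exact_mod_cast this
  omega

end dim

end Groth.Agent.Lib.Helper24.SopFinite
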