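import Mathlib
import Groth.Agent.Lib.Helper24.CatEquidim2
import Groth.Agent.Lib.Helper24.SopFinite

/-!
# Regularity at unramified primes (helper24), part 1: heights along finite injective maps

* `ringKrullDim_le_of_isIntegral_of_injective` (going up; same proof as helper19's `FibreCone2`);
* `height_le_height_comap_of_surjective`: `ht 𝔓 ≤ ht (f⁻¹ 𝔓)` for a surjective ring map `f`;
* `height_add_dim_of_domain`: `ht 𝔓 + dim D/𝔓 = dim D` in a catenary Noetherian local domain;
* `height_comap_eq`: for a finite injective map `P → D` of catenary Noetherian local domains,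
  `ht (𝔓 ∩ P) = ht 𝔓`.
-/

set_option autoImplicit false
universe u

open IsLocalRing

namespace Groth.Agent.Lib.Helper24.RegUnram

theorem ringKrullDim_le_of_isIntegral_of_injective {A B : Type*} [CommRing A] [CommRing B]
    (f : A →+* B) (hf : f.IsIntegral) (hinj : Function.Injective f) :
    ringKrullDim A ≤ ringKrullDim B := by
  algebraize [f]
  have : Algebra.IsIntegral A B := ⟨hf⟩
  have hinj' : Function.Injective (algebraMap A B) := hinj
  unfold ringKrullDim Order.krullDim
  apply iSup_le
  intro l
  obtain ⟨P, -, hP, hPl⟩ := Ideal.exists_ideal_over_prime_of_isIntegral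
    (S := B) l.head.asIdeal (⊥ : Ideal B) (by
      rw [← RingHom.ker_eq_comap_bot, (RingHom.injective_iff_ker_eq_bot _).mp hinj']
      exact bot_le)
  have : P.LiesOver l.head.asIdeal := ⟨hPl.symm⟩
  obtain ⟨L, hL, -, -⟩ := Ideal.exists_ltSeries_of_hasGoingUp l P
  rw [← hL]
  exact le_iSup (fun p : LTSeries (PrimeSpectrum B) => (p.length : WithBot ℕ∞)) L

theorem ringKrullDim_eq_of_isIntegral_of_injective {A B : Type*} [CommRing A] [CommRing B]
    (f : A →+* B) (hf : f.IsIntegral) (hinj : Function.Injective f) :
    ringKrullDim A = ringKrullDim B :=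
  le_antisymm (ringKrullDim_le_of_isIntegral_of_injective f hf hinj)
    (Groth.Agent.Lib.Helper24.SopFinite.ringKrullDim_le_of_isIntegral f hf)

theorem height_le_height_comap_of_surjective {A D : Type*} [CommRing A] [CommRing D]
    (f : A →+* D) (hf : Function.Surjective f) (Q : Ideal D) [Q.IsPrime] :
    Q.height ≤ (Q.comap f).height := by
  have h1 : Q.height = Order.height (⟨Q, inferInstance⟩ : PrimeSpectrum D) :=
    PrimeSpectrum.height_eq_orderHeight ⟨Q, inferInstance⟩
  have h2 : (Q.comap f).height = Order.height (PrimeSpectrum.comap f ⟨Q, inferInstance⟩) :=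
    PrimeSpectrum.height_eq_orderHeight (PrimeSpectrum.comap f ⟨Q, inferInstance⟩)
  rw [h1, h2]
  apply Order.height_le_height_apply_of_strictMono
  intro a b hab
  rw [← PrimeSpectrum.asIdeal_lt_asIdeal] at hab ⊢
  refine lt_of_le_of_ne (Ideal.comap_mono hab.le) ?_
  intro h
  have := Ideal.comap_injective_of_surjective f hf h
  exact hab.ne this

section domain

variable (D : Type u) [CommRing D] [IsDomain D] [IsLocalRing D] [IsNoetherianRing D]

theorem height_add_dim_of_domain (hD : CAlg.IsCatenary D) (Q : Ideal D) [Q.IsPrime] :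
    (Q.height : WithBot ℕ∞) + ringKrullDim (D ⧸ Q) = ringKrullDim D := by
  obtain ⟨p₀, hp₀, -, h⟩ :=
    Groth.Agent.Lib.Helper24.CatEquidim.exists_minimalPrimes_height_add_dim D hD Q
  rw [IsDomain.minimalPrimes_eq_singleton_bot, Set.mem_singleton_iff] at hp₀
  subst hp₀
  rw [h]
  exact ringKrullDim_eq_of_ringEquiv (RingEquiv.quotientBot D)

end domain

section finite

variable (P D : Type u) [CommRing P] [CommRing D] [IsDomain P] [IsDomain D]
  [IsLocalRing P] [IsLocalRing D] [IsNoetherianRing P] [IsNoetherianRing D]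
  [Algebra P D] [Module.Finite P D]

theorem height_comap_eq (hinj : Function.Injective (algebraMap P D))
    (hP : CAlg.IsCatenary P) (hD : CAlg.IsCatenary D) (Q : Ideal D) [Q.IsPrime] :
    (Q.comap (algebraMap P D)).height = Q.height := by
  have hint : (algebraMap P D).IsIntegral := Algebra.IsIntegral.isIntegral
  have e1 := height_add_dim_of_domain D hD Q
  have e2 := height_add_dim_of_domain P hP (Q.comap (algebraMap P D))
  have e3 : ringKrullDim P = ringKrullDim D :=
    ringKrullDim_eq_of_isIntegral_of_injective _ hint hinj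
  have e4 : ringKrullDim (P ⧸ Q.comap (algebraMap P D)) = ringKrullDim (D ⧸ Q) := by
    refine ringKrullDim_eq_of_isIntegral_of_injective
      (Ideal.quotientMap Q (algebraMap P D) le_rfl) ?_ ?_
    · exact RingHom.IsIntegral.quotient (algebraMap P D) hint
    · exact Ideal.quotientMap_injective
  obtain ⟨N, hN⟩ := Groth.Agent.Lib.Helper24.CatEquidim.exists_nat_eq_ringKrullDim (D ⧸ Q)
  rw [e4, e3, ← e1, hN] at e2
  have e5 : ((Q.comap (algebraMap P D)).height : WithBot ℕ∞) = (Q.height : WithBot ℕ∞) := by
    rw [add_comm, add_comm (Q.height : WithBot ℕ∞)] at e2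
    exact Groth.Agent.Lib.Helper24.CatEquidim.add_left_cancel_nat N _ _ e2
  exact_mod_cast e5

end finite

end Groth.Agent.Lib.Helper24.RegUnram
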