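import Mathlib
import Groth.Prelude.Def_CAlg
import Groth.Agent.Lib.Helper24.DepthFlat
import Groth.Agent.Lib.Helper24.HensDepth

set_option autoImplicit false

namespace Groth.Agent.Lib.Helper24.AssDepth

open IsLocalRing RingTheory.Sequence TensorProduct

universe u

/-- For a Noetherian local ring, the maximal ideal is an associated prime iff the depth is zero. -/
theorem maximalIdeal_mem_associatedPrimes_iff (B : Type u) [CommRing B] [IsLocalRing B]
    [IsNoetherianRing B] :
    maximalIdeal B ∈ associatedPrimes B B ↔ LocCoh.depth B B = 0 := by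
  rw [AssociatedPrimes.mem_iff, isAssociatedPrime_iff]
  constructor
  · rintro ⟨-, a, ha⟩
    rw [Groth.Agent.Lib.Helper24.DepthFlat.depth_eq_iSup]
    apply le_antisymm _ zero_le
    refine iSup₂_le fun rs hrs => ?_
    rcases rs with _ | ⟨x, rs⟩
    · simp
    · exfalso
      have hx : x ∈ maximalIdeal B := hrs.2 x (List.mem_cons_self)
      have hreg : IsSMulRegular B x := ((isWeaklyRegular_cons_iff B x rs).1 hrs.1).1
      have hxa : x ∈ Submodule.colon (⊥ : Submodule B B) {a} := ha ▸ hx
      rw [Submodule.mem_colon_singleton, Submodule.mem_bot] at hxa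
      have ha0 : a = 0 := hreg (by show x • a = x • 0; rw [hxa, smul_zero])
      have : (1 : B) ∈ maximalIdeal B := by
        rw [ha, Submodule.mem_colon_singleton, ha0, smul_zero]
        exact Submodule.zero_mem _
      exact (Ideal.ne_top_iff_one _).1 (maximalIdeal.isMaximal B).ne_top this
  · intro h0
    refine ⟨inferInstance, ?_⟩
    have hno : ¬ ∃ r ∈ maximalIdeal B,
        IsSMulRegular (B ⧸ ((⊥ : Ideal B) • ⊤ : Submodule B B)) r := by
      rintro ⟨r, hr, hreg⟩
      have hreg' : IsSMulRegular B r := by
        have e : (B ⧸ ((⊥ : Ideal B) • ⊤ : Submodule B B)) ≃ₗ[B] B :=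
          (Submodule.quotEquivOfEqBot _ (by rw [Submodule.bot_smul]))
        exact (e.isSMulRegular_congr r).1 hreg
      have h1 : (1 : ℕ∞) ≤ LocCoh.depth B B := by
        rw [Groth.Agent.Lib.Helper24.DepthFlat.depth_eq_iSup]
        refine le_iSup₂_of_le [r] ⟨?_, ?_⟩ (by simp)
        · rw [isWeaklyRegular_cons_iff]
          exact ⟨hreg', IsWeaklyRegular.nil _ _⟩
        · simpa using hr
      rw [h0] at h1
      exact absurd h1 (by simp)
    obtain ⟨a, ha, hma⟩ := Groth.Agent.Lib.Helper24.DepthFlat.exists_socle B ⊥ hno
    refine ⟨a, ?_⟩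
    apply le_antisymm
    · intro r hr
      rw [Submodule.mem_colon_singleton, Submodule.mem_bot]
      exact hma r hr
    · apply IsLocalRing.le_maximalIdeal
      rw [Ne, Ideal.eq_top_iff_one, Submodule.mem_colon_singleton, one_smul]
      exact ha


theorem mem_associatedPrimes_iff_maximalIdeal (A : Type u) [CommRing A] [IsNoetherianRing A]
    (P : Ideal A) [P.IsPrime] :
    P ∈ associatedPrimes A A ↔
      maximalIdeal (Localization.AtPrime P) ∈
        associatedPrimes (Localization.AtPrime P) (Localization.AtPrime P) := by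
  have h := Module.associatedPrimes.preimage_comap_associatedPrimes_eq_associatedPrimes_of_isLocalizedModule
    P.primeCompl (R' := Localization.AtPrime P)
    (Algebra.linearMap A (Localization.AtPrime P))
  rw [← h, Set.mem_preimage]
  have h2 : Ideal.comap (algebraMap A (Localization.AtPrime P)) (maximalIdeal (Localization.AtPrime P)) = P :=
    Localization.AtPrime.under_maximalIdeal (I := P)
  rw [h2]

theorem mem_associatedPrimes_iff_depth_eq_zero (A : Type u) [CommRing A] [IsNoetherianRing A]
    (P : Ideal A) [P.IsPrime] :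
    P ∈ associatedPrimes A A ↔
      LocCoh.depth (Localization.AtPrime P) (Localization.AtPrime P) = 0 := by
  rw [mem_associatedPrimes_iff_maximalIdeal, maximalIdeal_mem_associatedPrimes_iff]


/-- Associated primes along a flat map with reduced Artinian fibres. -/
theorem mem_associatedPrimes_iff_comap (R S : Type u) [CommRing R] [CommRing S] [Algebra R S]
    [IsNoetherianRing R] [IsNoetherianRing S] [Module.Flat R S]
    (hfib : ∀ (p : Ideal R) [p.IsPrime],
      IsArtinianRing (p.ResidueField ⊗[R] S) ∧ IsReduced (p.ResidueField ⊗[R] S))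
    (P : Ideal S) [P.IsPrime] :
    P ∈ associatedPrimes S S ↔ P.comap (algebraMap R S) ∈ associatedPrimes R R := by
  haveI := (hfib (P.comap (algebraMap R S))).1
  haveI := (hfib (P.comap (algebraMap R S))).2
  rw [mem_associatedPrimes_iff_depth_eq_zero, mem_associatedPrimes_iff_depth_eq_zero,
    Groth.Agent.Lib.Helper24.HensDepth.depth_localization_eq R S (P.comap (algebraMap R S)) P rfl]

end Groth.Agent.Lib.Helper24.AssDepth
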