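import Mathlib
import Groth.Agent.Lib.Helper24.RkDescent
import Groth.Agent.Lib.Helper24.NormalDescent
import Groth.Agent.Lib.Helper24.NormalAscent
import Groth.Agent.Lib.Helper15.Regular
import Groth.Agent.Lib.Helper26.RegularNormal

/-!
# Descent of regularity; regular rings are reduced and normal (helper24)
-/

set_option autoImplicit false
universe u
open TensorProduct IsLocalRing LocCoh

namespace Groth.Agent.Lib.Helper24.FormalFibreDescent

/-- Regularity of rings descends along faithfully flat maps. -/
theorem isRegularRing_of_faithfullyFlat (R S : Type u) [CommRing R] [CommRing S] [Algebra R S]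
    [Module.FaithfullyFlat R S] [hS : IsRegularRing S] : IsRegularRing R := by
  haveI : IsNoetherianRing R :=
    Groth.Agent.Lib.Helper24.NoethLimit.isNoetherianRing_of_faithfullyFlat R S
  refine { isRegularLocalRing_localization := fun p _ => ?_ }
  obtain ⟨k, hk⟩ : ∃ k : ℕ, (k : ℕ∞) = p.height :=
    ENat.ne_top_iff_exists.mp Ideal.height_ne_top_of_isPrime
  exact Groth.Agent.Lib.Helper24.RkDescent.hasRk_of_faithfullyFlat R S k
    (fun q _ _ => hS.isRegularLocalRing_localization q) p (le_of_eq hk.symm)

theorem isRegularRing_of_faithfullyFlat_ringHom {R S : Type u} [CommRing R] [CommRing S]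
    (f : R →+* S) (hf : f.FaithfullyFlat) [hS : IsRegularRing S] : IsRegularRing R := by
  letI : Algebra R S := f.toAlgebra
  haveI : Module.FaithfullyFlat R S := hf
  exact isRegularRing_of_faithfullyFlat R S

/-- A regular ring is a normal ring. -/
theorem isNormalRing_of_isRegularRing (R : Type u) [CommRing R] [hR : IsRegularRing R] :
    EGA4.IsNormalRing R := by
  intro p _
  haveI := hR.isRegularLocalRing_localization p
  exact ⟨Groth.Agent.Lib.helper15.isDomain_of_isRegularLocalRing _,
    Groth.Agent.Lib.helper26.RegNormal.isIntegrallyClosed _⟩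

/-- A regular ring is reduced. -/
theorem isReduced_of_isRegularRing (R : Type u) [CommRing R] [hR : IsRegularRing R] :
    IsReduced R := by
  apply isReduced_ofLocalizationMaximal
  intro p hp
  haveI := hR.isRegularLocalRing_localization p
  haveI : IsDomain (Localization.AtPrime p) :=
    Groth.Agent.Lib.helper15.isDomain_of_isRegularLocalRing _
  infer_instance

end Groth.Agent.Lib.Helper24.FormalFibreDescent
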