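import Groth.Agent.Lib.Helper24.GeomFG3
import Groth.Agent.Lib.Helper24.FibLoc
import Groth.Agent.Lib.Helper24.SmoothRegular
import Groth.Agent.Lib.Helper24.SmoothNormal
import Groth.Agent.Lib.Helper24.FormalFibreDescent

/-!
# Geometric properties over a field: finite / finite purely inseparable / finitely generated
extensions (EGA IV 6.7.7), and invariance under finitely generated base field extension
(EGA IV 6.7.8 type statements) (helper24)

For a ring property `P` that is `GeomStable` (iso-invariant, stable under localization, ascends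
along smooth maps, descends along faithfully flat maps):

* `geom_iff_pi`, `geom_iff_fg`: "`P (k' ⊗[k] S)` for all finite `k'/k`" ⇔ same for finite purely
  inseparable `k'/k` ⇔ same for all essentially finitely generated fields `K/k`.
* `geom_iff_baseChange`: for `K/k` essentially of finite type, geometric `P` of `S` over `k` ⇔
  geometric `P` of `K ⊗[k] S` over `K`.
* `geomStable_isRegularRing`, `geomStable_isNormal`.
-/

set_option autoImplicit false
universe u

open TensorProduct

namespace Groth.Agent.Lib.Helper24.GeomFG

theorem geomStable_isRegularRing : GeomStable (fun R _ => IsRegularRing R) where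
  iso := Groth.Agent.Lib.Helper24.FibLoc.locStable_isRegularRing.iso
  loc := Groth.Agent.Lib.Helper24.FibLoc.locStable_isRegularRing.loc
  smooth := by
    intro A B _ _ _ _ h
    haveI := h
    exact Groth.Agent.Lib.Helper24.SmoothRegular.isRegularRing_of_smooth A B
  desc := by
    intro A B _ _ _ _ h
    haveI := h
    exact Groth.Agent.Lib.Helper24.FormalFibreDescent.isRegularRing_of_faithfullyFlat A B

theorem locStable_isNormal : Groth.Agent.Lib.Helper24.FibLoc.LocStable
    (fun R _ => ∀ (p : Ideal R) [p.IsPrime],
      IsDomain (Localization.AtPrime p) ∧ IsIntegrallyClosed (Localization.AtPrime p)) :=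
  Groth.Agent.Lib.Helper24.FibLoc.locStable_of_local
    (fun R _ => IsDomain R ∧ IsIntegrallyClosed R)
    (fun R R' _ _ e h => by
      haveI := h.1
      haveI := h.2
      haveI : IsDomain R' := e.symm.injective.isDomain e.symm.toRingHom
      exact ⟨inferInstance, IsIntegrallyClosed.of_equiv e⟩)

theorem geomStable_isNormal : GeomStable
    (fun R _ => ∀ (p : Ideal R) [p.IsPrime],
      IsDomain (Localization.AtPrime p) ∧ IsIntegrallyClosed (Localization.AtPrime p)) where
  iso := locStable_isNormal.iso
  loc := locStable_isNormal.loc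
  smooth := by
    intro A B _ _ _ _ h q hq
    exact Groth.Agent.Lib.Helper24.SmoothNormal.isDomain_isIntegrallyClosed_atPrime_of_smooth A B q
      (h _).1 (h _).2
  desc := by
    intro A B _ _ _ _ h p hp
    exact Groth.Agent.Lib.Helper24.SmoothNormal.isDomain_isIntegrallyClosed_atPrime_of_faithfullyFlat
      A B h p

section general

variable {P : ∀ (R : Type u) [CommRing R], Prop} (hP : GeomStable P)
  (k S : Type u) [Field k] [CommRing S] [Algebra k S]

include hP

/-- finite ⇔ finite purely inseparable. -/
theorem geom_iff_pi :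
    (∀ (k' : Type u) [Field k'] [Algebra k k'], Module.Finite k k' → P (k' ⊗[k] S)) ↔
      ∀ (k' : Type u) [Field k'] [Algebra k k'], Module.Finite k k' → IsPurelyInseparable k k' →
        P (k' ⊗[k] S) := by
  constructor
  · intro h k' _ _ hfin _
    exact h k' hfin
  · intro h k' _ _ hfin
    haveI := hfin
    exact of_fg hP k S h k'

/-- finite ⇔ essentially finitely generated. -/
theorem geom_iff_fg :
    (∀ (k' : Type u) [Field k'] [Algebra k k'], Module.Finite k k' → P (k' ⊗[k] S)) ↔
      ∀ (K : Type u) [Field K] [Algebra k K], Algebra.EssFiniteType k K → P (K ⊗[k] S) := by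
  constructor
  · intro h K _ _ hK
    haveI := hK
    exact of_fg hP k S (fun l _ _ hfin _ => h l hfin) K
  · intro h k' _ _ hfin
    haveI := hfin
    exact h k' inferInstance

end general

/-- A compositum of `K` and a finite extension `k'` of `k`, finite over `K`. -/
theorem exists_compositum (k K k' : Type u) [Field k] [Field K] [Field k'] [Algebra k K]
    [Algebra k k'] [Module.Finite k k'] :
    ∃ (L : Type u) (_ : Field L) (_ : Algebra k L) (_ : Algebra K L) (_ : Algebra k' L)
      (_ : IsScalarTower k K L) (_ : IsScalarTower k k' L), Module.Finite K L := by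
  obtain ⟨m, hm⟩ := Ideal.exists_maximal (K ⊗[k] k')
  letI : Field ((K ⊗[k] k') ⧸ m) := Ideal.Quotient.field m
  letI : Algebra k' ((K ⊗[k] k') ⧸ m) :=
    ((Ideal.Quotient.mk m).comp
      (Algebra.TensorProduct.includeRight (R := k) (A := K) (B := k')).toRingHom).toAlgebra
  refine ⟨(K ⊗[k] k') ⧸ m, inferInstance, inferInstance, inferInstance, inferInstance,
    inferInstance, ?_, inferInstance⟩
  refine IsScalarTower.of_algebraMap_eq' ?_
  ext c
  simp only [RingHom.algebraMap_toAlgebra, RingHom.comp_apply, AlgHom.toRingHom_eq_coe,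
    RingHom.coe_coe, Algebra.TensorProduct.includeRight_apply]
  rw [IsScalarTower.algebraMap_apply k (K ⊗[k] k') ((K ⊗[k] k') ⧸ m)]
  rw [Ideal.Quotient.algebraMap_eq]
  congr 1
  rw [Algebra.algebraMap_eq_smul_one, Algebra.algebraMap_eq_smul_one,
    Algebra.TensorProduct.one_def, TensorProduct.tmul_smul]

section baseChange

variable {P : ∀ (R : Type u) [CommRing R], Prop} (hP : GeomStable P)
  (k S : Type u) [Field k] [CommRing S] [Algebra k S]
  (K : Type u) [Field K] [Algebra k K] [Algebra.EssFiniteType k K]

include hP

/-- Geometric `P` is invariant under essentially finitely generated extension of the base field. -/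
theorem geom_iff_baseChange :
    (∀ (k' : Type u) [Field k'] [Algebra k k'], Module.Finite k k' → P (k' ⊗[k] S)) ↔
      ∀ (K' : Type u) [Field K'] [Algebra K K'], Module.Finite K K' → P (K' ⊗[K] (K ⊗[k] S)) := by
  constructor
  · intro h K' _ _ hfin
    haveI := hfin
    letI : Algebra k K' := ((algebraMap K K').comp (algebraMap k K)).toAlgebra
    haveI : IsScalarTower k K K' := IsScalarTower.of_algebraMap_eq' rfl
    haveI : Algebra.EssFiniteType k K' := Algebra.EssFiniteType.comp k K K'
    have h1 : P (K' ⊗[k] S) := (geom_iff_fg hP k S).1 h K' inferInstance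
    exact hP.iso _ _ (Algebra.TensorProduct.cancelBaseChange k K K K' S).symm.toRingEquiv h1
  · intro h k' _ _ hfin
    haveI := hfin
    obtain ⟨L, _, _, _, _, _, _, hL⟩ := exists_compositum k K k'
    have h1 : P (L ⊗[K] (K ⊗[k] S)) := h L hL
    have h2 : P (L ⊗[k] S) :=
      hP.iso _ _ (Algebra.TensorProduct.cancelBaseChange k K K L S).toRingEquiv h1
    have h3 : P (L ⊗[k'] (k' ⊗[k] S)) :=
      hP.iso _ _ (Algebra.TensorProduct.cancelBaseChange k k' k' L S).symm.toRingEquiv h2
    have h4 : P ((k' ⊗[k] S) ⊗[k'] L) :=
      hP.iso _ _ (Algebra.TensorProduct.comm k' L (k' ⊗[k] S)).toRingEquiv h3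
    exact hP.desc (k' ⊗[k] S) ((k' ⊗[k] S) ⊗[k'] L) h4

end baseChange

end Groth.Agent.Lib.Helper24.GeomFG
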