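import Groth.Agent.Lib.Helper24.GeomLim2
import Groth.Agent.Lib.Helper24.GeomFG4
import Groth.Agent.Lib.Helper24.FibreRegular
import Groth.Agent.Lib.Helper24.NormalAscent
import Groth.Agent.Lib.Helper24.HensFibre

/-!
# Geometric regularity / normality: arbitrary field extensions and tensor products (helper24)

* `isNormal_tensor_of_geom`: a geometrically normal `k`-algebra `T` stays normal after an arbitrary
  field extension `K/k`.
* `isRegularRing_tensor_of_geom`: same for regular, provided `K ⊗[k] T` is Noetherian.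
* `isRegularRing_of_flat_of_fibres`: ascent of regularity along flat maps with regular fibre rings.
* `isRegularRing_tensor`, `isNormal_tensor`: `S` regular (normal), `T` geometrically regular
  (normal) ⇒ `S ⊗[k] T` regular (normal), assuming it is Noetherian (EGA IV 6.7.4 / 6.14 type results).
* `geomRegular_tensor`, `geomNormal_tensor`.
-/

set_option autoImplicit false
universe u

open TensorProduct

namespace Groth.Agent.Lib.Helper24.GeomLim

open Groth.Agent.Lib.Helper24.GeomFG

section

variable (k T : Type u) [Field k] [CommRing T] [Algebra k T]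

theorem isNormal_tensor_of_geom
    (h : ∀ (k' : Type u) [Field k'] [Algebra k k'], Module.Finite k k' →
      ∀ (p : Ideal (k' ⊗[k] T)) [p.IsPrime],
        IsDomain (Localization.AtPrime p) ∧ IsIntegrallyClosed (Localization.AtPrime p))
    (K : Type u) [Field K] [Algebra k K] (q : Ideal (K ⊗[k] T)) [q.IsPrime] :
    IsDomain (Localization.AtPrime q) ∧ IsIntegrallyClosed (Localization.AtPrime q) :=
  isNormal_tensor_of_fg k K T
    (fun E _ _ hE => (geom_iff_fg geomStable_isNormal k T).1 h E hE) q

theorem isRegularRing_tensor_of_geom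
    (h : ∀ (k' : Type u) [Field k'] [Algebra k k'], Module.Finite k k' →
      IsRegularRing (k' ⊗[k] T))
    (K : Type u) [Field K] [Algebra k K] [IsNoetherianRing (K ⊗[k] T)] :
    IsRegularRing (K ⊗[k] T) :=
  isRegularRing_tensor_of_fg k K T
    (fun E _ _ hE => (geom_iff_fg geomStable_isRegularRing k T).1 h E hE)

end

/-- Regularity ascends along flat maps with regular fibre rings. -/
theorem isRegularRing_of_flat_of_fibres (R S : Type u) [CommRing R] [CommRing S] [Algebra R S]
    [IsRegularRing R] [IsNoetherianRing S] [Module.Flat R S]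
    (hfib : ∀ (p : Ideal R) [p.IsPrime], IsRegularRing (p.Fiber S)) : IsRegularRing S := by
  rw [isRegularRing_iff]
  intro Q hQ
  haveI : IsRegularLocalRing (Localization.AtPrime (Q.under R)) :=
    IsRegularRing.isRegularLocalRing_localization _
  haveI := hfib (Q.under R)
  exact Groth.Agent.Lib.Helper24.FibreRegular.isRegularLocalRing_atPrime_of_fibre R S (Q.under R) Q

section tensor

variable (k S T : Type u) [Field k] [CommRing S] [CommRing T] [Algebra k S] [Algebra k T]

/-- The fibre of `S → S ⊗[k] T` at `p` is `κ(p) ⊗[k] T`. -/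
noncomputable def fibreEquiv (p : Ideal S) [p.IsPrime] :
    p.Fiber (S ⊗[k] T) ≃+* p.ResidueField ⊗[k] T :=
  (Algebra.TensorProduct.cancelBaseChange k S S p.ResidueField T).toRingEquiv

theorem isRegularRing_tensor [IsRegularRing S] [IsNoetherianRing (S ⊗[k] T)]
    (hT : ∀ (k' : Type u) [Field k'] [Algebra k k'], Module.Finite k k' →
      IsRegularRing (k' ⊗[k] T)) : IsRegularRing (S ⊗[k] T) := by
  refine isRegularRing_of_flat_of_fibres S (S ⊗[k] T) ?_
  intro p hp
  haveI h1 : IsNoetherianRing (p.Fiber (S ⊗[k] T)) :=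
    Groth.Agent.Lib.Helper24.HensFibre.isNoetherianRing_fibre S (S ⊗[k] T) p
  haveI h2 : IsNoetherianRing (p.ResidueField ⊗[k] T) :=
    isNoetherianRing_of_ringEquiv _ (fibreEquiv k S T p)
  haveI := isRegularRing_tensor_of_geom k T hT p.ResidueField
  exact IsRegularRing.of_ringEquiv (fibreEquiv k S T p).symm

theorem isNormal_tensor [IsNoetherianRing S] [IsNoetherianRing (S ⊗[k] T)]
    (hS : EGA4.IsNormalRing S)
    (hT : ∀ (k' : Type u) [Field k'] [Algebra k k'], Module.Finite k k' →
      EGA4.IsNormalRing (k' ⊗[k] T)) : EGA4.IsNormalRing (S ⊗[k] T) := by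
  refine Groth.Agent.Lib.Helper24.NormalAscent.isNormalRing_of_flat_of_fibres S (S ⊗[k] T) hS ?_
  intro p hp
  have h3 : EGA4.IsNormalRing (p.ResidueField ⊗[k] T) :=
    fun q hq => isNormal_tensor_of_geom k T hT p.ResidueField q
  exact geomStable_isNormal.iso _ _ (fibreEquiv k S T p).symm h3

/-- `k' ⊗[k] (S ⊗[k] T) ≃ (k' ⊗[k] S) ⊗[k] T`. -/
noncomputable def assocEquiv (k' : Type u) [CommRing k'] [Algebra k k'] :
    (k' ⊗[k] S) ⊗[k] T ≃+* k' ⊗[k] (S ⊗[k] T) :=
  (Algebra.TensorProduct.assoc k k k k' S T).toRingEquiv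

theorem isNoetherianRing_tensor_finite (R : Type u) [CommRing R] [Algebra k R]
    [IsNoetherianRing R] (k' : Type u) [CommRing k'] [Algebra k k'] [Module.Finite k k'] :
    IsNoetherianRing (k' ⊗[k] R) := by
  haveI : IsNoetherianRing (R ⊗[k] k') := Algebra.FiniteType.isNoetherianRing R _
  exact isNoetherianRing_of_ringEquiv _ (Algebra.TensorProduct.comm k R k').toRingEquiv

theorem geomRegular_tensor [IsNoetherianRing (S ⊗[k] T)]
    (hS : ∀ (k' : Type u) [Field k'] [Algebra k k'], Module.Finite k k' →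
      IsRegularRing (k' ⊗[k] S))
    (hT : ∀ (k' : Type u) [Field k'] [Algebra k k'], Module.Finite k k' →
      IsRegularRing (k' ⊗[k] T))
    (k' : Type u) [Field k'] [Algebra k k'] (hk' : Module.Finite k k') :
    IsRegularRing (k' ⊗[k] (S ⊗[k] T)) := by
  haveI := hk'
  haveI := hS k' hk'
  haveI : IsNoetherianRing (k' ⊗[k] (S ⊗[k] T)) := isNoetherianRing_tensor_finite k _ k'
  haveI : IsNoetherianRing ((k' ⊗[k] S) ⊗[k] T) :=
    isNoetherianRing_of_ringEquiv _ (assocEquiv k S T k').symm
  haveI := isRegularRing_tensor k (k' ⊗[k] S) T hT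
  exact IsRegularRing.of_ringEquiv (assocEquiv k S T k')

theorem geomNormal_tensor [IsNoetherianRing S] [IsNoetherianRing (S ⊗[k] T)]
    (hS : ∀ (k' : Type u) [Field k'] [Algebra k k'], Module.Finite k k' →
      EGA4.IsNormalRing (k' ⊗[k] S))
    (hT : ∀ (k' : Type u) [Field k'] [Algebra k k'], Module.Finite k k' →
      EGA4.IsNormalRing (k' ⊗[k] T))
    (k' : Type u) [Field k'] [Algebra k k'] (hk' : Module.Finite k k') :
    EGA4.IsNormalRing (k' ⊗[k] (S ⊗[k] T)) := by
  haveI := hk'
  haveI : IsNoetherianRing (k' ⊗[k] S) := isNoetherianRing_tensor_finite k _ k'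
  haveI : IsNoetherianRing (k' ⊗[k] (S ⊗[k] T)) := isNoetherianRing_tensor_finite k _ k'
  haveI : IsNoetherianRing ((k' ⊗[k] S) ⊗[k] T) :=
    isNoetherianRing_of_ringEquiv _ (assocEquiv k S T k').symm
  have := isNormal_tensor k (k' ⊗[k] S) T (hS k' hk') hT
  exact geomStable_isNormal.iso _ _ (assocEquiv k S T k') this

end tensor

end Groth.Agent.Lib.Helper24.GeomLim
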