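import Mathlib

/-! Lifting algebra maps out of a power series ring into an adically complete ring (helper24). -/

set_option autoImplicit false

namespace Groth.Agent.Lib.helper24.PSLift1

open MvPowerSeries

section fact

variable {σ R : Type*} [CommRing R] [Finite σ]

/-- a power series without terms of degree `< n` lies in the `n`-th power of the ideal of
variables (finitely many variables) -/
lemma mem_pow_span_X (n : ℕ) (q : MvPowerSeries σ R)
    (hq : ∀ x : σ →₀ ℕ, x.degree < n → coeff x q = 0) :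
    q ∈ (Ideal.span (Set.range (X : σ → MvPowerSeries σ R))) ^ n := by
  classical
  have h0 : truncTotal n q = 0 := by
    ext x
    rw [coeff_truncTotal_eq_ite]
    split_ifs with h
    · rw [hq x h]; simp
    · simp
  have h1 : AdicCompletion.eval (MvPolynomial.idealOfVars σ R) (MvPolynomial σ R) n
      (toAdicCompletionAlgEquiv σ R q) = 0 := by
    change (toAdicCompletion σ R q).val n = 0
    rw [toAdicCompletion_apply_eq_mk_truncTotal, h0]
    rfl
  have h2 : toAdicCompletionAlgEquiv σ R q ∈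
      ((MvPolynomial.idealOfVars σ R) ^ n • ⊤ : Submodule (MvPolynomial σ R)
        (AdicCompletion (MvPolynomial.idealOfVars σ R) (MvPolynomial σ R))) := by
    rw [AdicCompletion.pow_smul_top_eq_ker_eval (MvPolynomial.idealOfVars_fg σ R)]
    exact h1
  have h3 := Submodule.mem_map_of_mem
    (f := (toAdicCompletionAlgEquiv σ R).symm.toLinearMap) h2
  rw [Submodule.map_smul'', Submodule.map_top, LinearMap.range_eq_top.2
    (toAdicCompletionAlgEquiv σ R).symm.surjective] at h3
  have h4 : (toAdicCompletionAlgEquiv σ R).symm.toLinearMap (toAdicCompletionAlgEquiv σ R q) = q :=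
    (toAdicCompletionAlgEquiv σ R).symm_apply_apply q
  rw [h4, Ideal.smul_top_eq_map] at h3
  have h5 : q ∈ Ideal.map (algebraMap (MvPolynomial σ R) (MvPowerSeries σ R))
      ((MvPolynomial.idealOfVars σ R) ^ n) := h3
  rw [Ideal.map_pow, Ideal.map_span, ← Set.range_comp] at h5
  have h6 : (algebraMap (MvPolynomial σ R) (MvPowerSeries σ R)) ∘ MvPolynomial.X =
      (X : σ → MvPowerSeries σ R) := by
    funext i
    rw [Function.comp_apply, MvPowerSeries.algebraMap_apply', MvPolynomial.coe_X]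
    simp
  rw [h6] at h5
  exact h5

lemma sub_truncTotal_mem (n : ℕ) (p : MvPowerSeries σ R) :
    p - ((truncTotal n p : MvPolynomial σ R) : MvPowerSeries σ R) ∈
      (Ideal.span (Set.range (X : σ → MvPowerSeries σ R))) ^ n := by
  apply mem_pow_span_X
  intro x hx
  rw [map_sub, MvPolynomial.coeff_coe, coeff_truncTotal _ hx, sub_self]

end fact

section lift

variable {R : Type*} [CommRing R] {σ : Type*} [Finite σ] {A E : Type*} [CommRing A] [CommRing E]
  [Algebra R A] [Algebra R E]

theorem exists_lift (J : Ideal E) [IsAdicComplete J E] (𝔪 : Ideal A) [IsHausdorff 𝔪 A]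
    (π : MvPowerSeries σ R →ₐ[R] A) (f : E →ₐ[R] A) (hJ : ∀ x ∈ J, f x ∈ 𝔪)
    (e : σ → E) (he : ∀ i, e i ∈ J) (hfe : ∀ i, f (e i) = π (X i)) :
    ∃ l : MvPowerSeries σ R →ₐ[R] E, f.comp l = π := by
  classical
  set ev : MvPolynomial σ R →ₐ[R] E := MvPolynomial.aeval e with hev
  have hmap : ∀ n, Ideal.map ev ((MvPolynomial.idealOfVars σ R) ^ n) ≤ J ^ n := by
    intro n
    rw [Ideal.map_pow]
    apply Ideal.pow_right_mono
    rw [Ideal.map_span, Ideal.span_le]
    rintro _ ⟨_, ⟨i, rfl⟩, rfl⟩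
    rw [hev, MvPolynomial.aeval_X]
    exact he i
  have hle : ∀ n, (MvPolynomial.idealOfVars σ R) ^ n ≤ (J ^ n).comap ev := fun n =>
    Ideal.map_le_iff_le_comap.1 (hmap n)
  let g : ∀ n, MvPowerSeries σ R →ₐ[R] E ⧸ J ^ n := fun n =>
    (Ideal.quotientMapₐ (J ^ n) ev (hle n)).comp ((truncTotalAlgHom σ R n).restrictScalars R)
  have hg : ∀ n p, g n p = Ideal.Quotient.mk (J ^ n) (ev (truncTotal n p)) := fun n p => rfl
  have hcompat : ∀ {m n : ℕ} (hmn : m ≤ n),
      (Ideal.Quotient.factorₐ R (Ideal.pow_le_pow_right hmn)).comp (g n) = g m := by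
    intro m n hmn
    ext p
    rw [AlgHom.comp_apply, hg, hg]
    change Ideal.Quotient.mk (J ^ m) (ev (truncTotal n p)) = _
    rw [Ideal.Quotient.mk_eq_mk_iff_sub_mem, ← map_sub]
    apply hmap m
    apply Ideal.mem_map_of_mem
    exact truncTotal_sub_truncTotal_mem_pow_idealOfVars hmn le_rfl p
  let l := IsAdicComplete.liftAlgHom J g hcompat
  have hl : ∀ n p, l p - ev (truncTotal n p) ∈ J ^ n := by
    intro n p
    rw [← Ideal.Quotient.mk_eq_mk_iff_sub_mem, ← hg]
    exact IsAdicComplete.mk_liftAlgHom J g hcompat n p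
  have hfJ : ∀ n, ∀ x ∈ J ^ n, f x ∈ 𝔪 ^ n := by
    intro n x hx
    have h1 : Ideal.map f (J ^ n) ≤ 𝔪 ^ n := by
      rw [Ideal.map_pow]
      apply Ideal.pow_right_mono
      rw [Ideal.map_le_iff_le_comap]
      exact fun y hy => hJ y hy
    exact h1 (Ideal.mem_map_of_mem _ hx)
  have hπX : ∀ n, ∀ q ∈ (Ideal.span (Set.range (X : σ → MvPowerSeries σ R))) ^ n,
      π q ∈ 𝔪 ^ n := by
    intro n q hq
    have h1 : Ideal.map π ((Ideal.span (Set.range (X : σ → MvPowerSeries σ R))) ^ n) ≤ 𝔪 ^ n := by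
      rw [Ideal.map_pow]
      apply Ideal.pow_right_mono
      rw [Ideal.map_span, Ideal.span_le]
      rintro _ ⟨_, ⟨i, rfl⟩, rfl⟩
      rw [← hfe]
      exact hJ _ (he i)
    exact h1 (Ideal.mem_map_of_mem _ hq)
  have hpoly : ∀ q : MvPolynomial σ R, f (ev q) = π (q : MvPowerSeries σ R) := by
    intro q
    have h1 : f.comp ev = π.comp (MvPolynomial.coeToMvPowerSeries.algHom R) := by
      apply MvPolynomial.algHom_ext
      intro i
      simp [hev, hfe]
    exact congrArg (fun φ => φ q) h1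
  refine ⟨l, ?_⟩
  ext p
  rw [AlgHom.comp_apply, ← sub_eq_zero]
  apply IsHausdorff.haus' (I := 𝔪)
  intro n
  rw [SModEq.zero, smul_eq_mul, Ideal.mul_top]
  have e1 : f (l p) - π p = f (l p - ev (truncTotal n p)) -
      π (p - ((truncTotal n p : MvPolynomial σ R) : MvPowerSeries σ R)) := by
    rw [map_sub, map_sub, hpoly]
    ring
  rw [e1]
  exact Ideal.sub_mem _ (hfJ n _ (hl n p)) (hπX n _ (sub_truncTotal_mem n p))

end lift

end Groth.Agent.Lib.helper24.PSLift1
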