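import Mathlib
import Groth.Agent.Lib.Helper24.CplCM2

/-!
# Associated primes of completions of quotients (helper24)

`A` Noetherian local, `Â = Cpl A`, `φ_I : Â → Cpl (A ⧸ I)` the canonical surjection.

* `comap_mem_associatedPrimes_baseChange`: if `A ⧸ P ↪ N` then for `Q ∈ Ass (Cpl (A ⧸ P))`,
  `φ_P⁻¹ Q ∈ Ass_Â (Â ⊗ N)`;
* `exists_mem_associatedPrimes_cpl_quotient`: every `Q' ∈ Ass_Â (Â ⊗ A ⧸ I)` is `φ_I⁻¹ Q''` for some
  `Q'' ∈ Ass (Cpl (A ⧸ I))`;
* `isStrictlyEquidim_cpl_quotient_of_mem_associatedPrimes`: if `Cpl (A ⧸ I)` is strictly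
  equidimensional and `P ∈ Ass_A (A ⧸ I)` then `Cpl (A ⧸ P)` is strictly equidimensional;
* `isStrictlyEquidim_of_ringEquiv`.
-/

set_option autoImplicit false
universe u
open TensorProduct IsLocalRing
open scoped Pointwise

namespace Groth.Agent.Lib.Helper24.FormalCat

open Groth.Agent.Lib.Helper24.CplFlat Groth.Agent.Lib.Helper24.CplQuot
  Groth.Agent.Lib.Helper24.FlatDepth Groth.Agent.Lib.Helper24.CplCM

/-- Strict equidimensionality is invariant under ring isomorphisms. -/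
theorem isStrictlyEquidim_of_ringEquiv {R S : Type u} [CommRing R] [CommRing S] (e : R ≃+* S)
    [IsNoetherianRing R] [IsNoetherianRing S]
    (h : EGA4.IsStrictlyEquidim R) : EGA4.IsStrictlyEquidim S := by
  intro q hq
  obtain ⟨hqp, s, hqs⟩ := (isAssociatedPrime_iff (I := q)).mp hq
  have hq' : q.comap (e : R →+* S) ∈ associatedPrimes R R := by
    rw [AssociatedPrimes.mem_iff, isAssociatedPrime_iff]
    refine ⟨Ideal.comap_isPrime _ _, e.symm s, ?_⟩
    ext r
    rw [Ideal.mem_comap, hqs, Submodule.mem_colon_singleton, Submodule.mem_colon_singleton,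
      Submodule.mem_bot, Submodule.mem_bot, smul_eq_mul, smul_eq_mul]
    constructor
    · intro h1
      apply e.injective
      rw [map_mul, map_zero, RingEquiv.apply_symm_apply]
      exact h1
    · intro h1
      have := congrArg e h1
      rw [map_mul, map_zero, RingEquiv.apply_symm_apply] at this
      exact this
  have h3 := h _ hq'
  rw [← ringKrullDim_eq_of_ringEquiv e,
    ← ringKrullDim_quotient_comap_of_surjective (e : R →+* S) e.surjective q]
  exact h3

section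

variable (A : Type u) [CommRing A] [IsLocalRing A] [IsNoetherianRing A]

local notation "Â" => AdicCompletion (maximalIdeal A) A

omit [IsNoetherianRing A] in
theorem tmul_one_eq_zero_iff (I : Ideal A) (x : Â) :
    x ⊗ₜ[A] (1 : A ⧸ I) = 0 ↔ x ∈ I.map (algebraMap A Â) := by
  have h1 : x ⊗ₜ[A] (1 : A ⧸ I) = theta A Â Â I x := rfl
  rw [h1, ← LinearMap.mem_ker, ker_theta, smul_eq_mul, Ideal.mul_top]

/-- If `A ⧸ P ↪ N` then `φ_P⁻¹ Q ∈ Ass_Â (Â ⊗ N)` for every `Q ∈ Ass (Cpl (A ⧸ P))`. -/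
theorem comap_mem_associatedPrimes_baseChange (P : Ideal A) [IsLocalRing (A ⧸ P)] (N : Type u)
    [AddCommGroup N] [Module A N] (f : A ⧸ P →ₗ[A] N) (hf : Function.Injective f)
    (Q : Ideal (AdicCompletion (maximalIdeal (A ⧸ P)) (A ⧸ P)))
    (hQ : Q ∈ associatedPrimes (AdicCompletion (maximalIdeal (A ⧸ P)) (A ⧸ P))
      (AdicCompletion (maximalIdeal (A ⧸ P)) (A ⧸ P))) :
    Q.comap (φ A P) ∈ associatedPrimes Â (Â ⊗[A] N) := by
  have hfinj : Function.Injective (f.baseChange Â) :=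
    Module.Flat.lTensor_preserves_injective_linearMap (M := Â) f hf
  haveI : IsNoetherianRing (AdicCompletion (maximalIdeal (A ⧸ P)) (A ⧸ P)) :=
    isNoetherianRing_cpl (A ⧸ P)
  obtain ⟨hQp, c, hQc⟩ := (isAssociatedPrime_iff (I := Q)).mp hQ
  obtain ⟨â, rfl⟩ := φ_surjective A P c
  rw [AssociatedPrimes.mem_iff, isAssociatedPrime_iff]
  refine ⟨Ideal.comap_isPrime _ _, (f.baseChange Â) (â ⊗ₜ[A] (1 : A ⧸ P)), ?_⟩
  ext b
  have hL : b ∈ Q.comap (φ A P) ↔ b * â ∈ P.map (algebraMap A Â) := by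
    rw [Ideal.mem_comap, hQc, Submodule.mem_colon_singleton, Submodule.mem_bot, smul_eq_mul,
      ← map_mul, ← RingHom.mem_ker, ker_φ]
  have hR : b ∈ Submodule.colon (⊥ : Submodule Â (Â ⊗[A] N))
        {(f.baseChange Â) (â ⊗ₜ[A] (1 : A ⧸ P))} ↔
      b * â ∈ P.map (algebraMap A Â) := by
    rw [Submodule.mem_colon_singleton, Submodule.mem_bot, ← map_smul,
      map_eq_zero_iff _ hfinj, TensorProduct.smul_tmul', smul_eq_mul, tmul_one_eq_zero_iff]
  exact hL.trans hR.symm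

/-- Every `Q' ∈ Ass_Â (Â ⊗ A ⧸ I)` comes from an associated prime of the ring `Cpl (A ⧸ I)`. -/
theorem exists_mem_associatedPrimes_cpl_quotient (I : Ideal A) [IsLocalRing (A ⧸ I)]
    (Q' : Ideal Â) (hQ' : Q' ∈ associatedPrimes Â (Â ⊗[A] (A ⧸ I))) :
    ∃ Q'' ∈ associatedPrimes (AdicCompletion (maximalIdeal (A ⧸ I)) (A ⧸ I))
        (AdicCompletion (maximalIdeal (A ⧸ I)) (A ⧸ I)),
      Q''.comap (φ A I) = Q' := by
  haveI : IsNoetherianRing (AdicCompletion (maximalIdeal (A ⧸ I)) (A ⧸ I)) :=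
    isNoetherianRing_cpl (A ⧸ I)
  obtain ⟨hQp, t, hQt⟩ := (isAssociatedPrime_iff (I := Q')).mp hQ'
  obtain ⟨â, rfl⟩ := theta_surjective A Â Â I t
  have hmem : ∀ b : Â, b ∈ Q' ↔ φ A I b * φ A I â = 0 := by
    intro b
    rw [hQt, Submodule.mem_colon_singleton, Submodule.mem_bot, ← map_smul, smul_eq_mul]
    have h1 : theta A Â Â I (b * â) = (b * â) ⊗ₜ[A] (1 : A ⧸ I) := rfl
    rw [h1, tmul_one_eq_zero_iff, ← ker_φ, RingHom.mem_ker, map_mul]
  have hker : RingHom.ker (φ A I) ≤ Q' := by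
    intro b hb
    rw [hmem, RingHom.mem_ker.mp hb, zero_mul]
  have hcm : (Q'.map (φ A I)).comap (φ A I) = Q' := by
    rw [Ideal.comap_map_of_surjective' _ (φ_surjective A I), sup_eq_left.mpr hker]
  refine ⟨Q'.map (φ A I), ?_, hcm⟩
  rw [AssociatedPrimes.mem_iff, isAssociatedPrime_iff]
  refine ⟨Ideal.map_isPrime_of_surjective (φ_surjective A I) hker, φ A I â, ?_⟩
  ext x
  obtain ⟨b, rfl⟩ := φ_surjective A I x
  rw [Submodule.mem_colon_singleton, Submodule.mem_bot, smul_eq_mul, ← hmem, ← Ideal.mem_comap, hcm]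

/-- If `Cpl (A ⧸ I)` is strictly equidimensional and `P ∈ Ass_A (A ⧸ I)`, then `Cpl (A ⧸ P)` is
strictly equidimensional. -/
theorem isStrictlyEquidim_cpl_quotient_of_mem_associatedPrimes (I : Ideal A) [IsLocalRing (A ⧸ I)]
    (h : EGA4.IsStrictlyEquidim (AdicCompletion (maximalIdeal (A ⧸ I)) (A ⧸ I)))
    (P : Ideal A) [IsLocalRing (A ⧸ P)] (hP : P ∈ associatedPrimes A (A ⧸ I)) :
    EGA4.IsStrictlyEquidim (AdicCompletion (maximalIdeal (A ⧸ P)) (A ⧸ P)) := by
  obtain ⟨-, f, hf⟩ := (isAssociatedPrime_iff_exists_injective_linearMap P (A ⧸ I)).mp hP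
  have hIP : I ≤ P := by
    intro a ha
    have h0 : a • f 1 = 0 := by
      obtain ⟨y, hy⟩ := Ideal.Quotient.mk_surjective (f 1)
      rw [← hy, Algebra.smul_def, Ideal.Quotient.algebraMap_eq, ← map_mul,
        Ideal.Quotient.eq_zero_iff_mem]
      exact Ideal.mul_mem_right _ _ ha
    rw [← map_smul, map_eq_zero_iff _ hf, Algebra.smul_def, mul_one,
      Ideal.Quotient.algebraMap_eq, Ideal.Quotient.eq_zero_iff_mem] at h0
    exact h0
  intro Q hQ
  have h1 := comap_mem_associatedPrimes_baseChange A P (A ⧸ I) f hf Q hQ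
  obtain ⟨Q'', hQ'', hcomap⟩ := exists_mem_associatedPrimes_cpl_quotient A I _ h1
  have h2 := h Q'' hQ''
  have e1 : ringKrullDim (AdicCompletion (maximalIdeal (A ⧸ P)) (A ⧸ P) ⧸ Q) =
      ringKrullDim (A ⧸ I) := by
    rw [← ringKrullDim_quotient_comap_of_surjective (φ A P) (φ_surjective A P) Q, ← hcomap,
      ringKrullDim_quotient_comap_of_surjective (φ A I) (φ_surjective A I) Q'', h2,
      Groth.Agent.S0547.result]
  have e2 : ringKrullDim (AdicCompletion (maximalIdeal (A ⧸ P)) (A ⧸ P)) ≤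
      ringKrullDim (A ⧸ I) := by
    rw [Groth.Agent.S0547.result]
    exact ringKrullDim_le_of_surjective (Ideal.Quotient.factor hIP)
      (Ideal.Quotient.factor_surjective hIP)
  have e3 : ringKrullDim (AdicCompletion (maximalIdeal (A ⧸ P)) (A ⧸ P) ⧸ Q) ≤
      ringKrullDim (AdicCompletion (maximalIdeal (A ⧸ P)) (A ⧸ P)) :=
    ringKrullDim_quotient_le Q
  exact le_antisymm e3 (e2.trans e1.ge)

end

end Groth.Agent.Lib.Helper24.FormalCat
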