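import Mathlib
import Groth.Agent.Lib.Helper24.FormalCat
import Groth.Agent.Lib.Helper24.CplIso

/-!
# Completions of quotients along a dense faithfully flat local map (helper24)

`R → S` faithfully flat local hom of local rings with `m_R S = m_S` and `R` dense in `S`
for the `m_S`-adic topology (e.g. a henselization). Then `Cpl (R ⧸ I) ≃+* Cpl (S ⧸ I S)`.
-/

set_option autoImplicit false
universe u
open IsLocalRing

namespace Groth.Agent.Lib.Helper24.FormalCat

open Groth.Agent.Lib.Helper24.CplQuot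

section

variable (R S : Type u) [CommRing R] [CommRing S] [IsLocalRing R] [IsLocalRing S] [Algebra R S]
  [Module.FaithfullyFlat R S] (I : Ideal R) [IsLocalRing (R ⧸ I)]
  [IsLocalRing (S ⧸ I.map (algebraMap R S))]

/-- The map `R ⧸ I → S ⧸ I S`. -/
noncomputable abbrev qMap : R ⧸ I →+* S ⧸ I.map (algebraMap R S) :=
  Ideal.quotientMap (I.map (algebraMap R S)) (algebraMap R S) Ideal.le_comap_map

variable (hm : (maximalIdeal R).map (algebraMap R S) = maximalIdeal S)

include hm in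
omit [Module.FaithfullyFlat R S] in
theorem map_qMap_maximalIdeal :
    (maximalIdeal (R ⧸ I)).map (qMap R S I) =
      maximalIdeal (S ⧸ I.map (algebraMap R S)) := by
  rw [← map_maximalIdeal_eq R I, Ideal.map_map,
    ← map_maximalIdeal_eq S (I.map (algebraMap R S)), ← hm, Ideal.map_map]
  congr 1

include hm in
theorem qMap_hinj (n : ℕ) (r : R ⧸ I)
    (h : qMap R S I r ∈ maximalIdeal (S ⧸ I.map (algebraMap R S)) ^ n) :
    r ∈ maximalIdeal (R ⧸ I) ^ n := by
  obtain ⟨r, rfl⟩ := Ideal.Quotient.mk_surjective r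
  rw [← map_maximalIdeal_eq S (I.map (algebraMap R S)), ← Ideal.map_pow, Ideal.quotientMap_mk,
    Ideal.mem_quotient_iff_mem_sup, ← hm, ← Ideal.map_pow, ← Ideal.map_sup, ← Ideal.mem_comap,
    Ideal.comap_map_eq_self_of_faithfullyFlat] at h
  rw [← map_maximalIdeal_eq R I, ← Ideal.map_pow, Ideal.mem_quotient_iff_mem_sup]
  exact h

omit [Module.FaithfullyFlat R S] [IsLocalRing R] [IsLocalRing (R ⧸ I)] in
theorem qMap_hsurj (hdense : ∀ (n : ℕ) (s : S), ∃ r : R, s - algebraMap R S r ∈ maximalIdeal S ^ n)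
    (n : ℕ) (s : S ⧸ I.map (algebraMap R S)) :
    ∃ r : R ⧸ I, s - qMap R S I r ∈ maximalIdeal (S ⧸ I.map (algebraMap R S)) ^ n := by
  obtain ⟨s, rfl⟩ := Ideal.Quotient.mk_surjective s
  obtain ⟨r, hr⟩ := hdense n s
  refine ⟨Ideal.Quotient.mk I r, ?_⟩
  rw [Ideal.quotientMap_mk, ← map_sub, ← map_maximalIdeal_eq S (I.map (algebraMap R S)),
    ← Ideal.map_pow]
  exact Ideal.mem_map_of_mem _ hr

/-- `Cpl (R ⧸ I) ≃+* Cpl (S ⧸ I S)`. -/
noncomputable def cplQuotEquiv
    (hdense : ∀ (n : ℕ) (s : S), ∃ r : R, s - algebraMap R S r ∈ maximalIdeal S ^ n) :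
    AdicCompletion (maximalIdeal (R ⧸ I)) (R ⧸ I) ≃+*
      AdicCompletion (maximalIdeal (S ⧸ I.map (algebraMap R S))) (S ⧸ I.map (algebraMap R S)) :=
  Groth.Agent.Lib.Helper24.CplIso.complEquiv (maximalIdeal (R ⧸ I))
    (maximalIdeal (S ⧸ I.map (algebraMap R S))) (qMap R S I)
    (map_qMap_maximalIdeal R S I hm).le (qMap_hinj R S I hm) (qMap_hsurj R S I hdense)

end

end Groth.Agent.Lib.Helper24.FormalCat
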