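import Groth.Agent.Lib.Helper24.HensFibre
import Groth.Agent.Lib.Helper24.FlatLocalFibre

set_option autoImplicit false

namespace Groth.Agent.Lib.Helper24.HensRk

open IsLocalRing TensorProduct

universe u

/-- A ring isomorphic to a finite product of fields is Artinian and reduced. -/
theorem artinian_reduced_of_equiv_pi {F : Type u} [CommRing F] (n : ℕ) (K : Fin n → Type u)
    [∀ i, Field (K i)] (e : F ≃+* (Π i, K i)) : IsArtinianRing F ∧ IsReduced F := by
  haveI : IsArtinianRing (Π i, K i) := inferInstance
  haveI : IsReduced (Π i, K i) := inferInstance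
  exact ⟨e.symm.surjective.isArtinianRing, isReduced_of_injective e.toRingHom e.injective⟩

/-- `(R_k)` along a faithfully flat map of Noetherian rings with Artinian reduced fibres. -/
theorem rk_iff (k : ℕ) (R S : Type u) [CommRing R] [CommRing S] [Algebra R S] [IsNoetherianRing R]
    [IsNoetherianRing S] [Module.FaithfullyFlat R S]
    (hfib : ∀ (p : Ideal R) [p.IsPrime],
      IsArtinianRing (p.ResidueField ⊗[R] S) ∧ IsReduced (p.ResidueField ⊗[R] S)) :
    (∀ (q : Ideal S) [q.IsPrime], q.height ≤ k → IsRegularLocalRing (Localization.AtPrime q)) ↔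
    (∀ (p : Ideal R) [p.IsPrime], p.height ≤ k → IsRegularLocalRing (Localization.AtPrime p)) := by
  constructor
  · intro h p hp hk
    obtain ⟨q, hq, hqp⟩ := Ideal.exists_isPrime_liesOver_of_faithfullyFlat (B := S) p
    have hpq : p = q.comap (algebraMap R S) := hqp.over
    obtain ⟨h1, h2⟩ := hfib p
    rw [FlatLocalFibre.isRegularLocalRing_localization_iff R S p q hpq]
    apply h q
    rw [FlatLocalFibre.height_eq R S p q hpq]
    exact hk
  · intro h q hq hk
    obtain ⟨h1, h2⟩ := hfib (q.comap (algebraMap R S))
    rw [← FlatLocalFibre.isRegularLocalRing_localization_iff R S (q.comap (algebraMap R S)) q rfl]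
    apply h
    rw [← FlatLocalFibre.height_eq R S (q.comap (algebraMap R S)) q rfl]
    exact hk

theorem fibre_isHenselization (R S : Type u) [CommRing R] [IsLocalRing R]
    [IsNoetherianRing R] [CommRing S] [IsLocalRing S] [Algebra R S] [IsLocalHom (algebraMap R S)]
    [Hensel.IsHenselization R S] (p : Ideal R) [p.IsPrime] :
    IsArtinianRing (p.ResidueField ⊗[R] S) ∧ IsReduced (p.ResidueField ⊗[R] S) := by
  obtain ⟨n, K, _, _, -, ⟨e⟩⟩ := Groth.Agent.Lib.Helper24.HensFibre.fibre_of_isHenselization R S p
  exact artinian_reduced_of_equiv_pi n K e.toRingEquiv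

theorem fibre_isStrictHenselization (R S : Type u) [CommRing R] [IsLocalRing R]
    [IsNoetherianRing R] [CommRing S] [IsLocalRing S] [Algebra R S] [IsLocalHom (algebraMap R S)]
    [Hensel.IsStrictHenselization R S] (p : Ideal R) [p.IsPrime] :
    IsArtinianRing (p.ResidueField ⊗[R] S) ∧ IsReduced (p.ResidueField ⊗[R] S) := by
  obtain ⟨n, K, _, _, -, ⟨e⟩⟩ :=
    Groth.Agent.Lib.Helper24.HensFibre.fibre_of_isStrictHenselization R S p
  exact artinian_reduced_of_equiv_pi n K e.toRingEquiv

theorem rk_iff_of_isHenselization (k : ℕ) (R S : Type u) [CommRing R] [IsLocalRing R]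
    [IsNoetherianRing R] [CommRing S] [IsLocalRing S] [Algebra R S] [IsLocalHom (algebraMap R S)]
    [Hensel.IsHenselization R S] :
    (∀ (q : Ideal S) [q.IsPrime], q.height ≤ k → IsRegularLocalRing (Localization.AtPrime q)) ↔
    (∀ (p : Ideal R) [p.IsPrime], p.height ≤ k → IsRegularLocalRing (Localization.AtPrime p)) := by
  have hN : IsNoetherianRing S :=
    (Groth.Agent.Lib.Helper24.HensNoeth.isNoetherianRing_iff_of_isHenselization R S).1 inferInstance
  have hff := Groth.Agent.Lib.helper24.Henselization.faithfullyFlat_of_isHenselization R S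
  exact rk_iff k R S fun p _ => fibre_isHenselization R S p

theorem rk_iff_of_isStrictHenselization (k : ℕ) (R S : Type u) [CommRing R] [IsLocalRing R]
    [IsNoetherianRing R] [CommRing S] [IsLocalRing S] [Algebra R S] [IsLocalHom (algebraMap R S)]
    [Hensel.IsStrictHenselization R S] :
    (∀ (q : Ideal S) [q.IsPrime], q.height ≤ k → IsRegularLocalRing (Localization.AtPrime q)) ↔
    (∀ (p : Ideal R) [p.IsPrime], p.height ≤ k → IsRegularLocalRing (Localization.AtPrime p)) := by
  have hN : IsNoetherianRing S :=
    (Groth.Agent.Lib.Helper24.HensNoeth.isNoetherianRing_iff_of_isStrictHenselization R S).1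
      inferInstance
  have hff := Groth.Agent.Lib.Helper24.StrictHens.faithfullyFlat_of_isStrictHenselization R S
  exact rk_iff k R S fun p _ => fibre_isStrictHenselization R S p

end Groth.Agent.Lib.Helper24.HensRk
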