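import Mathlib
import Groth.Agent.Lib.Helper24.FormalCat2
import Groth.Agent.Lib.Helper24.HensRk
import Groth.Agent.Lib.Helper24.HensRegular
import Groth.Agent.Lib.Helper24.HensNoeth
import Groth.Agent.Lib.Helper12.HenselUniv

/-!
# Formal catenarity and henselization (helper24)

For a henselization `R → S` of a Noetherian local ring:
* `dense_of_isHenselization`: `R` is dense in `S`;
* `mem_minimalPrimes_map_comap`: every prime `P` of `S` is minimal over `(P ∩ R) S`;
* `cplQuotEquivHens`: `Cpl (R ⧸ p) ≃+* Cpl (S ⧸ p S)`.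
-/

set_option autoImplicit false
universe u
open IsLocalRing TensorProduct

namespace Groth.Agent.Lib.Helper24.HensFormalCat

open Groth.Agent.Lib.Helper24.FormalCat

variable (R S : Type u) [CommRing R] [IsLocalRing R] [CommRing S] [IsLocalRing S] [Algebra R S]
  [IsLocalHom (algebraMap R S)] [Hensel.IsHenselization R S]

theorem dense_of_isHenselization (n : ℕ) (s : S) :
    ∃ r : R, s - algebraMap R S r ∈ maximalIdeal S ^ n := by
  obtain ⟨r, hr⟩ := (Groth.Agent.Lib.helper12.henselization_quotientMap_pow_bijective R S n).2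
    (Ideal.Quotient.mk _ s)
  obtain ⟨r, rfl⟩ := Ideal.Quotient.mk_surjective r
  refine ⟨r, ?_⟩
  rw [Ideal.quotientMap_mk, Ideal.Quotient.eq, Ideal.map_pow,
    Groth.Agent.Lib.Helper24.HensRegular.map_maximalIdeal_of_isHenselization R S] at hr
  have := Ideal.neg_mem_iff _ |>.2 hr
  rwa [neg_sub] at this

variable [IsNoetherianRing R]

/-- Every prime `P` of the henselization is a minimal prime over `(P ∩ R) S`. -/
theorem mem_minimalPrimes_map_comap (P : Ideal S) [P.IsPrime] :
    P ∈ ((P.comap (algebraMap R S)).map (algebraMap R S)).minimalPrimes := by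
  refine ⟨⟨inferInstance, Ideal.map_comap_le⟩, ?_⟩
  rintro Q ⟨hQprime, hIQ⟩ hQP
  haveI := hQprime
  have hQover : Q.comap (algebraMap R S) = P.comap (algebraMap R S) :=
    le_antisymm (Ideal.comap_mono hQP) (Ideal.map_le_iff_le_comap.mp hIQ)
  haveI hart : IsArtinianRing ((P.comap (algebraMap R S)).Fiber S) :=
    (Groth.Agent.Lib.Helper24.HensRk.fibre_isHenselization R S (P.comap (algebraMap R S))).1
  let o := PrimeSpectrum.primesOverOrderIsoFiber R S (P.comap (algebraMap R S))
  have hPmem : P ∈ (P.comap (algebraMap R S)).primesOver S := ⟨inferInstance, ⟨rfl⟩⟩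
  have hQmem : Q ∈ (P.comap (algebraMap R S)).primesOver S := ⟨inferInstance, ⟨hQover.symm⟩⟩
  have hle : o ⟨Q, hQmem⟩ ≤ o ⟨P, hPmem⟩ := o.monotone hQP
  have hmax : (o ⟨Q, hQmem⟩).asIdeal.IsMaximal :=
    (IsArtinianRing.isPrime_iff_isMaximal _).mp (o ⟨Q, hQmem⟩).isPrime
  have heq : o ⟨Q, hQmem⟩ = o ⟨P, hPmem⟩ :=
    PrimeSpectrum.ext (hmax.eq_of_le (o ⟨P, hPmem⟩).isPrime.ne_top hle)
  have := o.injective heq
  exact (congrArg Subtype.val this).ge

/-- The henselization of a formally strictly catenary Noetherian local ring is formally strictly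
catenary. -/
theorem isFormallyStrictlyCatenary_of_isHenselization
    (h : EGA4.IsFormallyStrictlyCatenary R) : EGA4.IsFormallyStrictlyCatenary S := by
  haveI hN : IsNoetherianRing S :=
    (Groth.Agent.Lib.Helper24.HensNoeth.isNoetherianRing_iff_of_isHenselization R S).1
      inferInstance
  haveI : Module.FaithfullyFlat R S :=
    Groth.Agent.Lib.helper24.Henselization.faithfullyFlat_of_isHenselization R S
  have hm := Groth.Agent.Lib.Helper24.HensRegular.map_maximalIdeal_of_isHenselization R S
  intro P hP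
  have hIne : (P.comap (algebraMap R S)).map (algebraMap R S) ≠ ⊤ :=
    ne_top_of_le_ne_top hP.ne_top Ideal.map_comap_le
  haveI : Nontrivial (S ⧸ (P.comap (algebraMap R S)).map (algebraMap R S)) :=
    Ideal.Quotient.nontrivial_iff.mpr hIne
  haveI : IsLocalRing (S ⧸ (P.comap (algebraMap R S)).map (algebraMap R S)) :=
    IsLocalRing.of_surjective' (Ideal.Quotient.mk _) Ideal.Quotient.mk_surjective
  haveI : IsNoetherianRing (AdicCompletion (maximalIdeal (R ⧸ P.comap (algebraMap R S)))
      (R ⧸ P.comap (algebraMap R S))) := Groth.Agent.Lib.Helper24.CplCM.isNoetherianRing_cpl _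
  haveI : IsNoetherianRing (AdicCompletion
      (maximalIdeal (S ⧸ (P.comap (algebraMap R S)).map (algebraMap R S)))
      (S ⧸ (P.comap (algebraMap R S)).map (algebraMap R S))) :=
    Groth.Agent.Lib.Helper24.CplCM.isNoetherianRing_cpl _
  have hstrict : EGA4.IsStrictlyEquidim (AdicCompletion
      (maximalIdeal (S ⧸ (P.comap (algebraMap R S)).map (algebraMap R S)))
      (S ⧸ (P.comap (algebraMap R S)).map (algebraMap R S))) :=
    isStrictlyEquidim_of_ringEquiv
      (cplQuotEquiv R S (P.comap (algebraMap R S)) hm (dense_of_isHenselization R S))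
      (h (P.comap (algebraMap R S)))
  have hPass : P ∈ associatedPrimes S
      (S ⧸ (P.comap (algebraMap R S)).map (algebraMap R S)) := by
    apply Module.associatedPrimes.minimalPrimes_annihilator_subset_associatedPrimes
    rw [Ideal.annihilator_quotient]
    exact mem_minimalPrimes_map_comap R S P
  exact isStrictlyEquidim_cpl_quotient_of_mem_associatedPrimes S _ hstrict P hPass

end Groth.Agent.Lib.Helper24.HensFormalCat
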