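import Mathlib

/-!
# Composition of homomorphisms with "geometrically P" fibres (helper24)

`A → B → C` with `B → C` flat.  For a prime `p` of `A` and a finite extension `K` of `κ(p)`, the ring
`K ⊗ (κ(p) ⊗_A C)` is flat over `K ⊗ (κ(p) ⊗_A B)`, and its fibre rings are of the form
`L ⊗ (κ(q) ⊗_B C)` with `L` finite over `κ(q)`.
-/

set_option autoImplicit false
universe u
open TensorProduct

namespace Groth.Agent.Lib.Helper24.HomComp

variable (A B C : Type u) [CommRing A] [CommRing B] [CommRing C] [Algebra A B] [Algebra B C]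
  [Algebra A C] [IsScalarTower A B C]

section pushout

variable (K : Type u) [CommRing K] [Algebra A K]

/-- The algebra structure `B ⊗[A] K → C ⊗[A] K`. -/
@[reducible] noncomputable def algBC : Algebra (B ⊗[A] K) (C ⊗[A] K) :=
  (Algebra.TensorProduct.map (IsScalarTower.toAlgHom A B C) (AlgHom.id A K)).toRingHom.toAlgebra

attribute [local instance] algBC

instance towBC : IsScalarTower B (B ⊗[A] K) (C ⊗[A] K) :=
  IsScalarTower.of_algebraMap_eq fun b => by
    rw [RingHom.algebraMap_toAlgebra]
    simp [Algebra.TensorProduct.algebraMap_apply]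

instance pushBC : Algebra.IsPushout B C (B ⊗[A] K) (C ⊗[A] K) := by
  have H : (algebraMap (B ⊗[A] K) (C ⊗[A] K)).comp
      (Algebra.TensorProduct.includeRight : K →ₐ[A] B ⊗[A] K).toRingHom =
      (Algebra.TensorProduct.includeRight : K →ₐ[A] C ⊗[A] K).toRingHom := by
    ext t
    rw [RingHom.algebraMap_toAlgebra]
    simp
  exact @Algebra.IsPushout.tensorProduct_tensorProduct A K B C _ _ _ _ _ _ _ _ _
    (algBC A B C K) (towBC A B C K) H

theorem flatBC [Module.Flat B C] : Module.Flat (B ⊗[A] K) (C ⊗[A] K) := by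
  have h := RingHom.Flat.isStableUnderBaseChange B C (B ⊗[A] K) (C ⊗[A] K)
    (RingHom.flat_algebraMap_iff.2 inferInstance)
  exact RingHom.flat_algebraMap_iff.1 h

/-- The fibre of `B ⊗ K → C ⊗ K` at a prime `s`, in terms of the fibre of `B → C`. -/
theorem nonempty_fibre_equiv (s : Ideal (B ⊗[A] K)) [s.IsPrime]
    [Algebra (s.under B).ResidueField s.ResidueField]
    [IsScalarTower B (s.under B).ResidueField s.ResidueField] :
    Nonempty (s.Fiber (C ⊗[A] K) ≃+*
      (s.ResidueField ⊗[(s.under B).ResidueField] (s.under B).Fiber C)) := by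
  let e1 : s.ResidueField ⊗[B ⊗[A] K] (C ⊗[A] K) ≃+* (C ⊗[A] K) ⊗[B ⊗[A] K] s.ResidueField :=
    (Algebra.TensorProduct.comm (B ⊗[A] K) s.ResidueField (C ⊗[A] K)).toRingEquiv
  let e2 : (C ⊗[A] K) ⊗[B ⊗[A] K] s.ResidueField ≃+* C ⊗[B] s.ResidueField :=
    (Algebra.IsPushout.cancelBaseChangeAlg B C (B ⊗[A] K) (C ⊗[A] K) s.ResidueField).toRingEquiv
  let e3 : C ⊗[B] s.ResidueField ≃+* s.ResidueField ⊗[B] C :=
    (Algebra.TensorProduct.comm B C s.ResidueField).toRingEquiv
  let e4 : s.ResidueField ⊗[(s.under B).ResidueField] ((s.under B).ResidueField ⊗[B] C) ≃+*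
      s.ResidueField ⊗[B] C :=
    (Algebra.TensorProduct.cancelBaseChange B (s.under B).ResidueField s.ResidueField
      s.ResidueField C).toRingEquiv
  exact ⟨((e1.trans e2).trans e3).trans e4.symm⟩

end pushout

section main

attribute [local instance] algBC

/-- **Composition of "geometrically P" fibres.**  `P` is a property of rings invariant under
isomorphisms and ascending along flat maps of Noetherian rings with `P` fibre rings. -/
theorem comp_fibre {P : ∀ (R : Type u) [CommRing R], Prop}
    (hiso : ∀ (R R' : Type u) [CommRing R] [CommRing R'], (R ≃+* R') → P R → P R')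
    (hasc : ∀ (R S : Type u) [CommRing R] [CommRing S] [Algebra R S] [IsNoetherianRing R]
      [IsNoetherianRing S] [Module.Flat R S], P R →
      (∀ (q : Ideal R) [q.IsPrime], P (q.Fiber S)) → P S)
    [Module.Flat B C] (p : Ideal A) [p.IsPrime] (K : Type u) [Field K]
    [Algebra p.ResidueField K] [Module.Finite p.ResidueField K]
    [IsNoetherianRing (K ⊗[p.ResidueField] p.Fiber B)]
    [IsNoetherianRing (K ⊗[p.ResidueField] p.Fiber C)]
    (hAB : P (K ⊗[p.ResidueField] p.Fiber B))
    (hBC : ∀ (q : Ideal B) [q.IsPrime] (L : Type u) [Field L] [Algebra q.ResidueField L],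
      Module.Finite q.ResidueField L → P (L ⊗[q.ResidueField] q.Fiber C)) :
    P (K ⊗[p.ResidueField] p.Fiber C) := by
  letI : Algebra A K := ((algebraMap p.ResidueField K).comp (algebraMap A p.ResidueField)).toAlgebra
  haveI : IsScalarTower A p.ResidueField K := IsScalarTower.of_algebraMap_eq' rfl
  let eD : (K ⊗[p.ResidueField] p.Fiber B) ≃+* (B ⊗[A] K) :=
    ((Algebra.TensorProduct.cancelBaseChange A p.ResidueField K K B).toRingEquiv).trans
      (Algebra.TensorProduct.comm A K B).toRingEquiv
  let eE : (K ⊗[p.ResidueField] p.Fiber C) ≃+* (C ⊗[A] K) :=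
    ((Algebra.TensorProduct.cancelBaseChange A p.ResidueField K K C).toRingEquiv).trans
      (Algebra.TensorProduct.comm A K C).toRingEquiv
  haveI : IsNoetherianRing (B ⊗[A] K) := isNoetherianRing_of_ringEquiv _ eD
  haveI : IsNoetherianRing (C ⊗[A] K) := isNoetherianRing_of_ringEquiv _ eE
  haveI : Module.Flat (B ⊗[A] K) (C ⊗[A] K) := flatBC A B C K
  haveI : Algebra.QuasiFinite A K := Algebra.QuasiFinite.trans A p.ResidueField K
  have hD : P (B ⊗[A] K) := hiso _ _ eD hAB
  refine hiso _ _ eE.symm (hasc (B ⊗[A] K) (C ⊗[A] K) hD ?_)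
  intro s hs
  letI := Localization.AtPrime.algebraOfLiesOver (s.under B) s
  obtain ⟨e⟩ := nonempty_fibre_equiv A B C K s
  exact hiso _ _ e.symm (hBC (s.under B) s.ResidueField inferInstance)

end main

/-- `K ⊗[k] F` is Noetherian for `K` a finite extension of `k` and `F` Noetherian. -/
theorem isNoetherianRing_tensor_of_finite (k K F : Type u) [Field k] [Field K] [Algebra k K]
    [Module.Finite k K] [CommRing F] [Algebra k F] [IsNoetherianRing F] :
    IsNoetherianRing (K ⊗[k] F) := by
  haveI : Module.Finite F (F ⊗[k] K) := Module.Finite.base_change k F K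
  haveI : IsNoetherianRing (F ⊗[k] K) := IsNoetherianRing.of_finite F (F ⊗[k] K)
  exact isNoetherianRing_of_ringEquiv _ (Algebra.TensorProduct.comm k F K).toRingEquiv

end Groth.Agent.Lib.Helper24.HomComp
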