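import Mathlib

/-!
# Lifting ring homomorphisms into complete rings along closed ideals (helper24)

EGA 0_IV 19.3.10-style successive lifting.  Let `C` be `m`-adically complete, `J ≤ m` a closed
ideal and `u : W →+* C ⧸ J`.  If ring homomorphisms from `W` lift along the square-zero
thickenings `C ⧸ m ^ (n + 1) → C ⧸ K` (`m ^ (n + 1) ≤ K ≤ m ^ n`, `n ≥ 1`), then `u` lifts to
`v : W →+* C`.

* `glue` : two ring homs `W → C ⧸ A`, `W → C ⧸ B` agreeing in `C ⧸ (A ⊔ B)` glue to
  `W → C ⧸ (A ⊓ B)`.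
* `exists_lift` : the lifting theorem.
* `exists_lift_zmod`, `exists_lift_int` : lifting along nilpotent surjections using formal
  smoothness over `ZMod N` (resp. `ℤ`) for plain ring homomorphisms.
-/

set_option autoImplicit false

namespace Groth.Agent.Lib.Helper24.AdicLift

open Ideal Quotient

section glue

variable {W C : Type*} [CommRing W] [CommRing C]

theorem exists_simul (A B : Ideal C) (a : C ⧸ A) (b : C ⧸ B)
    (h : factor (le_sup_left : A ≤ A ⊔ B) a = factor (le_sup_right : B ≤ A ⊔ B) b) :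
    ∃ z : C, Ideal.Quotient.mk A z = a ∧ Ideal.Quotient.mk B z = b := by
  obtain ⟨c, rfl⟩ := Ideal.Quotient.mk_surjective a
  obtain ⟨c', rfl⟩ := Ideal.Quotient.mk_surjective b
  rw [factor_mk, factor_mk, Ideal.Quotient.eq, Submodule.mem_sup] at h
  obtain ⟨e, he, j, hj, hej⟩ := h
  refine ⟨c - e, ?_, ?_⟩
  · rw [Ideal.Quotient.eq]
    have : c - e - c = -e := by ring
    rw [this]
    exact A.neg_mem he
  · rw [Ideal.Quotient.eq]
    have : c - e - c' = j := by linear_combination (-1 : C) * hej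
    rw [this]
    exact hj

theorem mk_inf_eq (A B : Ideal C) {z z' : C} (h1 : Ideal.Quotient.mk A z = Ideal.Quotient.mk A z')
    (h2 : Ideal.Quotient.mk B z = Ideal.Quotient.mk B z') :
    Ideal.Quotient.mk (A ⊓ B) z = Ideal.Quotient.mk (A ⊓ B) z' := by
  rw [Ideal.Quotient.eq] at h1 h2 ⊢
  exact ⟨h1, h2⟩

/-- The underlying function of `glue`. -/
noncomputable def glueFun (A B : Ideal C) (a : W →+* C ⧸ A) (b : W →+* C ⧸ B)
    (h : (factor (le_sup_left : A ≤ A ⊔ B)).comp a = (factor (le_sup_right : B ≤ A ⊔ B)).comp b)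
    (w : W) : C ⧸ (A ⊓ B) :=
  Ideal.Quotient.mk _ (Classical.choose (exists_simul A B (a w) (b w) (RingHom.congr_fun h w)))

theorem glueFun_eq (A B : Ideal C) (a : W →+* C ⧸ A) (b : W →+* C ⧸ B)
    (h : (factor (le_sup_left : A ≤ A ⊔ B)).comp a = (factor (le_sup_right : B ≤ A ⊔ B)).comp b)
    (w : W) (z : C) (h1 : Ideal.Quotient.mk A z = a w) (h2 : Ideal.Quotient.mk B z = b w) :
    glueFun A B a b h w = Ideal.Quotient.mk _ z := by
  have hs := Classical.choose_spec (exists_simul A B (a w) (b w) (RingHom.congr_fun h w))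
  exact mk_inf_eq A B (hs.1.trans h1.symm) (hs.2.trans h2.symm)

theorem exists_glueFun_eq (A B : Ideal C) (a : W →+* C ⧸ A) (b : W →+* C ⧸ B)
    (h : (factor (le_sup_left : A ≤ A ⊔ B)).comp a = (factor (le_sup_right : B ≤ A ⊔ B)).comp b)
    (w : W) : ∃ z : C, Ideal.Quotient.mk A z = a w ∧ Ideal.Quotient.mk B z = b w ∧
      glueFun A B a b h w = Ideal.Quotient.mk _ z :=
  ⟨_, (Classical.choose_spec (exists_simul A B (a w) (b w) (RingHom.congr_fun h w))).1,
    (Classical.choose_spec (exists_simul A B (a w) (b w) (RingHom.congr_fun h w))).2, rfl⟩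

/-- Two ring homs `W → C ⧸ A`, `W → C ⧸ B` agreeing in `C ⧸ (A ⊔ B)` glue to
`W → C ⧸ (A ⊓ B)`. -/
noncomputable def glue (A B : Ideal C) (a : W →+* C ⧸ A) (b : W →+* C ⧸ B)
    (h : (factor (le_sup_left : A ≤ A ⊔ B)).comp a = (factor (le_sup_right : B ≤ A ⊔ B)).comp b) :
    W →+* C ⧸ (A ⊓ B) where
  toFun := glueFun A B a b h
  map_one' := by
    rw [glueFun_eq A B a b h 1 1 (by rw [map_one, map_one]) (by rw [map_one, map_one]), map_one]
  map_zero' := by
    rw [glueFun_eq A B a b h 0 0 (by rw [map_zero, map_zero]) (by rw [map_zero, map_zero]),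
      map_zero]
  map_mul' := by
    intro x y
    obtain ⟨zx, hx1, hx2, hx⟩ := exists_glueFun_eq A B a b h x
    obtain ⟨zy, hy1, hy2, hy⟩ := exists_glueFun_eq A B a b h y
    rw [hx, hy, ← map_mul]
    exact glueFun_eq A B a b h (x * y) (zx * zy) (by rw [map_mul, map_mul, hx1, hy1])
      (by rw [map_mul, map_mul, hx2, hy2])
  map_add' := by
    intro x y
    obtain ⟨zx, hx1, hx2, hx⟩ := exists_glueFun_eq A B a b h x
    obtain ⟨zy, hy1, hy2, hy⟩ := exists_glueFun_eq A B a b h y
    rw [hx, hy, ← map_add]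
    exact glueFun_eq A B a b h (x + y) (zx + zy) (by rw [map_add, map_add, hx1, hy1])
      (by rw [map_add, map_add, hx2, hy2])

theorem factor_left_comp_glue (A B : Ideal C) (a : W →+* C ⧸ A) (b : W →+* C ⧸ B)
    (h : (factor (le_sup_left : A ≤ A ⊔ B)).comp a = (factor (le_sup_right : B ≤ A ⊔ B)).comp b) :
    (factor (inf_le_left : A ⊓ B ≤ A)).comp (glue A B a b h) = a := by
  ext w
  obtain ⟨z, h1, h2, hz⟩ := exists_glueFun_eq A B a b h w
  show factor inf_le_left (glueFun A B a b h w) = a w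
  rw [hz, factor_mk, h1]

theorem factor_right_comp_glue (A B : Ideal C) (a : W →+* C ⧸ A) (b : W →+* C ⧸ B)
    (h : (factor (le_sup_left : A ≤ A ⊔ B)).comp a = (factor (le_sup_right : B ≤ A ⊔ B)).comp b) :
    (factor (inf_le_right : A ⊓ B ≤ B)).comp (glue A B a b h) = b := by
  ext w
  obtain ⟨z, h1, h2, hz⟩ := exists_glueFun_eq A B a b h w
  show factor inf_le_right (glueFun A B a b h w) = b w
  rw [hz, factor_mk, h2]

end glue

section lift

variable {W C : Type*} [CommRing W] [CommRing C] (m J : Ideal C)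

/-- Compatibility of a level-`n` map with `u`. -/
def Compat (u : W →+* C ⧸ J) (n : ℕ) (v : W →+* C ⧸ m ^ n) : Prop :=
  (factor (le_sup_left : m ^ n ≤ m ^ n ⊔ J)).comp v =
    (factor (le_sup_right : J ≤ m ^ n ⊔ J)).comp u

theorem exists_step (u : W →+* C ⧸ J)
    (hlift : ∀ (n : ℕ) (_ : 1 ≤ n) (K : Ideal C) (h1 : m ^ (n + 1) ≤ K) (_ : K ≤ m ^ n)
      (t : W →+* C ⧸ K), ∃ t' : W →+* C ⧸ m ^ (n + 1), (factor h1).comp t' = t)
    (n : ℕ) (hn : 1 ≤ n) (v : W →+* C ⧸ m ^ n) (hv : Compat m J u n v) :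
    ∃ v' : W →+* C ⧸ m ^ (n + 1), Compat m J u (n + 1) v' ∧
      (factor (Ideal.pow_le_pow_right n.le_succ)).comp v' = v := by
  have hK1 : m ^ (n + 1) ≤ m ^ n ⊓ J ⊔ m ^ (n + 1) := le_sup_right
  have hK2 : m ^ n ⊓ J ⊔ m ^ (n + 1) ≤ m ^ n :=
    sup_le inf_le_left (Ideal.pow_le_pow_right n.le_succ)
  have hK3 : m ^ n ⊓ J ⊔ m ^ (n + 1) ≤ m ^ (n + 1) ⊔ J :=
    sup_le (inf_le_right.trans le_sup_right) le_sup_left
  obtain ⟨t', ht'⟩ := hlift n hn _ hK1 hK2
    ((factor (le_sup_left : m ^ n ⊓ J ≤ m ^ n ⊓ J ⊔ m ^ (n + 1))).comp (glue (m ^ n) J v u hv))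
  refine ⟨t', ?_, ?_⟩
  · unfold Compat
    ext w
    have h1 := RingHom.congr_fun ht' w
    have h2 := RingHom.congr_fun (factor_right_comp_glue (m ^ n) J v u hv) w
    simp only [RingHom.comp_apply] at h1 h2 ⊢
    rw [← factor_comp_apply hK1 hK3, h1, factor_comp_apply, ← h2, factor_comp_apply]
  · ext w
    have h1 := RingHom.congr_fun ht' w
    have h2 := RingHom.congr_fun (factor_left_comp_glue (m ^ n) J v u hv) w
    simp only [RingHom.comp_apply] at h1 h2 ⊢
    rw [← factor_comp_apply hK1 hK2, h1, factor_comp_apply, ← h2]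

/-- **Successive lifting** (EGA 0_IV 19.3.10-style). -/
theorem exists_lift [IsAdicComplete m C] (hJm : J ≤ m)
    (hsep : ∀ x : C, (∀ n, x ∈ m ^ n ⊔ J) → x ∈ J)
    (u : W →+* C ⧸ J)
    (hlift : ∀ (n : ℕ) (_ : 1 ≤ n) (K : Ideal C) (h1 : m ^ (n + 1) ≤ K) (_ : K ≤ m ^ n)
      (t : W →+* C ⧸ K), ∃ t' : W →+* C ⧸ m ^ (n + 1), (factor h1).comp t' = t) :
    ∃ v : W →+* C, (Ideal.Quotient.mk J).comp v = u := by
  classical
  have hJm1 : J ≤ m ^ (0 + 1) := by rw [zero_add, pow_one]; exact hJm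
  -- the sequence of lifts
  let P : ℕ → Type _ := fun n => {v : W →+* C ⧸ m ^ (n + 1) // Compat m J u (n + 1) v}
  have base : Compat m J u (0 + 1) ((factor hJm1).comp u) := by
    unfold Compat
    ext w
    simp only [RingHom.comp_apply]
    rw [factor_comp_apply]
  have step : ∀ (n : ℕ) (v : P n), ∃ v' : P (n + 1),
      (factor (Ideal.pow_le_pow_right (n + 1).le_succ)).comp v'.1 = v.1 := by
    intro n v
    obtain ⟨v', hv', h⟩ := exists_step m J u hlift (n + 1) (Nat.succ_le_succ (Nat.zero_le n)) v.1 v.2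
    exact ⟨⟨v', hv'⟩, h⟩
  let seq : ∀ n, P n := fun n => Nat.rec (motive := P) ⟨(factor hJm1).comp u, base⟩
    (fun n v => Classical.choose (step n v)) n
  have hseq : ∀ n, (factor (Ideal.pow_le_pow_right (n + 1).le_succ)).comp (seq (n + 1)).1 =
      (seq n).1 := fun n => Classical.choose_spec (step n (seq n))
  let f : ∀ n, W →+* C ⧸ m ^ n := fun n =>
    (factor (Ideal.pow_le_pow_right n.le_succ)).comp (seq n).1
  have hf1 : ∀ n, (factorPow m n.le_succ).comp (f (n + 1)) = f n := by
    intro n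
    show (factor _).comp ((factor _).comp (seq (n + 1)).1) = (factor _).comp (seq n).1
    rw [hseq n]
  have hf : ∀ {a b : ℕ} (hle : a ≤ b), (factorPow m hle).comp (f b) = f a := by
    intro a b hle
    induction b, hle using Nat.le_induction with
    | base =>
      ext w
      simp only [RingHom.comp_apply]
      show factor _ (f a w) = f a w
      rw [factor_eq]; rfl
    | succ b hab ih =>
      ext w
      have e1 := RingHom.congr_fun ih w
      have e2 := RingHom.congr_fun (hf1 b) w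
      simp only [RingHom.comp_apply] at e1 e2 ⊢
      rw [← e1, ← e2]
      exact (factor_comp_apply _ _ _).symm
  refine ⟨IsAdicComplete.liftRingHom m f hf, ?_⟩
  ext w
  simp only [RingHom.comp_apply]
  obtain ⟨c', hc'⟩ := Ideal.Quotient.mk_surjective (u w)
  rw [← hc', Ideal.Quotient.eq]
  apply hsep
  intro n
  -- compare at level n + 1, then weaken
  have h1 : Ideal.Quotient.mk (m ^ (n + 1)) (IsAdicComplete.liftRingHom m f hf w) = f (n + 1) w :=
    IsAdicComplete.mk_liftRingHom m f hf (n + 1) w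
  have h2 : f (n + 1) w = (seq n).1 w := by
    have := RingHom.congr_fun (hseq n) w
    exact this
  have h3 := RingHom.congr_fun (seq n).2 w
  simp only [RingHom.comp_apply] at h3
  rw [← h2, ← h1, ← hc', factor_mk, factor_mk, Ideal.Quotient.eq] at h3
  exact (sup_le_sup_right (Ideal.pow_le_pow_right n.le_succ) J) h3

end lift

section smooth

/-- Lifting plain ring homomorphisms along nilpotent surjections, using formal smoothness over
`ZMod N`. -/
theorem exists_lift_zmod (N : ℕ) {A B B' : Type*} [CommRing A] [CommRing B] [CommRing B']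
    [Algebra (ZMod N) A] [Algebra.FormallySmooth (ZMod N) A] (g : B →+* B')
    (hg : Function.Surjective g) (hnil : IsNilpotent (RingHom.ker g)) (hN : (N : B) = 0)
    (f : A →+* B') : ∃ f' : A →+* B, g.comp f' = f := by
  letI : Algebra (ZMod N) B := (ZMod.castHom (ringChar.dvd hN) B).toAlgebra
  letI : Algebra (ZMod N) B' := (g.comp (algebraMap (ZMod N) B)).toAlgebra
  let gA : B →ₐ[ZMod N] B' := { g with commutes' := fun r => rfl }
  let fA : A →ₐ[ZMod N] B' :=
    { f with
      commutes' := fun r => by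
        have : f.comp (algebraMap (ZMod N) A) = algebraMap (ZMod N) B' := Subsingleton.elim _ _
        exact RingHom.congr_fun this r }
  refine ⟨(Algebra.FormallySmooth.liftOfSurjective fA gA hg hnil).toRingHom, ?_⟩
  ext x
  exact Algebra.FormallySmooth.liftOfSurjective_apply fA gA hg hnil x

/-- Lifting plain ring homomorphisms along nilpotent surjections, using formal smoothness over
`ℤ`. -/
theorem exists_lift_int {A B B' : Type*} [CommRing A] [CommRing B] [CommRing B']
    [Algebra.FormallySmooth ℤ A] (g : B →+* B')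
    (hg : Function.Surjective g) (hnil : IsNilpotent (RingHom.ker g))
    (f : A →+* B') : ∃ f' : A →+* B, g.comp f' = f := by
  refine ⟨(Algebra.FormallySmooth.liftOfSurjective f.toIntAlgHom g.toIntAlgHom hg hnil).toRingHom,
    ?_⟩
  ext x
  exact Algebra.FormallySmooth.liftOfSurjective_apply f.toIntAlgHom g.toIntAlgHom hg hnil x

end smooth

end Groth.Agent.Lib.Helper24.AdicLift
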