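import Mathlib

/-!
# A field of characteristic zero is formally smooth over `ℤ` (helper24)
-/

set_option autoImplicit false

namespace Groth.Agent.Lib.Helper24.FieldSmoothInt

theorem formallySmooth_rat (W : Type*) [Field W] [CharZero W] : Algebra.FormallySmooth ℚ W := by
  obtain ⟨ι, v, hv⟩ := exists_isTranscendenceBasis' ℚ W
  haveI : Algebra.IsAlgebraic (IntermediateField.adjoin ℚ (Set.range v)) W := hv.isAlgebraic_field
  exact Algebra.FormallySmooth.of_algebraicIndependent_of_isSeparable hv.1

theorem formallySmooth_int (W : Type*) [Field W] [CharZero W] : Algebra.FormallySmooth ℤ W := by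
  haveI := formallySmooth_rat W
  haveI : Algebra.FormallySmooth ℤ ℚ := Algebra.FormallySmooth.of_isLocalization (nonZeroDivisors ℤ)
  exact Algebra.FormallySmooth.comp ℤ ℚ W

end Groth.Agent.Lib.Helper24.FieldSmoothInt
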