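import Mathlib

/-!
# Flat + nilpotent base + formally smooth fibre ⟹ formally smooth (helper24)

`I` a nilpotent ideal of `R`, `S` a flat `R`-algebra with `S / I S` formally smooth over `R / I`.
Then `S` is formally smooth over `R` (EGA 0_IV 19.7.1 in the discrete nilpotent case; no
finiteness hypotheses).

Proof by dévissage: for a square-zero extension `π : E → S`, shrink `E` to the preimage `F'` of the
image of a section of `E / I E → S / I S`; by flatness of `S` the kernel drops from `M` to `I M`.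
After `n` steps (`Iⁿ = 0`) the map `F → S` is an isomorphism.
-/

set_option autoImplicit false

noncomputable section

namespace Groth.Agent.Lib.Helper24.FlatNilSmooth

universe u v w

section FlatLemma

variable {R : Type*} [CommRing R] (I : Ideal R) {F S : Type*} [AddCommGroup F] [Module R F]
  [AddCommGroup S] [Module R S] [Module.Flat R S]

/-- If `F / M` is flat then `M ∩ I F = I M`. -/
theorem ker_inf_smul_top_le (φ : F →ₗ[R] S) (hφ : Function.Surjective φ) :
    LinearMap.ker φ ⊓ I • (⊤ : Submodule R F) ≤ I • LinearMap.ker φ := by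
  classical
  rintro x ⟨hx1, hx2⟩
  have hx2' : x ∈ I • Submodule.span R (Set.range (id : F → F)) := by
    rwa [Set.range_id, Submodule.span_univ]
  rw [Submodule.mem_ideal_smul_span_iff_exists_sum] at hx2'
  obtain ⟨a, ha, rfl⟩ := hx2'
  -- a relation in `S`
  have hrel : ∑ i : a.support, a i.1 • φ i.1 = 0 := by
    have h0 : φ (a.sum fun i c => c • (id i : F)) = 0 := hx1
    rw [Finsupp.sum, map_sum] at h0
    rw [← h0, ← Finset.sum_coe_sort a.support (fun i => φ (a i • (id i : F)))]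
    refine Finset.sum_congr rfl (fun i _ => ?_)
    rw [map_smul]
    rfl
  obtain ⟨k, A, y, hy1, hy2⟩ := Module.Flat.isTrivialRelation_of_sum_smul_eq_zero
    (R := R) (M := S) hrel
  choose z hz using fun j => hφ (y j)
  let m : a.support → F := fun i => i.1 - ∑ j, A i j • z j
  have hm : ∀ i, m i ∈ LinearMap.ker φ := by
    intro i
    have hy1' : φ i.1 = ∑ j, A i j • y j := hy1 i
    rw [LinearMap.mem_ker, map_sub, map_sum, hy1', sub_eq_zero]
    refine Finset.sum_congr rfl (fun j _ => ?_)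
    rw [map_smul, hz]
  have hsum : (a.sum fun i c => c • (id i : F)) = ∑ i : a.support, a i.1 • m i := by
    rw [Finsupp.sum, ← Finset.sum_coe_sort a.support (fun i => a i • (id i : F))]
    have h1 : ∀ i : a.support, a i.1 • (id i.1 : F) = a i.1 • m i + ∑ j, (a i.1 * A i j) • z j := by
      intro i
      simp only [m, id, smul_sub, Finset.smul_sum, smul_smul]
      abel
    rw [Finset.sum_congr rfl (fun i _ => h1 i), Finset.sum_add_distrib, Finset.sum_comm]
    have h2 : ∑ j, ∑ i : a.support, (a i.1 * A i j) • z j = 0 := by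
      refine Finset.sum_eq_zero (fun j _ => ?_)
      have hy2' : ∑ i : a.support, a i.1 * A i j = 0 := hy2 j
      rw [← Finset.sum_smul, hy2', zero_smul]
    rw [h2, add_zero]
  rw [hsum]
  exact Submodule.sum_mem _ (fun i _ => Submodule.smul_mem_smul (ha i.1) (hm i))

end FlatLemma


section Step

variable {R : Type u} [CommRing R] (I : Ideal R) {S : Type v} [CommRing S] [Algebra R S]
  [Module.Flat R S] [Algebra.FormallySmooth (R ⧸ I) (S ⧸ I.map (algebraMap R S))]
  {E : Type w} [CommRing E] [Algebra R E] (π : E →ₐ[R] S)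

/-- The part of the kernel of `π` lying in the subalgebra `F`. -/
def kerIn (F : Subalgebra R E) : Submodule R E :=
  LinearMap.ker π.toLinearMap ⊓ Subalgebra.toSubmodule F

omit [Module.Flat R S] in
theorem mem_kerIn {F : Subalgebra R E} {e : E} : e ∈ kerIn π F ↔ π e = 0 ∧ e ∈ F := Iff.rfl

set_option maxHeartbeats 800000 in
/-- **The shrinking step.** -/
theorem step (hπ2 : RingHom.ker (π : E →+* S) ^ 2 = ⊥) (F : Subalgebra R E)
    (hF : ∀ x : S, ∃ e ∈ F, π e = x) :
    ∃ F' : Subalgebra R E, F' ≤ F ∧ (∀ x : S, ∃ e ∈ F', π e = x) ∧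
      kerIn π F' ≤ I • kerIn π F := by
  let πF : F →ₐ[R] S := π.comp F.val
  have hπF : Function.Surjective πF := by
    intro x
    obtain ⟨e, he, hx⟩ := hF x
    exact ⟨⟨e, he⟩, hx⟩
  let IF : Ideal F := I.map (algebraMap R F)
  let IS : Ideal S := I.map (algebraMap R S)
  have hIFS : IF.map (πF : F →+* S) = IS := by
    rw [Ideal.map_map]
    congr 1
    exact πF.comp_algebraMap
  have hle : IF ≤ IS.comap (πF : F →+* S) := by
    rw [← Ideal.map_le_iff_le_comap, hIFS]
  let π₀r : F ⧸ IF →+* S ⧸ IS := Ideal.quotientMap IS (πF : F →+* S) hle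
  have hπ₀r : ∀ f : F, π₀r (Ideal.Quotient.mk IF f) = Ideal.Quotient.mk IS (πF f) := fun f => rfl
  let π₀ : F ⧸ IF →ₐ[R ⧸ I] S ⧸ IS :=
    { π₀r with
      commutes' := by
        intro r
        obtain ⟨r, rfl⟩ := Ideal.Quotient.mk_surjective r
        show π₀r (algebraMap (R ⧸ I) (F ⧸ IF) (Ideal.Quotient.mk I r)) = _
        rw [Ideal.Quotient.algebraMap_quotient_map_quotient, hπ₀r,
          Ideal.Quotient.algebraMap_quotient_map_quotient, AlgHom.commutes] }
  have hπ₀ : ∀ f : F, π₀ (Ideal.Quotient.mk IF f) = Ideal.Quotient.mk IS (πF f) := fun f => rfl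
  have hsurj₀ : Function.Surjective π₀ := Ideal.quotientMap_surjective (H := hle) hπF
  -- elements of the kernel of `π₀` come from the kernel of `πF`
  have hker₀ : ∀ x : F ⧸ IF, π₀ x = 0 → ∃ m : F, πF m = 0 ∧ Ideal.Quotient.mk IF m = x := by
    intro x hx
    obtain ⟨f, rfl⟩ := Ideal.Quotient.mk_surjective x
    rw [hπ₀, Ideal.Quotient.eq_zero_iff_mem, ← hIFS,
      Ideal.mem_map_iff_of_surjective (πF : F →+* S) hπF] at hx
    obtain ⟨i, hi, hif⟩ := hx
    refine ⟨f - i, ?_, ?_⟩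
    · have : (πF : F →+* S) i = πF i := rfl
      rw [map_sub, ← hif, this, sub_self]
    · rw [map_sub, Ideal.Quotient.eq_zero_iff_mem.2 hi, sub_zero]
  have hmul : ∀ a b : F, πF a = 0 → πF b = 0 → a * b = 0 := by
    intro a b ha hb
    have h1 : (a : E) * (b : E) ∈ RingHom.ker (π : E →+* S) ^ 2 := by
      rw [pow_two]
      exact Ideal.mul_mem_mul ha hb
    rw [hπ2, Ideal.mem_bot] at h1
    exact Subtype.ext h1
  have hnil₀ : IsNilpotent (RingHom.ker (π₀ : F ⧸ IF →+* S ⧸ IS)) := by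
    have hsq : RingHom.ker (π₀ : F ⧸ IF →+* S ⧸ IS) * RingHom.ker (π₀ : F ⧸ IF →+* S ⧸ IS) = ⊥ := by
      rw [eq_bot_iff, Ideal.mul_le]
      intro x hx y hy
      obtain ⟨a, ha, rfl⟩ := hker₀ x hx
      obtain ⟨b, hb, rfl⟩ := hker₀ y hy
      rw [← map_mul, hmul a b ha hb, map_zero]
      exact Ideal.zero_mem _
    refine ⟨2, ?_⟩
    rw [Submodule.pow_succ, Submodule.pow_one]
    exact hsq
  let s₀ : S ⧸ IS →ₐ[R ⧸ I] F ⧸ IF :=
    Algebra.FormallySmooth.liftOfSurjective (AlgHom.id (R ⧸ I) (S ⧸ IS)) π₀ hsurj₀ hnil₀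
  have hs₀ : ∀ y, π₀ (s₀ y) = y := fun y =>
    Algebra.FormallySmooth.liftOfSurjective_apply (AlgHom.id (R ⧸ I) (S ⧸ IS)) π₀ hsurj₀ hnil₀ y
  let G : Subalgebra R F :=
    Subalgebra.comap (Ideal.Quotient.mkₐ R IF) (s₀.range.restrictScalars R)
  have hG : ∀ f : F, f ∈ G ↔ ∃ y, s₀ y = Ideal.Quotient.mk IF f := fun f => Iff.rfl
  refine ⟨G.map F.val, ?_, ?_, ?_⟩
  · rintro _ ⟨f, -, rfl⟩
    exact f.2
  · intro x
    obtain ⟨f₁, hf₁⟩ := Ideal.Quotient.mk_surjective (s₀ (Ideal.Quotient.mk IS x))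
    have h1 : Ideal.Quotient.mk IS (πF f₁) = Ideal.Quotient.mk IS x := by
      rw [← hπ₀, hf₁, hs₀]
    have h2 : x - πF f₁ ∈ IS := by
      rw [← Ideal.Quotient.eq_zero_iff_mem, map_sub, h1, sub_self]
    rw [← hIFS, Ideal.mem_map_iff_of_surjective (πF : F →+* S) hπF] at h2
    obtain ⟨i, hi, hix⟩ := h2
    refine ⟨F.val (f₁ + i), Subalgebra.mem_map.2 ⟨f₁ + i, ?_, rfl⟩, ?_⟩
    · refine (hG _).2 ⟨Ideal.Quotient.mk IS x, ?_⟩
      rw [map_add, Ideal.Quotient.eq_zero_iff_mem.2 hi, add_zero, hf₁]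
    · show πF (f₁ + i) = x
      have : (πF : F →+* S) i = πF i := rfl
      rw [map_add, ← this, hix]
      ring
  · rintro e ⟨he0, ⟨f, hfG, rfl⟩⟩
    have hf0 : πF f = 0 := he0
    obtain ⟨y, hy⟩ := (hG f).1 hfG
    have hy0 : y = 0 := by
      rw [← hs₀ y, hy, hπ₀, hf0, map_zero]
    have hfIF : f ∈ IF := by
      rw [← Ideal.Quotient.eq_zero_iff_mem, ← hy, hy0, map_zero]
    have hf1 : f ∈ LinearMap.ker πF.toLinearMap ⊓ I • (⊤ : Submodule R F) := by
      refine ⟨hf0, ?_⟩
      rw [Ideal.smul_top_eq_map]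
      exact hfIF
    have hf2 := ker_inf_smul_top_le I πF.toLinearMap hπF hf1
    have hf3 : F.val.toLinearMap f ∈ (I • LinearMap.ker πF.toLinearMap).map F.val.toLinearMap :=
      Submodule.mem_map_of_mem hf2
    rw [Submodule.map_smul''] at hf3
    refine Submodule.smul_mono (le_refl I) ?_ hf3
    rintro _ ⟨f', hf', rfl⟩
    exact ⟨hf', f'.2⟩

/-- **Sections of square-zero extensions.** -/
theorem exists_section (hI : IsNilpotent I) (hπ : Function.Surjective π)
    (hπ2 : RingHom.ker (π : E →+* S) ^ 2 = ⊥) :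
    ∃ s : S →ₐ[R] E, π.comp s = AlgHom.id R S := by
  obtain ⟨n, hn⟩ := hI
  have key : ∀ j : ℕ, ∃ F : Subalgebra R E, (∀ x : S, ∃ e ∈ F, π e = x) ∧
      kerIn π F ≤ I ^ j • LinearMap.ker π.toLinearMap := by
    intro j
    induction j with
    | zero =>
      refine ⟨⊤, fun x => ?_, ?_⟩
      · obtain ⟨e, he⟩ := hπ x
        exact ⟨e, Algebra.mem_top, he⟩
      · rw [pow_zero, Ideal.one_eq_top, Submodule.top_smul]
        exact inf_le_left
    | succ j ih =>
      obtain ⟨F, hF1, hF2⟩ := ih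
      obtain ⟨F', -, hF'1, hF'2⟩ := step I π hπ2 F hF1
      refine ⟨F', hF'1, hF'2.trans ?_⟩
      rw [pow_succ', Submodule.mul_smul]
      exact Submodule.smul_mono (le_refl I) hF2
  obtain ⟨F, hF1, hF2⟩ := key n
  rw [hn, Ideal.zero_eq_bot, Submodule.bot_smul, le_bot_iff] at hF2
  let πF : F →ₐ[R] S := π.comp F.val
  have hbij : Function.Bijective πF := by
    constructor
    · rw [injective_iff_map_eq_zero]
      intro f hf
      have : (f : E) ∈ kerIn π F := ⟨hf, f.2⟩
      rw [hF2, Submodule.mem_bot] at this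
      exact Subtype.ext this
    · intro x
      obtain ⟨e, he, hx⟩ := hF1 x
      exact ⟨⟨e, he⟩, hx⟩
  let e : F ≃ₐ[R] S := AlgEquiv.ofBijective πF hbij
  refine ⟨F.val.comp e.symm.toAlgHom, ?_⟩
  ext x
  show πF (e.symm x) = x
  exact e.apply_symm_apply x

end Step

section Main

variable {R : Type u} [CommRing R] (I : Ideal R) {S : Type v} [CommRing S] [Algebra R S]
  [Module.Flat R S] [Algebra.FormallySmooth (R ⧸ I) (S ⧸ I.map (algebraMap R S))]

/-- **EGA 0_IV 19.7.1, nilpotent case.** -/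
theorem formallySmooth_of_flat_of_isNilpotent (hI : IsNilpotent I) :
    Algebra.FormallySmooth R S := by
  refine Algebra.FormallySmooth.of_comp_surjective (fun B _ _ N hN g => ?_)
  let E : Subalgebra R (B × S) :=
    AlgHom.equalizer ((Ideal.Quotient.mkₐ R N).comp (AlgHom.fst R B S))
      (g.comp (AlgHom.snd R B S))
  have hE : ∀ w : B × S, w ∈ E ↔ Ideal.Quotient.mk N w.1 = g w.2 := fun w => Iff.rfl
  let π : E →ₐ[R] S := (AlgHom.snd R B S).comp E.val
  have hπ : Function.Surjective π := by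
    intro x
    obtain ⟨b, hb⟩ := Ideal.Quotient.mk_surjective (g x)
    exact ⟨⟨(b, x), (hE _).2 hb⟩, rfl⟩
  have hπ2 : RingHom.ker (π : E →+* S) ^ 2 = ⊥ := by
    rw [pow_two, eq_bot_iff, Ideal.mul_le]
    intro x hx y hy
    have hx2 : (x : B × S).2 = 0 := hx
    have hy2 : (y : B × S).2 = 0 := hy
    have hx1 : (x : B × S).1 ∈ N := by
      rw [← Ideal.Quotient.eq_zero_iff_mem, (hE _).1 x.2, hx2, map_zero]
    have hy1 : (y : B × S).1 ∈ N := by
      rw [← Ideal.Quotient.eq_zero_iff_mem, (hE _).1 y.2, hy2, map_zero]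
    have h1 : (x : B × S).1 * (y : B × S).1 = 0 := by
      have : (x : B × S).1 * (y : B × S).1 ∈ N ^ 2 := by
        rw [pow_two]; exact Ideal.mul_mem_mul hx1 hy1
      rwa [hN, Ideal.mem_bot] at this
    rw [Ideal.mem_bot]
    refine Subtype.ext (Prod.ext h1 ?_)
    show (x : B × S).2 * (y : B × S).2 = 0
    rw [hx2, zero_mul]
  obtain ⟨s, hs⟩ := exists_section I π hI hπ hπ2
  refine ⟨(AlgHom.fst R B S).comp (E.val.comp s), ?_⟩
  ext x
  have h1 : π (s x) = x := congrArg (fun f => f x) hs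
  have h2 := (hE _).1 (s x).2
  show Ideal.Quotient.mk N ((s x : B × S)).1 = g x
  rw [h2]
  exact congrArg g h1

end Main

end Groth.Agent.Lib.Helper24.FlatNilSmooth

end
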