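import Mathlib

/-!
# Field extensions of perfect rings of characteristic `p` are formally smooth (helper24)

`R₀` a ring with `p = 0` and surjective Frobenius (e.g. `𝔽_p`, a perfect field), `k` a field which
is an `R₀`-algebra (arbitrary, not necessarily finitely generated). Then `k` is formally smooth
over `R₀`.

Proof: for a square-zero extension `B → B/I` the map `σ : B/I → B`, `x ↦ (any lift of x)^p` is a
ring homomorphism; `σ ∘ g` lifts `g` on `k^p`. Zorn's lemma on subrings of `k × B` inside the fibre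
product, projecting injectively to `k`; a maximal one projects onto `k` because `X^p - b^p` is
irreducible over any subfield `L ⊇ k^p` not containing `b`.
-/

set_option autoImplicit false

noncomputable section

namespace Groth.Agent.Lib.Helper24.PerfSmooth

open Polynomial

universe u v

section Sigma

variable {B : Type*} [CommRing B] (I : Ideal B) (hI : I ^ 2 = ⊥) (p : ℕ) (hp : p.Prime)
  (hpB : (p : B) = 0)

include hI hp hpB in
theorem pow_eq_of_sub_mem {a b : B} (h : a - b ∈ I) : a ^ p = b ^ p := by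
  obtain ⟨r, hr⟩ := exists_add_pow_prime_eq hp b (a - b)
  have hn2 : (a - b) ^ 2 = 0 := by
    have : (a - b) ^ 2 ∈ I ^ 2 := Ideal.pow_mem_pow h 2
    rwa [hI, Ideal.mem_bot] at this
  have hnp : (a - b) ^ p = 0 := by
    have h2 : 2 ≤ p := hp.two_le
    rw [← Nat.sub_add_cancel h2, pow_add, hn2, mul_zero]
  have e : a = b + (a - b) := by ring
  rw [e, hr, hnp, hpB]
  ring

/-- `x ↦ (lift of x)^p`. -/
def sigmaFun (x : B ⧸ I) : B := (Function.surjInv Ideal.Quotient.mk_surjective x) ^ p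

include hI hp hpB in
theorem sigmaFun_mk (b : B) : sigmaFun I p (Ideal.Quotient.mk I b) = b ^ p := by
  apply pow_eq_of_sub_mem I hI p hp hpB
  rw [← Ideal.Quotient.eq]
  exact Function.surjInv_eq Ideal.Quotient.mk_surjective _

/-- The Frobenius-semilinear splitting `σ : B/I → B`. -/
def sigma : B ⧸ I →+* B where
  toFun := sigmaFun I p
  map_one' := by
    rw [← map_one (Ideal.Quotient.mk I), sigmaFun_mk I hI p hp hpB, one_pow]
  map_mul' x y := by
    obtain ⟨a, rfl⟩ := Ideal.Quotient.mk_surjective x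
    obtain ⟨b, rfl⟩ := Ideal.Quotient.mk_surjective y
    rw [← map_mul, sigmaFun_mk I hI p hp hpB, sigmaFun_mk I hI p hp hpB,
      sigmaFun_mk I hI p hp hpB, mul_pow]
  map_zero' := by
    rw [← map_zero (Ideal.Quotient.mk I), sigmaFun_mk I hI p hp hpB, zero_pow hp.ne_zero]
  map_add' x y := by
    obtain ⟨a, rfl⟩ := Ideal.Quotient.mk_surjective x
    obtain ⟨b, rfl⟩ := Ideal.Quotient.mk_surjective y
    rw [← map_add, sigmaFun_mk I hI p hp hpB, sigmaFun_mk I hI p hp hpB,
      sigmaFun_mk I hI p hp hpB]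
    obtain ⟨r, hr⟩ := exists_add_pow_prime_eq hp a b
    rw [hr, hpB]
    ring

theorem sigma_mk (b : B) : sigma I hI p hp hpB (Ideal.Quotient.mk I b) = b ^ p :=
  sigmaFun_mk I hI p hp hpB b

theorem mk_sigma (x : B ⧸ I) : Ideal.Quotient.mk I (sigma I hI p hp hpB x) = x ^ p := by
  obtain ⟨a, rfl⟩ := Ideal.Quotient.mk_surjective x
  rw [sigma_mk, map_pow]

end Sigma

section Main

variable (p : ℕ) [hpf : Fact p.Prime] {R₀ : Type u} [CommRing R₀] {k : Type v} [Field k]
  [Algebra R₀ k] {B : Type*} [CommRing B] [Algebra R₀ B] (I : Ideal B)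

/-- The key lifting statement. -/
theorem exists_lift (hfrob : ∀ a : R₀, ∃ b : R₀, b ^ p = a) (hpR : (p : R₀) = 0)
    (hI : I ^ 2 = ⊥) (g : k →ₐ[R₀] B ⧸ I) :
    ∃ f : k →ₐ[R₀] B, (Ideal.Quotient.mkₐ R₀ I).comp f = g := by
  classical
  have hp : p.Prime := hpf.out
  have hpB : (p : B) = 0 := by rw [← map_natCast (algebraMap R₀ B), hpR, map_zero]
  have hpk : (p : k) = 0 := by rw [← map_natCast (algebraMap R₀ k), hpR, map_zero]
  haveI : CharP k p := (CharP.charP_iff_prime_eq_zero hp).2 hpk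
  let σ := sigma I hI p hp hpB
  let g' : k →+* B ⧸ I := g
  let v₀ : k →+* B := σ.comp g'
  have hv₀ : ∀ a : k, Ideal.Quotient.mk I (v₀ a) = g (a ^ p) := fun a => by
    show Ideal.Quotient.mk I (σ (g a)) = _
    rw [mk_sigma, map_pow]
  let E := k × B
  let Γ₀ : Subring E := (RingHom.prod (frobenius k p) v₀).range
  let Eg : Subring E := RingHom.eqLocus ((Ideal.Quotient.mk I).comp (RingHom.snd k B))
    (g'.comp (RingHom.fst k B))
  have hEg : ∀ w : E, w ∈ Eg ↔ Ideal.Quotient.mk I w.2 = g w.1 := fun w => Iff.rfl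
  have hΓ₀mem : ∀ a : k, ((a ^ p, v₀ a) : E) ∈ Γ₀ := fun a => ⟨a, rfl⟩
  let 𝒮 : Set (Subring E) := {Γ | Γ₀ ≤ Γ ∧ Γ ≤ Eg ∧ ∀ w ∈ Γ, w.1 = 0 → w.2 = 0}
  have hΓ₀ : Γ₀ ∈ 𝒮 := by
    refine ⟨le_rfl, ?_, ?_⟩
    · rintro _ ⟨a, rfl⟩
      rw [hEg]
      exact hv₀ a
    · rintro _ ⟨a, rfl⟩ h0
      have ha : a = 0 := by
        have : a ^ p = 0 := h0
        exact pow_eq_zero_iff hp.ne_zero |>.1 this
      show v₀ a = 0
      rw [ha, map_zero]
  obtain ⟨Γ, hΓmax⟩ : ∃ Γ, Maximal (· ∈ 𝒮) Γ := by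
    refine zorn_le₀ 𝒮 (fun c hc hchain => ?_)
    rcases c.eq_empty_or_nonempty with rfl | hne
    · exact ⟨Γ₀, hΓ₀, fun z hz => (Set.notMem_empty z hz).elim⟩
    · have hdir : DirectedOn (· ≤ ·) c := hchain.directedOn
      refine ⟨sSup c, ⟨?_, ?_, ?_⟩, fun z hz => le_sSup hz⟩
      · obtain ⟨Γ₁, hΓ₁⟩ := hne
        exact (hc hΓ₁).1.trans (le_sSup hΓ₁)
      · exact sSup_le (fun Γ₁ hΓ₁ => (hc hΓ₁).2.1)
      · intro w hw
        rw [Subring.mem_sSup_of_directedOn hne hdir] at hw
        obtain ⟨Γ₁, hΓ₁, hw⟩ := hw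
        exact (hc hΓ₁).2.2 w hw
  obtain ⟨hΓ₀le, hΓEg, hΓinj⟩ := hΓmax.prop
  -- the projection of `Γ` to `k`
  let L : Subring k := Γ.map (RingHom.fst k B)
  have hpowL : ∀ a : k, a ^ p ∈ L := fun a => ⟨(a ^ p, v₀ a), hΓ₀le (hΓ₀mem a), rfl⟩
  have hLtop : L = ⊤ := by
    by_contra hne
    obtain ⟨b₀, hb₀⟩ : ∃ b₀ : k, b₀ ∉ L := by
      by_contra hcon
      push Not at hcon
      exact hne (eq_top_iff.2 fun x _ => hcon x)
    -- `L` is a subfield
    let L' : Subfield k :=
      { L with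
        inv_mem' := by
          intro x hx
          by_cases hx0 : x = 0
          · rw [hx0, inv_zero]; exact L.zero_mem
          · have e : x⁻¹ = x ^ (p - 1) * (x⁻¹) ^ p := by
              have h1 : p = (p - 1) + 1 := (Nat.sub_add_cancel hp.one_le).symm
              have h2 : (x⁻¹) ^ p = (x⁻¹) ^ (p - 1) * x⁻¹ := by
                conv_lhs => rw [h1, pow_succ]
              rw [h2, ← mul_assoc, ← mul_pow, mul_inv_cancel₀ hx0, one_pow, one_mul]
            rw [e]
            exact L.mul_mem (L.pow_mem hx _) (hpowL _) }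
    have hL' : ∀ x : k, x ∈ L' ↔ x ∈ L := fun x => Iff.rfl
    let a₀ : L' := ⟨b₀ ^ p, hpowL b₀⟩
    have hirr : Irreducible (X ^ p - C a₀ : L'[X]) := by
      refine X_pow_sub_C_irreducible_of_prime hp (fun b hb => hb₀ ?_)
      have h1 : (b : k) ^ p = b₀ ^ p := congrArg Subtype.val hb
      have h2 : (b : k) = b₀ := frobenius_inj k p h1
      rw [← h2]
      exact b.2
    have hroot : aeval b₀ (X ^ p - C a₀ : L'[X]) = 0 := by
      rw [map_sub, map_pow, aeval_X, aeval_C]
      exact sub_self _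
    have hmin : (X ^ p - C a₀ : L'[X]) = minpoly L' b₀ :=
      minpoly.eq_of_irreducible_of_monic hirr hroot (monic_X_pow_sub_C a₀ hp.ne_zero)
    have hdeg : (minpoly L' b₀).natDegree = p := by
      rw [← hmin, natDegree_X_pow_sub_C]
    have hli := linearIndependent_pow (K := L') b₀
    rw [Fintype.linearIndependent_iff] at hli
    -- the enlarged subring
    let t₀ : B := Function.surjInv Ideal.Quotient.mk_surjective (g b₀)
    have ht₀ : Ideal.Quotient.mk I t₀ = g b₀ := Function.surjInv_eq _ _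
    let z : E := (b₀, t₀)
    have hzEg : z ∈ Eg := by rw [hEg]; exact ht₀
    have hzp : z ^ p ∈ Γ := by
      have h1 : z ^ p = (b₀ ^ p, v₀ b₀) := by
        refine Prod.ext rfl ?_
        show t₀ ^ p = σ (g b₀)
        rw [← ht₀, sigma_mk]
      rw [h1]
      exact hΓ₀le (hΓ₀mem b₀)
    let ζ : Γ := ⟨z ^ p, hzp⟩
    let evz : Γ[X] →+* E := eval₂RingHom Γ.subtype z
    let Γ' : Subring E := evz.range
    have hΓle : Γ ≤ Γ' := fun w hw => ⟨C ⟨w, hw⟩, by simp [evz]⟩
    have hzΓ' : z ∈ Γ' := ⟨X, by simp [evz]⟩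
    have hΓ'mem : Γ' ∈ 𝒮 := by
      refine ⟨hΓ₀le.trans hΓle, ?_, ?_⟩
      · rintro _ ⟨q, rfl⟩
        show eval₂ Γ.subtype z q ∈ Eg
        rw [eval₂_eq_sum_range]
        exact Eg.sum_mem (fun i _ => Eg.mul_mem (hΓEg (q.coeff i).2) (Eg.pow_mem hzEg i))
      · rintro _ ⟨q, rfl⟩ h0
        let m : Γ[X] := X ^ p - C ζ
        have hm : m.Monic := monic_X_pow_sub_C ζ hp.ne_zero
        have hmz : eval₂ Γ.subtype z m = 0 := by
          simp [m, ζ]
        let r := q %ₘ m
        have hqr : evz q = evz r := by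
          have h1 : r + m * (q /ₘ m) = q := modByMonic_add_div q m
          conv_lhs => rw [← h1]
          show eval₂ Γ.subtype z (r + m * (q /ₘ m)) = eval₂ Γ.subtype z r
          rw [eval₂_add, eval₂_mul, hmz, zero_mul, add_zero]
        have hrdeg : r.natDegree < p := by
          have h1 : r.degree < m.degree := degree_modByMonic_lt q hm
          have hm0 : m.natDegree = p := natDegree_X_pow_sub_C
          by_cases hr0 : r = 0
          · rw [hr0, natDegree_zero]; exact hp.pos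
          · rw [degree_eq_natDegree hr0, degree_eq_natDegree hm.ne_zero, hm0] at h1
            exact_mod_cast h1
        have hrsum : evz r = ∑ i ∈ Finset.range p, ((r.coeff i : Γ) : E) * z ^ i := by
          show eval₂ Γ.subtype z r = _
          rw [eval₂_eq_sum_range' Γ.subtype hrdeg]
          rfl
        have hcoeffL : ∀ i, ((r.coeff i : Γ) : E).1 ∈ L' := fun i =>
          ⟨(r.coeff i : Γ), (r.coeff i).2, rfl⟩
        have h1 : ∑ i : Fin (minpoly L' b₀).natDegree,
            (⟨((r.coeff i : Γ) : E).1, hcoeffL i⟩ : L') • b₀ ^ (i : ℕ) = 0 := by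
          have h2 : (evz r).1 = 0 := by rw [← hqr]; exact h0
          rw [hrsum, Prod.fst_sum] at h2
          rw [hdeg, ← h2, Finset.sum_range]
          refine Finset.sum_congr rfl (fun i _ => ?_)
          rw [Prod.fst_mul, Prod.pow_fst]
          rfl
        have h3 := hli _ h1
        have hr0 : r = 0 := by
          refine Polynomial.ext (fun i => ?_)
          by_cases hi : i < p
          · have h4 := h3 ⟨i, by rw [hdeg]; exact hi⟩
            have h5 : ((r.coeff i : Γ) : E).1 = 0 := congrArg Subtype.val h4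
            have h6 : ((r.coeff i : Γ) : E).2 = 0 := hΓinj _ (r.coeff i).2 h5
            rw [coeff_zero]
            exact Subtype.ext (Prod.ext h5 h6)
          · rw [coeff_zero]
            exact coeff_eq_zero_of_natDegree_lt (lt_of_lt_of_le hrdeg (not_lt.1 hi))
        show (evz q).2 = 0
        rw [hqr, hr0, map_zero]
        rfl
    have hle : Γ' ≤ Γ := hΓmax.le_of_ge hΓ'mem hΓle
    exact hb₀ ⟨z, hle hzΓ', rfl⟩
  -- the section
  let pr : Γ →+* k := (RingHom.fst k B).comp Γ.subtype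
  have hprbij : Function.Bijective pr := by
    constructor
    · rw [injective_iff_map_eq_zero]
      intro w hw
      have h1 : (w : E).1 = 0 := hw
      have h2 : (w : E).2 = 0 := hΓinj _ w.2 h1
      exact Subtype.ext (Prod.ext h1 h2)
    · intro x
      have hx : x ∈ L := by rw [hLtop]; trivial
      obtain ⟨w, hw, rfl⟩ := hx
      exact ⟨⟨w, hw⟩, rfl⟩
  let e : Γ ≃+* k := RingEquiv.ofBijective pr hprbij
  have he : ∀ w : Γ, e w = (w : E).1 := fun w => rfl
  let s : k →+* B := (RingHom.snd k B).comp (Γ.subtype.comp e.symm.toRingHom)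
  have hs : ∀ w : Γ, s (w : E).1 = (w : E).2 := by
    intro w
    show ((e.symm (w : E).1 : Γ) : E).2 = _
    rw [← he w, RingEquiv.symm_apply_apply]
  have hscomm : ∀ a : R₀, s (algebraMap R₀ k a) = algebraMap R₀ B a := by
    intro a
    obtain ⟨c, rfl⟩ := hfrob a
    have h1 := hs ⟨((algebraMap R₀ k c) ^ p, v₀ (algebraMap R₀ k c)),
      hΓ₀le (hΓ₀mem (algebraMap R₀ k c))⟩
    have h2 : algebraMap R₀ k (c ^ p) = (algebraMap R₀ k c) ^ p := map_pow _ _ _
    rw [h2]
    refine h1.trans ?_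
    show σ (g (algebraMap R₀ k c)) = _
    rw [AlgHom.commutes, ← Ideal.Quotient.mk_algebraMap, sigma_mk, map_pow]
  refine ⟨{ s with commutes' := hscomm }, ?_⟩
  ext x
  obtain ⟨w, rfl⟩ := e.surjective x
  show Ideal.Quotient.mk I (s (e w)) = g (e w)
  rw [he, hs]
  exact (hEg _).1 (hΓEg w.2)

/-- **Any field extension of a perfect ring of characteristic `p` is formally smooth.** -/
theorem formallySmooth_of_perfect (hfrob : ∀ a : R₀, ∃ b : R₀, b ^ p = a)
    (hpR : (p : R₀) = 0) : Algebra.FormallySmooth R₀ k :=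
  Algebra.FormallySmooth.of_comp_surjective
    (fun _ _ _ I hI g => exists_lift p I hfrob hpR hI g)

end Main

end Groth.Agent.Lib.Helper24.PerfSmooth

end
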