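import Mathlib
import Groth.Prelude.Def_CAlg2
import Groth.Prelude.Def_EGA4b

/-!
# Unibranch rings and completion, part 1: generalities (helper24)

* `henselianLocalRing_of_isAdicComplete`: a complete local ring is henselian.
* `exists_sub_mem_maximalIdeal_cpl`: `Â = A + m_Â`.
* `isLocalRing_tensor`: `B ⊗[A] N` is local if `N` is local and integral over the local ring `A`,
  `A → B` is a local homomorphism with `B = A + m_B`.
-/

set_option autoImplicit false

namespace Groth.Agent.Lib.Helper24.UniCpl

universe u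

open IsLocalRing TensorProduct

theorem henselianLocalRing_of_isAdicComplete (R : Type u) [CommRing R] [IsLocalRing R]
    [IsAdicComplete (maximalIdeal R) R] : HenselianLocalRing R := by
  refine { is_henselian := ?_ }
  intro f hf a₀ h₁ h₂
  have hH : HenselianRing R (maximalIdeal R) := inferInstance
  exact hH.is_henselian f hf a₀ h₁ (h₂.map (Ideal.Quotient.mk (maximalIdeal R)))

theorem exists_sub_mem_maximalIdeal_cpl (A : Type u) [CommRing A] [IsLocalRing A]
    [IsNoetherianRing A] (b : AdicCompletion (maximalIdeal A) A) :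
    ∃ a : A, b - algebraMap A (AdicCompletion (maximalIdeal A) A) a ∈
      maximalIdeal (AdicCompletion (maximalIdeal A) A) := by
  obtain ⟨a, ha⟩ := Ideal.Quotient.mk_surjective (AdicCompletion.evalOneₐ (maximalIdeal A) b)
  refine ⟨a, ?_⟩
  rw [AdicCompletion.maximalIdeal_eq_map,
    ← AdicCompletion.ker_evalOneₐ_eq_map (maximalIdeal A) (maximalIdeal A).fg_of_isNoetherianRing]
  rw [RingHom.mem_ker, map_sub, sub_eq_zero]
  have h1 : (AdicCompletion.evalOneₐ (maximalIdeal A)).toRingHom
      (algebraMap A (AdicCompletion (maximalIdeal A) A) a) = Ideal.Quotient.mk (maximalIdeal A) a :=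
    congrArg (fun f => f a) (AdicCompletion.evalOneₐ_comp_algebraMap_eq_mk (maximalIdeal A))
  exact ha.symm.trans h1.symm

section LocalTensor

variable (A B N : Type u) [CommRing A] [CommRing B] [CommRing N] [Algebra A B] [Algebra A N]
  [IsLocalRing A] [IsLocalRing B] [IsLocalRing N] [IsLocalHom (algebraMap A B)]
  [Algebra.IsIntegral A N]

/-- `B ⊗[A] N` is local. -/
theorem isLocalRing_tensor [Nontrivial (B ⊗[A] N)]
    (hB : ∀ b : B, ∃ a : A, b - algebraMap A B a ∈ maximalIdeal B) :
    IsLocalRing (B ⊗[A] N) := by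
  classical
  -- the candidate maximal ideal
  set M₀ : Ideal (B ⊗[A] N) :=
    (maximalIdeal B).map (algebraMap B (B ⊗[A] N)) ⊔
      (maximalIdeal N).map (Algebra.TensorProduct.includeRight : N →ₐ[A] B ⊗[A] N).toRingHom
    with hM₀
  -- every element is congruent to some `1 ⊗ n`
  have hdec : ∀ t : B ⊗[A] N, ∃ n : N, t - (1 : B) ⊗ₜ[A] n ∈ M₀ := by
    intro t
    induction t using TensorProduct.induction_on with
    | zero => exact ⟨0, by simp⟩
    | tmul b n =>
      obtain ⟨a, ha⟩ := hB b
      refine ⟨a • n, ?_⟩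
      have h1 : b ⊗ₜ[A] n - (1 : B) ⊗ₜ[A] (a • n) = (b - algebraMap A B a) ⊗ₜ[A] n := by
        rw [TensorProduct.sub_tmul, TensorProduct.tmul_smul, TensorProduct.smul_tmul',
          Algebra.smul_def, mul_one]
      rw [h1]
      have h2 : (b - algebraMap A B a) ⊗ₜ[A] n =
          algebraMap B (B ⊗[A] N) (b - algebraMap A B a) * ((1 : B) ⊗ₜ[A] n) := by
        rw [Algebra.TensorProduct.algebraMap_apply, Algebra.TensorProduct.tmul_mul_tmul]
        simp
      rw [h2]
      exact Ideal.mul_mem_right _ _ (Ideal.mem_sup_left (Ideal.mem_map_of_mem _ ha))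
    | add x y hx hy =>
      obtain ⟨n₁, h₁⟩ := hx
      obtain ⟨n₂, h₂⟩ := hy
      refine ⟨n₁ + n₂, ?_⟩
      have : x + y - (1 : B) ⊗ₜ[A] (n₁ + n₂) = (x - (1 : B) ⊗ₜ[A] n₁) + (y - (1 : B) ⊗ₜ[A] n₂) := by
        rw [TensorProduct.tmul_add]; ring
      rw [this]
      exact Ideal.add_mem _ h₁ h₂
  -- every maximal ideal equals `M₀`
  have hmax : ∀ M : Ideal (B ⊗[A] N), M.IsMaximal → M = M₀ := by
    intro M hM
    haveI := hM
    haveI : Algebra.IsIntegral B (B ⊗[A] N) := inferInstance
    -- `M ∩ B = m_B`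
    have hMB : M.comap (algebraMap B (B ⊗[A] N)) = maximalIdeal B := by
      haveI : (M.comap (algebraMap B (B ⊗[A] N))).IsMaximal :=
        Ideal.isMaximal_comap_of_isIntegral_of_isMaximal M
      exact IsLocalRing.eq_maximalIdeal inferInstance
    -- `M ∩ N = m_N`
    have hMN : M.comap (Algebra.TensorProduct.includeRight : N →ₐ[A] B ⊗[A] N).toRingHom =
        maximalIdeal N := by
      haveI hprime : (M.comap (Algebra.TensorProduct.includeRight :
          N →ₐ[A] B ⊗[A] N).toRingHom).IsPrime := Ideal.comap_isPrime _ M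
      have hover : (M.comap (Algebra.TensorProduct.includeRight :
          N →ₐ[A] B ⊗[A] N).toRingHom).comap (algebraMap A N) = maximalIdeal A := by
        rw [Ideal.comap_comap]
        have h1 : (Algebra.TensorProduct.includeRight : N →ₐ[A] B ⊗[A] N).toRingHom.comp
            (algebraMap A N) = (algebraMap B (B ⊗[A] N)).comp (algebraMap A B) := by
          ext a
          simp [Algebra.algebraMap_eq_smul_one]
        rw [h1, ← Ideal.comap_comap, hMB]
        exact IsLocalRing.maximalIdeal_comap (algebraMap A B)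
      haveI : (M.comap (Algebra.TensorProduct.includeRight :
          N →ₐ[A] B ⊗[A] N).toRingHom).IsMaximal := by
        apply Ideal.isMaximal_of_isIntegral_of_isMaximal_comap (R := A)
        rw [hover]
        infer_instance
      exact IsLocalRing.eq_maximalIdeal inferInstance
    apply le_antisymm
    · intro t ht
      obtain ⟨n, hn⟩ := hdec t
      have hM₀M : M₀ ≤ M := by
        rw [hM₀]
        refine sup_le ?_ ?_
        · rw [Ideal.map_le_iff_le_comap, hMB]
        · rw [Ideal.map_le_iff_le_comap, hMN]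
      have h1 : (1 : B) ⊗ₜ[A] n ∈ M := by
        have := M.sub_mem ht (hM₀M hn)
        rwa [sub_sub_cancel] at this
      have h2 : n ∈ maximalIdeal N := by
        rw [← hMN]
        exact h1
      have h3 : (1 : B) ⊗ₜ[A] n ∈ M₀ :=
        Ideal.mem_sup_right (Ideal.mem_map_of_mem
          (Algebra.TensorProduct.includeRight : N →ₐ[A] B ⊗[A] N).toRingHom h2)
      have := M₀.add_mem hn h3
      rwa [sub_add_cancel] at this
    · rw [hM₀]
      refine sup_le ?_ ?_
      · rw [Ideal.map_le_iff_le_comap, hMB]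
      · rw [Ideal.map_le_iff_le_comap, hMN]
  obtain ⟨M₁, hM₁⟩ := Ideal.exists_maximal (B ⊗[A] N)
  exact IsLocalRing.of_unique_max_ideal
    ⟨M₁, hM₁, fun M₂ hM₂ => (hmax M₂ hM₂).trans (hmax M₁ hM₁).symm⟩

end LocalTensor

end Groth.Agent.Lib.Helper24.UniCpl
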