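import Mathlib

/-!
Direct limits of local / henselian / strictly henselian rings along local homomorphisms (helper24).
-/

set_option autoImplicit false

noncomputable section

namespace Groth.Agent.Lib.helper24.DirectLimitLocal

open IsLocalRing Polynomial

universe u v

variable {ι : Type v} [Preorder ι] [Nonempty ι] [IsDirected ι (· ≤ ·)]
  (G : ι → Type u) [∀ i, CommRing (G i)]
  (f : ∀ i j, i ≤ j → G i →+* G j) [DirectedSystem G (fun i j h => f i j h)]

local notation "L" => Ring.DirectLimit G (fun i j h => f i j h)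
local notation "ofL" => Ring.DirectLimit.of G (fun i j h => f i j h)

theorem of_f' (i j : ι) (h : i ≤ j) (x : G i) : ofL j (f i j h x) = ofL i x :=
  Ring.DirectLimit.of_f (G := G) (f := fun i j h => f i j h) h x

theorem f_f (i j k : ι) (hij : i ≤ j) (hjk : j ≤ k) (x : G i) :
    f j k hjk (f i j hij x) = f i k (hij.trans hjk) x :=
  DirectedSystem.map_map (f := fun i j h => f i j h) hij hjk x

theorem of_eq_of {i j : ι} {x : G i} {y : G j} (h : ofL i x = ofL j y) :
    ∃ (k : ι) (hik : i ≤ k) (hjk : j ≤ k), f i k hik x = f j k hjk y := by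
  obtain ⟨k, hik, hjk⟩ := exists_ge_ge i j
  have h0 : ofL k (f i k hik x - f j k hjk y) = 0 := by
    rw [map_sub, of_f', of_f', h, sub_self]
  obtain ⟨l, hkl, hl⟩ := Ring.DirectLimit.of.zero_exact h0
  refine ⟨l, hik.trans hkl, hjk.trans hkl, ?_⟩
  rw [map_sub, sub_eq_zero, f_f, f_f] at hl
  exact hl

variable [∀ i, IsLocalRing (G i)] (hf : ∀ i j (h : i ≤ j), IsLocalHom (f i j h))

include hf in
theorem isUnit_of_iff (i : ι) (x : G i) : IsUnit (ofL i x) ↔ IsUnit x := by
  constructor
  · intro hu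
    obtain ⟨y, hy⟩ := hu.exists_right_inv
    obtain ⟨j, y', rfl⟩ := Ring.DirectLimit.exists_of y
    obtain ⟨k, hik, hjk⟩ := exists_ge_ge i j
    have h1 : ofL k (f i k hik x * f j k hjk y') = ofL k 1 := by
      rw [map_mul, of_f', of_f', hy, map_one]
    obtain ⟨l, hkl, _, hl⟩ := of_eq_of G f h1
    rw [map_mul, f_f, f_f, map_one] at hl
    have h2 : IsUnit (f i l (hik.trans hkl) x) := IsUnit.of_mul_eq_one _ hl
    have := hf i l (hik.trans hkl)
    exact isUnit_of_map_unit (f i l (hik.trans hkl)) x h2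
  · intro hu
    exact hu.map _

theorem nontrivial_limit : Nontrivial L := by
  refine ⟨⟨0, 1, ?_⟩⟩
  intro h
  have i : ι := Classical.arbitrary _
  have h1 : ofL i (1 : G i) = 0 := by rw [map_one]; exact h.symm
  obtain ⟨j, hij, hj⟩ := Ring.DirectLimit.of.zero_exact h1
  rw [map_one] at hj
  exact one_ne_zero hj

include hf in
theorem isLocalRing_limit : IsLocalRing L := by
  have := nontrivial_limit G f
  apply IsLocalRing.of_nonunits_add
  intro a b ha hb
  obtain ⟨i, x, rfl⟩ := Ring.DirectLimit.exists_of a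
  obtain ⟨j, y, rfl⟩ := Ring.DirectLimit.exists_of b
  obtain ⟨k, hik, hjk⟩ := exists_ge_ge i j
  rw [← of_f' G f i k hik] at ha ⊢
  rw [← of_f' G f j k hjk] at hb ⊢
  rw [mem_nonunits_iff, isUnit_of_iff G f hf] at ha hb
  rw [← map_add, mem_nonunits_iff, isUnit_of_iff G f hf]
  exact IsLocalRing.nonunits_add ha hb

include hf in
theorem of_mem_maximalIdeal_iff (hL : IsLocalRing L) (i : ι) (x : G i) :
    ofL i x ∈ maximalIdeal L ↔ x ∈ maximalIdeal (G i) := by
  rw [mem_maximalIdeal, mem_maximalIdeal, mem_nonunits_iff, mem_nonunits_iff,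
    isUnit_of_iff G f hf]

include hf in
theorem isLocalHom_of (i : ι) : IsLocalHom (ofL i) :=
  ⟨fun x hx => (isUnit_of_iff G f hf i x).1 hx⟩

/-- monic polynomials descend to monic polynomials at a finite level -/
theorem exists_monic_of (p : Polynomial L) (hp : p.Monic) :
    ∃ (i : ι) (q : (G i)[X]), q.Monic ∧ q.map (ofL i) = p := by
  have := nontrivial_limit G f
  obtain ⟨i, q, hq⟩ := Ring.DirectLimit.Polynomial.exists_of p
  have hlifts : p ∈ lifts (ofL i) := (mem_lifts _).2 ⟨q, hq⟩
  obtain ⟨q₁, hq₁, -, hq₁m⟩ := lifts_and_degree_eq_and_monic hlifts hp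
  exact ⟨i, q₁, hq₁m, hq₁⟩

include hf in
theorem henselian_limit (hH : ∀ i, HenselianLocalRing (G i)) : HenselianLocalRing L := by
  have hL := isLocalRing_limit G f hf
  refine { hL with is_henselian := ?_ }
  intro p hp a₀ h0 h1
  obtain ⟨i, q, hqm, hq⟩ := exists_monic_of G f p hp
  obtain ⟨j, a', rfl⟩ := Ring.DirectLimit.exists_of a₀
  obtain ⟨k, hik, hjk⟩ := exists_ge_ge i j
  have hofk : (ofL k).comp (f i k hik) = ofL i := by
    ext x
    exact of_f' G f i k hik x
  set q₂ := q.map (f i k hik) with hq₂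
  set a₂ := f j k hjk a' with ha₂
  have hq₂m : q₂.Monic := hqm.map _
  have hq₂f : q₂.map (ofL k) = p := by
    rw [hq₂, Polynomial.map_map, hofk, hq]
  have ha₂' : ofL k a₂ = ofL j a' := of_f' G f j k hjk a'
  have e0 : p.eval (ofL j a') = ofL k (q₂.eval a₂) := by
    rw [← hq₂f, ← ha₂', eval_map, eval₂_at_apply]
  have e1 : p.derivative.eval (ofL j a') = ofL k (q₂.derivative.eval a₂) := by
    rw [← hq₂f, ← ha₂', derivative_map, eval_map, eval₂_at_apply]
  rw [e0, of_mem_maximalIdeal_iff G f hf hL] at h0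
  rw [e1, isUnit_of_iff G f hf] at h1
  obtain ⟨y, hy0, hym⟩ := (hH k).is_henselian q₂ hq₂m a₂ h0 h1
  refine ⟨ofL k y, ?_, ?_⟩
  · show p.eval (ofL k y) = 0
    rw [← hq₂f, eval_map, eval₂_at_apply, hy0, map_zero]
  · rw [← ha₂', ← map_sub, of_mem_maximalIdeal_iff G f hf hL]
    exact hym

include hf in
theorem isSepClosed_limit (hL : IsLocalRing L)
    (hS : ∀ i, IsSepClosed (ResidueField (G i))) : IsSepClosed (ResidueField L) := by
  apply IsSepClosed.of_exists_root
  intro p hpm hpirr hpsep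
  have hsurj : Function.Surjective (residue L) := residue_surjective
  obtain ⟨P, hP, -, hPm⟩ := lifts_and_degree_eq_and_monic
    (mem_lifts_of_surjective hsurj p) hpm
  obtain ⟨i, q, hqm, hq⟩ := exists_monic_of G f P hPm
  have hloc := isLocalHom_of G f hf i
  set ρ : ResidueField (G i) →+* ResidueField L := ResidueField.map (ofL i) with hρ
  set qbar := q.map (residue (G i)) with hqbar
  have hmap : qbar.map ρ = p := by
    rw [hqbar, Polynomial.map_map, ← hP, ← hq, Polynomial.map_map]
    congr 1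
  have hsep : qbar.Separable := by
    rw [← Polynomial.separable_map ρ, hmap]
    exact hpsep
  have hdeg : qbar.degree ≠ 0 := by
    have h1 : (qbar.map ρ).degree = qbar.degree := Polynomial.degree_map qbar ρ
    rw [hmap] at h1
    rw [← h1]
    exact (Polynomial.degree_pos_of_irreducible hpirr).ne'
  obtain ⟨x, hx⟩ := (hS i).exists_root qbar hdeg hsep
  refine ⟨ρ x, ?_⟩
  rw [← hmap, eval_map, eval₂_at_apply, hx.eq_zero, map_zero]

end Groth.Agent.Lib.helper24.DirectLimitLocal

end
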