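import Mathlib

/-!
# Lifting finite étale algebras from the residue field of a local ring

* `etale_adjoinRoot`: `R[X]/(F)` is étale over `R` for `F` monic and separable.
* `separable_of_map_residue`: a monic polynomial over a local ring with separable reduction
  is separable.
* `tensorEquiv`: `T ⊗[R] R[X]/(F) ≃ T[X]/(F)`.
-/

open Polynomial IsLocalRing TensorProduct

namespace Groth.Agent.Lib.Helper24.FiniteEtaleLift

section Etale
variable {R : Type*} [CommRing R]

/-- the standard étale pair `(F, 1)` of a monic separable polynomial. -/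
noncomputable def pairOfSeparable (F : R[X]) (hF : F.Monic) (hs : F.Separable) :
    StandardEtalePair R where
  f := F
  monic_f := hF
  g := 1
  cond := by
    obtain ⟨a, b, hab⟩ := hs
    exact ⟨b, a, 0, by rw [pow_zero, ← hab]; ring⟩

theorem hasMap_root (P : StandardEtalePair R) (hg : P.g = 1) :
    P.HasMap (AdjoinRoot.root P.f) := by
  unfold StandardEtalePair.HasMap
  exact ⟨by rw [AdjoinRoot.aeval_eq, AdjoinRoot.mk_self], by rw [hg]; simp⟩

theorem eval₂_X_f (P : StandardEtalePair R) :
    P.f.eval₂ (Algebra.ofId R P.Ring : R →+* P.Ring) P.X = 0 := by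
  have := StandardEtalePair.hasMap_X (P := P)
  unfold StandardEtalePair.HasMap at this
  have h := this.1
  rwa [Polynomial.aeval_def] at h

noncomputable def equivAdjoinRoot (P : StandardEtalePair R) (hg : P.g = 1) :
    P.Ring ≃ₐ[R] AdjoinRoot P.f :=
  AlgEquiv.ofAlgHom
    (P.lift (AdjoinRoot.root P.f) (hasMap_root P hg))
    (AdjoinRoot.liftAlgHom P.f (Algebra.ofId _ _) P.X (eval₂_X_f P))
    (by
      apply AdjoinRoot.algHom_ext
      rw [AlgHom.comp_apply, AdjoinRoot.liftAlgHom_root, StandardEtalePair.lift_X,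
        AlgHom.id_apply])
    (by
      apply StandardEtalePair.hom_ext
      rw [AlgHom.comp_apply, StandardEtalePair.lift_X, AdjoinRoot.liftAlgHom_root,
        AlgHom.id_apply])

theorem etale_adjoinRoot (F : R[X]) (hF : F.Monic) (hs : F.Separable) :
    Algebra.Etale R (AdjoinRoot F) :=
  Algebra.Etale.of_equiv (equivAdjoinRoot (pairOfSeparable F hF hs) rfl)

end Etale

section Local
variable {R : Type*} [CommRing R] [IsLocalRing R]

theorem mk_mem_of_map_eq_zero (F p : R[X]) (hp : p.map (residue R) = 0) :
    AdjoinRoot.mk F p ∈ (maximalIdeal R).map (algebraMap R (AdjoinRoot F)) := by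
  have h1 : p ∈ Ideal.map (C : R →+* R[X]) (maximalIdeal R) := by
    rw [Ideal.mem_map_C_iff]
    intro n
    have := congrArg (fun q => q.coeff n) hp
    simp only [Polynomial.coeff_map, Polynomial.coeff_zero] at this
    rwa [residue_eq_zero_iff] at this
  have h2 := Ideal.mem_map_of_mem (AdjoinRoot.mk F) h1
  rw [Ideal.map_map] at h2
  exact h2

theorem mk_mem_of_dvd (F p : R[X]) (h : F.map (residue R) ∣ p.map (residue R)) :
    AdjoinRoot.mk F p ∈ (maximalIdeal R).map (algebraMap R (AdjoinRoot F)) := by
  obtain ⟨q', hq⟩ := h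
  obtain ⟨q, rfl⟩ := Polynomial.map_surjective (residue R) residue_surjective q'
  have h1 : (p - F * q).map (residue R) = 0 := by
    rw [Polynomial.map_sub, Polynomial.map_mul, hq, sub_self]
  have h2 := mk_mem_of_map_eq_zero F _ h1
  rwa [map_sub, map_mul, AdjoinRoot.mk_self, zero_mul, sub_zero] at h2

theorem map_maximalIdeal_le (F : R[X]) (hF : F.Monic) (M : Ideal (AdjoinRoot F))
    [hM : M.IsMaximal] : (maximalIdeal R).map (algebraMap R (AdjoinRoot F)) ≤ M := by
  have := hF.finite_adjoinRoot
  have : Algebra.IsIntegral R (AdjoinRoot F) := Algebra.IsIntegral.of_finite R _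
  have h1 : (M.comap (algebraMap R (AdjoinRoot F))).IsMaximal :=
    Ideal.isMaximal_comap_of_isIntegral_of_isMaximal M
  rw [Ideal.map_le_iff_le_comap, IsLocalRing.eq_maximalIdeal h1]

theorem separable_of_map_residue (F : R[X]) (hF : F.Monic)
    (hs : (F.map (residue R)).Separable) : F.Separable := by
  have hu : IsUnit (AdjoinRoot.mk F (derivative F)) := by
    by_contra hnu
    obtain ⟨M, hM, hmem⟩ := exists_max_ideal_of_mem_nonunits (mem_nonunits_iff.2 hnu)
    obtain ⟨a', b', hab⟩ := hs
    obtain ⟨a, rfl⟩ := Polynomial.map_surjective (residue R) residue_surjective a'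
    obtain ⟨b, rfl⟩ := Polynomial.map_surjective (residue R) residue_surjective b'
    have h1 : (a * F + b * derivative F - 1).map (residue R) = 0 := by
      rw [Polynomial.map_sub, Polynomial.map_add, Polynomial.map_mul, Polynomial.map_mul,
        Polynomial.map_one, ← Polynomial.derivative_map, hab, sub_self]
    have h2 := map_maximalIdeal_le F hF M (mk_mem_of_map_eq_zero F _ h1)
    rw [map_sub, map_add, map_mul, map_mul, AdjoinRoot.mk_self, mul_zero, zero_add, map_one] at h2
    have h3 : (1 : AdjoinRoot F) ∈ M := by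
      have := M.sub_mem (M.mul_mem_left (AdjoinRoot.mk F b) hmem) h2
      simpa using this
    exact hM.ne_top ((Ideal.eq_top_iff_one M).2 h3)
  obtain ⟨c, hc⟩ := hu.exists_right_inv
  obtain ⟨c', rfl⟩ := AdjoinRoot.mk_surjective c
  rw [← map_mul, ← map_one (AdjoinRoot.mk F), AdjoinRoot.mk_eq_mk] at hc
  obtain ⟨d, hd⟩ := hc
  refine ⟨-d, c', ?_⟩
  linear_combination hd

end Local

section Tensor
variable {R T : Type*} [CommRing R] [CommRing T] [Algebra R T]

theorem eval₂_tmul_root (F : R[X]) :
    (F.map (algebraMap R T)).eval₂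
      (Algebra.ofId T (T ⊗[R] AdjoinRoot F) : T →+* T ⊗[R] AdjoinRoot F)
      (1 ⊗ₜ AdjoinRoot.root F) = 0 := by
  rw [Polynomial.eval₂_map]
  have h1 : ((Algebra.ofId T (T ⊗[R] AdjoinRoot F) : T →+* T ⊗[R] AdjoinRoot F).comp
      (algebraMap R T)) = algebraMap R (T ⊗[R] AdjoinRoot F) := by
    ext r
    simp [Algebra.TensorProduct.algebraMap_apply]
  rw [h1, ← Polynomial.aeval_def]
  have h2 : (1 : T) ⊗ₜ[R] AdjoinRoot.root F =
      (Algebra.TensorProduct.includeRight : AdjoinRoot F →ₐ[R] T ⊗[R] AdjoinRoot F)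
        (AdjoinRoot.root F) := rfl
  rw [h2, Polynomial.aeval_algHom_apply, AdjoinRoot.aeval_eq, AdjoinRoot.mk_self, map_zero]

theorem eval₂_root_of_map (F : R[X]) (G : T[X]) (hG : F.map (algebraMap R T) = G) :
    F.eval₂ (Algebra.ofId R (AdjoinRoot G) : R →+* AdjoinRoot G) (AdjoinRoot.root G) = 0 := by
  have h1 : (Algebra.ofId R (AdjoinRoot G) : R →+* AdjoinRoot G) =
      (AdjoinRoot.of G).comp (algebraMap R T) := AdjoinRoot.algebraMap_eq' (S := R) (f := G)
  rw [h1, ← Polynomial.eval₂_map, hG, AdjoinRoot.eval₂_root]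

/-- the base change map `R[X]/(F) → T[X]/(G)`. -/
noncomputable def baseMap (F : R[X]) (G : T[X]) (hG : F.map (algebraMap R T) = G) :
    AdjoinRoot F →ₐ[R] AdjoinRoot G :=
  AdjoinRoot.liftAlgHom F (Algebra.ofId R (AdjoinRoot G)) (AdjoinRoot.root G)
    (eval₂_root_of_map F G hG)

@[simp]
theorem baseMap_root (F : R[X]) (G : T[X]) (hG : F.map (algebraMap R T) = G) :
    baseMap F G hG (AdjoinRoot.root F) = AdjoinRoot.root G :=
  AdjoinRoot.liftAlgHom_root _ _ _ _

theorem baseMap_mk (F : R[X]) (G : T[X]) (hG : F.map (algebraMap R T) = G) (p : R[X]) :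
    baseMap F G hG (AdjoinRoot.mk F p) = AdjoinRoot.mk G (p.map (algebraMap R T)) := by
  rw [baseMap, AdjoinRoot.liftAlgHom_mk, ← AdjoinRoot.aeval_eq, Polynomial.aeval_def,
    Polynomial.eval₂_map]
  congr 1

theorem eval₂_tmul_root' (F : R[X]) (G : T[X]) (hG : F.map (algebraMap R T) = G) :
    G.eval₂ (Algebra.ofId T (T ⊗[R] AdjoinRoot F) : T →+* T ⊗[R] AdjoinRoot F)
      (1 ⊗ₜ AdjoinRoot.root F) = 0 := by
  subst hG
  exact eval₂_tmul_root F

/-- `T ⊗[R] R[X]/(F) ≃ T[X]/(G)` for `G` the image of `F`. -/
noncomputable def tensorEquiv (F : R[X]) (G : T[X]) (hG : F.map (algebraMap R T) = G) :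
    T ⊗[R] AdjoinRoot F ≃ₐ[T] AdjoinRoot G :=
  AlgEquiv.ofAlgHom
    (Algebra.TensorProduct.lift (Algebra.ofId T _) (baseMap F G hG)
      (fun _ _ => Commute.all _ _))
    (AdjoinRoot.liftAlgHom _ (Algebra.ofId T _) (1 ⊗ₜ AdjoinRoot.root F)
      (eval₂_tmul_root' F G hG))
    (by
      apply AdjoinRoot.algHom_ext
      simp)
    (by
      apply Algebra.TensorProduct.ext
      · ext
      · apply AdjoinRoot.algHom_ext
        simp)

theorem tensorEquiv_tmul (F : R[X]) (G : T[X]) (hG : F.map (algebraMap R T) = G)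
    (x : AdjoinRoot F) :
    tensorEquiv F G hG (1 ⊗ₜ x) = baseMap F G hG x := by
  simp [tensorEquiv]

theorem baseMap_surjective (F : R[X]) (G : T[X]) (hG : F.map (algebraMap R T) = G)
    (hT : Function.Surjective (algebraMap R T)) : Function.Surjective (baseMap F G hG) := by
  intro y
  obtain ⟨q, rfl⟩ := AdjoinRoot.mk_surjective y
  obtain ⟨p, rfl⟩ := Polynomial.map_surjective _ hT q
  exact ⟨AdjoinRoot.mk F p, baseMap_mk F G hG p⟩

end Tensor

section Field
open IntermediateField

universe u v
variable (R : Type u) [CommRing R] [IsLocalRing R]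

/-- A finite separable field extension of the residue field is `κ[X]/(F̄)` for a monic
separable polynomial `F` over `R` with irreducible reduction. -/
theorem exists_lift_field (L : Type v) [Field L] [Algebra (ResidueField R) L]
    [FiniteDimensional (ResidueField R) L] [Algebra.IsSeparable (ResidueField R) L] :
    ∃ F : R[X], F.Monic ∧ F.Separable ∧ Irreducible (F.map (algebraMap R (ResidueField R))) ∧
      Nonempty (AdjoinRoot (F.map (algebraMap R (ResidueField R))) ≃ₐ[ResidueField R] L) := by
  obtain ⟨α, hα⟩ := Field.exists_primitive_element (ResidueField R) L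
  have hint : IsIntegral (ResidueField R) α := Algebra.IsIntegral.isIntegral α
  have hmon := minpoly.monic hint
  have hirr := minpoly.irreducible hint
  have hsep : (minpoly (ResidueField R) α).Separable := Algebra.IsSeparable.isSeparable _ α
  obtain ⟨F, hFf, -, hF⟩ := Polynomial.lifts_and_natDegree_eq_and_monic
    (Polynomial.mem_lifts_of_surjective (f := residue R) residue_surjective
      (minpoly (ResidueField R) α)) hmon
  refine ⟨F, hF, separable_of_map_residue F hF (hFf ▸ hsep), ?_, ?_⟩
  · rw [IsLocalRing.ResidueField.algebraMap_eq, hFf]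
    exact hirr
  · rw [IsLocalRing.ResidueField.algebraMap_eq, hFf]
    exact ⟨(adjoinRootEquivAdjoin (ResidueField R) hint).trans
      ((IntermediateField.equivOfEq hα).trans IntermediateField.topEquiv)⟩

/-- Every finite étale algebra over the residue field of a local ring lifts to a finite étale
algebra over the local ring. -/
theorem exists_finite_etale_lift (A : Type u) [CommRing A] [Algebra (ResidueField R) A]
    [Module.Finite (ResidueField R) A] [Algebra.Etale (ResidueField R) A] :
    ∃ (S : Type u) (_ : CommRing S) (_ : Algebra R S), Module.Finite R S ∧ Algebra.Etale R S ∧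
      Nonempty (ResidueField R ⊗[R] S ≃ₐ[ResidueField R] A) := by
  classical
  obtain ⟨I, hI, Ai, hfield, halg, e, H⟩ :=
    (Algebra.Etale.iff_exists_algEquiv_prod (ResidueField R) A).1 inferInstance
  have := Fintype.ofFinite I
  have hfin : ∀ i, Module.Finite (ResidueField R) (Ai i) := fun i => (H i).1
  have hsep : ∀ i, Algebra.IsSeparable (ResidueField R) (Ai i) := fun i => (H i).2
  choose F hF hFs hFirr hFe using fun i => exists_lift_field R (Ai i)
  have : ∀ i, Module.Finite R (AdjoinRoot (F i)) := fun i => (hF i).finite_adjoinRoot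
  have : ∀ i, Algebra.Etale R (AdjoinRoot (F i)) := fun i => etale_adjoinRoot (F i) (hF i) (hFs i)
  refine ⟨(Π i, AdjoinRoot (F i)), inferInstance, inferInstance, inferInstance, inferInstance, ?_⟩
  refine ⟨(Algebra.TensorProduct.piRight R (ResidueField R) (ResidueField R)
    (fun i => AdjoinRoot (F i))).trans ((AlgEquiv.piCongrRight fun i =>
      (tensorEquiv (F i) _ rfl).trans (hFe i).some).trans e.symm)⟩

end Field

section LocalField

universe u v
variable {R : Type u} [CommRing R] [IsLocalRing R]

theorem ker_baseMap_le (F : R[X]) (hF : F.Monic) (M : Ideal (AdjoinRoot F)) [M.IsMaximal] :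
    RingHom.ker (baseMap F (F.map (algebraMap R (ResidueField R))) rfl) ≤ M := by
  intro x hx
  obtain ⟨p, rfl⟩ := AdjoinRoot.mk_surjective x
  rw [RingHom.mem_ker, baseMap_mk, AdjoinRoot.mk_eq_zero] at hx
  exact map_maximalIdeal_le F hF M (mk_mem_of_dvd F p hx)

theorem isLocalRing_adjoinRoot (F : R[X]) (hF : F.Monic)
    (hirr : Irreducible (F.map (algebraMap R (ResidueField R)))) :
    IsLocalRing (AdjoinRoot F) := by
  have := Fact.mk hirr
  have hsurj := baseMap_surjective F (F.map (algebraMap R (ResidueField R))) rfl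
    (by rw [IsLocalRing.ResidueField.algebraMap_eq]; exact residue_surjective)
  have hmax : (RingHom.ker (baseMap F (F.map (algebraMap R (ResidueField R))) rfl)).IsMaximal :=
    RingHom.ker_isMaximal_of_surjective _ hsurj
  refine IsLocalRing.of_unique_max_ideal ⟨_, hmax, fun M hM => ?_⟩
  exact (hmax.eq_of_le hM.ne_top (ker_baseMap_le F hF M)).symm

/-- residue field of a local ring `E` surjecting onto a field `L`. -/
theorem exists_residueField_equiv (E : Type*) [CommRing E] [IsLocalRing E] [Algebra R E]
    [IsLocalHom (algebraMap R E)] (L : Type*) [Field L] [Algebra (ResidueField R) L]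
    [Algebra R L] [IsScalarTower R (ResidueField R) L] (φ : E →ₐ[R] L)
    (hφ : Function.Surjective φ) :
    Nonempty (ResidueField E ≃ₐ[ResidueField R] L) := by
  have hmax : (RingHom.ker φ.toRingHom).IsMaximal :=
    RingHom.ker_isMaximal_of_surjective _ hφ
  have hker : RingHom.ker φ.toRingHom = maximalIdeal E := IsLocalRing.eq_maximalIdeal hmax
  have hloc : IsLocalHom φ.toRingHom := by
    constructor
    intro x hx
    by_contra hnu
    have : x ∈ RingHom.ker φ.toRingHom := by
      rw [hker]
      exact hnu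
    rw [RingHom.mem_ker] at this
    rw [this] at hx
    exact not_isUnit_zero hx
  let ψ : ResidueField E →+* L := IsLocalRing.ResidueField.lift φ.toRingHom
  have hψ : Function.Bijective ψ := by
    refine ⟨ψ.injective, fun y => ?_⟩
    obtain ⟨x, rfl⟩ := hφ y
    exact ⟨residue E x, rfl⟩
  refine ⟨AlgEquiv.ofBijective ⟨ψ, ?_⟩ hψ⟩
  intro k
  obtain ⟨a, rfl⟩ := residue_surjective k
  rw [IsLocalRing.ResidueField.algebraMap_residue]
  change φ (algebraMap R E a) = _
  rw [φ.commutes, IsScalarTower.algebraMap_apply R (ResidueField R) L]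
  rfl

theorem exists_local_finite_etale (L : Type v) [Field L] [Algebra (ResidueField R) L]
    [FiniteDimensional (ResidueField R) L] [Algebra.IsSeparable (ResidueField R) L] :
    ∃ (E : Type u) (_ : CommRing E) (_ : IsLocalRing E) (_ : Algebra R E)
      (_ : IsLocalHom (algebraMap R E)),
      Module.Finite R E ∧ Algebra.Etale R E ∧
        Nonempty (IsLocalRing.ResidueField E ≃ₐ[IsLocalRing.ResidueField R] L) := by
  obtain ⟨F, hF, hFs, hFirr, ⟨e⟩⟩ := exists_lift_field R L
  have := Fact.mk hFirr
  have hloc := isLocalRing_adjoinRoot F hF hFirr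
  have hsurj := baseMap_surjective F (F.map (algebraMap R (ResidueField R))) rfl
    (by rw [IsLocalRing.ResidueField.algebraMap_eq]; exact residue_surjective)
  have hlh : IsLocalHom (algebraMap R (AdjoinRoot F)) := by
    constructor
    intro a ha
    have h1 := ha.map (baseMap F (F.map (algebraMap R (ResidueField R))) rfl)
    rw [AlgHom.commutes, IsScalarTower.algebraMap_apply R (ResidueField R)] at h1
    have h2 : algebraMap R (ResidueField R) a ≠ 0 := by
      intro h0
      rw [h0, map_zero] at h1
      exact not_isUnit_zero h1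
    rwa [IsLocalRing.ResidueField.algebraMap_eq, residue_ne_zero_iff_isUnit] at h2
  refine ⟨AdjoinRoot F, inferInstance, hloc, inferInstance, hlh, hF.finite_adjoinRoot,
    etale_adjoinRoot F hF hFs, ?_⟩
  obtain ⟨e'⟩ := exists_residueField_equiv (AdjoinRoot F)
    (AdjoinRoot (F.map (algebraMap R (ResidueField R))))
    (baseMap F (F.map (algebraMap R (ResidueField R))) rfl) hsurj
  exact ⟨e'.trans e⟩

end LocalField

end Groth.Agent.Lib.Helper24.FiniteEtaleLift
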