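import Mathlib
import Groth.Agent.Lib.Helper24.HenselLocal
import Groth.Agent.Lib.Helper24.DirectLimitLocal
import Groth.Agent.Lib.Helper24.Henselization
import Groth.Agent.Lib.Helper24.FiniteEtaleLift

/-!
# Strict henselization of a local ring

Direct limit of the local rings of étale algebras `C` with a character `χ : C → Ω` into a fixed
field extension `Ω` of the residue field (helper24).
-/

set_option autoImplicit false
set_option linter.unusedSectionVars false

noncomputable section

namespace Groth.Agent.Lib.Helper24.StrictHens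

open IsLocalRing Polynomial TensorProduct Groth.Agent.Lib.helper24.HenselLocal

universe u

variable (A : Type u) [CommRing A] [IsLocalRing A] (Ω : Type u) [Field Ω] [Algebra A Ω]
  [Algebra (ResidueField A) Ω] [IsScalarTower A (ResidueField A) Ω]

/-- Index type: presentations of étale algebras together with a character to `Ω`. -/
structure SIdx : Type u where
  n : ℕ
  I : Ideal (MvPolynomial (Fin n) A)
  χ₀ : MvPolynomial (Fin n) A →ₐ[A] Ω
  hχ₀ : ∀ x ∈ I, χ₀ x = 0
  etale : Algebra.Etale A (MvPolynomial (Fin n) A ⧸ I)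

variable {A Ω}

theorem algebraMap_Ω_eq_zero_iff (a : A) : algebraMap A Ω a = 0 ↔ a ∈ maximalIdeal A := by
  rw [IsScalarTower.algebraMap_apply A (ResidueField A) Ω,
    map_eq_zero_iff _ (algebraMap (ResidueField A) Ω).injective,
    IsLocalRing.ResidueField.algebraMap_eq, residue_eq_zero_iff]

namespace SIdx

/-- the étale algebra -/
def C (i : SIdx A Ω) : Type u := MvPolynomial (Fin i.n) A ⧸ i.I

instance (i : SIdx A Ω) : CommRing i.C :=
  (inferInstance : CommRing (MvPolynomial (Fin i.n) A ⧸ i.I))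

instance (i : SIdx A Ω) : Algebra A i.C :=
  (inferInstance : Algebra A (MvPolynomial (Fin i.n) A ⧸ i.I))

instance (i : SIdx A Ω) : Algebra.Etale A i.C := i.etale

/-- the character -/
def χ (i : SIdx A Ω) : i.C →ₐ[A] Ω := Ideal.Quotient.liftₐ i.I i.χ₀ i.hχ₀

/-- the prime -/
def q (i : SIdx A Ω) : Ideal i.C := RingHom.ker i.χ.toRingHom

instance (i : SIdx A Ω) : i.q.IsPrime := RingHom.ker_isPrime _

theorem mem_q (i : SIdx A Ω) (c : i.C) : c ∈ i.q ↔ i.χ c = 0 := RingHom.mem_ker

/-- the local ring -/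
def G (i : SIdx A Ω) : Type u := Localization.AtPrime i.q

instance (i : SIdx A Ω) : CommRing i.G := (inferInstance : CommRing (Localization.AtPrime i.q))

instance (i : SIdx A Ω) : Algebra i.C i.G :=
  (inferInstance : Algebra i.C (Localization.AtPrime i.q))

instance (i : SIdx A Ω) : IsLocalization.AtPrime i.G i.q :=
  (inferInstance : IsLocalization.AtPrime (Localization.AtPrime i.q) i.q)

instance (i : SIdx A Ω) : IsLocalRing i.G :=
  (inferInstance : IsLocalRing (Localization.AtPrime i.q))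

instance (i : SIdx A Ω) : Algebra A i.G := (inferInstance : Algebra A (Localization.AtPrime i.q))

instance (i : SIdx A Ω) : IsScalarTower A i.C i.G :=
  (inferInstance : IsScalarTower A i.C (Localization.AtPrime i.q))

instance (i : SIdx A Ω) : Algebra.FormallyEtale A i.G :=
  (inferInstance : Algebra.FormallyEtale A (Localization.AtPrime i.q))

instance (i : SIdx A Ω) : Algebra.EssFiniteType A i.G :=
  (inferInstance : Algebra.EssFiniteType A (Localization.AtPrime i.q))

/-- the character on the local ring -/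
def χG (i : SIdx A Ω) : i.G →ₐ[A] Ω :=
  IsLocalization.liftAlgHom (M := i.q.primeCompl) (S := i.G) (f := i.χ) (by
    intro y
    rw [isUnit_iff_ne_zero]
    intro h
    exact y.2 ((mem_q i y).2 h))

theorem χG_algebraMap (i : SIdx A Ω) (c : i.C) : i.χG (algebraMap i.C i.G c) = i.χ c :=
  IsLocalization.lift_eq _ c

theorem χG_eq_zero_iff (i : SIdx A Ω) (x : i.G) : i.χG x = 0 ↔ x ∈ maximalIdeal i.G := by
  obtain ⟨c, s, rfl⟩ := IsLocalization.exists_mk'_eq i.q.primeCompl x
  have h1 : i.χG (IsLocalization.mk' i.G c s) * i.χ s = i.χ c := by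
    rw [← χG_algebraMap, ← map_mul, IsLocalization.mk'_spec, χG_algebraMap]
  have h2 : i.χ s ≠ 0 := fun h => s.2 ((mem_q i s).2 h)
  rw [IsLocalization.AtPrime.mk'_mem_maximal_iff i.G i.q, mem_q, ← h1]
  constructor
  · intro h
    rw [h, zero_mul]
  · intro h
    exact (mul_eq_zero.1 h).resolve_right h2

instance (i : SIdx A Ω) : IsLocalHom (algebraMap A i.G) := by
  constructor
  intro a ha
  by_contra hna
  have h1 : algebraMap A Ω a = 0 := (algebraMap_Ω_eq_zero_iff a).2 hna
  have h2 : i.χG (algebraMap A i.G a) = 0 := by rw [AlgHom.commutes, h1]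
  rw [χG_eq_zero_iff] at h2
  exact (mem_maximalIdeal _).1 h2 ha

/-- compatible maps -/
def Hom (i j : SIdx A Ω) : Type u := {ψ : i.G →ₐ[A] j.G // j.χG.comp ψ = i.χG}

instance (i j : SIdx A Ω) : Subsingleton (Hom i j) := by
  constructor
  rintro ⟨ψ, hψ⟩ ⟨ψ', hψ'⟩
  apply Subtype.ext
  apply algHom_ext_of_residue
  intro a
  rw [← χG_eq_zero_iff, map_sub, sub_eq_zero]
  have e1 := congrArg (fun F : i.G →ₐ[A] Ω => F a) hψ
  have e2 := congrArg (fun F : i.G →ₐ[A] Ω => F a) hψ'
  simp only [AlgHom.comp_apply] at e1 e2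
  rw [e1, e2]

instance : Preorder (SIdx A Ω) where
  le i j := Nonempty (Hom i j)
  le_refl i := ⟨⟨AlgHom.id A _, rfl⟩⟩
  le_trans i j k := fun ⟨f⟩ ⟨g⟩ => ⟨⟨g.1.comp f.1, by
    rw [← AlgHom.comp_assoc, g.2, f.2]⟩⟩

/-- transition maps -/
def tr (i j : SIdx A Ω) (h : i ≤ j) : i.G →ₐ[A] j.G := (Classical.choice h).1

theorem χG_tr (i j : SIdx A Ω) (h : i ≤ j) (x : i.G) : j.χG (tr i j h x) = i.χG x :=
  congrArg (fun F : i.G →ₐ[A] Ω => F x) (Classical.choice h).2

theorem tr_eq (i j : SIdx A Ω) (h : i ≤ j) (ψ : i.G →ₐ[A] j.G) (hψ : j.χG.comp ψ = i.χG) :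
    tr i j h = ψ :=
  congrArg Subtype.val (Subsingleton.elim (Classical.choice h) ⟨ψ, hψ⟩)

theorem tr_self (i : SIdx A Ω) (h : i ≤ i) : tr i i h = AlgHom.id A _ :=
  tr_eq i i h _ rfl

theorem tr_comp (i j k : SIdx A Ω) (hij : i ≤ j) (hjk : j ≤ k) (hik : i ≤ k) :
    (tr j k hjk).comp (tr i j hij) = tr i k hik := by
  symm
  apply tr_eq
  ext x
  simp only [AlgHom.comp_apply, χG_tr]

theorem tr_tr (i j k : SIdx A Ω) (hij : i ≤ j) (hjk : j ≤ k) (x : i.G) :
    tr j k hjk (tr i j hij x) = tr i k (hij.trans hjk) x :=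
  congrArg (fun F : i.G →ₐ[A] k.G => F x) (tr_comp i j k hij hjk (hij.trans hjk))

theorem map_mem_maximalIdeal_iff (i j : SIdx A Ω) (h : i ≤ j) (x : i.G) :
    tr i j h x ∈ maximalIdeal j.G ↔ x ∈ maximalIdeal i.G := by
  rw [← χG_eq_zero_iff, ← χG_eq_zero_iff, χG_tr]

theorem isLocalHom_tr (i j : SIdx A Ω) (h : i ≤ j) : IsLocalHom (tr i j h).toRingHom := by
  constructor
  intro x hx
  by_contra hnu
  have : tr i j h x ∈ maximalIdeal j.G := (map_mem_maximalIdeal_iff i j h x).2 hnu
  exact (mem_maximalIdeal _).1 this hx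

end SIdx

open SIdx

/-- Every étale algebra with a character is represented by an index. -/
theorem exists_sidx_of_character (C : Type u) [CommRing C] [Algebra A C] [Algebra.Etale A C]
    (χ : C →ₐ[A] Ω) :
    ∃ (k : SIdx A Ω) (u : C →ₐ[A] k.C), k.χ.comp u = χ ∧ Function.Bijective u := by
  have hft : Algebra.FiniteType A C := inferInstance
  obtain ⟨n, f, hf⟩ := Algebra.FiniteType.iff_quotient_mvPolynomial''.1 hft
  let e : (MvPolynomial (Fin n) A ⧸ RingHom.ker f) ≃ₐ[A] C :=
    Ideal.quotientKerAlgEquivOfSurjective hf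
  have hker : ∀ x ∈ RingHom.ker f, (χ.comp f) x = 0 := by
    intro x hx
    show χ (f x) = 0
    rw [RingHom.mem_ker.1 hx, map_zero]
  let k : SIdx A Ω := ⟨n, RingHom.ker f, χ.comp f, hker, Algebra.Etale.of_equiv e.symm⟩
  have hkχ : ∀ x : MvPolynomial (Fin n) A, k.χ (Ideal.Quotient.mk _ x) = χ (f x) := fun x => rfl
  refine ⟨k, e.symm.toAlgHom, ?_, e.symm.bijective⟩
  apply AlgHom.ext
  intro c
  obtain ⟨x, rfl⟩ := hf c
  show k.χ (e.symm (f x)) = χ (f x)
  have : e.symm (f x) = Ideal.Quotient.mk _ x := by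
    rw [AlgEquiv.symm_apply_eq]
    exact (Ideal.quotientKerAlgEquivOfSurjective_mk hf x).symm
  rw [this]
  exact hkχ x

/-- A map of étale algebras compatible with characters induces a map of local rings. -/
theorem exists_le_of_hom (i k : SIdx A Ω) (w : i.C →ₐ[A] k.C) (hw : k.χ.comp w = i.χ) :
    ∃ h : i ≤ k, ∀ c, tr i k h (algebraMap i.C i.G c) = algebraMap k.C k.G (w c) := by
  let f : i.C →ₐ[A] k.G := (IsScalarTower.toAlgHom A k.C k.G).comp w
  have hwc : ∀ c, k.χ (w c) = i.χ c := fun c =>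
    congrArg (fun F : i.C →ₐ[A] Ω => F c) hw
  have hf : ∀ y : i.q.primeCompl, IsUnit (f y) := by
    intro y
    show IsUnit (algebraMap k.C k.G (w y))
    rw [IsLocalization.AtPrime.isUnit_to_map_iff k.G k.q]
    show ¬ (w (y : i.C) ∈ k.q)
    rw [mem_q, hwc, ← mem_q]
    exact y.2
  let L : i.G →ₐ[A] k.G := IsLocalization.liftAlgHom (M := i.q.primeCompl) (S := i.G) (f := f) hf
  have hL : ∀ c, L (algebraMap i.C i.G c) = algebraMap k.C k.G (w c) := fun c =>
    IsLocalization.lift_eq _ c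
  have hLχ : k.χG.comp L = i.χG := by
    apply IsLocalization.algHom_ext (W := i.q.primeCompl)
    ext c
    show k.χG (L (algebraMap i.C i.G c)) = i.χG (algebraMap i.C i.G c)
    rw [hL, χG_algebraMap, χG_algebraMap, hwc]
  refine ⟨⟨⟨L, hLχ⟩⟩, ?_⟩
  intro c
  rw [tr_eq i k _ L hLχ]
  exact hL c

instance : IsDirectedOrder (SIdx A Ω) := by
  constructor
  intro i j
  let χ₃ : i.C ⊗[A] j.C →ₐ[A] Ω :=
    Algebra.TensorProduct.lift i.χ j.χ (fun _ _ => Commute.all _ _)
  have : Algebra.Etale A (i.C ⊗[A] j.C) := Algebra.Etale.comp A i.C (i.C ⊗[A] j.C)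
  obtain ⟨k, u, hu, -⟩ := exists_sidx_of_character (i.C ⊗[A] j.C) χ₃
  have h1 : k.χ.comp (u.comp Algebra.TensorProduct.includeLeft) = i.χ := by
    rw [← AlgHom.comp_assoc, hu]
    ext c
    simp [χ₃]
  have h2 : k.χ.comp (u.comp Algebra.TensorProduct.includeRight) = j.χ := by
    rw [← AlgHom.comp_assoc, hu]
    ext c
    simp [χ₃]
  obtain ⟨h1', -⟩ := exists_le_of_hom i k _ h1
  obtain ⟨h2', -⟩ := exists_le_of_hom j k _ h2
  exact ⟨k, h1', h2'⟩

instance : Nonempty (SIdx A Ω) := by
  obtain ⟨k, -⟩ := exists_sidx_of_character A (Algebra.ofId A Ω)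
  exact ⟨k⟩

section Limit

open Groth.Agent.Lib.helper24.DirectLimitLocal

variable (A Ω)

/-- ring hom version of the transition maps -/
def trR (i j : SIdx A Ω) (h : i ≤ j) : i.G →+* j.G := (tr i j h).toRingHom

instance : DirectedSystem (fun i : SIdx A Ω => i.G)
    (fun i j h => (trR A Ω i j h : i.G → j.G)) where
  map_self i x := by
    show tr i i le_rfl x = x
    rw [tr_self]
    rfl
  map_map k j i hij hjk x := tr_tr i j k hij hjk x

/-- The strict henselization of `A` (with respect to `Ω`). -/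
def SHens : Type u := Ring.DirectLimit (fun i : SIdx A Ω => i.G) (fun i j h => trR A Ω i j h)

instance : CommRing (SHens A Ω) :=
  (inferInstance :
    CommRing (Ring.DirectLimit (fun i : SIdx A Ω => i.G) (fun i j h => trR A Ω i j h)))

variable {A Ω}

theorem isLocalHom_trR (i j : SIdx A Ω) (h : i ≤ j) : IsLocalHom (trR A Ω i j h) :=
  isLocalHom_tr i j h

/-- the canonical maps -/
def ofS (i : SIdx A Ω) : i.G →+* SHens A Ω :=
  Ring.DirectLimit.of (fun i : SIdx A Ω => i.G) (fun i j h => trR A Ω i j h) i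

theorem ofS_tr (i j : SIdx A Ω) (h : i ≤ j) (x : i.G) : ofS j (tr i j h x) = ofS i x :=
  Ring.DirectLimit.of_f (G := fun i : SIdx A Ω => i.G) (f := fun i j h => trR A Ω i j h) h x

theorem exists_ofS (z : SHens A Ω) : ∃ (i : SIdx A Ω) (x : i.G), ofS i x = z :=
  Ring.DirectLimit.exists_of (G := fun i : SIdx A Ω => i.G) (f := fun i j h => trR A Ω i j h) z

theorem ofS_eq_ofS {i j : SIdx A Ω} {x : i.G} {y : j.G} (h : ofS i x = ofS j y) :
    ∃ (k : SIdx A Ω) (hik : i ≤ k) (hjk : j ≤ k), tr i k hik x = tr j k hjk y :=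
  of_eq_of (fun i : SIdx A Ω => i.G) (fun i j h => trR A Ω i j h) h

theorem ofS_algebraMap (i j : SIdx A Ω) (a : A) :
    ofS i (algebraMap A i.G a) = ofS j (algebraMap A j.G a) := by
  obtain ⟨k, hik, hjk⟩ := exists_ge_ge i j
  rw [← ofS_tr i k hik, ← ofS_tr j k hjk, AlgHom.commutes, AlgHom.commutes]

instance : Algebra A (SHens A Ω) :=
  ((ofS (Classical.arbitrary (SIdx A Ω))).comp
    (algebraMap A (Classical.arbitrary (SIdx A Ω)).G)).toAlgebra

theorem algebraMap_eq (i : SIdx A Ω) (a : A) :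
    algebraMap A (SHens A Ω) a = ofS i (algebraMap A i.G a) :=
  ofS_algebraMap _ i a

theorem isUnit_ofS_iff (i : SIdx A Ω) (x : i.G) : IsUnit (ofS i x) ↔ IsUnit x :=
  isUnit_of_iff (fun i : SIdx A Ω => i.G) (fun i j h => trR A Ω i j h) isLocalHom_trR i x

instance : IsLocalRing (SHens A Ω) :=
  isLocalRing_limit (fun i : SIdx A Ω => i.G) (fun i j h => trR A Ω i j h) isLocalHom_trR

theorem ofS_mem_maximalIdeal_iff (i : SIdx A Ω) (x : i.G) :
    ofS i x ∈ maximalIdeal (SHens A Ω) ↔ x ∈ maximalIdeal i.G :=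
  of_mem_maximalIdeal_iff (fun i : SIdx A Ω => i.G) (fun i j h => trR A Ω i j h) isLocalHom_trR
    (inferInstance : IsLocalRing (SHens A Ω)) i x

instance : IsLocalHom (algebraMap A (SHens A Ω)) := by
  constructor
  intro a ha
  have i : SIdx A Ω := Classical.arbitrary _
  rw [algebraMap_eq i, isUnit_ofS_iff] at ha
  exact isUnit_of_map_unit (algebraMap A i.G) a ha

/-- the character of the limit -/
def χS : SHens A Ω →+* Ω :=
  Ring.DirectLimit.lift (fun i : SIdx A Ω => i.G) (fun i j h => trR A Ω i j h) Ω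
    (fun i => (i.χG : i.G →+* Ω)) (fun i j h x => χG_tr i j h x)

theorem χS_ofS (i : SIdx A Ω) (x : i.G) : χS (ofS i x) = i.χG x := by
  unfold χS ofS
  exact Ring.DirectLimit.lift_of _ _ _ _ _

theorem χS_eq_zero_iff (z : SHens A Ω) : χS z = 0 ↔ z ∈ maximalIdeal (SHens A Ω) := by
  obtain ⟨i, x, rfl⟩ := exists_ofS z
  rw [χS_ofS, χG_eq_zero_iff, ofS_mem_maximalIdeal_iff]

theorem χS_algebraMap (a : A) : χS (algebraMap A (SHens A Ω) a) = algebraMap A Ω a := by
  have i : SIdx A Ω := Classical.arbitrary _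
  rw [algebraMap_eq i, χS_ofS, AlgHom.commutes]

end Limit

section Root

open Groth.Agent.Lib.helper24.Henselization

theorem mem_maximalIdeal_field {K : Type*} [Field K] (x : K) : x ∈ maximalIdeal K ↔ x = 0 := by
  rw [mem_maximalIdeal, mem_nonunits_iff, isUnit_iff_ne_zero, not_not]

theorem root_of_scaled' {S T : Type*} [CommRing S] [CommRing T] (τ : S →+* T)
    (p : S[X]) (σ : S) (hσ : IsUnit σ) (β : T)
    (hβ0 : ((scaleRoots p σ).map τ).eval β = 0) :
    ∃ y : T, (p.map τ).eval y = 0 ∧ τ σ * y = β := by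
  have hcompid := scaleRoots_comp p σ
  have hτu : IsUnit (τ σ) := hσ.map τ
  obtain ⟨υ, hυ⟩ := hτu
  refine ⟨(↑υ⁻¹ : T) * β, ?_, ?_⟩
  · have hmapid := congrArg (Polynomial.map τ) hcompid
    rw [Polynomial.map_comp, Polynomial.map_mul, Polynomial.map_mul, map_C, map_C, map_X,
      map_pow] at hmapid
    have h2 := congrArg (eval ((↑υ⁻¹ : T) * β)) hmapid
    rw [eval_comp, eval_mul, eval_mul, eval_C, eval_C, eval_X, ← hυ, ← mul_assoc,
      Units.mul_inv, one_mul, hβ0] at h2
    have hu : IsUnit ((υ : T) ^ p.natDegree) := (υ.isUnit).pow _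
    exact (hu.mul_right_eq_zero).1 h2.symm
  · rw [← hυ, ← mul_assoc, Units.mul_inv, one_mul]

/-- Adjoining a simple root: object level. -/
theorem exists_root_obj (C : Type u) [CommRing C] [Algebra A C] [Algebra.Etale A C]
    (χ : C →ₐ[A] Ω) (F : C[X]) (hF : F.Monic) (ω : Ω)
    (h0 : (F.map χ.toRingHom).eval ω = 0)
    (h1 : (F.map χ.toRingHom).derivative.eval ω ≠ 0) :
    ∃ (C' : Type u) (_ : CommRing C') (_ : Algebra A C') (_ : Algebra.Etale A C')
      (χ' : C' →ₐ[A] Ω) (w : C →ₐ[A] C') (b : C'),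
      χ'.comp w = χ ∧ (F.map w.toRingHom).eval b = 0 ∧ χ' b = ω := by
  let P : StandardEtalePair C := ⟨F, hF, derivative F, ⟨1, 0, 1, by simp⟩⟩
  let algAP : Algebra A P.Ring := ((algebraMap C P.Ring).comp (algebraMap A C)).toAlgebra
  have towP : IsScalarTower A C P.Ring := IsScalarTower.of_algebraMap_eq (fun _ => rfl)
  have : Algebra.Etale A P.Ring := Algebra.Etale.comp A C P.Ring
  let algCΩ : Algebra C Ω := χ.toRingHom.toAlgebra
  have towΩ : IsScalarTower A C Ω :=
    IsScalarTower.of_algebraMap_eq (fun a => (χ.commutes a).symm)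
  have hmap : P.HasMap ω := by
    constructor
    · show aeval ω F = 0
      rw [aeval_def, ← eval_map]
      exact h0
    · show IsUnit (aeval ω (derivative F))
      rw [aeval_def, ← eval_map, isUnit_iff_ne_zero]
      have : (derivative F).map (algebraMap C Ω) = derivative (F.map χ.toRingHom) := by
        rw [derivative_map]
        rfl
      rw [this]
      exact h1
  let χ'C : P.Ring →ₐ[C] Ω := P.lift ω hmap
  let χ' : P.Ring →ₐ[A] Ω := χ'C.restrictScalars A
  refine ⟨P.Ring, inferInstance, algAP, inferInstance, χ', IsScalarTower.toAlgHom A C P.Ring,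
    P.X, ?_, ?_, ?_⟩
  · ext c
    show χ'C (algebraMap C P.Ring c) = χ c
    rw [AlgHom.commutes]
    rfl
  · have := (StandardEtalePair.hasMap_X (P := P)).1
    rw [aeval_def] at this
    rw [eval_map]
    exact this
  · show χ'C P.X = ω
    exact P.lift_X _ hmap

/-- Adjoining a simple root: index level. -/
theorem exists_root_idx (i : SIdx A Ω) (F : i.C[X]) (hF : F.Monic) (ω : Ω)
    (h0 : (F.map i.χ.toRingHom).eval ω = 0)
    (h1 : (F.map i.χ.toRingHom).derivative.eval ω ≠ 0) :
    ∃ (k : SIdx A Ω) (h : i ≤ k) (β : k.G),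
      (F.map ((tr i k h).toRingHom.comp (algebraMap i.C i.G))).eval β = 0 ∧ k.χG β = ω := by
  obtain ⟨C', _, _, _, χ', w, b, hw, hb, hχb⟩ := exists_root_obj i.C i.χ F hF ω h0 h1
  obtain ⟨k, u, hu, -⟩ := exists_sidx_of_character C' χ'
  have hv : k.χ.comp (u.comp w) = i.χ := by
    rw [← AlgHom.comp_assoc, hu, hw]
  obtain ⟨h, htr⟩ := exists_le_of_hom i k (u.comp w) hv
  refine ⟨k, h, algebraMap k.C k.G (u b), ?_, ?_⟩
  · have hcomp : (tr i k h).toRingHom.comp (algebraMap i.C i.G) =
        ((algebraMap k.C k.G).comp u.toRingHom).comp w.toRingHom := by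
      apply RingHom.ext
      intro c
      exact htr c
    rw [hcomp, ← Polynomial.map_map, eval_map]
    have : eval₂ ((algebraMap k.C k.G).comp u.toRingHom) (algebraMap k.C k.G (u b))
        (F.map w.toRingHom) = ((algebraMap k.C k.G).comp u.toRingHom)
          ((F.map w.toRingHom).eval b) := eval₂_at_apply _ _
    rw [this, hb, map_zero]
  · rw [χG_algebraMap]
    have e1 : k.χ (u b) = χ' b := congrArg (fun G : C' →ₐ[A] Ω => G b) hu
    rw [e1, hχb]

/-- Adjoining a simple root: for a polynomial over the local ring `i.G`. -/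
theorem exists_root_G (i : SIdx A Ω) (p : i.G[X]) (hp : p.Monic) (ω : Ω)
    (h0 : (p.map i.χG.toRingHom).eval ω = 0)
    (h1 : (p.map i.χG.toRingHom).derivative.eval ω ≠ 0) :
    ∃ (k : SIdx A Ω) (h : i ≤ k) (y : k.G),
      (p.map (tr i k h).toRingHom).eval y = 0 ∧ k.χG y = ω := by
  obtain ⟨s, -, hcoef⟩ :=
    exists_common_denom (R := i.C) (S := i.G) i.q.primeCompl p 0
  have hσu : IsUnit (algebraMap i.C i.G (s : i.C)) := IsLocalization.map_units i.G s
  have hqmonic : (scaleRoots p (algebraMap i.C i.G (s : i.C))).Monic :=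
    (monic_scaleRoots_iff _).2 hp
  have hqlifts := scaleRoots_mem_lifts (R := i.C) (S := i.G) (algebraMap i.C i.G) p hp
    (s : i.C) hcoef
  obtain ⟨F, hFmap, -, hFmonic⟩ := lifts_and_degree_eq_and_monic hqlifts hqmonic
  set t : Ω := i.χ (s : i.C) with ht
  have ht0 : t ≠ 0 := fun h => s.2 ((mem_q i s).2 h)
  have hχσ : i.χG (algebraMap i.C i.G (s : i.C)) = t := χG_algebraMap i s
  -- the scaled polynomial over Ω
  have hFχ : F.map i.χ.toRingHom = scaleRoots (p.map i.χG.toRingHom) t := by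
    have h2 : i.χ.toRingHom = i.χG.toRingHom.comp (algebraMap i.C i.G) := by
      ext c
      exact (χG_algebraMap i c).symm
    rw [h2, ← Polynomial.map_map, hFmap, Polynomial.map_scaleRoots]
    · congr 1
    · rw [hp.leadingCoeff, map_one]
      exact one_ne_zero
  have hcond := scaled_conditions (S := Ω) (p.map i.χG.toRingHom) t ω (isUnit_iff_ne_zero.2 ht0)
    ((mem_maximalIdeal_field _).2 h0) (isUnit_iff_ne_zero.2 h1)
  have hF0 : (F.map i.χ.toRingHom).eval (t * ω) = 0 := by
    rw [hFχ]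
    exact (mem_maximalIdeal_field _).1 hcond.1
  have hF1 : (F.map i.χ.toRingHom).derivative.eval (t * ω) ≠ 0 := by
    rw [hFχ]
    exact isUnit_iff_ne_zero.1 hcond.2
  obtain ⟨k, h, β, hβ0, hβχ⟩ := exists_root_idx i F hFmonic (t * ω) hF0 hF1
  have h3 : ((scaleRoots p (algebraMap i.C i.G (s : i.C))).map (tr i k h).toRingHom).eval β
      = 0 := by
    rw [← hFmap, Polynomial.map_map]
    exact hβ0
  obtain ⟨y, hy0, hyβ⟩ := root_of_scaled' (tr i k h).toRingHom p _ hσu β h3
  refine ⟨k, h, y, hy0, ?_⟩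
  have h4 := congrArg k.χG hyβ
  rw [map_mul, hβχ] at h4
  have h5 : k.χG ((tr i k h).toRingHom (algebraMap i.C i.G (s : i.C))) = t := by
    show k.χG (tr i k h (algebraMap i.C i.G (s : i.C))) = t
    rw [χG_tr, hχσ]
  rw [h5] at h4
  exact mul_left_cancel₀ ht0 h4

end Root

section Henselian

open Groth.Agent.Lib.helper24.DirectLimitLocal

theorem ofS_comp_tr (i k : SIdx A Ω) (h : i ≤ k) :
    (ofS k).comp (tr i k h).toRingHom = ofS i := by
  ext x
  exact ofS_tr i k h x

theorem χG_eval (i : SIdx A Ω) (p : i.G[X]) (a : i.G) :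
    (p.map i.χG.toRingHom).eval (i.χG a) = i.χG (p.eval a) := by
  rw [eval_map]
  exact eval₂_at_apply i.χG.toRingHom a

theorem shens_is_henselian (f : (SHens A Ω)[X]) (hf : f.Monic) (a₀ : SHens A Ω)
    (h0 : f.eval a₀ ∈ maximalIdeal (SHens A Ω)) (h1 : IsUnit (f.derivative.eval a₀)) :
    ∃ a : SHens A Ω, f.IsRoot a ∧ a - a₀ ∈ maximalIdeal (SHens A Ω) := by
  obtain ⟨i, p₁, hp₁m, hp₁⟩ :=
    exists_monic_of (fun i : SIdx A Ω => i.G) (fun i j h => trR A Ω i j h) f hf
  obtain ⟨j, a', rfl⟩ := exists_ofS a₀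
  obtain ⟨k, hik, hjk⟩ := exists_ge_ge i j
  have hofk := ofS_comp_tr i k hik
  set p₂ := p₁.map (tr i k hik).toRingHom with hp₂
  set a₂ := tr j k hjk a' with ha₂
  have hp₂m : p₂.Monic := hp₁m.map _
  have hp₂f : p₂.map (ofS k) = f := by
    rw [hp₂, Polynomial.map_map, hofk]
    exact hp₁
  have ha₂' : ofS k a₂ = ofS j a' := ofS_tr j k hjk a'
  have e0 : f.eval (ofS j a') = ofS k (p₂.eval a₂) := by
    rw [← hp₂f, ← ha₂', eval_map, eval₂_at_apply]
  have e1 : f.derivative.eval (ofS j a') = ofS k (p₂.derivative.eval a₂) := by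
    rw [← hp₂f, ← ha₂', derivative_map, eval_map, eval₂_at_apply]
  rw [e0, ofS_mem_maximalIdeal_iff, ← χG_eq_zero_iff, ← χG_eval] at h0
  rw [e1, isUnit_ofS_iff] at h1
  have h1' : (p₂.map k.χG.toRingHom).derivative.eval (k.χG a₂) ≠ 0 := by
    rw [derivative_map, χG_eval]
    intro h
    rw [χG_eq_zero_iff] at h
    exact (mem_maximalIdeal _).1 h h1
  obtain ⟨l, hkl, y, hy0, hyχ⟩ := exists_root_G k p₂ hp₂m (k.χG a₂) h0 h1'
  have hofl := ofS_comp_tr k l hkl
  refine ⟨ofS l y, ?_, ?_⟩
  · show f.eval (ofS l y) = 0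
    rw [← hp₂f, ← hofl, ← Polynomial.map_map, eval_map, eval₂_at_apply, hy0, map_zero]
  · have e : ofS l y - ofS j a' = ofS l (y - tr k l hkl a₂) := by
      rw [map_sub, ofS_tr, ha₂']
    rw [e, ofS_mem_maximalIdeal_iff, ← χG_eq_zero_iff, map_sub, hyχ]
    have e2 : l.χG (tr k l hkl a₂) = k.χG a₂ := χG_tr k l hkl a₂
    rw [e2, sub_self]

instance : HenselianLocalRing (SHens A Ω) :=
  { (inferInstance : IsLocalRing (SHens A Ω)) with
    is_henselian := shens_is_henselian }

instance : IsLocalHom (χS : SHens A Ω →+* Ω) := by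
  constructor
  intro z hz
  by_contra hnu
  have : z ∈ maximalIdeal (SHens A Ω) := hnu
  rw [← χS_eq_zero_iff] at this
  rw [this] at hz
  exact not_isUnit_zero hz

/-- the embedding of the residue field into `Ω`. -/
def χbar : ResidueField (SHens A Ω) →ₐ[ResidueField A] Ω where
  __ := IsLocalRing.ResidueField.lift (χS : SHens A Ω →+* Ω)
  commutes' r := by
    obtain ⟨a, rfl⟩ := residue_surjective r
    show IsLocalRing.ResidueField.lift (χS : SHens A Ω →+* Ω)
      (algebraMap (ResidueField A) (ResidueField (SHens A Ω)) (residue A a)) = _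
    rw [IsLocalRing.ResidueField.algebraMap_residue, IsLocalRing.ResidueField.lift_residue_apply,
      χS_algebraMap, ← IsLocalRing.ResidueField.algebraMap_eq,
      ← IsScalarTower.algebraMap_apply A (ResidueField A) Ω]

theorem χbar_residue (z : SHens A Ω) : χbar (residue _ z) = χS z := rfl

instance [Algebra.IsSeparable (ResidueField A) Ω] :
    Algebra.IsSeparable (ResidueField A) (ResidueField (SHens A Ω)) :=
  Algebra.IsSeparable.of_algHom (ResidueField A) Ω χbar

theorem isSepClosed_residueField [IsSepClosed Ω] :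
    IsSepClosed (ResidueField (SHens A Ω)) := by
  apply IsSepClosed.of_exists_root
  intro p hpm hpirr hpsep
  obtain ⟨P, hP, -, hPm⟩ := lifts_and_degree_eq_and_monic
    (mem_lifts_of_surjective (f := residue (SHens A Ω)) residue_surjective p) hpm
  obtain ⟨i, q, hqm, hq⟩ :=
    exists_monic_of (fun i : SIdx A Ω => i.G) (fun i j h => trR A Ω i j h) P hPm
  have hq' : q.map (ofS i) = P := hq
  -- the polynomial over Ω
  have hmapΩ : p.map (χbar (A := A) (Ω := Ω)).toRingHom = q.map i.χG.toRingHom := by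
    rw [← hP, ← hq', Polynomial.map_map, Polynomial.map_map]
    congr 1
    ext x
    show χbar (residue _ (ofS i x)) = i.χG x
    rw [χbar_residue, χS_ofS]
  have hsepΩ : (q.map i.χG.toRingHom).Separable := by
    rw [← hmapΩ, Polynomial.separable_map]
    exact hpsep
  have hdeg : (q.map i.χG.toRingHom).degree ≠ 0 := by
    rw [← hmapΩ, Polynomial.degree_map]
    exact (Polynomial.degree_pos_of_irreducible hpirr).ne'
  obtain ⟨ω, hω⟩ := IsSepClosed.exists_root _ hdeg hsepΩ
  have hω0 : (q.map i.χG.toRingHom).eval ω = 0 := hω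
  have hω1 : (q.map i.χG.toRingHom).derivative.eval ω ≠ 0 := by
    have := hsepΩ.aeval_derivative_ne_zero (x := ω) (by rw [Polynomial.coe_aeval_eq_eval]; exact hω0)
    rwa [Polynomial.coe_aeval_eq_eval] at this
  obtain ⟨k, hik, y, hy0, -⟩ := exists_root_G i q hqm ω hω0 hω1
  refine ⟨residue _ (ofS k y), ?_⟩
  rw [← hP, eval_map, eval₂_at_apply, ← hq', ← ofS_comp_tr i k hik, ← Polynomial.map_map,
    eval_map, eval₂_at_apply, hy0, map_zero, map_zero]

instance [IsSepClosure (ResidueField A) Ω] :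
    IsSepClosure (ResidueField A) (ResidueField (SHens A Ω)) :=
  have := IsSepClosure.sep_closed (k := ResidueField A) (K := Ω)
  have := IsSepClosure.separable (k := ResidueField A) (K := Ω)
  ⟨isSepClosed_residueField, inferInstance⟩

end Henselian

section Universal

/-- Maps out of a stage `i.G` into a henselian local `A`-algebra are determined by, and can be
prescribed on, the residue field. -/
theorem existsUnique_lift_stage (T : Type u) [CommRing T] [HenselianLocalRing T] [Algebra A T]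
    (i : SIdx A Ω) (ρ : i.G →ₐ[A] ResidueField T) :
    ∃! g : i.G →ₐ[A] T, ∀ x, residue T (g x) = ρ x := by
  have hEt : Algebra.Etale T (T ⊗[A] i.C) := inferInstance
  let ρC : i.C →ₐ[A] ResidueField T := ρ.comp (IsScalarTower.toAlgHom A i.C i.G)
  let χ : T ⊗[A] i.C →ₐ[T] ResidueField T :=
    Algebra.TensorProduct.lift (Algebra.ofId T (ResidueField T)) ρC (fun _ _ => Commute.all _ _)
  obtain ⟨σ, hσ⟩ := exists_lift_residue χ
  let gC : i.C →ₐ[A] T := (σ.restrictScalars A).comp Algebra.TensorProduct.includeRight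
  have hgC : ∀ c, residue T (gC c) = ρ (algebraMap i.C i.G c) := by
    intro c
    show residue T (σ ((1 : T) ⊗ₜ[A] c)) = _
    rw [hσ]
    simp [χ, ρC]
  have hunit : ∀ y : i.q.primeCompl, IsUnit (gC y) := by
    intro y
    have h1 : IsUnit (algebraMap i.C i.G (y : i.C)) := IsLocalization.map_units _ y
    have h2 : IsUnit (ρ (algebraMap i.C i.G (y : i.C))) := h1.map ρ
    rw [← hgC] at h2
    by_contra hnu
    have h3 : gC y ∈ maximalIdeal T := hnu
    rw [← residue_eq_zero_iff] at h3
    rw [h3] at h2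
    exact not_isUnit_zero h2
  let g : i.G →ₐ[A] T :=
    IsLocalization.liftAlgHom (M := i.q.primeCompl) (S := i.G) (f := gC) hunit
  have hg : ∀ x, residue T (g x) = ρ x := by
    have h : (residue T).comp g.toRingHom = ρ.toRingHom := by
      apply IsLocalization.ringHom_ext i.q.primeCompl
      ext c
      show residue T (g (algebraMap i.C i.G c)) = ρ (algebraMap i.C i.G c)
      have e : g (algebraMap i.C i.G c) = gC c := IsLocalization.lift_eq _ c
      rw [e, hgC]
    intro x
    exact RingHom.congr_fun h x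
  refine ⟨g, hg, ?_⟩
  intro g' hg'
  apply algHom_ext_of_residue
  intro a
  rw [← residue_eq_zero_iff, map_sub, hg', hg, sub_self]

/-- The universal property of `SHens A Ω`. -/
theorem universal (T : Type u) [CommRing T] [HenselianLocalRing T] (f : A →+* T) [IsLocalHom f]
    (τ : ResidueField (SHens A Ω) →+* ResidueField T)
    (hτ : τ.comp (IsLocalRing.ResidueField.map (algebraMap A (SHens A Ω))) =
      IsLocalRing.ResidueField.map f) :
    ∃! g : SHens A Ω →+* T, g.comp (algebraMap A (SHens A Ω)) = f ∧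
      ∀ x : SHens A Ω, residue T (g x) = τ (residue (SHens A Ω) x) := by
  let algT : Algebra A T := f.toAlgebra
  have hfa : ∀ a, algebraMap A T a = f a := fun _ => rfl
  let ρ : ∀ i : SIdx A Ω, i.G →ₐ[A] ResidueField T := fun i =>
    { toRingHom := (τ.comp (residue (SHens A Ω))).comp (ofS i)
      commutes' := by
        intro a
        show τ (residue _ (ofS i (algebraMap A i.G a))) = algebraMap A (ResidueField T) a
        rw [← algebraMap_eq i a]
        have h := RingHom.congr_fun hτ (residue A a)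
        rw [RingHom.comp_apply, IsLocalRing.ResidueField.map_residue,
          IsLocalRing.ResidueField.map_residue] at h
        rw [h]
        rfl }
  have hρ : ∀ (i : SIdx A Ω) (x : i.G), ρ i x = τ (residue _ (ofS i x)) := fun _ _ => rfl
  have key := fun i : SIdx A Ω => existsUnique_lift_stage T i (ρ i)
  choose g hg using fun i => (key i).exists
  have huniq : ∀ (i : SIdx A Ω) (g' : i.G →ₐ[A] T),
      (∀ x, residue T (g' x) = ρ i x) → g' = g i := fun i g' h => (key i).unique h (hg i)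
  have hcompat : ∀ (i j : SIdx A Ω) (h : i ≤ j) (x : i.G), g j (tr i j h x) = g i x := by
    intro i j h x
    have e : (g j).comp (tr i j h) = g i := by
      apply huniq
      intro y
      show residue T (g j (tr i j h y)) = ρ i y
      rw [hg, hρ, hρ, ofS_tr]
    exact congrArg (fun F : i.G →ₐ[A] T => F x) e
  let Gm : SHens A Ω →+* T :=
    Ring.DirectLimit.lift (fun i : SIdx A Ω => i.G) (fun i j h => trR A Ω i j h) T
      (fun i => (g i).toRingHom) (fun i j h x => hcompat i j h x)
  have hGm : ∀ (i : SIdx A Ω) (x : i.G), Gm (ofS i x) = g i x := by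
    intro i x
    exact Ring.DirectLimit.lift_of _ _ _ _ _
  refine ⟨Gm, ⟨?_, ?_⟩, ?_⟩
  · ext a
    have i : SIdx A Ω := Classical.arbitrary _
    show Gm (algebraMap A (SHens A Ω) a) = f a
    rw [algebraMap_eq i a, hGm, AlgHom.commutes, hfa]
  · intro z
    obtain ⟨i, x, rfl⟩ := exists_ofS z
    rw [hGm, hg, hρ]
  · rintro G' ⟨hG'1, hG'2⟩
    apply Ring.DirectLimit.hom_ext
    intro i
    let g' : i.G →ₐ[A] T :=
      { toRingHom := G'.comp (ofS i)
        commutes' := by
          intro a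
          show G' (ofS i (algebraMap A i.G a)) = algebraMap A T a
          rw [← algebraMap_eq i a, hfa, ← hG'1]
          rfl }
    have e : g' = g i := by
      apply huniq
      intro x
      show residue T (G' (ofS i x)) = ρ i x
      rw [hG'2, hρ]
    ext x
    show G' (ofS i x) = Gm (ofS i x)
    rw [hGm, ← e]
    rfl

end Universal

end Groth.Agent.Lib.Helper24.StrictHens

end
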