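import Mathlib

set_option autoImplicit false
universe u

namespace Groth.Agent.Lib.Helper24.Tate

section Core

variable (R : Type u) [CommRing R] [IsDomain R] [IsIntegrallyClosed R]
  (K L : Type u) [Field K] [Field L] [Algebra R K] [IsFractionRing R K] [Algebra K L] [Algebra R L]
  [IsScalarTower R K L]
  (q : ℕ) (hq : 0 < q) (hadd : ∀ a b : L, (a + b) ^ q = a ^ q + b ^ q)
  (hpow : ∀ l : L, ∃ k : K, l ^ q = algebraMap K L k)

include K in
theorem injective_algebraMap : Function.Injective (algebraMap R L) := by
  rw [IsScalarTower.algebraMap_eq R K L]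
  exact (algebraMap K L).injective.comp (IsFractionRing.injective R K)

include hq hpow in
/-- `l` is integral over `R` iff `l ^ q ∈ R`. -/
theorem isIntegral_iff (l : L) : IsIntegral R l ↔ ∃ r : R, l ^ q = algebraMap R L r := by
  constructor
  · intro hl
    obtain ⟨k, hk⟩ := hpow l
    have h1 : IsIntegral R (algebraMap K L k) := by rw [← hk]; exact hl.pow q
    have h2 : IsIntegral R k := (isIntegral_algebraMap_iff (algebraMap K L).injective).mp h1
    obtain ⟨r, hr⟩ := IsIntegrallyClosed.isIntegral_iff.mp h2
    exact ⟨r, by rw [hk, ← hr, ← IsScalarTower.algebraMap_apply]⟩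
  · rintro ⟨r, hr⟩
    refine ⟨Polynomial.X ^ q - Polynomial.C r, Polynomial.monic_X_pow_sub_C r hq.ne', ?_⟩
    simp [hr]

/-- The `q`-th power map `S → R` on the integral closure. -/
noncomputable def nu (s : integralClosure R L) : R :=
  ((isIntegral_iff R K L q hq hpow s.1).mp s.2).choose

theorem nu_spec (s : integralClosure R L) :
    (s : L) ^ q = algebraMap R L (nu R K L q hq hpow s) :=
  ((isIntegral_iff R K L q hq hpow s.1).mp s.2).choose_spec

include hadd in
/-- `nu` as a ring homomorphism. -/
noncomputable def nuHom : integralClosure R L →+* R where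
  toFun := nu R K L q hq hpow
  map_one' := by
    apply injective_algebraMap R K L
    rw [← nu_spec]; simp
  map_mul' a b := by
    apply injective_algebraMap R K L
    rw [← nu_spec, map_mul, ← nu_spec, ← nu_spec]
    push_cast
    rw [mul_pow]
  map_zero' := by
    apply injective_algebraMap R K L
    rw [← nu_spec]; simp [hq.ne']
  map_add' a b := by
    apply injective_algebraMap R K L
    rw [← nu_spec, map_add, ← nu_spec, ← nu_spec]
    push_cast
    rw [hadd]

theorem nuHom_apply (s : integralClosure R L) :
    algebraMap R L (nuHom R K L q hq hadd hpow s) = (s : L) ^ q :=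
  (nu_spec R K L q hq hpow s).symm

theorem nuHom_injective : Function.Injective (nuHom R K L q hq hadd hpow) := by
  rw [injective_iff_map_eq_zero]
  intro s hs
  have h1 := nuHom_apply R K L q hq hadd hpow s
  rw [hs, map_zero] at h1
  have h2 : (s : L) = 0 := by
    by_contra h
    exact pow_ne_zero q h h1.symm
  exact Subtype.ext h2

theorem nuHom_algebraMap (r : R) :
    nuHom R K L q hq hadd hpow (algebraMap R (integralClosure R L) r) = r ^ q := by
  apply injective_algebraMap R K L
  rw [nuHom_apply, map_pow]
  rfl

end Core

end Groth.Agent.Lib.Helper24.Tate
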