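import Mathlib
import Groth.Agent.Lib.Helper24.Tate

set_option autoImplicit false
universe u

namespace Groth.Agent.Lib.Helper24.Tate

section Root

variable (R : Type u) [CommRing R] [IsDomain R] [IsIntegrallyClosed R]
  (K L : Type u) [Field K] [Field L] [Algebra R K] [IsFractionRing R K] [Algebra K L] [Algebra R L]
  [IsScalarTower R K L]
  (q : ℕ) (hq : 0 < q) (hadd : ∀ a b : L, (a + b) ^ q = a ^ q + b ^ q)
  (hpow : ∀ l : L, ∃ k : K, l ^ q = algebraMap K L k)
  (x : R) (y : L) (hy : y ^ q = algebraMap R L x)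

/-- The root `y` as an element of the integral closure. -/
noncomputable def yS : integralClosure R L :=
  ⟨y, (isIntegral_iff R K L q hq hpow y).mpr ⟨x, hy⟩⟩

theorem nuHom_yS : nuHom R K L q hq hadd hpow (yS R K L q hq hpow x y hy) = x := by
  apply injective_algebraMap R K L
  rw [nuHom_apply]
  exact hy

include hadd in
theorem mem_span_yS_iff (hx : x ≠ 0) (s : integralClosure R L) :
    s ∈ Ideal.span {yS R K L q hq hpow x y hy} ↔
      nuHom R K L q hq hadd hpow s ∈ Ideal.span {x} := by
  rw [Ideal.mem_span_singleton', Ideal.mem_span_singleton']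
  constructor
  · rintro ⟨t, rfl⟩
    refine ⟨nuHom R K L q hq hadd hpow t, ?_⟩
    rw [map_mul, nuHom_yS]
  · rintro ⟨r, hr⟩
    have hy0 : y ≠ 0 := by
      intro h0
      rw [h0, zero_pow hq.ne'] at hy
      exact hx ((injective_algebraMap R K L) (by rw [← hy, map_zero]))
    have h1 : (s : L) ^ q = algebraMap R L r * y ^ q := by
      rw [← nuHom_apply R K L q hq hadd hpow s, ← hr, map_mul, hy]
    have h2 : ((s : L) / y) ^ q = algebraMap R L r := by
      rw [div_pow, h1, mul_div_assoc, div_self (pow_ne_zero q hy0), mul_one]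
    refine ⟨⟨(s : L) / y, (isIntegral_iff R K L q hq hpow _).mpr ⟨r, h2⟩⟩, ?_⟩
    apply Subtype.ext
    show (s : L) / y * y = s
    rw [div_mul_cancel₀ _ hy0]

include hadd in
theorem span_yS_eq_comap (hx : x ≠ 0) :
    Ideal.span {yS R K L q hq hpow x y hy} =
      (Ideal.span {x}).comap (nuHom R K L q hq hadd hpow) := by
  ext s
  rw [mem_span_yS_iff R K L q hq hadd hpow x y hy hx, Ideal.mem_comap]

include hadd in
theorem isPrime_span_yS (hx : x ≠ 0) [hP : (Ideal.span {x}).IsPrime] :
    (Ideal.span {yS R K L q hq hpow x y hy}).IsPrime := by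
  rw [span_yS_eq_comap R K L q hq hadd hpow x y hy hx]
  exact Ideal.comap_isPrime _ _

include hadd in
theorem comap_span_yS (hx : x ≠ 0) [hP : (Ideal.span {x}).IsPrime] :
    (Ideal.span {yS R K L q hq hpow x y hy}).comap (algebraMap R (integralClosure R L)) =
      Ideal.span {x} := by
  ext r
  rw [Ideal.mem_comap, mem_span_yS_iff R K L q hq hadd hpow x y hy hx, nuHom_algebraMap]
  exact hP.pow_mem_iff_mem q hq

end Root

end Groth.Agent.Lib.Helper24.Tate
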