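import Mathlib
import Groth.Agent.Lib.Helper24.Tate
import Groth.Agent.Lib.Helper13.PIns2
import Groth.Agent.Lib.Helper24.CplLift

set_option autoImplicit false
set_option linter.unusedSectionVars false
universe u

namespace Groth.Agent.Lib.Helper24.Tate

section Abstract

variable (R : Type u) [CommRing R] [IsDomain R] [IsNoetherianRing R]
  (S : Type u) [CommRing S] [IsDomain S] [Algebra R S]
  (hinj : Function.Injective (algebraMap R S))
  (q : ℕ) (hq : 0 < q) (ν : S →+* R) (hν : ∀ s, s ^ q = algebraMap R S (ν s))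
  (x : R) (hx : x ≠ 0) [hP : (Ideal.span {x}).IsPrime] (w : S) (hw : ν w = x)
  (hdiv : ∀ s, ν s ∈ Ideal.span {x} → s ∈ Ideal.span {w})

include hq hν in
theorem ν_injective : Function.Injective ν := by
  rw [injective_iff_map_eq_zero]
  intro s hs
  have h1 := hν s
  rw [hs, map_zero] at h1
  exact pow_eq_zero_iff hq.ne' |>.mp h1

include hinj hν in
theorem ν_algebraMap (r : R) : ν (algebraMap R S r) = r ^ q := by
  apply hinj
  rw [← hν, map_pow]

include hw hdiv in
theorem mem_span_w_iff (s : S) : s ∈ Ideal.span {w} ↔ ν s ∈ Ideal.span {x} := by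
  refine ⟨?_, hdiv s⟩
  rw [Ideal.mem_span_singleton', Ideal.mem_span_singleton']
  rintro ⟨t, rfl⟩
  exact ⟨ν t, by rw [map_mul, hw]⟩

include hw hdiv in
theorem span_w_eq_comap : Ideal.span {w} = (Ideal.span {x}).comap ν := by
  ext s
  rw [mem_span_w_iff R S ν x w hw hdiv, Ideal.mem_comap]

include hw hdiv in
theorem isPrime_span_w : (Ideal.span {w}).IsPrime := by
  rw [span_w_eq_comap R S ν x w hw hdiv]
  exact Ideal.comap_isPrime _ _

include hinj hq hν hw hdiv in
theorem comap_span_w : (Ideal.span {w}).comap (algebraMap R S) = Ideal.span {x} := by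
  ext r
  rw [Ideal.mem_comap, mem_span_w_iff R S ν x w hw hdiv, ν_algebraMap R S hinj q ν hν]
  exact hP.pow_mem_iff_mem q hq

/-- The algebra structure on a quotient over a quotient. -/
@[reducible] noncomputable def quotAlg (P : Ideal R) (Q : Ideal S)
    (h : P ≤ Q.comap (algebraMap R S)) : Algebra (R ⧸ P) (S ⧸ Q) :=
  (Ideal.quotientMap Q (algebraMap R S) h).toAlgebra

theorem quotAlg_smul_mk (P : Ideal R) (Q : Ideal S) (h : P ≤ Q.comap (algebraMap R S))
    (r : R) (s : S) :
    letI := quotAlg R S P Q h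
    (Ideal.Quotient.mk P r) • (Ideal.Quotient.mk Q s) = Ideal.Quotient.mk Q (r • s) := by
  letI := quotAlg R S P Q h
  rw [Algebra.smul_def, RingHom.algebraMap_toAlgebra, Ideal.quotientMap_mk, ← map_mul,
    ← Algebra.smul_def]

theorem quotAlg_isScalarTower (P : Ideal R) (Q : Ideal S) (h : P ≤ Q.comap (algebraMap R S)) :
    letI := quotAlg R S P Q h
    IsScalarTower R (R ⧸ P) (S ⧸ Q) := by
  letI := quotAlg R S P Q h
  exact IsScalarTower.of_algebraMap_eq (fun r => rfl)

include hinj hx in
/-- Relations lift: a family of `S` whose reduction is linearly independent over `R/xR` is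
linearly independent over `R`. -/
theorem linearIndependent_of_quotient {ι : Type*} [Fintype ι] (v : ι → S)
    (h : Ideal.span {x} ≤ (Ideal.span {w}).comap (algebraMap R S))
    (hv : letI := quotAlg R S (Ideal.span {x}) (Ideal.span {w}) h
      LinearIndependent (R ⧸ Ideal.span {x}) (fun i => Ideal.Quotient.mk (Ideal.span {w}) (v i))) :
    LinearIndependent R v := by
  letI := quotAlg R S (Ideal.span {x}) (Ideal.span {w}) h
  rw [Fintype.linearIndependent_iff]
  -- step: any relation has all coefficients in `(x)`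
  have step1 : ∀ g : ι → R, ∑ i, g i • v i = 0 → ∀ i, g i ∈ Ideal.span {x} := by
    intro g hg i
    have h1 : ∑ i, (Ideal.Quotient.mk (Ideal.span {x}) (g i)) •
        (Ideal.Quotient.mk (Ideal.span {w}) (v i)) = 0 := by
      have : ∀ i, (Ideal.Quotient.mk (Ideal.span {x}) (g i)) •
          (Ideal.Quotient.mk (Ideal.span {w}) (v i)) =
            Ideal.Quotient.mk (Ideal.span {w}) (g i • v i) :=
        fun i => quotAlg_smul_mk R S _ _ h (g i) (v i)
      simp_rw [this]
      rw [← map_sum, hg, map_zero]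
    have h2 := (Fintype.linearIndependent_iff.mp hv) _ h1 i
    exact Ideal.Quotient.eq_zero_iff_mem.mp h2
  have hx' : algebraMap R S x ≠ 0 := fun h0 => hx (hinj (by rw [h0, map_zero]))
  have stepn : ∀ n : ℕ, ∀ g : ι → R, ∑ i, g i • v i = 0 → ∀ i, g i ∈ Ideal.span {x} ^ n := by
    intro n
    induction n with
    | zero => intro g _ i; simp
    | succ n ih =>
      intro g hg i
      have h1 := step1 g hg
      choose g' hg' using fun i => Ideal.mem_span_singleton'.mp (h1 i)
      have h3 : ∑ i, g' i • v i = 0 := by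
        have : algebraMap R S x * ∑ i, g' i • v i = 0 := by
          rw [Finset.mul_sum, ← hg]
          refine Finset.sum_congr rfl (fun i _ => ?_)
          rw [← hg' i, Algebra.smul_def, Algebra.smul_def, map_mul]
          ring
        exact (mul_eq_zero.mp this).resolve_left hx'
      have h4 := ih g' h3 i
      rw [← hg' i, pow_succ]
      exact Ideal.mul_mem_mul h4 (Ideal.mem_span_singleton_self x)
  intro g hg i
  have hne : Ideal.span {x} ≠ ⊤ := hP.ne_top
  have h5 : g i ∈ ⨅ n, Ideal.span {x} ^ n := by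
    rw [Ideal.mem_iInf]
    exact fun n => stepn n g hg i
  rw [Ideal.iInf_pow_eq_bot_of_isDomain _ hne] at h5
  exact h5

include hinj hx in
theorem rank_quotient_le (n : ℕ)
    (hn : ∀ (ι : Type u) [Fintype ι] (v : ι → S), LinearIndependent R v → Fintype.card ι ≤ n)
    (h : Ideal.span {x} ≤ (Ideal.span {w}).comap (algebraMap R S)) :
    letI := quotAlg R S (Ideal.span {x}) (Ideal.span {w}) h
    Module.rank (R ⧸ Ideal.span {x}) (S ⧸ Ideal.span {w}) ≤ n := by
  letI := quotAlg R S (Ideal.span {x}) (Ideal.span {w}) h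
  apply rank_le
  intro t ht
  choose f hf using fun i : t => Ideal.Quotient.mk_surjective (i : S ⧸ Ideal.span {w})
  have h1 : LinearIndependent R f := by
    apply linearIndependent_of_quotient R S hinj x hx w f h
    simp_rw [hf]
    exact ht
  have h2 := hn t f h1
  rwa [Fintype.card_coe] at h2

include hq hν in
theorem isIntegral_of_ν (s : S) : IsIntegral R s :=
  ⟨Polynomial.X ^ q - Polynomial.C (ν s), Polynomial.monic_X_pow_sub_C _ hq.ne', by simp [hν s]⟩

open Groth.Agent.Lib.helper13.PIns in
include hinj hq hν hx hw hdiv in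
/-- `S/wS` is a finite `R`-module. -/
theorem finite_quotient (n : ℕ)
    (hn : ∀ (ι : Type u) [Fintype ι] (v : ι → S), LinearIndependent R v → Fintype.card ι ≤ n)
    (h2 : CAlg.IsN2 (R ⧸ Ideal.span {x})) :
    Module.Finite R (S ⧸ Ideal.span {w}) := by
  have hcomap := comap_span_w R S hinj q hq ν hν x w hw hdiv
  have h : Ideal.span {x} ≤ (Ideal.span {w}).comap (algebraMap R S) := le_of_eq hcomap.symm
  letI := quotAlg R S (Ideal.span {x}) (Ideal.span {w}) h
  haveI := quotAlg_isScalarTower R S (Ideal.span {x}) (Ideal.span {w}) h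
  haveI : (Ideal.span {w}).IsPrime := isPrime_span_w R S ν x w hw hdiv
  have hinj' : Function.Injective (algebraMap (R ⧸ Ideal.span {x}) (S ⧸ Ideal.span {w})) :=
    Ideal.quotientMap_injective' (le_of_eq hcomap)
  haveI : FaithfulSMul (R ⧸ Ideal.span {x}) (S ⧸ Ideal.span {w}) :=
    (faithfulSMul_iff_algebraMap_injective _ _).mpr hinj'
  haveI : Algebra.IsIntegral (R ⧸ Ideal.span {x}) (S ⧸ Ideal.span {w}) := by
    refine ⟨fun sb => ?_⟩
    obtain ⟨s, rfl⟩ := Ideal.Quotient.mk_surjective sb
    have h1 : IsIntegral R (Ideal.Quotient.mk (Ideal.span {w}) s) :=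
      (isIntegral_of_ν R S q hq ν hν s).map (Ideal.Quotient.mkₐ R (Ideal.span {w}))
    exact h1.tower_top
  have hrk := rank_quotient_le R S hinj x hx w n hn h
  letI := FractionRing.liftAlgebra (R ⧸ Ideal.span {x}) (FractionRing (S ⧸ Ideal.span {w}))
  haveI := FractionRing.isScalarTower_liftAlgebra (R ⧸ Ideal.span {x})
    (FractionRing (S ⧸ Ideal.span {w}))
  have hrank : Module.rank (FractionRing (R ⧸ Ideal.span {x})) (FractionRing (S ⧸ Ideal.span {w}))
      = Module.rank (R ⧸ Ideal.span {x}) (S ⧸ Ideal.span {w}) :=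
    Algebra.IsAlgebraic.rank_fractionRing (R ⧸ Ideal.span {x}) (S ⧸ Ideal.span {w})
  haveI hfd : FiniteDimensional (FractionRing (R ⧸ Ideal.span {x}))
      (FractionRing (S ⧸ Ideal.span {w})) := by
    haveI : Module.Free (FractionRing (R ⧸ Ideal.span {x}))
        (FractionRing (S ⧸ Ideal.span {w})) := Module.Free.of_divisionRing _ _
    rw [FiniteDimensional, ← Module.rank_lt_aleph0_iff, hrank]
    exact lt_of_le_of_lt hrk Cardinal.natCast_lt_aleph0
  have hfin : Module.Finite (R ⧸ Ideal.span {x})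
      (integralClosure (R ⧸ Ideal.span {x}) (FractionRing (S ⧸ Ideal.span {w}))) :=
    IsN2.finite_integralClosure h2 (FractionRing (R ⧸ Ideal.span {x}))
      (FractionRing (S ⧸ Ideal.span {w}))
  haveI : IsNoetherian (R ⧸ Ideal.span {x})
      (integralClosure (R ⧸ Ideal.span {x}) (FractionRing (S ⧸ Ideal.span {w}))) :=
    isNoetherian_of_isNoetherianRing_of_finite _ _
  let f : (S ⧸ Ideal.span {w}) →ₗ[R ⧸ Ideal.span {x}]
      integralClosure (R ⧸ Ideal.span {x}) (FractionRing (S ⧸ Ideal.span {w})) :=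
    { toFun := fun s => ⟨algebraMap _ _ s, (Algebra.IsIntegral.isIntegral s).map
        (IsScalarTower.toAlgHom (R ⧸ Ideal.span {x}) (S ⧸ Ideal.span {w})
          (FractionRing (S ⧸ Ideal.span {w})))⟩
      map_add' := fun a b => Subtype.ext (map_add _ _ _)
      map_smul' := fun a b => Subtype.ext (by
        show algebraMap _ _ (a • b) = a • algebraMap _ _ b
        rw [Algebra.smul_def, map_mul, Algebra.smul_def,
          ← IsScalarTower.algebraMap_apply]) }
  have hf : Function.Injective f := by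
    intro a b hab
    have := congrArg Subtype.val hab
    exact IsFractionRing.injective (S ⧸ Ideal.span {w}) (FractionRing (S ⧸ Ideal.span {w})) this
  haveI : Module.Finite (R ⧸ Ideal.span {x}) (S ⧸ Ideal.span {w}) :=
    Module.Finite.of_injective f hf
  exact Module.Finite.trans (R ⧸ Ideal.span {x}) (S ⧸ Ideal.span {w})

omit [IsDomain R] [IsNoetherianRing R] in
/-- Generation modulo the image of an endomorphism propagates to its powers. -/
theorem exists_fg_sup_range_pow {M : Type*} [AddCommGroup M] [Module R M] (φ : M →ₗ[R] M)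
    (N : Submodule R M) (hN : N.FG) (h : N ⊔ LinearMap.range φ = ⊤) (i : ℕ) :
    ∃ N' : Submodule R M, N'.FG ∧ N' ⊔ LinearMap.range (φ ^ i) = ⊤ := by
  induction i with
  | zero =>
    refine ⟨⊥, Submodule.fg_bot, ?_⟩
    rw [pow_zero, Module.End.one_eq_id, LinearMap.range_id, bot_sup_eq]
  | succ i ih =>
    obtain ⟨Ni, hNi, hi⟩ := ih
    refine ⟨N ⊔ Ni.map φ, hN.sup (hNi.map φ), ?_⟩
    have h1 : LinearMap.range (φ ^ (i + 1)) = (LinearMap.range (φ ^ i)).map φ := by
      rw [pow_succ', Module.End.mul_eq_comp, LinearMap.range_comp]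
    rw [h1, sup_assoc, ← Submodule.map_sup, hi, Submodule.map_top, h]

include hinj hq hν hx hw hdiv in
theorem exists_fg_sup_smul_top (n : ℕ)
    (hn : ∀ (ι : Type u) [Fintype ι] (v : ι → S), LinearIndependent R v → Fintype.card ι ≤ n)
    (h2 : CAlg.IsN2 (R ⧸ Ideal.span {x})) :
    ∃ N : Submodule R S, N.FG ∧ N ⊔ (Ideal.span {x} • ⊤ : Submodule R S) = ⊤ := by
  haveI := finite_quotient R S hinj q hq ν hν x hx w hw hdiv n hn h2
  obtain ⟨m, t, ht⟩ := Module.Finite.exists_fin (R := R) (M := S ⧸ Ideal.span {w})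
  choose f hf using fun i => Ideal.Quotient.mk_surjective (t i)
  let φ : S →ₗ[R] S := LinearMap.mulLeft R w
  have h0 : Submodule.span R (Set.range f) ⊔ LinearMap.range φ = ⊤ := by
    rw [eq_top_iff]
    intro s _
    have h1 : (Submodule.span R (Set.range f)).map
        (Ideal.Quotient.mkₐ R (Ideal.span {w})).toLinearMap = ⊤ := by
      rw [Submodule.map_span, ← Set.range_comp, ← ht]
      congr 2
      funext i
      exact hf i
    have h3 : Ideal.Quotient.mk (Ideal.span {w}) s ∈ (Submodule.span R (Set.range f)).map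
        (Ideal.Quotient.mkₐ R (Ideal.span {w})).toLinearMap := by
      rw [h1]; trivial
    obtain ⟨a, ha, hab⟩ := h3
    have h4 : s - a ∈ Ideal.span {w} := by
      rw [← Ideal.Quotient.eq]
      exact hab.symm
    obtain ⟨c, hc⟩ := Ideal.mem_span_singleton'.mp h4
    have h5 : s = a + φ c := by
      show s = a + w * c
      rw [mul_comm, hc]; ring
    rw [h5]
    exact Submodule.add_mem_sup ha (LinearMap.mem_range_self φ c)
  obtain ⟨N', hN', hsup⟩ := exists_fg_sup_range_pow R φ _
    (Submodule.fg_span (Set.finite_range f)) h0 q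
  refine ⟨N', hN', ?_⟩
  have hle : LinearMap.range (φ ^ q) ≤ (Ideal.span {x} • ⊤ : Submodule R S) := ?_
  · exact eq_top_iff.mpr (hsup.symm.le.trans (sup_le_sup_left hle _))
  rintro _ ⟨s, rfl⟩
  have hpow : ∀ (i : ℕ) (s : S), (φ ^ i) s = w ^ i * s := by
    intro i
    induction i with
    | zero => intro s; simp
    | succ i ih =>
      intro s
      rw [pow_succ', Module.End.mul_apply, ih, pow_succ']
      show w * (w ^ i * s) = _
      ring
  rw [hpow, hν, hw, ← Algebra.smul_def]
  exact Submodule.smul_mem_smul (Ideal.mem_span_singleton_self x) Submodule.mem_top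

include hinj hq hν in
theorem isHausdorff_of_ν : IsHausdorff (Ideal.span {x}) S := by
  refine ⟨fun s hs => ?_⟩
  apply ν_injective R S q hq ν hν
  rw [map_zero]
  have hne : Ideal.span {x} ≠ ⊤ := hP.ne_top
  have h5 : ν s ∈ ⨅ n, Ideal.span {x} ^ n := by
    rw [Ideal.mem_iInf]
    intro n
    have h1 := hs n
    rw [SModEq.zero, Ideal.span_singleton_pow, Submodule.ideal_span_singleton_smul] at h1
    obtain ⟨t, -, rfl⟩ := (Submodule.mem_smul_pointwise_iff_exists _ _ _).mp h1
    rw [Algebra.smul_def, map_mul, ν_algebraMap R S hinj q ν hν, ← pow_mul, mul_comm n q,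
      pow_mul]
    exact Ideal.mul_mem_right _ _ (Ideal.pow_mem_pow
      (Ideal.pow_mem_of_mem _ (Ideal.mem_span_singleton_self x) q hq) n)
  rw [Ideal.iInf_pow_eq_bot_of_isDomain _ hne] at h5
  exact h5

include hinj hq hν hx hw hdiv in
/-- **Tate's lemma**, abstract form. -/
theorem finite_of_tate [IsAdicComplete (Ideal.span {x}) R] (n : ℕ)
    (hn : ∀ (ι : Type u) [Fintype ι] (v : ι → S), LinearIndependent R v → Fintype.card ι ≤ n)
    (h2 : CAlg.IsN2 (R ⧸ Ideal.span {x})) : Module.Finite R S := by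
  obtain ⟨N, hN, hsup⟩ := exists_fg_sup_smul_top R S hinj q hq ν hν x hx w hw hdiv n hn h2
  obtain ⟨m, s, rfl⟩ := Submodule.fg_iff_exists_fin_generating_family.mp hN
  haveI := isHausdorff_of_ν R S hinj q hq ν hν x
  have htop := Groth.Agent.Lib.Helper24.CplLift.span_eq_top_of_quotient (Ideal.span {x}) s hsup
  exact Module.finite_def.2 (htop ▸ Submodule.fg_span (Set.finite_range s))

end Abstract

end Groth.Agent.Lib.Helper24.Tate
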