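import Mathlib
import Groth.Agent.Lib.Helper24.Tate2
import Groth.Agent.Lib.Helper24.Tate3

set_option autoImplicit false
set_option linter.unusedSectionVars false
universe u

namespace Groth.Agent.Lib.Helper24.Tate

section Field

variable (R : Type u) [CommRing R] [IsDomain R] [IsIntegrallyClosed R] [IsNoetherianRing R]
  (K L : Type u) [Field K] [Field L] [Algebra R K] [IsFractionRing R K] [Algebra K L] [Algebra R L]
  [IsScalarTower R K L] [FiniteDimensional K L]
  (q : ℕ) (hq : 0 < q) (hadd : ∀ a b : L, (a + b) ^ q = a ^ q + b ^ q)
  (hpow : ∀ l : L, ∃ k : K, l ^ q = algebraMap K L k)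
  (x : R) (hx : x ≠ 0) [hP : (Ideal.span {x}).IsPrime] (y : L) (hy : y ^ q = algebraMap R L x)

include hq hadd hpow hx hy in
/-- Tate's lemma when the field already contains a `q`-th root of `x`. -/
theorem finite_integralClosure_of_root [IsAdicComplete (Ideal.span {x}) R]
    (h2 : CAlg.IsN2 (R ⧸ Ideal.span {x})) : Module.Finite R (integralClosure R L) := by
  have hinj : Function.Injective (algebraMap R (integralClosure R L)) := by
    intro a b hab
    apply injective_algebraMap R K L
    exact congrArg Subtype.val hab
  refine finite_of_tate R (integralClosure R L) hinj q hq (nuHom R K L q hq hadd hpow) ?_ x hx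
    (yS R K L q hq hpow x y hy) (nuHom_yS R K L q hq hadd hpow x y hy)
    (fun s => (mem_span_yS_iff R K L q hq hadd hpow x y hy hx s).mpr) (Module.finrank K L) ?_ h2
  · intro s
    apply Subtype.ext
    show (s : L) ^ q = algebraMap R L (nuHom R K L q hq hadd hpow s)
    rw [nuHom_apply]
  · intro ι _ v hv
    have h1 : LinearIndependent R (fun i => ((v i : integralClosure R L) : L)) := by
      have := hv.map' (integralClosure R L).val.toLinearMap
        (LinearMap.ker_eq_bot.mpr Subtype.val_injective)
      exact this
    have h3 : LinearIndependent K (fun i => ((v i : integralClosure R L) : L)) :=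
      (LinearIndependent.iff_fractionRing R K).mp h1
    exact h3.fintype_card_le_finrank

end Field

end Groth.Agent.Lib.Helper24.Tate
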