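import Mathlib
import Groth.Agent.Lib.Helper24.Tate4

set_option autoImplicit false
set_option linter.unusedSectionVars false
universe u

namespace Groth.Agent.Lib.Helper24.Tate

open IntermediateField

section Enlarge

variable (K L : Type u) [Field K] [Field L] [Algebra K L] [FiniteDimensional K L]
  (p : ℕ) [ExpChar K p] (e : ℕ)

/-- The subfield of elements whose `p^e`-th power lies in `K`. -/
noncomputable def powField (Ω : Type u) [Field Ω] [Algebra K Ω] : IntermediateField K Ω :=
  haveI : ExpChar Ω p := expChar_of_injective_algebraMap (algebraMap K Ω).injective p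
  { carrier := {ω | ω ^ p ^ e ∈ (algebraMap K Ω).fieldRange}
    mul_mem' := fun {a b} ha hb => by
      show (a * b) ^ p ^ e ∈ (algebraMap K Ω).fieldRange
      rw [mul_pow]; exact mul_mem ha hb
    one_mem' := by
      show (1 : Ω) ^ p ^ e ∈ (algebraMap K Ω).fieldRange
      rw [one_pow]; exact one_mem _
    add_mem' := fun {a b} ha hb => by
      show (a + b) ^ p ^ e ∈ (algebraMap K Ω).fieldRange
      rw [add_pow_expChar_pow]; exact add_mem ha hb
    zero_mem' := by
      show (0 : Ω) ^ p ^ e ∈ (algebraMap K Ω).fieldRange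
      rw [zero_pow (pow_ne_zero e (expChar_pos K p).ne')]; exact zero_mem _
    algebraMap_mem' := fun k => by
      show (algebraMap K Ω k) ^ p ^ e ∈ (algebraMap K Ω).fieldRange
      rw [← map_pow]; exact ⟨_, rfl⟩
    inv_mem' := fun a ha => by
      show (a⁻¹) ^ p ^ e ∈ (algebraMap K Ω).fieldRange
      rw [inv_pow]; exact inv_mem ha }

theorem mem_powField (Ω : Type u) [Field Ω] [Algebra K Ω] (ω : Ω) :
    ω ∈ powField K p e Ω ↔ ∃ k : K, ω ^ p ^ e = algebraMap K Ω k := by
  constructor
  · rintro ⟨k, hk⟩; exact ⟨k, hk.symm⟩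
  · rintro ⟨k, hk⟩; exact ⟨k, hk.symm⟩

/-- Adjoining a `p^e`-th root of `k0` to a finite extension all of whose `p^e`-th powers lie in
`K`. -/
theorem exists_enlarge (hL : ∀ l : L, ∃ k : K, l ^ p ^ e = algebraMap K L k) (k0 : K) :
    ∃ L' : IntermediateField K (AlgebraicClosure L), FiniteDimensional K L' ∧
      (∀ l' : L', ∃ k : K, l' ^ p ^ e = algebraMap K L' k) ∧
      (∃ y : L', y ^ p ^ e = algebraMap K L' k0) ∧
      (∀ l : L, algebraMap L (AlgebraicClosure L) l ∈ L') := by
  have hq : 0 < p ^ e := pow_pos (expChar_pos K p) e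
  obtain ⟨y, hy⟩ := IsAlgClosed.exists_pow_nat_eq (algebraMap K (AlgebraicClosure L) k0) hq
  have hyint : IsIntegral K y :=
    ⟨Polynomial.X ^ p ^ e - Polynomial.C k0, Polynomial.monic_X_pow_sub_C _ hq.ne', by simp [hy]⟩
  let F : IntermediateField K (AlgebraicClosure L) :=
    (IsScalarTower.toAlgHom K L (AlgebraicClosure L)).fieldRange
  haveI : FiniteDimensional K F := by
    have : Function.Surjective (IsScalarTower.toAlgHom K L (AlgebraicClosure L)).rangeRestrict :=
      AlgHom.rangeRestrict_surjective _
    exact Module.Finite.of_surjective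
      (IsScalarTower.toAlgHom K L (AlgebraicClosure L)).rangeRestrict.toLinearMap this
  haveI : FiniteDimensional K K⟮y⟯ := IntermediateField.adjoin.finiteDimensional hyint
  refine ⟨F ⊔ K⟮y⟯, inferInstance, ?_, ?_, ?_⟩
  · have hle : F ⊔ K⟮y⟯ ≤ powField K p e (AlgebraicClosure L) := by
      refine sup_le ?_ ?_
      · rintro _ ⟨l, rfl⟩
        rw [mem_powField]
        obtain ⟨k, hk⟩ := hL l
        refine ⟨k, ?_⟩
        show (algebraMap L (AlgebraicClosure L) l) ^ p ^ e = _
        rw [← map_pow, hk, ← IsScalarTower.algebraMap_apply]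
      · rw [IntermediateField.adjoin_le_iff]
        rintro _ rfl
        exact (mem_powField K p e _ _).mpr ⟨k0, hy⟩
    intro l'
    obtain ⟨k, hk⟩ := (mem_powField K p e _ _).mp (hle l'.2)
    exact ⟨k, Subtype.ext hk⟩
  · refine ⟨⟨y, ?_⟩, Subtype.ext hy⟩
    exact (le_sup_right : K⟮y⟯ ≤ F ⊔ K⟮y⟯) (IntermediateField.mem_adjoin_simple_self K y)
  · intro l
    exact (le_sup_left : F ≤ F ⊔ K⟮y⟯) ⟨l, rfl⟩

end Enlarge

section Main

variable (R : Type u) [CommRing R] [IsDomain R] [IsIntegrallyClosed R] [IsNoetherianRing R]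
  (K L : Type u) [Field K] [Field L] [Algebra R K] [IsFractionRing R K] [Algebra K L] [Algebra R L]
  [IsScalarTower R K L] [FiniteDimensional K L] [IsPurelyInseparable K L]
  (x : R) (hx : x ≠ 0) [hP : (Ideal.span {x}).IsPrime] [IsAdicComplete (Ideal.span {x}) R]

include K hx in
/-- Tate's lemma for a finite purely inseparable extension of the fraction field. -/
theorem finite_integralClosure_of_isPurelyInseparable (h2 : CAlg.IsN2 (R ⧸ Ideal.span {x})) :
    Module.Finite R (integralClosure R L) := by
  let p := ringExpChar K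
  haveI : ExpChar K p := ringExpChar.expChar K
  let e := IsPurelyInseparable.exponent K L
  have hL : ∀ l : L, ∃ k : K, l ^ p ^ e = algebraMap K L k := fun l => by
    obtain ⟨k, hk⟩ := IsPurelyInseparable.exponent_def' K p l
    exact ⟨k, hk.symm⟩
  obtain ⟨L', hfd, hpow, ⟨y, hy⟩, hmem⟩ := exists_enlarge K L p e hL (algebraMap R K x)
  haveI := hfd
  haveI : ExpChar L' p := expChar_of_injective_algebraMap (algebraMap K L').injective p
  have hfin : Module.Finite R (integralClosure R L') :=
    finite_integralClosure_of_root R K L' (p ^ e) (pow_pos (expChar_pos K p) e)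
      (fun a b => add_pow_expChar_pow a b p e) hpow x hx y
      (by rw [hy, ← IsScalarTower.algebraMap_apply]) h2
  let ι : L →ₐ[R] L' :=
    { toFun := fun l => ⟨algebraMap L (AlgebraicClosure L) l, hmem l⟩
      map_one' := Subtype.ext (map_one _)
      map_mul' := fun a b => Subtype.ext (map_mul _ _ _)
      map_zero' := Subtype.ext (map_zero _)
      map_add' := fun a b => Subtype.ext (map_add _ _ _)
      commutes' := fun r => Subtype.ext (by
        show algebraMap L (AlgebraicClosure L) (algebraMap R L r) =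
          algebraMap R (AlgebraicClosure L) r
        rw [← IsScalarTower.algebraMap_apply]) }
  exact Groth.Agent.LibN2_29.finite_integralClosure_of_algHom ι hfin

end Main

end Groth.Agent.Lib.Helper24.Tate
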