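import Mathlib
import Groth.Agent.S0569
import Groth.Agent.S16981
import Groth.Agent.Lib.Helper15.Regular
import Groth.Agent.Lib.Helper26.RegularNormal
import Groth.Agent.Lib.Helper8.FormalInduct

/-!
# Complete regular local rings are N-2 (helper24)

* `isAdicComplete_quotient`: a quotient of a complete Noetherian local ring is complete.
* `isN2_of_isField`: a field is N-2.
* `isN2_of_isRegularLocalRing_complete`: a complete regular local ring is N-2 (induction on the
  dimension via Tate's lemma `S0569`).
-/

set_option autoImplicit false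
universe u

namespace Groth.Agent.Lib.Helper24.N2Reg

open IsLocalRing

theorem map_mk_maximalIdeal (A : Type u) [CommRing A] [IsLocalRing A] (J : Ideal A)
    [IsLocalRing (A ⧸ J)] :
    (maximalIdeal A).map (Ideal.Quotient.mk J) = maximalIdeal (A ⧸ J) := by
  have hJ : J ≤ maximalIdeal A := by
    apply IsLocalRing.le_maximalIdeal
    intro h
    have : Subsingleton (A ⧸ J) := Ideal.Quotient.subsingleton_iff.mpr h
    exact not_subsingleton (A ⧸ J) this
  rcases Ideal.map_eq_top_or_isMaximal_of_surjective (Ideal.Quotient.mk J)
    Ideal.Quotient.mk_surjective (maximalIdeal.isMaximal A) with h | h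
  · exfalso
    have h1 := Ideal.comap_map_of_surjective (Ideal.Quotient.mk J) Ideal.Quotient.mk_surjective
      (maximalIdeal A)
    rw [h, Ideal.comap_top, ← RingHom.ker_eq_comap_bot, Ideal.mk_ker, sup_eq_left.mpr hJ] at h1
    exact (maximalIdeal.isMaximal A).ne_top h1.symm
  · exact IsLocalRing.eq_maximalIdeal h

/-- A quotient of a complete Noetherian local ring is complete. -/
theorem isAdicComplete_quotient (A : Type u) [CommRing A] [IsLocalRing A] [IsNoetherianRing A]
    [IsAdicComplete (maximalIdeal A) A] (J : Ideal A) [IsLocalRing (A ⧸ J)] :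
    IsAdicComplete (maximalIdeal (A ⧸ J)) (A ⧸ J) := by
  rw [← map_mk_maximalIdeal A J]
  have h1 : IsAdicComplete (maximalIdeal A) (A ⧸ J) :=
    Groth.Agent.S16981.isAdicComplete_of_finite (maximalIdeal A) (A ⧸ J)
  exact (IsAdicComplete.map_algebraMap_iff (S := A ⧸ J) (maximalIdeal A) (A ⧸ J)).mpr h1

/-- A field is N-2. -/
theorem isN2_of_isField (A : Type u) [CommRing A] [IsDomain A] (hA : IsField A) :
    CAlg.IsN2 A := by
  intro L _ _ _ _ hfd
  letI := hA.toField
  have hsurj : Function.Surjective (algebraMap A (FractionRing A)) :=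
    (IsFractionRing.surjective_iff_isField (R := A) (K := FractionRing A)).mpr hA
  haveI : Module.Finite A (FractionRing A) :=
    Module.Finite.of_surjective (Algebra.linearMap A (FractionRing A)) hsurj
  haveI : Module.Finite A L := Module.Finite.trans (FractionRing A) L
  haveI : IsNoetherian A L := isNoetherian_of_isNoetherianRing_of_finite A L
  exact Module.Finite.of_injective (Subalgebra.val (integralClosure A L)).toLinearMap
    Subtype.val_injective

open Groth.Agent.Lib.helper15 in
theorem isN2_of_isRegularLocalRing_complete_aux (d : ℕ) : ∀ (A : Type u) [CommRing A] [IsDomain A]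
    [IsRegularLocalRing A] [IsAdicComplete (maximalIdeal A) A],
    (maximalIdeal A).spanFinrank = d → CAlg.IsN2 A := by
  induction d with
  | zero =>
    intro A _ _ _ _ hd
    have hfg : (maximalIdeal A).FG := IsNoetherian.noetherian _
    have hbot : maximalIdeal A = ⊥ := (Submodule.spanFinrank_eq_zero_iff_eq_bot hfg).mp hd
    exact isN2_of_isField A (IsLocalRing.isField_iff_maximalIdeal_eq.mpr hbot)
  | succ d ih =>
    intro A _ _ _ _ hd
    have hfg : (maximalIdeal A).FG := IsNoetherian.noetherian _
    have hex : ∃ x ∈ maximalIdeal A, x ∉ maximalIdeal A ^ 2 := by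
      by_contra hcon
      push_neg at hcon
      have hle : maximalIdeal A ≤ maximalIdeal A ^ 2 := hcon
      have hbot : maximalIdeal A = ⊥ := by
        apply Submodule.eq_bot_of_le_smul_of_le_jacobson_bot (maximalIdeal A) (maximalIdeal A) hfg
        · rw [smul_eq_mul, ← pow_two]; exact hle
        · exact IsLocalRing.maximalIdeal_le_jacobson _
      have h0 : (maximalIdeal A).spanFinrank = 0 :=
        (Submodule.spanFinrank_eq_zero_iff_eq_bot hfg).mpr hbot
      omega
    obtain ⟨x, hx, hx2⟩ := hex
    obtain ⟨hreg, hcard⟩ := isRegularLocalRing_quotient_singleton x hx hx2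
    haveI := hreg
    haveI hdom : IsDomain (A ⧸ Ideal.span {x}) := isDomain_of_isRegularLocalRing _
    haveI hprime : (Ideal.span {x}).IsPrime := (Ideal.Quotient.isDomain_iff_prime _).mp hdom
    haveI := isAdicComplete_quotient A (Ideal.span {x})
    have h2 : CAlg.IsN2 (A ⧸ Ideal.span {x}) := ih (A ⧸ Ideal.span {x}) (by omega)
    haveI : IsIntegrallyClosed A := Groth.Agent.Lib.helper26.RegNormal.isIntegrallyClosed A
    haveI : IsAdicComplete (Ideal.span {x}) A :=
      Groth.Agent.Lib.helper8.FF.isAdicComplete_of_le (maximalIdeal A) (Ideal.span {x})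
        ((Ideal.span_singleton_le_iff_mem _).mpr hx)
    exact Groth.Agent.S0569.result A x h2

/-- A complete regular local ring is N-2. -/
theorem isN2_of_isRegularLocalRing_complete (A : Type u) [CommRing A] [IsDomain A]
    [IsRegularLocalRing A] [IsAdicComplete (maximalIdeal A) A] : CAlg.IsN2 A :=
  isN2_of_isRegularLocalRing_complete_aux _ A rfl

end Groth.Agent.Lib.Helper24.N2Reg
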