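import Groth.Agent.Lib.Helper24.CohenCoeff

/-!
# Coefficient fields of equicharacteristic complete local rings (helper24)

`exists_coeff_field`: a complete Noetherian local ring `A` with `p·1 = 0`, `p` the
characteristic of the residue field (`p = 0` allowed), has a coefficient field: a ring section of
`A → κ(A)`.
-/

set_option autoImplicit false
universe u

namespace Groth.Agent.Lib.Helper24.CoeffField

open IsLocalRing Groth.Agent.Lib.Helper24.CohenCoeff

theorem exists_coeff_field (A : Type u) [CommRing A] [IsLocalRing A] [IsNoetherianRing A]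
    [IsAdicComplete (maximalIdeal A) A] (p : ℕ) [CharP (ResidueField A) p] (hp : (p : A) = 0) :
    ∃ s : ResidueField A →+* A, (residue A).comp s = RingHom.id _ := by
  classical
  obtain ⟨W, _, _, hW, hWN, hWc, v, e, hvloc, hve⟩ := exists_coeff_ring A
  rcases hW with ⟨hF, hC⟩ | hΛ
  · let E : W ≃+* ResidueField A :=
      (RingEquiv.ofBijective (residue W) (residue_bijective_of_isField W hF)).trans e
    refine ⟨v.comp (E.symm : ResidueField A →+* W), ?_⟩
    ext y
    show residue A (v (E.symm y)) = y
    rw [hve]
    exact E.apply_symm_apply y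
  · obtain ⟨hD, hDVR, hc, q, hq, hm⟩ := hΛ
    have h1 : (q : ResidueField W) = 0 := by
      rw [← map_natCast (residue W), IsLocalRing.residue_eq_zero_iff]
      have : (q : W) ∈ Ideal.span {(q : W)} := Ideal.mem_span_singleton_self _
      rw [← hm] at this
      exact this
    have h2 : (q : ResidueField A) = 0 := by
      have := congrArg e h1
      rwa [map_natCast, map_zero] at this
    have hqp : p = q := by
      have d : p ∣ q := (CharP.cast_eq_zero_iff (ResidueField A) p q).1 h2
      exact (Nat.Prime.eq_one_or_self_of_dvd hq p d).resolve_left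
        (CharP.char_ne_one (ResidueField A) p)
    subst hqp
    have hv0 : ∀ a ∈ maximalIdeal W, v a = 0 := by
      intro a ha
      rw [hm] at ha
      obtain ⟨b, rfl⟩ := Ideal.mem_span_singleton'.1 ha
      rw [map_mul, map_natCast, hp, mul_zero]
    let vbar : ResidueField W →+* A := Ideal.Quotient.lift (maximalIdeal W) v hv0
    refine ⟨vbar.comp (e.symm : ResidueField A →+* ResidueField W), ?_⟩
    ext y
    show residue A (vbar (e.symm y)) = y
    obtain ⟨a, ha⟩ := IsLocalRing.residue_surjective (e.symm y)
    rw [← ha]
    have h3 : vbar (residue W a) = v a := Ideal.Quotient.lift_mk _ _ _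
    rw [h3, hve, ha]
    exact e.apply_symm_apply y

end Groth.Agent.Lib.Helper24.CoeffField
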