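import Groth.Agent.LibCR29f
import Mathlib

/-!
# Upper bounds for the dimension of power series rings (helper24)
-/

set_option autoImplicit false
universe u

namespace Groth.Agent.Lib.Helper24.PSDim

open IsLocalRing

theorem ncard_range_X_le (W : Type u) [CommRing W] (n : ℕ) :
    (Set.range (MvPowerSeries.X : Fin n → MvPowerSeries (Fin n) W)).ncard ≤ n := by
  classical
  have e : Set.range (MvPowerSeries.X : Fin n → MvPowerSeries (Fin n) W) =
      ((Finset.univ.image (MvPowerSeries.X : Fin n → MvPowerSeries (Fin n) W) :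
        Finset (MvPowerSeries (Fin n) W)) : Set (MvPowerSeries (Fin n) W)) := by simp
  rw [e, Set.ncard_coe_finset]
  exact Finset.card_image_le.trans (by simp)

theorem ringKrullDim_mvPowerSeries_field_le (k : Type u) [Field k] (n : ℕ) :
    ringKrullDim (MvPowerSeries (Fin n) k) ≤ n := by
  refine le_trans (ringKrullDim_le_spanFinrank_maximalIdeal _) ?_
  have h1 : maximalIdeal (MvPowerSeries (Fin n) k) =
      Ideal.span (Set.range (MvPowerSeries.X : Fin n → MvPowerSeries (Fin n) k)) := by
    rw [Groth.Agent.LibCR29.maximalIdeal_ps, IsLocalRing.maximalIdeal_eq_bot, Ideal.map_bot,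
      bot_sup_eq]
  rw [h1]
  have h2 := Submodule.spanFinrank_span_le_ncard_of_finite
    (R := MvPowerSeries (Fin n) k) (Set.finite_range
      (MvPowerSeries.X : Fin n → MvPowerSeries (Fin n) k))
  exact_mod_cast h2.trans (ncard_range_X_le k n)

theorem ringKrullDim_mvPowerSeries_dvr_le (W : Type u) [CommRing W] [IsLocalRing W]
    [IsNoetherianRing W] (π : W) (hπ : maximalIdeal W = Ideal.span {π}) (n : ℕ) :
    ringKrullDim (MvPowerSeries (Fin n) W) ≤ (n + 1 : ℕ) := by
  classical
  refine le_trans (ringKrullDim_le_spanFinrank_maximalIdeal _) ?_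
  have h1 : maximalIdeal (MvPowerSeries (Fin n) W) =
      Ideal.span ({MvPowerSeries.C π} ∪
        Set.range (MvPowerSeries.X : Fin n → MvPowerSeries (Fin n) W)) := by
    rw [Groth.Agent.LibCR29.maximalIdeal_ps, hπ, Ideal.map_span, Set.image_singleton,
      Ideal.span_union]
  rw [h1]
  have hfin : ({MvPowerSeries.C π} ∪
      Set.range (MvPowerSeries.X : Fin n → MvPowerSeries (Fin n) W)).Finite :=
    (Set.finite_singleton _).union (Set.finite_range _)
  have h2 := Submodule.spanFinrank_span_le_ncard_of_finite
    (R := MvPowerSeries (Fin n) W) hfin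
  have h3 : ({MvPowerSeries.C π} ∪
      Set.range (MvPowerSeries.X : Fin n → MvPowerSeries (Fin n) W)).ncard ≤ n + 1 := by
    refine (Set.ncard_union_le _ _).trans ?_
    rw [Set.ncard_singleton, add_comm]
    have := ncard_range_X_le W n
    omega
  exact_mod_cast h2.trans h3

end Groth.Agent.Lib.Helper24.PSDim
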