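import Groth.Agent.LibCR29g
import Groth.Agent.Lib.Helper24.SopFinite

/-!
# Finite injective maps from power series rings along systems of parameters (helper24)

`ps_finite_injective`: `W`, `R` complete Noetherian local domains, `v : W → R` local with finite
residue field extension, `x₁..xₙ ∈ 𝔪_R` with `𝔪_W R + (x)` primary to `𝔪_R` and
`dim W⟦X₁..Xₙ⟧ ≤ dim R`.  Then `W⟦X⟧ → R`, `Xᵢ ↦ xᵢ` is local, finite and injective.
-/

set_option autoImplicit false
universe u

namespace Groth.Agent.Lib.Helper24.SopPS

open IsLocalRing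

theorem ps_finite_injective {W R : Type u} [CommRing W] [IsDomain W] [IsLocalRing W]
    [IsNoetherianRing W] [IsAdicComplete (maximalIdeal W) W] [CommRing R] [IsDomain R]
    [IsLocalRing R] [IsNoetherianRing R] [IsAdicComplete (maximalIdeal R) R] (v : W →+* R)
    [IsLocalHom v] (t : ℕ) (e : Fin t → R)
    (he : ∀ y : R, ∃ c : Fin t → W, y - ∑ j, v (c j) * e j ∈ maximalIdeal R)
    (n : ℕ) (x : Fin n → R) (hxm : ∀ i, x i ∈ maximalIdeal R) (N : ℕ)
    (hN : maximalIdeal R ^ N ≤ (maximalIdeal W).map v ⊔ Ideal.span (Set.range x))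
    (hdim : ringKrullDim (MvPowerSeries (Fin n) W) ≤ ringKrullDim R) :
    ∃ f : MvPowerSeries (Fin n) W →+* R, f.comp MvPowerSeries.C = v ∧
      (∀ i, f (MvPowerSeries.X i) = x i) ∧ IsLocalHom f ∧ f.Finite ∧ Function.Injective f := by
  classical
  letI algWR : Algebra W R := v.toAlgebra
  letI : Algebra W (ResidueField R) := ((residue R).comp v).toAlgebra
  let S : ArtFun.CRing W (ResidueField R) :=
    { carrier := R
      res := { (residue R) with commutes' := fun r => rfl }
      res_surjective := IsLocalRing.residue_surjective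
      isAdicComplete := inferInstance }
  obtain ⟨G, hG⟩ := Groth.Agent.LibCR29.exists_ps_algHom S n x hxm
  let f : MvPowerSeries (Fin n) W →+* R := G.toRingHom
  have hfC : f.comp MvPowerSeries.C = v := by
    ext a
    have h1 := G.commutes a
    rw [MvPowerSeries.algebraMap_apply, Algebra.algebraMap_self, RingHom.id_apply] at h1
    exact h1
  have hfC' : ∀ a, f (MvPowerSeries.C a) = v a := fun a => RingHom.congr_fun hfC a
  have hfX : ∀ i, f (MvPowerSeries.X i) = x i := hG
  have hspanX : ∀ g ∈ Ideal.span (Set.range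
      (MvPowerSeries.X : Fin n → MvPowerSeries (Fin n) W)), f g ∈ maximalIdeal R := by
    intro g hg
    have h1 : (Ideal.span (Set.range
        (MvPowerSeries.X : Fin n → MvPowerSeries (Fin n) W))).map f ≤ maximalIdeal R := by
      rw [Ideal.map_span, Ideal.span_le]
      rintro _ ⟨_, ⟨i, rfl⟩, rfl⟩
      rw [hfX]
      exact hxm i
    exact h1 (Ideal.mem_map_of_mem _ hg)
  have hloc : IsLocalHom f := by
    refine ⟨fun g hg => ?_⟩
    rw [MvPowerSeries.isUnit_iff_constantCoeff]
    have h1 : f g = v (MvPowerSeries.constantCoeff g) +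
        f (g - MvPowerSeries.C (MvPowerSeries.constantCoeff g)) := by
      rw [← hfC', ← map_add]
      congr 1
      ring
    have h2 := hspanX _ (Groth.Agent.LibCR29.sub_C_mem_span_X g)
    have h3 : IsUnit (v (MvPowerSeries.constantCoeff g)) := by
      by_contra hnu
      have h4 : v (MvPowerSeries.constantCoeff g) ∈ maximalIdeal R :=
        (IsLocalRing.mem_maximalIdeal _).2 hnu
      have h5 : f g ∈ maximalIdeal R := by rw [h1]; exact Ideal.add_mem _ h4 h2
      exact (IsLocalRing.mem_maximalIdeal _).1 h5 hg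
    exact isUnit_of_map_unit v _ h3
  have hmapf : (maximalIdeal (MvPowerSeries (Fin n) W)).map f =
      (maximalIdeal W).map v ⊔ Ideal.span (Set.range x) := by
    rw [Groth.Agent.LibCR29.maximalIdeal_ps, Ideal.map_sup, Ideal.map_map, hfC, Ideal.map_span]
    congr 2
    ext y
    constructor
    · rintro ⟨_, ⟨i, rfl⟩, rfl⟩
      exact ⟨i, (hfX i).symm⟩
    · rintro ⟨i, rfl⟩
      exact ⟨_, ⟨i, rfl⟩, hfX i⟩
  letI algPR : Algebra (MvPowerSeries (Fin n) W) R := f.toAlgebra
  haveI : IsLocalHom (algebraMap (MvPowerSeries (Fin n) W) R) := hloc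
  haveI hfinres : Module.Finite (ResidueField (MvPowerSeries (Fin n) W)) (ResidueField R) := by
    refine ⟨⟨Finset.univ.image (fun j => residue R (e j)), ?_⟩⟩
    rw [eq_top_iff]
    intro y _
    obtain ⟨y, rfl⟩ := IsLocalRing.residue_surjective y
    obtain ⟨c, hc⟩ := he y
    have h1 : residue R y = ∑ j, residue R (v (c j)) * residue R (e j) := by
      rw [← sub_eq_zero]
      have := (IsLocalRing.residue_eq_zero_iff _).2 hc
      rw [map_sub, map_sum] at this
      simpa [map_mul] using this
    rw [h1]
    refine Submodule.sum_mem _ fun j _ => ?_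
    have h2 : residue R (v (c j)) * residue R (e j) =
        (residue (MvPowerSeries (Fin n) W) (MvPowerSeries.C (c j))) • residue R (e j) := by
      rw [Algebra.smul_def, IsLocalRing.ResidueField.algebraMap_residue]
      congr 2
      exact (hfC' (c j)).symm
    rw [h2]
    refine Submodule.smul_mem _ _ (Submodule.subset_span ?_)
    rw [Finset.coe_image, Finset.coe_univ, Set.image_univ]
    exact ⟨j, rfl⟩
  haveI := Groth.Agent.LibCR29.isAdicComplete_mvPowerSeries n W
  have hN' : maximalIdeal R ^ N ≤
      (maximalIdeal (MvPowerSeries (Fin n) W)).map (algebraMap (MvPowerSeries (Fin n) W) R) := by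
    have : algebraMap (MvPowerSeries (Fin n) W) R = f := rfl
    rw [this, hmapf]
    exact hN
  have hfin : Module.Finite (MvPowerSeries (Fin n) W) R :=
    Groth.Agent.Lib.Helper24.SopFinite.finite_of_primary N hN'
  have hfin' : f.Finite := hfin
  haveI : IsDomain (MvPowerSeries (Fin n) W) := NoZeroDivisors.to_isDomain _
  refine ⟨f, hfC, hfX, hloc, hfin', ?_⟩
  exact Groth.Agent.Lib.Helper24.SopFinite.injective_of_isIntegral_of_dim_le f
    hfin'.to_isIntegral hdim

end Groth.Agent.Lib.Helper24.SopPS
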