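import Mathlib

/-!
# Geometric reducedness via finite extensions (helper24)
-/

set_option autoImplicit false
universe u
open TensorProduct

namespace Groth.Agent.Lib.Helper24.GeomReducedFinite

/-- An algebra over a field is geometrically reduced as soon as all its base changes to finite
field extensions (in the same universe) are reduced. -/
theorem isGeometricallyReduced_of_forall_finite (k F : Type u) [Field k] [CommRing F]
    [Algebra k F]
    (h : ∀ (K : Type u) [Field K] [Algebra k K], Module.Finite k K → IsReduced (K ⊗[k] F)) :
    Algebra.IsGeometricallyReduced k F := by
  rw [Algebra.isGeometricallyReduced_field_iff]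
  have h1 : IsReduced (F ⊗[k] AlgebraicClosure k) := by
    apply IsReduced.tensorProduct_of_flat_of_forall_fg
    intro K' hK'
    have hfield : IsField K' := Subalgebra.isField_of_algebraic K'
    letI : Field K' := hfield.toField
    haveI : Algebra.FiniteType k K' := (Subalgebra.fg_iff_finiteType K').mp hK'
    haveI : Algebra.IsAlgebraic k K' :=
      Algebra.IsAlgebraic.of_injective K'.val Subtype.val_injective
    haveI : Algebra.IsIntegral k K' := Algebra.IsAlgebraic.isIntegral
    haveI hfin : Module.Finite k K' := Algebra.IsIntegral.finite
    haveI := h K' hfin
    exact isReduced_of_injective (Algebra.TensorProduct.comm k F K').toRingEquiv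
      (Algebra.TensorProduct.comm k F K').injective
  exact isReduced_of_injective (Algebra.TensorProduct.comm k (AlgebraicClosure k) F).toRingEquiv
    (Algebra.TensorProduct.comm k (AlgebraicClosure k) F).injective

end Groth.Agent.Lib.Helper24.GeomReducedFinite
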