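import Groth.Agent.Lib.Helper24.GeomLim3
import Groth.Agent.Lib.Helper17.FieldLift

/-!
# Separable base field extensions preserve normality / regularity (EGA IV 6.14.2 type) (helper24)

* `isNormal_tensor_of_intermediate`, `isRegularRing_tensor_of_intermediate`: limit lemmas over the
  finitely generated intermediate fields of `K/k`.
* `of_smooth_field`: `P A → P (E ⊗[k] A)` for `E/k` essentially of finite type and formally smooth.
* `isNormal_tensor_of_separable`: `A` normal, `k'/k` separable (geometrically reduced) ⇒ `k' ⊗[k] A`
  normal (no finiteness assumptions).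
* `isRegularRing_tensor_of_separable`: same for regular, if `k' ⊗[k] A` is Noetherian.
* `normal_descent_local`: local flat descent of "integrally closed domain".
-/

set_option autoImplicit false
universe u

open TensorProduct

namespace Groth.Agent.Lib.Helper24.GeomSep

open Groth.Agent.Lib.Helper24.GeomFG Groth.Agent.Lib.Helper24.GeomLim

section

variable (k K T : Type u) [Field k] [Field K] [Algebra k K] [CommRing T] [Algebra k T]

theorem isNormal_tensor_of_intermediate
    (h : ∀ (E : IntermediateField k K), E.FG → EGA4.IsNormalRing (E ⊗[k] T))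
    (q : Ideal (K ⊗[k] T)) [q.IsPrime] :
    IsDomain (Localization.AtPrime q) ∧ IsIntegrallyClosed (Localization.AtPrime q) := by
  refine isNormal_of_directed (K ⊗[k] T) ?_ q
  intro F
  obtain ⟨C, hC⟩ := exists_fg_range k K T F
  refine ⟨(IntermediateField.adjoin k (C : Set K)) ⊗[k] T, inferInstance,
    (Algebra.TensorProduct.map (IsScalarTower.toAlgHom k
      (IntermediateField.adjoin k (C : Set K)) K) (AlgHom.id k T)).toRingHom, ?_, cmp_flat k K T _, hC⟩
  exact fun p hp => h _ (IntermediateField.fg_adjoin_finset C) p

theorem isRegularRing_tensor_of_intermediate [IsNoetherianRing (K ⊗[k] T)]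
    (h : ∀ (E : IntermediateField k K), E.FG → IsRegularRing (E ⊗[k] T)) :
    IsRegularRing (K ⊗[k] T) := by
  refine isRegularRing_of_directed (K ⊗[k] T) ?_
  intro F
  obtain ⟨C, hC⟩ := exists_fg_range k K T F
  refine ⟨(IntermediateField.adjoin k (C : Set K)) ⊗[k] T, inferInstance,
    (Algebra.TensorProduct.map (IsScalarTower.toAlgHom k
      (IntermediateField.adjoin k (C : Set K)) K) (AlgHom.id k T)).toRingHom, ?_, cmp_flat k K T _, hC⟩
  exact h _ (IntermediateField.fg_adjoin_finset C)

end

/-- Ascent of a smooth-local property along an essentially finite type, formally smooth field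
extension. -/
theorem of_smooth_field {P : ∀ (R : Type u) [CommRing R], Prop} (hP : GeomStable P)
    (k E A : Type u) [Field k] [Field E] [Algebra k E] [Algebra.EssFiniteType k E]
    [Algebra.FormallySmooth k E] [CommRing A] [Algebra k A] (hA : P A) : P (E ⊗[k] A) := by
  obtain ⟨B₀, _, _, _, _, M, hB₀, hloc⟩ := exists_smooth_localization k E
  have h2 : P (A ⊗[k] B₀) := hP.smooth A _ hA
  have h3 : P (A ⊗[k] E) := tensor_loc' hP k B₀ E A M h2
  exact hP.iso _ _ (Algebra.TensorProduct.comm k A E).toRingEquiv h3

section

variable (k k' A : Type u) [Field k] [Field k'] [Algebra k k'] [CommRing A] [Algebra k A]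
  [Algebra.IsGeometricallyReduced k k']

theorem of_intermediate_separable {P : ∀ (R : Type u) [CommRing R], Prop} (hP : GeomStable P)
    (hA : P A) (E : IntermediateField k k') (hE : E.FG) : P (E ⊗[k] A) := by
  haveI : Algebra.IsGeometricallyReduced k E :=
    Algebra.IsGeometricallyReduced.of_injective E.val E.val.injective
  haveI : Algebra.FormallySmooth k E :=
    Groth.Agent.Lib.helper17.FieldLift.formallySmooth_of_isGeometricallyReduced
  haveI : Algebra.EssFiniteType k E := IntermediateField.essFiniteType_iff.mpr hE
  exact of_smooth_field hP k E A hA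

theorem isNormal_tensor_of_separable
    (hA : ∀ (p : Ideal A) [p.IsPrime],
      IsDomain (Localization.AtPrime p) ∧ IsIntegrallyClosed (Localization.AtPrime p))
    (q : Ideal (k' ⊗[k] A)) [q.IsPrime] :
    IsDomain (Localization.AtPrime q) ∧ IsIntegrallyClosed (Localization.AtPrime q) :=
  isNormal_tensor_of_intermediate k k' A
    (fun E hE => of_intermediate_separable k k' A geomStable_isNormal hA E hE) q

theorem isRegularRing_tensor_of_separable [IsRegularRing A] [IsNoetherianRing (k' ⊗[k] A)] :
    IsRegularRing (k' ⊗[k] A) :=
  isRegularRing_tensor_of_intermediate k k' A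
    (fun E hE => of_intermediate_separable k k' A geomStable_isRegularRing inferInstance E hE)

end

/-- Local flat descent of "integrally closed domain". -/
theorem normal_descent_local (A B : Type u) [CommRing A] [CommRing B] [Algebra A B]
    [Module.Flat A B] (q : Ideal B) [q.IsPrime]
    (h : IsDomain (Localization.AtPrime q) ∧ IsIntegrallyClosed (Localization.AtPrime q)) :
    IsDomain (Localization.AtPrime (q.comap (algebraMap A B))) ∧
      IsIntegrallyClosed (Localization.AtPrime (q.comap (algebraMap A B))) := by
  obtain ⟨hd, hic⟩ := h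
  have hflat : (Localization.localRingHom (q.comap (algebraMap A B)) q (algebraMap A B) rfl).Flat :=
    RingHom.Flat.localRingHom (RingHom.flat_algebraMap_iff.2 inferInstance) q _ rfl
  algebraize [Localization.localRingHom (q.comap (algebraMap A B)) q (algebraMap A B) rfl]
  haveI : IsLocalHom (algebraMap (Localization.AtPrime (q.comap (algebraMap A B)))
      (Localization.AtPrime q)) :=
    Localization.isLocalHom_localRingHom _ q (algebraMap A B) rfl
  haveI : Module.FaithfullyFlat (Localization.AtPrime (q.comap (algebraMap A B)))
      (Localization.AtPrime q) :=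
    Module.FaithfullyFlat.of_flat_of_isLocalHom
  have hinj : Function.Injective (algebraMap (Localization.AtPrime (q.comap (algebraMap A B)))
      (Localization.AtPrime q)) :=
    FaithfulSMul.algebraMap_injective _ _
  haveI hdp : IsDomain (Localization.AtPrime (q.comap (algebraMap A B))) := hinj.isDomain _
  refine ⟨hdp, ?_⟩
  apply Groth.Agent.Lib.Helper24.EtaleNormal.isIntegrallyClosed_of_nf
  exact Groth.Agent.Lib.Helper24.EtaleNormal.nf_of_faithfullyFlat _ (Localization.AtPrime q)
    (Groth.Agent.Lib.Helper24.EtaleNormal.nf_of_isIntegrallyClosed _)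

/-- A local ring which is a normal ring is an integrally closed domain. -/
theorem normal_of_local (T : Type u) [CommRing T] [IsLocalRing T]
    (h : ∀ (p : Ideal T) [p.IsPrime],
      IsDomain (Localization.AtPrime p) ∧ IsIntegrallyClosed (Localization.AtPrime p)) :
    IsDomain T ∧ IsIntegrallyClosed T := by
  obtain ⟨hd, hic⟩ := h (IsLocalRing.maximalIdeal T)
  have hu : ∀ x ∈ (IsLocalRing.maximalIdeal T).primeCompl, IsUnit x := by
    intro x hx
    by_contra hx'
    exact hx ((IsLocalRing.mem_maximalIdeal x).2 hx')
  let e : T ≃ₐ[T] Localization.AtPrime (IsLocalRing.maximalIdeal T) :=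
    IsLocalization.atUnits T _ hu
  haveI : IsDomain T := e.injective.isDomain e.toRingEquiv.toRingHom
  exact ⟨inferInstance, IsIntegrallyClosed.of_equiv e.symm.toRingEquiv⟩

end Groth.Agent.Lib.Helper24.GeomSep
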