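import Mathlib
import Groth.Agent.Lib.Helper24.CplIso
import Groth.Agent.Lib.Helper24.CplLift
import Groth.Agent.Lib.Helper18.AdicUnit

/-!
# Completions for cofinal ideals; finiteness of completion maps (helper24)

* `complMap_id_bijective`: `I ≤ J`, `J^(t+1) ≤ I` ⇒ `Ŝ_I → Ŝ_J` bijective.
* `closedFibreEquiv`: `S/𝔪S ≃ 𝔪.Fiber S` for local `R`.
* `exists_pow_le`: `κ ⊗ S` finite ⇒ `𝔫^(t+1) ≤ 𝔪S`.
* `complMap_finite`: `R̂ → Ŝ` finite.
-/

set_option autoImplicit false
universe u
open IsLocalRing TensorProduct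

namespace Groth.Agent.Lib.Helper24.CplCofinal

section cofinal

variable {S : Type u} [CommRing S] (I J : Ideal S)

theorem complMap_id_bijective (h' : I.map (RingHom.id S) ≤ J) (t : ℕ) (ht : J ^ (t + 1) ≤ I) :
    Function.Bijective (FSch.complMap I J (RingHom.id S) h') := by
  have hIJ : I ≤ J := by rwa [Ideal.map_id] at h'
  have hpow : ∀ n, J ^ ((t + 1) * n) ≤ I ^ n := fun n => by
    rw [pow_mul]; exact Ideal.pow_right_mono ht n
  have hle : ∀ n, n ≤ (t + 1) * n := fun n => Nat.le_mul_of_pos_left n (Nat.succ_pos t)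
  constructor
  · rw [injective_iff_map_eq_zero]
    intro x hx
    obtain ⟨c, rfl⟩ := AdicCompletion.mk_surjective I S x
    apply AdicCompletion.ext_evalₐ
    intro n
    rw [map_zero, AdicCompletion.evalₐ_mk, Ideal.Quotient.eq_zero_iff_mem]
    have h1 := H18U.evalₐ_complMap I J (RingHom.id S) h' ((t + 1) * n) (AdicCompletion.mk I S c)
    rw [hx, map_zero, AdicCompletion.evalₐ_mk, Ideal.quotientMap_mk] at h1
    have h2 : c ((t + 1) * n) ∈ J ^ ((t + 1) * n) :=
      Ideal.Quotient.eq_zero_iff_mem.1 h1.symm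
    have h3 : c ((t + 1) * n) ∈ I ^ n := hpow n h2
    have h4 := c.2 (hle n)
    rw [SModEq.sub_mem, smul_eq_mul, Ideal.mul_top] at h4
    have : c n = (c n - c ((t + 1) * n)) + c ((t + 1) * n) := by ring
    rw [this]
    exact Ideal.add_mem _ h4 h3
  · intro y
    obtain ⟨c, rfl⟩ := AdicCompletion.mk_surjective J S y
    have hc : AdicCompletion.IsAdicCauchy I S (fun n => c ((t + 1) * n)) := by
      intro m n hmn
      rw [SModEq.sub_mem, smul_eq_mul, Ideal.mul_top]
      have h1 := c.2 (Nat.mul_le_mul_left (t + 1) hmn)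
      rw [SModEq.sub_mem, smul_eq_mul, Ideal.mul_top] at h1
      exact hpow m h1
    let cr : AdicCompletion.AdicCauchySequence I S := ⟨fun n => c ((t + 1) * n), hc⟩
    refine ⟨AdicCompletion.mk I S cr, ?_⟩
    apply AdicCompletion.ext_evalₐ
    intro n
    rw [H18U.evalₐ_complMap, AdicCompletion.evalₐ_mk I n cr, AdicCompletion.evalₐ_mk J n c,
      Ideal.quotientMap_mk]
    symm
    rw [Ideal.Quotient.eq]
    have h1 := c.2 (hle n)
    rw [SModEq.sub_mem, smul_eq_mul, Ideal.mul_top] at h1
    exact h1

end cofinal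

section fibre

variable (R S : Type u) [CommRing R] [CommRing S] [IsLocalRing R] [Algebra R S]

/-- `R/𝔪 ≃ κ(𝔪)`. -/
noncomputable def resEquiv : (R ⧸ maximalIdeal R) ≃ₐ[R] (maximalIdeal R).ResidueField :=
  AlgEquiv.ofBijective (IsScalarTower.toAlgHom R (R ⧸ maximalIdeal R) (maximalIdeal R).ResidueField)
    (Ideal.bijective_algebraMap_quotient_residueField (maximalIdeal R))

/-- `R/𝔪 → S/𝔪S`. -/
noncomputable def quotMap : (R ⧸ maximalIdeal R) →ₐ[R] S ⧸ (maximalIdeal R).map (algebraMap R S) :=
  Ideal.quotientMapₐ ((maximalIdeal R).map (algebraMap R S)) (Algebra.ofId R S)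
    (Ideal.map_le_iff_le_comap.1 le_rfl)

theorem quotMap_mk (r : R) : quotMap R S (Ideal.Quotient.mk _ r) =
    Ideal.Quotient.mk _ (algebraMap R S r) := rfl

/-- `κ(𝔪) ⊗ S → S/𝔪S`. -/
noncomputable def fibreToQuot :
    (maximalIdeal R).Fiber S →ₐ[R] S ⧸ (maximalIdeal R).map (algebraMap R S) :=
  Algebra.TensorProduct.lift ((quotMap R S).comp (resEquiv R).symm.toAlgHom)
    (Ideal.Quotient.mkₐ R _) (fun _ _ => Commute.all _ _)

theorem fibreToQuot_one_tmul (s : S) :
    fibreToQuot R S ((1 : (maximalIdeal R).ResidueField) ⊗ₜ[R] s) = Ideal.Quotient.mk _ s := by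
  unfold fibreToQuot
  rw [Algebra.TensorProduct.lift_tmul, map_one, one_mul]
  rfl

theorem fibreToQuot_surjective : Function.Surjective (fibreToQuot R S) := by
  intro y
  obtain ⟨s, rfl⟩ := Ideal.Quotient.mk_surjective y
  exact ⟨1 ⊗ₜ s, fibreToQuot_one_tmul R S s⟩

/-- `S → κ(𝔪) ⊗ S`. -/
noncomputable def fibreMap : S →+* (maximalIdeal R).Fiber S :=
  (Algebra.TensorProduct.includeRight :
    S →ₐ[R] (maximalIdeal R).ResidueField ⊗[R] S).toRingHom

theorem fibreMap_apply (s : S) :
    fibreMap R S s = (1 : (maximalIdeal R).ResidueField) ⊗ₜ[R] s := rfl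

theorem fibreMap_surjective : Function.Surjective (fibreMap R S) := by
  intro y
  induction y using TensorProduct.induction_on with
  | zero => exact ⟨0, map_zero _⟩
  | tmul a s =>
    obtain ⟨r, rfl⟩ := Ideal.algebraMap_residueField_surjective (maximalIdeal R) a
    refine ⟨r • s, ?_⟩
    rw [fibreMap_apply, TensorProduct.tmul_smul, TensorProduct.smul_tmul', Algebra.smul_def,
      mul_one]
  | add x y hx hy =>
    obtain ⟨a, rfl⟩ := hx
    obtain ⟨b, rfl⟩ := hy
    exact ⟨a + b, map_add _ _ _⟩

theorem ker_fibreMap :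
    RingHom.ker (fibreMap R S) = (maximalIdeal R).map (algebraMap R S) := by
  apply le_antisymm
  · intro s hs
    have h1 : fibreToQuot R S (fibreMap R S s) = 0 := by
      rw [(RingHom.mem_ker).1 hs, map_zero]
    rw [fibreMap_apply, fibreToQuot_one_tmul] at h1
    exact Ideal.Quotient.eq_zero_iff_mem.1 h1
  · rw [Ideal.map_le_iff_le_comap]
    intro r hr
    rw [Ideal.mem_comap, RingHom.mem_ker, fibreMap_apply, Algebra.algebraMap_eq_smul_one,
      TensorProduct.tmul_smul, TensorProduct.smul_tmul', Algebra.smul_def, mul_one]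
    have : algebraMap R (maximalIdeal R).ResidueField r = 0 :=
      (Ideal.algebraMap_residueField_eq_zero).2 hr
    rw [this, TensorProduct.zero_tmul]

variable [IsLocalRing S] [IsLocalHom (algebraMap R S)]

theorem exists_pow_le
    (hfib : Module.Finite (maximalIdeal R).ResidueField ((maximalIdeal R).Fiber S)) :
    ∃ t : ℕ, maximalIdeal S ^ (t + 1) ≤ (maximalIdeal R).map (algebraMap R S) := by
  haveI : IsArtinianRing ((maximalIdeal R).Fiber S) :=
    IsArtinianRing.of_finite (maximalIdeal R).ResidueField _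
  by_cases htop : RingHom.ker (fibreMap R S) = ⊤
  · refine ⟨0, ?_⟩
    rw [← ker_fibreMap, htop]
    exact le_top
  · obtain ⟨k, hk⟩ := IsArtinianRing.isNilpotent_jacobson_bot (R := (maximalIdeal R).Fiber S)
    have hj : (maximalIdeal S).map (fibreMap R S) = Ideal.jacobson ⊥ := by
      have h1 := Ideal.map_jacobson_of_surjective (fibreMap_surjective R S)
        (le_refl (RingHom.ker (fibreMap R S)))
      rw [IsLocalRing.jacobson_eq_maximalIdeal _ htop, (Ideal.map_eq_bot_iff_le_ker _).2 le_rfl] at h1
      exact h1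
    refine ⟨k, ?_⟩
    rw [← ker_fibreMap]
    refine (Ideal.pow_le_pow_right (Nat.le_succ k)).trans ?_
    rw [← Ideal.map_eq_bot_iff_le_ker, Ideal.map_pow, hj]
    exact hk

omit [IsLocalRing S] [IsLocalHom (algebraMap R S)] in
theorem finite_quotMap
    (hfib : Module.Finite (maximalIdeal R).ResidueField ((maximalIdeal R).Fiber S)) :
    (quotMap R S).toRingHom.Finite := by
  haveI : Module.Finite R ((maximalIdeal R).Fiber S) :=
    Module.Finite.trans (maximalIdeal R).ResidueField _
  haveI : Module.Finite R (S ⧸ (maximalIdeal R).map (algebraMap R S)) :=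
    Module.Finite.of_surjective (fibreToQuot R S).toLinearMap (fibreToQuot_surjective R S)
  letI : Algebra (R ⧸ maximalIdeal R) (S ⧸ (maximalIdeal R).map (algebraMap R S)) :=
    (quotMap R S).toRingHom.toAlgebra
  haveI : IsScalarTower R (R ⧸ maximalIdeal R) (S ⧸ (maximalIdeal R).map (algebraMap R S)) :=
    IsScalarTower.of_algebraMap_eq fun r => rfl
  show Module.Finite (R ⧸ maximalIdeal R) (S ⧸ (maximalIdeal R).map (algebraMap R S))
  exact Module.Finite.of_restrictScalars_finite R _ _

end fibre

section main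

variable (R S : Type u) [CommRing R] [CommRing S] [IsLocalRing R] [IsLocalRing S] [Algebra R S]
  [IsLocalHom (algebraMap R S)]

theorem complMap_fst_finite (hm : (maximalIdeal R).FG)
    (hfib : Module.Finite (maximalIdeal R).ResidueField ((maximalIdeal R).Fiber S)) :
    (FSch.complMap (maximalIdeal R) ((maximalIdeal R).map (algebraMap R S)) (algebraMap R S)
      le_rfl).Finite := by
  let φ : AdicCompletion (maximalIdeal R) R →ₐ[R]
      AdicCompletion ((maximalIdeal R).map (algebraMap R S)) S :=
    { FSch.complMap (maximalIdeal R) ((maximalIdeal R).map (algebraMap R S)) (algebraMap R S)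
        le_rfl with
      commutes' := fun r => by
        show FSch.complMap (maximalIdeal R) ((maximalIdeal R).map (algebraMap R S))
          (algebraMap R S) le_rfl (AdicCompletion.of _ R r) = _
        rw [Groth.Agent.Lib.Helper24.CplFlat.complMap_of]
        rfl }
  have hIA : maximalIdeal R = (maximalIdeal R).map (algebraMap R R) := by
    rw [Algebra.algebraMap_self, Ideal.map_id]
  have h := Groth.Agent.Lib.Helper24.CplLift.finite_of_compat' (V := R) (A := R) (C := S)
    (maximalIdeal R) (maximalIdeal R) ((maximalIdeal R).map (algebraMap R S)) hIA rfl hm φ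
    (quotMap R S) ?_ (finite_quotMap R S hfib)
  · exact h
  · intro x
    show AdicCompletion.evalOneₐ _ (FSch.complMap (maximalIdeal R)
      ((maximalIdeal R).map (algebraMap R S)) (algebraMap R S) le_rfl x) = _
    rw [← AdicCompletion.factorₐ_evalₐ_one, ← AdicCompletion.factorₐ_evalₐ_one,
      H18U.evalₐ_complMap]
    obtain ⟨r, hr⟩ := Ideal.Quotient.mk_surjective (AdicCompletion.evalₐ (maximalIdeal R) 1 x)
    rw [← hr, Ideal.quotientMap_mk]
    rfl

theorem complMap_finite (hm : (maximalIdeal R).FG)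
    (hfib : Module.Finite (maximalIdeal R).ResidueField ((maximalIdeal R).Fiber S))
    (h : (maximalIdeal R).map (algebraMap R S) ≤ maximalIdeal S)
    (h' : ((maximalIdeal R).map (algebraMap R S)).map (RingHom.id S) ≤ maximalIdeal S) :
    Function.Bijective (FSch.complMap ((maximalIdeal R).map (algebraMap R S))
        (maximalIdeal S) (RingHom.id S) h') ∧
      (FSch.complMap (maximalIdeal R) (maximalIdeal S) (algebraMap R S) h).Finite := by
  obtain ⟨t, ht⟩ := exists_pow_le R S hfib
  have hbij := complMap_id_bijective ((maximalIdeal R).map (algebraMap R S)) (maximalIdeal S) h' t ht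
  refine ⟨hbij, ?_⟩
  have hcomp : FSch.complMap (maximalIdeal R) (maximalIdeal S) (algebraMap R S) h =
      (FSch.complMap ((maximalIdeal R).map (algebraMap R S)) (maximalIdeal S) (RingHom.id S) h').comp
        (FSch.complMap (maximalIdeal R) ((maximalIdeal R).map (algebraMap R S)) (algebraMap R S)
          le_rfl) := by
    refine RingHom.ext fun x => ?_
    rw [RingHom.comp_apply]
    exact (H18U.complMap_comp (maximalIdeal R) ((maximalIdeal R).map (algebraMap R S))
      (maximalIdeal S) (algebraMap R S) (RingHom.id S) le_rfl h' h x).symm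
  rw [hcomp]
  exact RingHom.Finite.comp (RingHom.Finite.of_surjective _ hbij.2)
    (complMap_fst_finite R S hm hfib)

end main

end Groth.Agent.Lib.Helper24.CplCofinal
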