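import Mathlib
import Groth.Agent.Lib.Helper24.FlatDepth5
import Groth.Agent.Lib.Helper24.FlatQuot

/-!
# Flat depth formula, part 6 (helper24): transitivity of fibre local rings

`A → B → C` with `B → C` flat, primes `p ⊂ A`, `q ⊂ B`, `r ⊂ C` over each other.  Then
`B_q/pB_q → C_r/pC_r` is flat local with closed fibre `C_r/qC_r`, so depth and dimension of the
fibre local rings are additive.
-/

set_option autoImplicit false
universe u
open TensorProduct IsLocalRing LocCoh
open Groth.Agent.Lib.helper26.Depth
open Groth.Agent.Lib.Helper24.HensDepth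

namespace Groth.Agent.Lib.Helper24.FlatDepth

section Arith

variable {X Y Z : Type u} [CommRing X] [CommRing Y] [CommRing Z] [IsLocalRing X] [IsLocalRing Y]
  [IsLocalRing Z] [IsNoetherianRing X] [IsNoetherianRing Y] [IsNoetherianRing Z]

/-- Cohen–Macaulayness when depth and dimension are additive. -/
theorem cm_iff_of_add (hdepth : depth X X = depth Y Y + depth Z Z)
    (hdim : ringKrullDim X = ringKrullDim Y + ringKrullDim Z) :
    IsCohenMacaulayLocalRing X ↔ IsCohenMacaulayLocalRing Y ∧ IsCohenMacaulayLocalRing Z := by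
  obtain ⟨dR, hdR⟩ := Groth.Agent.Lib.Helper24.CatEquidim.exists_nat_eq_ringKrullDim Y
  obtain ⟨dF, hdF⟩ := Groth.Agent.Lib.Helper24.CatEquidim.exists_nat_eq_ringKrullDim Z
  obtain ⟨dS, hdS⟩ := Groth.Agent.Lib.Helper24.CatEquidim.exists_nat_eq_ringKrullDim X
  obtain ⟨eR, heR⟩ := ENat.ne_top_iff_exists.mp (depth_ne_top (A := Y) Y)
  obtain ⟨eF, heF⟩ := ENat.ne_top_iff_exists.mp (depth_ne_top (A := Z) Z)
  obtain ⟨eS, heS⟩ := ENat.ne_top_iff_exists.mp (depth_ne_top (A := X) X)
  have lR := depth_self_le_ringKrullDim Y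
  have lF := depth_self_le_ringKrullDim Z
  have lS := depth_self_le_ringKrullDim X
  rw [hdR, ← heR] at lR
  rw [hdF, ← heF] at lF
  rw [hdS, ← heS] at lS
  rw [hdR, hdF, hdS] at hdim
  rw [← heR, ← heF, ← heS] at hdepth
  have g1 : eR ≤ dR := by exact_mod_cast lR
  have g2 : eF ≤ dF := by exact_mod_cast lF
  have g3 : eS ≤ dS := by exact_mod_cast lS
  have g4 : dS = dR + dF := by exact_mod_cast hdim
  have g5 : eS = eR + eF := by exact_mod_cast hdepth
  have cmS : IsCohenMacaulayLocalRing X ↔ dS = eS := by
    constructor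
    · intro h
      have := h.supportDim_eq_depth
      rw [Module.supportDim_self_eq_ringKrullDim, hdS, ← heS] at this
      exact_mod_cast this
    · intro h
      refine { supportDim_eq_depth := ?_ }
      rw [Module.supportDim_self_eq_ringKrullDim, hdS, ← heS, h]
  have cmR : IsCohenMacaulayLocalRing Y ↔ dR = eR := by
    constructor
    · intro h
      have := h.supportDim_eq_depth
      rw [Module.supportDim_self_eq_ringKrullDim, hdR, ← heR] at this
      exact_mod_cast this
    · intro h
      refine { supportDim_eq_depth := ?_ }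
      rw [Module.supportDim_self_eq_ringKrullDim, hdR, ← heR, h]
  have cmF : IsCohenMacaulayLocalRing Z ↔ dF = eF := by
    constructor
    · intro h
      have := h.supportDim_eq_depth
      rw [Module.supportDim_self_eq_ringKrullDim, hdF, ← heF] at this
      exact_mod_cast this
    · intro h
      refine { supportDim_eq_depth := ?_ }
      rw [Module.supportDim_self_eq_ringKrullDim, hdF, ← heF, h]
  rw [cmS, cmR, cmF]
  omega

/-- `(S_k)`-type inequality when depth and dimension are additive. -/
theorem sk_of_add (k : ℕ) (hdepth : depth X X = depth Y Y + depth Z Z)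
    (hdim : ringKrullDim X = ringKrullDim Y + ringKrullDim Z)
    (hY : min (k : WithBot ℕ∞) (ringKrullDim Y) ≤ ((depth Y Y : ℕ∞) : WithBot ℕ∞))
    (hZ : min (k : WithBot ℕ∞) (ringKrullDim Z) ≤ ((depth Z Z : ℕ∞) : WithBot ℕ∞)) :
    min (k : WithBot ℕ∞) (ringKrullDim X) ≤ ((depth X X : ℕ∞) : WithBot ℕ∞) := by
  obtain ⟨dR, hdR⟩ := Groth.Agent.Lib.Helper24.CatEquidim.exists_nat_eq_ringKrullDim Y
  obtain ⟨dF, hdF⟩ := Groth.Agent.Lib.Helper24.CatEquidim.exists_nat_eq_ringKrullDim Z
  obtain ⟨dS, hdS⟩ := Groth.Agent.Lib.Helper24.CatEquidim.exists_nat_eq_ringKrullDim X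
  obtain ⟨eR, heR⟩ := ENat.ne_top_iff_exists.mp (depth_ne_top (A := Y) Y)
  obtain ⟨eF, heF⟩ := ENat.ne_top_iff_exists.mp (depth_ne_top (A := Z) Z)
  obtain ⟨eS, heS⟩ := ENat.ne_top_iff_exists.mp (depth_ne_top (A := X) X)
  rw [hdR, ← heR] at hY
  rw [hdF, ← heF] at hZ
  rw [hdS, ← heS]
  rw [hdR, hdF, hdS] at hdim
  rw [← heR, ← heF, ← heS] at hdepth
  have g1 : min k dR ≤ eR := by
    rcases min_le_iff.mp hY with h | h
    · exact min_le_iff.mpr (Or.inl (by exact_mod_cast h))
    · exact min_le_iff.mpr (Or.inr (by exact_mod_cast h))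
  have g2 : min k dF ≤ eF := by
    rcases min_le_iff.mp hZ with h | h
    · exact min_le_iff.mpr (Or.inl (by exact_mod_cast h))
    · exact min_le_iff.mpr (Or.inr (by exact_mod_cast h))
  have g4 : dS = dR + dF := by exact_mod_cast hdim
  have g5 : eS = eR + eF := by exact_mod_cast hdepth
  have : min k dS ≤ eS := by omega
  rcases min_le_iff.mp this with h | h
  · exact min_le_iff.mpr (Or.inl (by exact_mod_cast h))
  · exact min_le_iff.mpr (Or.inr (by exact_mod_cast h))

end Arith

section Quot

variable (R S : Type u) [CommRing R] [CommRing S] [Algebra R S] [IsLocalRing R] [IsLocalRing S]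
  [IsNoetherianRing R] [IsNoetherianRing S] [IsLocalHom (algebraMap R S)] [Module.Flat R S]
  (I : Ideal R) [IsLocalRing (R ⧸ I)] [IsLocalRing (S ⧸ I.map (algebraMap R S))]
  [IsLocalRing (S ⧸ (maximalIdeal R).map (algebraMap R S))]

/-- Depth and dimension are additive along `R/I → S/IS`, with the closed fibre of `R → S`. -/
theorem quotient_depth_dim :
    depth (S ⧸ I.map (algebraMap R S)) (S ⧸ I.map (algebraMap R S)) =
        depth (R ⧸ I) (R ⧸ I) + depth (S ⧸ (maximalIdeal R).map (algebraMap R S))
          (S ⧸ (maximalIdeal R).map (algebraMap R S)) ∧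
      ringKrullDim (S ⧸ I.map (algebraMap R S)) =
        ringKrullDim (R ⧸ I) + ringKrullDim (S ⧸ (maximalIdeal R).map (algebraMap R S)) := by
  have hI : I ≠ ⊤ := Ideal.Quotient.nontrivial_iff.mp inferInstance
  haveI hflat' := Groth.Agent.Lib.Helper24.FlatQuot.flat_quotient R S I
  haveI hloc' := Groth.Agent.Lib.Helper24.FlatQuot.isLocalHom_quotient R S I hI
  haveI := Groth.Agent.Lib.Helper24.FlatDimFormula.isLocalRing_quotient
    (R ⧸ I) (S ⧸ I.map (algebraMap R S))
  have hm : maximalIdeal (R ⧸ I) = (maximalIdeal R).map (Ideal.Quotient.mk I) := by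
    symm
    apply IsLocalRing.eq_maximalIdeal
    refine Ideal.IsMaximal.map_of_surjective_of_ker_le Ideal.Quotient.mk_surjective ?_
    rw [Ideal.mk_ker]
    exact IsLocalRing.le_maximalIdeal hI
  have hmap : (maximalIdeal (R ⧸ I)).map (algebraMap (R ⧸ I) (S ⧸ I.map (algebraMap R S))) =
      ((maximalIdeal R).map (algebraMap R S)).map (Ideal.Quotient.mk (I.map (algebraMap R S))) := by
    rw [hm, Ideal.map_map, Ideal.map_map]
    rfl
  have hle : I.map (algebraMap R S) ≤ (maximalIdeal R).map (algebraMap R S) :=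
    Ideal.map_mono (IsLocalRing.le_maximalIdeal hI)
  let e2 : ((S ⧸ I.map (algebraMap R S)) ⧸
      (maximalIdeal (R ⧸ I)).map (algebraMap (R ⧸ I) (S ⧸ I.map (algebraMap R S)))) ≃+*
      (S ⧸ (maximalIdeal R).map (algebraMap R S)) :=
    (Ideal.quotEquivOfEq hmap).trans (DoubleQuot.quotQuotEquivQuotOfLE hle)
  have h1 := depth_eq_add_of_flat (R ⧸ I) (S ⧸ I.map (algebraMap R S))
  have h2 := Groth.Agent.Lib.Helper24.FlatDimFormula.ringKrullDim_eq_add_of_flat
    (R ⧸ I) (S ⧸ I.map (algebraMap R S))
  rw [depth_eq_of_ringEquiv e2, ← ringKrullDim_eq_of_ringEquiv e2]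
  exact ⟨h1, h2⟩

end Quot

section Comp

variable (A B C : Type u) [CommRing A] [CommRing B] [CommRing C] [Algebra A B] [Algebra B C]
  [Algebra A C] [IsScalarTower A B C] [IsNoetherianRing B] [IsNoetherianRing C] [Module.Flat B C]
  (p : Ideal A) [p.IsPrime] (q : Ideal B) [q.IsPrime] [q.LiesOver p]
  (r : Ideal C) [r.IsPrime] [r.LiesOver q] [r.LiesOver p]

/-- Depth and dimension of fibre local rings are additive in towers. -/
theorem fibLoc_comp :
    depth (FibLoc A C p r) (FibLoc A C p r) =
        depth (FibLoc A B p q) (FibLoc A B p q) + depth (FibLoc B C q r) (FibLoc B C q r) ∧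
      ringKrullDim (FibLoc A C p r) =
        ringKrullDim (FibLoc A B p q) + ringKrullDim (FibLoc B C q r) := by
  letI := Localization.AtPrime.algebraOfLiesOver q r
  haveI hloc : IsLocalHom (algebraMap (Localization.AtPrime q) (Localization.AtPrime r)) :=
    Localization.isLocalHom_localRingHom _ r (algebraMap B C) Ideal.LiesOver.over
  haveI hflat : Module.Flat (Localization.AtPrime q) (Localization.AtPrime r) := inferInstance
  have hI : (p.map (algebraMap A B)).map (algebraMap B (Localization.AtPrime q)) ≠ ⊤ :=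
    ne_top_of_le_ne_top (maximalIdeal.isMaximal _).ne_top (map_map_le_maximalIdeal A B p q)
  haveI : Nontrivial (Localization.AtPrime r ⧸
      ((p.map (algebraMap A B)).map (algebraMap B (Localization.AtPrime q))).map
      (algebraMap (Localization.AtPrime q) (Localization.AtPrime r))) :=
    Ideal.Quotient.nontrivial_iff.mpr
      (Groth.Agent.Lib.Helper24.FlatQuot.map_ne_top _ _ _ hI)
  haveI : IsLocalRing (Localization.AtPrime r ⧸
      ((p.map (algebraMap A B)).map (algebraMap B (Localization.AtPrime q))).map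
      (algebraMap (Localization.AtPrime q) (Localization.AtPrime r))) :=
    .of_surjective' _ Ideal.Quotient.mk_surjective
  haveI := Groth.Agent.Lib.Helper24.FlatDimFormula.isLocalRing_quotient
    (Localization.AtPrime q) (Localization.AtPrime r)
  have hJ : ((p.map (algebraMap A B)).map (algebraMap B (Localization.AtPrime q))).map
      (algebraMap (Localization.AtPrime q) (Localization.AtPrime r)) =
      (p.map (algebraMap A C)).map (algebraMap C (Localization.AtPrime r)) := by
    rw [Ideal.map_map, Ideal.map_map, Ideal.map_map,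
      ← IsScalarTower.algebraMap_eq B (Localization.AtPrime q) (Localization.AtPrime r),
      IsScalarTower.algebraMap_eq B C (Localization.AtPrime r), RingHom.comp_assoc,
      ← IsScalarTower.algebraMap_eq A B C]
  let e1 : (Localization.AtPrime r ⧸
      ((p.map (algebraMap A B)).map (algebraMap B (Localization.AtPrime q))).map
      (algebraMap (Localization.AtPrime q) (Localization.AtPrime r))) ≃+* FibLoc A C p r :=
    Ideal.quotEquivOfEq hJ
  have hI2 : (maximalIdeal (Localization.AtPrime q)).map
      (algebraMap (Localization.AtPrime q) (Localization.AtPrime r)) =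
      (q.map (algebraMap B C)).map (algebraMap C (Localization.AtPrime r)) := by
    rw [← Localization.AtPrime.map_eq_maximalIdeal, Ideal.map_map, Ideal.map_map,
      ← IsScalarTower.algebraMap_eq, ← IsScalarTower.algebraMap_eq]
  let e2 : (Localization.AtPrime r ⧸ (maximalIdeal (Localization.AtPrime q)).map
      (algebraMap (Localization.AtPrime q) (Localization.AtPrime r))) ≃+* FibLoc B C q r :=
    Ideal.quotEquivOfEq hI2
  obtain ⟨h1, h2⟩ := quotient_depth_dim (Localization.AtPrime q) (Localization.AtPrime r)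
    ((p.map (algebraMap A B)).map (algebraMap B (Localization.AtPrime q)))
  rw [depth_eq_of_ringEquiv e1, depth_eq_of_ringEquiv e2,
    ← ringKrullDim_eq_of_ringEquiv e1, ← ringKrullDim_eq_of_ringEquiv e2]
  exact ⟨h1, h2⟩

end Comp

end Groth.Agent.Lib.Helper24.FlatDepth
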