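import Mathlib
import Groth.Agent.Lib.Helper24.FlatDepth6

/-!
# Flat depth formula, part 7 (helper24): fibres of a composite

`A → B → C` Noetherian with `B → C` flat.  For a prime `r'` of the fibre ring `κ(p) ⊗_A C` there are
primes `q'` of `κ(p) ⊗_A B` and `r''` of `κ(q) ⊗_B C` with depth and dimension additive.
-/

set_option autoImplicit false
universe u
open TensorProduct IsLocalRing LocCoh
open Groth.Agent.Lib.helper26.Depth
open Groth.Agent.Lib.Helper24.HensDepth

namespace Groth.Agent.Lib.Helper24.FlatDepth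

section

variable (A B C : Type u) [CommRing A] [CommRing B] [CommRing C] [Algebra A B] [Algebra B C]
  [Algebra A C] [IsScalarTower A B C] [IsNoetherianRing B] [IsNoetherianRing C] [Module.Flat B C]
  (p : Ideal A) [p.IsPrime]

theorem fiber_comp_data (r' : Ideal (p.Fiber C)) [r'.IsPrime] :
    ∃ (q : Ideal B) (_ : q.IsPrime) (q' : Ideal (p.Fiber B)) (_ : q'.IsPrime)
      (r'' : Ideal (q.Fiber C)) (_ : r''.IsPrime),
      depth (Localization.AtPrime r') (Localization.AtPrime r') =
          depth (Localization.AtPrime q') (Localization.AtPrime q') +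
            depth (Localization.AtPrime r'') (Localization.AtPrime r'') ∧
        ringKrullDim (Localization.AtPrime r') =
          ringKrullDim (Localization.AtPrime q') + ringKrullDim (Localization.AtPrime r'') := by
  haveI : IsNoetherianRing (p.Fiber C) :=
    Groth.Agent.Lib.Helper24.HensFibre.isNoetherianRing_fibre A C p
  haveI : IsNoetherianRing (p.Fiber B) :=
    Groth.Agent.Lib.Helper24.HensFibre.isNoetherianRing_fibre A B p
  set r : Ideal C := r'.comap (Algebra.TensorProduct.includeRight : C →ₐ[A] p.Fiber C) with hr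
  haveI hrp : r.LiesOver p := by
    constructor
    rw [Ideal.over_def r' p, hr, Ideal.under_def, Ideal.under_def]
    ext a
    simp only [Ideal.mem_comap]
    rw [AlgHom.commutes]
  set q : Ideal B := r.under B with hq
  haveI hqp : q.LiesOver p := by
    constructor
    rw [Ideal.over_def r p, hq, Ideal.under_def, Ideal.under_def, Ideal.under_def,
      Ideal.comap_comap, ← IsScalarTower.algebraMap_eq]
  haveI : IsNoetherianRing (q.Fiber C) :=
    Groth.Agent.Lib.Helper24.HensFibre.isNoetherianRing_fibre B C q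
  obtain ⟨q', hq', ⟨eq'⟩⟩ := exists_fibre_prime_equiv A B p q
  obtain ⟨r'', hr'', ⟨er''⟩⟩ := exists_fibre_prime_equiv B C q r
  let er' : Localization.AtPrime r' ≃+* FibLoc A C p r := (Ideal.Fiber.algEquivAux₂ p r').toRingEquiv
  refine ⟨q, inferInstance, q', hq', r'', hr'', ?_⟩
  obtain ⟨h1, h2⟩ := fibLoc_comp A B C p q r
  have d1 : depth (FibLoc A C p r) (FibLoc A C p r) =
      depth (Localization.AtPrime r') (Localization.AtPrime r') := depth_eq_of_ringEquiv er'
  have d2 : depth (FibLoc A B p q) (FibLoc A B p q) =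
      depth (Localization.AtPrime q') (Localization.AtPrime q') := depth_eq_of_ringEquiv eq'
  have d3 : depth (FibLoc B C q r) (FibLoc B C q r) =
      depth (Localization.AtPrime r'') (Localization.AtPrime r'') := depth_eq_of_ringEquiv er''
  have k1 := ringKrullDim_eq_of_ringEquiv er'
  have k2 := ringKrullDim_eq_of_ringEquiv eq'
  have k3 := ringKrullDim_eq_of_ringEquiv er''
  rw [← d1, ← d2, ← d3, k1, k2, k3]
  exact ⟨h1, h2⟩

/-- `(S_n)` fibres compose. -/
theorem hasSk_fiber_comp (n : ℕ) (hAB : LocCoh.HasSk n (p.Fiber B) (p.Fiber B))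
    (hBC : ∀ (q : Ideal B) [q.IsPrime], LocCoh.HasSk n (q.Fiber C) (q.Fiber C)) :
    LocCoh.HasSk n (p.Fiber C) (p.Fiber C) := by
  haveI : IsNoetherianRing (p.Fiber C) :=
    Groth.Agent.Lib.Helper24.HensFibre.isNoetherianRing_fibre A C p
  haveI : IsNoetherianRing (p.Fiber B) :=
    Groth.Agent.Lib.Helper24.HensFibre.isNoetherianRing_fibre A B p
  rw [hasSk_iff_skAt] at hAB ⊢
  intro r' hr'
  obtain ⟨q, hq, q', hq', r'', hr'', h1, h2⟩ := fiber_comp_data A B C p r'
  haveI : IsNoetherianRing (q.Fiber C) :=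
    Groth.Agent.Lib.Helper24.HensFibre.isNoetherianRing_fibre B C q
  have hY := hAB q'
  have hZ := (hasSk_iff_skAt n (q.Fiber C)).mp (hBC q) r''
  unfold SkAt at hY hZ ⊢
  rw [Module.supportDim_self_eq_ringKrullDim] at hY hZ ⊢
  exact sk_of_add n h1 h2 hY hZ

/-- Cohen–Macaulay fibres compose. -/
theorem cm_fiber_comp (hAB : LocCoh.IsCohenMacaulayRing (p.Fiber B))
    (hBC : ∀ (q : Ideal B) [q.IsPrime], LocCoh.IsCohenMacaulayRing (q.Fiber C)) :
    LocCoh.IsCohenMacaulayRing (p.Fiber C) := by
  haveI : IsNoetherianRing (p.Fiber C) :=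
    Groth.Agent.Lib.Helper24.HensFibre.isNoetherianRing_fibre A C p
  haveI : IsNoetherianRing (p.Fiber B) :=
    Groth.Agent.Lib.Helper24.HensFibre.isNoetherianRing_fibre A B p
  refine { isCohenMacaulayLocalRing_localization := ?_ }
  intro r' hr'
  obtain ⟨q, hq, q', hq', r'', hr'', h1, h2⟩ := fiber_comp_data A B C p r'
  haveI : IsNoetherianRing (q.Fiber C) :=
    Groth.Agent.Lib.Helper24.HensFibre.isNoetherianRing_fibre B C q
  have hY := hAB.isCohenMacaulayLocalRing_localization q'
  have hZ := (hBC q).isCohenMacaulayLocalRing_localization r''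
  exact (cm_iff_of_add h1 h2).mpr ⟨hY, hZ⟩

end

end Groth.Agent.Lib.Helper24.FlatDepth
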