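import Mathlib

/-!
# Power series over `A/xA` for an `x`-adically complete ring `A` (helper24)

* `exists_ps_algHom`: for `σ : B →ₐ[k] A`, `A` complete for the `I`-adic topology and `x ∈ I`,
  there is a `k`-algebra map `e : B⟦X⟧ → A` with `e (C b) = σ b`, `e X = x`, and
  `e f ≡ (trunc N f)(x) mod I^N`.
* `exists_powerSeries_algEquiv`: if `x` is a nonzerodivisor, `A` is `x`-adically complete and
  `A/xA` is formally smooth over `k`, then `A ≅ (A/xA)⟦X⟧`.
-/

set_option autoImplicit false
universe u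

namespace Groth.Agent.Lib.Helper24.PSAdic

open PowerSeries

section general

variable {k B A : Type u} [CommRing k] [CommRing B] [CommRing A] [Algebra k B] [Algebra k A]

lemma eq_of_forall_mk_eq (I : Ideal A) [IsHausdorff I A] (a b : A)
    (h : ∀ n, Ideal.Quotient.mk (I ^ n) a = Ideal.Quotient.mk (I ^ n) b) : a = b := by
  rw [← sub_eq_zero]
  apply IsHausdorff.haus' (I := I)
  intro n
  rw [SModEq.zero, smul_eq_mul, Ideal.mul_top]
  exact Ideal.Quotient.eq.1 (h n)

lemma mk_eval₂_trunc_coe (σ : B →+* A) (I : Ideal A) (x : A) (hx : x ∈ I) (N : ℕ)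
    (p : Polynomial B) :
    Ideal.Quotient.mk (I ^ N) (Polynomial.eval₂ σ x (trunc N (p : PowerSeries B))) =
      Ideal.Quotient.mk (I ^ N) (Polynomial.eval₂ σ x p) := by
  have hdvd : Polynomial.X ^ N ∣ p - trunc N (p : PowerSeries B) := by
    rw [Polynomial.X_pow_dvd_iff]
    intro d hd
    rw [Polynomial.coeff_sub, coeff_trunc, if_pos hd, Polynomial.coeff_coe, sub_self]
  obtain ⟨q, hq⟩ := hdvd
  rw [eq_comm, Ideal.Quotient.eq, ← Polynomial.eval₂_sub, hq, Polynomial.eval₂_mul,
    Polynomial.eval₂_pow, Polynomial.eval₂_X]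
  exact Ideal.mul_mem_right _ _ (Ideal.pow_mem_pow hx N)

/-- the truncated evaluation maps -/
noncomputable def gHom (σ : B →ₐ[k] A) (I : Ideal A) (x : A) (hx : x ∈ I) (N : ℕ) :
    PowerSeries B →ₐ[k] A ⧸ I ^ N where
  toFun f := Ideal.Quotient.mk (I ^ N) (Polynomial.eval₂ (σ : B →+* A) x (trunc N f))
  map_one' := by
    have := mk_eval₂_trunc_coe (σ : B →+* A) I x hx N 1
    rw [Polynomial.coe_one] at this
    rw [this, Polynomial.eval₂_one, map_one]
  map_mul' f g := by
    rw [← trunc_trunc_mul_trunc, ← Polynomial.coe_mul, mk_eval₂_trunc_coe _ _ _ hx,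
      Polynomial.eval₂_mul, map_mul]
  map_zero' := by
    rw [map_zero, Polynomial.eval₂_zero, map_zero]
  map_add' f g := by
    rw [map_add, Polynomial.eval₂_add, map_add]
  commutes' r := by
    have h1 : algebraMap k (PowerSeries B) r = ((Polynomial.C (algebraMap k B r) : Polynomial B) :
        PowerSeries B) := by
      rw [Polynomial.coe_C, PowerSeries.algebraMap_apply]
    rw [h1, mk_eval₂_trunc_coe _ _ _ hx, Polynomial.eval₂_C]
    simp

lemma gHom_apply (σ : B →ₐ[k] A) (I : Ideal A) (x : A) (hx : x ∈ I) (N : ℕ) (f : PowerSeries B) :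
    gHom σ I x hx N f =
      Ideal.Quotient.mk (I ^ N) (Polynomial.eval₂ (σ : B →+* A) x (trunc N f)) := rfl

theorem exists_ps_algHom (σ : B →ₐ[k] A) (I : Ideal A) [IsAdicComplete I A] (x : A)
    (hx : x ∈ I) :
    ∃ e : PowerSeries B →ₐ[k] A, e X = x ∧ (∀ b, e (C b) = σ b) ∧
      ∀ (N : ℕ) (f : PowerSeries B), Ideal.Quotient.mk (I ^ N) (e f) =
        Ideal.Quotient.mk (I ^ N) (Polynomial.eval₂ (σ : B →+* A) x (trunc N f)) := by
  have hcompat : ∀ {m n : ℕ} (hle : m ≤ n),
      (Ideal.Quotient.factorₐ k (Ideal.pow_le_pow_right hle)).comp (gHom σ I x hx n) =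
        gHom σ I x hx m := by
    intro m n hle
    ext f
    rw [AlgHom.comp_apply, gHom_apply, gHom_apply, Ideal.Quotient.factorₐ_apply_mk,
      ← trunc_trunc_of_le f hle, mk_eval₂_trunc_coe _ _ _ hx]
  refine ⟨IsAdicComplete.liftAlgHom I (gHom σ I x hx) hcompat, ?_, ?_, ?_⟩
  · apply eq_of_forall_mk_eq I
    intro n
    rw [IsAdicComplete.mk_liftAlgHom, gHom_apply]
    have := mk_eval₂_trunc_coe (σ : B →+* A) I x hx n Polynomial.X
    rw [Polynomial.coe_X] at this
    rw [this, Polynomial.eval₂_X]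
  · intro b
    apply eq_of_forall_mk_eq I
    intro n
    rw [IsAdicComplete.mk_liftAlgHom, gHom_apply]
    have := mk_eval₂_trunc_coe (σ : B →+* A) I x hx n (Polynomial.C b)
    rw [Polynomial.coe_C] at this
    rw [this, Polynomial.eval₂_C]
    rfl
  · intro N f
    rw [IsAdicComplete.mk_liftAlgHom, gHom_apply]

end general

section main

theorem exists_powerSeries_algEquiv (k A : Type u) [Field k]
    [CommRing A] [Algebra k A] (x : A) (hx : x ∈ nonZeroDivisors A)
    [IsAdicComplete (Ideal.span {x}) A] [Algebra.FormallySmooth k (A ⧸ Ideal.span {x})] :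
    ∃ e : PowerSeries (A ⧸ Ideal.span {x}) ≃ₐ[k] A,
      e PowerSeries.X = x ∧
      ∀ f : PowerSeries (A ⧸ Ideal.span {x}),
        Ideal.Quotient.mk (Ideal.span {x}) (e f) = PowerSeries.constantCoeff f := by
  obtain ⟨σ, hσ⟩ := Algebra.FormallySmooth.exists_mkₐ_comp_eq_of_isAdicComplete
    (I := Ideal.span {x}) (AlgHom.id k (A ⧸ Ideal.span {x}))
  have hσ' : ∀ b, Ideal.Quotient.mk (Ideal.span {x}) (σ b) = b := fun b => by
    have := congrArg (fun g => g b) hσ
    simpa using this
  obtain ⟨e, heX, heC, he⟩ := exists_ps_algHom σ (Ideal.span {x}) x (Ideal.subset_span rfl)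
  have hconst : ∀ f : PowerSeries (A ⧸ Ideal.span {x}),
      Ideal.Quotient.mk (Ideal.span {x}) (e f) = PowerSeries.constantCoeff f := by
    intro f
    have h1 := he 1 f
    rw [trunc_one_left, Polynomial.eval₂_C, Ideal.Quotient.eq, pow_one] at h1
    rw [← Ideal.Quotient.eq] at h1
    rw [h1, coeff_zero_eq_constantCoeff_apply]
    exact hσ' _
  have hinj : ∀ (n : ℕ) (f : PowerSeries (A ⧸ Ideal.span {x})), e f = 0 → coeff n f = 0 := by
    intro n
    induction n with
    | zero =>
      intro f hf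
      have := hconst f
      rw [hf, map_zero] at this
      rw [coeff_zero_eq_constantCoeff_apply, ← this]
    | succ n ih =>
      intro f hf
      have h0 : constantCoeff f = 0 := by
        have := hconst f
        rw [hf, map_zero] at this
        exact this.symm
      obtain ⟨g, rfl⟩ := X_dvd_iff.2 h0
      rw [map_mul, heX] at hf
      have hg : e g = 0 := by
        rw [mul_comm] at hf
        exact (mem_nonZeroDivisors_iff_right.1 hx) _ hf
      rw [coeff_succ_X_mul]
      exact ih g hg
  have hinj' : Function.Injective e := by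
    rw [injective_iff_map_eq_zero]
    intro f hf
    ext n
    rw [hinj n f hf, map_zero]
  have hmap : Ideal.map (e : PowerSeries (A ⧸ Ideal.span {x}) →+* A)
      (Ideal.span {(X : PowerSeries (A ⧸ Ideal.span {x}))}) = Ideal.span {x} := by
    rw [Ideal.map_span, Set.image_singleton]
    congr 2
  have hsurj : Function.Surjective e := by
    change Function.Surjective (e : PowerSeries (A ⧸ Ideal.span {x}) →+* A)
    haveI : IsHausdorff (Ideal.map (e : PowerSeries (A ⧸ Ideal.span {x}) →+* A)
        (Ideal.span {(X : PowerSeries (A ⧸ Ideal.span {x}))})) A := by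
      rw [hmap]; infer_instance
    apply surjective_of_mk_map_comp_surjective
      (I := Ideal.span {(X : PowerSeries (A ⧸ Ideal.span {x}))})
    intro a
    obtain ⟨a', rfl⟩ := Ideal.Quotient.mk_surjective a
    refine ⟨C (Ideal.Quotient.mk (Ideal.span {x}) a'), ?_⟩
    rw [RingHom.comp_apply, Ideal.Quotient.eq, hmap]
    change e (C _) - a' ∈ _
    rw [heC, ← Ideal.Quotient.eq, hσ']
  have hbij : Function.Bijective e := ⟨hinj', hsurj⟩
  refine ⟨AlgEquiv.ofBijective e hbij, ?_, ?_⟩
  · exact heX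
  · intro f
    exact hconst f

end main

end Groth.Agent.Lib.Helper24.PSAdic
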