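import Groth.Agent.Lib.Helper24.GeomBC1

/-!
# Base change of regular and normal homomorphisms (EGA IV 6.8.2 / 6.8.3, affine forms) (helper24)
-/

set_option autoImplicit false
universe u

open TensorProduct

namespace Groth.Agent.Lib.Helper24.GeomBC

open Groth.Agent.Lib.Helper24.GeomFG Groth.Agent.Lib.Helper24.GeomLim

variable (A B A' : Type u) [CommRing A] [CommRing B] [CommRing A'] [Algebra A B] [Algebra A A']

theorem isRegularHom_baseChange [IsNoetherianRing (A' ⊗[A] B)] (h : CAlg.IsRegularHom A B) :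
    CAlg.IsRegularHom A' (A' ⊗[A] B) := by
  haveI := h.1
  refine ⟨inferInstance, fun p' _ => ?_⟩
  haveI hN : IsNoetherianRing (p'.Fiber (A' ⊗[A] B)) :=
    Groth.Agent.Lib.Helper24.HensFibre.isNoetherianRing_fibre A' (A' ⊗[A] B) p'
  refine ⟨hN, ?_⟩
  intro K' _ _ hfin
  haveI := hfin
  obtain ⟨_, hK⟩ := exists_fibreEquiv A B A' (p'.comap (algebraMap A A')) p' rfl
  obtain ⟨_, _, ⟨e⟩⟩ := hK K'
  haveI : IsNoetherianRing (K' ⊗[p'.ResidueField] p'.Fiber (A' ⊗[A] B)) :=
    isNoetherianRing_tensor_finite p'.ResidueField _ K'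
  haveI : IsNoetherianRing (K' ⊗[(p'.comap (algebraMap A A')).ResidueField]
      (p'.comap (algebraMap A A')).Fiber B) :=
    isNoetherianRing_of_ringEquiv (K' ⊗[p'.ResidueField] p'.Fiber (A' ⊗[A] B)) e
  haveI := isRegularRing_tensor_of_geom (p'.comap (algebraMap A A')).ResidueField
    ((p'.comap (algebraMap A A')).Fiber B) (h.2 (p'.comap (algebraMap A A'))).2 K'
  exact IsRegularRing.of_ringEquiv (R := K' ⊗[(p'.comap (algebraMap A A')).ResidueField]
      (p'.comap (algebraMap A A')).Fiber B) e.symm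

theorem isNormalHom_baseChange (h : EGA4.IsNormalHom A B) :
    EGA4.IsNormalHom A' (A' ⊗[A] B) := by
  haveI := h.1
  refine ⟨inferInstance, fun p' _ => ?_⟩
  intro K' _ _ hfin
  haveI := hfin
  obtain ⟨_, hK⟩ := exists_fibreEquiv A B A' (p'.comap (algebraMap A A')) p' rfl
  obtain ⟨_, _, ⟨e⟩⟩ := hK K'
  have h3 : EGA4.IsNormalRing (K' ⊗[(p'.comap (algebraMap A A')).ResidueField]
      (p'.comap (algebraMap A A')).Fiber B) :=
    fun q hq => isNormal_tensor_of_geom (p'.comap (algebraMap A A')).ResidueField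
      ((p'.comap (algebraMap A A')).Fiber B) (h.2 (p'.comap (algebraMap A A'))) K' q
  exact geomStable_isNormal.iso _ _ e.symm h3

theorem flat_of_baseChange [Module.FaithfullyFlat A A'] [Module.Flat A' (A' ⊗[A] B)] :
    Module.Flat A B := by
  haveI : Module.Flat A (A' ⊗[A] B) := Module.Flat.trans A A' _
  exact Groth.Agent.Lib.helper17.FlatBC.flat_of_flat_tensor A A A' B

theorem isRegularHom_of_baseChange [Module.FaithfullyFlat A A']
    (h : CAlg.IsRegularHom A' (A' ⊗[A] B)) : CAlg.IsRegularHom A B := by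
  haveI := h.1
  refine ⟨flat_of_baseChange A B A', fun p _ => ?_⟩
  obtain ⟨p', hp', hlies⟩ := Ideal.exists_isPrime_liesOver_of_faithfullyFlat (B := A') p
  obtain ⟨iκ, hK⟩ := exists_fibreEquiv A B A' p p' hlies.over
  obtain ⟨h1, h2⟩ := h.2 p'
  have hN : IsNoetherianRing (p.Fiber B) := by
    obtain ⟨_, _, ⟨e⟩⟩ := hK p'.ResidueField
    haveI : IsNoetherianRing (p'.ResidueField ⊗[p'.ResidueField] p'.Fiber (A' ⊗[A] B)) :=
      isNoetherianRing_of_ringEquiv _
        (Algebra.TensorProduct.lid p'.ResidueField (p'.Fiber (A' ⊗[A] B))).symm.toRingEquiv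
    haveI : IsNoetherianRing (p'.ResidueField ⊗[p.ResidueField] p.Fiber B) :=
      isNoetherianRing_of_ringEquiv
        (p'.ResidueField ⊗[p'.ResidueField] p'.Fiber (A' ⊗[A] B)) e
    haveI : IsNoetherianRing (p.Fiber B ⊗[p.ResidueField] p'.ResidueField) :=
      isNoetherianRing_of_ringEquiv _
        (Algebra.TensorProduct.comm p.ResidueField p'.ResidueField (p.Fiber B)).toRingEquiv
    exact Groth.Agent.Lib.Helper24.NoethLimit.isNoetherianRing_of_faithfullyFlat (p.Fiber B)
      (p.Fiber B ⊗[p.ResidueField] p'.ResidueField)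
  refine ⟨hN, ?_⟩
  intro k' _ _ hfin
  refine geom_of_baseChange geomStable_isRegularRing p.ResidueField (p.Fiber B) p'.ResidueField
    ?_ k' hfin
  intro K' _ _ hK'fin
  obtain ⟨_, tow, ⟨e⟩⟩ := hK K'
  haveI := h2 K' hK'fin
  haveI h3 : IsRegularRing (K' ⊗[p.ResidueField] p.Fiber B) :=
    IsRegularRing.of_ringEquiv (R := K' ⊗[p'.ResidueField] p'.Fiber (A' ⊗[A] B)) e
  exact IsRegularRing.of_ringEquiv (Algebra.TensorProduct.cancelBaseChange p.ResidueField
    p'.ResidueField p'.ResidueField K' (p.Fiber B)).symm.toRingEquiv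

theorem isNormalHom_of_baseChange [Module.FaithfullyFlat A A']
    (h : EGA4.IsNormalHom A' (A' ⊗[A] B)) : EGA4.IsNormalHom A B := by
  haveI := h.1
  refine ⟨flat_of_baseChange A B A', fun p _ => ?_⟩
  obtain ⟨p', hp', hlies⟩ := Ideal.exists_isPrime_liesOver_of_faithfullyFlat (B := A') p
  obtain ⟨iκ, hK⟩ := exists_fibreEquiv A B A' p p' hlies.over
  have h2 := h.2 p'
  intro k' _ _ hfin
  refine geom_of_baseChange geomStable_isNormal p.ResidueField (p.Fiber B) p'.ResidueField
    ?_ k' hfin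
  intro K' _ _ hK'fin
  obtain ⟨_, tow, ⟨e⟩⟩ := hK K'
  have h3 : EGA4.IsNormalRing (K' ⊗[p.ResidueField] p.Fiber B) :=
    geomStable_isNormal.iso _ _ e (h2 K' hK'fin)
  exact geomStable_isNormal.iso _ _ (Algebra.TensorProduct.cancelBaseChange p.ResidueField
    p'.ResidueField p'.ResidueField K' (p.Fiber B)).symm.toRingEquiv h3

/-- Noetherianity of `A' ⊗[A] B` when one factor is of finite type. -/
theorem isNoetherianRing_tensor_of_finiteType [IsNoetherianRing B] [IsNoetherianRing A']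
    (hft : Algebra.FiniteType A B ∨ Algebra.FiniteType A A') : IsNoetherianRing (A' ⊗[A] B) := by
  rcases hft with h | h
  · haveI := h
    exact Algebra.FiniteType.isNoetherianRing A' (A' ⊗[A] B)
  · haveI := h
    haveI : IsNoetherianRing (B ⊗[A] A') := Algebra.FiniteType.isNoetherianRing B (B ⊗[A] A')
    exact isNoetherianRing_of_ringEquiv _ (Algebra.TensorProduct.comm A B A').toRingEquiv

end Groth.Agent.Lib.Helper24.GeomBC
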