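import Mathlib
import Groth.Agent.Lib.Helper15.Regular

/-! Embedding dimension of local rings: quotient by an element outside `m²`, minimal generators
contained in a generating set (helper24). -/

set_option autoImplicit false
universe u

namespace Groth.Agent.Lib.helper24.EmbDim1

open IsLocalRing

variable {R : Type u} [CommRing R]

/-- The embedding dimension drops by exactly one modulo an element of `m \ m²`. -/
lemma spanFinrank_quotient_singleton [IsLocalRing R] [IsNoetherianRing R] (x : R)
    (hx : x ∈ maximalIdeal R) (hx2 : x ∉ maximalIdeal R ^ 2) [IsLocalRing (R ⧸ Ideal.span {x})] :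
    (maximalIdeal (R ⧸ Ideal.span {x})).spanFinrank + 1 = (maximalIdeal R).spanFinrank := by
  classical
  have hmap : (maximalIdeal R).map (Ideal.Quotient.mk (Ideal.span {x})) =
      maximalIdeal (R ⧸ Ideal.span {x}) :=
    map_maximalIdeal_of_surjective _ Ideal.Quotient.mk_surjective
  apply le_antisymm
  · -- exchange
    have hfg : (maximalIdeal R).FG := IsNoetherian.noetherian _
    obtain ⟨s, hcard, hspan⟩ := Submodule.FG.exists_span_finset_card_eq_spanFinrank hfg
    obtain ⟨y, hy, hm⟩ := helper15.exists_erase_span s hspan x hx hx2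
    have hc : (s.erase y).card + 1 = s.card := Finset.card_erase_add_one hy
    have h1 : maximalIdeal (R ⧸ Ideal.span {x}) =
        Ideal.span ((Ideal.Quotient.mk (Ideal.span {x})) '' ((s.erase y : Finset R) : Set R)) := by
      rw [← hmap, hm, Ideal.map_sup, Ideal.map_quotient_self, bot_sup_eq, Ideal.map_span]
    have h2 : (maximalIdeal (R ⧸ Ideal.span {x})).spanFinrank ≤ (s.erase y).card := by
      rw [h1]
      refine (Submodule.spanFinrank_span_le_ncard_of_finite (Set.toFinite _)).trans ?_
      refine (Set.ncard_image_le (Set.toFinite _)).trans ?_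
      rw [Set.ncard_coe_finset]
    omega
  · have hfg : (maximalIdeal (R ⧸ Ideal.span {x})).FG := IsNoetherian.noetherian _
    obtain ⟨tb, hcard, hspan⟩ := Submodule.FG.exists_span_finset_card_eq_spanFinrank hfg
    set lift := Function.surjInv (Ideal.Quotient.mk_surjective (I := Ideal.span {x})) with hlift
    set t : Finset R := tb.image lift with ht
    have himg : (Ideal.Quotient.mk (Ideal.span {x})) '' (t : Set R) = (tb : Set _) := by
      rw [ht, Finset.coe_image, ← Set.image_comp]
      have : (Ideal.Quotient.mk (Ideal.span {x})) ∘ lift = id := by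
        funext z
        exact Function.surjInv_eq _ z
      rw [this, Set.image_id]
    have h1 : (Ideal.span (t : Set R) ⊔ Ideal.span {x}).map (Ideal.Quotient.mk (Ideal.span {x})) =
        (maximalIdeal R).map (Ideal.Quotient.mk (Ideal.span {x})) := by
      rw [hmap, Ideal.map_sup, Ideal.map_span, Ideal.map_quotient_self, sup_bot_eq, himg]
      exact hspan
    have h2 := congrArg (Ideal.comap (Ideal.Quotient.mk (Ideal.span {x}))) h1
    rw [Ideal.comap_map_of_surjective _ Ideal.Quotient.mk_surjective,
      Ideal.comap_map_of_surjective _ Ideal.Quotient.mk_surjective,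
      ← RingHom.ker_eq_comap_bot, Ideal.mk_ker] at h2
    have hxm : Ideal.span {x} ≤ maximalIdeal R := by
      rw [Ideal.span_le]; rintro _ rfl; exact hx
    rw [sup_assoc, sup_idem, sup_eq_left.2 hxm] at h2
    have h3 : maximalIdeal R = Ideal.span ((insert x t : Finset R) : Set R) := by
      rw [← h2, Finset.coe_insert, Ideal.span_insert, sup_comm]
    have h4 : (maximalIdeal R).spanFinrank ≤ (insert x t).card := by
      conv_lhs => rw [h3]
      refine (Submodule.spanFinrank_span_le_ncard_of_finite (Set.toFinite _)).trans ?_
      rw [Set.ncard_coe_finset]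
    have h5 : (insert x t).card ≤ t.card + 1 := Finset.card_insert_le x t
    have h6 : t.card ≤ tb.card := Finset.card_image_le
    omega

/-- A generating set of the maximal ideal contains a generating subset with at most
`embdim` elements. -/
lemma exists_subset_span [IsLocalRing R] [IsNoetherianRing R] (s : Set R)
    (hs : Ideal.span s = maximalIdeal R) :
    ∃ t : Set R, t ⊆ s ∧ t.Finite ∧ Ideal.span t = maximalIdeal R ∧
      t.ncard ≤ (maximalIdeal R).spanFinrank := by
  classical
  have hsm : ∀ z : s, (z : R) ∈ maximalIdeal R := fun z => hs ▸ Ideal.subset_span z.2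
  set ι : s → maximalIdeal R := fun z => ⟨z, hsm z⟩ with hι
  have key : ∀ u : Set s, Submodule.span (ResidueField R)
      ((maximalIdeal R).toCotangent '' (ι '' u)) = ⊤ → Ideal.span (Subtype.val '' u) = maximalIdeal R := by
    intro u hu
    rw [CotangentSpace.span_image_eq_top_iff] at hu
    have h2 := congrArg (Submodule.map (maximalIdeal R).subtype) hu
    rw [Submodule.map_span, Submodule.map_top, Submodule.range_subtype, ← Set.image_comp] at h2
    rw [← h2]
    rfl
  have hall : Submodule.span (ResidueField R)
      ((maximalIdeal R).toCotangent '' (ι '' Set.univ)) = ⊤ := by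
    rw [CotangentSpace.span_image_eq_top_iff]
    apply Submodule.map_injective_of_injective (maximalIdeal R).injective_subtype
    rw [Submodule.map_span, Submodule.map_top, Submodule.range_subtype, ← Set.image_comp]
    have : ((maximalIdeal R).subtype ∘ ι) '' Set.univ = s := by
      ext z
      simp [hι]
    rw [this]
    exact hs
  obtain ⟨b, hbW, hbspan, hbli⟩ := exists_linearIndependent (ResidueField R)
    ((maximalIdeal R).toCotangent '' (ι '' Set.univ))
  rw [hall] at hbspan
  have hbfin : b.Finite := hbli.setFinite
  have hbcard : b.ncard ≤ Module.finrank (ResidueField R) (CotangentSpace R) := by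
    haveI := hbfin.fintype
    have := hbli.fintype_card_le_finrank
    rw [Set.ncard_eq_toFinset_card', Set.toFinset_card]
    exact this
  have hchoose : ∀ v : b, ∃ z : s, (maximalIdeal R).toCotangent (ι z) = v := by
    intro v
    obtain ⟨w, ⟨z, -, rfl⟩, hw⟩ := hbW v.2
    exact ⟨z, hw⟩
  choose c hc using hchoose
  set u : Set s := Set.range c with hu
  have hub : b ⊆ (maximalIdeal R).toCotangent '' (ι '' u) := by
    intro v hv
    exact ⟨ι (c ⟨v, hv⟩), ⟨c ⟨v, hv⟩, ⟨⟨v, hv⟩, rfl⟩, rfl⟩, hc ⟨v, hv⟩⟩
  have huspan : Submodule.span (ResidueField R)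
      ((maximalIdeal R).toCotangent '' (ι '' u)) = ⊤ := by
    rw [eq_top_iff, ← hbspan]
    exact Submodule.span_mono hub
  refine ⟨Subtype.val '' u, ?_, ?_, key u huspan, ?_⟩
  · rintro _ ⟨z, -, rfl⟩
    exact z.2
  · haveI := hbfin.to_subtype
    exact (Set.finite_range c).image _
  · haveI := hbfin.to_subtype
    have h1 : (Subtype.val '' u).ncard ≤ u.ncard := Set.ncard_image_le (Set.finite_range c)
    have h2 : u.ncard ≤ Nat.card b := by
      rw [hu, ← Set.image_univ]
      refine (Set.ncard_image_le Set.finite_univ).trans ?_
      rw [Set.ncard_univ]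
    have h3 : Nat.card b = b.ncard := (Nat.card_coe_set_eq b)
    rw [spanFinrank_maximalIdeal_eq_finrank_cotangentSpace]
    omega

end Groth.Agent.Lib.helper24.EmbDim1
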