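import Mathlib
import Groth.Agent.Lib.Helper24.EmbDim1
import Groth.Agent.Lib.Helper24.FlatDepth2

/-! Additivity of the embedding dimension along a flat local homomorphism with regular closed fibre
(helper24).  The lemmas `regular_flat_of_fibre_regular`, `isLocalHom_quot_span`, `fibreQuotEquiv'`
are restatements of helper17's `GorFlat` lemmas (reproved here to avoid importing the Gorenstein
chain). -/

set_option autoImplicit false
universe u

namespace Groth.Agent.Lib.helper24.EmbDim2

open IsLocalRing TensorProduct Groth.Agent.Lib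

section
variable (A B : Type u) [CommRing A] [CommRing B] [IsLocalRing A] [IsLocalRing B]
  [IsNoetherianRing A] [IsNoetherianRing B] [Algebra A B] [IsLocalHom (algebraMap A B)]
  [Module.Flat A B]

/-- if `m_A B = m_B` then `A` and `B` have the same embedding dimension -/
theorem spanFinrank_eq_of_map_eq (h : (maximalIdeal A).map (algebraMap A B) = maximalIdeal B) :
    (maximalIdeal B).spanFinrank = (maximalIdeal A).spanFinrank := by
  classical
  apply le_antisymm
  · rw [← h]
    exact Ideal.spanFinrank_map_le_of_fg _ (IsNoetherian.noetherian _)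
  · obtain ⟨s, hcard, hspan⟩ := Submodule.FG.exists_span_finset_card_eq_spanFinrank
      (IsNoetherian.noetherian (maximalIdeal A))
    have hspan' : Ideal.span (s : Set A) = maximalIdeal A := hspan
    have h1 : Ideal.span ((algebraMap A B) '' (s : Set A)) = maximalIdeal B := by
      rw [← Ideal.map_span, hspan', h]
    obtain ⟨t, hts, htfin, htspan, htcard⟩ := helper24.EmbDim1.exists_subset_span _ h1
    obtain ⟨s', hs's, hbij⟩ := Set.exists_subset_bijOn ((s : Set A) ∩ (algebraMap A B) ⁻¹' t)
      (algebraMap A B)
    have himg : (algebraMap A B) '' ((s : Set A) ∩ (algebraMap A B) ⁻¹' t) = t := by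
      apply le_antisymm
      · rintro _ ⟨a, ⟨-, ha⟩, rfl⟩
        exact ha
      · intro z hz
        obtain ⟨a, ha, rfl⟩ := hts hz
        exact ⟨a, ⟨ha, hz⟩, rfl⟩
    rw [himg] at hbij
    haveI : Module.FaithfullyFlat A B := Module.FaithfullyFlat.of_flat_of_isLocalHom
    have h2 : (Ideal.span s').map (algebraMap A B) = (maximalIdeal A).map (algebraMap A B) := by
      rw [Ideal.map_span, hbij.image_eq, htspan, h]
    have h3 := congrArg (Ideal.comap (algebraMap A B)) h2
    rw [Ideal.comap_map_eq_self_of_faithfullyFlat, Ideal.comap_map_eq_self_of_faithfullyFlat] at h3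
    have hfin' : s'.Finite := (Set.toFinite (s : Set A)).subset (hs's.trans Set.inter_subset_left)
    have h4 : (maximalIdeal A).spanFinrank ≤ s'.ncard := by
      rw [← h3]
      exact Submodule.spanFinrank_span_le_ncard_of_finite hfin'
    have h5 : s'.ncard = t.ncard := by
      rw [← hbij.image_eq]
      exact (Set.ncard_image_of_injOn hbij.injOn).symm
    omega

open Pointwise in
/-- (helper17) a lift `y` of a regular element of the closed fibre is regular on `B`, and
`B/(y)` is flat over `A`. -/
theorem regular_flat_of_fibre_regular (y : B)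
    (hy : IsSMulRegular (B ⧸ (maximalIdeal A).map (algebraMap A B))
      (Ideal.Quotient.mk ((maximalIdeal A).map (algebraMap A B)) y)) :
    IsSMulRegular B y ∧ Module.Flat A (B ⧸ Ideal.span {y}) := by
  have hy1 : IsSMulRegular (B ⧸ (maximalIdeal A).map (algebraMap A B)) y := by
    intro a b hab
    exact hy hab
  have hy2 : IsSMulRegular (B ⊗[A] (A ⧸ maximalIdeal A)) y :=
    ((Algebra.TensorProduct.quotIdealMapEquivTensorQuot B
      (maximalIdeal A)).toLinearEquiv.isSMulRegular_congr y).mp hy1
  constructor
  · have h3 := Groth.Agent.Lib.Helper24.FlatDepth.isSMulRegular_tensor A B B y hy2 A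
    exact ((AlgebraTensorModule.rid A B B).isSMulRegular_congr y).mp h3
  · have h4 := Groth.Agent.Lib.Helper24.FlatDepth.flat_quotSMulTop A B B y hy2
    have heq : (y • (⊤ : Submodule B B)) = (Ideal.span {y} : Submodule B B) := by
      simp [← Submodule.ideal_span_singleton_smul]
    exact Module.Flat.of_linearEquiv
      ((Submodule.quotEquivOfEq _ _ heq).restrictScalars A).symm

theorem isLocalRing_quot_span (y : B) (hym : y ∈ maximalIdeal B) :
    IsLocalRing (B ⧸ Ideal.span {y}) := by
  apply helper15.isLocalRing_quotient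
  rw [Ne, Ideal.span_singleton_eq_top]
  exact hym

theorem isLocalHom_quot_span (y : B) (hym : y ∈ maximalIdeal B) :
    IsLocalHom (algebraMap A (B ⧸ Ideal.span {y})) := by
  haveI : IsLocalRing (B ⧸ Ideal.span {y}) := isLocalRing_quot_span B y hym
  haveI : IsLocalHom (Ideal.Quotient.mk (Ideal.span {y})) :=
    IsLocalHom.of_surjective _ Ideal.Quotient.mk_surjective
  have : algebraMap A (B ⧸ Ideal.span {y}) =
      (Ideal.Quotient.mk (Ideal.span {y})).comp (algebraMap A B) := rfl
  rw [this]
  exact RingHom.isLocalHom_comp _ _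

/-- (helper17) the closed fibre of `A → B/(y)` is the quotient of the closed fibre of `A → B`
by `y`. -/
noncomputable def fibreQuotEquiv' (y : B) :
    ((B ⧸ Ideal.span {y}) ⧸ (maximalIdeal A).map (algebraMap A (B ⧸ Ideal.span {y}))) ≃+*
    ((B ⧸ (maximalIdeal A).map (algebraMap A B)) ⧸
      Ideal.span {Ideal.Quotient.mk ((maximalIdeal A).map (algebraMap A B)) y}) := by
  have h1 : (maximalIdeal A).map (algebraMap A (B ⧸ Ideal.span {y})) =
      ((maximalIdeal A).map (algebraMap A B)).map (Ideal.Quotient.mk (Ideal.span {y})) := by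
    rw [Ideal.map_map]
    rfl
  have h2 : (Ideal.span {y}).map (Ideal.Quotient.mk ((maximalIdeal A).map (algebraMap A B))) =
      Ideal.span {Ideal.Quotient.mk ((maximalIdeal A).map (algebraMap A B)) y} := by
    rw [Ideal.map_span, Set.image_singleton]
  exact (Ideal.quotEquivOfEq h1).trans
    ((DoubleQuot.quotQuotEquivComm _ _).trans (Ideal.quotEquivOfEq h2))

end

/-- embedding dimension is invariant under ring isomorphisms of local rings -/
lemma spanFinrank_maximalIdeal_of_ringEquiv {R S : Type u} [CommRing R] [CommRing S]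
    [IsLocalRing R] [IsLocalRing S] (e : R ≃+* S) :
    (maximalIdeal S).spanFinrank = (maximalIdeal R).spanFinrank := by
  rw [← map_ringEquiv_maximalIdeal e, Ideal.spanFinrank_map_eq_of_ringEquiv]

/-- **Additivity of embedding dimension**: induction on the embedding dimension of the fibre. -/
theorem spanFinrank_eq_add (A : Type u) [CommRing A] [IsLocalRing A] [IsNoetherianRing A] :
    ∀ (r : ℕ) (B : Type u) [CommRing B] [IsLocalRing B] [IsNoetherianRing B] [Algebra A B]
      [IsLocalHom (algebraMap A B)] [Module.Flat A B]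
      [IsRegularLocalRing (B ⧸ (maximalIdeal A).map (algebraMap A B))],
      (maximalIdeal (B ⧸ (maximalIdeal A).map (algebraMap A B))).spanFinrank = r →
      (maximalIdeal B).spanFinrank = r + (maximalIdeal A).spanFinrank := by
  intro r
  induction r with
  | zero =>
    intro B _ _ _ _ _ _ _ hr
    rw [zero_add]
    apply spanFinrank_eq_of_map_eq
    apply le_antisymm (map_maximalIdeal_le _)
    have h1 : maximalIdeal (B ⧸ (maximalIdeal A).map (algebraMap A B)) = ⊥ :=
      (Submodule.spanFinrank_eq_zero_iff_eq_bot (IsNoetherian.noetherian _)).1 hr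
    rw [← map_maximalIdeal_of_surjective _ Ideal.Quotient.mk_surjective,
      Ideal.map_eq_bot_iff_le_ker, Ideal.mk_ker] at h1
    exact h1
  | succ r ih =>
    intro B _ _ _ _ _ _ _ hr
    -- an element of `m_F \ m_F²`
    set F := B ⧸ (maximalIdeal A).map (algebraMap A B) with hF
    have hne : ¬ (maximalIdeal F ≤ maximalIdeal F ^ 2) := by
      intro hle
      have hbot : maximalIdeal F = ⊥ := by
        apply Submodule.eq_bot_of_le_smul_of_le_jacobson_bot (maximalIdeal F) (maximalIdeal F)
          (IsNoetherian.noetherian _)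
        · rw [smul_eq_mul, ← pow_two]; exact hle
        · exact (IsLocalRing.jacobson_eq_maximalIdeal ⊥ bot_ne_top).ge
      rw [hbot, Submodule.spanFinrank_bot] at hr
      omega
    obtain ⟨yb, hyb, hyb2⟩ := SetLike.not_le_iff_exists.1 hne
    obtain ⟨y, rfl⟩ := Ideal.Quotient.mk_surjective yb
    have hym : y ∈ maximalIdeal B := by
      by_contra hcon
      have hu : IsUnit y := by
        by_contra h
        exact hcon ((IsLocalRing.mem_maximalIdeal _).2 h)
      exact hyb (hu.map (Ideal.Quotient.mk _))
    have hy2 : y ∉ maximalIdeal B ^ 2 := by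
      intro hcon
      apply hyb2
      rw [← map_maximalIdeal_of_surjective (Ideal.Quotient.mk ((maximalIdeal A).map (algebraMap A B)))
        Ideal.Quotient.mk_surjective, ← Ideal.map_pow]
      exact Ideal.mem_map_of_mem _ hcon
    haveI : IsDomain F := helper15.isDomain_of_isRegularLocalRing F
    have hyb0 : Ideal.Quotient.mk ((maximalIdeal A).map (algebraMap A B)) y ≠ 0 := by
      intro h0
      apply hyb2
      rw [h0]
      exact Ideal.zero_mem _
    have hreg : IsSMulRegular F (Ideal.Quotient.mk ((maximalIdeal A).map (algebraMap A B)) y) :=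
      (IsRegular.of_ne_zero hyb0).left.isSMulRegular
    obtain ⟨-, hflat⟩ := regular_flat_of_fibre_regular A B y hreg
    haveI := hflat
    haveI : IsLocalRing (B ⧸ Ideal.span {y}) := isLocalRing_quot_span B y hym
    haveI : IsLocalHom (algebraMap A (B ⧸ Ideal.span {y})) := isLocalHom_quot_span A B y hym
    obtain ⟨hregq, hq⟩ := helper15.isRegularLocalRing_quotient_singleton
      (Ideal.Quotient.mk ((maximalIdeal A).map (algebraMap A B)) y) hyb hyb2
    haveI := hregq
    haveI : IsRegularLocalRing ((B ⧸ Ideal.span {y}) ⧸
        (maximalIdeal A).map (algebraMap A (B ⧸ Ideal.span {y}))) :=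
      IsRegularLocalRing.of_ringEquiv (fibreQuotEquiv' A B y).symm
    have h1 : (maximalIdeal ((B ⧸ Ideal.span {y}) ⧸
        (maximalIdeal A).map (algebraMap A (B ⧸ Ideal.span {y})))).spanFinrank = r := by
      rw [spanFinrank_maximalIdeal_of_ringEquiv (fibreQuotEquiv' A B y).symm]
      omega
    have h2 := ih (B ⧸ Ideal.span {y}) h1
    have h3 := helper24.EmbDim1.spanFinrank_quotient_singleton y hym hy2
    omega

end Groth.Agent.Lib.helper24.EmbDim2
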