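import Mathlib
import Groth.Agent.Lib.Helper24.EmbDim2
import Groth.Agent.Lib.Helper24.FlatDimFormula

/-! Regularity along flat local homomorphisms with `m_A B = m_B`; base change of a rational point
to a bigger field (helper24). -/

set_option autoImplicit false
universe u

namespace Groth.Agent.Lib.helper24.RegBC1

open IsLocalRing TensorProduct Groth.Agent.Lib

/-- flat local hom with `m_A B = m_B`: `A` is regular iff `B` is -/
theorem isRegularLocalRing_iff_of_flat_of_map_eq (A B : Type u) [CommRing A] [CommRing B]
    [IsLocalRing A] [IsLocalRing B] [IsNoetherianRing A] [IsNoetherianRing B] [Algebra A B]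
    [IsLocalHom (algebraMap A B)] [Module.Flat A B]
    (h : (maximalIdeal A).map (algebraMap A B) = maximalIdeal B) :
    IsRegularLocalRing A ↔ IsRegularLocalRing B := by
  rw [isRegularLocalRing_iff, isRegularLocalRing_iff, helper24.EmbDim2.spanFinrank_eq_of_map_eq A B h,
    Helper24.FlatDimFormula.ringKrullDim_eq_add_of_flat A B]
  have h0 : ringKrullDim (B ⧸ (maximalIdeal A).map (algebraMap A B)) = 0 := by
    rw [ringKrullDim_eq_of_ringEquiv (Ideal.quotEquivOfEq h)]
    exact ringKrullDim_eq_zero_of_isField
      ((Ideal.Quotient.maximal_ideal_iff_isField_quotient _).1 (maximalIdeal.isMaximal B))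
  rw [h0, add_zero]

theorem main (k K A : Type u) [Field k] [Field K] [Algebra k K] [CommRing A] [Algebra k A]
    [IsLocalRing A] [IsNoetherianRing A]
    (π : A →ₐ[k] k) (hπ : RingHom.ker π = maximalIdeal A)
    (m' : Ideal (K ⊗[k] A)) [m'.IsPrime]
    (hm' : m' = RingHom.ker ((Algebra.TensorProduct.rid k K K).toAlgHom.comp
      (Algebra.TensorProduct.map (AlgHom.id K K) π)))
    [IsNoetherianRing (Localization.AtPrime m')] :
    IsRegularLocalRing A ↔ IsRegularLocalRing (Localization.AtPrime m') := by
  have hπs : Function.Surjective π := by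
    intro c
    exact ⟨algebraMap k A c, by simp⟩
  let ι : A →+* K ⊗[k] A := (Algebra.TensorProduct.includeRight : A →ₐ[k] K ⊗[k] A).toRingHom
  let loc : K ⊗[k] A →+* Localization.AtPrime m' := algebraMap _ _
  let φ : A →+* Localization.AtPrime m' := loc.comp ι
  have h1 : m' = (maximalIdeal A).map ι := by
    rw [hm', ← hπ]
    have h2 := Algebra.TensorProduct.lTensor_ker (A := K) π hπs
    have h2' : Ideal.map ι (RingHom.ker π) = Ideal.map
        (Algebra.TensorProduct.includeRight : A →ₐ[k] K ⊗[k] A) (RingHom.ker π) := rfl
    rw [h2', ← h2]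
    ext x
    simp only [RingHom.mem_ker, AlgHom.comp_apply]
    constructor
    · intro hx
      exact (Algebra.TensorProduct.rid k K K).injective (hx.trans (map_zero _).symm)
    · intro hx
      have hx' : (Algebra.TensorProduct.map (AlgHom.id K K) π) x = 0 := hx
      rw [AlgEquiv.coe_toAlgHom, hx', map_zero]
  have hmax : (maximalIdeal A).map φ = maximalIdeal (Localization.AtPrime m') := by
    rw [← Ideal.map_map, ← h1]
    exact Localization.AtPrime.map_eq_maximalIdeal
  letI : Algebra A (Localization.AtPrime m') := φ.toAlgebra
  haveI : IsLocalHom (algebraMap A (Localization.AtPrime m')) :=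
    ((IsLocalRing.local_hom_TFAE φ).out 0 2).2 hmax.le
  haveI : Module.Flat A (Localization.AtPrime m') := by
    have hι : ι.Flat := by
      have e1 : ι = ((Algebra.TensorProduct.comm k A K).toAlgHom.toRingHom).comp
          (algebraMap A (A ⊗[k] K)) := by
        ext a
        simp [ι]
      rw [e1]
      refine RingHom.Flat.comp ?_ ?_
      · rw [RingHom.flat_algebraMap_iff]
        infer_instance
      · exact RingHom.Flat.of_bijective (Algebra.TensorProduct.comm k A K).bijective
    have hloc : loc.Flat := by
      rw [RingHom.flat_algebraMap_iff]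
      infer_instance
    exact RingHom.Flat.comp hι hloc
  exact isRegularLocalRing_iff_of_flat_of_map_eq A (Localization.AtPrime m') hmax

end Groth.Agent.Lib.helper24.RegBC1
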