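import Mathlib
import Groth.Prelude.Def_FlatCA

/-!
Weakly associated primes under flat base change: finite flat, étale, (strict) henselization
(helper24).

We work with an elementwise reformulation `W B u N` of `u ∈ FlatCA.weakAss B N`.
-/

set_option autoImplicit false

noncomputable section

namespace Groth.Agent.Lib.Helper24.WeakAssBC

open TensorProduct

universe u v w

/-- Elementwise form of "`u` is weakly associated to `N`". -/
def W (B : Type*) [CommRing B] (u : Ideal B) (N : Type*) [AddCommGroup N] [Module B N] : Prop :=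
  ∃ y : N, (∀ s : B, s ∉ u → s • y ≠ 0) ∧ ∀ b ∈ u, ∃ s : B, s ∉ u ∧ ∃ n : ℕ, (s * b ^ n) • y = 0

theorem exists_mul_pow_mem {B : Type*} [CommRing B] {I u : Ideal B} (hu : u ∈ I.minimalPrimes)
    {b : B} (hb : b ∈ u) : ∃ s : B, s ∉ u ∧ ∃ n : ℕ, s * b ^ n ∈ I := by
  haveI := hu.1.1
  have hrad := IsLocalization.AtPrime.radical_map_of_mem_minimalPrimes
    (A := Localization.AtPrime u) u I hu
  have hmem : algebraMap B (Localization.AtPrime u) b ∈
      (I.map (algebraMap B (Localization.AtPrime u))).radical := by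
    rw [hrad]
    exact Ideal.mem_map_of_mem _ hb
  obtain ⟨n, hn⟩ := hmem
  rw [← map_pow, IsLocalization.mem_map_algebraMap_iff (M := u.primeCompl)] at hn
  obtain ⟨⟨a, c⟩, hn⟩ := hn
  rw [← map_mul, IsLocalization.eq_iff_exists u.primeCompl] at hn
  obtain ⟨t, ht⟩ := hn
  refine ⟨(t : B) * (c : B), (t * c).2, n, ?_⟩
  have : (t : B) * (c : B) * b ^ n = t * a := by
    rw [mul_assoc, mul_comm (c : B), ht]
  rw [this]
  exact I.mul_mem_left _ a.2

theorem mem_weakAss_iff {B : Type u} [CommRing B] (u : Ideal B) [hu : u.IsPrime] (N : Type v)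
    [AddCommGroup N] [Module B N] : u ∈ FlatCA.weakAss B N ↔ W B u N := by
  constructor
  · rintro ⟨y, hy⟩
    refine ⟨y, ?_, ?_⟩
    · intro s hs h0
      apply hs
      apply hy.1.2
      rw [Submodule.mem_annihilator_span_singleton]
      exact h0
    · intro b hb
      obtain ⟨s, hs, n, hn⟩ := exists_mul_pow_mem hy hb
      rw [Submodule.mem_annihilator_span_singleton] at hn
      exact ⟨s, hs, n, hn⟩
  · rintro ⟨y, h1, h2⟩
    refine ⟨y, ⟨hu, ?_⟩, ?_⟩
    · intro s hs
      rw [Submodule.mem_annihilator_span_singleton] at hs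
      by_contra hsu
      exact h1 s hsu hs
    · rintro P ⟨hP, hIP⟩ hPu b hb
      obtain ⟨s, hs, n, hn⟩ := h2 b hb
      have hmem : s * b ^ n ∈ P := by
        apply hIP
        rw [Submodule.mem_annihilator_span_singleton]
        exact hn
      rcases hP.mem_or_mem hmem with h | h
      · exact absurd (hPu h) hs
      · exact hP.mem_of_pow_mem n h

section GoingUp

variable {A : Type u} {B : Type v} [CommRing A] [CommRing B] [Algebra A B]
  (M : Type w) [AddCommGroup M] [Module A M]

/-- Flatness: if `s ⊗ x = 0` then `s ∈ Ann(x) B`. -/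
theorem mem_map_of_tmul_eq_zero [Module.Flat A B] (p : Ideal A) (x : M)
    (hx : ∀ a : A, a • x = 0 → a ∈ p) (s : B) (hs : s ⊗ₜ[A] x = 0) :
    s ∈ p.map (algebraMap A B) := by
  let f : A →ₗ[A] M := LinearMap.toSpanSingleton A M x
  have hker := Module.Flat.ker_lTensor_eq B B f
  have hmem : s ⊗ₜ[A] (1 : A) ∈ LinearMap.ker (AlgebraTensorModule.lTensor B B f) := by
    rw [LinearMap.mem_ker]
    show s ⊗ₜ[A] (f 1) = 0
    show s ⊗ₜ[A] ((1 : A) • x) = 0
    rw [one_smul, hs]
  rw [hker] at hmem
  obtain ⟨w, hw⟩ := hmem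
  let ρ : B ⊗[A] A →ₗ[A] B := (TensorProduct.rid A B).toLinearMap
  have hρ : ∀ w : B ⊗[A] (LinearMap.ker f),
      ρ (AlgebraTensorModule.lTensor B B (LinearMap.ker f).subtype w) ∈ p.map (algebraMap A B) := by
    intro w
    induction w using TensorProduct.induction_on with
    | zero => simp
    | tmul b a =>
      show ρ (b ⊗ₜ[A] (a : A)) ∈ _
      show (TensorProduct.rid A B) (b ⊗ₜ[A] (a : A)) ∈ _
      rw [TensorProduct.rid_tmul, Algebra.smul_def]
      apply Ideal.mul_mem_right
      apply Ideal.mem_map_of_mem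
      apply hx
      have := a.2
      rw [LinearMap.mem_ker] at this
      exact this
    | add x y hx hy =>
      rw [map_add, map_add]
      exact Ideal.add_mem _ hx hy
  have := hρ w
  rw [hw] at this
  have h2 : ρ (s ⊗ₜ[A] (1 : A)) = s := by
    show (TensorProduct.rid A B) (s ⊗ₜ[A] (1 : A)) = s
    rw [TensorProduct.rid_tmul, one_smul]
  rw [h2] at this
  exact this

/-- The saturated annihilator of `y` with respect to `A ∖ p`. -/
def satAnn (p : Ideal A) [hp : p.IsPrime] {N : Type*} [AddCommGroup N] [Module B N] (y : N) :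
    Ideal B where
  carrier := {c | ∃ a : A, a ∉ p ∧ (algebraMap A B a * c) • y = 0}
  add_mem' := by
    rintro c d ⟨a, ha, hc⟩ ⟨a', ha', hd⟩
    refine ⟨a * a', fun h => (hp.mem_or_mem h).elim ha ha', ?_⟩
    have e : algebraMap A B (a * a') * (c + d) =
        algebraMap A B a' * (algebraMap A B a * c) + algebraMap A B a * (algebraMap A B a' * d) := by
      rw [map_mul]; ring
    rw [e, add_smul, mul_smul, hc, smul_zero, mul_smul, hd, smul_zero, add_zero]
  zero_mem' := ⟨1, fun h => hp.ne_top ((Ideal.eq_top_iff_one _).2 h), by simp⟩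
  smul_mem' := by
    rintro c d ⟨a, ha, hd⟩
    refine ⟨a, ha, ?_⟩
    have e : algebraMap A B a * (c • d) = c * (algebraMap A B a * d) := by
      rw [smul_eq_mul]; ring
    rw [e, mul_smul, hd, smul_zero]

/-- Weakly associated primes go up along flat maps with zero-dimensional fibre at `u`. -/
theorem W_baseChange_of_flat [Module.Flat A B] (p : Ideal A) (u : Ideal B) [hu : u.IsPrime]
    (hup : u.comap (algebraMap A B) = p)
    (hmin : ∀ b ∈ u, ∃ s : B, s ∉ u ∧ ∃ n : ℕ, s * b ^ n ∈ p.map (algebraMap A B))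
    (h : W A p M) : W B u (B ⊗[A] M) := by
  haveI hp : p.IsPrime := hup ▸ Ideal.comap_isPrime _ _
  obtain ⟨x, h1, h2⟩ := h
  have hpu : p.map (algebraMap A B) ≤ u := by
    rw [Ideal.map_le_iff_le_comap, hup]
  have hau : ∀ a : A, a ∉ p → algebraMap A B a ∉ u := by
    intro a ha h
    apply ha
    rw [← hup]
    exact h
  refine ⟨(1 : B) ⊗ₜ[A] x, ?_, ?_⟩
  · intro s hs h0
    rw [TensorProduct.smul_tmul', smul_eq_mul, mul_one] at h0
    apply hs
    apply hpu
    refine mem_map_of_tmul_eq_zero M p x ?_ s h0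
    intro a ha
    by_contra hap
    exact h1 a hap ha
  · have hle : p.map (algebraMap A B) ≤ (satAnn (B := B) p ((1 : B) ⊗ₜ[A] x)).radical := by
      rw [Ideal.map_le_iff_le_comap]
      intro a ha
      obtain ⟨a', ha', n, hn⟩ := h2 a ha
      refine ⟨n, a', ha', ?_⟩
      rw [← map_pow, ← map_mul, TensorProduct.smul_tmul', smul_eq_mul, mul_one,
        Algebra.algebraMap_eq_smul_one, TensorProduct.smul_tmul, hn, TensorProduct.tmul_zero]
    intro b hb
    obtain ⟨s, hs, n, hn⟩ := hmin b hb
    obtain ⟨k, a, ha, hk⟩ := hle hn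
    refine ⟨algebraMap A B a * s ^ k, ?_, n * k, ?_⟩
    · intro h
      rcases hu.mem_or_mem h with h | h
      · exact hau a ha h
      · exact hs (hu.mem_of_pow_mem k h)
    · have e : algebraMap A B a * s ^ k * b ^ (n * k) = algebraMap A B a * (s * b ^ n) ^ k := by
        rw [mul_pow, ← pow_mul]; ring
      rw [e]
      exact hk

end GoingUp

section GoingDown

variable {A : Type u} {B : Type v} [CommRing A] [CommRing B] [Algebra A B]
  [Algebra.IsIntegral A B]
  (N : Type w) [AddCommGroup N] [Module A N] [Module B N] [IsScalarTower A B N]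

/-- Weakly associated primes go down along integral maps with finitely many primes in the fibre. -/
theorem W_restrictScalars_of_isIntegral (p : Ideal A) [hp : p.IsPrime]
    (hfin : (p.primesOver B).Finite) (t : Ideal B) [ht : t.IsPrime]
    (htp : t.comap (algebraMap A B) = p) (h : W B t N) : W A p N := by
  classical
  obtain ⟨y, h1, h2⟩ := h
  -- separate `t` from the other primes over `p`
  have claim1 : ∀ t' : Ideal B, t' ∈ p.primesOver B → t' ≠ t →
      ∃ κ : B, κ ∉ t ∧ ∃ σ : B, σ ∉ t' ∧ (σ * κ) • y = 0 := by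
    intro t' ht' hne
    haveI : t'.IsPrime := ht'.1
    by_contra hcon
    push Not at hcon
    let I : Ideal B := LinearMap.ker (LinearMap.toSpanSingleton B N y)
    have hI : ∀ c, c ∈ I ↔ c • y = 0 := fun c => by
      rw [LinearMap.mem_ker, LinearMap.toSpanSingleton_apply]
    have hdisj : Disjoint (I : Set B) (t.primeCompl ⊔ t'.primeCompl : Submonoid B) := by
      rw [Set.disjoint_left]
      intro c hc hcS
      obtain ⟨κ, hκ, σ, hσ, rfl⟩ := Submonoid.mem_sup.1 hcS
      refine hcon κ hκ σ hσ ?_
      rw [mul_comm]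
      exact (hI _).1 hc
    obtain ⟨P, hP, hIP, hPS⟩ := Ideal.exists_le_prime_disjoint I _ hdisj
    have hPt : P ≤ t := by
      intro c hc
      by_contra hct
      exact Set.disjoint_left.1 hPS hc (Submonoid.mem_sup_left hct)
    have hPt' : P ≤ t' := by
      intro c hc
      by_contra hct
      exact Set.disjoint_left.1 hPS hc (Submonoid.mem_sup_right hct)
    have htP : t ≤ P := by
      intro b hb
      obtain ⟨s, hs, n, hn⟩ := h2 b hb
      have hmem : s * b ^ n ∈ P := hIP ((hI _).2 hn)
      rcases hP.mem_or_mem hmem with h | h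
      · exact absurd (hPt h) hs
      · exact hP.mem_of_pow_mem n h
    have htt' : t ≤ t' := htP.trans hPt'
    have hlt : t < t' := lt_of_le_of_ne htt' (Ne.symm hne)
    have := Ideal.IsIntegral.comap_lt_comap (R := A) hlt
    rw [htp] at this
    have h' : t'.comap (algebraMap A B) = p := (ht'.2.over).symm
    rw [h'] at this
    exact lt_irrefl _ this
  choose! κ hκ σ hσ hκσ using claim1
  let F : Finset (Ideal B) := hfin.toFinset.erase t
  have hF : ∀ t', t' ∈ F ↔ t' ∈ p.primesOver B ∧ t' ≠ t := by
    intro t'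
    simp only [F, Finset.mem_erase, Set.Finite.mem_toFinset]
    tauto
  let K : B := ∏ t' ∈ F, κ t'
  have hK : K ∉ t := by
    intro h
    obtain ⟨t', ht', hmem⟩ := Ideal.IsPrime.prod_mem_iff.1 h
    exact hκ t' ((hF t').1 ht').1 ((hF t').1 ht').2 hmem
  have hσK : ∀ t' ∈ F, (σ t' * K) • y = 0 := by
    intro t' ht'
    have e : σ t' * K = (∏ x ∈ F.erase t', κ x) * (σ t' * κ t') := by
      show σ t' * (∏ x ∈ F, κ x) = _
      rw [← Finset.mul_prod_erase F κ ht']
      ring
    rw [e, mul_smul, hκσ t' ((hF t').1 ht').1 ((hF t').1 ht').2, smul_zero]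
  have hau : ∀ a : A, a ∉ p → algebraMap A B a ∉ t := by
    intro a ha h
    apply ha
    rw [← htp]
    exact h
  refine ⟨K • y, ?_, ?_⟩
  · intro a ha h0
    rw [← algebraMap_smul B a, smul_smul] at h0
    refine h1 _ ?_ h0
    intro h
    rcases ht.mem_or_mem h with h | h
    · exact hau a ha h
    · exact hK h
  · intro a ha
    have hb : algebraMap A B a ∈ t := by
      have : a ∈ t.comap (algebraMap A B) := by rw [htp]; exact ha
      exact this
    obtain ⟨s, hs, n, hn⟩ := h2 _ hb
    by_contra hcon
    push Not at hcon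
    let J : Ideal B := LinearMap.ker (LinearMap.toSpanSingleton B N (K • y))
    have hJ : ∀ c, c ∈ J ↔ c • K • y = 0 := fun c => by
      rw [LinearMap.mem_ker, LinearMap.toSpanSingleton_apply]
    have hle : (J ⊔ Ideal.span {s}).comap (algebraMap A B) ≤ p := by
      intro a' ha'
      by_contra hap
      rw [Ideal.mem_comap, Submodule.mem_sup] at ha'
      obtain ⟨j, hj, c', hc', hsum⟩ := ha'
      obtain ⟨c, rfl⟩ := Ideal.mem_span_singleton'.1 hc'
      refine hcon a' hap n ?_
      rw [← algebraMap_smul B (a' * a ^ n), map_mul, map_pow, ← hsum, add_mul, add_smul]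
      have e1 : (j * algebraMap A B a ^ n) • K • y = 0 := by
        rw [mul_comm, mul_smul, (hJ j).1 hj, smul_zero]
      have e2 : (c * s * algebraMap A B a ^ n) • K • y = 0 := by
        rw [smul_smul]
        have : c * s * algebraMap A B a ^ n * K = (c * K) * (s * algebraMap A B a ^ n) := by ring
        rw [this, mul_smul, hn, smul_zero]
      rw [e1, e2, add_zero]
    obtain ⟨Q, hQK, hQ, hQp⟩ := Ideal.exists_ideal_over_prime_of_isIntegral p _ hle
    have hQmem : Q ∈ p.primesOver B := ⟨hQ, ⟨hQp.symm⟩⟩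
    by_cases hQt : Q = t
    · apply hs
      rw [← hQt]
      exact hQK (Ideal.mem_sup_right (Ideal.mem_span_singleton_self s))
    · have hQF : Q ∈ F := (hF Q).2 ⟨hQmem, hQt⟩
      apply hσ Q hQmem hQt
      apply hQK
      apply Ideal.mem_sup_left
      rw [hJ, smul_smul]
      exact hσK Q hQF

end GoingDown

section Free

variable {A : Type u} [CommRing A]

theorem W_of_linearEquiv {N N' : Type*} [AddCommGroup N] [AddCommGroup N'] [Module A N]
    [Module A N'] (e : N ≃ₗ[A] N') (p : Ideal A) (h : W A p N) : W A p N' := by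
  obtain ⟨y, h1, h2⟩ := h
  refine ⟨e y, ?_, ?_⟩
  · intro s hs h0
    rw [← map_smul, LinearEquiv.map_eq_zero_iff] at h0
    exact h1 s hs h0
  · intro b hb
    obtain ⟨s, hs, n, hn⟩ := h2 b hb
    refine ⟨s, hs, n, ?_⟩
    rw [← map_smul, hn, map_zero]

theorem W_of_pi {ι : Type*} [Finite ι] (p : Ideal A) [hp : p.IsPrime] (M : Type*)
    [AddCommGroup M] [Module A M] (h : W A p (ι → M)) : W A p M := by
  classical
  haveI := Fintype.ofFinite ι
  obtain ⟨y, h1, h2⟩ := h
  have hex : ∃ i, ∀ a : A, a ∉ p → a • y i ≠ 0 := by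
    by_contra hcon
    push Not at hcon
    choose a ha ha0 using hcon
    have hprod : (∏ i, a i) ∉ p := by
      intro h
      obtain ⟨i, -, hi⟩ := Ideal.IsPrime.prod_mem_iff.1 h
      exact ha i hi
    refine h1 _ hprod ?_
    funext i
    rw [Pi.smul_apply, Pi.zero_apply, ← Finset.mul_prod_erase Finset.univ a (Finset.mem_univ i),
      mul_comm, mul_smul, ha0 i, smul_zero]
  obtain ⟨i, hi⟩ := hex
  refine ⟨y i, hi, ?_⟩
  intro b hb
  obtain ⟨s, hs, n, hn⟩ := h2 b hb
  refine ⟨s, hs, n, ?_⟩
  have := congrFun hn i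
  rw [Pi.smul_apply, Pi.zero_apply] at this
  exact this

theorem W_of_free_tensor (F : Type*) [AddCommGroup F] [Module A F] [Module.Free A F]
    [Module.Finite A F] (p : Ideal A) [hp : p.IsPrime] (M : Type*) [AddCommGroup M] [Module A M]
    (h : W A p (F ⊗[A] M)) : W A p M := by
  let b := Module.Free.chooseBasis A F
  have e1 : F ⊗[A] M ≃ₗ[A] (Module.Free.ChooseBasisIndex A F →₀ M) :=
    TensorProduct.equivFinsuppOfBasisLeft b
  have e2 : (Module.Free.ChooseBasisIndex A F →₀ M) ≃ₗ[A] (Module.Free.ChooseBasisIndex A F → M) :=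
    Finsupp.linearEquivFunOnFinite A M _
  exact W_of_pi p M (W_of_linearEquiv (e1.trans e2) p h)

end Free

section Localization

variable {B : Type*} {B' : Type*} [CommRing B] [CommRing B'] [Algebra B B'] (S : Submonoid B)
  [IsLocalization S B']
  {N N' : Type*} [AddCommGroup N] [Module B N] [AddCommGroup N'] [Module B N'] [Module B' N']
  [IsScalarTower B B' N'] (f : N →ₗ[B] N') [IsLocalizedModule S f]

include S f in
/-- `W` is invariant under localization. -/
theorem W_localization_iff (u' : Ideal B') [hu' : u'.IsPrime] :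
    W B' u' N' ↔ W B (u'.comap (algebraMap B B')) N := by
  have hunit : ∀ s : S, algebraMap B B' s ∉ u' := by
    intro s hs
    exact hu'.ne_top (Ideal.eq_top_of_isUnit_mem _ hs (IsLocalization.map_units B' s))
  have hSu : ∀ s : S, (s : B) ∉ u'.comap (algebraMap B B') := fun s hs => hunit s hs
  haveI hu : (u'.comap (algebraMap B B')).IsPrime := Ideal.comap_isPrime _ _
  -- numerators of elements outside `u'` lie outside `u`
  have hnum : ∀ (σ' : B') (c : B) (s₁ : S), σ' ∉ u' → σ' * algebraMap B B' s₁ = algebraMap B B' c →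
      c ∉ u'.comap (algebraMap B B') := by
    intro σ' c s₁ hσ' he hc
    rw [Ideal.mem_comap, ← he] at hc
    rcases hu'.mem_or_mem hc with h | h
    · exact hσ' h
    · exact hunit s₁ h
  constructor
  · rintro ⟨y', h1, h2⟩
    obtain ⟨⟨y, s₀⟩, hy⟩ := IsLocalizedModule.surj S f y'
    simp only at hy
    refine ⟨y, ?_, ?_⟩
    · intro s hs h0
      have h3 : (algebraMap B B' s * algebraMap B B' s₀) • y' = 0 := by
        rw [mul_smul, algebraMap_smul, algebraMap_smul, ← Submonoid.smul_def, hy, ← map_smul, h0,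
          map_zero]
      refine h1 _ ?_ h3
      intro h
      rcases hu'.mem_or_mem h with h | h
      · exact hs h
      · exact hunit s₀ h
    · intro b hb
      obtain ⟨σ', hσ', n, hn⟩ := h2 _ hb
      obtain ⟨⟨c, s₁⟩, hc⟩ := IsLocalization.surj S σ'
      simp only at hc
      have hcu := hnum σ' c s₁ hσ' hc
      have h3 : f ((c * b ^ n) • y) = 0 := by
        rw [map_smul, ← hy, Submonoid.smul_def, ← algebraMap_smul B' (c * b ^ n),
          ← algebraMap_smul B' (s₀ : B), smul_comm, map_mul, map_pow, ← hc]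
        have : σ' * algebraMap B B' s₁ * algebraMap B B' b ^ n =
            algebraMap B B' s₁ * (σ' * algebraMap B B' b ^ n) := by ring
        rw [this, mul_smul, hn, smul_zero, smul_zero]
      obtain ⟨s₂, hs₂⟩ := (IsLocalizedModule.eq_zero_iff S f).1 h3
      refine ⟨s₂ * c, ?_, n, ?_⟩
      · intro h
        rcases hu.mem_or_mem h with h | h
        · exact hSu s₂ h
        · exact hcu h
      · rw [mul_assoc, mul_smul, ← Submonoid.smul_def]
        exact hs₂
  · rintro ⟨y, h1, h2⟩
    refine ⟨f y, ?_, ?_⟩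
    · intro σ' hσ' h0
      obtain ⟨⟨c, s₁⟩, hc⟩ := IsLocalization.surj S σ'
      simp only at hc
      have hcu := hnum σ' c s₁ hσ' hc
      have h3 : f (c • y) = 0 := by
        rw [map_smul, ← algebraMap_smul B' c, ← hc, mul_comm, mul_smul, h0, smul_zero]
      obtain ⟨s₂, hs₂⟩ := (IsLocalizedModule.eq_zero_iff S f).1 h3
      refine h1 (s₂ * c) ?_ ?_
      · intro h
        rcases hu.mem_or_mem h with h | h
        · exact hSu s₂ h
        · exact hcu h
      · rw [mul_smul, ← Submonoid.smul_def]
        exact hs₂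
    · intro β' hβ'
      obtain ⟨⟨b, s₁⟩, hb⟩ := IsLocalization.surj S β'
      simp only at hb
      have hbu : b ∈ u'.comap (algebraMap B B') := by
        rw [Ideal.mem_comap, ← hb]
        exact Ideal.mul_mem_right _ _ hβ'
      obtain ⟨s, hs, n, hn⟩ := h2 b hbu
      refine ⟨algebraMap B B' s * algebraMap B B' s₁ ^ n, ?_, n, ?_⟩
      · intro h
        rcases hu'.mem_or_mem h with h | h
        · exact hs h
        · exact hunit s₁ (hu'.mem_of_pow_mem n h)
      · have e : algebraMap B B' s * algebraMap B B' s₁ ^ n * β' ^ n =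
            algebraMap B B' (s * b ^ n) := by
          rw [map_mul, map_pow, ← hb]; ring
        rw [e, algebraMap_smul, ← map_smul, hn, map_zero]

end Localization

section FiniteFlat

variable {A : Type u} [CommRing A] (p : Ideal A) [hp : p.IsPrime]

/-- `W` at `p` can be tested after localizing at `p` (tensor form). -/
theorem W_iff_W_localization (N : Type v) [AddCommGroup N] [Module A N] :
    W A p N ↔ W (Localization.AtPrime p) (IsLocalRing.maximalIdeal (Localization.AtPrime p))
      (Localization.AtPrime p ⊗[A] N) := by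
  have h := W_localization_iff p.primeCompl (TensorProduct.mk A (Localization.AtPrime p) N 1)
    (IsLocalRing.maximalIdeal (Localization.AtPrime p))
  have e : (IsLocalRing.maximalIdeal (Localization.AtPrime p)).comap
      (algebraMap A (Localization.AtPrime p)) = p :=
    IsLocalization.AtPrime.under_maximalIdeal (Localization.AtPrime p) p
  rw [h, e]

theorem W_of_finite_flat_tensor (F : Type v) [AddCommGroup F] [Module A F] [Module.Finite A F]
    [Module.Flat A F] (M : Type w) [AddCommGroup M] [Module A M] (h : W A p (F ⊗[A] M)) :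
    W A p M := by
  rw [W_iff_W_localization] at h ⊢
  have e : Localization.AtPrime p ⊗[A] (F ⊗[A] M) ≃ₗ[Localization.AtPrime p]
      (Localization.AtPrime p ⊗[A] F) ⊗[Localization.AtPrime p] (Localization.AtPrime p ⊗[A] M) :=
    AlgebraTensorModule.distribBaseChange A (Localization.AtPrime p) F M
  haveI : Module.Free (Localization.AtPrime p) (Localization.AtPrime p ⊗[A] F) :=
    Module.free_of_flat_of_isLocalRing
  exact W_of_free_tensor (Localization.AtPrime p ⊗[A] F) _ (Localization.AtPrime p ⊗[A] M)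
    (W_of_linearEquiv e _ h)

/-- S1232. -/
theorem mem_weakAss_baseChange_iff_of_finite_flat {A B : Type u} [CommRing A] [CommRing B]
    [Algebra A B] [Module.Finite A B] [Module.Flat A B] (M : Type u) [AddCommGroup M] [Module A M]
    (p : Ideal A) [p.IsPrime] (t : Ideal B) [t.IsPrime] [ht : t.LiesOver p] :
    t ∈ FlatCA.weakAss B (B ⊗[A] M) ↔ p ∈ FlatCA.weakAss A M := by
  rw [mem_weakAss_iff, mem_weakAss_iff]
  have htp : t.comap (algebraMap A B) = p := ht.over.symm
  constructor
  · intro h
    have h1 : W A p (B ⊗[A] M) :=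
      W_restrictScalars_of_isIntegral (B ⊗[A] M) p (Algebra.QuasiFinite.finite_primesOver p) t htp h
    exact W_of_finite_flat_tensor p B M h1
  · intro h
    refine W_baseChange_of_flat M p t htp ?_ h
    intro b hb
    have hmin := Ideal.IsIntegral.mem_minimalPrimes_map_under (R := A) t
    rw [Ideal.under_def, htp] at hmin
    exact exists_mul_pow_mem hmin hb

end FiniteFlat

section Transfer

theorem W_of_ringEquiv {B B' : Type*} [CommRing B] [CommRing B'] (e : B ≃+* B') {N N' : Type*}
    [AddCommGroup N] [Module B N] [AddCommGroup N'] [Module B' N'] (φ : N ≃+ N')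
    (hφ : ∀ (b : B) (y : N), φ (b • y) = e b • φ y) (u : Ideal B) (h : W B u N) :
    W B' (u.comap (e.symm : B' →+* B)) N' := by
  obtain ⟨y, h1, h2⟩ := h
  refine ⟨φ y, ?_, ?_⟩
  · intro s' hs' h0
    have hs : e.symm s' ∉ u := hs'
    refine h1 _ hs ?_
    apply φ.injective
    rw [hφ, RingEquiv.apply_symm_apply, h0, map_zero]
  · intro b' hb'
    have hb : e.symm b' ∈ u := hb'
    obtain ⟨s, hs, n, hn⟩ := h2 _ hb
    refine ⟨e s, ?_, n, ?_⟩
    · intro h
      apply hs
      have : e.symm (e s) ∈ u := h
      rwa [RingEquiv.symm_apply_apply] at this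
    · have := congrArg φ hn
      rw [hφ, map_zero, map_mul, map_pow, RingEquiv.apply_symm_apply] at this
      exact this

variable {A : Type*} [CommRing A] (M : Type*) [AddCommGroup M] [Module A M]

theorem W_tensor_of_algEquiv {B B' : Type*} [CommRing B] [CommRing B'] [Algebra A B]
    [Algebra A B'] (e : B ≃ₐ[A] B') (u : Ideal B) (h : W B u (B ⊗[A] M)) :
    W B' (u.comap (e.symm : B' →+* B)) (B' ⊗[A] M) := by
  let φ : B ⊗[A] M ≃ₗ[A] B' ⊗[A] M := TensorProduct.congr e.toLinearEquiv (LinearEquiv.refl A M)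
  have hφt : ∀ (c : B) (x : M), φ (c ⊗ₜ x) = e c ⊗ₜ x := fun c x => rfl
  refine W_of_ringEquiv e.toRingEquiv φ.toAddEquiv ?_ u h
  intro b y
  show φ (b • y) = e b • φ y
  induction y using TensorProduct.induction_on with
  | zero => simp
  | tmul c x =>
    rw [TensorProduct.smul_tmul', hφt, hφt, TensorProduct.smul_tmul', smul_eq_mul, smul_eq_mul,
      map_mul]
  | add x y hx hy =>
    rw [smul_add, map_add, hx, hy, map_add, smul_add]

theorem W_tensor_localization_iff {B B' : Type*} [CommRing B] [CommRing B'] [Algebra A B]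
    [Algebra A B'] [Algebra B B'] [IsScalarTower A B B'] (S : Submonoid B) [IsLocalization S B']
    (u' : Ideal B') [u'.IsPrime] :
    W B' u' (B' ⊗[A] M) ↔ W B (u'.comap (algebraMap B B')) (B ⊗[A] M) :=
  W_localization_iff S (AlgebraTensorModule.rTensor A M (Algebra.linearMap B B')) u'

end Transfer

section Etale

open Polynomial

variable {A : Type u} {B : Type u} [CommRing A] [CommRing B] [Algebra A B] [Algebra.Etale A B]
  (M : Type w) [AddCommGroup M] [Module A M] (p : Ideal A) [hp : p.IsPrime] (u : Ideal B)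
  [hu : u.IsPrime]

/-- Weakly associated primes go down along étale maps. -/
theorem W_of_W_tensor_of_etale (hup : u.comap (algebraMap A B) = p) (h : W B u (B ⊗[A] M)) :
    W A p M := by
  obtain ⟨f, hfu, hstd⟩ := Algebra.IsEtaleAt.exists_isStandardEtale (R := A) u
  -- step 1: pass to `B_f`
  have hdisj : Disjoint (Submonoid.powers f : Set B) (u : Set B) :=
    (Ideal.disjoint_powers_iff_notMem_of_isPrime _).mpr hfu
  let uf : Ideal (Localization.Away f) := u.map (algebraMap B (Localization.Away f))
  haveI huf : uf.IsPrime :=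
    IsLocalization.isPrime_of_isPrime_disjoint (Submonoid.powers f) _ _ hu hdisj
  have hufc : uf.comap (algebraMap B (Localization.Away f)) = u :=
    IsLocalization.under_map_of_isPrime_disjoint (Submonoid.powers f) _ hu hdisj
  have h1 : W (Localization.Away f) uf (Localization.Away f ⊗[A] M) := by
    rw [W_tensor_localization_iff M (Submonoid.powers f) uf, hufc]
    exact h
  -- step 2: standard étale presentation
  obtain ⟨P⟩ := hstd.nonempty_standardEtalePresentation
  let e : Localization.Away f ≃ₐ[A] Localization.Away (AdjoinRoot.mk P.f P.g) :=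
    P.equivRing.trans P.P.equivAwayAdjoinRoot
  have h2 := W_tensor_of_algEquiv M e uf h1
  -- step 3: go down to `D = A[X]/(f)`
  haveI : (uf.comap (e.symm : Localization.Away (AdjoinRoot.mk P.f P.g) →+*
      Localization.Away f)).IsPrime := Ideal.comap_isPrime _ _
  rw [W_tensor_localization_iff M (Submonoid.powers (AdjoinRoot.mk P.f P.g))] at h2
  -- step 4: `D` is finite free over `A`
  haveI : Module.Finite A (AdjoinRoot P.f) := P.monic_f.finite_adjoinRoot
  haveI : Module.Free A (AdjoinRoot P.f) := P.monic_f.free_adjoinRoot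
  haveI : ((uf.comap (e.symm : Localization.Away (AdjoinRoot.mk P.f P.g) →+*
      Localization.Away f)).comap (algebraMap (AdjoinRoot P.f)
        (Localization.Away (AdjoinRoot.mk P.f P.g)))).IsPrime := Ideal.comap_isPrime _ _
  have hcomap : ((uf.comap (e.symm : Localization.Away (AdjoinRoot.mk P.f P.g) →+*
      Localization.Away f)).comap (algebraMap (AdjoinRoot P.f)
        (Localization.Away (AdjoinRoot.mk P.f P.g)))).comap (algebraMap A (AdjoinRoot P.f)) = p := by
    rw [← hup, ← hufc]
    ext a
    simp only [Ideal.mem_comap]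
    have e1 : (e.symm : Localization.Away (AdjoinRoot.mk P.f P.g) →+* Localization.Away f)
        (algebraMap (AdjoinRoot P.f) (Localization.Away (AdjoinRoot.mk P.f P.g))
          (algebraMap A (AdjoinRoot P.f) a)) =
        algebraMap B (Localization.Away f) (algebraMap A B a) := by
      rw [← IsScalarTower.algebraMap_apply, ← IsScalarTower.algebraMap_apply]
      exact e.symm.commutes a
    rw [e1]
  have h3 := W_restrictScalars_of_isIntegral (AdjoinRoot P.f ⊗[A] M) p
    (Algebra.QuasiFinite.finite_primesOver p) _ hcomap h2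
  exact W_of_free_tensor (AdjoinRoot P.f) p M h3

end Etale

section EtaleUp

variable {A : Type u} {B : Type u} [CommRing A] [CommRing B] [Algebra A B] [Algebra.Etale A B]
  (p : Ideal A) [hp : p.IsPrime] (u : Ideal B) [hu : u.IsPrime] [hup : u.LiesOver p]

theorem fibre_min_of_etale {b : B} (hb : b ∈ u) :
    ∃ s : B, s ∉ u ∧ ∃ n : ℕ, s * b ^ n ∈ p.map (algebraMap A B) := by
  have hunr : Algebra.IsUnramifiedAt A u := inferInstance
  letI := Localization.AtPrime.algebraOfLiesOver p u
  have hmap := ((Algebra.isUnramifiedAt_iff_map_eq A p u).mp hunr).2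
  have hbm : algebraMap B (Localization.AtPrime u) b ∈
      IsLocalRing.maximalIdeal (Localization.AtPrime u) :=
    (IsLocalization.AtPrime.to_map_mem_maximal_iff _ u b).2 hb
  rw [← hmap, IsScalarTower.algebraMap_eq A B (Localization.AtPrime u), ← Ideal.map_map,
    IsLocalization.mem_map_algebraMap_iff (M := u.primeCompl)] at hbm
  obtain ⟨⟨c, s⟩, hcs⟩ := hbm
  rw [← map_mul, IsLocalization.eq_iff_exists u.primeCompl] at hcs
  obtain ⟨t, ht⟩ := hcs
  refine ⟨(t : B) * (s : B), (t * s).2, 1, ?_⟩
  have e : (t : B) * (s : B) * b ^ 1 = t * c := by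
    rw [pow_one, mul_assoc, mul_comm (s : B) b]
    exact ht
  rw [e]
  exact Ideal.mul_mem_left _ _ c.2

/-- S1233. -/
theorem mem_weakAss_baseChange_iff_of_etale (M : Type u) [AddCommGroup M] [Module A M] :
    u ∈ FlatCA.weakAss B (B ⊗[A] M) ↔ p ∈ FlatCA.weakAss A M := by
  rw [mem_weakAss_iff, mem_weakAss_iff]
  have hupc : u.comap (algebraMap A B) = p := hup.over.symm
  constructor
  · exact W_of_W_tensor_of_etale M p u hupc
  · intro h
    haveI : Module.Flat A B := inferInstance
    exact W_baseChange_of_flat M p u hupc (fun b hb => fibre_min_of_etale p u hb) h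

end EtaleUp

section Stage

open IsLocalRing

theorem W_local_iff {H : Type*} [CommRing H] [IsLocalRing H] (X : Type*) [AddCommGroup X]
    [Module H X] :
    W H (maximalIdeal H) X ↔ ∃ y : X, y ≠ 0 ∧ ∀ c ∈ maximalIdeal H, ∃ n : ℕ, c ^ n • y = 0 := by
  constructor
  · rintro ⟨y, h1, h2⟩
    refine ⟨y, ?_, ?_⟩
    · intro h0
      refine h1 1 ?_ (by rw [h0, smul_zero])
      intro h
      exact (maximalIdeal.isMaximal H).ne_top ((Ideal.eq_top_iff_one _).2 h)
    · intro c hc
      obtain ⟨s, hs, n, hn⟩ := h2 c hc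
      have hu : IsUnit s := by
        by_contra h
        exact hs h
      refine ⟨n, ?_⟩
      rw [mul_smul] at hn
      exact (hu.smul_eq_zero).1 hn
  · rintro ⟨y, h1, h2⟩
    refine ⟨y, ?_, ?_⟩
    · intro s hs h0
      have hu : IsUnit s := by
        by_contra h
        exact hs h
      exact h1 ((hu.smul_eq_zero).1 h0)
    · intro b hb
      obtain ⟨n, hn⟩ := h2 b hb
      refine ⟨1, ?_, n, ?_⟩
      · intro h
        exact (maximalIdeal.isMaximal H).ne_top ((Ideal.eq_top_iff_one _).2 h)
      · rw [one_mul]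
        exact hn

variable {R : Type*} [CommRing R] (N : Type*) [AddCommGroup N] [Module R N]
  {G H : Type*} [CommRing G] [CommRing H] [Algebra R G] [Algebra R H]

theorem rTensor_smul (lam : G →ₐ[R] H) (g : G) (y : G ⊗[R] N) :
    LinearMap.rTensor N lam.toLinearMap (g • y) = lam g • LinearMap.rTensor N lam.toLinearMap y := by
  induction y using TensorProduct.induction_on with
  | zero => simp
  | tmul c x =>
    rw [TensorProduct.smul_tmul', LinearMap.rTensor_tmul, LinearMap.rTensor_tmul,
      TensorProduct.smul_tmul', smul_eq_mul, smul_eq_mul]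
    simp
  | add x y hx hy =>
    rw [smul_add, map_add, hx, hy, map_add, smul_add]

/-- For a faithfully flat algebra map `G → H`, the map `G ⊗ N → H ⊗ N` is injective. -/
theorem rTensor_injective_of_faithfullyFlat [Algebra G H] [IsScalarTower R G H]
    [Module.FaithfullyFlat G H] :
    Function.Injective (LinearMap.rTensor N (IsScalarTower.toAlgHom R G H).toLinearMap) := by
  have h1 := Module.FaithfullyFlat.tensorProduct_mk_injective (A := G) (B := H) (G ⊗[R] N)
  have h2 : ∀ y : G ⊗[R] N,
      LinearMap.rTensor N (IsScalarTower.toAlgHom R G H).toLinearMap y =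
        AlgebraTensorModule.cancelBaseChange R G H H N (TensorProduct.mk G H (G ⊗[R] N) 1 y) := by
    intro y
    induction y using TensorProduct.induction_on with
    | zero => simp
    | tmul c x =>
      rw [LinearMap.rTensor_tmul, TensorProduct.mk_apply,
        AlgebraTensorModule.cancelBaseChange_tmul, Algebra.smul_def, mul_one]
      rfl
    | add x y hx hy =>
      rw [map_add, hx, hy, map_add, map_add]
  intro y y' hyy'
  rw [h2, h2] at hyy'
  exact h1 ((AlgebraTensorModule.cancelBaseChange R G H H N).injective hyy')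

variable [IsLocalRing G] [IsLocalRing H]

theorem W_stage_of_W (lam : G →ₐ[R] H) (hloc : ∀ b ∈ maximalIdeal G, lam b ∈ maximalIdeal H)
    (hinj : Function.Injective (LinearMap.rTensor N lam.toLinearMap))
    (y : G ⊗[R] N) (h1 : LinearMap.rTensor N lam.toLinearMap y ≠ 0)
    (h2 : ∀ c ∈ maximalIdeal H, ∃ n : ℕ, c ^ n • (LinearMap.rTensor N lam.toLinearMap y) = 0) :
    W G (maximalIdeal G) (G ⊗[R] N) := by
  rw [W_local_iff]
  refine ⟨y, ?_, ?_⟩
  · intro h0
    apply h1
    rw [h0, map_zero]
  · intro b hb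
    obtain ⟨n, hn⟩ := h2 _ (hloc b hb)
    refine ⟨n, ?_⟩
    apply hinj
    rw [rTensor_smul, map_pow, hn, map_zero]

end Stage

end Groth.Agent.Lib.Helper24.WeakAssBC

end
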