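import Mathlib
import Groth.Agent.Lib.Helper24.DepthFlat

/-!
# Hartshorne's connectedness lemma (helper24)

`B` Noetherian local of depth `≥ 2` (`HasSeq B 2`).  If every prime contains `I` or `J` and the only
prime containing both is the maximal ideal, then `I` or `J` is contained in the nilradical
(the punctured spectrum is connected).
-/

set_option autoImplicit false
universe u

open IsLocalRing RingTheory.Sequence

namespace Groth.Agent.Lib.Helper24.Hartshorne

open Groth.Agent.Lib.Helper24.DepthFlat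

theorem hasSeq_of_le_depth (B : Type u) [CommRing B] [IsLocalRing B] (n : ℕ)
    (h : (n : ℕ∞) ≤ LocCoh.depth B B) : HasSeq B n := by
  by_contra hno
  rcases Nat.eq_zero_or_pos n with h0 | hpos
  · exact hno (h0 ▸ hasSeq_zero B)
  have hle : LocCoh.depth B B ≤ ((n - 1 : ℕ) : ℕ∞) := by
    rw [depth_eq_iSup]
    refine iSup₂_le fun rs hrs => ?_
    by_contra hlt
    rw [not_le] at hlt
    have hlen : n ≤ rs.length := by
      have : (n - 1 : ℕ) < rs.length := by exact_mod_cast hlt
      omega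
    exact hno (hasSeq_of_le B hlen ⟨rs, rfl, hrs.2, hrs.1⟩)
  have := h.trans hle
  have h2 : n ≤ n - 1 := by exact_mod_cast this
  omega

theorem eq_zero_or_one_of_sq_eq (B : Type u) [CommRing B] [IsLocalRing B] (c : B)
    (hc : c = c * c) : c = 0 ∨ c = 1 := by
  have h0 : c * (1 - c) = 0 := by rw [mul_sub, mul_one, ← hc, sub_self]
  rcases IsLocalRing.isUnit_or_isUnit_one_sub_self c with hu | hu
  · right
    have := hu.mul_right_eq_zero.mp h0
    rw [sub_eq_zero] at this
    exact this.symm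
  · left
    rw [mul_comm] at h0
    exact hu.mul_right_eq_zero.mp h0

/-- **Hartshorne's connectedness lemma.** -/
theorem connected (B : Type u) [CommRing B] [IsLocalRing B] [IsNoetherianRing B]
    (hseq : HasSeq B 2) (I J : Ideal B)
    (hcover : ∀ P : Ideal B, P.IsPrime → I ≤ P ∨ J ≤ P)
    (hmeet : ∀ P : Ideal B, P.IsPrime → I ≤ P → J ≤ P → P = maximalIdeal B) :
    I ≤ nilradical B ∨ J ≤ nilradical B := by
  -- a regular element y ∈ m
  obtain ⟨rs1, hlen1, hmem1, hreg1⟩ := hasSeq_of_le B (show 1 ≤ 2 by norm_num) hseq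
  obtain ⟨y, rfl⟩ : ∃ y, rs1 = [y] := List.length_eq_one_iff.mp hlen1
  have hym : y ∈ maximalIdeal B := hmem1 y (by simp)
  have hyreg : IsSMulRegular B y := by
    have := (isWeaklyRegular_cons_iff B y []).mp hreg1
    exact this.1
  -- I*J ≤ nilradical, nilpotent
  have hIJ : I * J ≤ nilradical B := by
    rw [nilradical_eq_sInf, le_sInf_iff]
    intro P hP
    rcases hcover P hP with h | h
    · exact Ideal.mul_le_left.trans h
    · exact Ideal.mul_le_right.trans h
  obtain ⟨N, hN⟩ := IsNoetherianRing.isNilpotent_nilradical B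
  have hIJN : I ^ N * J ^ N = ⊥ := by
    rw [← mul_pow, eq_bot_iff, ← Ideal.zero_eq_bot, ← hN]
    exact Ideal.pow_right_mono hIJ N
  -- m ≤ radical (I^N ⊔ J^N)
  have hrad : maximalIdeal B ≤ (I ^ N ⊔ J ^ N).radical := by
    rw [Ideal.radical_eq_sInf, le_sInf_iff]
    rintro P ⟨hle, hP⟩
    have h1 : I ≤ P := hP.le_of_pow_le (le_sup_left.trans hle)
    have h2 : J ≤ P := hP.le_of_pow_le (le_sup_right.trans hle)
    rw [hmeet P hP h1 h2]
  obtain ⟨k, hk⟩ := Ideal.exists_pow_le_of_le_radical_of_fg hrad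
    (IsNoetherian.noetherian (maximalIdeal B))
  -- x = y^(k+1)
  set x := y ^ (k + 1) with hx
  have hxm : x ∈ maximalIdeal B := Ideal.pow_mem_of_mem _ hym _ (Nat.succ_pos k)
  have hxreg : IsSMulRegular B x := hyreg.pow (k + 1)
  have hpow_le : maximalIdeal B ^ (k + 1) ≤ I ^ N ⊔ J ^ N :=
    (Ideal.pow_le_pow_right (Nat.le_succ k)).trans hk
  have hxIJ : x ∈ I ^ N ⊔ J ^ N := hpow_le (Ideal.pow_mem_pow hym _)
  obtain ⟨a, ha, b, hb, hab⟩ := Submodule.mem_sup.mp hxIJ
  have hmulIJ : ∀ i ∈ I ^ N, ∀ j ∈ J ^ N, i * j = 0 := by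
    intro i hi j hj
    have : i * j ∈ I ^ N * J ^ N := Ideal.mul_mem_mul hi hj
    rw [hIJN] at this
    exact this
  -- regular element z on B/xB
  have hreg2 : IsWeaklyRegular B [x] := by
    rw [isWeaklyRegular_cons_iff]
    exact ⟨hxreg, IsWeaklyRegular.nil B _⟩
  obtain ⟨rs2, hlen2, hmem2, hregs2⟩ := hseq
  obtain ⟨z, hzm, hzreg⟩ := exists_isSMulRegular_quot_ofList B [x] B hreg2
    (by intro r hr; rw [List.mem_singleton] at hr; rw [hr]; exact hxm)
    ⟨rs2, by simpa using hlen2, hmem2, hregs2⟩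
  -- a ∈ (x)
  have hsub : (Ideal.ofList [x] • ⊤ : Submodule B B) = Ideal.span {x} := by
    rw [Ideal.ofList_singleton, smul_eq_mul, Ideal.mul_top]
  have haspan : a ∈ Ideal.span {x} := by
    have hz' : z ^ (k + 1) ∈ I ^ N ⊔ J ^ N := hpow_le (Ideal.pow_mem_pow hzm _)
    obtain ⟨i, hi, j, hj, hij⟩ := Submodule.mem_sup.mp hz'
    have hmem : z ^ (k + 1) * a ∈ Ideal.span {x} := by
      have hja : j * a = 0 := by rw [mul_comm]; exact hmulIJ a ha j hj
      rw [← hij, add_mul, hja, add_zero]
      -- i * a = i * (x - b) = i * x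
      have hax : a = x - b := by rw [← hab]; ring
      rw [hax, mul_sub, hmulIJ i hi b hb, sub_zero]
      exact Ideal.mul_mem_left _ _ (Ideal.mem_span_singleton_self x)
    have hzpow : IsSMulRegular (B ⧸ (Ideal.ofList [x] • ⊤ : Submodule B B)) (z ^ (k + 1)) :=
      hzreg.pow (k + 1)
    have hq : (Submodule.Quotient.mk a : B ⧸ (Ideal.ofList [x] • ⊤ : Submodule B B)) = 0 := by
      apply hzpow
      change z ^ (k + 1) • (Submodule.Quotient.mk a : B ⧸ (Ideal.ofList [x] • ⊤ : Submodule B B)) =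
        z ^ (k + 1) • 0
      rw [smul_zero, ← Submodule.Quotient.mk_smul, Submodule.Quotient.mk_eq_zero, hsub,
        smul_eq_mul]
      exact hmem
    rw [Submodule.Quotient.mk_eq_zero, hsub] at hq
    exact hq
  obtain ⟨c, hc⟩ := Ideal.mem_span_singleton'.mp haspan
  -- c idempotent
  have hab0 : a * b = 0 := hmulIJ a ha b hb
  have hcc : c = c * c := by
    have h1 : x * (x * c) = a * x := by rw [← hc]; ring
    have h2 : x * (x * (c * c)) = a * a := by rw [← hc]; ring
    have h3 : x * (x * c) = x * (x * (c * c)) := by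
      rw [h1, h2, ← hab, mul_add, hab0, add_zero]
    exact hxreg (hxreg h3)
  rcases eq_zero_or_one_of_sq_eq B c hcc with h0 | h1
  · -- a = 0, x = b ∈ J^N, so I^N = 0
    left
    have ha0 : a = 0 := by rw [← hc, h0, zero_mul]
    have hxb : x = b := by rw [← hab, ha0, zero_add]
    intro i hi
    rw [mem_nilradical]
    refine ⟨N + 1, ?_⟩
    have hiN : i ^ N ∈ I ^ N := Ideal.pow_mem_pow hi N
    have : i ^ N * x = 0 := by rw [hxb]; exact hmulIJ _ hiN b hb
    have h0' : i ^ N = 0 := by
      apply hxreg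
      change x * i ^ N = x * 0
      rw [mul_zero, mul_comm]
      exact this
    rw [pow_succ, h0', zero_mul]
  · right
    have hax : a = x := by rw [← hc, h1, one_mul]
    have hb0 : b = 0 := by
      have := hab
      rw [hax] at this
      exact add_left_cancel (a := x) (by rw [this, add_zero])
    intro j hj
    rw [mem_nilradical]
    refine ⟨N + 1, ?_⟩
    have hjN : j ^ N ∈ J ^ N := Ideal.pow_mem_pow hj N
    have : x * j ^ N = 0 := by rw [← hax]; exact hmulIJ a ha _ hjN
    have h0' : j ^ N = 0 := by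
      apply hxreg
      change x * j ^ N = x * 0
      rw [mul_zero]
      exact this
    rw [pow_succ, h0', zero_mul]

end Groth.Agent.Lib.Helper24.Hartshorne
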