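import Groth.Prelude.Def_WittGrp
import Mathlib

/-!
# Truncated Witt vectors of a perfect field are an artinian local ring with maximal ideal `(p)`
-/

set_option autoImplicit false
set_option linter.unusedSectionVars false
universe u

namespace Groth.Agent.Lib.helper24.WittTrunc

open IsLocalRing

variable (p : ℕ) [hp : Fact p.Prime] (k : Type u) [Field k] [CharP k p] (n : ℕ)

/-- the constant coefficient as a ring homomorphism `W_{n+1}(k) → k`. -/
noncomputable def c0 : TruncatedWittVector p (n + 1) k →+* k where
  toFun x := x.coeff 0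
  map_one' := by
    rw [← map_one (WittVector.truncate (p := p) (R := k) (n + 1)), WittVector.coeff_truncate]
    exact WittVector.one_coeff_zero p k
  map_zero' := by
    rw [← map_zero (WittVector.truncate (p := p) (R := k) (n + 1)), WittVector.coeff_truncate]
    exact WittVector.zero_coeff p k _
  map_add' x y := by
    obtain ⟨X, rfl⟩ := WittVector.truncate_surjective p (n + 1) k x
    obtain ⟨Y, rfl⟩ := WittVector.truncate_surjective p (n + 1) k y
    rw [← map_add, WittVector.coeff_truncate, WittVector.coeff_truncate,
      WittVector.coeff_truncate]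
    exact WittVector.add_coeff_zero X Y
  map_mul' x y := by
    obtain ⟨X, rfl⟩ := WittVector.truncate_surjective p (n + 1) k x
    obtain ⟨Y, rfl⟩ := WittVector.truncate_surjective p (n + 1) k y
    rw [← map_mul, WittVector.coeff_truncate, WittVector.coeff_truncate,
      WittVector.coeff_truncate]
    exact WittVector.mul_coeff_zero X Y

theorem c0_apply (x : TruncatedWittVector p (n + 1) k) : c0 p k n x = x.coeff 0 := rfl

theorem c0_truncate (X : WittVector p k) :
    c0 p k n (WittVector.truncate (n + 1) X) = X.coeff 0 := by
  rw [c0_apply, WittVector.coeff_truncate]; rfl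

theorem c0_surjective : Function.Surjective (c0 p k n) := by
  intro x
  refine ⟨WittVector.truncate (n + 1) (WittVector.teichmuller p x), ?_⟩
  rw [c0_truncate, WittVector.teichmuller_coeff_zero]

instance instNontrivial : Nontrivial (TruncatedWittVector p (n + 1) k) :=
  (c0 p k n).domain_nontrivial

theorem p_pow_eq_zero (m : ℕ) : (p : TruncatedWittVector p m k) ^ m = 0 := by
  have h : (p : TruncatedWittVector p m k) ^ m =
      WittVector.truncate m ((p : WittVector p k) ^ m) := by
    rw [map_pow, map_natCast]
  rw [h]
  apply TruncatedWittVector.ext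
  intro i
  rw [WittVector.coeff_truncate, TruncatedWittVector.coeff_zero]
  exact WittVector.coeff_p_pow_eq_zero p k (ne_of_lt i.2)

theorem c0_truncMap (f : k →+* k) (x : TruncatedWittVector p (n + 1) k) :
    c0 p k n (WittGrp.truncMap p (n + 1) f x) = f (c0 p k n x) :=
  WittGrp.coeff_truncMap p (n + 1) f x 0

theorem isUnit_of_c0_ne_zero (x : TruncatedWittVector p (n + 1) k) (hx : c0 p k n x ≠ 0) :
    IsUnit x := by
  obtain ⟨X, rfl⟩ := WittVector.truncate_surjective p (n + 1) k x
  rw [c0_truncate] at hx
  exact (WittVector.isUnit_of_coeff_zero_ne_zero X hx).map (WittVector.truncate (n + 1))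

theorem isUnit_iff (x : TruncatedWittVector p (n + 1) k) : IsUnit x ↔ c0 p k n x ≠ 0 :=
  ⟨fun h => (h.map (c0 p k n)).ne_zero, isUnit_of_c0_ne_zero p k n x⟩

variable [PerfectRing k p]

instance instIsLocalRing : IsLocalRing (TruncatedWittVector p (n + 1) k) :=
  IsLocalRing.of_surjective' (WittVector.truncate (p := p) (R := k) (n + 1))
    (WittVector.truncate_surjective p (n + 1) k)

theorem mem_maximalIdeal_iff (x : TruncatedWittVector p (n + 1) k) :
    x ∈ maximalIdeal (TruncatedWittVector p (n + 1) k) ↔ c0 p k n x = 0 := by
  rw [mem_maximalIdeal, mem_nonunits_iff, isUnit_iff, not_not]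

theorem c0_eq_zero_iff (x : TruncatedWittVector p (n + 1) k) :
    c0 p k n x = 0 ↔ x ∈ Ideal.span {(p : TruncatedWittVector p (n + 1) k)} := by
  constructor
  · intro hx
    obtain ⟨X, rfl⟩ := WittVector.truncate_surjective p (n + 1) k x
    rw [c0_truncate] at hx
    have hX : X ∈ maximalIdeal (WittVector p k) := by
      rw [mem_maximalIdeal, mem_nonunits_iff]
      intro hu
      have := (hu.map (WittVector.constantCoeff (p := p) (R := k))).ne_zero
      exact this hx
    rw [(WittVector.irreducible p (k := k)).maximalIdeal_eq, Ideal.mem_span_singleton'] at hX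
    obtain ⟨Y, rfl⟩ := hX
    rw [Ideal.mem_span_singleton']
    exact ⟨WittVector.truncate (n + 1) Y, by rw [map_mul, map_natCast]⟩
  · intro hx
    rw [Ideal.mem_span_singleton'] at hx
    obtain ⟨y, rfl⟩ := hx
    rw [map_mul, map_natCast, CharP.cast_eq_zero, mul_zero]

theorem maximalIdeal_eq :
    maximalIdeal (TruncatedWittVector p (n + 1) k) =
      Ideal.span {(p : TruncatedWittVector p (n + 1) k)} := by
  ext x
  rw [mem_maximalIdeal_iff, c0_eq_zero_iff]

theorem ker_c0 :
    maximalIdeal (TruncatedWittVector p (n + 1) k) = RingHom.ker (c0 p k n) := by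
  ext x
  rw [mem_maximalIdeal_iff, RingHom.mem_ker]

/-- the residue field of `W_{n+1}(k)` is `k`. -/
noncomputable def resEquiv : ResidueField (TruncatedWittVector p (n + 1) k) ≃+* k :=
  (Ideal.quotEquivOfEq (ker_c0 p k n)).trans
    (RingHom.quotientKerEquivOfSurjective (c0_surjective p k n))

theorem resEquiv_residue (x : TruncatedWittVector p (n + 1) k) :
    resEquiv p k n (residue _ x) = c0 p k n x := rfl

end Groth.Agent.Lib.helper24.WittTrunc
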