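import Mathlib
import Groth.Agent.Lib.Helper24.CplCM2
import Groth.Agent.S4736

/-!
# Regularity of the completion map is invariant under ring isomorphisms (helper24)

`isRegularHom_cpl_of_ringEquiv`: for Noetherian local rings `B ≃+* B'`, if `B → Cpl B` is a regular
ring map then so is `B' → Cpl B'`.  (Deduced from `S4736`, regular homs localize, applied to the
trivial submonoid.)
-/

set_option autoImplicit false
universe u
open IsLocalRing

namespace Groth.Agent.Lib.Helper24.CplRegIso

open Groth.Agent.Lib.Helper24.CplCM Groth.Agent.Lib.Helper24.CplFlat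

theorem cplEquivOfRingEquiv_of {R S : Type u} [CommRing R] [CommRing S] [IsLocalRing R]
    [IsLocalRing S] (e : R ≃+* S) (r : R) :
    cplEquivOfRingEquiv e (AdicCompletion.of (maximalIdeal R) R r) =
      AdicCompletion.of (maximalIdeal S) S (e r) :=
  complMap_of (maximalIdeal R) (maximalIdeal S) (e : R →+* S)
    (map_maximalIdeal_of_ringEquiv e).le r

theorem isRegularHom_cpl_of_ringEquiv {B B' : Type u} [CommRing B] [CommRing B'] [IsLocalRing B]
    [IsLocalRing B'] [IsNoetherianRing B] [IsNoetherianRing B'] (e : B ≃+* B')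
    (h : CAlg.IsRegularHom B (AdicCompletion (maximalIdeal B) B)) :
    CAlg.IsRegularHom B' (AdicCompletion (maximalIdeal B') B') := by
  letI a1 : Algebra B B' := (e : B →+* B').toAlgebra
  letI a2 : Algebra (AdicCompletion (maximalIdeal B) B) (AdicCompletion (maximalIdeal B') B') :=
    ((cplEquivOfRingEquiv e : AdicCompletion (maximalIdeal B) B ≃+* _) :
      AdicCompletion (maximalIdeal B) B →+* AdicCompletion (maximalIdeal B') B').toAlgebra
  letI a3 : Algebra B (AdicCompletion (maximalIdeal B') B') :=
    ((algebraMap B' (AdicCompletion (maximalIdeal B') B')).comp (algebraMap B B')).toAlgebra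
  haveI t1 : IsScalarTower B B' (AdicCompletion (maximalIdeal B') B') :=
    IsScalarTower.of_algebraMap_eq' rfl
  haveI t2 : IsScalarTower B (AdicCompletion (maximalIdeal B) B)
      (AdicCompletion (maximalIdeal B') B') :=
    IsScalarTower.of_algebraMap_eq' (RingHom.ext fun b => by
      change AdicCompletion.of (maximalIdeal B') B' (e b) =
        cplEquivOfRingEquiv e (AdicCompletion.of (maximalIdeal B) B b)
      rw [cplEquivOfRingEquiv_of])
  have hbot : (⊥ : Submonoid B) ≤ IsUnit.submonoid B := by
    intro x hx
    rw [Submonoid.mem_bot] at hx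
    rw [hx]
    exact isUnit_one
  haveI l1 : IsLocalization (⊥ : Submonoid B) B' := by
    haveI := IsLocalization.self hbot
    exact IsLocalization.isLocalization_of_algEquiv (⊥ : Submonoid B)
      (AlgEquiv.ofRingEquiv (f := e) (fun _ => rfl) : B ≃ₐ[B] B')
  haveI l2 : IsLocalization
      (Algebra.algebraMapSubmonoid (AdicCompletion (maximalIdeal B) B) (⊥ : Submonoid B))
      (AdicCompletion (maximalIdeal B') B') := by
    have hbot' : Algebra.algebraMapSubmonoid (AdicCompletion (maximalIdeal B) B)
        (⊥ : Submonoid B) ≤ IsUnit.submonoid (AdicCompletion (maximalIdeal B) B) := by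
      rintro x ⟨b, hb, rfl⟩
      rw [SetLike.mem_coe, Submonoid.mem_bot] at hb
      rw [hb, map_one]
      exact isUnit_one
    haveI := IsLocalization.self hbot'
    exact IsLocalization.isLocalization_of_algEquiv _
      (AlgEquiv.ofRingEquiv (f := cplEquivOfRingEquiv e) (fun _ => rfl) :
        AdicCompletion (maximalIdeal B) B ≃ₐ[AdicCompletion (maximalIdeal B) B]
          AdicCompletion (maximalIdeal B') B')
  exact @Groth.Agent.S4736.result B (AdicCompletion (maximalIdeal B) B) _ _ _ _ _ h
    (⊥ : Submonoid B) B' (AdicCompletion (maximalIdeal B') B') _ _ a1 a2 _ a3 t1 t2 l1 l2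

end Groth.Agent.Lib.Helper24.CplRegIso
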