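import Mathlib
import Groth.Prelude.Def_EGA4b
import Groth.Agent.S0553
import Groth.Agent.Lib.Helper24.CplRegIso

/-!
# Localizations of excellent rings (helper24)

* `exists_model`: a finite type algebra `B` over a localization `M⁻¹A` is a localization of a finite
  type `A`-algebra `B₀`;
* `isOpen_regLocus_of_isLocalization`: the regular locus of a localization is the preimage of the
  regular locus;
* `isJ2_localization`, `isUniversallyCatenary_localization`, `isGRing_localization`.
-/

set_option autoImplicit false
universe u

namespace Groth.Agent.Lib.Helper24.ExcLoc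

section regLocus

variable (B₀ B : Type u) [CommRing B₀] [CommRing B] [Algebra B₀ B] (M : Submonoid B₀)
  [IsLocalization M B]

include M in
theorem nonempty_ringEquiv_atPrime (q : Ideal B) [q.IsPrime] :
    Nonempty (Localization.AtPrime (q.comap (algebraMap B₀ B)) ≃+* Localization.AtPrime q) := by
  haveI : IsLocalization.AtPrime (Localization.AtPrime q) (q.comap (algebraMap B₀ B)) :=
    IsLocalization.isLocalization_isLocalization_atPrime_isLocalization M _ q
  exact ⟨(IsLocalization.algEquiv (q.comap (algebraMap B₀ B)).primeCompl
    (Localization.AtPrime (q.comap (algebraMap B₀ B))) (Localization.AtPrime q)).toRingEquiv⟩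

include M in
theorem regLocus_eq_preimage :
    EGA4.regLocus B = PrimeSpectrum.comap (algebraMap B₀ B) ⁻¹' EGA4.regLocus B₀ := by
  ext q
  obtain ⟨e⟩ := nonempty_ringEquiv_atPrime B₀ B M q.asIdeal
  constructor
  · intro h
    haveI : IsRegularLocalRing (Localization.AtPrime q.asIdeal) := h
    show IsRegularLocalRing (Localization.AtPrime (q.asIdeal.comap (algebraMap B₀ B)))
    exact IsRegularLocalRing.of_ringEquiv (R := Localization.AtPrime q.asIdeal) e.symm
  · intro h
    haveI : IsRegularLocalRing (Localization.AtPrime (q.asIdeal.comap (algebraMap B₀ B))) := h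
    show IsRegularLocalRing (Localization.AtPrime q.asIdeal)
    exact IsRegularLocalRing.of_ringEquiv
      (R := Localization.AtPrime (q.asIdeal.comap (algebraMap B₀ B))) e

include M in
theorem isOpen_regLocus_of_isLocalization (h : IsOpen (EGA4.regLocus B₀)) :
    IsOpen (EGA4.regLocus B) := by
  rw [regLocus_eq_preimage B₀ B M]
  exact h.preimage (PrimeSpectrum.continuous_comap (algebraMap B₀ B))

end regLocus

section model

attribute [local instance] MvPolynomial.algebraMvPolynomial

variable (A : Type u) [CommRing A] (S : Submonoid A) (A' : Type u) [CommRing A'] [Algebra A A']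
  [IsLocalization S A']

include S in
/-- A finite type algebra over a localization of `A` is a localization of a finite type
`A`-algebra. -/
theorem isOpen_regLocus_of_finiteType (hJ2 : EGA4.IsJ2 A) (B : Type u) [CommRing B] [Algebra A' B]
    (hB : Algebra.FiniteType A' B) : IsOpen (EGA4.regLocus B) := by
  obtain ⟨n, f, hf⟩ := Algebra.FiniteType.iff_quotient_mvPolynomial''.mp hB
  haveI hloc : IsLocalization (S.map (MvPolynomial.C (σ := Fin n)))
      (MvPolynomial (Fin n) A') := inferInstance
  let g : MvPolynomial (Fin n) A →+* B :=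
    f.toRingHom.comp (algebraMap (MvPolynomial (Fin n) A) (MvPolynomial (Fin n) A'))
  letI : Algebra (MvPolynomial (Fin n) A ⧸ RingHom.ker g) B := (RingHom.kerLift g).toAlgebra
  have H : f.toRingHom.comp (algebraMap (MvPolynomial (Fin n) A) (MvPolynomial (Fin n) A')) =
      (algebraMap (MvPolynomial (Fin n) A ⧸ RingHom.ker g) B).comp
        (Ideal.Quotient.mk (RingHom.ker g)) := by
    ext x <;> rfl
  have H' : RingHom.ker f.toRingHom ≤ (RingHom.ker (Ideal.Quotient.mk (RingHom.ker g))).map
      (algebraMap (MvPolynomial (Fin n) A) (MvPolynomial (Fin n) A')) := by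
    rw [Ideal.mk_ker]
    have : RingHom.ker g = (RingHom.ker f.toRingHom).comap
        (algebraMap (MvPolynomial (Fin n) A) (MvPolynomial (Fin n) A')) :=
      (RingHom.comap_ker f.toRingHom _).symm
    rw [this, IsLocalization.map_under (S.map (MvPolynomial.C (σ := Fin n)))]
  haveI : IsLocalization ((S.map (MvPolynomial.C (σ := Fin n))).map
      (Ideal.Quotient.mk (RingHom.ker g))) B :=
    IsLocalization.of_surjective (S.map (MvPolynomial.C (σ := Fin n))) (MvPolynomial (Fin n) A')
      (Ideal.Quotient.mk (RingHom.ker g)) Ideal.Quotient.mk_surjective f.toRingHom hf H H'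
  have hft : Algebra.FiniteType A (MvPolynomial (Fin n) A ⧸ RingHom.ker g) :=
    Algebra.FiniteType.of_surjective (Ideal.Quotient.mkₐ A (RingHom.ker g))
      (Ideal.Quotient.mkₐ_surjective A (RingHom.ker g))
  exact isOpen_regLocus_of_isLocalization (MvPolynomial (Fin n) A ⧸ RingHom.ker g) B
    ((S.map (MvPolynomial.C (σ := Fin n))).map (Ideal.Quotient.mk (RingHom.ker g)))
    (hJ2 _ hft)

include S in
theorem isJ2_localization (hJ2 : EGA4.IsJ2 A) : EGA4.IsJ2 A' :=
  fun B _ _ hB => isOpen_regLocus_of_finiteType A S A' hJ2 B hB

include S in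
theorem isUniversallyCatenary_localization [IsNoetherianRing A]
    (hR : CAlg.IsUniversallyCatenary A) : CAlg.IsUniversallyCatenary A' := by
  refine ⟨IsLocalization.isNoetherianRing S A' inferInstance, fun B _ _ hB => ?_⟩
  obtain ⟨n, f, hf⟩ := Algebra.FiniteType.iff_quotient_mvPolynomial''.mp hB
  refine Groth.Agent.S0553.isCatenary_of_surjective f.toRingHom hf ?_
  refine Groth.Agent.S0553.isCatenary_of_isLocalization (A := MvPolynomial (Fin n) A)
    (S.map (MvPolynomial.C (σ := Fin n))) _ ?_
  exact hR.2 _ inferInstance

end model

section gring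

variable (A : Type u) [CommRing A] (S : Submonoid A)

theorem isGRing_localization (hA : CAlg.IsGRing A) : CAlg.IsGRing (Localization S) := by
  haveI : IsNoetherianRing A := hA.1
  haveI hN : IsNoetherianRing (Localization S) :=
    IsLocalization.isNoetherianRing S (Localization S) inferInstance
  refine ⟨hN, fun q hq => ?_⟩
  have h := hA.2 (q.comap (algebraMap A (Localization S)))
  exact Groth.Agent.Lib.Helper24.CplRegIso.isRegularHom_cpl_of_ringEquiv
    (IsLocalization.localizationLocalizationAtPrimeIsoLocalization S q).toRingEquiv h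

end gring

end Groth.Agent.Lib.Helper24.ExcLoc
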