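import Mathlib
import Groth.Agent.Lib.Helper24.LocGlobN1

/-!
# Nagata rings are universally Japanese, part 1: bounds (helper24)

`Bound K f W`: there is `n` such that every `z ∈ K` integral over `S` has `s ∈ W` with
`f^n s z ∈ S`.  (With `W = S ∖ m` this says that `S_m` is N-1.)

* `bound_of_forall_prime`: local-global principle relative to a submonoid;
* `bound_of_isLocalization`: transfer from a localization;
* `bound_of_finite_extension`: transfer from a finite extension.
-/

set_option autoImplicit false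
universe u

namespace Groth.Agent.Lib.Helper24.NagFT

open Groth.Agent.Lib.Helper24.LocGlobN1

/-- uniform denominators, up to elements of `W`. -/
def Bound {S : Type u} [CommRing S] (K : Type u) [Field K] [Algebra S K] (f : S)
    (W : Submonoid S) : Prop :=
  ∃ n : ℕ, ∀ z : K, IsIntegral S z → ∃ s ∈ W, s • z ∈ Mn K f n

theorem Bound.mono {S : Type u} [CommRing S] {K : Type u} [Field K] [Algebra S K] {f : S}
    {W W' : Submonoid S} (h : W ≤ W') (hb : Bound K f W) : Bound K f W' := by
  obtain ⟨n, hn⟩ := hb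
  refine ⟨n, fun z hz => ?_⟩
  obtain ⟨s, hs, hsz⟩ := hn z hz
  exact ⟨s, h hs, hsz⟩

section G3

variable {R : Type u} [CommRing R] [IsDomain R] [IsNoetherianRing R]
  (K : Type u) [Field K] [Algebra R K] [IsFractionRing R K] (f : R)

/-- From a bound at a prime, an element outside the prime in `In n` for large `n`. -/
theorem exists_mem_In_of_bound (hf : f ≠ 0) (P : Ideal R) [P.IsPrime]
    (hb : Bound K f P.primeCompl) (N : ℕ) :
    ∃ n, N ≤ n ∧ ∃ s : R, s ∉ P ∧ s ∈ In K f n := by
  classical
  obtain ⟨n₀, hn₀⟩ := hb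
  refine ⟨max n₀ N, le_max_right _ _, ?_⟩
  obtain ⟨S, hS⟩ := Mn_fg K f hf (max n₀ N + 1)
  have hch : ∀ z ∈ S, ∃ s : R, s ∉ P ∧ s • z ∈ Mn K f (max n₀ N) := by
    intro z hz
    have hzM : z ∈ Mn K f (max n₀ N + 1) := hS ▸ Submodule.subset_span hz
    obtain ⟨s, hs, hsz⟩ := hn₀ z hzM.1
    exact ⟨s, hs, Mn_mono (le_max_left _ _) hsz⟩
  choose! σ hσ1 hσ2 using hch
  refine ⟨∏ z ∈ S, σ z, ?_, ?_⟩
  · intro hmem
    obtain ⟨z, hz, hzm⟩ := (Ideal.IsPrime.prod_mem_iff (hp := inferInstance)).mp hmem
    exact hσ1 z hz hzm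
  · intro z hz
    rw [← hS] at hz
    induction hz using Submodule.span_induction with
    | mem z hz =>
      rw [← Finset.mul_prod_erase S σ hz, mul_comm, mul_smul]
      exact Submodule.smul_mem _ _ (hσ2 z hz)
    | zero => rw [smul_zero]; exact Submodule.zero_mem _
    | add x y _ _ hx hy => rw [smul_add]; exact Submodule.add_mem _ hx hy
    | smul a x _ hx => rw [smul_comm]; exact Submodule.smul_mem _ _ hx

/-- **Local-global principle** for bounds, relative to a submonoid `W`. -/
theorem bound_of_forall_prime (hf : f ≠ 0)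
    (hpow : ∀ z : K, IsIntegral R z → ∃ n, z ∈ Mn K f n) (W : Submonoid R)
    (h : ∀ (P : Ideal R) [P.IsPrime], Disjoint (P : Set R) (W : Set R) →
      Bound K f P.primeCompl) :
    Bound K f W := by
  obtain ⟨N, hN⟩ := monotone_stabilizes_iff_noetherian.mpr
    (inferInstance : IsNoetherian R R) ⟨In K f, In_mono K f⟩
  have hN' : ∀ n, N ≤ n → In K f n = In K f N := fun n hn => (hN n hn).symm
  have hex : ∃ σ ∈ W, σ ∈ In K f N := by
    by_contra hcon
    push Not at hcon
    have hdisj : Disjoint ((In K f N : Ideal R) : Set R) (W : Set R) :=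
      Set.disjoint_left.mpr (fun a ha hs => hcon a hs ha)
    obtain ⟨P, hP, hle, hPd⟩ := Ideal.exists_le_prime_disjoint (In K f N) W hdisj
    obtain ⟨n, hn, s, hsP, hsI⟩ := exists_mem_In_of_bound K f hf P (h P hPd) N
    rw [hN' n hn] at hsI
    exact hsP (hle hsI)
  obtain ⟨σ, hσW, hσ⟩ := hex
  have hσn : ∀ n, N ≤ n → σ ∈ In K f n := fun n hn => by rw [hN' n hn]; exact hσ
  have hkey : ∀ (k : ℕ) (z : K), z ∈ Mn K f (N + k) → σ ^ k • z ∈ Mn K f N := by
    intro k
    induction k with
    | zero => intro z hz; simpa using hz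
    | succ k ih =>
      intro z hz
      have h1 : σ • z ∈ Mn K f (N + k) := hσn (N + k) (Nat.le_add_right _ _) z hz
      have h2 := ih _ h1
      rwa [← mul_smul, ← pow_succ] at h2
  refine ⟨N, fun z hz => ?_⟩
  obtain ⟨n, hn⟩ := hpow z hz
  have hz' : z ∈ Mn K f (N + n) := Mn_mono (Nat.le_add_left _ _) hn
  exact ⟨σ ^ n, W.pow_mem hσW n, hkey n z hz'⟩

end G3

section T1

/-- Transfer of a bound from a localization. -/
theorem bound_of_isLocalization
    {S : Type u} [CommRing S] (K : Type u) [Field K] [Algebra S K] (f : S)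
    (U : Submonoid S) {S₁ : Type u} [CommRing S₁] [Algebra S S₁] [IsLocalization U S₁]
    [Algebra S₁ K] [IsScalarTower S S₁ K]
    (m : Ideal S) [m.IsPrime] (hU : U ≤ m.primeCompl)
    (m₁ : Ideal S₁) [m₁.IsPrime] (hm₁ : m₁.comap (algebraMap S S₁) = m)
    (h : Bound K (algebraMap S S₁ f) m₁.primeCompl) : Bound K f m.primeCompl := by
  obtain ⟨N, hN⟩ := h
  refine ⟨N, fun z hz => ?_⟩
  obtain ⟨s₁, hs₁, hint, b₁, hb₁⟩ := hN z hz.tower_top
  obtain ⟨⟨s₂, u₂⟩, hsu⟩ := IsLocalization.surj U s₁
  obtain ⟨⟨w, v⟩, hwv⟩ := IsLocalization.surj U b₁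
  simp only at hsu hwv
  have hs₂ : s₂ ∉ m := by
    intro hmem
    rw [← hm₁, Ideal.mem_comap, ← hsu] at hmem
    rcases Ideal.IsPrime.mem_or_mem inferInstance hmem with h1 | h1
    · exact hs₁ h1
    · exact (Ideal.IsPrime.ne_top inferInstance)
        (Ideal.eq_top_of_isUnit_mem _ h1 (IsLocalization.map_units S₁ u₂))
  have hv : (v : S) ∉ m := hU v.2
  refine ⟨s₂ * v, ?_, ?_, (u₂ : S) * w, ?_⟩
  · intro hmem
    rcases Ideal.IsPrime.mem_or_mem inferInstance hmem with h1 | h1
    · exact hs₂ h1
    · exact hv h1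
  · rw [Algebra.smul_def]
    exact isIntegral_algebraMap.mul hz
  · have e1 : algebraMap S K s₂ = algebraMap S₁ K s₁ * algebraMap S K (u₂ : S) := by
      rw [IsScalarTower.algebraMap_apply S S₁ K s₂, ← hsu, map_mul,
        ← IsScalarTower.algebraMap_apply S S₁ K]
    have e2 : algebraMap S K w = algebraMap S₁ K b₁ * algebraMap S K (v : S) := by
      rw [IsScalarTower.algebraMap_apply S S₁ K w, ← hwv, map_mul,
        ← IsScalarTower.algebraMap_apply S S₁ K]
    have e3 : algebraMap S K (f ^ N) = algebraMap S₁ K ((algebraMap S S₁ f) ^ N) := by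
      rw [← map_pow, ← IsScalarTower.algebraMap_apply S S₁ K]
    rw [Algebra.smul_def] at hb₁
    rw [Algebra.smul_def, map_mul, map_mul, e1, e2, e3, ← hb₁]
    ring

end T1

section T2

/-- Transfer of a bound from a finite extension. -/
theorem bound_of_finite_extension
    {S : Type u} [CommRing S] [IsDomain S] [IsNoetherianRing S]
    (K : Type u) [Field K] [Algebra S K]
    (f : S) (hpow : ∀ z : K, IsIntegral S z → ∃ n, z ∈ Mn K f n)
    {S' : Type u} [CommRing S'] [IsDomain S'] [Algebra S S'] [Module.Finite S S']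
    (K'' : Type u) [Field K''] [Algebra S' K''] [IsFractionRing S' K'']
    [Algebra K K''] [Algebra S K''] [IsScalarTower S K K''] [IsScalarTower S S' K'']
    (hf' : algebraMap S S' f ≠ 0)
    (hpow' : ∀ z : K'', IsIntegral S' z → ∃ n, z ∈ Mn K'' (algebraMap S S' f) n)
    (m : Ideal S) [m.IsMaximal]
    (h : ∀ (m' : Ideal S') [m'.IsMaximal], m'.comap (algebraMap S S') = m →
      Bound K'' (algebraMap S S' f) m'.primeCompl) :
    Bound K f m.primeCompl := by
  classical
  haveI : IsNoetherianRing S' := IsNoetherianRing.of_finite S S'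
  haveI : Algebra.IsIntegral S S' := Algebra.IsIntegral.of_finite S S'
  -- the bound relative to the image of `S ∖ m`
  have hB : Bound K'' (algebraMap S S' f) (m.primeCompl.map (algebraMap S S')) := by
    apply bound_of_forall_prime K'' (algebraMap S S' f) hf' hpow'
    intro P' _ hdisj
    have hle : P'.comap (algebraMap S S') ≤ m := by
      intro s hs
      by_contra hsm
      exact Set.disjoint_left.mp hdisj hs ⟨s, hsm, rfl⟩
    obtain ⟨m', hm'le, hm'prime, hm'⟩ :=
      Ideal.exists_ideal_over_prime_of_isIntegral m P' hle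
    haveI := hm'prime
    haveI : m'.IsMaximal := Ideal.isMaximal_of_isIntegral_of_isMaximal_comap (R := S) m'
      (by rw [hm']; infer_instance)
    refine (h m' hm').mono ?_
    intro s hs hsP
    exact hs (hm'le hsP)
  obtain ⟨N, hN⟩ := hB
  -- the `S`-module of elements of `K` landing in `S'`
  let φ : K →ₗ[S] K'' := (IsScalarTower.toAlgHom S K K'').toLinearMap
  let ψ : S' →ₗ[S] K'' := (IsScalarTower.toAlgHom S S' K'').toLinearMap
  have hφinj : Function.Injective φ := (algebraMap K K'').injective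
  let T : Submodule S K := (LinearMap.range ψ).comap φ
  haveI : IsNoetherian S (LinearMap.range ψ) :=
    isNoetherian_of_surjective ψ.rangeRestrict (LinearMap.range_rangeRestrict _)
  have hTfg : T.FG := by
    apply Submodule.fg_of_fg_map_injective φ hφinj
    exact isNoetherian_submodule.mp inferInstance _ (Submodule.map_comap_le _ _)
  obtain ⟨G, hG⟩ := hTfg
  have hTint : ∀ w ∈ T, IsIntegral S w := by
    rintro w ⟨s', hs'⟩
    have h1 : IsIntegral S (algebraMap K K'' w) := by
      change ψ s' = φ w at hs'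
      change IsIntegral S (φ w)
      rw [← hs']
      exact (Algebra.IsIntegral.isIntegral s').map (IsScalarTower.toAlgHom S S' K'')
    exact (isIntegral_algHom_iff (IsScalarTower.toAlgHom S K K'')
      (algebraMap K K'').injective).mp h1
  have hGn : ∀ w ∈ G, ∃ n, w ∈ Mn K f n := by
    intro w hw
    exact hpow w (hTint w (hG ▸ Submodule.subset_span hw))
  choose! ν hν using hGn
  have hTle : T ≤ Mn K f (G.sup ν) := by
    rw [← hG, Submodule.span_le]
    intro w hw
    exact Mn_mono (Finset.le_sup hw) (hν w hw)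
  refine ⟨G.sup ν + N, fun z hz => ?_⟩
  have hz'' : IsIntegral S' (algebraMap K K'' z) :=
    (hz.map (IsScalarTower.toAlgHom S K K'')).tower_top
  obtain ⟨s', ⟨σ, hσ, rfl⟩, -, b', hb'⟩ := hN _ hz''
  refine ⟨σ, hσ, ?_, ?_⟩
  · rw [Algebra.smul_def]
    exact isIntegral_algebraMap.mul hz
  · have hwT : (f ^ N) • (σ • z) ∈ T := by
      refine ⟨b', ?_⟩
      change algebraMap S' K'' b' = algebraMap K K'' ((f ^ N) • (σ • z))
      rw [← hb', Algebra.smul_def, Algebra.smul_def, Algebra.smul_def, map_mul, map_mul,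
        ← IsScalarTower.algebraMap_apply S K K'', ← IsScalarTower.algebraMap_apply S K K'',
        IsScalarTower.algebraMap_apply S S' K'' (f ^ N),
        IsScalarTower.algebraMap_apply S S' K'' σ]
      simp only [map_pow]
    obtain ⟨-, c, hc⟩ := hTle hwT
    refine ⟨c, ?_⟩
    rw [← hc, pow_add, map_mul, Algebra.smul_def (f ^ N), mul_assoc]

end T2

end Groth.Agent.Lib.Helper24.NagFT
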