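import Mathlib
import Groth.Agent.Lib.Helper26.Zariski3

/-!
# Zariski's lemma without locality assumptions (helper24)

Copies of helper26's `Zariski.isReduced_localization` and `Zariski.mem_span_of_mem_nilradical` with
the (unused) assumptions that `A` and `B` are local removed, and the resulting semi-local form of
Zariski's lemma: `t` only needs to lie in the Jacobson radical of `B`.
-/

set_option autoImplicit false
set_option linter.unusedSectionVars false
universe u

open IsLocalRing

namespace Groth.Agent.Lib.Helper24.ZariskiNL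

open Groth.Agent.Lib.helper26.Zariski Groth.Agent.Lib.helper26.ArtFlat

section One

variable {A : Type u} [CommRing A] [IsNoetherianRing A]
  {B : Type u} [CommRing B] [IsNoetherianRing B] [Algebra A B] [Module.Flat A B]
  (t : A) (hreg : t ∈ nonZeroDivisors A)

include hreg in
lemma algebraMap_mem_nonZeroDivisors' : algebraMap A B t ∈ nonZeroDivisors B := by
  rw [mem_nonZeroDivisors_iff_right]
  intro x hx
  have h := Module.Flat.isSMulRegular_of_nonZeroDivisors (M := B) hreg
  apply h
  change t • x = t • (0 : B)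
  rw [smul_zero, Algebra.smul_def, mul_comm]
  exact hx

include hreg in
/-- the localization of `B` at an associated prime of `B/tB` is reduced. -/
theorem isReduced_localization (P : Ideal B) [P.IsPrime] (y : B)
    (hP : ∀ b : B, b ∈ P ↔ b * y ∈ Ideal.span {algebraMap A B t})
    (hU : UData t (P.comap (algebraMap A B)))
    (hrad : ((P.comap (algebraMap A B)).map (algebraMap A B)).IsRadical) :
    IsReduced (Localization.AtPrime P) := by
  obtain ⟨π₀, hπ₀, e, s₁, hs₁, c₁, hc₁, hrel, hgen⟩ := hU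
  set q := P.comap (algebraMap A B) with hq
  let R' := Localization.AtPrime P
  let ι : A →+* B := algebraMap A B
  let j : B →+* R' := algebraMap B R'
  have hunit : ∀ s : A, s ∉ q → IsUnit (j (ι s)) := by
    intro s hs
    exact IsLocalization.map_units R' (⟨ι s, hs⟩ : P.primeCompl)
  set ϖ : R' := j (ι π₀) with hϖ
  have hϖm : ϖ ∈ maximalIdeal R' :=
    (IsLocalization.AtPrime.to_map_mem_maximal_iff R' P (ι π₀)).mpr hπ₀
  have htreg : j (ι t) ∈ nonZeroDivisors R' :=
    IsLocalization.map_nonZeroDivisors_le P.primeCompl R'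
      (Submonoid.mem_map_of_mem _ (algebraMap_mem_nonZeroDivisors' (B := B) t hreg))
  have hrel' : j (ι s₁) * j (ι t) = j (ι c₁) * ϖ ^ (e + 1) := by
    rw [hϖ, ← map_pow, ← map_pow, ← map_mul, ← map_mul, ← map_mul, ← map_mul, hrel]
  have hspan : Ideal.span {ϖ ^ (e + 1)} = Ideal.span {j (ι t)} := by
    obtain ⟨u₁, hu₁⟩ := hunit s₁ hs₁
    obtain ⟨u₂, hu₂⟩ := hunit c₁ hc₁
    apply le_antisymm
    · rw [Ideal.span_singleton_le_iff_mem, Ideal.mem_span_singleton']
      refine ⟨↑u₂⁻¹ * u₁, ?_⟩
      rw [mul_assoc, hu₁, hrel', ← hu₂, ← mul_assoc, Units.inv_mul, one_mul]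
    · rw [Ideal.span_singleton_le_iff_mem, Ideal.mem_span_singleton']
      refine ⟨↑u₁⁻¹ * u₂, ?_⟩
      rw [mul_assoc, hu₂, ← hrel', ← hu₁, ← mul_assoc, Units.inv_mul, one_mul]
  have hϖreg : ϖ ∈ nonZeroDivisors R' := by
    have h1 : ϖ ^ (e + 1) ∈ nonZeroDivisors R' := by
      obtain ⟨u₁, hu₁⟩ := hunit s₁ hs₁
      obtain ⟨u₂, hu₂⟩ := hunit c₁ hc₁
      have : ϖ ^ (e + 1) = (↑u₂⁻¹ * u₁) * j (ι t) := by
        rw [mul_assoc, hu₁, hrel', ← hu₂, ← mul_assoc, Units.inv_mul, one_mul]
      rw [this]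
      exact mul_mem (IsUnit.mem_nonZeroDivisors ((u₂⁻¹ * u₁).isUnit)) htreg
    rw [mem_nonZeroDivisors_iff_right] at h1 ⊢
    intro x hx
    apply h1
    rw [pow_succ, ← mul_assoc, mul_comm x, mul_assoc, hx, mul_zero]
  -- `span {ϖ} = q R'`
  have hqR : Ideal.span {ϖ} = (q.map ι).map j := by
    apply le_antisymm
    · rw [Ideal.span_singleton_le_iff_mem]
      exact Ideal.mem_map_of_mem _ (Ideal.mem_map_of_mem _ hπ₀)
    · rw [Ideal.map_map, Ideal.map_le_iff_le_comap]
      intro a ha
      obtain ⟨s, hs, hsa⟩ := hgen a ha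
      obtain ⟨c, hc⟩ := Ideal.mem_span_singleton'.mp hsa
      obtain ⟨u, hu⟩ := hunit s hs
      rw [Ideal.mem_comap, Ideal.mem_span_singleton']
      refine ⟨↑u⁻¹ * j (ι c), ?_⟩
      have : j (ι s) * j (ι a) = j (ι c) * ϖ := by
        rw [hϖ, ← map_mul, ← map_mul, ← map_mul, ← map_mul, hc]
      change _ = j (ι a)
      rw [mul_assoc, ← this, ← hu, ← mul_assoc, Units.inv_mul, one_mul]
  have hred : ∀ z : R', z * z ∈ Ideal.span {ϖ} → z ∈ Ideal.span {ϖ} := by
    intro z hz
    obtain ⟨w, b, rfl⟩ := IsLocalization.exists_mk'_eq P.primeCompl z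
    rw [hqR] at hz ⊢
    rw [← IsLocalization.mk'_mul, IsLocalization.mk'_mem_map_algebraMap_iff P.primeCompl] at hz
    obtain ⟨b', hb', hb'w⟩ := hz
    rw [IsLocalization.mk'_mem_map_algebraMap_iff P.primeCompl]
    refine ⟨b', hb', ?_⟩
    apply hrad
    refine ⟨2, ?_⟩
    have : (b' * w) ^ 2 = b' * (b' * (w * w)) := by ring
    rw [this]
    exact Ideal.mul_mem_left _ _ hb'w
  -- the colon description of the maximal ideal
  have hmap : Ideal.span {j (ι t)} = (Ideal.span {ι t}).map j := by
    rw [Ideal.map_span, Set.image_singleton]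
  have hy' : j y ∉ Ideal.span {ϖ ^ (e + 1)} := by
    rw [hspan, hmap, IsLocalization.algebraMap_mem_map_algebraMap_iff P.primeCompl]
    rintro ⟨b, hb, hby⟩
    exact hb ((hP b).mpr hby)
  have hmax : ∀ b : R', b ∈ maximalIdeal R' ↔ b * j y ∈ Ideal.span {ϖ ^ (e + 1)} := by
    intro b
    obtain ⟨w, s, rfl⟩ := IsLocalization.exists_mk'_eq P.primeCompl b
    rw [IsLocalization.AtPrime.mk'_mem_maximal_iff R' P, hspan, hmap]
    have : IsLocalization.mk' R' w s * j y = IsLocalization.mk' R' (w * y) s := by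
      rw [mul_comm _ (j y), mul_comm w y]
      exact IsLocalization.mul_mk'_eq_mk'_of_mul y w s
    rw [this, IsLocalization.mk'_mem_map_algebraMap_iff P.primeCompl]
    constructor
    · intro hw
      exact ⟨1, P.primeCompl.one_mem, by rw [one_mul]; exact (hP w).mp hw⟩
    · rintro ⟨b', hb', hb'w⟩
      rw [← mul_assoc] at hb'w
      have := (hP (b' * w)).mpr hb'w
      exact (Ideal.IsPrime.mem_or_mem inferInstance this).resolve_left hb'
  have hmeq := maximalIdeal_eq_span_of_colon ϖ hϖreg hϖm hred e (j y) hy' hmax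
  exact isReduced_of_maximalIdeal_eq_span ϖ hϖreg hmeq


end One

section Two

variable {A : Type u} [CommRing A] [IsNoetherianRing A]
  {B : Type u} [CommRing B] [IsNoetherianRing B] [Algebra A B] [Module.Flat A B]
  (t : A) (hreg : t ∈ nonZeroDivisors A)
  (hemb : associatedPrimes A (A ⧸ Ideal.span {t}) ⊆ (Ideal.span {t}).minimalPrimes)
  (hU : ∀ q ∈ associatedPrimes A (A ⧸ Ideal.span {t}), UData t q)
  (hrad : ∀ q ∈ associatedPrimes A (A ⧸ Ideal.span {t}), (q.map (algebraMap A B)).IsRadical)

include hreg hemb hU hrad in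
/-- nilpotents of `B` are divisible by `t`. -/
theorem mem_span_of_mem_nilradical (n : B) (hn : n ∈ nilradical B) :
    n ∈ Ideal.span {algebraMap A B t} := by
  classical
  by_contra hnot
  set tb : B := algebraMap A B t with htb
  let x : B ⧸ Ideal.span {tb} := Ideal.Quotient.mk _ n
  have hx : x ≠ 0 := by
    rw [Ne, Ideal.Quotient.eq_zero_iff_mem]; exact hnot
  obtain ⟨P, hPass, hle⟩ := exists_le_isAssociatedPrime_of_isNoetherianRing (R := B) x hx
  obtain ⟨hPprime, yb, hPy⟩ := (isAssociatedPrime_iff).mp hPass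
  obtain ⟨y, rfl⟩ := Ideal.Quotient.mk_surjective yb
  have hcolon : ∀ (b z : B), b ∈ (⊥ : Submodule B (B ⧸ Ideal.span {tb})).colon
      {Ideal.Quotient.mk (Ideal.span {tb}) z} ↔ b * z ∈ Ideal.span {tb} := by
    intro b z
    rw [Submodule.mem_colon_singleton, Submodule.mem_bot]
    change b • (Submodule.Quotient.mk z : B ⧸ Ideal.span {tb}) = 0 ↔ _
    rw [← Submodule.Quotient.mk_smul, Submodule.Quotient.mk_eq_zero, smul_eq_mul]
  have hP : ∀ b : B, b ∈ P ↔ b * y ∈ Ideal.span {tb} := by
    intro b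
    rw [hPy, hcolon]
  have hnP : ∀ b : B, b * n ∈ Ideal.span {tb} → b ∈ P := by
    intro b hb
    exact hle ((hcolon b n).mpr hb)
  have hy : y ∉ Ideal.span {tb} := by
    intro hy
    apply hPprime.ne_top
    rw [Ideal.eq_top_iff_one, hP, one_mul]
    exact hy
  set q := P.comap (algebraMap A B) with hq
  have hqprime : q.IsPrime := Ideal.comap_isPrime _ _
  have htq : t ∈ q := by
    rw [hq, Ideal.mem_comap, hP]
    exact Ideal.mul_mem_right _ _ (Ideal.mem_span_singleton_self _)
  -- `q` is an associated prime of `A/tA`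
  have hqass : q ∈ associatedPrimes A (A ⧸ Ideal.span {t}) := by
    have hsub : (q : Set A) ⊆ ⋃ p ∈ associatedPrimes A (A ⧸ Ideal.span {t}), (p : Set A) := by
      intro a ha
      by_contra hna
      apply hy
      refine mem_span_of_smul_mem t a hna y ?_
      rw [← hP]
      exact ha
    have hfin := associatedPrimes.finite A (A ⧸ Ideal.span {t})
    have hsub' : (q : Set A) ⊆ ⋃ p ∈ ((hfin.toFinset : Finset (Ideal A)) : Set (Ideal A)),
        ((id p : Ideal A) : Set A) := by
      intro a ha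
      have := hsub ha
      simp only [Set.mem_iUnion, Set.Finite.coe_toFinset, id] at this ⊢
      exact this
    obtain ⟨p, hp, hqp⟩ := (Ideal.subset_union_prime (R := A) (f := id) ⊥ ⊥ (by
      intro i hi _ _
      rw [Set.Finite.mem_toFinset] at hi
      exact hi.isPrime)).mp hsub'
    rw [Set.Finite.mem_toFinset] at hp
    have hpmin := hemb hp
    have hpq : p ≤ q := hpmin.2 ⟨hqprime, (Ideal.span_singleton_le_iff_mem _).mpr htq⟩ hqp
    have : q = p := le_antisymm hqp hpq
    rw [this]; exact hp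
  have hred := isReduced_localization t hreg P y hP (hU q hqass) (hrad q hqass)
  -- conclude
  obtain ⟨k, hk⟩ := mem_nilradical.mp hn
  have h0 : algebraMap B (Localization.AtPrime P) n = 0 := by
    apply IsNilpotent.eq_zero
    exact ⟨k, by rw [← map_pow, hk, map_zero]⟩
  rw [IsLocalization.map_eq_zero_iff P.primeCompl] at h0
  obtain ⟨b, hb⟩ := h0
  have : (b : B) ∈ P := hnP b (by rw [hb]; exact Ideal.zero_mem _)
  exact b.2 this


include hreg hemb hU hrad in
/-- **Zariski's lemma**, semi-local form: `t` lies in the Jacobson radical of `B`. -/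
theorem isReduced_of_flat (htm : algebraMap A B t ∈ (⊥ : Ideal B).jacobson) : IsReduced B := by
  rw [← nilradical_eq_bot_iff]
  set tb : B := algebraMap A B t with htb
  have htbreg : tb ∈ nonZeroDivisors B := algebraMap_mem_nonZeroDivisors' t hreg
  refine Submodule.eq_bot_of_le_smul_of_le_jacobson_bot (Ideal.span {tb}) (nilradical B)
    (IsNoetherian.noetherian _) ?_ ?_
  · intro n hn
    obtain ⟨c, hc⟩ := Ideal.mem_span_singleton'.mp
      (mem_span_of_mem_nilradical t hreg hemb hU hrad n hn)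
    have hcn : c ∈ nilradical B := by
      obtain ⟨k, hk⟩ := mem_nilradical.mp hn
      rw [mem_nilradical]
      refine ⟨k, ?_⟩
      have h1 : c ^ k * tb ^ k = 0 := by rw [← mul_pow, hc, hk]
      exact (mul_right_mem_nonZeroDivisors_eq_zero_iff (pow_mem htbreg k)).mp h1
    rw [← hc, mul_comm]
    exact Submodule.smul_mem_smul (Ideal.mem_span_singleton_self tb) hcn
  · rw [Ideal.span_singleton_le_iff_mem]
    exact htm

end Two

end Groth.Agent.Lib.Helper24.ZariskiNL
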