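import Mathlib
import Groth.Agent.Lib.Helper24.ZariskiNL
import Groth.Agent.Lib.Helper24.AnUnram2
import Groth.Agent.Lib.Helper24.SopFinite
import Groth.Agent.Lib.Helper26.Zariski5
import Groth.Agent.Lib.Helper26.RedDiv1
import Groth.Agent.S14359
import Groth.Agent.S0542
import Groth.Agent.Lib.Helper24.NagataReg

set_option autoImplicit false
set_option linter.unusedSectionVars false
universe u

namespace Groth.Agent.Lib.Helper24.ZarNag

open TensorProduct IsLocalRing

/-- A domain finite over a ring all of whose quotients by primes are N-2 is N-2. -/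
theorem isN2_of_finite (R : Type u) [CommRing R]
    (hR : ∀ (p : Ideal R) [p.IsPrime], CAlg.IsN2 (R ⧸ p))
    (S : Type u) [CommRing S] [IsDomain S] [Algebra R S] [Module.Finite R S] : CAlg.IsN2 S := by
  haveI : (RingHom.ker (algebraMap R S)).IsPrime := RingHom.ker_isPrime _
  letI : Algebra (R ⧸ RingHom.ker (algebraMap R S)) S :=
    (RingHom.kerLift (algebraMap R S)).toAlgebra
  haveI : IsScalarTower R (R ⧸ RingHom.ker (algebraMap R S)) S :=
    IsScalarTower.of_algebraMap_eq (fun r => rfl)
  haveI : Module.Finite (R ⧸ RingHom.ker (algebraMap R S)) S :=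
    Module.Finite.of_restrictScalars_finite R _ _
  haveI : FaithfulSMul (R ⧸ RingHom.ker (algebraMap R S)) S :=
    (faithfulSMul_iff_algebraMap_injective _ _).mpr (RingHom.kerLift_injective _)
  intro L _ _ _ _ hfd
  exact Groth.Agent.Lib.helper13.PIns.finite_integralClosure_of_finite_injective
    (hR (RingHom.ker (algebraMap R S))) (FractionRing S) L

/-- For an integral algebra over a local ring, the extension of the maximal ideal lies in the
Jacobson radical. -/
theorem map_maximalIdeal_le_jacobson (R' : Type u) [CommRing R'] [IsLocalRing R']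
    (T : Type u) [CommRing T] [Algebra R' T] [Algebra.IsIntegral R' T] :
    (maximalIdeal R').map (algebraMap R' T) ≤ (⊥ : Ideal T).jacobson := by
  rw [Ideal.jacobson]
  refine le_sInf (fun M hM => ?_)
  haveI := hM.2
  have h1 : (M.comap (algebraMap R' T)).IsMaximal :=
    Ideal.isMaximal_comap_of_isIntegral_of_isMaximal M
  rw [Ideal.map_le_iff_le_comap, IsLocalRing.eq_maximalIdeal h1]

section FieldCase

variable (R : Type u) [CommRing R] [IsLocalRing R] [IsNoetherianRing R]
  (S : Type u) [CommRing S] [IsDomain S] [Algebra R S] [Module.Finite R S]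

/-- If the finite `R`-algebra `S` is a field then the maximal ideal of `R` kills `S`. -/
theorem algebraMap_eq_zero_of_isField (hS : IsField S) (r : R) (hr : r ∈ maximalIdeal R) :
    algebraMap R S r = 0 := by
  haveI : (RingHom.ker (algebraMap R S)).IsPrime := RingHom.ker_isPrime _
  letI : Algebra (R ⧸ RingHom.ker (algebraMap R S)) S :=
    (RingHom.kerLift (algebraMap R S)).toAlgebra
  haveI : IsScalarTower R (R ⧸ RingHom.ker (algebraMap R S)) S :=
    IsScalarTower.of_algebraMap_eq (fun r => rfl)
  haveI : Module.Finite (R ⧸ RingHom.ker (algebraMap R S)) S :=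
    Module.Finite.of_restrictScalars_finite R _ _
  haveI : Algebra.IsIntegral (R ⧸ RingHom.ker (algebraMap R S)) S :=
    Algebra.IsIntegral.of_finite _ _
  have hfield : IsField (R ⧸ RingHom.ker (algebraMap R S)) :=
    isField_of_isIntegral_of_isField (RingHom.kerLift_injective _) hS
  have hmax : (RingHom.ker (algebraMap R S)).IsMaximal :=
    Ideal.Quotient.maximal_of_isField _ hfield
  have := IsLocalRing.eq_maximalIdeal hmax
  rw [← this] at hr
  exact hr

/-- The field case: `S ⊗ R̂` is reduced. -/
theorem isReduced_tensor_of_isField (hS : IsField S) :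
    IsReduced (S ⊗[R] AdicCompletion (maximalIdeal R) R) := by
  have hkill := algebraMap_eq_zero_of_isField R S hS
  -- `s ⊗ m' = 0` for `m'` in the extended maximal ideal
  have hzero : ∀ (s : S) (m' : AdicCompletion (maximalIdeal R) R),
      m' ∈ (maximalIdeal R).map (algebraMap R (AdicCompletion (maximalIdeal R) R)) →
      s ⊗ₜ[R] m' = 0 := by
    intro s m' hm'
    induction hm' using Submodule.span_induction with
    | mem x hx =>
      obtain ⟨r, hr, rfl⟩ := hx
      rw [Algebra.algebraMap_eq_smul_one, ← TensorProduct.smul_tmul, Algebra.smul_def,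
        hkill r hr, zero_mul, TensorProduct.zero_tmul]
    | zero => exact TensorProduct.tmul_zero _ _
    | add x y _ _ hx hy => rw [TensorProduct.tmul_add, hx, hy, add_zero]
    | smul a x _ hx =>
      have h1 : s ⊗ₜ[R] (a • x) = (1 ⊗ₜ[R] a) * (s ⊗ₜ[R] x) := by
        rw [Algebra.TensorProduct.tmul_mul_tmul, one_mul, smul_eq_mul]
      rw [h1, hx, mul_zero]
  -- `S → S ⊗ R̂` is surjective
  have hsurj : ∀ z : S ⊗[R] AdicCompletion (maximalIdeal R) R, ∃ s : S, s ⊗ₜ[R] 1 = z := by
    intro z
    induction z using TensorProduct.induction_on with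
    | zero => exact ⟨0, TensorProduct.zero_tmul _ _⟩
    | tmul s a =>
      obtain ⟨r, hr⟩ := Ideal.Quotient.mk_surjective
        (AdicCompletion.evalOneₐ (maximalIdeal R) a)
      have hmem : a - algebraMap R _ r ∈
          (maximalIdeal R).map (algebraMap R (AdicCompletion (maximalIdeal R) R)) := by
        rw [← AdicCompletion.ker_evalOneₐ_eq_map _ (maximalIdeal R).fg_of_isNoetherianRing,
          RingHom.mem_ker]
        show AdicCompletion.evalOneₐ (maximalIdeal R) (a - algebraMap R _ r) = 0
        rw [map_sub, AlgHom.commutes, ← hr]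
        exact sub_self _
      refine ⟨r • s, ?_⟩
      have h2 := hzero s _ hmem
      rw [TensorProduct.tmul_sub, sub_eq_zero] at h2
      rw [h2, Algebra.algebraMap_eq_smul_one, TensorProduct.smul_tmul]
    | add a b ha hb =>
      obtain ⟨s₁, rfl⟩ := ha
      obtain ⟨s₂, rfl⟩ := hb
      exact ⟨s₁ + s₂, TensorProduct.add_tmul _ _ _⟩
  letI := hS.toField
  refine ⟨fun x hx => ?_⟩
  obtain ⟨s, rfl⟩ := hsurj x
  obtain ⟨n, hn⟩ := hx
  by_cases hs : s = 0
  · rw [hs, TensorProduct.zero_tmul]
  · have h1 : (s ⊗ₜ[R] (1 : AdicCompletion (maximalIdeal R) R)) ^ n = (s ^ n) ⊗ₜ[R] 1 := by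
      rw [Algebra.TensorProduct.tmul_pow, one_pow]
    rw [h1] at hn
    have h2 : (1 : S ⊗[R] AdicCompletion (maximalIdeal R) R) = 0 := by
      have h3 : ((s ^ n)⁻¹ ⊗ₜ[R] (1 : AdicCompletion (maximalIdeal R) R)) * ((s ^ n) ⊗ₜ[R] 1) =
          1 := by
        rw [Algebra.TensorProduct.tmul_mul_tmul, inv_mul_cancel₀ (pow_ne_zero n hs), mul_one]
        rfl
      rw [← h3, hn, mul_zero]
    calc s ⊗ₜ[R] (1 : AdicCompletion (maximalIdeal R) R)
        = (s ⊗ₜ[R] 1) * 1 := (mul_one _).symm
      _ = 0 := by rw [h2, mul_zero]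

end FieldCase

section NormalCase

variable (R : Type u) [CommRing R] [IsLocalRing R] [IsNoetherianRing R]
  (S : Type u) [CommRing S] [IsDomain S] [Algebra R S] [Module.Finite R S]

/-- `S ⊗ R̂` is Noetherian. -/
theorem isNoetherianRing_tensor :
    IsNoetherianRing (S ⊗[R] AdicCompletion (maximalIdeal R) R) := by
  haveI : IsNoetherianRing (AdicCompletion (maximalIdeal R) R) :=
    Groth.Agent.S0542.result R _ (maximalIdeal R).fg_of_isNoetherianRing
  let e := Algebra.TensorProduct.comm R (AdicCompletion (maximalIdeal R) R) S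
  haveI : IsNoetherianRing (AdicCompletion (maximalIdeal R) R ⊗[R] S) :=
    IsNoetherianRing.of_finite (AdicCompletion (maximalIdeal R) R) _
  exact isNoetherianRing_of_ringEquiv _ e.toRingEquiv

/-- The image of `m_R` in `S ⊗ R̂` lies in the Jacobson radical. -/
theorem tmul_one_mem_jacobson (r : R) (hr : r ∈ maximalIdeal R) :
    (algebraMap R S r) ⊗ₜ[R] (1 : AdicCompletion (maximalIdeal R) R) ∈
      (⊥ : Ideal (S ⊗[R] AdicCompletion (maximalIdeal R) R)).jacobson := by
  let j : AdicCompletion (maximalIdeal R) R →+* S ⊗[R] AdicCompletion (maximalIdeal R) R :=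
    (Algebra.TensorProduct.includeRight :
      AdicCompletion (maximalIdeal R) R →ₐ[R] S ⊗[R] AdicCompletion (maximalIdeal R) R).toRingHom
  have hj : j.Finite := by
    have h1 : (algebraMap (AdicCompletion (maximalIdeal R) R)
        (AdicCompletion (maximalIdeal R) R ⊗[R] S)).Finite :=
      RingHom.finite_algebraMap.mpr inferInstance
    have h2 : ((Algebra.TensorProduct.comm R (AdicCompletion (maximalIdeal R) R) S :
        AdicCompletion (maximalIdeal R) R ⊗[R] S ≃ₐ[R] S ⊗[R] AdicCompletion (maximalIdeal R) R) :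
        AdicCompletion (maximalIdeal R) R ⊗[R] S →+*
          S ⊗[R] AdicCompletion (maximalIdeal R) R).Finite :=
      RingHom.Finite.of_surjective _
        (Algebra.TensorProduct.comm R (AdicCompletion (maximalIdeal R) R) S).surjective
    have h3 : j = ((Algebra.TensorProduct.comm R (AdicCompletion (maximalIdeal R) R) S :
        AdicCompletion (maximalIdeal R) R ⊗[R] S ≃ₐ[R] S ⊗[R] AdicCompletion (maximalIdeal R) R) :
        AdicCompletion (maximalIdeal R) R ⊗[R] S →+*
          S ⊗[R] AdicCompletion (maximalIdeal R) R).comp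
        (algebraMap (AdicCompletion (maximalIdeal R) R)
          (AdicCompletion (maximalIdeal R) R ⊗[R] S)) := by
      ext a
      simp [j]
    rw [h3]
    exact h2.comp h1
  letI : Algebra (AdicCompletion (maximalIdeal R) R)
      (S ⊗[R] AdicCompletion (maximalIdeal R) R) := j.toAlgebra
  haveI : Module.Finite (AdicCompletion (maximalIdeal R) R)
      (S ⊗[R] AdicCompletion (maximalIdeal R) R) := hj
  haveI : Algebra.IsIntegral (AdicCompletion (maximalIdeal R) R)
      (S ⊗[R] AdicCompletion (maximalIdeal R) R) := Algebra.IsIntegral.of_finite _ _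
  apply map_maximalIdeal_le_jacobson (AdicCompletion (maximalIdeal R) R)
    (S ⊗[R] AdicCompletion (maximalIdeal R) R)
  have h1 : (algebraMap R S r) ⊗ₜ[R] (1 : AdicCompletion (maximalIdeal R) R) =
      j (algebraMap R (AdicCompletion (maximalIdeal R) R) r) := by
    show _ = (1 : S) ⊗ₜ[R] (algebraMap R (AdicCompletion (maximalIdeal R) R) r)
    rw [Algebra.algebraMap_eq_smul_one, Algebra.algebraMap_eq_smul_one, TensorProduct.smul_tmul]
  rw [h1]
  apply Ideal.mem_map_of_mem
  rw [AdicCompletion.maximalIdeal_eq_map]
  exact Ideal.mem_map_of_mem _ hr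

open Groth.Agent.Lib.helper26.Zariski Groth.Agent.Lib.helper26.Hironaka in
/-- The normal case of the Zariski–Nagata theorem. -/
theorem isReduced_tensor_of_normal [IsIntegrallyClosed S] (hnf : ¬ IsField S)
    (IH : ∀ (q : Ideal S) [q.IsPrime], q.height = 1 →
      IsReduced ((S ⧸ q) ⊗[R] AdicCompletion (maximalIdeal R) R)) :
    IsReduced (S ⊗[R] AdicCompletion (maximalIdeal R) R) := by
  haveI : IsNoetherianRing S := IsNoetherianRing.of_finite R S
  haveI : IsNoetherianRing (S ⊗[R] AdicCompletion (maximalIdeal R) R) :=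
    isNoetherianRing_tensor R S
  -- choose `r ∈ m` nonzero in `S`
  obtain ⟨r, hr, hr0⟩ : ∃ r ∈ maximalIdeal R, algebraMap R S r ≠ 0 := by
    by_contra hcon
    push Not at hcon
    apply hnf
    haveI : (RingHom.ker (algebraMap R S)).IsPrime := RingHom.ker_isPrime _
    letI : Algebra (R ⧸ RingHom.ker (algebraMap R S)) S :=
      (RingHom.kerLift (algebraMap R S)).toAlgebra
    haveI : IsScalarTower R (R ⧸ RingHom.ker (algebraMap R S)) S :=
      IsScalarTower.of_algebraMap_eq (fun r => rfl)
    haveI : Module.Finite (R ⧸ RingHom.ker (algebraMap R S)) S :=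
      Module.Finite.of_restrictScalars_finite R _ _
    haveI : Algebra.IsIntegral (R ⧸ RingHom.ker (algebraMap R S)) S :=
      Algebra.IsIntegral.of_finite _ _
    have hle : maximalIdeal R ≤ RingHom.ker (algebraMap R S) := fun r hr => hcon r hr
    have hker : RingHom.ker (algebraMap R S) = maximalIdeal R :=
      ((maximalIdeal.isMaximal R).eq_of_le (RingHom.ker_ne_top _) hle).symm
    have hfield : IsField (R ⧸ RingHom.ker (algebraMap R S)) := by
      rw [hker]
      exact (Ideal.Quotient.maximal_ideal_iff_isField_quotient _).mp (maximalIdeal.isMaximal R)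
    exact isField_of_isIntegral_of_isField' hfield
  set t : S := algebraMap R S r with ht
  have hreg : t ∈ nonZeroDivisors S := mem_nonZeroDivisors_of_ne_zero hr0
  have htq : ∀ q ∈ associatedPrimes S (S ⧸ Ideal.span {t}), t ∈ q := by
    intro q hq
    have h1 : Module.annihilator S (S ⧸ Ideal.span {t}) ≤ q := by
      rw [← Submodule.annihilator_top]; exact hq.annihilator_le
    rw [Ideal.annihilator_quotient] at h1
    exact h1 (Ideal.mem_span_singleton_self t)
  have hht : ∀ q ∈ associatedPrimes S (S ⧸ Ideal.span {t}), q.height = 1 :=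
    fun q hq => Groth.Agent.S14359.result S t hr0 q hq
  have hemb : associatedPrimes S (S ⧸ Ideal.span {t}) ⊆ (Ideal.span {t}).minimalPrimes := by
    intro q hq
    haveI := hq.isPrime
    exact mem_minimalPrimes_span_of_height_le_one t hr0 q (htq q hq) (le_of_eq (hht q hq))
  have hU : ∀ q ∈ associatedPrimes S (S ⧸ Ideal.span {t}), UData t q := by
    intro q hq
    haveI := hq.isPrime
    haveI : IsDiscreteValuationRing (Localization.AtPrime q) :=
      Groth.Agent.Lib.helper26.RedDiv.isDiscreteValuationRing_atPrime q (hht q hq)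
    exact uData_of_dvr t hreg q (htq q hq)
  have hrad : ∀ q ∈ associatedPrimes S (S ⧸ Ideal.span {t}),
      (q.map (algebraMap S (S ⊗[R] AdicCompletion (maximalIdeal R) R))).IsRadical := by
    intro q hq
    haveI := hq.isPrime
    haveI := IH q (hht q hq)
    have hsurj : Function.Surjective (Ideal.Quotient.mkₐ R q) := Ideal.Quotient.mkₐ_surjective R q
    have hker := Algebra.TensorProduct.rTensor_ker (R := R) (S := R)
      (C := AdicCompletion (maximalIdeal R) R) (Ideal.Quotient.mkₐ R q) hsurj
    have hkq : RingHom.ker (Ideal.Quotient.mkₐ R q) = q := by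
      ext x
      rw [RingHom.mem_ker]
      exact Ideal.Quotient.eq_zero_iff_mem
    rw [hkq] at hker
    have hsurj2 : Function.Surjective (Algebra.TensorProduct.map (Ideal.Quotient.mkₐ R q)
        (AlgHom.id R (AdicCompletion (maximalIdeal R) R))) :=
      Algebra.TensorProduct.map_surjective _ _ hsurj Function.surjective_id
    have h3 := (RingHom.ker_isRadical_iff_reduced_of_surjective
      (f := (Algebra.TensorProduct.map (Ideal.Quotient.mkₐ R q)
        (AlgHom.id R (AdicCompletion (maximalIdeal R) R))).toRingHom) hsurj2).mpr inferInstance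
    rw [show RingHom.ker (Algebra.TensorProduct.map (Ideal.Quotient.mkₐ R q)
        (AlgHom.id R (AdicCompletion (maximalIdeal R) R))).toRingHom =
        RingHom.ker (Algebra.TensorProduct.map (Ideal.Quotient.mkₐ R q)
        (AlgHom.id R (AdicCompletion (maximalIdeal R) R))) from rfl, hker] at h3
    exact h3
  exact Groth.Agent.Lib.Helper24.ZariskiNL.isReduced_of_flat t hreg hemb hU hrad
    (tmul_one_mem_jacobson R S r hr)

end NormalCase

section Main

variable (R : Type u) [CommRing R] [IsLocalRing R] [IsNoetherianRing R]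
  (hR : ∀ (p : Ideal R) [p.IsPrime], CAlg.IsN2 (R ⧸ p))

include hR in
/-- One step of the dimension induction. -/
theorem isReduced_tensor_step (S : Type u) [CommRing S] [IsDomain S] [Algebra R S]
    [Module.Finite R S]
    (IH : ∀ (S' : Type u) [CommRing S'] [IsDomain S'] [Algebra R S'] [Module.Finite R S'],
      ringKrullDim S' + 1 ≤ ringKrullDim S →
      IsReduced (S' ⊗[R] AdicCompletion (maximalIdeal R) R)) :
    IsReduced (S ⊗[R] AdicCompletion (maximalIdeal R) R) := by
  have hN2 : CAlg.IsN2 S := isN2_of_finite R hR S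
  haveI hfin : Module.Finite S (integralClosure S (FractionRing S)) :=
    hN2 (FractionRing S) inferInstance
  haveI : Module.Finite R (integralClosure S (FractionRing S)) := Module.Finite.trans S _
  haveI : IsIntegrallyClosed (integralClosure S (FractionRing S)) :=
    integralClosure.isIntegrallyClosedOfFiniteExtension (FractionRing S)
  have hdim : ringKrullDim (integralClosure S (FractionRing S)) ≤ ringKrullDim S :=
    Groth.Agent.Lib.Helper24.SopFinite.ringKrullDim_le_of_isIntegral
      (algebraMap S (integralClosure S (FractionRing S)))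
      (Algebra.IsIntegral.of_finite S _).isIntegral
  -- the normalization has reduced tensor
  have hred : IsReduced ((integralClosure S (FractionRing S)) ⊗[R]
      AdicCompletion (maximalIdeal R) R) := by
    by_cases hf : IsField (integralClosure S (FractionRing S))
    · exact isReduced_tensor_of_isField R _ hf
    · refine isReduced_tensor_of_normal R _ hf (fun q _ hq => ?_)
      apply IH
      have h1 := Groth.Agent.Lib.Helper24.NagataReg.height_add_ringKrullDim_quotient_le
        (integralClosure S (FractionRing S)) q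
      rw [hq] at h1
      rw [add_comm]
      exact h1.trans hdim
  haveI := hred
  -- `S ⊗ R̂ ↪ S̃ ⊗ R̂`
  let g : S ⊗[R] AdicCompletion (maximalIdeal R) R →ₐ[R]
      (integralClosure S (FractionRing S)) ⊗[R] AdicCompletion (maximalIdeal R) R :=
    Algebra.TensorProduct.map (IsScalarTower.toAlgHom R S (integralClosure S (FractionRing S)))
      (AlgHom.id R _)
  have hinj : Function.Injective (algebraMap S (integralClosure S (FractionRing S))) := by
    intro a b hab
    have := congrArg Subtype.val hab
    exact IsFractionRing.injective S (FractionRing S) this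
  have hg : Function.Injective g :=
    Module.Flat.rTensor_preserves_injective_linearMap
      (IsScalarTower.toAlgHom R S (integralClosure S (FractionRing S))).toLinearMap hinj
  exact isReduced_of_injective g hg

include hR in
theorem isReduced_tensor_aux (n : ℕ) : ∀ (S : Type u) [CommRing S] [IsDomain S] [Algebra R S]
    [Module.Finite R S], ringKrullDim S ≤ n →
    IsReduced (S ⊗[R] AdicCompletion (maximalIdeal R) R) := by
  induction n with
  | zero =>
    intro S _ _ _ _ hS
    refine isReduced_tensor_step R hR S (fun S' _ _ _ _ h => ?_)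
    exfalso
    have h0 : (0 : WithBot ℕ∞) ≤ ringKrullDim S' := ringKrullDim_nonneg_of_nontrivial
    have h1 : (1 : WithBot ℕ∞) ≤ ringKrullDim S' + 1 := le_add_of_nonneg_left h0
    have h2 := (h1.trans h).trans hS
    exact absurd h2 (by norm_num)
  | succ n ih =>
    intro S _ _ _ _ hS
    refine isReduced_tensor_step R hR S (fun S' _ _ _ _ h => ?_)
    apply ih S'
    have h2 : ringKrullDim S' + 1 ≤ ((n : ℕ) : WithBot ℕ∞) + 1 := by
      refine h.trans (hS.trans ?_)
      push_cast
      exact le_rfl
    have hc1 : (1 : WithBot ℕ∞) ≠ ⊥ := WithBot.one_ne_bot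
    have hc2 : (1 : WithBot ℕ∞) ≠ ⊤ := by
      intro h
      have : ((1 : ℕ∞) : WithBot ℕ∞) = ((⊤ : ℕ∞) : WithBot ℕ∞) := h
      exact ENat.one_ne_top (WithBot.coe_injective this)
    exact (WithBot.add_le_add_iff_right' hc1 hc2).mp h2

include hR in
/-- **Zariski–Nagata**: for a Noetherian local ring `R` all of whose quotients by primes are N-2
and a finite `R`-algebra `S` which is a domain, `S ⊗ R̂` is reduced. -/
theorem isReduced_tensor (S : Type u) [CommRing S] [IsDomain S] [Algebra R S]
    [Module.Finite R S] : IsReduced (S ⊗[R] AdicCompletion (maximalIdeal R) R) := by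
  haveI : IsNoetherianRing S := IsNoetherianRing.of_finite R S
  have hle : ringKrullDim S ≤ ringKrullDim R :=
    Groth.Agent.Lib.Helper24.SopFinite.ringKrullDim_le_of_isIntegral (algebraMap R S)
      (Algebra.IsIntegral.of_finite R S).isIntegral
  have hfin : ringKrullDim R < ⊤ := ringKrullDim_lt_top
  obtain ⟨n, hn⟩ : ∃ n : ℕ, ringKrullDim S ≤ n := by
    have h1 : ringKrullDim S < ⊤ := lt_of_le_of_lt hle hfin
    have h0 : (0 : WithBot ℕ∞) ≤ ringKrullDim S := ringKrullDim_nonneg_of_nontrivial
    obtain ⟨m, hm⟩ := WithBot.ne_bot_iff_exists.mp (ne_of_gt (lt_of_lt_of_le (WithBot.bot_lt_coe 0) h0))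
    rw [← hm] at h1
    have h2 : m ≠ ⊤ := by
      rintro rfl
      exact (lt_irrefl _ h1)
    obtain ⟨k, hk⟩ := ENat.ne_top_iff_exists.mp h2
    exact ⟨k, by rw [← hm, ← hk]; exact le_rfl⟩
  exact isReduced_tensor_aux R hR n S hn

end Main

end Groth.Agent.Lib.Helper24.ZarNag
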