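import Mathlib
import Groth.Agent.Lib.Helper24.NagFT1
import Groth.Agent.Lib.Helper24.ZarNag
import Groth.Agent.Lib.Helper22.N2Loc

/-!
# Nagata rings are universally Japanese, part 2 (helper24)

* transfers of the Nagata property: `isN2_of_isNagata`, `isNagata_of_finite`,
  `isNagata_of_isLocalization`;
* monogenic extensions `S = R[x]` inside the fraction field of a normal domain `R`:
  `Jx` (the ideal `xS ∩ R`), `comap_span_eq_Jx`, `exists_sub_mem_span`, `hpow_of_monogenic`.
-/

set_option autoImplicit false
universe u

namespace Groth.Agent.Lib.Helper24.NagFT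

open Groth.Agent.Lib.Helper24.LocGlobN1 Polynomial

section transfers

theorem isN2_of_isNagata {R : Type u} [CommRing R] [IsDomain R] (hR : CAlg.IsNagata R) :
    CAlg.IsN2 R :=
  Groth.Agent.Lib.Helper24.ZarNag.isN2_of_finite R (fun p _ => hR.2 p) R

theorem isNagata_of_finite {R : Type u} [CommRing R] (hR : CAlg.IsNagata R)
    (S : Type u) [CommRing S] [Algebra R S] [Module.Finite R S] : CAlg.IsNagata S :=
  ⟨haveI := hR.1; IsNoetherianRing.of_finite R S, fun q _ =>
    Groth.Agent.Lib.Helper24.ZarNag.isN2_of_finite R (fun p _ => hR.2 p) (S ⧸ q)⟩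

theorem isNagata_of_isLocalization {A : Type u} [CommRing A] (hA : CAlg.IsNagata A)
    (M : Submonoid A) (D : Type u) [CommRing D] [Algebra A D] [IsLocalization M D] :
    CAlg.IsNagata D := by
  obtain ⟨hN, hq⟩ := hA
  refine ⟨IsLocalization.isNoetherianRing M D hN, ?_⟩
  intro q hqp
  have hq' : q = (q.comap (algebraMap A D)).map (algebraMap A D) :=
    (IsLocalization.map_under M D q).symm
  have hpp0 : (q.comap (algebraMap A D)).IsPrime := Ideal.comap_isPrime _ q
  generalize q.comap (algebraMap A D) = p at hq' hpp0
  subst hq'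
  exact Groth.Agent.Lib.helper22.isN2_of_isLocalization (hq p)
    (Algebra.algebraMapSubmonoid (A ⧸ p) M) _

end transfers

section monogenic

variable {R : Type u} [CommRing R] [IsDomain R]
  (K : Type u) [Field K] [Algebra R K] [IsFractionRing R K]
  {S : Type u} [CommRing S] [IsDomain S] [Algebra R S] [Algebra S K] [IsScalarTower R S K]
  [FaithfulSMul S K] (x : S)

include K in
omit [IsDomain S] [IsDomain R] [FaithfulSMul S K] in
theorem algebraMap_injective_of_tower : Function.Injective (algebraMap R S) := by
  have h : Function.Injective (algebraMap R K) := IsFractionRing.injective R K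
  rw [IsScalarTower.algebraMap_eq R S K] at h
  exact Function.Injective.of_comp h

/-- the ideal of `b ∈ R` of the form `a x`, `a ∈ R`. -/
def Jx : Ideal R where
  carrier := {r | ∃ a : R, algebraMap R S a * x = algebraMap R S r}
  add_mem' := by
    rintro r r' ⟨a, ha⟩ ⟨a', ha'⟩
    exact ⟨a + a', by rw [map_add, add_mul, ha, ha', map_add]⟩
  zero_mem' := ⟨0, by simp⟩
  smul_mem' := by
    rintro c r ⟨a, ha⟩
    exact ⟨c * a, by rw [smul_eq_mul, map_mul, mul_assoc, ha, map_mul]⟩

omit [IsDomain R] [IsDomain S] in
theorem mem_Jx {r : R} : r ∈ Jx x ↔ ∃ a : R, algebraMap R S a * x = algebraMap R S r := Iff.rfl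

variable [IsIntegrallyClosed R]

include K in
/-- **Linear forms lemma**: the constant coefficient of a polynomial killing `x` lies in `Jx`. -/
theorem coeff_zero_mem_Jx : ∀ (d : ℕ) (g : R[X]), g.natDegree ≤ d → aeval x g = 0 →
    g.coeff 0 ∈ Jx x := by
  have hinjS : Function.Injective (algebraMap R S) := algebraMap_injective_of_tower K
  have hinjK : Function.Injective (algebraMap S K) := FaithfulSMul.algebraMap_injective S K
  intro d
  induction d with
  | zero =>
    intro g hg hgx
    rw [Polynomial.eq_C_of_natDegree_le_zero hg, aeval_C] at hgx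
    have : g.coeff 0 = 0 := hinjS (by rw [hgx, map_zero])
    rw [this]
    exact Ideal.zero_mem _
  | succ d ih =>
    intro g hg hgx
    by_cases hd : g.natDegree ≤ d
    · exact ih g hd hgx
    have hdeg : g.natDegree = d + 1 := le_antisymm hg (Nat.lt_of_not_le hd)
    -- `b = a_d x ∈ R`
    have hint : IsIntegral R (g.leadingCoeff • x) := isIntegral_leadingCoeff_smul g x hgx
    have hintK : IsIntegral R (algebraMap S K (g.leadingCoeff • x)) :=
      hint.map (IsScalarTower.toAlgHom R S K)
    obtain ⟨b, hb⟩ := IsIntegrallyClosed.isIntegral_iff.mp hintK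
    have hbS : algebraMap R S b = g.leadingCoeff • x := by
      apply hinjK
      rw [← IsScalarTower.algebraMap_apply, hb]
    have hbJ : b ∈ Jx x := ⟨g.leadingCoeff, by rw [hbS, Algebra.smul_def]⟩
    -- the new polynomial
    set g' : R[X] := g.eraseLead + C b * X ^ d with hg'
    have hdeg' : g'.natDegree ≤ d := by
      refine (Polynomial.natDegree_add_le _ _).trans (max_le ?_ ?_)
      · have := Polynomial.eraseLead_natDegree_le g
        omega
      · exact Polynomial.natDegree_C_mul_X_pow_le b d
    have hg'x : aeval x g' = 0 := by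
      have h0 : aeval x g = aeval x g.eraseLead + algebraMap R S g.leadingCoeff * x ^ (d + 1) := by
        conv_lhs => rw [← Polynomial.eraseLead_add_C_mul_X_pow g, hdeg]
        simp
      have h1 : aeval x g.eraseLead = - (algebraMap R S g.leadingCoeff * x ^ (d + 1)) := by
        rw [hgx] at h0
        exact eq_neg_of_add_eq_zero_left h0.symm
      rw [hg', map_add, h1, map_mul, aeval_C, map_pow, aeval_X, hbS, Algebra.smul_def]
      ring
    have h2 := ih g' hdeg' hg'x
    have h3 : g.coeff 0 = g'.coeff 0 - (C b * X ^ d).coeff 0 := by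
      rw [hg', coeff_add, add_sub_cancel_right, Polynomial.eraseLead_coeff_of_ne]
      rw [hdeg]; omega
    rw [h3]
    refine Ideal.sub_mem _ h2 ?_
    rw [coeff_C_mul, coeff_X_pow]
    split_ifs
    · rw [mul_one]; exact hbJ
    · rw [mul_zero]; exact Ideal.zero_mem _

variable (hgen : Algebra.adjoin R {x} = ⊤)

include K hgen in
/-- `xS ∩ R = Jx`. -/
theorem comap_span_eq_Jx : (Ideal.span {x}).comap (algebraMap R S) = Jx x := by
  ext r
  constructor
  · intro hr
    rw [Ideal.mem_comap, Ideal.mem_span_singleton'] at hr
    obtain ⟨s, hs⟩ := hr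
    have hs' : s ∈ Algebra.adjoin R {x} := by rw [hgen]; trivial
    rw [Algebra.adjoin_singleton_eq_range_aeval] at hs'
    obtain ⟨h, hh⟩ := hs'
    have hh' : aeval x h = s := hh
    subst hh'
    have h1 : aeval x (X * h - C r) = 0 := by
      rw [map_sub, map_mul, aeval_X, aeval_C, ← hs]
      ring
    have h2 := coeff_zero_mem_Jx K x _ (X * h - C r) le_rfl h1
    rw [coeff_sub, coeff_C_zero, mul_comm, coeff_mul_X_zero, zero_sub] at h2
    exact (Ideal.neg_mem_iff _).mp h2
  · rintro ⟨a, ha⟩
    rw [Ideal.mem_comap, ← ha, mul_comm]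
    exact Ideal.mul_mem_right _ _ (Ideal.mem_span_singleton_self x)

omit [IsDomain R] [IsDomain S] [IsIntegrallyClosed R] in
include hgen in
/-- every element of `S` is congruent to an element of `R` modulo `x`. -/
theorem exists_sub_mem_span (s : S) : ∃ r : R, s - algebraMap R S r ∈ Ideal.span {x} := by
  have hs' : s ∈ Algebra.adjoin R {x} := by rw [hgen]; trivial
  rw [Algebra.adjoin_singleton_eq_range_aeval] at hs'
  obtain ⟨h, hh⟩ := hs'
  have hh' : aeval x h = s := hh
  subst hh'
  refine ⟨h.coeff 0, ?_⟩
  have h1 : aeval x h - algebraMap R S (h.coeff 0) = aeval x (h.divX) * x := by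
    conv_lhs => rw [← Polynomial.divX_mul_X_add h]
    simp
  rw [h1]
  exact Ideal.mul_mem_left _ _ (Ideal.mem_span_singleton_self x)

include hgen in
/-- the image of `S` in `K` lies in the image of `R[1/a]` when `a x ∈ R`. -/
theorem hpow_of_monogenic (a b : R) (ha : a ≠ 0) (hab : algebraMap R S a * x = algebraMap R S b) :
    ∀ z : K, IsIntegral S z → ∃ n, z ∈ Mn K (algebraMap R S a) n := by
  have hle : Submonoid.powers a ≤ nonZeroDivisors R :=
    Submonoid.powers_le.mpr (mem_nonZeroDivisors_of_ne_zero ha)
  letI : Algebra (Localization.Away a) K :=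
    IsLocalization.localizationAlgebraOfSubmonoidLe (Localization.Away a) K
      (Submonoid.powers a) (nonZeroDivisors R) hle
  haveI : IsScalarTower R (Localization.Away a) K :=
    IsLocalization.localization_isScalarTower_of_submonoid_le (Localization.Away a)
      K (Submonoid.powers a) (nonZeroDivisors R) hle
  haveI : IsDomain (Localization.Away a) :=
    IsLocalization.isDomain_of_le_nonZeroDivisors _ hle
  haveI : IsFractionRing (Localization.Away a) K :=
    IsFractionRing.isFractionRing_of_isDomain_of_isLocalization (Submonoid.powers a) _ K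
  haveI : IsIntegrallyClosed (Localization.Away a) :=
    isIntegrallyClosed_of_isLocalization _ (Submonoid.powers a) hle
  have hinjW : Function.Injective (algebraMap (Localization.Away a) K) :=
    IsFractionRing.injective _ K
  -- the image of `S` lies in the image of `R[1/a]`
  have hrange : ∀ s : S, algebraMap S K s ∈ (algebraMap (Localization.Away a) K).range := by
    intro s
    have hs' : s ∈ Algebra.adjoin R {x} := by rw [hgen]; trivial
    induction hs' using Algebra.adjoin_induction with
    | mem y hy =>
      rw [Set.mem_singleton_iff] at hy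
      subst hy
      refine ⟨IsLocalization.mk' _ b (⟨a, Submonoid.mem_powers a⟩ : Submonoid.powers a), ?_⟩
      have haK : algebraMap R K a ≠ 0 := by
        rw [Ne, map_eq_zero_iff _ (IsFractionRing.injective R K)]; exact ha
      apply mul_left_cancel₀ haK
      rw [IsScalarTower.algebraMap_apply R (Localization.Away a) K a, ← map_mul,
        IsLocalization.mk'_spec'_mk, ← IsScalarTower.algebraMap_apply,
        IsScalarTower.algebraMap_apply R S K b, ← hab, map_mul,
        ← IsScalarTower.algebraMap_apply, ← IsScalarTower.algebraMap_apply]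
    | algebraMap r =>
      exact ⟨algebraMap R _ r, by
        rw [← IsScalarTower.algebraMap_apply, ← IsScalarTower.algebraMap_apply]⟩
    | add y y' _ _ hy hy' => rw [map_add]; exact Subring.add_mem _ hy hy'
    | mul y y' _ _ hy hy' => rw [map_mul]; exact Subring.mul_mem _ hy hy'
  intro z hz
  -- `z` is integral over `R[1/a]`
  have hzW : IsIntegral (Localization.Away a) z := by
    obtain ⟨p, hpm, hpz⟩ := hz
    choose w hw using hrange
    refine ⟨X ^ p.natDegree + ∑ i ∈ Finset.range p.natDegree, C (w (p.coeff i)) * X ^ i, ?_, ?_⟩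
    · apply Polynomial.monic_X_pow_add
      refine (Polynomial.degree_sum_le _ _).trans_lt ?_
      rw [Finset.sup_lt_iff (WithBot.bot_lt_coe _)]
      intro i hi
      exact (Polynomial.degree_C_mul_X_pow_le i _).trans_lt
        (WithBot.coe_lt_coe.mpr (Finset.mem_range.mp hi))
    · rw [eval₂_add, eval₂_pow, eval₂_X, eval₂_finsetSum]
      simp only [eval₂_mul, eval₂_C, eval₂_pow, eval₂_X, hw]
      rw [Polynomial.eval₂_eq_sum_range, Finset.sum_range_succ, hpm.coeff_natDegree, map_one,
        one_mul, add_comm] at hpz
      exact hpz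
  obtain ⟨⟨y, ⟨n, rfl⟩⟩, hy⟩ :=
    IsIntegral.exists_multiple_integral_of_isLocalization (Submonoid.powers a) z hzW
  rw [Submonoid.smul_def] at hy
  obtain ⟨c, hc⟩ := IsIntegrallyClosed.isIntegral_iff.mp hy
  refine ⟨n, hz, algebraMap R S c, ?_⟩
  rw [← IsScalarTower.algebraMap_apply, hc, Algebra.smul_def, ← map_pow,
    ← IsScalarTower.algebraMap_apply]

end monogenic

end Groth.Agent.Lib.Helper24.NagFT
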