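import Mathlib
import Groth.Agent.Lib.Helper24.NagFT2
import Groth.Agent.Lib.Helper26.Zariski4
import Groth.Agent.Lib.Helper26.RedDiv1
import Groth.Agent.S14359

/-!
# Nagata rings are universally Japanese, part 3: associated primes of `S/xS` (helper24)

`R` a Noetherian normal domain with fraction field `K`, `S = R[x] ⊆ K`, `x ≠ 0`.
For `q ∈ Ass_S(S/xS)`: `q ∩ R` has height one, `q` is minimal over `xS`, and `UData x q` holds.
-/

set_option autoImplicit false
universe u

namespace Groth.Agent.Lib.Helper24.NagFT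

open Groth.Agent.Lib.helper26.Zariski

variable {R : Type u} [CommRing R] [IsDomain R] [IsNoetherianRing R] [IsIntegrallyClosed R]
  (K : Type u) [Field K] [Algebra R K] [IsFractionRing R K]
  {S : Type u} [CommRing S] [IsDomain S] [IsNoetherianRing S] [Algebra R S] [Algebra S K]
  [IsScalarTower R S K] [FaithfulSMul S K] (x : S) (hgen : Algebra.adjoin R {x} = ⊤) (hx0 : x ≠ 0)

include K hx0 in
omit [IsNoetherianRing R] [IsIntegrallyClosed R] [IsNoetherianRing S] in
theorem exists_frac : ∃ a₀ b₀ : R, a₀ ≠ 0 ∧ b₀ ≠ 0 ∧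
    algebraMap R S a₀ * x = algebraMap R S b₀ := by
  have hinjK : Function.Injective (algebraMap S K) := FaithfulSMul.algebraMap_injective S K
  obtain ⟨⟨b₀, a₀⟩, h⟩ := IsLocalization.surj (nonZeroDivisors R) (algebraMap S K x)
  simp only at h
  have ha₀ : (a₀ : R) ≠ 0 := nonZeroDivisors.ne_zero a₀.2
  have heq : algebraMap R S a₀ * x = algebraMap R S b₀ := by
    apply hinjK
    rw [map_mul, ← IsScalarTower.algebraMap_apply, ← IsScalarTower.algebraMap_apply, ← h, mul_comm]
  refine ⟨a₀, b₀, ha₀, ?_, heq⟩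
  rintro rfl
  rw [map_zero] at heq
  rcases mul_eq_zero.mp heq with h1 | h1
  · exact ha₀ ((map_eq_zero_iff _ (algebraMap_injective_of_tower K)).mp h1)
  · exact hx0 h1

include hgen in
omit [IsDomain R] [IsNoetherianRing R] [IsIntegrallyClosed R] [IsDomain S] in
/-- An associated prime of `S/xS` is the annihilator of the class of an element of `R`. -/
theorem assoc_colon (q : Ideal S) (hq : q ∈ associatedPrimes S (S ⧸ Ideal.span {x})) :
    ∃ r₀ : R, ∀ s : S, s ∈ q ↔ s * algebraMap R S r₀ ∈ Ideal.span {x} := by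
  obtain ⟨-, yb, hqy⟩ := (isAssociatedPrime_iff (I := q)).mp hq
  obtain ⟨y, rfl⟩ := Ideal.Quotient.mk_surjective yb
  obtain ⟨r₀, hr₀⟩ := exists_sub_mem_span x hgen y
  refine ⟨r₀, fun s => ?_⟩
  rw [hqy, Submodule.mem_colon_singleton, Submodule.mem_bot, Algebra.smul_def,
    Ideal.Quotient.algebraMap_eq, ← map_mul, Ideal.Quotient.eq_zero_iff_mem]
  have h1 : s * y - s * algebraMap R S r₀ ∈ Ideal.span {x} := by
    rw [← mul_sub]
    exact Ideal.mul_mem_left _ _ hr₀
  constructor
  · intro h
    have := Ideal.sub_mem _ h h1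
    rwa [sub_sub_cancel] at this
  · intro h
    have := Ideal.add_mem _ h1 h
    rwa [sub_add_cancel] at this

include hgen in
omit [IsDomain R] [IsNoetherianRing R] [IsIntegrallyClosed R] [IsDomain S] in
theorem span_le_of_assoc (q : Ideal S) (hq : q ∈ associatedPrimes S (S ⧸ Ideal.span {x})) :
    Ideal.span {x} ≤ q := by
  obtain ⟨r₀, hr₀⟩ := assoc_colon x hgen q hq
  rw [Ideal.span_singleton_le_iff_mem, hr₀]
  exact Ideal.mul_mem_right _ _ (Ideal.mem_span_singleton_self x)

include K hgen hx0 in
/-- The contraction of an associated prime of `S/xS` has height one. -/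
theorem height_comap_of_assoc (q : Ideal S) (hq : q ∈ associatedPrimes S (S ⧸ Ideal.span {x})) :
    (q.comap (algebraMap R S)).height = 1 := by
  have hinjS : Function.Injective (algebraMap R S) := algebraMap_injective_of_tower K
  haveI hqprime : q.IsPrime := hq.isPrime
  obtain ⟨a₀, b₀, ha₀, hb₀, hab⟩ := exists_frac (R := R) K x hx0
  obtain ⟨r₀, hr₀⟩ := assoc_colon x hgen q hq
  refine Groth.Agent.S14359.result R b₀ hb₀ _ ?_
  rw [AssociatedPrimes.mem_iff, isAssociatedPrime_iff]
  refine ⟨inferInstance, Ideal.Quotient.mk _ (r₀ * a₀), ?_⟩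
  ext r
  rw [Ideal.mem_comap, hr₀, ← map_mul, ← Ideal.mem_comap, comap_span_eq_Jx K x hgen, mem_Jx,
    Submodule.mem_colon_singleton, Submodule.mem_bot, Algebra.smul_def,
    Ideal.Quotient.algebraMap_eq, ← map_mul, Ideal.Quotient.eq_zero_iff_mem,
    Ideal.mem_span_singleton']
  constructor
  · rintro ⟨a, ha⟩
    refine ⟨a, hinjS ?_⟩
    rw [map_mul, ← hab, ← mul_assoc, mul_comm (algebraMap R S a), mul_assoc, ha, map_mul, map_mul,
      map_mul]
    ring
  · rintro ⟨c, hc⟩
    refine ⟨c, ?_⟩
    have h1 : algebraMap R S a₀ * (algebraMap R S c * x) =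
        algebraMap R S a₀ * algebraMap R S (r * r₀) := by
      rw [mul_left_comm, hab, ← map_mul, ← map_mul, hc]
      congr 1
      ring
    have ha₀S : algebraMap R S a₀ ≠ 0 := by
      rw [Ne, map_eq_zero_iff _ hinjS]; exact ha₀
    exact mul_left_cancel₀ ha₀S h1

include K hgen hx0 in
/-- `S/xS` has no embedded primes. -/
theorem assoc_subset_minimalPrimes :
    associatedPrimes S (S ⧸ Ideal.span {x}) ⊆ (Ideal.span {x}).minimalPrimes := by
  intro q hq
  have hinjS : Function.Injective (algebraMap R S) := algebraMap_injective_of_tower K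
  haveI hqprime : q.IsPrime := hq.isPrime
  have hxq := span_le_of_assoc x hgen q hq
  have hht := height_comap_of_assoc K x hgen hx0 q hq
  obtain ⟨a₀, b₀, ha₀, hb₀, hab⟩ := exists_frac (R := R) K x hx0
  refine ⟨⟨hqprime, hxq⟩, ?_⟩
  rintro q' ⟨hq'prime, hxq'⟩ hq'q
  haveI := hq'prime
  -- the contractions agree
  have hb₀q' : b₀ ∈ q'.comap (algebraMap R S) := by
    rw [Ideal.mem_comap, ← hab]
    exact hxq' (Ideal.mul_mem_left _ _ (Ideal.mem_span_singleton_self x))
  have hle : q'.comap (algebraMap R S) ≤ q.comap (algebraMap R S) := Ideal.comap_mono hq'q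
  have heq : q'.comap (algebraMap R S) = q.comap (algebraMap R S) := by
    by_contra hne
    have hlt : q'.comap (algebraMap R S) < q.comap (algebraMap R S) := lt_of_le_of_ne hle hne
    haveI : (q.comap (algebraMap R S)).FiniteHeight :=
      ⟨Or.inr (by rw [hht]; exact ENat.one_ne_top)⟩
    have h1 := Ideal.height_strict_mono_of_isPrime_of_isPrime hlt
    rw [hht, ENat.lt_one_iff_eq_zero, Ideal.height_eq_zero_iff] at h1
    have h2 : q'.comap (algebraMap R S) = ⊥ := by
      rw [IsDomain.minimalPrimes_eq_singleton_bot (R := R)] at h1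
      exact h1
    rw [h2] at hb₀q'
    exact hb₀ hb₀q'
  intro y hy
  obtain ⟨r, hr⟩ := exists_sub_mem_span x hgen y
  have hrq : r ∈ q.comap (algebraMap R S) := by
    rw [Ideal.mem_comap]
    have := Ideal.sub_mem _ hy (hxq hr)
    rwa [sub_sub_cancel] at this
  rw [← heq, Ideal.mem_comap] at hrq
  have := Ideal.add_mem _ (hxq' hr) hrq
  rwa [sub_add_cancel] at this

include K hgen hx0 in
/-- The unlocalized DVR data of `S` at an associated prime of `S/xS`. -/
theorem uData_of_assoc (q : Ideal S) (hq : q ∈ associatedPrimes S (S ⧸ Ideal.span {x})) :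
    UData x q := by
  have hinjS : Function.Injective (algebraMap R S) := algebraMap_injective_of_tower K
  have hinjK : Function.Injective (algebraMap S K) := FaithfulSMul.algebraMap_injective S K
  haveI hqprime : q.IsPrime := hq.isPrime
  have hxq := span_le_of_assoc x hgen q hq
  have hht := height_comap_of_assoc K x hgen hx0 q hq
  obtain ⟨p, hp⟩ : ∃ p : Ideal R, p = q.comap (algebraMap R S) := ⟨_, rfl⟩
  haveI hpprime : p.IsPrime := by rw [hp]; exact Ideal.comap_isPrime _ _
  rw [← hp] at hht
  haveI hdvr : IsDiscreteValuationRing (Localization.AtPrime p) :=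
    Groth.Agent.Lib.helper26.RedDiv.isDiscreteValuationRing_atPrime p hht
  have hle : p.primeCompl ≤ nonZeroDivisors R := p.primeCompl_le_nonZeroDivisors
  letI algK : Algebra (Localization.AtPrime p) K :=
    IsLocalization.localizationAlgebraOfSubmonoidLe _ K p.primeCompl (nonZeroDivisors R) hle
  haveI : IsScalarTower R (Localization.AtPrime p) K :=
    IsLocalization.localization_isScalarTower_of_submonoid_le _ K p.primeCompl
      (nonZeroDivisors R) hle
  haveI : IsFractionRing (Localization.AtPrime p) K :=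
    IsFractionRing.isFractionRing_of_isDomain_of_isLocalization p.primeCompl _ K
  have hmem : ∀ r : R, algebraMap R S r ∈ q ↔ r ∈ p := fun r => by rw [hp, Ideal.mem_comap]
  -- `x ∈ R_p`
  have hx : ∃ c s : R, s ∉ p ∧ algebraMap R S s * x = algebraMap R S c := by
    rcases ValuationRing.isInteger_or_isInteger (Localization.AtPrime p) (algebraMap S K x) with
      ⟨y, hy⟩ | ⟨y, hy⟩
    · obtain ⟨⟨c, s⟩, hcs⟩ := IsLocalization.surj p.primeCompl y
      simp only at hcs
      refine ⟨c, s, s.2, hinjK ?_⟩
      rw [map_mul, ← hy, ← IsScalarTower.algebraMap_apply, ← IsScalarTower.algebraMap_apply,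
        IsScalarTower.algebraMap_apply R (Localization.AtPrime p) K,
        IsScalarTower.algebraMap_apply R (Localization.AtPrime p) K c, ← hcs, map_mul, mul_comm]
    · exfalso
      obtain ⟨⟨c, s⟩, hcs⟩ := IsLocalization.surj p.primeCompl y
      simp only at hcs
      have hxK : algebraMap S K x ≠ 0 := by
        rw [Ne, map_eq_zero_iff _ hinjK]; exact hx0
      have h1 : algebraMap R S s = x * algebraMap R S c := by
        apply hinjK
        rw [map_mul, ← IsScalarTower.algebraMap_apply, ← IsScalarTower.algebraMap_apply,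
          IsScalarTower.algebraMap_apply R (Localization.AtPrime p) K c, ← hcs, map_mul, hy,
          ← IsScalarTower.algebraMap_apply, ← mul_assoc, mul_inv_cancel₀ hxK, one_mul]
      apply s.2
      apply (hmem _).mp
      rw [h1]
      exact hxq (Ideal.mul_mem_right _ _ (Ideal.mem_span_singleton_self x))
  obtain ⟨c, s, hs, hcs⟩ := hx
  have hsS : algebraMap R S s ≠ 0 := by
    rw [Ne, map_eq_zero_iff _ hinjS]
    rintro rfl
    exact hs (Ideal.zero_mem _)
  have hc0 : c ≠ 0 := by
    rintro rfl
    rw [map_zero] at hcs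
    rcases mul_eq_zero.mp hcs with h | h
    · exact hsS h
    · exact hx0 h
  have hcp : c ∈ p := by
    rw [← hmem, ← hcs]
    exact hxq (Ideal.mul_mem_left _ _ (Ideal.mem_span_singleton_self x))
  obtain ⟨π₀, hπ₀, e, s₁, hs₁, c₁, hc₁, hrel, hgen'⟩ :=
    uData_of_dvr c (mem_nonZeroDivisors_of_ne_zero hc0) p hcp
  have hrelS : algebraMap R S (s₁ * s) * x = algebraMap R S c₁ * algebraMap R S π₀ ^ (e + 1) := by
    rw [map_mul, mul_assoc, hcs, ← map_mul, hrel, map_mul, map_pow]
  refine ⟨algebraMap R S π₀, (hmem _).mpr hπ₀, e, algebraMap R S (s₁ * s), ?_, algebraMap R S c₁,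
    ?_, hrelS, ?_⟩
  · rw [hmem]
    intro h
    rcases Ideal.IsPrime.mem_or_mem inferInstance h with h | h
    · exact hs₁ h
    · exact hs h
  · rw [hmem]; exact hc₁
  · intro y hy
    obtain ⟨r, hr⟩ := exists_sub_mem_span x hgen y
    have hrp : r ∈ p := by
      rw [← hmem]
      have := Ideal.sub_mem _ hy (hxq hr)
      rwa [sub_sub_cancel] at this
    obtain ⟨s', hs', hs'r⟩ := hgen' r hrp
    obtain ⟨d, hd⟩ := Ideal.mem_span_singleton'.mp hs'r
    obtain ⟨h', hh'⟩ := Ideal.mem_span_singleton'.mp hr
    refine ⟨algebraMap R S (s' * (s₁ * s)), ?_, ?_⟩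
    · rw [hmem]
      intro h
      rcases Ideal.IsPrime.mem_or_mem inferInstance h with h | h
      · exact hs' h
      · rcases Ideal.IsPrime.mem_or_mem inferInstance h with h | h
        · exact hs₁ h
        · exact hs h
    · rw [Ideal.mem_span_singleton']
      refine ⟨algebraMap R S (s₁ * s) * algebraMap R S d +
        algebraMap R S s' * h' * algebraMap R S c₁ * algebraMap R S π₀ ^ e, ?_⟩
      have hy' : y = algebraMap R S r + h' * x := by rw [hh']; ring
      have hd' : algebraMap R S s' * algebraMap R S r = algebraMap R S d * algebraMap R S π₀ := by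
        rw [← map_mul, ← map_mul, hd]
      rw [hy', map_mul (algebraMap R S) s' (s₁ * s)]
      calc (algebraMap R S (s₁ * s) * algebraMap R S d +
            algebraMap R S s' * h' * algebraMap R S c₁ * algebraMap R S π₀ ^ e) * algebraMap R S π₀
          = algebraMap R S (s₁ * s) * (algebraMap R S d * algebraMap R S π₀) +
            algebraMap R S s' * h' * (algebraMap R S c₁ * algebraMap R S π₀ ^ (e + 1)) := by
            rw [pow_succ]; ring
        _ = algebraMap R S (s₁ * s) * (algebraMap R S s' * algebraMap R S r) +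
            algebraMap R S s' * h' * (algebraMap R S (s₁ * s) * x) := by rw [hd', hrelS]
        _ = algebraMap R S s' * algebraMap R S (s₁ * s) * (algebraMap R S r + h' * x) := by ring

end Groth.Agent.Lib.Helper24.NagFT
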