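import Mathlib
import Groth.Agent.Lib.Helper24.NagFT3
import Groth.Agent.Lib.Helper24.ZariskiNL
import Groth.Agent.Lib.Helper24.AnUnram2
import Groth.Agent.S0576
import Groth.Agent.S2072
import Groth.Agent.S0542

/-!
# Nagata rings are universally Japanese, part 4: the core case `x ∈ m` (helper24)

`R` a normal Nagata domain with fraction field `K`, `S = R[x] ⊆ K`, `m` a maximal ideal of `S`
containing `x`.  Then `S_m` is analytically unramified, hence N-1, which gives a bound at `m`.
-/

set_option autoImplicit false
universe u

namespace Groth.Agent.Lib.Helper24.NagFT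

open Groth.Agent.Lib.helper26.Zariski Groth.Agent.Lib.Helper24.LocGlobN1 IsLocalRing

theorem isFractionRing_of_tower (R : Type u) [CommRing R] [IsDomain R]
    (K : Type u) [Field K] [Algebra R K] [IsFractionRing R K]
    (S : Type u) [CommRing S] [IsDomain S] [Algebra R S] [Algebra S K] [IsScalarTower R S K]
    [FaithfulSMul S K] : IsFractionRing S K := by
  refine IsFractionRing.of_field S K (fun z => ?_)
  obtain ⟨a, b, hb, rfl⟩ := IsFractionRing.div_surjective R z
  exact ⟨algebraMap R S a, algebraMap R S b, by
    rw [← IsScalarTower.algebraMap_apply, ← IsScalarTower.algebraMap_apply]⟩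

section core

variable {R : Type u} [CommRing R] [IsDomain R] [IsIntegrallyClosed R] (hR : CAlg.IsNagata R)
  (K : Type u) [Field K] [Algebra R K] [IsFractionRing R K]
  {S : Type u} [CommRing S] [IsDomain S] [Algebra R S] [Algebra S K]
  [IsScalarTower R S K] [FaithfulSMul S K] (x : S) (hgen : Algebra.adjoin R {x} = ⊤) (hx0 : x ≠ 0)

include hgen in
omit [IsDomain R] [IsIntegrallyClosed R] [IsDomain S] in
theorem finiteType_of_adjoin : Algebra.FiniteType R S :=
  ⟨⟨{x}, by rw [Finset.coe_singleton]; exact hgen⟩⟩

include hR K hgen hx0 in
/-- The completion of `S_m` is reduced when `x ∈ m`. -/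
theorem isReduced_cpl_of_mem (m : Ideal S) [m.IsMaximal] (hxm : x ∈ m) :
    IsReduced (AdicCompletion (maximalIdeal (Localization.AtPrime m)) (Localization.AtPrime m)) := by
  haveI := hR.1
  haveI : Algebra.FiniteType R S := finiteType_of_adjoin x hgen
  haveI : IsNoetherianRing S := Algebra.FiniteType.isNoetherianRing R S
  haveI : IsNoetherianRing (AdicCompletion (maximalIdeal (Localization.AtPrime m))
      (Localization.AtPrime m)) :=
    Groth.Agent.S0542.result _ _ (maximalIdeal (Localization.AtPrime m)).fg_of_isNoetherianRing
  haveI : IsScalarTower S (Localization.AtPrime m)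
      (AdicCompletion (maximalIdeal (Localization.AtPrime m)) (Localization.AtPrime m)) :=
    IsScalarTower.of_algebraMap_eq (fun _ => rfl)
  haveI : Module.Flat S (Localization.AtPrime m) := IsLocalization.flat _ m.primeCompl
  haveI : Module.Flat S
      (AdicCompletion (maximalIdeal (Localization.AtPrime m)) (Localization.AtPrime m)) :=
    Module.Flat.trans S (Localization.AtPrime m) _
  have hreg : x ∈ nonZeroDivisors S := mem_nonZeroDivisors_of_ne_zero hx0
  refine Groth.Agent.Lib.Helper24.ZariskiNL.isReduced_of_flat x hreg
    (assoc_subset_minimalPrimes K x hgen hx0)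
    (fun q hq => uData_of_assoc K x hgen hx0 q hq) ?_ ?_
  · -- radical
    intro q hq
    haveI hqprime : q.IsPrime := hq.isPrime
    have hxq := span_le_of_assoc x hgen q hq
    by_cases hqm : q ≤ m
    · haveI hQ : (q.map (algebraMap S (Localization.AtPrime m))).IsPrime :=
        IsLocalization.isPrime_of_isPrime_disjoint m.primeCompl _ q hqprime
          (Set.disjoint_left.mpr (fun s hs hsq => hs (hqm hsq)))
      have hsurj : Function.Surjective (Algebra.linearMap R (S ⧸ q)) := by
        intro yb
        obtain ⟨y, rfl⟩ := Ideal.Quotient.mk_surjective yb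
        obtain ⟨r, hr⟩ := exists_sub_mem_span x hgen y
        refine ⟨r, ?_⟩
        rw [Algebra.linearMap_apply, IsScalarTower.algebraMap_apply R S (S ⧸ q),
          Ideal.Quotient.algebraMap_eq]
        symm
        rw [← sub_eq_zero, ← map_sub, Ideal.Quotient.eq_zero_iff_mem]
        exact hxq hr
      haveI : Module.Finite R (S ⧸ q) := Module.Finite.of_surjective _ hsurj
      have hNq : CAlg.IsNagata (S ⧸ q) := isNagata_of_finite hR (S ⧸ q)
      have hND : CAlg.IsNagata
          (Localization.AtPrime m ⧸ q.map (algebraMap S (Localization.AtPrime m))) :=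
        isNagata_of_isLocalization hNq (Algebra.algebraMapSubmonoid (S ⧸ q) m.primeCompl) _
      haveI : Nontrivial
          (Localization.AtPrime m ⧸ q.map (algebraMap S (Localization.AtPrime m))) :=
        Ideal.Quotient.nontrivial_iff.mpr hQ.ne_top
      haveI : IsLocalRing
          (Localization.AtPrime m ⧸ q.map (algebraMap S (Localization.AtPrime m))) :=
        IsLocalRing.of_surjective' (Ideal.Quotient.mk _) Ideal.Quotient.mk_surjective
      have hredD := Groth.Agent.S0576.result _ hND
      have hrad := isRadical_map_of_isReduced_cpl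
        (q.map (algebraMap S (Localization.AtPrime m))) hredD
      rw [Ideal.map_map, ← IsScalarTower.algebraMap_eq] at hrad
      exact hrad
    · obtain ⟨s, hsq, hsm⟩ := Set.not_subset.mp hqm
      have hunit : IsUnit (algebraMap S
          (AdicCompletion (maximalIdeal (Localization.AtPrime m)) (Localization.AtPrime m)) s) := by
        rw [IsScalarTower.algebraMap_apply S (Localization.AtPrime m)]
        exact (IsLocalization.map_units (Localization.AtPrime m) (⟨s, hsm⟩ : m.primeCompl)).map _
      have htop : q.map (algebraMap S
          (AdicCompletion (maximalIdeal (Localization.AtPrime m)) (Localization.AtPrime m))) = ⊤ :=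
        Ideal.eq_top_of_isUnit_mem _ (Ideal.mem_map_of_mem _ hsq) hunit
      rw [htop]
      exact Ideal.radical_top _ |>.le
  · -- `x` in the Jacobson radical
    rw [IsLocalRing.jacobson_eq_maximalIdeal ⊥ bot_ne_top, AdicCompletion.maximalIdeal_eq_map,
      IsScalarTower.algebraMap_apply S (Localization.AtPrime m)]
    apply Ideal.mem_map_of_mem
    exact (IsLocalization.AtPrime.to_map_mem_maximal_iff (Localization.AtPrime m) m x).mpr hxm

include hR K hgen hx0 in
/-- **Core case**: a bound at a maximal ideal containing `x`. -/
theorem bound_of_mem (f₀ : S) (hpow : ∀ z : K, IsIntegral S z → ∃ n, z ∈ Mn K f₀ n)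
    (m : Ideal S) [m.IsMaximal] (hxm : x ∈ m) : Bound K f₀ m.primeCompl := by
  haveI := hR.1
  haveI : Algebra.FiniteType R S := finiteType_of_adjoin x hgen
  haveI : IsNoetherianRing S := Algebra.FiniteType.isNoetherianRing R S
  haveI : IsFractionRing S K := isFractionRing_of_tower R K S
  haveI hred := isReduced_cpl_of_mem hR K x hgen hx0 m hxm
  have hN1 : CAlg.IsN1 (Localization.AtPrime m) := Groth.Agent.S2072.result
  have hle : m.primeCompl ≤ nonZeroDivisors S := m.primeCompl_le_nonZeroDivisors
  letI algK : Algebra (Localization.AtPrime m) K :=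
    IsLocalization.localizationAlgebraOfSubmonoidLe _ K m.primeCompl (nonZeroDivisors S) hle
  haveI : IsScalarTower S (Localization.AtPrime m) K :=
    IsLocalization.localization_isScalarTower_of_submonoid_le _ K m.primeCompl
      (nonZeroDivisors S) hle
  haveI : IsFractionRing (Localization.AtPrime m) K :=
    IsFractionRing.isFractionRing_of_isDomain_of_isLocalization m.primeCompl _ K
  have hfin : Module.Finite (Localization.AtPrime m) (integralClosure (Localization.AtPrime m) K) :=
    Groth.Agent.Lib.Helper24.AnUnram.finite_integralClosure_of_isFractionRing _ K hN1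
  obtain ⟨n, hn⟩ := exists_local_bound K f₀ hpow (B := S) m.primeCompl (Localization.AtPrime m) hfin
  exact ⟨n, fun z hz => by
    obtain ⟨s, hs, hsz⟩ := hn z hz
    exact ⟨s, hs, hsz⟩⟩

end core

end Groth.Agent.Lib.Helper24.NagFT
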