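import Mathlib
import Groth.Agent.Lib.Helper24.NagFT4

/-!
# Nagata rings are universally Japanese, part 5: extension step, abstract form (helper24)
-/

set_option autoImplicit false
universe u

namespace Groth.Agent.Lib.Helper24.NagFT

open Groth.Agent.Lib.Helper24.LocGlobN1

/-- If `R → S` is surjective and `R` is integrally closed with fraction field `K ⊇ S`, every bound
holds trivially. -/
theorem bound_of_surjective {R : Type u} [CommRing R] [IsDomain R] [IsIntegrallyClosed R]
    (K : Type u) [Field K] [Algebra R K] [IsFractionRing R K]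
    {S : Type u} [CommRing S] [Algebra R S] [Algebra S K] [IsScalarTower R S K]
    (hsurj : Function.Surjective (algebraMap R S)) (f : S) (W : Submonoid S) :
    Bound K f W := by
  refine ⟨0, fun z hz => ⟨1, W.one_mem, ?_⟩⟩
  rw [one_smul]
  refine ⟨hz, ?_⟩
  have hzR : IsIntegral R z := by
    haveI : Algebra.IsIntegral R S :=
      ⟨fun s => by obtain ⟨r, rfl⟩ := hsurj s; exact isIntegral_algebraMap⟩
    exact isIntegral_trans (R := R) (A := S) z hz
  obtain ⟨r, hr⟩ := IsIntegrallyClosed.isIntegral_iff.mp hzR
  exact ⟨algebraMap R S r, by rw [pow_zero, map_one, one_mul, ← IsScalarTower.algebraMap_apply, hr]⟩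

section E2

variable {R : Type u} [CommRing R] [IsDomain R] [IsIntegrallyClosed R] (hR : CAlg.IsNagata R)
  (K : Type u) [Field K] [Algebra R K] [IsFractionRing R K]
  {S : Type u} [CommRing S] [IsDomain S] [Algebra R S] [Algebra S K]
  [IsScalarTower R S K] [FaithfulSMul S K] (x : S) (hgen : Algebra.adjoin R {x} = ⊤)
  (a b : R) (ha : a ≠ 0) (hab : algebraMap R S a * x = algebraMap R S b)
  {R' : Type u} [CommRing R'] [IsDomain R'] [IsIntegrallyClosed R'] (hR' : CAlg.IsNagata R')
  (K'' : Type u) [Field K''] [Algebra R' K''] [IsFractionRing R' K'']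
  {S' : Type u} [CommRing S'] [IsDomain S'] [Algebra R' S'] [Algebra S' K'']
  [IsScalarTower R' S' K''] [FaithfulSMul S' K''] (x' : S') (hgen' : Algebra.adjoin R' {x'} = ⊤)
  (a' b' : R') (ha' : a' ≠ 0) (hab' : algebraMap R' S' a' * x' = algebraMap R' S' b')
  [Algebra S S'] [Module.Finite S S'] [Algebra K K''] [Algebra S K''] [IsScalarTower S K K'']
  [IsScalarTower S S' K'']
  (hcompat : algebraMap R' S' a' = algebraMap S S' (algebraMap R S a))

include hR K hgen ha hab hR' K'' hgen' ha' hab' hcompat in
/-- **Extension step**: bounds at all maximal ideals over `m` in a finite extension `S' = R'[x']`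
in which every such maximal ideal contains some `x' - α`, `α ∈ R'`. -/
theorem bound_of_extension (m : Ideal S) [m.IsMaximal]
    (hroot : ∀ (m' : Ideal S') [m'.IsMaximal], m'.comap (algebraMap S S') = m →
      ∃ α : R', x' - algebraMap R' S' α ∈ m') :
    Bound K (algebraMap R S a) m.primeCompl := by
  haveI := hR.1
  haveI : Algebra.FiniteType R S := finiteType_of_adjoin x hgen
  haveI : IsNoetherianRing S := Algebra.FiniteType.isNoetherianRing R S
  haveI : IsFractionRing S' K'' := isFractionRing_of_tower R' K'' S'
  have hpow := hpow_of_monogenic K x hgen a b ha hab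
  have hpow' := hpow_of_monogenic K'' x' hgen' a' b' ha' hab'
  have hinjS' : Function.Injective (algebraMap R' S') := algebraMap_injective_of_tower K''
  have hf' : algebraMap S S' (algebraMap R S a) ≠ 0 := by
    rw [← hcompat, Ne, map_eq_zero_iff _ hinjS']
    exact ha'
  rw [hcompat] at hpow'
  refine bound_of_finite_extension K (algebraMap R S a) hpow K'' hf' hpow' m ?_
  intro m' _ hm'
  obtain ⟨α, hα⟩ := hroot m' hm'
  rw [← hcompat]
  rw [← hcompat] at hpow'
  have hgen'' : Algebra.adjoin R' {x' - algebraMap R' S' α} = ⊤ := by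
    rw [eq_top_iff, ← hgen']
    apply Algebra.adjoin_le
    intro y hy
    rw [Set.mem_singleton_iff] at hy
    have : y = (x' - algebraMap R' S' α) + algebraMap R' S' α := by rw [hy]; ring
    rw [this]
    exact Subalgebra.add_mem _ (Algebra.subset_adjoin (Set.mem_singleton _))
      (Subalgebra.algebraMap_mem _ α)
  by_cases h0 : x' - algebraMap R' S' α = 0
  · -- `S' = R'`
    have hsurj : Function.Surjective (algebraMap R' S') := by
      intro y
      have hy : y ∈ Algebra.adjoin R' {x' - algebraMap R' S' α} := by rw [hgen'']; trivial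
      rw [h0] at hy
      have hbot : Algebra.adjoin R' ({0} : Set S') = ⊥ := by
        rw [eq_bot_iff]
        apply Algebra.adjoin_le
        intro y hy
        rw [Set.mem_singleton_iff] at hy
        subst hy
        exact Subalgebra.zero_mem _
      rw [hbot, Algebra.mem_bot] at hy
      exact hy
    exact bound_of_surjective K'' hsurj _ _
  · exact bound_of_mem hR' K'' (x' - algebraMap R' S' α) hgen'' h0 _ hpow' m' hα

end E2

end Groth.Agent.Lib.Helper24.NagFT
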