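import Mathlib
import Groth.Agent.Lib.Helper24.NagFT5

/-!
# Nagata rings are universally Japanese, part 6: construction of the extension (helper24)
-/

set_option autoImplicit false
universe u

namespace Groth.Agent.Lib.Helper24.NagFT

open Groth.Agent.Lib.Helper24.LocGlobN1 Polynomial

section F

variable (R : Type u) {S R' S' K'' : Type u} [CommRing R] [CommRing S] [CommRing R'] [CommRing S'] [Field K'']
  [Algebra R S] [Algebra R R'] [Algebra R' S'] [Algebra S S'] [Algebra S' K''] [Algebra S K'']
  [Algebra R' K''] [Algebra R K''] [IsScalarTower R R' K''] [IsScalarTower R S K'']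
  [IsScalarTower R' S' K''] [IsScalarTower S S' K''] [FaithfulSMul S' K'']
  [Module.Finite R R'] [IsNoetherianRing S]

include R in
/-- `S' = R'[x']` is finite over `S ∋ x` when `R'` is finite over `R`. -/
theorem finite_of_adjoin (x : S) (x' : S') (hx : algebraMap S' K'' x' = algebraMap S K'' x)
    (hgen' : Algebra.adjoin R' {x'} = ⊤) : Module.Finite S S' := by
  classical
  obtain ⟨G, hG⟩ := (Module.Finite.fg_top : (⊤ : Submodule R R').FG)
  let N : Submodule S K'' := Submodule.span S ((algebraMap R' K'') '' (G : Set R'))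
  have hNfg : N.FG := Submodule.fg_span ((Finset.finite_toSet G).image _)
  have h1 : ∀ r' : R', algebraMap R' K'' r' ∈ N := by
    intro r'
    have hr' : r' ∈ Submodule.span R (G : Set R') := by rw [hG]; trivial
    induction hr' using Submodule.span_induction with
    | mem y hy => exact Submodule.subset_span ⟨y, hy, rfl⟩
    | zero => rw [map_zero]; exact Submodule.zero_mem _
    | add y y' _ _ hy hy' => rw [map_add]; exact Submodule.add_mem _ hy hy'
    | smul r y _ hy =>
      have : algebraMap R' K'' (r • y) = (algebraMap R S r) • algebraMap R' K'' y := by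
        rw [Algebra.smul_def, map_mul, ← IsScalarTower.algebraMap_apply R R' K'', Algebra.smul_def,
          ← IsScalarTower.algebraMap_apply R S K'']
      rw [this]
      exact Submodule.smul_mem _ _ hy
  have h2 : ∀ y ∈ N, ∀ y' ∈ N, y * y' ∈ N := by
    intro y hy y' hy'
    have hle : N * N ≤ N := by
      rw [Submodule.span_mul_span, Submodule.span_le]
      rintro _ ⟨_, ⟨u, -, rfl⟩, _, ⟨v, -, rfl⟩, rfl⟩
      change algebraMap R' K'' u * algebraMap R' K'' v ∈ N
      rw [← map_mul]
      exact h1 _
    exact hle (Submodule.mul_mem_mul hy hy')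
  have h3 : ∀ y : S', algebraMap S' K'' y ∈ N := by
    intro y
    have hy : y ∈ Algebra.adjoin R' {x'} := by rw [hgen']; trivial
    induction hy using Algebra.adjoin_induction with
    | mem y hy =>
      rw [Set.mem_singleton_iff] at hy
      rw [hy, hx, ← mul_one (algebraMap S K'' x), ← Algebra.smul_def, ← map_one (algebraMap R' K'')]
      exact Submodule.smul_mem _ _ (h1 1)
    | algebraMap r' =>
      rw [← IsScalarTower.algebraMap_apply]
      exact h1 r'
    | add y y' _ _ hy hy' => rw [map_add]; exact Submodule.add_mem _ hy hy'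
    | mul y y' _ _ hy hy' => rw [map_mul]; exact h2 _ hy _ hy'
  let j : S' →ₗ[S] N :=
    LinearMap.codRestrict N (IsScalarTower.toAlgHom S S' K'').toLinearMap h3
  have hj : Function.Injective j := by
    intro y y' hyy'
    have := congrArg (fun z : N => (z : K'')) hyy'
    exact FaithfulSMul.algebraMap_injective S' K'' this
  haveI : Module.Finite S N := Module.Finite.iff_fg.mpr hNfg
  haveI : IsNoetherian S N := isNoetherian_of_isNoetherianRing_of_finite S N
  exact Module.Finite.of_injective j hj

end F

section monic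

/-- A monic polynomial over `R` whose value at `x` lies in a given maximal ideal `m` of `S = R[x]`,
when `m ∩ R` is maximal. -/
theorem exists_monic_aeval_mem {R S : Type u} [CommRing R] [CommRing S] [Algebra R S]
    (x : S) (hgen : Algebra.adjoin R {x} = ⊤) (m : Ideal S) [m.IsMaximal]
    (hn : (m.comap (algebraMap R S)).IsMaximal) : ∃ g : R[X], g.Monic ∧ aeval x g ∈ m := by
  haveI : Algebra.FiniteType R S := finiteType_of_adjoin x hgen
  letI : Field (R ⧸ m.comap (algebraMap R S)) := Ideal.Quotient.field _
  letI : Field (S ⧸ m) := Ideal.Quotient.field _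
  haveI : Algebra.FiniteType R (S ⧸ m) :=
    Algebra.FiniteType.of_surjective (Ideal.Quotient.mkₐ R m) (Ideal.Quotient.mkₐ_surjective R m)
  haveI : Algebra.FiniteType (R ⧸ m.comap (algebraMap R S)) (S ⧸ m) :=
    Algebra.FiniteType.of_restrictScalars_finiteType R _ _
  haveI : Module.Finite (R ⧸ m.comap (algebraMap R S)) (S ⧸ m) :=
    finite_of_finite_type_of_isJacobsonRing _ _
  have h1 : IsIntegral (R ⧸ m.comap (algebraMap R S)) (Ideal.Quotient.mk m x) :=
    Algebra.IsIntegral.isIntegral _
  haveI : Algebra.IsIntegral R (R ⧸ m.comap (algebraMap R S)) :=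
    ⟨fun s => by
      obtain ⟨r, rfl⟩ := Ideal.Quotient.mk_surjective s
      exact isIntegral_algebraMap⟩
  have h2 : IsIntegral R (Ideal.Quotient.mk m x) :=
    isIntegral_trans (R := R) (A := R ⧸ m.comap (algebraMap R S)) _ h1
  obtain ⟨g, hg, hgx⟩ := h2
  refine ⟨g, hg, ?_⟩
  rw [← Ideal.Quotient.eq_zero_iff_mem]
  have h3 : Ideal.Quotient.mk m (aeval x g) = aeval (Ideal.Quotient.mk m x) g :=
    (Polynomial.aeval_algHom_apply (Ideal.Quotient.mkₐ R m) x g).symm
  rw [h3, aeval_def]
  exact hgx

end monic

end Groth.Agent.Lib.Helper24.NagFT
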