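import Mathlib
import Groth.Agent.Lib.Helper24.NagFT6
import Groth.Agent.Lib.Helper13.PIns2

/-!
# Nagata rings are universally Japanese, part 7: bound at a maximal ideal over a maximal ideal
(helper24)
-/

set_option autoImplicit false
universe u

namespace Groth.Agent.Lib.Helper24.NagFT

open Groth.Agent.Lib.Helper24.LocGlobN1 Polynomial

section G

variable {R : Type u} [CommRing R] [IsDomain R] [IsIntegrallyClosed R] (hR : CAlg.IsNagata R)
  (K : Type u) [Field K] [Algebra R K] [IsFractionRing R K]
  {S : Type u} [CommRing S] [IsDomain S] [Algebra R S] [Algebra S K]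
  [IsScalarTower R S K] [FaithfulSMul S K] (x : S) (hgen : Algebra.adjoin R {x} = ⊤)
  (a b : R) (ha : a ≠ 0) (hab : algebraMap R S a * x = algebraMap R S b)
  {R' : Type u} [CommRing R'] [IsDomain R'] [IsIntegrallyClosed R'] (hR' : CAlg.IsNagata R')
  [Algebra R R'] [Module.Finite R R']
  (K'' : Type u) [Field K''] [Algebra R' K''] [IsFractionRing R' K'']
  [Algebra K K''] [Algebra R K''] [IsScalarTower R K K''] [IsScalarTower R R' K'']
  [Algebra S K''] [IsScalarTower S K K''] [IsScalarTower R S K'']

include hR K hgen ha hab hR' K'' in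
/-- The extension step with an abstract normal Nagata `R'` finite over `R` containing all roots of a
monic `g` with `g(x) ∈ m`. -/
theorem bound_of_roots (m : Ideal S) [m.IsMaximal] (g : R[X]) (hg : g.Monic) (hgm : aeval x g ∈ m)
    (hsplit : (g.map (algebraMap R K'')).Splits)
    (hint : ∀ α : K'', IsIntegral R α → ∃ β : R', algebraMap R' K'' β = α) :
    Bound K (algebraMap R S a) m.primeCompl := by
  classical
  haveI := hR.1
  haveI : Algebra.FiniteType R S := finiteType_of_adjoin x hgen
  haveI : IsNoetherianRing S := Algebra.FiniteType.isNoetherianRing R S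
  have hinjRK'' : Function.Injective (algebraMap R K'') := by
    rw [IsScalarTower.algebraMap_eq R K K'']
    exact (algebraMap K K'').injective.comp (IsFractionRing.injective R K)
  have hinjRR' : Function.Injective (algebraMap R R') := by
    rw [IsScalarTower.algebraMap_eq R R' K''] at hinjRK''
    exact Function.Injective.of_comp hinjRK''
  obtain ⟨x'', hx''⟩ : ∃ x'' : K'', x'' = algebraMap S K'' x := ⟨_, rfl⟩
  -- the ring `S' = R'[x'']`
  obtain ⟨S', hS'⟩ : ∃ S' : Subalgebra R' K'', S' = Algebra.adjoin R' {x''} := ⟨_, rfl⟩
  have hx''mem : x'' ∈ S' := by rw [hS']; exact Algebra.subset_adjoin (Set.mem_singleton _)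
  have hgen' : Algebra.adjoin R' {(⟨x'', hx''mem⟩ : S')} = ⊤ := by
    subst hS'
    have h1 := Algebra.adjoin_adjoin_coe_preimage (R := R') (s := ({x''} : Set K''))
    convert h1 using 2
    ext y
    simp [Subtype.ext_iff]
  haveI : FaithfulSMul S' K'' :=
    (faithfulSMul_iff_algebraMap_injective S' K'').mpr Subtype.val_injective
  have hmemS : ∀ s : S, algebraMap S K'' s ∈ S' := by
    intro s
    have hs : s ∈ Algebra.adjoin R {x} := by rw [hgen]; trivial
    induction hs using Algebra.adjoin_induction with
    | mem y hy =>
      rw [Set.mem_singleton_iff] at hy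
      rw [hy, ← hx'']
      exact hx''mem
    | algebraMap r =>
      rw [← IsScalarTower.algebraMap_apply R S K'', IsScalarTower.algebraMap_apply R R' K'']
      exact Subalgebra.algebraMap_mem S' _
    | add y y' _ _ hy hy' => rw [map_add]; exact Subalgebra.add_mem _ hy hy'
    | mul y y' _ _ hy hy' => rw [map_mul]; exact Subalgebra.mul_mem _ hy hy'
  letI algSS' : Algebra S S' := (RingHom.codRestrict (algebraMap S K'') S' hmemS).toAlgebra
  haveI : IsScalarTower S S' K'' := IsScalarTower.of_algebraMap_eq (fun s => rfl)
  haveI : Module.Finite S S' :=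
    finite_of_adjoin R x (⟨x'', hx''mem⟩ : S') hx'' hgen'
  have hcoe : ∀ r : R, algebraMap R' K'' (algebraMap R R' r) = algebraMap R K'' r := fun r =>
    (IsScalarTower.algebraMap_apply R R' K'' r).symm
  have hab' : algebraMap R' S' (algebraMap R R' a) * (⟨x'', hx''mem⟩ : S') =
      algebraMap R' S' (algebraMap R R' b) := by
    apply Subtype.ext
    change algebraMap R' K'' (algebraMap R R' a) * x'' = algebraMap R' K'' (algebraMap R R' b)
    rw [hcoe, hcoe, hx'', IsScalarTower.algebraMap_apply R S K'' a,
      IsScalarTower.algebraMap_apply R S K'' b, ← map_mul, hab]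
  have ha' : algebraMap R R' a ≠ 0 := by
    rw [Ne, map_eq_zero_iff _ hinjRR']; exact ha
  have hcompat : algebraMap R' S' (algebraMap R R' a) = algebraMap S S' (algebraMap R S a) := by
    apply Subtype.ext
    change algebraMap R' K'' (algebraMap R R' a) = algebraMap S K'' (algebraMap R S a)
    rw [hcoe, ← IsScalarTower.algebraMap_apply R S K'']
  refine bound_of_extension hR K x hgen a b ha hab hR' K'' (⟨x'', hx''mem⟩ : S') hgen'
    (algebraMap R R' a) (algebraMap R R' b) ha' hab' hcompat m ?_
  intro m' _ hm'
  -- roots
  let βf : K'' → R' := fun α => if h : IsIntegral R α then Classical.choose (hint α h) else 0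
  have hβf : ∀ α ∈ g.aroots K'', algebraMap R' K'' (βf α) = α := by
    intro α hα
    have hαint : IsIntegral R α := ⟨g, hg, by
      rw [← aeval_def]; exact (Polynomial.mem_aroots'.mp hα).2⟩
    simp only [βf, dif_pos hαint]
    exact Classical.choose_spec (hint α hαint)
  let M' : Multiset S' :=
    (g.aroots K'').map (fun α => (⟨x'', hx''mem⟩ : S') - algebraMap R' S' (βf α))
  have hP : algebraMap S S' (aeval x g) ∈ m' := by
    rw [← Ideal.mem_comap, hm']; exact hgm
  have hPM : algebraMap S S' (aeval x g) = M'.prod := by
    apply Subtype.ext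
    change algebraMap S K'' (aeval x g) = algebraMap S' K'' M'.prod
    rw [map_multiset_prod, Multiset.map_map, ← Polynomial.aeval_algebraMap_apply, ← hx'',
      Splits.aeval_eq_prod_aroots_of_monic hsplit hg x'']
    congr 1
    apply Multiset.map_congr rfl
    intro α hα
    change x'' - α = x'' - algebraMap R' K'' (βf α)
    rw [hβf α hα]
  rw [hPM] at hP
  obtain ⟨p, hpM, hpm⟩ :=
    (Ideal.IsPrime.multiset_prod_mem_iff_exists_mem (inferInstance : m'.IsPrime) M').mp hP
  obtain ⟨α, -, rfl⟩ := Multiset.mem_map.mp hpM
  exact ⟨βf α, hpm⟩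

end G

section H

variable {R : Type u} [CommRing R] [IsDomain R] [IsIntegrallyClosed R] (hR : CAlg.IsNagata R)
  (K : Type u) [Field K] [Algebra R K] [IsFractionRing R K]
  {S : Type u} [CommRing S] [IsDomain S] [Algebra R S] [Algebra S K]
  [IsScalarTower R S K] [FaithfulSMul S K] (x : S) (hgen : Algebra.adjoin R {x} = ⊤)
  (a b : R) (ha : a ≠ 0) (hab : algebraMap R S a * x = algebraMap R S b)

include hR K hgen ha hab in
/-- A bound at every maximal ideal of `S = R[x]` lying over a maximal ideal of `R`. -/
theorem bound_of_comap_isMaximal (m : Ideal S) [m.IsMaximal]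
    (hn : (m.comap (algebraMap R S)).IsMaximal) :
    Bound K (algebraMap R S a) m.primeCompl := by
  obtain ⟨g, hg, hgm⟩ := exists_monic_aeval_mem x hgen m hn
  haveI := hR.1
  -- the splitting field
  haveI : IsScalarTower R S (g.map (algebraMap R K)).SplittingField :=
    IsScalarTower.of_algebraMap_eq (fun r => by
      rw [IsScalarTower.algebraMap_apply R K (g.map (algebraMap R K)).SplittingField,
        IsScalarTower.algebraMap_apply R S K,
        ← IsScalarTower.algebraMap_apply S K (g.map (algebraMap R K)).SplittingField])
  haveI : Module.Finite R (integralClosure R (g.map (algebraMap R K)).SplittingField) :=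
    Groth.Agent.Lib.helper13.PIns.IsN2.finite_integralClosure (isN2_of_isNagata hR) K _
  haveI : IsIntegrallyClosed (integralClosure R (g.map (algebraMap R K)).SplittingField) :=
    integralClosure.isIntegrallyClosedOfFiniteExtension K
  haveI : IsFractionRing (integralClosure R (g.map (algebraMap R K)).SplittingField)
      (g.map (algebraMap R K)).SplittingField :=
    integralClosure.isFractionRing_of_finite_extension K _
  have hR' : CAlg.IsNagata (integralClosure R (g.map (algebraMap R K)).SplittingField) :=
    isNagata_of_finite hR _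
  have hsplit : (g.map (algebraMap R (g.map (algebraMap R K)).SplittingField)).Splits := by
    have := Polynomial.SplittingField.splits (g.map (algebraMap R K))
    rwa [Polynomial.map_map, ← IsScalarTower.algebraMap_eq] at this
  exact bound_of_roots hR K x hgen a b ha hab hR' (g.map (algebraMap R K)).SplittingField m g hg hgm
    hsplit (fun α hα => ⟨⟨α, hα⟩, rfl⟩)

end H

end Groth.Agent.Lib.Helper24.NagFT
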