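import Mathlib
import Groth.Agent.Lib.Helper24.NagFT7

/-!
# Nagata rings are universally Japanese, part 8: bound at every maximal ideal; `R[x]` is N-1
(helper24)
-/

set_option autoImplicit false
universe u

namespace Groth.Agent.Lib.Helper24.NagFT

open Groth.Agent.Lib.Helper24.LocGlobN1 Polynomial

section general

variable {R : Type u} [CommRing R] [IsDomain R] [IsIntegrallyClosed R] (hR : CAlg.IsNagata R)
  (K : Type u) [Field K] [Algebra R K] [IsFractionRing R K]
  {S : Type u} [CommRing S] [IsDomain S] [Algebra R S] [Algebra S K]
  [IsScalarTower R S K] [FaithfulSMul S K] (x : S) (hgen : Algebra.adjoin R {x} = ⊤)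
  (a b : R) (ha : a ≠ 0) (hab : algebraMap R S a * x = algebraMap R S b)

include hR K hgen ha hab in
/-- A bound at every maximal ideal of `S = R[x]`. -/
theorem bound_of_isMaximal (m : Ideal S) [m.IsMaximal] :
    Bound K (algebraMap R S a) m.primeCompl := by
  have hinjS : Function.Injective (algebraMap R S) := algebraMap_injective_of_tower K
  have hinjK : Function.Injective (algebraMap S K) := FaithfulSMul.algebraMap_injective S K
  obtain ⟨n, hn⟩ : ∃ n : Ideal R, n = m.comap (algebraMap R S) := ⟨_, rfl⟩
  haveI hnprime : n.IsPrime := by rw [hn]; exact Ideal.comap_isPrime _ _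
  have hmem : ∀ r : R, algebraMap R S r ∈ m ↔ r ∈ n := fun r => by rw [hn, Ideal.mem_comap]
  have hle : n.primeCompl ≤ nonZeroDivisors R := n.primeCompl_le_nonZeroDivisors
  -- the localizations
  have hUle : Algebra.algebraMapSubmonoid S n.primeCompl ≤ nonZeroDivisors S := by
    rintro _ ⟨r, hr, rfl⟩
    apply mem_nonZeroDivisors_of_ne_zero
    rw [Ne, map_eq_zero_iff _ hinjS]
    rintro rfl
    exact hr (Ideal.zero_mem _)
  have hU : Algebra.algebraMapSubmonoid S n.primeCompl ≤ m.primeCompl := by
    rintro _ ⟨r, hr, rfl⟩
    exact fun h => hr ((hmem r).mp h)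
  haveI : IsDomain (Localization (Algebra.algebraMapSubmonoid S n.primeCompl)) :=
    IsLocalization.isDomain_of_le_nonZeroDivisors _ hUle
  haveI : IsIntegrallyClosed (Localization.AtPrime n) :=
    isIntegrallyClosed_of_isLocalization _ n.primeCompl hle
  have hR₁ : CAlg.IsNagata (Localization.AtPrime n) :=
    isNagata_of_isLocalization hR n.primeCompl _
  letI algR₁K : Algebra (Localization.AtPrime n) K :=
    IsLocalization.localizationAlgebraOfSubmonoidLe _ K n.primeCompl (nonZeroDivisors R) hle
  haveI : IsScalarTower R (Localization.AtPrime n) K :=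
    IsLocalization.localization_isScalarTower_of_submonoid_le _ K n.primeCompl
      (nonZeroDivisors R) hle
  haveI : IsFractionRing (Localization.AtPrime n) K :=
    IsFractionRing.isFractionRing_of_isDomain_of_isLocalization n.primeCompl _ K
  have hunits : ∀ y : Algebra.algebraMapSubmonoid S n.primeCompl, IsUnit (algebraMap S K y) := by
    intro y
    apply IsUnit.mk0
    rw [Ne, map_eq_zero_iff _ hinjK]
    exact nonZeroDivisors.ne_zero (hUle y.2)
  letI algS₁K : Algebra (Localization (Algebra.algebraMapSubmonoid S n.primeCompl)) K :=
    (IsLocalization.lift hunits).toAlgebra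
  haveI : IsScalarTower S (Localization (Algebra.algebraMapSubmonoid S n.primeCompl)) K :=
    IsScalarTower.of_algebraMap_eq (fun s => by
      rw [RingHom.algebraMap_toAlgebra, IsLocalization.lift_eq])
  haveI : IsScalarTower (Localization.AtPrime n)
      (Localization (Algebra.algebraMapSubmonoid S n.primeCompl)) K := by
    refine IsScalarTower.of_algebraMap_eq' ?_
    apply IsLocalization.ringHom_ext n.primeCompl
    ext r
    simp only [RingHom.comp_apply]
    rw [← IsScalarTower.algebraMap_apply R (Localization.AtPrime n) K,
      ← IsScalarTower.algebraMap_apply R (Localization.AtPrime n)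
        (Localization (Algebra.algebraMapSubmonoid S n.primeCompl)),
      IsScalarTower.algebraMap_apply R S (Localization (Algebra.algebraMapSubmonoid S n.primeCompl)),
      ← IsScalarTower.algebraMap_apply S _ K, ← IsScalarTower.algebraMap_apply R S K]
  haveI : FaithfulSMul (Localization (Algebra.algebraMapSubmonoid S n.primeCompl)) K := by
    rw [faithfulSMul_iff_algebraMap_injective, RingHom.algebraMap_toAlgebra,
      IsLocalization.lift_injective_iff]
    intro s s'
    rw [(IsLocalization.injective _ hUle).eq_iff, hinjK.eq_iff]
  -- the generator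
  have hgen₁ : Algebra.adjoin (Localization.AtPrime n)
      {algebraMap S (Localization (Algebra.algebraMapSubmonoid S n.primeCompl)) x} = ⊤ := by
    rw [eq_top_iff]
    intro y _
    have hS : ∀ s : S, algebraMap S (Localization (Algebra.algebraMapSubmonoid S n.primeCompl)) s ∈
        Algebra.adjoin (Localization.AtPrime n)
          {algebraMap S (Localization (Algebra.algebraMapSubmonoid S n.primeCompl)) x} := by
      intro s
      have hs : s ∈ Algebra.adjoin R {x} := by rw [hgen]; trivial
      induction hs using Algebra.adjoin_induction with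
      | mem y hy =>
        rw [Set.mem_singleton_iff] at hy
        rw [hy]
        exact Algebra.subset_adjoin (Set.mem_singleton _)
      | algebraMap r =>
        rw [← IsScalarTower.algebraMap_apply R S,
          IsScalarTower.algebraMap_apply R (Localization.AtPrime n)]
        exact Subalgebra.algebraMap_mem _ _
      | add y y' _ _ hy hy' => rw [map_add]; exact Subalgebra.add_mem _ hy hy'
      | mul y y' _ _ hy hy' => rw [map_mul]; exact Subalgebra.mul_mem _ hy hy'
    obtain ⟨s, ⟨_, r, hr, rfl⟩, rfl⟩ :=
      IsLocalization.exists_mk'_eq (Algebra.algebraMapSubmonoid S n.primeCompl) y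
    have hy : IsLocalization.mk' (Localization (Algebra.algebraMapSubmonoid S n.primeCompl)) s
        (⟨algebraMap R S r, ⟨r, hr, rfl⟩⟩ : Algebra.algebraMapSubmonoid S n.primeCompl) =
        algebraMap (Localization.AtPrime n) _
          (IsLocalization.mk' (Localization.AtPrime n) 1 (⟨r, hr⟩ : n.primeCompl)) *
        algebraMap S _ s := by
      rw [IsLocalization.mk'_eq_iff_eq_mul, mul_assoc, mul_comm (algebraMap S _ s), ← mul_assoc]
      simp only
      rw [IsScalarTower.algebraMap_apply R S (Localization (Algebra.algebraMapSubmonoid S n.primeCompl)) r |>.symm,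
        IsScalarTower.algebraMap_apply R (Localization.AtPrime n), ← map_mul,
        IsLocalization.mk'_spec, map_one, map_one, one_mul]
    rw [hy]
    exact Subalgebra.mul_mem _ (Subalgebra.algebraMap_mem _ _) (hS s)
  have hcompat : ∀ r : R, algebraMap (Localization.AtPrime n)
      (Localization (Algebra.algebraMapSubmonoid S n.primeCompl)) (algebraMap R _ r) =
      algebraMap S _ (algebraMap R S r) := by
    intro r
    rw [← IsScalarTower.algebraMap_apply R (Localization.AtPrime n),
      ← IsScalarTower.algebraMap_apply R S]
  have ha₁ : algebraMap R (Localization.AtPrime n) a ≠ 0 := by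
    rw [Ne, map_eq_zero_iff _ (IsLocalization.injective _ hle)]; exact ha
  have hab₁ : algebraMap (Localization.AtPrime n)
      (Localization (Algebra.algebraMapSubmonoid S n.primeCompl)) (algebraMap R _ a) *
      algebraMap S _ x = algebraMap (Localization.AtPrime n) _ (algebraMap R _ b) := by
    rw [hcompat, hcompat, ← map_mul, hab]
  -- the maximal ideal
  have hdisj : Disjoint ((Algebra.algebraMapSubmonoid S n.primeCompl : Submonoid S) : Set S)
      (m : Set S) := Set.disjoint_left.mpr (fun s hs hsm => hU hs hsm)
  haveI hm₁prime : (m.map (algebraMap S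
      (Localization (Algebra.algebraMapSubmonoid S n.primeCompl)))).IsPrime :=
    IsLocalization.isPrime_of_isPrime_disjoint _ _ m inferInstance hdisj
  have hm₁ : (m.map (algebraMap S (Localization (Algebra.algebraMapSubmonoid S n.primeCompl)))).comap
      (algebraMap S _) = m :=
    IsLocalization.under_map_of_isPrime_disjoint _ _ inferInstance hdisj
  haveI hm₁max : (m.map (algebraMap S
      (Localization (Algebra.algebraMapSubmonoid S n.primeCompl)))).IsMaximal := by
    obtain ⟨M, hMmax, hMle⟩ := Ideal.exists_le_maximal _ hm₁prime.ne_top
    have h1 : m ≤ M.comap (algebraMap S _) := by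
      rw [← hm₁]; exact Ideal.comap_mono hMle
    have h2 : M.comap (algebraMap S (Localization (Algebra.algebraMapSubmonoid S n.primeCompl))) = m := by
      symm
      apply (Ideal.IsMaximal.eq_of_le inferInstance ?_ h1)
      exact (Ideal.comap_isPrime _ M).ne_top
    have h3 : M = m.map (algebraMap S _) := by
      rw [← h2]
      exact (IsLocalization.map_under (Algebra.algebraMapSubmonoid S n.primeCompl) _ M).symm
    rw [← h3]; exact hMmax
  have hn₁ : ((m.map (algebraMap S
      (Localization (Algebra.algebraMapSubmonoid S n.primeCompl)))).comap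
      (algebraMap (Localization.AtPrime n) _)).IsMaximal := by
    have h1 : ((m.map (algebraMap S
        (Localization (Algebra.algebraMapSubmonoid S n.primeCompl)))).comap
        (algebraMap (Localization.AtPrime n) _)).comap (algebraMap R (Localization.AtPrime n)) = n := by
      rw [Ideal.comap_comap, ← IsScalarTower.algebraMap_eq,
        IsScalarTower.algebraMap_eq R S (Localization (Algebra.algebraMapSubmonoid S n.primeCompl)),
        ← Ideal.comap_comap, hm₁, hn]
    have h2 := IsLocalization.map_under n.primeCompl (Localization.AtPrime n)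
      ((m.map (algebraMap S (Localization (Algebra.algebraMapSubmonoid S n.primeCompl)))).comap
        (algebraMap (Localization.AtPrime n) _))
    rw [Ideal.under_def, h1, IsLocalization.AtPrime.map_eq_maximalIdeal] at h2
    rw [← h2]
    exact IsLocalRing.maximalIdeal.isMaximal _
  have hb₁ := bound_of_comap_isMaximal hR₁ K
    (algebraMap S (Localization (Algebra.algebraMapSubmonoid S n.primeCompl)) x) hgen₁
    (algebraMap R _ a) (algebraMap R _ b) ha₁ hab₁ _ hn₁
  rw [hcompat] at hb₁
  exact bound_of_isLocalization K (algebraMap R S a) (Algebra.algebraMapSubmonoid S n.primeCompl)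
    m hU _ hm₁ hb₁

end general

end Groth.Agent.Lib.Helper24.NagFT
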