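import Mathlib
import Groth.Agent.Lib.Helper24.NagFT8

/-!
# Nagata rings are universally Japanese, part 9: `R[x] ⊆ K` is N-1; algebraic monogenic extensions
are N-2 (helper24)
-/

set_option autoImplicit false
universe u

namespace Groth.Agent.Lib.Helper24.NagFT

open Groth.Agent.Lib.Helper24.LocGlobN1 Polynomial

section D

variable {R : Type u} [CommRing R] [IsDomain R] [IsIntegrallyClosed R] (hR : CAlg.IsNagata R)
  (K : Type u) [Field K] [Algebra R K] [IsFractionRing R K]
  {S : Type u} [CommRing S] [IsDomain S] [Algebra R S] [Algebra S K]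
  [IsScalarTower R S K] [FaithfulSMul S K] (x : S) (hgen : Algebra.adjoin R {x} = ⊤)

include hR hgen in
/-- **Step 6**: for a normal Nagata domain `R` with fraction field `K` and `x ∈ K`, the ring
`S = R[x]` is N-1. -/
theorem finite_integralClosure_of_monogenic : Module.Finite S (integralClosure S K) := by
  haveI := hR.1
  haveI : Algebra.FiniteType R S := finiteType_of_adjoin x hgen
  haveI : IsNoetherianRing S := Algebra.FiniteType.isNoetherianRing R S
  haveI : IsFractionRing S K := isFractionRing_of_tower R K S
  have hinjS : Function.Injective (algebraMap R S) := algebraMap_injective_of_tower K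
  have hinjK : Function.Injective (algebraMap S K) := FaithfulSMul.algebraMap_injective S K
  obtain ⟨⟨b, a⟩, h⟩ := IsLocalization.surj (nonZeroDivisors R) (algebraMap S K x)
  simp only at h
  have ha : (a : R) ≠ 0 := nonZeroDivisors.ne_zero a.2
  have hab : algebraMap R S a * x = algebraMap R S b := by
    apply hinjK
    rw [map_mul, ← IsScalarTower.algebraMap_apply, ← IsScalarTower.algebraMap_apply, ← h, mul_comm]
  have hf : algebraMap R S (a : R) ≠ 0 := by
    rw [Ne, map_eq_zero_iff _ hinjS]; exact ha
  refine finite_integralClosure_of_local_bounds K (algebraMap R S (a : R)) hf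
    (hpow_of_monogenic K x hgen a b ha hab) ?_
  intro m _
  obtain ⟨n, hn⟩ := bound_of_isMaximal hR K x hgen a b ha hab m
  exact ⟨n, fun z hz => by
    obtain ⟨s, hs, hsz⟩ := hn z hz
    exact ⟨s, hs, hsz⟩⟩

end D

section C

variable {R : Type u} [CommRing R] [IsDomain R] (hR : CAlg.IsNagata R)
  {S : Type u} [CommRing S] [IsDomain S] [Algebra R S] (x : S) (hgen : Algebra.adjoin R {x} = ⊤)
  {R' : Type u} [CommRing R'] [IsDomain R'] [IsIntegrallyClosed R'] (hR' : CAlg.IsNagata R')
  [Algebra R R'] [Module.Finite R R']
  (L : Type u) [Field L] [Algebra R' L] [IsFractionRing R' L]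
  [Algebra R L] [IsScalarTower R R' L] [Algebra S L] [IsScalarTower R S L]

include hR hgen hR' in
/-- **Step 5**, abstract form: if `R'` is a normal Nagata domain, finite over `R`, with fraction
field `L ⊇ S = R[x]`, then the integral closure of `S` in `L` is finite over `S`. -/
theorem finite_integralClosure_of_finite_normal : Module.Finite S (integralClosure S L) := by
  haveI := hR.1
  haveI : Algebra.FiniteType R S := finiteType_of_adjoin x hgen
  haveI : IsNoetherianRing S := Algebra.FiniteType.isNoetherianRing R S
  obtain ⟨x'', hx''⟩ : ∃ x'' : L, x'' = algebraMap S L x := ⟨_, rfl⟩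
  obtain ⟨S', hS'⟩ : ∃ S' : Subalgebra R' L, S' = Algebra.adjoin R' {x''} := ⟨_, rfl⟩
  have hx''mem : x'' ∈ S' := by rw [hS']; exact Algebra.subset_adjoin (Set.mem_singleton _)
  have hgen' : Algebra.adjoin R' {(⟨x'', hx''mem⟩ : S')} = ⊤ := by
    subst hS'
    have h1 := Algebra.adjoin_adjoin_coe_preimage (R := R') (s := ({x''} : Set L))
    convert h1 using 2
    ext y
    simp [Subtype.ext_iff]
  haveI : FaithfulSMul S' L :=
    (faithfulSMul_iff_algebraMap_injective S' L).mpr Subtype.val_injective
  have hmemS : ∀ s : S, algebraMap S L s ∈ S' := by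
    intro s
    have hs : s ∈ Algebra.adjoin R {x} := by rw [hgen]; trivial
    induction hs using Algebra.adjoin_induction with
    | mem y hy =>
      rw [Set.mem_singleton_iff] at hy
      rw [hy, ← hx'']
      exact hx''mem
    | algebraMap r =>
      rw [← IsScalarTower.algebraMap_apply R S L, IsScalarTower.algebraMap_apply R R' L]
      exact Subalgebra.algebraMap_mem S' _
    | add y y' _ _ hy hy' => rw [map_add]; exact Subalgebra.add_mem _ hy hy'
    | mul y y' _ _ hy hy' => rw [map_mul]; exact Subalgebra.mul_mem _ hy hy'
  letI algSS' : Algebra S S' := (RingHom.codRestrict (algebraMap S L) S' hmemS).toAlgebra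
  haveI : IsScalarTower S S' L := IsScalarTower.of_algebraMap_eq (fun s => rfl)
  haveI : Module.Finite S S' :=
    finite_of_adjoin R x (⟨x'', hx''mem⟩ : S') hx'' hgen'
  have hfin' : Module.Finite S' (integralClosure S' L) :=
    finite_integralClosure_of_monogenic hR' L (⟨x'', hx''mem⟩ : S') hgen'
  haveI : Module.Finite S (integralClosure (↥S') L) := Module.Finite.trans S' _
  haveI : IsNoetherian S (integralClosure (↥S') L) :=
    isNoetherian_of_isNoetherianRing_of_finite S _
  let j : integralClosure S L →ₗ[S] integralClosure (↥S') L :=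
    { toFun := fun z => ⟨z.1, z.2.tower_top⟩
      map_add' := fun z z' => rfl
      map_smul' := fun s z => rfl }
  exact Module.Finite.of_injective j
    (fun z z' hzz' => Subtype.ext (congrArg (fun w : integralClosure (↥S') L => (w : L)) hzz'))

end C

end Groth.Agent.Lib.Helper24.NagFT
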