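import Mathlib
import Groth.Agent.Lib.Helper24.NagFT9
import Groth.Agent.S0570

/-!
# Nagata rings are universally Japanese, part 10: finite type algebras over Nagata rings (helper24)
-/

set_option autoImplicit false
universe u

namespace Groth.Agent.Lib.Helper24.NagFT

open Polynomial

section C

variable {R : Type u} [CommRing R] [IsDomain R] (hR : CAlg.IsNagata R)
  {S : Type u} [CommRing S] [IsDomain S] [Algebra R S] [FaithfulSMul R S]
  (x : S) (hgen : Algebra.adjoin R {x} = ⊤)

include hR hgen in
/-- **Step 5**: a monogenic algebraic extension of domains `R ⊆ S = R[x]` with `R` Nagata is N-2. -/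
theorem isN2_of_monogenic_algebraic (halg : IsAlgebraic R x) : CAlg.IsN2 S := by
  intro L _ _ _ _ hfd
  haveI := hfd
  haveI := hR.1
  have hinjRS : Function.Injective (algebraMap R S) := FaithfulSMul.algebraMap_injective R S
  have hinjSF : Function.Injective (algebraMap S (FractionRing S)) :=
    IsFractionRing.injective S (FractionRing S)
  -- `R → L`
  letI algRL : Algebra R L := ((algebraMap S L).comp (algebraMap R S)).toAlgebra
  haveI : IsScalarTower R S L := IsScalarTower.of_algebraMap_eq (fun _ => rfl)
  -- `K → F`
  have hinjRF : Function.Injective (algebraMap R (FractionRing S)) := by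
    rw [IsScalarTower.algebraMap_eq R S (FractionRing S)]
    exact hinjSF.comp hinjRS
  letI algKF : Algebra (FractionRing R) (FractionRing S) :=
    (IsFractionRing.lift (A := R) (K := FractionRing R) (g := algebraMap R (FractionRing S))
      hinjRF).toAlgebra
  haveI : IsScalarTower R (FractionRing R) (FractionRing S) :=
    IsScalarTower.of_algebraMap_eq (fun r => by
      rw [RingHom.algebraMap_toAlgebra (IsFractionRing.lift _), IsFractionRing.lift_algebraMap])
  -- `F` is finite over `K`
  have hxF : IsIntegral (FractionRing R) (algebraMap S (FractionRing S) x) := by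
    have h1 : IsAlgebraic R (algebraMap S (FractionRing S) x) :=
      halg.algebraMap (A := FractionRing S)
    have h2 : IsAlgebraic (FractionRing R) (algebraMap S (FractionRing S) x) :=
      h1.extendScalars (IsFractionRing.injective R (FractionRing R))
    exact h2.isIntegral
  haveI : FiniteDimensional (FractionRing R)
      (IntermediateField.adjoin (FractionRing R) {algebraMap S (FractionRing S) x}) :=
    IntermediateField.adjoin.finiteDimensional hxF
  have hSmem : ∀ s : S, algebraMap S (FractionRing S) s ∈
      IntermediateField.adjoin (FractionRing R) {algebraMap S (FractionRing S) x} := by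
    intro s
    have hs : s ∈ Algebra.adjoin R {x} := by rw [hgen]; trivial
    induction hs using Algebra.adjoin_induction with
    | mem y hy =>
      rw [Set.mem_singleton_iff] at hy
      rw [hy]
      exact IntermediateField.mem_adjoin_simple_self _ _
    | algebraMap r =>
      rw [← IsScalarTower.algebraMap_apply R S (FractionRing S),
        IsScalarTower.algebraMap_apply R (FractionRing R) (FractionRing S)]
      exact IntermediateField.algebraMap_mem _ _
    | add y y' _ _ hy hy' => rw [map_add]; exact add_mem hy hy'
    | mul y y' _ _ hy hy' => rw [map_mul]; exact mul_mem hy hy'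
  have htop : ∀ y : FractionRing S,
      y ∈ IntermediateField.adjoin (FractionRing R) {algebraMap S (FractionRing S) x} := by
    intro y
    obtain ⟨s₁, s₂, -, rfl⟩ := IsFractionRing.div_surjective S y
    exact div_mem (hSmem s₁) (hSmem s₂)
  haveI : FiniteDimensional (FractionRing R) (FractionRing S) :=
    Module.Finite.of_surjective
      (IntermediateField.adjoin (FractionRing R)
        {algebraMap S (FractionRing S) x}).val.toLinearMap
      (fun y => ⟨⟨y, htop y⟩, rfl⟩)
  -- `K → L`
  letI algKL : Algebra (FractionRing R) L :=
    ((algebraMap (FractionRing S) L).comp (algebraMap (FractionRing R) (FractionRing S))).toAlgebra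
  haveI : IsScalarTower (FractionRing R) (FractionRing S) L :=
    IsScalarTower.of_algebraMap_eq (fun _ => rfl)
  haveI : IsScalarTower R (FractionRing R) L := IsScalarTower.of_algebraMap_eq (fun r => by
    rw [IsScalarTower.algebraMap_apply (FractionRing R) (FractionRing S) L,
      ← IsScalarTower.algebraMap_apply R (FractionRing R) (FractionRing S),
      IsScalarTower.algebraMap_apply R S (FractionRing S),
      ← IsScalarTower.algebraMap_apply S (FractionRing S) L,
      ← IsScalarTower.algebraMap_apply R S L])
  haveI : FiniteDimensional (FractionRing R) L := Module.Finite.trans (FractionRing S) L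
  -- the integral closure of `R` in `L`
  haveI : Module.Finite R (integralClosure R L) :=
    Groth.Agent.Lib.helper13.PIns.IsN2.finite_integralClosure (isN2_of_isNagata hR)
      (FractionRing R) L
  haveI : IsIntegrallyClosed (integralClosure R L) :=
    integralClosure.isIntegrallyClosedOfFiniteExtension (FractionRing R)
  haveI : IsFractionRing (integralClosure R L) L :=
    integralClosure.isFractionRing_of_finite_extension (FractionRing R) L
  have hR' : CAlg.IsNagata (integralClosure R L) := isNagata_of_finite hR _
  exact finite_integralClosure_of_finite_normal hR x hgen hR' L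

end C

section B

variable {R : Type u} [CommRing R] (hR : CAlg.IsNagata R)

include hR in
/-- **Steps 2–4**: a domain generated by one element over a Nagata ring is N-2. -/
theorem isN2_of_monogenic {T : Type u} [CommRing T] [IsDomain T] [Algebra R T] (t : T)
    (hgen : Algebra.adjoin R {t} = ⊤) : CAlg.IsN2 T := by
  haveI := hR.1
  haveI hker : (RingHom.ker (algebraMap R T)).IsPrime := RingHom.ker_isPrime _
  letI algR₀T : Algebra (R ⧸ RingHom.ker (algebraMap R T)) T :=
    (RingHom.kerLift (algebraMap R T)).toAlgebra
  haveI : IsScalarTower R (R ⧸ RingHom.ker (algebraMap R T)) T :=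
    IsScalarTower.of_algebraMap_eq (fun r => rfl)
  haveI : FaithfulSMul (R ⧸ RingHom.ker (algebraMap R T)) T :=
    (faithfulSMul_iff_algebraMap_injective _ _).mpr (RingHom.kerLift_injective _)
  have hR₀ : CAlg.IsNagata (R ⧸ RingHom.ker (algebraMap R T)) := isNagata_of_finite hR _
  haveI := hR₀.1
  have hgen₀ : Algebra.adjoin (R ⧸ RingHom.ker (algebraMap R T)) {t} = ⊤ := by
    rw [eq_top_iff]
    intro y hytop
    clear hytop
    have hy : y ∈ Algebra.adjoin R {t} := by rw [hgen]; trivial
    induction hy using Algebra.adjoin_induction with
    | mem y hy => exact Algebra.subset_adjoin hy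
    | algebraMap r =>
      rw [IsScalarTower.algebraMap_apply R (R ⧸ RingHom.ker (algebraMap R T)) T]
      exact Subalgebra.algebraMap_mem _ _
    | add y y' _ _ hy hy' => exact Subalgebra.add_mem _ hy hy'
    | mul y y' _ _ hy hy' => exact Subalgebra.mul_mem _ hy hy'
  by_cases halg : IsAlgebraic (R ⧸ RingHom.ker (algebraMap R T)) t
  · exact isN2_of_monogenic_algebraic hR₀ t hgen₀ halg
  · -- `T` is a polynomial ring
    have hinj : Function.Injective (aeval (R := R ⧸ RingHom.ker (algebraMap R T)) t) :=
      transcendental_iff_injective.mp halg
    have hsurj : Function.Surjective (aeval (R := R ⧸ RingHom.ker (algebraMap R T)) t) := by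
      intro y
      have hy : y ∈ Algebra.adjoin (R ⧸ RingHom.ker (algebraMap R T)) {t} := by
        rw [hgen₀]; trivial
      rw [Algebra.adjoin_singleton_eq_range_aeval] at hy
      exact hy
    have h₀ : CAlg.IsN2 (Polynomial (R ⧸ RingHom.ker (algebraMap R T))) :=
      (Groth.Agent.S0570.result _).2 (isN2_of_isNagata hR₀)
    letI algPT : Algebra (Polynomial (R ⧸ RingHom.ker (algebraMap R T))) T :=
      (aeval (R := R ⧸ RingHom.ker (algebraMap R T)) t).toRingHom.toAlgebra
    haveI : Module.Finite (Polynomial (R ⧸ RingHom.ker (algebraMap R T))) T :=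
      Module.Finite.of_surjective
        (Algebra.linearMap (Polynomial (R ⧸ RingHom.ker (algebraMap R T))) T) hsurj
    haveI : FaithfulSMul (Polynomial (R ⧸ RingHom.ker (algebraMap R T))) T :=
      (faithfulSMul_iff_algebraMap_injective _ _).mpr hinj
    intro L _ _ _ _ hfd
    haveI := hfd
    exact Groth.Agent.Lib.helper13.PIns.finite_integralClosure_of_finite_injective h₀
      (FractionRing T) L

include hR in
/-- An algebra generated by one element over a Nagata ring is Nagata. -/
theorem isNagata_of_monogenic {S : Type u} [CommRing S] [Algebra R S] (x : S)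
    (hgen : Algebra.adjoin R {x} = ⊤) : CAlg.IsNagata S := by
  haveI := hR.1
  haveI : Algebra.FiniteType R S := finiteType_of_adjoin x hgen
  refine ⟨Algebra.FiniteType.isNoetherianRing R S, fun q _ => ?_⟩
  refine isN2_of_monogenic hR (Ideal.Quotient.mk q x) ?_
  have h1 := congrArg (Subalgebra.map (Ideal.Quotient.mkₐ R q)) hgen
  rw [AlgHom.map_adjoin, Set.image_singleton, Algebra.map_top,
    (AlgHom.range_eq_top _).mpr (Ideal.Quotient.mkₐ_surjective R q)] at h1
  exact h1

include hR in
theorem isNagata_polynomial : CAlg.IsNagata (Polynomial R) :=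
  isNagata_of_monogenic hR (X : Polynomial R) Polynomial.adjoin_X

end B

/-- Polynomial rings in finitely many variables over a Nagata ring are Nagata. -/
theorem isNagata_mvPolynomial_fin (n : ℕ) : ∀ (R : Type u) [CommRing R], CAlg.IsNagata R →
    CAlg.IsNagata (MvPolynomial (Fin n) R) := by
  induction n with
  | zero =>
    intro R _ hR
    haveI : Module.Finite R (MvPolynomial (Fin 0) R) :=
      Module.Finite.of_surjective (MvPolynomial.isEmptyAlgEquiv R (Fin 0)).symm.toLinearMap
        (MvPolynomial.isEmptyAlgEquiv R (Fin 0)).symm.surjective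
    exact isNagata_of_finite hR _
  | succ n ih =>
    intro R _ hR
    have h1 : CAlg.IsNagata (Polynomial (MvPolynomial (Fin n) R)) :=
      isNagata_polynomial (ih R hR)
    letI alg : Algebra (Polynomial (MvPolynomial (Fin n) R)) (MvPolynomial (Fin (n + 1)) R) :=
      ((MvPolynomial.finSuccEquiv R n).symm : Polynomial (MvPolynomial (Fin n) R) →+*
        MvPolynomial (Fin (n + 1)) R).toAlgebra
    haveI : Module.Finite (Polynomial (MvPolynomial (Fin n) R)) (MvPolynomial (Fin (n + 1)) R) :=
      Module.Finite.of_surjective
        (Algebra.linearMap (Polynomial (MvPolynomial (Fin n) R)) (MvPolynomial (Fin (n + 1)) R))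
        (MvPolynomial.finSuccEquiv R n).symm.surjective
    exact isNagata_of_finite h1 _

/-- **Nagata's theorem**: an algebra of finite type over a Nagata ring is Nagata. -/
theorem isNagata_of_finiteType {R : Type u} [CommRing R] (hR : CAlg.IsNagata R)
    (S : Type u) [CommRing S] [Algebra R S] [Algebra.FiniteType R S] : CAlg.IsNagata S := by
  obtain ⟨n, f, hf⟩ := Algebra.FiniteType.iff_quotient_mvPolynomial''.mp
    (inferInstance : Algebra.FiniteType R S)
  letI alg : Algebra (MvPolynomial (Fin n) R) S := f.toRingHom.toAlgebra
  haveI : Module.Finite (MvPolynomial (Fin n) R) S :=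
    Module.Finite.of_surjective (Algebra.linearMap (MvPolynomial (Fin n) R) S) hf
  exact isNagata_of_finite (isNagata_mvPolynomial_fin n R hR) S

end Groth.Agent.Lib.Helper24.NagFT
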