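import Mathlib
import Groth.Agent.Lib.Helper24.HenselLocal
import Groth.Agent.Lib.Helper24.QuasiFiniteSplit

/-!
# Localisations of quasi-finite algebras over a henselian local ring

* `exists_idempotent_local`: for a finite algebra `D` over a henselian local ring and a maximal
  ideal `n`, there is an idempotent `ε ∉ n` such that every `s ∉ n` divides `ε`.
* `surjective_algebraMap_atPrime_of_finite`: `D → D_n` is surjective.
* `finite_atPrime_of_quasiFiniteAt`: for `D` of finite type over henselian `H`, quasi-finite at a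
  prime `Q` over the maximal ideal, `D_Q` is a finite `H`-module and `D → D_Q` is surjective.
-/

open IsLocalRing

namespace Groth.Agent.Lib.Helper24.QuasiFiniteLocal

universe u

open Groth.Agent.Lib.helper24.HenselLocal

section Finite

theorem exists_idempotent_local (H : Type u) [CommRing H] [HenselianLocalRing H] (D : Type u)
    [CommRing D] [Algebra H D] [Module.Finite H D] (n : Ideal D) [hn : n.IsMaximal] :
    ∃ ε : D, IsIdempotentElem ε ∧ ε ∉ n ∧ ∀ s : D, s ∉ n → ∃ d : D, s * d = ε := by
  classical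
  obtain ⟨ι, hι, A, hA, hloc, ⟨E⟩⟩ := isPiLocal_of_finite H D
  have hsum : ∑ i, E.symm (Pi.single i 1) = 1 := by
    rw [← map_sum, Finset.univ_sum_single]
    exact map_one E.symm
  obtain ⟨i₀, hi₀⟩ : ∃ i₀, E.symm (Pi.single i₀ 1) ∉ n := by
    by_contra hcon
    push Not at hcon
    have : (1 : D) ∈ n := by
      rw [← hsum]
      exact Ideal.sum_mem _ (fun i _ => hcon i)
    exact hn.ne_top ((Ideal.eq_top_iff_one n).2 this)
  have hsingle_mul : ∀ (x : ∀ i, A i) (u : A i₀),
      x * Pi.single i₀ u = Pi.single i₀ (x i₀ * u) := by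
    intro x u
    funext j
    by_cases hj : j = i₀
    · subst hj
      simp
    · simp [Pi.single_eq_of_ne hj]
  refine ⟨E.symm (Pi.single i₀ 1), ?_, hi₀, ?_⟩
  · show E.symm (Pi.single i₀ 1) * E.symm (Pi.single i₀ 1) = E.symm (Pi.single i₀ 1)
    rw [← map_mul, hsingle_mul, Pi.single_eq_same, one_mul]
  · intro s hs
    haveI := hloc i₀
    have hunit : IsUnit (E s i₀) := by
      by_contra hnu
      obtain ⟨c, ν, hν, hc⟩ : ∃ c : D, ∃ ν ∈ n, s * c + ν = 1 := by
        obtain ⟨c, hc⟩ := hn.exists_inv hs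
        obtain ⟨ν, hν, h⟩ := hc
        exact ⟨c, ν, hν, by rw [mul_comm]; exact h⟩
      have h1 : E s i₀ * E c i₀ + E ν i₀ = 1 := by
        have := congrArg (fun x => E x i₀) hc
        simpa using this
      have h2 : IsUnit (E ν i₀) := by
        have h3 : E s i₀ * E c i₀ ∈ maximalIdeal (A i₀) :=
          Ideal.mul_mem_right _ _ ((mem_maximalIdeal _).2 hnu)
        have h4 : E ν i₀ = 1 - E s i₀ * E c i₀ := by rw [← h1]; ring
        rw [h4]
        by_contra hnu'
        have h5 : (1 : A i₀) ∈ maximalIdeal (A i₀) := by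
          have := Ideal.add_mem _ ((mem_maximalIdeal _).2 hnu') h3
          simpa using this
        exact (maximalIdeal.isMaximal (A i₀)).ne_top ((Ideal.eq_top_iff_one _).2 h5)
      obtain ⟨u, hu⟩ := h2.exists_right_inv
      apply hi₀
      have : E.symm (Pi.single i₀ 1) = ν * E.symm (Pi.single i₀ u) := by
        apply E.injective
        rw [map_mul, RingEquiv.apply_symm_apply, RingEquiv.apply_symm_apply, hsingle_mul, hu]
      rw [this]
      exact Ideal.mul_mem_right _ _ hν
    obtain ⟨u, hu⟩ := hunit.exists_right_inv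
    refine ⟨E.symm (Pi.single i₀ u), ?_⟩
    apply E.injective
    rw [map_mul, RingEquiv.apply_symm_apply, RingEquiv.apply_symm_apply, hsingle_mul, hu]

/-- an idempotent outside a prime becomes `1` in the localisation. -/
theorem algebraMap_idempotent_eq_one {D : Type*} [CommRing D] (Q : Ideal D) [Q.IsPrime]
    (ε : D) (hε : IsIdempotentElem ε) (hεQ : ε ∉ Q) :
    algebraMap D (Localization.AtPrime Q) ε = 1 := by
  have hu : IsUnit (algebraMap D (Localization.AtPrime Q) ε) :=
    IsLocalization.map_units (Localization.AtPrime Q) (⟨ε, hεQ⟩ : Q.primeCompl)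
  have h1 : algebraMap D (Localization.AtPrime Q) ε * algebraMap D (Localization.AtPrime Q) ε =
      algebraMap D (Localization.AtPrime Q) ε := by
    rw [← map_mul, hε.eq]
  have h2 := hu.mul_left_cancel (h1.trans (mul_one _).symm)
  exact h2

theorem surjective_algebraMap_atPrime_of_finite (H : Type u) [CommRing H] [HenselianLocalRing H]
    (D : Type u) [CommRing D] [Algebra H D] [Module.Finite H D] (n : Ideal D) [hn : n.IsMaximal] :
    Function.Surjective (algebraMap D (Localization.AtPrime n)) := by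
  obtain ⟨ε, hε, hεn, hdiv⟩ := exists_idempotent_local H D n
  intro y
  obtain ⟨x, s, rfl⟩ := IsLocalization.exists_mk'_eq n.primeCompl y
  obtain ⟨d, hd⟩ := hdiv s s.2
  refine ⟨x * d, ?_⟩
  rw [eq_comm, IsLocalization.mk'_eq_iff_eq_mul, ← map_mul, mul_assoc, mul_comm d, hd, map_mul,
    algebraMap_idempotent_eq_one n ε hε hεn, mul_one]

end Finite

section QuasiFinite

variable (H : Type u) [CommRing H] [HenselianLocalRing H] (D : Type u) [CommRing D] [Algebra H D]
  [Algebra.FiniteType H D]

theorem finite_atPrime_of_quasiFiniteAt (Q : Ideal D) [Q.IsPrime]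
    [hQm : Q.LiesOver (maximalIdeal H)] [Algebra.QuasiFiniteAt H Q] :
    Module.Finite H (Localization.AtPrime Q) ∧
      Function.Surjective (algebraMap D (Localization.AtPrime Q)) := by
  obtain ⟨e, he, heQ, hfin⟩ :=
    Groth.Agent.Lib.Helper24.QuasiFiniteSplit.exists_idempotent_of_quasiFiniteAt (R := H) Q
  -- the quotient by `1 - e`
  set I : Ideal D := Ideal.span ({1 - e} : Set D) with hI
  have h1e : (1 - e) ∈ Q := by
    have h0 : e * (1 - e) = 0 := by rw [mul_sub, mul_one, he.eq, sub_self]
    have h1 : e * (1 - e) ∈ Q := by rw [h0]; exact Q.zero_mem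
    exact (Ideal.IsPrime.mem_or_mem inferInstance h1).resolve_left heQ
  have hIQ : I ≤ Q := (Ideal.span_singleton_le_iff_mem Q).2 h1e
  have hae : algebraMap D (Localization.AtPrime Q) e = 1 :=
    algebraMap_idempotent_eq_one Q e he heQ
  have hkill : ∀ x ∈ I, algebraMap D (Localization.AtPrime Q) x = 0 := by
    intro x hx
    obtain ⟨c, rfl⟩ := Ideal.mem_span_singleton'.1 hx
    rw [map_mul, map_sub, map_one, hae, sub_self, mul_zero]
  -- the image of `Q` in the quotient
  have hker : RingHom.ker (Ideal.Quotient.mk I) ≤ Q := by rw [Ideal.mk_ker]; exact hIQ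
  haveI hnprime : (Q.map (Ideal.Quotient.mk I)).IsPrime :=
    Ideal.map_isPrime_of_surjective Ideal.Quotient.mk_surjective hker
  have hcomap : (Q.map (Ideal.Quotient.mk I)).comap (Ideal.Quotient.mk I) = Q := by
    rw [Ideal.comap_map_of_surjective _ Ideal.Quotient.mk_surjective, ← RingHom.ker_eq_comap_bot,
      sup_eq_left]
    exact hker
  haveI hint : Algebra.IsIntegral H (D ⧸ I) := Algebra.IsIntegral.of_finite H _
  haveI hnmax : (Q.map (Ideal.Quotient.mk I)).IsMaximal := by
    apply Ideal.isMaximal_of_isIntegral_of_isMaximal_comap (R := H)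
    have : (Q.map (Ideal.Quotient.mk I)).comap (algebraMap H (D ⧸ I)) = maximalIdeal H := by
      rw [IsScalarTower.algebraMap_eq H D (D ⧸ I), ← Ideal.comap_comap,
        Ideal.Quotient.algebraMap_eq, hcomap]
      exact (hQm.over).symm
    rw [this]
    exact maximalIdeal.isMaximal H
  obtain ⟨ε₁, hε₁, hε₁n, hdiv⟩ := exists_idempotent_local H (D ⧸ I) (Q.map (Ideal.Quotient.mk I))
  obtain ⟨ε, rfl⟩ := Ideal.Quotient.mk_surjective ε₁
  have hεQ : ε ∉ Q := fun h => hε₁n (Ideal.mem_map_of_mem _ h)
  have haε : algebraMap D (Localization.AtPrime Q) ε = 1 := by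
    have hu : IsUnit (algebraMap D (Localization.AtPrime Q) ε) :=
      IsLocalization.map_units (Localization.AtPrime Q) (⟨ε, hεQ⟩ : Q.primeCompl)
    have h2 : ε * ε - ε ∈ I := by
      rw [← Ideal.Quotient.eq_zero_iff_mem, map_sub, map_mul, hε₁.eq, sub_self]
    have h3 := hkill _ h2
    rw [map_sub, map_mul, sub_eq_zero] at h3
    exact hu.mul_left_cancel (h3.trans (mul_one _).symm)
  have hsurj : Function.Surjective (algebraMap D (Localization.AtPrime Q)) := by
    intro y
    obtain ⟨x, s, rfl⟩ := IsLocalization.exists_mk'_eq Q.primeCompl y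
    have hs : Ideal.Quotient.mk I (s : D) ∉ Q.map (Ideal.Quotient.mk I) := by
      intro h
      have : (s : D) ∈ (Q.map (Ideal.Quotient.mk I)).comap (Ideal.Quotient.mk I) := h
      rw [hcomap] at this
      exact s.2 this
    obtain ⟨d₁, hd₁⟩ := hdiv _ hs
    obtain ⟨d, rfl⟩ := Ideal.Quotient.mk_surjective d₁
    have h4 : (s : D) * d - ε ∈ I := by
      rw [← Ideal.Quotient.eq_zero_iff_mem, map_sub, map_mul, hd₁, sub_self]
    have h5 := hkill _ h4
    rw [map_sub, map_mul, haε, sub_eq_zero] at h5
    refine ⟨x * d, ?_⟩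
    rw [eq_comm, IsLocalization.mk'_eq_iff_eq_mul, map_mul, mul_assoc, mul_comm (algebraMap D _ d),
      h5, mul_one]
  refine ⟨?_, hsurj⟩
  -- finiteness: `D ⧸ I → D_Q` is a surjective `H`-linear map
  let α : (D ⧸ I) →ₐ[H] Localization.AtPrime Q :=
    Ideal.Quotient.liftₐ I (IsScalarTower.toAlgHom H D (Localization.AtPrime Q)) hkill
  have hα : Function.Surjective α := by
    intro y
    obtain ⟨x, rfl⟩ := hsurj y
    exact ⟨Ideal.Quotient.mk I x, rfl⟩
  exact Module.Finite.of_surjective α.toLinearMap hα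

end QuasiFinite

end Groth.Agent.Lib.Helper24.QuasiFiniteLocal
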