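import Mathlib
import Groth.Agent.Lib.Helper3.DimFormulaAt
import Groth.Agent.Lib.Helper3.ValFibreGeneric
import Groth.Agent.Lib.Helper3.FibreChev
import Groth.Agent.Lib.Helper26.DimFormula7

/-!
# Codepth of fibre local rings (helper24), part 1: residue transcendence degrees in a fibre

`A → C` of finite type.  For primes `q ≤ Q` of `C` with the same contraction to `A`:
`ht(Q/q) + td(Q) = td(q)` where `td(Q) = trdeg (A/p) (C/Q)`.
-/

set_option autoImplicit false
universe u

namespace Groth.Agent.Lib.Helper24.FibCod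

open Groth.Agent.Lib.helper3.DimIneq Groth.Agent.Lib.helper3.FTField
  Groth.Agent.Lib.helper3.FibreParam Function

/-- the localization of a domain at its zero ideal is universally catenary. -/
theorem uc_atPrime_bot (D : Type u) [CommRing D] [IsDomain D] (I : Ideal D) [I.IsPrime]
    (hI : I = ⊥) : CAlg.IsUniversallyCatenary (Localization.AtPrime I) := by
  subst hI
  have hf : IsField (Localization.AtPrime (⊥ : Ideal D)) := by
    rw [IsLocalRing.isField_iff_maximalIdeal_eq, ← Localization.AtPrime.map_eq_maximalIdeal,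
      Ideal.map_bot]
  letI := hf.toField
  exact Groth.Agent.Lib.helper26.DimFormula.isUniversallyCatenary_field _

variable {A C : Type u} [CommRing A] [CommRing C]

/-- **Dimension formula inside a fibre**: `ht(Q/q) + td(Q) = td(q)` for primes `q ≤ Q` of a finite
type `A`-algebra with the same contraction to `A`. -/
theorem height_map_add_td (φ : A →+* C) (hφ : φ.FiniteType) (q Q : Ideal C) [q.IsPrime]
    [Q.IsPrime] (hle : q ≤ Q) (hfib : q.comap φ = Q.comap φ) :
    ((Q.map (Ideal.Quotient.mk q)).height : Cardinal.{u}) + td (Ideal.quotientMap Q φ le_rfl) =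
      td (Ideal.quotientMap q φ le_rfl) := by
  haveI : IsDomain (C ⧸ q) := Ideal.Quotient.isDomain q
  haveI : IsDomain (A ⧸ q.comap φ) := Ideal.Quotient.isDomain _
  set φ0 := Ideal.quotientMap q φ le_rfl with hφ0
  have hφ0inj : Injective φ0 := Ideal.quotientMap_injective
  have hφ0ft : φ0.FiniteType := by
    have h1 : (φ0.comp (Ideal.Quotient.mk (q.comap φ))).FiniteType := by
      have : φ0.comp (Ideal.Quotient.mk (q.comap φ)) = (Ideal.Quotient.mk q).comp φ := by
        ext a; rfl
      rw [this]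
      exact (RingHom.FiniteType.of_surjective _ Ideal.Quotient.mk_surjective).comp hφ
    exact RingHom.FiniteType.of_comp_finiteType h1
  set Q' : Ideal (C ⧸ q) := Q.map (Ideal.Quotient.mk q) with hQ'
  haveI hQ'p : Q'.IsPrime := map_mk_isPrime q Q hle
  have hQc : Q'.comap (Ideal.Quotient.mk q) = Q := comap_map_mk q Q hle
  have hP : Q'.comap φ0 = ⊥ := by
    rw [eq_bot_iff]
    intro x hx
    obtain ⟨a, rfl⟩ := Ideal.Quotient.mk_surjective x
    rw [Ideal.mem_comap] at hx
    have h1 : φ0 (Ideal.Quotient.mk (q.comap φ) a) = Ideal.Quotient.mk q (φ a) := rfl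
    rw [h1, ← Ideal.mem_comap, hQc] at hx
    have h2 : a ∈ q.comap φ := by rw [hfib]; exact hx
    rw [Ideal.mem_bot]
    exact Ideal.Quotient.eq_zero_iff_mem.mpr h2
  haveI : (Q'.comap φ0).IsPrime := Ideal.comap_isPrime φ0 Q'
  have key := dimension_formula_at φ0 hφ0inj hφ0ft Q' (Q'.comap φ0) rfl
    (uc_atPrime_bot _ _ hP)
  have h0 : (Q'.comap φ0).height = 0 := by rw [hP]; exact Ideal.height_bot
  rw [h0] at key
  have h3 := Groth.Agent.Lib.helper3.ValFibreGeneric.td_quotientMap_map_mk φ q Q hle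
  rw [← h3]
  simpa using key

variable [Algebra A C]

/-- the residue transcendence degree at a prime, as a natural number. -/
noncomputable def tdN (A : Type u) {C : Type u} [CommRing A] [CommRing C] [Algebra A C]
    (Q : Ideal C) [Q.IsPrime] : ℕ :=
  Cardinal.toNat (td (Ideal.quotientMap Q (algebraMap A C) le_rfl))

theorem exists_nat_td [Algebra.FiniteType A C] (Q : Ideal C) [Q.IsPrime] :
    ∃ n : ℕ, td (Ideal.quotientMap Q (algebraMap A C) le_rfl) = (n : Cardinal.{u}) := by
  obtain ⟨n, f, hf⟩ := Algebra.FiniteType.iff_quotient_mvPolynomial''.mp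
    (inferInstance : Algebra.FiniteType A C)
  have h := td_quotientMap_le_card (A := A) (B := C) (σ := Fin n) f hf Q
  have hlt : td (Ideal.quotientMap Q (algebraMap A C) le_rfl) < Cardinal.aleph0 :=
    lt_of_le_of_lt h (Cardinal.natCast_lt_aleph0)
  obtain ⟨m, hm⟩ := Cardinal.lt_aleph0.mp hlt
  exact ⟨m, hm⟩

theorem tdN_spec [Algebra.FiniteType A C] (Q : Ideal C) [Q.IsPrime] :
    ((tdN A Q : ℕ) : Cardinal.{u}) = td (Ideal.quotientMap Q (algebraMap A C) le_rfl) := by
  obtain ⟨n, hn⟩ := exists_nat_td (A := A) Q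
  rw [tdN, hn, Cardinal.toNat_natCast]

/-- `ht(Q/q) + td(Q) = td(q)` in `ℕ∞`. -/
theorem height_map_add_tdN [Algebra.FiniteType A C] (q Q : Ideal C) [q.IsPrime] [Q.IsPrime]
    (hle : q ≤ Q) (hfib : q.comap (algebraMap A C) = Q.comap (algebraMap A C)) :
    (Q.map (Ideal.Quotient.mk q)).height + (tdN A Q : ℕ∞) = (tdN A q : ℕ∞) := by
  have h := height_map_add_td (algebraMap A C) (RingHom.finiteType_algebraMap.mpr inferInstance)
    q Q hle hfib
  rw [← tdN_spec, ← tdN_spec] at h
  -- the height is finite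
  have hfin : (Q.map (Ideal.Quotient.mk q)).height ≠ ⊤ := by
    intro htop
    rw [htop] at h
    have h1 : Cardinal.aleph0 ≤ (((⊤ : ℕ∞) : Cardinal.{u}) + (tdN A Q : Cardinal.{u})) := by
      refine le_trans ?_ (self_le_add_right _ _)
      simp
    rw [h] at h1
    exact absurd h1 (not_le.mpr (Cardinal.natCast_lt_aleph0))
  obtain ⟨m, hm⟩ := ENat.ne_top_iff_exists.mp hfin
  rw [← hm] at h ⊢
  have h2 : ((m + tdN A Q : ℕ) : Cardinal.{u}) = (tdN A q : ℕ) := by
    push_cast
    simpa using h
  have h3 : m + tdN A Q = tdN A q := by exact_mod_cast h2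
  exact_mod_cast h3

/-- Chevalley's semicontinuity in terms of `tdN`. -/
theorem exists_notMem_forall_tdN_le [Algebra.FiniteType A C] (Q : Ideal C) [Q.IsPrime] (n : ℕ)
    (H : ∀ q : Ideal C, ∀ _ : q.IsPrime, q ≤ Q →
      q.comap (algebraMap A C) = Q.comap (algebraMap A C) → tdN A q ≤ n) :
    ∃ r : C, r ∉ Q ∧ ∀ (q : Ideal C) [q.IsPrime], r ∉ q → tdN A q ≤ n := by
  obtain ⟨r, hr, Hr⟩ := exists_notMem_forall_td_le (R := A) (S := C) Q n (by
    intro q' hq' hle hc
    haveI := hq'
    rw [← tdN_spec]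
    exact_mod_cast H q' hq' hle hc)
  refine ⟨r, hr, fun q _ hq => ?_⟩
  have := Hr q hq
  rw [← tdN_spec] at this
  exact_mod_cast this

/-- the transcendence degree bound by the number of generators. -/
theorem tdN_le_card [Algebra.FiniteType A C] {n : ℕ} (f : MvPolynomial (Fin n) A →ₐ[A] C)
    (hf : Surjective f) (Q : Ideal C) [Q.IsPrime] : tdN A Q ≤ n := by
  have h := td_quotientMap_le_card (A := A) (B := C) (σ := Fin n) f hf Q
  rw [← tdN_spec] at h
  simpa using h

end Groth.Agent.Lib.Helper24.FibCod
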