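import Mathlib
import Groth.Agent.Lib.Helper24.FibCod1
import Groth.Agent.Lib.Helper5.FibLocRingDim

/-!
# Codepth of fibre local rings (helper24), part 2: the dimension of the fibre local ring

`A → C` of finite type, `C` Noetherian, `Q` a prime of `C`:
`dim (C_Q / p C_Q) + td(Q) ≤ e ↔ td(q) ≤ e` for all primes `q ≤ Q` in the fibre of `Q`.
-/

set_option autoImplicit false
universe u

namespace Groth.Agent.Lib.Helper24.FibCod

open Groth.Agent.Lib.helper3.DimIneq Groth.Agent.Lib.helper3.FTField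
  Groth.Agent.Lib.helper3.FibreParam Function

variable (A : Type u) {C : Type u} [CommRing A] [CommRing C] [Algebra A C]

theorem tdN_congr {q₁ q₂ : Ideal C} [q₁.IsPrime] [q₂.IsPrime] (h : q₁ = q₂) :
    tdN A q₁ = tdN A q₂ := by
  subst h; rfl

/-- `td` does not change on passing to a quotient of `C`. -/
theorem tdN_comap_mk (I : Ideal C) (q' : Ideal (C ⧸ I)) [q'.IsPrime] :
    tdN A (q'.comap (Ideal.Quotient.mk I)) = tdN A q' := by
  have h := td_quotientMap_comp (algebraMap A C) (Ideal.Quotient.mk I) q'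
  have h0 : td (Ideal.quotientMap q' (Ideal.Quotient.mk I) le_rfl) = 0 := by
    haveI : IsDomain (C ⧸ q'.comap (Ideal.Quotient.mk I)) := Ideal.Quotient.isDomain _
    have hsurj : Surjective (Ideal.quotientMap q' (Ideal.Quotient.mk I) le_rfl) :=
      Ideal.quotientMap_surjective Ideal.Quotient.mk_surjective
    letI := (Ideal.quotientMap q' (Ideal.Quotient.mk I) le_rfl).toAlgebra
    haveI : Algebra.IsAlgebraic (C ⧸ q'.comap (Ideal.Quotient.mk I)) ((C ⧸ I) ⧸ q') :=
      isAlgebraic_of_surjective _ hsurj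
    exact _root_.trdeg_eq_zero
  rw [h0, add_zero] at h
  have h1 : (Ideal.Quotient.mk I).comp (algebraMap A C) = algebraMap A (C ⧸ I) := rfl
  rw [td_quotientMap_congr_hom _ _ h1] at h
  rw [tdN, tdN, h]

variable [Algebra.FiniteType A C] [IsNoetherianRing C] (Q : Ideal C) [Q.IsPrime]

/-- `dim (C_Q / p C_Q) + td(Q) ≤ e` iff all generizations of `Q` in its fibre have `td ≤ e`. -/
theorem dim_fibLocRing_add_tdN_le_iff (e : ℕ) :
    ringKrullDim (EGA4.FibLocRing A C Q) + ((tdN A Q : ℕ) : WithBot ℕ∞) ≤ ((e : ℕ) : WithBot ℕ∞) ↔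
      ∀ q : Ideal C, ∀ _ : q.IsPrime, q ≤ Q →
        q.comap (algebraMap A C) = Q.comap (algebraMap A C) → tdN A q ≤ e := by
  set I := (Q.comap (algebraMap A C)).map (algebraMap A C) with hI
  have hIQ : I ≤ Q := Ideal.map_comap_le
  set Q' : Ideal (C ⧸ I) := Q.map (Ideal.Quotient.mk I) with hQ'
  haveI hQ'p : Q'.IsPrime := Groth.Agent.Lib.helper5.FibLoc.isPrime_map_mk A C Q
  have hQ'c : Q'.comap (Ideal.Quotient.mk I) = Q := comap_map_mk I Q hIQ
  have hdim : ringKrullDim (EGA4.FibLocRing A C Q) = ((Q'.height : ℕ∞) : WithBot ℕ∞) :=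
    Groth.Agent.Lib.helper5.FibLoc.ringKrullDim_fibLocRing A C Q
  haveI : Algebra.FiniteType A (C ⧸ I) :=
    Algebra.FiniteType.of_surjective (Ideal.Quotient.mkₐ A I) Ideal.Quotient.mk_surjective
  have hQ'A : tdN A Q' = tdN A Q := by
    rw [← tdN_comap_mk A I Q']
    exact tdN_congr A hQ'c
  -- every prime below `Q'` lies in its fibre
  have hfib : ∀ q' : Ideal (C ⧸ I), q'.IsPrime → q' ≤ Q' →
      q'.comap (algebraMap A (C ⧸ I)) = Q'.comap (algebraMap A (C ⧸ I)) := by
    intro q' _ hle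
    apply le_antisymm (Ideal.comap_mono hle)
    intro a ha
    rw [Ideal.mem_comap] at ha ⊢
    have h1 : algebraMap A (C ⧸ I) a = Ideal.Quotient.mk I (algebraMap A C a) := rfl
    rw [h1, ← Ideal.mem_comap, hQ'c] at ha
    have h2 : algebraMap A C a ∈ I := Ideal.mem_map_of_mem _ ha
    rw [h1, Ideal.Quotient.eq_zero_iff_mem.mpr h2]
    exact zero_mem _
  have hcast : ∀ (h : ℕ∞) (t e : ℕ), ((h : ℕ∞) : WithBot ℕ∞) + ((t : ℕ) : WithBot ℕ∞) ≤
      ((e : ℕ) : WithBot ℕ∞) ↔ h + (t : ℕ∞) ≤ (e : ℕ∞) := by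
    intro h t e
    have h1 : ((t : ℕ) : WithBot ℕ∞) = (((t : ℕ∞)) : WithBot ℕ∞) := rfl
    have h2 : ((e : ℕ) : WithBot ℕ∞) = (((e : ℕ∞)) : WithBot ℕ∞) := rfl
    rw [h1, h2, ← WithBot.coe_add, WithBot.coe_le_coe]
  rw [hdim, hcast, ← hQ'A]
  constructor
  · intro H q hq hle hc
    have hIq : I ≤ q := by
      rw [hI, ← hc]
      exact Ideal.map_comap_le
    set q' : Ideal (C ⧸ I) := q.map (Ideal.Quotient.mk I) with hq'
    haveI hq'p : q'.IsPrime := map_mk_isPrime I q hIq
    have hq'c : q'.comap (Ideal.Quotient.mk I) = q := comap_map_mk I q hIq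
    have hq'le : q' ≤ Q' := Ideal.map_mono hle
    have h1 := height_map_add_tdN (A := A) q' Q' hq'le (hfib q' hq'p hq'le)
    have h2 : (Q'.map (Ideal.Quotient.mk q')).height ≤ Q'.height :=
      Groth.Agent.Lib.helper3.FTField.height_map_le q' Q' hq'le
    have h3 : tdN A q = tdN A q' := by
      rw [← tdN_comap_mk A I q']
      exact tdN_congr A hq'c.symm
    have h4 : (tdN A q' : ℕ∞) ≤ (e : ℕ∞) := by
      rw [← h1]
      exact le_trans (add_le_add_left h2 _) H
    rw [h3]
    exact_mod_cast h4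
  · intro H
    obtain ⟨q0, hq0, hq0le, hht⟩ := exists_minimalPrimes_height_map_eq Q'
    haveI hq0p : q0.IsPrime := hq0.1.1
    have hht' := hht
    have h1 := height_map_add_tdN (A := A) q0 Q' hq0le (hfib q0 hq0p hq0le)
    rw [hht'] at h1
    rw [h1]
    haveI : (q0.comap (Ideal.Quotient.mk I)).IsPrime := Ideal.comap_isPrime _ _
    have h2 : q0.comap (Ideal.Quotient.mk I) ≤ Q := by
      rw [← hQ'c]
      exact Ideal.comap_mono hq0le
    have h3 : (q0.comap (Ideal.Quotient.mk I)).comap (algebraMap A C) =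
        Q.comap (algebraMap A C) := by
      have e1 : (q0.comap (Ideal.Quotient.mk I)).comap (algebraMap A C) =
          q0.comap (algebraMap A (C ⧸ I)) := by
        rw [Ideal.comap_comap]; rfl
      have e2 : Q.comap (algebraMap A C) = Q'.comap (algebraMap A (C ⧸ I)) := by
        conv_lhs => rw [← hQ'c]
        rw [Ideal.comap_comap]; rfl
      rw [e1, e2]
      exact hfib q0 hq0p hq0le
    have h4 := H (q0.comap (Ideal.Quotient.mk I)) inferInstance h2 h3
    rw [tdN_comap_mk A I q0] at h4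
    exact_mod_cast h4

omit [Algebra.FiniteType A C] in
/-- the dimension of the fibre local ring is a natural number. -/
theorem exists_nat_dim_fibLocRing :
    ∃ d : ℕ, ringKrullDim (EGA4.FibLocRing A C Q) = ((d : ℕ) : WithBot ℕ∞) := by
  set I := (Q.comap (algebraMap A C)).map (algebraMap A C) with hI
  set Q' : Ideal (C ⧸ I) := Q.map (Ideal.Quotient.mk I) with hQ'
  haveI hQ'p : Q'.IsPrime := Groth.Agent.Lib.helper5.FibLoc.isPrime_map_mk A C Q
  have hdim : ringKrullDim (EGA4.FibLocRing A C Q) = ((Q'.height : ℕ∞) : WithBot ℕ∞) :=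
    Groth.Agent.Lib.helper5.FibLoc.ringKrullDim_fibLocRing A C Q
  have hfin : Q'.height ≠ ⊤ := Ideal.height_ne_top_of_isPrime
  obtain ⟨m, hm⟩ := ENat.ne_top_iff_exists.mp hfin
  exact ⟨m, by rw [hdim, ← hm]; rfl⟩

end Groth.Agent.Lib.Helper24.FibCod
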