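import Mathlib
import Groth.Prelude.Def_EGA4b
import Groth.Agent.Lib.Helper24.FlatDepth7
import Groth.Agent.Lib.Helper24.FibreQuot
import Groth.Agent.Lib.Helper26.FibBC
import Groth.Agent.Lib.Helper26.Unmixed
import Groth.Agent.S9808

/-!
# Fibre rings and fibre local rings (helper24)

* `cm_fibLocRing_of_cm_fiber`: if the fibre ring `κ(p) ⊗ B` is Cohen–Macaulay then so is the fibre
  local ring `B_Q/pB_Q` at every `Q` over `p`;
* `cm_fiber_of_cm_fibLocRing`: conversely;
* `cm_fibLocRing_of_cm`: for `R → S` flat with `S` a Cohen–Macaulay ring all fibre local rings are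
  Cohen–Macaulay;
* `cm_fibLocRing_quotient`: the same for `R/I → S/IS`.
-/

set_option autoImplicit false
set_option linter.unusedSectionVars false
universe u
open TensorProduct IsLocalRing LocCoh Function
open Groth.Agent.Lib.Helper24.FlatDepth

namespace Groth.Agent.Lib.Helper24.PerfFib

section general

variable (A B : Type u) [CommRing A] [CommRing B] [Algebra A B]

/-- the two descriptions of the fibre local ring agree. -/
noncomputable def fibLocEquiv (Q : Ideal B) [Q.IsPrime] :
    FibLoc A B (Q.under A) Q ≃+* EGA4.FibLocRing A B Q :=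
  Ideal.quotEquivOfEq (by
    rw [Ideal.map_map, ← IsScalarTower.algebraMap_eq])

variable [IsNoetherianRing B]

theorem cm_fibLocRing_of_cm_fiber (Q : Ideal B) [Q.IsPrime]
    (h : IsCohenMacaulayRing ((Q.under A).Fiber B)) :
    IsCohenMacaulayLocalRing (EGA4.FibLocRing A B Q) := by
  obtain ⟨q, hq, ⟨e⟩⟩ := exists_fibre_prime_equiv A B (Q.under A) Q
  haveI := h.isCohenMacaulayLocalRing_localization q
  exact Groth.Agent.S9808.cm_of_ringEquiv (R := Localization.AtPrime q)
    (S := EGA4.FibLocRing A B Q) (e.trans (fibLocEquiv A B Q))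

theorem cm_fiber_of_cm_fibLocRing (p : Ideal A) [p.IsPrime]
    (h : ∀ (Q : Ideal B) [Q.IsPrime], Q.under A = p →
      IsCohenMacaulayLocalRing (EGA4.FibLocRing A B Q)) :
    IsCohenMacaulayRing (p.Fiber B) := by
  haveI : IsNoetherianRing (p.Fiber B) :=
    Groth.Agent.Lib.Helper24.HensFibre.isNoetherianRing_fibre A B p
  refine { isCohenMacaulayLocalRing_localization := ?_ }
  intro 𝔮 h𝔮
  set r := 𝔮.comap (Algebra.TensorProduct.includeRight : B →ₐ[A] p.Fiber B) with hr
  obtain ⟨e⟩ := Groth.Agent.Lib.helper26.FibBC.nonempty_fibLocRingEquiv A B p 𝔮 r hr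
  have hp : r.under A = p := by
    have h1 : p = 𝔮.comap (algebraMap A (p.Fiber B)) := Ideal.over_def 𝔮 p
    ext a
    rw [Ideal.under_def, hr, Ideal.mem_comap, Ideal.mem_comap, AlgHom.commutes]
    have h2 : a ∈ p ↔ a ∈ 𝔮.comap (algebraMap A (p.Fiber B)) := by rw [← h1]
    rw [h2, Ideal.mem_comap]
  haveI := h r hp
  exact Groth.Agent.S9808.cm_of_ringEquiv (R := EGA4.FibLocRing A B r)
    (S := Localization.AtPrime 𝔮) e.symm

end general

section cm

variable (R S : Type u) [CommRing R] [CommRing S] [Algebra R S]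
  [IsNoetherianRing R] [IsNoetherianRing S] [Module.Flat R S]

/-- flat into a Cohen–Macaulay ring: all fibre local rings are Cohen–Macaulay. -/
theorem cm_fibLocRing_of_cm (hS : IsCohenMacaulayRing S) (Q : Ideal S) [Q.IsPrime] :
    IsCohenMacaulayLocalRing (EGA4.FibLocRing R S Q) := by
  haveI := ((cm_atPrime_iff R S (Q.under R) Q).mp
    (hS.isCohenMacaulayLocalRing_localization Q)).2
  exact Groth.Agent.S9808.cm_of_ringEquiv (R := FibLoc R S (Q.under R) Q)
    (S := EGA4.FibLocRing R S Q) (fibLocEquiv R S Q)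

/-- the same for `R/I → S/IS`. -/
theorem cm_fibLocRing_quotient (hS : IsCohenMacaulayRing S) (I : Ideal R)
    (Q : Ideal (S ⧸ I.map (algebraMap R S))) [Q.IsPrime] :
    IsCohenMacaulayLocalRing (EGA4.FibLocRing (R ⧸ I) (S ⧸ I.map (algebraMap R S)) Q) := by
  apply cm_fibLocRing_of_cm_fiber
  refine Groth.Agent.Lib.Helper24.FibreQuot.cm_fibre I (Q.under (R ⧸ I))
    (B := S) (B' := S ⧸ I.map (algebraMap R S)) AlgEquiv.refl ?_
  exact cm_fiber_of_cm_fibLocRing R S _ (fun Q' _ _ => cm_fibLocRing_of_cm R S hS Q')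

end cm

end Groth.Agent.Lib.Helper24.PerfFib
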