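import Mathlib
import Groth.Agent.Lib.Helper24.FibCod2
import Groth.Agent.Lib.Helper24.PerfFib9

/-!
# Codepth of fibre local rings (helper24), part 3: fibre local rings of polynomial rings

`P = A[x_1, …, x_N]`, `𝔔` a prime of `P`: the fibre local ring `P_𝔔 / p P_𝔔` is a regular local ring
of dimension `N - td(𝔔)`.
-/

set_option autoImplicit false
universe u

namespace Groth.Agent.Lib.Helper24.FibCod

open Groth.Agent.Lib.helper3.DimIneq Groth.Agent.Lib.helper3.FTField
  Groth.Agent.Lib.helper3.FibreParam Function TensorProduct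

section regular

variable (A B : Type u) [CommRing A] [CommRing B] [Algebra A B]

/-- if the fibre ring is regular then so are the fibre local rings. -/
theorem isRegularLocalRing_fibLocRing_of_fiber (Q : Ideal B) [Q.IsPrime]
    (h : IsRegularRing ((Q.under A).Fiber B)) : IsRegularLocalRing (EGA4.FibLocRing A B Q) := by
  obtain ⟨q, hq, ⟨e⟩⟩ :=
    Groth.Agent.Lib.Helper24.FlatDepth.exists_fibre_prime_equiv A B (Q.under A) Q
  haveI := h.isRegularLocalRing_localization q
  exact IsRegularLocalRing.of_ringEquiv (R := Localization.AtPrime q)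
    (R' := EGA4.FibLocRing A B Q)
    (e.trans (Groth.Agent.Lib.Helper24.PerfFib.fibLocEquiv A B Q))

end regular

variable (A : Type u) [CommRing A] (N : ℕ)

theorem comap_map_C (p : Ideal A) :
    (p.map (algebraMap A (MvPolynomial (Fin N) A))).comap (algebraMap A (MvPolynomial (Fin N) A)) =
      p := by
  apply le_antisymm _ Ideal.le_comap_map
  intro a ha
  rw [Ideal.mem_comap, MvPolynomial.algebraMap_eq, MvPolynomial.mem_map_C_iff] at ha
  simpa using ha 0

theorem isPrime_map_C (p : Ideal A) [p.IsPrime] :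
    (p.map (algebraMap A (MvPolynomial (Fin N) A))).IsPrime := by
  rw [MvPolynomial.algebraMap_eq, ← Ideal.Quotient.isDomain_iff_prime]
  exact (MvPolynomial.quotientEquivQuotientMvPolynomial (σ := Fin N) p).symm.toMulEquiv.isDomain
    (MvPolynomial (Fin N) (A ⧸ p))

theorem td_map_C (p : Ideal A) [p.IsPrime] :
    haveI := isPrime_map_C A N p
    tdN A (p.map (algebraMap A (MvPolynomial (Fin N) A))) = N := by
  set J := p.map (algebraMap A (MvPolynomial (Fin N) A)) with hJ
  haveI hJp : J.IsPrime := isPrime_map_C A N p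
  have hJc : J.comap (algebraMap A (MvPolynomial (Fin N) A)) = p := comap_map_C A N p
  haveI : IsDomain (A ⧸ p) := Ideal.Quotient.isDomain p
  haveI : IsDomain (MvPolynomial (Fin N) A ⧸ J) := Ideal.Quotient.isDomain J
  haveI : (J.comap (algebraMap A (MvPolynomial (Fin N) A))).IsPrime := Ideal.comap_isPrime _ _
  haveI : IsDomain (A ⧸ J.comap (algebraMap A (MvPolynomial (Fin N) A))) :=
    Ideal.Quotient.isDomain _
  let e : (MvPolynomial (Fin N) A ⧸ J) ≃+* MvPolynomial (Fin N) (A ⧸ p) :=
    ((Ideal.quotEquivOfEq (by rw [hJ, MvPolynomial.algebraMap_eq])).trans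
      (MvPolynomial.quotientEquivQuotientMvPolynomial (σ := Fin N) p).symm.toRingEquiv)
  let g : (A ⧸ J.comap (algebraMap A (MvPolynomial (Fin N) A))) ≃+* (A ⧸ p) :=
    Ideal.quotEquivOfEq hJc
  have h := td_eq_of_square
    (Ideal.quotientMap J (algebraMap A (MvPolynomial (Fin N) A)) le_rfl)
    e.toRingHom g.toRingHom (algebraMap (A ⧸ p) (MvPolynomial (Fin N) (A ⧸ p))) ?_
    Ideal.quotientMap_injective e.injective g.injective
    (MvPolynomial.C_injective (Fin N) (A ⧸ p)) ?_ ?_
  · rw [tdN, h, td_algebraMap, MvPolynomial.trdeg_of_isDomain]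
    simp
  · apply Ideal.Quotient.ringHom_ext
    refine RingHom.ext fun a => ?_
    have h1 : ((e.toRingHom.comp (Ideal.quotientMap J
        (algebraMap A (MvPolynomial (Fin N) A)) le_rfl)).comp (Ideal.Quotient.mk _)) a =
        (MvPolynomial.quotientEquivQuotientMvPolynomial (σ := Fin N) p).symm
          (Ideal.Quotient.mk _ (MvPolynomial.C a)) := rfl
    have h2 : (((algebraMap (A ⧸ p) (MvPolynomial (Fin N) (A ⧸ p))).comp g.toRingHom).comp
        (Ideal.Quotient.mk _)) a = MvPolynomial.C (Ideal.Quotient.mk p a) := rfl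
    rw [h1, h2, AlgEquiv.symm_apply_eq]
    simp [MvPolynomial.quotientEquivQuotientMvPolynomial]
  · exact isAlgebraic_of_surjective _ e.surjective
  · exact isAlgebraic_of_surjective _ g.surjective

variable [IsNoetherianRing A]

/-- `dim (P_𝔔 / p P_𝔔) + td(𝔔) = N` for the polynomial ring in `N` variables. -/
theorem dim_fibLocRing_mvPolynomial (𝔔 : Ideal (MvPolynomial (Fin N) A)) [𝔔.IsPrime] :
    ringKrullDim (EGA4.FibLocRing A (MvPolynomial (Fin N) A) 𝔔) + ((tdN A 𝔔 : ℕ) : WithBot ℕ∞) =
      ((N : ℕ) : WithBot ℕ∞) := by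
  obtain ⟨d, hd⟩ := exists_nat_dim_fibLocRing A 𝔔
  apply le_antisymm
  · rw [dim_fibLocRing_add_tdN_le_iff]
    intro q hq _ _
    exact tdN_le_card (AlgHom.id A _) (fun x => ⟨x, rfl⟩) q
  · have h1 : ringKrullDim (EGA4.FibLocRing A (MvPolynomial (Fin N) A) 𝔔) +
        ((tdN A 𝔔 : ℕ) : WithBot ℕ∞) ≤ ((d + tdN A 𝔔 : ℕ) : WithBot ℕ∞) := by
      rw [hd]; push_cast; exact le_rfl
    rw [dim_fibLocRing_add_tdN_le_iff] at h1
    set p := 𝔔.comap (algebraMap A (MvPolynomial (Fin N) A)) with hp
    haveI : p.IsPrime := Ideal.comap_isPrime _ _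
    haveI := isPrime_map_C A N p
    have h2 := h1 (p.map (algebraMap A (MvPolynomial (Fin N) A))) inferInstance
      Ideal.map_comap_le (comap_map_C A N p)
    rw [td_map_C A N p] at h2
    rw [hd]
    exact_mod_cast h2

omit [IsNoetherianRing A] in
/-- the fibre local rings of a polynomial ring are regular. -/
theorem isRegularLocalRing_fibLocRing_mvPolynomial (𝔔 : Ideal (MvPolynomial (Fin N) A))
    [𝔔.IsPrime] : IsRegularLocalRing (EGA4.FibLocRing A (MvPolynomial (Fin N) A) 𝔔) := by
  apply isRegularLocalRing_fibLocRing_of_fiber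
  haveI : (𝔔.under A).IsPrime := Ideal.IsPrime.under A 𝔔
  exact IsRegularRing.of_ringEquiv
    (MvPolynomial.algebraTensorAlgEquiv (σ := Fin N) A (𝔔.under A).ResidueField).symm.toRingEquiv

end Groth.Agent.Lib.Helper24.FibCod
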