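import Mathlib
import Groth.Prelude.Def_EGA4b
import Groth.Agent.Lib.Helper26.DepthLoc3
import Groth.Agent.Lib.Helper26.DepthCR2
import Groth.Agent.Lib.Helper26.LocTrans
import Groth.Agent.Lib.Helper26.SkFlat1

/-!
# Depth and dimension of localizations along a surjective ring map (helper24)

For a surjection `R → A`, an `A`-module `M` and a prime `p` of `A` with contraction `P`:
`depth_{A_p} M_p = depth_{R_P} M_P` and `dim_{A_p} M_p = dim_{R_P} M_P`.
-/

set_option autoImplicit false
set_option linter.unusedSectionVars false
universe u

namespace Groth.Agent.Lib.helper24.CodepthReg

open LocCoh IsLocalRing Groth.Agent.Lib.helper26.Depth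

section transfer

variable {R A : Type u} [CommRing R] [CommRing A] [IsNoetherianRing R] [Algebra R A]
  (hs : Function.Surjective (algebraMap R A))
  (M : Type u) [AddCommGroup M] [Module A M] [Module R M] [IsScalarTower R A M] [Module.Finite A M]

include hs in
theorem depth_supportDim_comap (p : Ideal A) [p.IsPrime] :
    depth (Localization.AtPrime p) (LocalizedModule p.primeCompl M) =
      depth (Localization.AtPrime (p.comap (algebraMap R A)))
        (LocalizedModule (p.comap (algebraMap R A)).primeCompl M) ∧
    Module.supportDim (Localization.AtPrime p) (LocalizedModule p.primeCompl M) =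
      Module.supportDim (Localization.AtPrime (p.comap (algebraMap R A)))
        (LocalizedModule (p.comap (algebraMap R A)).primeCompl M) := by
  set P := p.comap (algebraMap R A) with hP
  haveI : IsNoetherianRing A := isNoetherianRing_of_surjective R A (algebraMap R A) hs
  haveI : Module.Finite R A := Module.Finite.of_surjective (Algebra.linearMap R A) hs
  haveI : Module.Finite R M := Module.Finite.trans A M
  let φ : Localization.AtPrime P →+* Localization.AtPrime p :=
    Localization.localRingHom P p (algebraMap R A) rfl
  have hsub : Algebra.algebraMapSubmonoid A P.primeCompl = p.primeCompl := by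
    ext a
    constructor
    · rintro ⟨r, hr, rfl⟩
      exact hr
    · intro ha
      obtain ⟨r, rfl⟩ := hs a
      exact ⟨r, ha, rfl⟩
  have hφsurj : Function.Surjective φ := by
    haveI : IsLocalization (Submonoid.map (algebraMap R A) P.primeCompl)
        (Localization.AtPrime p) := by
      have : Submonoid.map (algebraMap R A) P.primeCompl = p.primeCompl := hsub
      rw [this]
      infer_instance
    exact IsLocalization.map_surjective_of_surjective P.primeCompl (Localization.AtPrime P)
      (Localization.AtPrime p) hs
  letI algPT : Algebra (Localization.AtPrime P) (Localization.AtPrime p) := φ.toAlgebra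
  letI modPN : Module (Localization.AtPrime P) (LocalizedModule p.primeCompl M) :=
    Module.compHom (LocalizedModule p.primeCompl M) φ
  haveI : IsScalarTower (Localization.AtPrime P) (Localization.AtPrime p)
      (LocalizedModule p.primeCompl M) :=
    IsScalarTower.of_algebraMap_smul fun r x => rfl
  haveI : IsScalarTower R (Localization.AtPrime P) (LocalizedModule p.primeCompl M) := by
    refine IsScalarTower.of_algebraMap_smul fun r x => ?_
    change φ (algebraMap R _ r) • x = r • x
    rw [Localization.localRingHom_to_map, algebraMap_smul, algebraMap_smul]
  haveI hloc : IsLocalizedModule P.primeCompl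
      ((LocalizedModule.mkLinearMap p.primeCompl M).restrictScalars R) := by
    haveI : IsLocalizedModule (Algebra.algebraMapSubmonoid A P.primeCompl)
        (LocalizedModule.mkLinearMap p.primeCompl M) := by
      rw [hsub]; infer_instance
    exact IsLocalizedModule.restrictScalars P.primeCompl _
  haveI hlocalhom : IsLocalHom (algebraMap (Localization.AtPrime P) (Localization.AtPrime p)) :=
    IsLocalHom.of_surjective _ hφsurj
  haveI : Module.Finite (Localization.AtPrime P) (Localization.AtPrime p) :=
    Module.Finite.of_surjective (Algebra.linearMap _ _) hφsurj
  haveI : Module.Finite (Localization.AtPrime P) (LocalizedModule p.primeCompl M) :=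
    Module.Finite.trans (Localization.AtPrime p) _
  refine ⟨?_, ?_⟩
  · rw [← depth_eq_of_isLocalHom (A := Localization.AtPrime P) (B := Localization.AtPrime p)
      (LocalizedModule p.primeCompl M)]
    exact depth_eq_of_isLocalizedModule P M (Localization.AtPrime P)
      (LocalizedModule p.primeCompl M)
      ((LocalizedModule.mkLinearMap p.primeCompl M).restrictScalars R)
  · rw [← Groth.Agent.Lib.helper26.SkFlat.supportDim_eq_of_surjective hφsurj (LocalizedModule p.primeCompl M)]
    exact supportDim_eq_of_isLocalizedModule P M (Localization.AtPrime P)
      (LocalizedModule p.primeCompl M)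
      ((LocalizedModule.mkLinearMap p.primeCompl M).restrictScalars R)

end transfer

end Groth.Agent.Lib.helper24.CodepthReg
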