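import Mathlib
import Groth.Prelude.Def_EGA4b
import Groth.Agent.Lib.Helper3.PdSemi2
import Groth.Agent.Lib.Helper26.SkFlat1

/-!
# Codepth of fibre local rings (helper24), part 4: `(P_𝔔 / p P_𝔔) ⊗_P M` versus `M_𝔔 / p M_𝔔`

`fibTensorEquiv`: `(P_𝔔 / p P_𝔔) ⊗[P] M ≃ M_𝔔 / p M_𝔔`, linear over the fibre local ring, and the
resulting equalities of depth and dimension.
-/

set_option autoImplicit false
universe u

namespace Groth.Agent.Lib.Helper24.FibCod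

open Groth.Agent.Lib.helper3.PdSemi Function TensorProduct LocCoh

variable (A : Type u) {P : Type u} [CommRing A] [CommRing P] [Algebra A P] (𝔔 : PrimeSpectrum P)
  (M : Type u) [AddCommGroup M] [Module P M]

/-- `(P_𝔔 / p P_𝔔) ⊗[P] M ≃ M_𝔔 / p M_𝔔`, over `P_𝔔`. -/
noncomputable def fibTensorEquiv₀ : (Fp A 𝔔) ⊗[P] M ≃ₗ[Localization.AtPrime 𝔔.asIdeal]
    EGA4.FibLocMod A P 𝔔.asIdeal M :=
  ((canc (A := A) 𝔔 M).symm.restrictScalars (Localization.AtPrime 𝔔.asIdeal)) ≪≫ₗ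
    (LinearEquiv.lTensor (Fp A 𝔔)
      (LocalizedModule.equivTensorProduct 𝔔.asIdeal.primeCompl M).symm) ≪≫ₗ
    (TensorProduct.quotTensorEquivQuotSMul (LocalizedModule 𝔔.asIdeal.primeCompl M) (Jp A 𝔔))

/-- `(P_𝔔 / p P_𝔔) ⊗[P] M ≃ M_𝔔 / p M_𝔔`, over the fibre local ring. -/
noncomputable def fibTensorEquiv : (Fp A 𝔔) ⊗[P] M ≃ₗ[EGA4.FibLocRing A P 𝔔.asIdeal]
    EGA4.FibLocMod A P 𝔔.asIdeal M :=
  LinearEquiv.extendScalarsOfSurjective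
    (R := Localization.AtPrime 𝔔.asIdeal) (S := EGA4.FibLocRing A P 𝔔.asIdeal)
    Ideal.Quotient.mk_surjective (fibTensorEquiv₀ A 𝔔 M)

theorem depth_fibTensor :
    haveI := Groth.Agent.Lib.helper26.SkFlat.isLocalRing_fibLocRing A P 𝔔.asIdeal
    depth (EGA4.FibLocRing A P 𝔔.asIdeal) ((Fp A 𝔔) ⊗[P] M) =
      depth (EGA4.FibLocRing A P 𝔔.asIdeal) (EGA4.FibLocMod A P 𝔔.asIdeal M) := by
  exact Groth.Agent.Lib.helper26.Depth.idealDepth_congr (fibTensorEquiv A 𝔔 M)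

theorem supportDim_fibTensor :
    Module.supportDim (EGA4.FibLocRing A P 𝔔.asIdeal) ((Fp A 𝔔) ⊗[P] M) =
      Module.supportDim (EGA4.FibLocRing A P 𝔔.asIdeal) (EGA4.FibLocMod A P 𝔔.asIdeal M) :=
  Module.supportDim_eq_of_equiv (fibTensorEquiv A 𝔔 M)

end Groth.Agent.Lib.Helper24.FibCod
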