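import Mathlib
import Groth.Prelude.Def_EGA4b
import Groth.Agent.Lib.Helper24.FibCod4
import Groth.Agent.Lib.Helper24.CodepthReg2
import Groth.Agent.Lib.Helper26.Depth6

/-!
# Codepth of fibre local rings (helper24), part 5: fibre stalks along a surjection `P → B`

`A` Noetherian, `P → B` a surjection of Noetherian `A`-algebras, `M` a finite `B`-module flat over
`A`, `Q` a prime of `B` with contraction `𝔔` to `P`: the fibre stalks `M_𝔔 / p M_𝔔` over
`P_𝔔 / p P_𝔔` and `M_Q / p M_Q` over `B_Q / p B_Q` have the same depth and dimension.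
-/

set_option autoImplicit false
universe u

namespace Groth.Agent.Lib.Helper24.FibCod

open Function TensorProduct LocCoh IsLocalRing Groth.Agent.Lib.helper26.Depth

lemma withBot_add_left_cancel (n : ℕ) (x y : WithBot ℕ∞)
    (h : ((n : ℕ) : WithBot ℕ∞) + x = ((n : ℕ) : WithBot ℕ∞) + y) : x = y := by
  induction x using WithBot.recBotCoe with
  | bot =>
    induction y using WithBot.recBotCoe with
    | bot => rfl
    | coe y =>
      exfalso
      rw [WithBot.add_bot] at h
      have : ((n : ℕ) : WithBot ℕ∞) + ((y : ℕ∞) : WithBot ℕ∞) = (((n : ℕ∞) + y : ℕ∞) : WithBot ℕ∞) := rfl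
      rw [this] at h
      exact WithBot.bot_ne_coe h
  | coe x =>
    induction y using WithBot.recBotCoe with
    | bot =>
      exfalso
      rw [WithBot.add_bot] at h
      have : ((n : ℕ) : WithBot ℕ∞) + ((x : ℕ∞) : WithBot ℕ∞) = (((n : ℕ∞) + x : ℕ∞) : WithBot ℕ∞) := rfl
      rw [this] at h
      exact WithBot.coe_ne_bot h
    | coe y =>
      have h1 : (((n : ℕ∞) + x : ℕ∞) : WithBot ℕ∞) = (((n : ℕ∞) + y : ℕ∞) : WithBot ℕ∞) := h
      have h2 : (n : ℕ∞) + x = (n : ℕ∞) + y := WithBot.coe_injective h1
      rw [ENat.add_right_injective_of_ne_top (ENat.natCast_ne_top n) h2]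

section congr

variable (A : Type u) [CommRing A] [IsNoetherianRing A]

omit [IsNoetherianRing A] in
/-- depth and dimension of `A_p` only depend on the ideal `p`. -/
theorem depth_supportDim_atPrime_congr {p₁ p₂ : Ideal A} [p₁.IsPrime] [p₂.IsPrime] (h : p₁ = p₂) :
    depth (Localization.AtPrime p₁) (LocalizedModule p₁.primeCompl A) =
      depth (Localization.AtPrime p₂) (LocalizedModule p₂.primeCompl A) ∧
    Module.supportDim (Localization.AtPrime p₁) (LocalizedModule p₁.primeCompl A) =
      Module.supportDim (Localization.AtPrime p₂) (LocalizedModule p₂.primeCompl A) := by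
  subst h
  exact ⟨rfl, rfl⟩

/-- `(A)_p ≃ A_p`. -/
noncomputable def locSelfEquiv (p : Ideal A) [p.IsPrime] :
    LocalizedModule p.primeCompl A ≃ₗ[Localization.AtPrime p] Localization.AtPrime p :=
  (LocalizedModule.equivTensorProduct p.primeCompl A) ≪≫ₗ
    (TensorProduct.AlgebraTensorModule.rid A (Localization.AtPrime p) (Localization.AtPrime p))

theorem depth_atPrime_ne_top (p : Ideal A) [p.IsPrime] :
    depth (Localization.AtPrime p) (LocalizedModule p.primeCompl A) ≠ ⊤ := by
  haveI : Nontrivial (LocalizedModule p.primeCompl A) :=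
    (locSelfEquiv A p).toEquiv.nontrivial
  exact depth_ne_top _

theorem exists_nat_supportDim_atPrime (p : Ideal A) [p.IsPrime] :
    ∃ n : ℕ, Module.supportDim (Localization.AtPrime p) (LocalizedModule p.primeCompl A) =
      ((n : ℕ) : WithBot ℕ∞) := by
  have h1 : Module.supportDim (Localization.AtPrime p) (LocalizedModule p.primeCompl A) =
      ringKrullDim (Localization.AtPrime p) := by
    rw [Module.supportDim_eq_of_equiv (locSelfEquiv A p)]
    exact Module.supportDim_self_eq_ringKrullDim _
  rw [h1, IsLocalization.AtPrime.ringKrullDim_eq_height p]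
  obtain ⟨m, hm⟩ := ENat.ne_top_iff_exists.mp (Ideal.height_ne_top_of_isPrime (I := p))
  exact ⟨m, by rw [← hm]; rfl⟩

end congr

variable (A : Type u) {P B : Type u} [CommRing A] [CommRing P] [CommRing B]
  [IsNoetherianRing A] [IsNoetherianRing P] [Algebra A P] [Algebra A B] [Algebra P B]
  [IsScalarTower A P B] (hs : Surjective (algebraMap P B))
  (M : Type u) [AddCommGroup M] [Module B M] [Module P M] [Module A M] [IsScalarTower P B M]
  [IsScalarTower A B M] [IsScalarTower A P M] [Module.Finite B M] [Module.Flat A M]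

include hs in
/-- the fibre stalks of `M` computed over `P` and over `B = P/I` have the same depth and
dimension. -/
theorem depth_supportDim_fibLocMod_comap (Q : Ideal B) [Q.IsPrime] :
    haveI := Groth.Agent.Lib.helper26.SkFlat.isLocalRing_fibLocRing A B Q
    haveI := Groth.Agent.Lib.helper26.SkFlat.isLocalRing_fibLocRing A P
      (Q.comap (algebraMap P B))
    depth (EGA4.FibLocRing A P (Q.comap (algebraMap P B)))
        (EGA4.FibLocMod A P (Q.comap (algebraMap P B)) M) =
      depth (EGA4.FibLocRing A B Q) (EGA4.FibLocMod A B Q M) ∧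
    Module.supportDim (EGA4.FibLocRing A P (Q.comap (algebraMap P B)))
        (EGA4.FibLocMod A P (Q.comap (algebraMap P B)) M) =
      Module.supportDim (EGA4.FibLocRing A B Q) (EGA4.FibLocMod A B Q M) := by
  haveI : IsNoetherianRing B := isNoetherianRing_of_surjective P B (algebraMap P B) hs
  haveI : Module.Finite P B := Module.Finite.of_surjective (Algebra.linearMap P B) hs
  haveI : Module.Finite P M := Module.Finite.trans B M
  haveI : Module.Finite B (M ⊗[A] A) :=
    Module.Finite.equiv (TensorProduct.AlgebraTensorModule.rid A B M).symm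
  set 𝔔 := Q.comap (algebraMap P B) with h𝔔
  have h1 := Groth.Agent.Lib.helper26.SkFlat.depth_supportDim_localization_tensor A P 𝔔 A M
  have h2 := Groth.Agent.Lib.helper26.SkFlat.depth_supportDim_localization_tensor A B Q A M
  have h3 := Groth.Agent.Lib.helper24.CodepthReg.depth_supportDim_comap hs (M ⊗[A] A) Q
  have hp : 𝔔.comap (algebraMap A P) = Q.comap (algebraMap A B) := by
    rw [h𝔔, Ideal.comap_comap, ← IsScalarTower.algebraMap_eq]
  have h4 := depth_supportDim_atPrime_congr A hp
  have h5 := Groth.Agent.Lib.helper26.SkFlat.depth_supportDim_fibLocMod A P 𝔔 M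
  have h6 := Groth.Agent.Lib.helper26.SkFlat.depth_supportDim_fibLocMod A B Q M
  constructor
  · rw [← h5.1, ← h6.1]
    have e1 := h1.1
    have e2 := h2.1
    rw [h3.1, e1, h4.1] at e2
    exact ENat.add_right_injective_of_ne_top (depth_atPrime_ne_top A _) e2
  · rw [← h5.2, ← h6.2]
    have e1 := h1.2
    have e2 := h2.2
    rw [h3.2, e1, h4.2] at e2
    obtain ⟨n, hn⟩ := exists_nat_supportDim_atPrime A (Q.comap (algebraMap A B))
    rw [hn] at e2
    exact withBot_add_left_cancel n _ _ e2

end Groth.Agent.Lib.Helper24.FibCod
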