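import Mathlib
import Groth.Prelude.Def_EGA4b
import Groth.Agent.Lib.Helper24.FibCod3
import Groth.Agent.Lib.Helper24.FibCod5
import Groth.Agent.Lib.Helper3.PdSemi3
import Groth.Agent.Lib.Helper19.Falt2
import Groth.Agent.Lib.Helper26.FibMod2

/-!
# Codepth of fibre local rings (helper24), part 6: the pointwise dictionary

`A` Noetherian, `P = A[x_1..x_N] → B` surjective, `B` flat over `A`.  For a prime `Q` of `B` with
contraction `𝔔` to `P`:
`pd_{P_𝔔/pP_𝔔} ((P_𝔔/pP_𝔔) ⊗_P B) < t ↔ N - td(Q) < t + depth (B_Q / p B_Q)`.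
-/

set_option autoImplicit false
universe u

namespace Groth.Agent.Lib.Helper24.FibCod

open Groth.Agent.Lib.helper3.DimIneq Groth.Agent.Lib.helper3.FTField
  Groth.Agent.Lib.helper3.FibreParam Groth.Agent.Lib.helper3.PdSemi
  Function TensorProduct LocCoh IsLocalRing CategoryTheory

attribute [local instance] Groth.Agent.Lib.helper26.SkFlat.isLocalRing_fibLocRing

section self

variable (A B : Type u) [CommRing A] [CommRing B] [Algebra A B] (q : Ideal B) [q.IsPrime]

/-- the fibre stalk of `B` itself, over the fibre local ring. -/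
noncomputable def fibLocModSelfEquiv' :
    EGA4.FibLocRing A B q ≃ₗ[EGA4.FibLocRing A B q] EGA4.FibLocMod A B q B :=
  LinearEquiv.extendScalarsOfSurjective
    (R := Localization.AtPrime q) (S := EGA4.FibLocRing A B q)
    Ideal.Quotient.mk_surjective (Groth.Agent.Lib.helper26.FibMod.fibLocModSelfEquiv A B q)

theorem depth_fibLocMod_self :
    depth (EGA4.FibLocRing A B q) (EGA4.FibLocMod A B q B) =
      depth (EGA4.FibLocRing A B q) (EGA4.FibLocRing A B q) :=
  (Groth.Agent.Lib.helper26.Depth.idealDepth_congr (fibLocModSelfEquiv' A B q)).symm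

theorem supportDim_fibLocMod_self :
    Module.supportDim (EGA4.FibLocRing A B q) (EGA4.FibLocMod A B q B) =
      ringKrullDim (EGA4.FibLocRing A B q) := by
  rw [← Module.supportDim_eq_of_equiv (fibLocModSelfEquiv' A B q)]
  exact Module.supportDim_self_eq_ringKrullDim _

end self

section td

variable (A : Type u) {P B : Type u} [CommRing A] [CommRing P] [CommRing B]
  [Algebra A P] [Algebra A B] [Algebra P B] [IsScalarTower A P B]

/-- `td` is insensitive to surjections. -/
theorem tdN_comap_of_surjective (hs : Surjective (algebraMap P B)) (Q : Ideal B) [Q.IsPrime] :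
    tdN A (Q.comap (algebraMap P B)) = tdN A Q := by
  have h := td_quotientMap_comp (algebraMap A P) (algebraMap P B) Q
  have h0 : td (Ideal.quotientMap Q (algebraMap P B) le_rfl) = 0 := by
    haveI : IsDomain (P ⧸ Q.comap (algebraMap P B)) := Ideal.Quotient.isDomain _
    have hsurj : Surjective (Ideal.quotientMap Q (algebraMap P B) le_rfl) :=
      Ideal.quotientMap_surjective hs
    letI := (Ideal.quotientMap Q (algebraMap P B) le_rfl).toAlgebra
    haveI : Algebra.IsAlgebraic (P ⧸ Q.comap (algebraMap P B)) (B ⧸ Q) :=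
      isAlgebraic_of_surjective _ hsurj
    exact _root_.trdeg_eq_zero
  rw [h0, add_zero] at h
  have h1 : (algebraMap P B).comp (algebraMap A P) = algebraMap A B :=
    (IsScalarTower.algebraMap_eq A P B).symm
  rw [td_quotientMap_congr_hom _ _ h1] at h
  rw [tdN, tdN, h]

end td

variable (A : Type u) [CommRing A] [IsNoetherianRing A] (N : ℕ) {B : Type u} [CommRing B]
  [Algebra A B] [Algebra (MvPolynomial (Fin N) A) B] [IsScalarTower A (MvPolynomial (Fin N) A) B]
  (hs : Surjective (algebraMap (MvPolynomial (Fin N) A) B)) [Module.Flat A B]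

include hs in
/-- **Pointwise dictionary**: the projective dimension of the fibre of `B` over the regular fibre
local ring of the polynomial ring versus the depth of the fibre local ring of `B`. -/
theorem pdlt_iff (Q : PrimeSpectrum B) (t : ℕ) :
    HasProjectiveDimensionLT
      (ModuleCat.of (Fp A (PrimeSpectrum.comap (algebraMap (MvPolynomial (Fin N) A) B) Q))
        ((Fp A (PrimeSpectrum.comap (algebraMap (MvPolynomial (Fin N) A) B) Q))
          ⊗[MvPolynomial (Fin N) A] B)) t ↔
      (((N - tdN A Q.asIdeal : ℕ) : ℕ∞) <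
        (t : ℕ∞) + depth (EGA4.FibLocRing A B Q.asIdeal) (EGA4.FibLocRing A B Q.asIdeal)) := by
  set 𝔔 := PrimeSpectrum.comap (algebraMap (MvPolynomial (Fin N) A) B) Q with h𝔔
  have h𝔔' : 𝔔.asIdeal = Q.asIdeal.comap (algebraMap (MvPolynomial (Fin N) A) B) := rfl
  haveI : IsNoetherianRing B :=
    isNoetherianRing_of_surjective (MvPolynomial (Fin N) A) B (algebraMap _ B) hs
  haveI : Module.Finite (MvPolynomial (Fin N) A) B :=
    Module.Finite.of_surjective (Algebra.linearMap (MvPolynomial (Fin N) A) B) hs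
  haveI hreg : IsRegularLocalRing (Fp A 𝔔) := isRegularLocalRing_fibLocRing_mvPolynomial A N 𝔔.asIdeal
  -- the dimension of the regular fibre local ring
  have hdim := dim_fibLocRing_mvPolynomial A N 𝔔.asIdeal
  have htd : tdN A 𝔔.asIdeal = tdN A Q.asIdeal := tdN_comap_of_surjective A hs Q.asIdeal
  have htdle : tdN A 𝔔.asIdeal ≤ N := tdN_le_card (AlgHom.id A _) (fun x => ⟨x, rfl⟩) 𝔔.asIdeal
  have hh : ringKrullDim (Fp A 𝔔) = (((N - tdN A Q.asIdeal : ℕ) : ℕ∞) : WithBot ℕ∞) := by
    obtain ⟨d, hd⟩ := exists_nat_dim_fibLocRing A 𝔔.asIdeal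
    have h1 : ringKrullDim (Fp A 𝔔) = ((d : ℕ) : WithBot ℕ∞) := hd
    rw [hd] at hdim
    have h2 : d + tdN A 𝔔.asIdeal = N := by exact_mod_cast hdim
    rw [h1, ← htd]
    have : d = N - tdN A 𝔔.asIdeal := by omega
    rw [this]
    rfl
  -- not subsingleton
  have hns : ¬ Subsingleton ((Fp A 𝔔) ⊗[MvPolynomial (Fin N) A] B) := by
    rw [subsingleton_fibre_iff (A := A) 𝔔 B, not_not, Module.mem_support_iff_of_finite]
    intro x hx
    rw [h𝔔', Ideal.mem_comap]
    have h1 : x • (1 : B) = 0 := Module.mem_annihilator.mp hx 1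
    rw [Algebra.smul_def, mul_one] at h1
    rw [h1]
    exact zero_mem _
  rw [Groth.Agent.Lib.helper19.Falt.pd_lt_iff (Fp A 𝔔)
    ((Fp A 𝔔) ⊗[MvPolynomial (Fin N) A] B) _ hh t]
  -- the depth
  have hd1 := depth_fibTensor A 𝔔 B
  have hd2 := (depth_supportDim_fibLocMod_comap A hs B Q.asIdeal).1
  have hd3 := depth_fibLocMod_self A B Q.asIdeal
  have hdepth : depth (Fp A 𝔔) ((Fp A 𝔔) ⊗[MvPolynomial (Fin N) A] B) =
      depth (EGA4.FibLocRing A B Q.asIdeal) (EGA4.FibLocRing A B Q.asIdeal) := by
    rw [← hd3, ← hd2]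
    exact hd1
  rw [hdepth]
  constructor
  · rintro (h | h)
    · exact absurd h hns
    · exact h
  · intro h
    exact Or.inr h

end Groth.Agent.Lib.Helper24.FibCod
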