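import Mathlib
import Groth.Prelude.Def_EGA4b
import Groth.Agent.Lib.Helper24.FibCod6
import Groth.Agent.Lib.Helper23.DRingPC8

/-!
# Codepth of fibre local rings (helper24), part 7: openness over a Noetherian base (EGA IV 12.1.1)

`A` Noetherian, `P = A[x_1..x_N] → B` surjective, `B` flat over `A`.  The set of primes `Q` of `B`
such that the fibre local ring `B_Q / p B_Q` has codepth `≤ n` is open.
-/

set_option autoImplicit false
universe u

namespace Groth.Agent.Lib.Helper24.FibCod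

open Groth.Agent.Lib.helper3.DimIneq Groth.Agent.Lib.helper3.FTField
  Groth.Agent.Lib.helper3.FibreParam Groth.Agent.Lib.helper3.PdSemi
  Function TensorProduct LocCoh IsLocalRing CategoryTheory
  Groth.Agent.Lib.helper23.DRingPC

attribute [local instance] Groth.Agent.Lib.helper26.SkFlat.isLocalRing_fibLocRing

variable (A : Type u) [CommRing A] [IsNoetherianRing A] (N : ℕ) {B : Type u} [CommRing B]
  [Algebra A B] [Algebra (MvPolynomial (Fin N) A) B] [IsScalarTower A (MvPolynomial (Fin N) A) B]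
  (hs : Surjective (algebraMap (MvPolynomial (Fin N) A) B))

include hs in
omit [IsNoetherianRing A] in
theorem finiteType_of_surj : Algebra.FiniteType A B :=
  Algebra.FiniteType.of_surjective (IsScalarTower.toAlgHom A (MvPolynomial (Fin N) A) B) hs

include hs in
/-- `dim F(Q) + td(Q) ≤ N`. -/
theorem dim_add_tdN_le_card (Q : Ideal B) [Q.IsPrime] :
    ringKrullDim (EGA4.FibLocRing A B Q) + ((tdN A Q : ℕ) : WithBot ℕ∞) ≤ ((N : ℕ) : WithBot ℕ∞) := by
  haveI : IsNoetherianRing B :=
    isNoetherianRing_of_surjective (MvPolynomial (Fin N) A) B (algebraMap _ B) hs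
  haveI : Algebra.FiniteType A B := finiteType_of_surj A N hs
  rw [dim_fibLocRing_add_tdN_le_iff]
  intro q hq _ _
  haveI := hq
  exact tdN_le_card (IsScalarTower.toAlgHom A (MvPolynomial (Fin N) A) B) hs q

variable [Module.Flat A B]

include hs in
/-- **EGA IV 12.1.1 (i), Noetherian ring form, codepth**: the locus where the fibre local ring has
codepth `≤ n` is open. -/
theorem isOpen_codepth_le_of_surjective (n : ℕ) :
    IsOpen {Q : PrimeSpectrum B | ringKrullDim (EGA4.FibLocRing A B Q.asIdeal) ≤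
      ((depth (EGA4.FibLocRing A B Q.asIdeal) (EGA4.FibLocRing A B Q.asIdeal) : ℕ∞) :
        WithBot ℕ∞) + n} := by
  haveI : IsNoetherianRing B :=
    isNoetherianRing_of_surjective (MvPolynomial (Fin N) A) B (algebraMap _ B) hs
  haveI : Algebra.FiniteType A B := finiteType_of_surj A N hs
  haveI : Module.Finite (MvPolynomial (Fin N) A) B :=
    Module.Finite.of_surjective (Algebra.linearMap (MvPolynomial (Fin N) A) B) hs
  have hpc : PCMod (MvPolynomial (Fin N) A) (ModuleCat.of (MvPolynomial (Fin N) A) B) :=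
    (forall_npc_single_iff_of_noetherian (MvPolynomial (Fin N) A) _).2 inferInstance
  rw [isOpen_iff_forall_mem_open]
  intro Q₀ hQ₀
  obtain ⟨d₀, hd₀⟩ := exists_nat_dim_fibLocRing A Q₀.asIdeal
  have hle := dim_add_tdN_le_card A N hs Q₀.asIdeal
  rw [hd₀] at hle
  have hle' : d₀ + tdN A Q₀.asIdeal ≤ N := by exact_mod_cast hle
  set e₀ := d₀ + tdN A Q₀.asIdeal with he₀
  have H : ∀ q : Ideal B, ∀ _ : q.IsPrime, q ≤ Q₀.asIdeal →
      q.comap (algebraMap A B) = Q₀.asIdeal.comap (algebraMap A B) → tdN A q ≤ e₀ := by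
    rw [← dim_fibLocRing_add_tdN_le_iff, hd₀]
    exact_mod_cast le_rfl
  obtain ⟨r, hr, Hr⟩ := exists_notMem_forall_tdN_le (A := A) Q₀.asIdeal e₀ H
  set t : ℕ := n + (N - e₀) + 1 with ht
  have hopen := isOpen_pdlt (A := A) (B := MvPolynomial (Fin N) A) t B hpc
  have hcont := PrimeSpectrum.continuous_comap (algebraMap (MvPolynomial (Fin N) A) B)
  refine ⟨(PrimeSpectrum.basicOpen r : Set (PrimeSpectrum B)) ∩
    (PrimeSpectrum.comap (algebraMap (MvPolynomial (Fin N) A) B)) ⁻¹'
      {P | HasProjectiveDimensionLT (ModuleCat.of (Fp A P) ((Fp A P) ⊗[MvPolynomial (Fin N) A] B)) t},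
    ?_, (PrimeSpectrum.basicOpen r).isOpen.inter (hopen.preimage hcont), ⟨hr, ?_⟩⟩
  · -- the neighbourhood lies in the locus
    rintro Q ⟨hrQ, hQ⟩
    have hrQ' : r ∉ Q.asIdeal := hrQ
    have hQ' := (pdlt_iff A N hs Q t).1 hQ
    simp only [Set.mem_setOf_eq]
    obtain ⟨d, hd⟩ := exists_nat_dim_fibLocRing A Q.asIdeal
    have h1 : ringKrullDim (EGA4.FibLocRing A B Q.asIdeal) + ((tdN A Q.asIdeal : ℕ) : WithBot ℕ∞) ≤
        ((e₀ : ℕ) : WithBot ℕ∞) := by
      rw [dim_fibLocRing_add_tdN_le_iff]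
      intro q hq hqQ _
      haveI := hq
      exact Hr q (fun hrq => hrQ' (hqQ hrq))
    rw [hd] at h1 ⊢
    have h1' : d + tdN A Q.asIdeal ≤ e₀ := by exact_mod_cast h1
    rcases eq_or_ne (depth (EGA4.FibLocRing A B Q.asIdeal) (EGA4.FibLocRing A B Q.asIdeal)) ⊤
      with htop | hne
    · rw [htop]
      exact le_of_le_of_eq le_top (by rfl)
    · obtain ⟨δ, hδ⟩ := ENat.ne_top_iff_exists.mp hne
      rw [← hδ] at hQ' ⊢
      have h2 : N - tdN A Q.asIdeal < t + δ := by exact_mod_cast hQ'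
      have h3 : d ≤ δ + n := by omega
      exact_mod_cast h3
  · -- `Q₀` lies in the neighbourhood
    show HasProjectiveDimensionLT _ t
    rw [pdlt_iff A N hs Q₀ t]
    simp only [Set.mem_setOf_eq] at hQ₀
    rw [hd₀] at hQ₀
    rcases eq_or_ne (depth (EGA4.FibLocRing A B Q₀.asIdeal) (EGA4.FibLocRing A B Q₀.asIdeal)) ⊤
      with htop | hne
    · rw [htop, add_top]
      exact ENat.coe_lt_top _
    · obtain ⟨δ, hδ⟩ := ENat.ne_top_iff_exists.mp hne
      rw [← hδ] at hQ₀ ⊢
      have h2 : d₀ ≤ δ + n := by exact_mod_cast hQ₀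
      have h3 : N - tdN A Q₀.asIdeal < t + δ := by omega
      exact_mod_cast h3

end Groth.Agent.Lib.Helper24.FibCod
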