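import Mathlib
import Groth.Prelude.Def_EGA4b
import Groth.Agent.Lib.Helper24.FibCod7
import Groth.Agent.Lib.Helper24.FlatDepth5
import Groth.Agent.Lib.Helper24.HensDepth
import Groth.Agent.Lib.Helper26.FibDict2
import Groth.Agent.Lib.Helper26.CM7

/-!
# Codepth of fibre local rings (helper24), part 8: natural-number invariants and the `(S_k)`
dictionary

`fdim A Q = dim (B_Q / p B_Q)`, `fdep A Q = depth (B_Q / p B_Q)` as natural numbers, and
`HasSk k (B_Q / p B_Q) ↔ ∀ q ≤ Q in the same fibre, min k (fdim q) ≤ fdep q`.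
-/

set_option autoImplicit false
universe u

namespace Groth.Agent.Lib.Helper24.FibCod

open Function TensorProduct LocCoh IsLocalRing

attribute [local instance] Groth.Agent.Lib.helper26.SkFlat.isLocalRing_fibLocRing

section inv

variable (A : Type u) {C : Type u} [CommRing A] [CommRing C] [Algebra A C]

/-- the dimension of the fibre local ring, as a natural number. -/
noncomputable def fdim (Q : Ideal C) [Q.IsPrime] : ℕ :=
  ((ringKrullDim (EGA4.FibLocRing A C Q)).unbotD 0).toNat

/-- the depth of the fibre local ring, as a natural number. -/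
noncomputable def fdep (Q : Ideal C) [Q.IsPrime] : ℕ :=
  (depth (EGA4.FibLocRing A C Q) (EGA4.FibLocRing A C Q)).toNat

theorem fdim_congr {Q₁ Q₂ : Ideal C} [Q₁.IsPrime] [Q₂.IsPrime] (h : Q₁ = Q₂) :
    fdim A Q₁ = fdim A Q₂ := by
  subst h; rfl

theorem fdep_congr {Q₁ Q₂ : Ideal C} [Q₁.IsPrime] [Q₂.IsPrime] (h : Q₁ = Q₂) :
    fdep A Q₁ = fdep A Q₂ := by
  subst h; rfl

variable [IsNoetherianRing C]

theorem fdim_spec [Algebra.FiniteType A C] (Q : Ideal C) [Q.IsPrime] :
    ringKrullDim (EGA4.FibLocRing A C Q) = ((fdim A Q : ℕ) : WithBot ℕ∞) := by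
  obtain ⟨d, hd⟩ := exists_nat_dim_fibLocRing A Q
  rw [fdim, hd]
  have : (((d : ℕ) : WithBot ℕ∞)).unbotD 0 = (d : ℕ∞) := rfl
  rw [this, ENat.toNat_natCast]

theorem fdep_spec (Q : Ideal C) [Q.IsPrime] :
    depth (EGA4.FibLocRing A C Q) (EGA4.FibLocRing A C Q) = ((fdep A Q : ℕ) : ℕ∞) := by
  have hne : depth (EGA4.FibLocRing A C Q) (EGA4.FibLocRing A C Q) ≠ ⊤ :=
    Groth.Agent.Lib.helper26.Depth.depth_ne_top _
  rw [fdep, ENat.natCast_toNat hne]

theorem fdep_le_fdim [Algebra.FiniteType A C] (Q : Ideal C) [Q.IsPrime] :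
    fdep A Q ≤ fdim A Q := by
  have h := Groth.Agent.Lib.helper26.Depth.depth_le_supportDim
    (A := EGA4.FibLocRing A C Q) (M := EGA4.FibLocRing A C Q)
  rw [Module.supportDim_self_eq_ringKrullDim, fdim_spec, fdep_spec] at h
  exact_mod_cast h

/-- the fibre invariants only depend on the isomorphism class of the fibre local ring. -/
theorem fdim_fdep_of_ringEquiv [Algebra.FiniteType A C] (Q : Ideal C) [Q.IsPrime]
    (R : Type u) [CommRing R] [IsLocalRing R] [IsNoetherianRing R]
    (e : R ≃+* EGA4.FibLocRing A C Q) :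
    ringKrullDim R = ((fdim A Q : ℕ) : WithBot ℕ∞) ∧ depth R R = ((fdep A Q : ℕ) : ℕ∞) := by
  refine ⟨?_, ?_⟩
  · rw [← fdim_spec]
    exact ringKrullDim_eq_of_ringEquiv e
  · rw [← fdep_spec]
    exact (Groth.Agent.Lib.Helper24.FlatDepth.depth_eq_of_ringEquiv e).symm

end inv

section hasSkSelf

variable (R : Type u) [CommRing R]

/-- `(S_k)` for the ring itself in terms of the one-prime condition. -/
theorem hasSk_self_iff (k : ℕ) :
    HasSk k R R ↔ ∀ (q : Ideal R) [q.IsPrime], Groth.Agent.Lib.Helper24.HensDepth.SkAt k R q := by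
  unfold HasSk Groth.Agent.Lib.Helper24.HensDepth.SkAt
  refine forall_congr' fun q => forall_congr' fun hq => ?_
  rw [Groth.Agent.Lib.helper26.Depth.depth_localizedModule_self,
    Module.supportDim_eq_of_equiv (Groth.Agent.Lib.helper26.Depth.selfEquiv R q).symm]

end hasSkSelf

section dict

variable (A : Type u) {C : Type u} [CommRing A] [CommRing C] [Algebra A C]
  [Algebra.FiniteType A C] [IsNoetherianRing C]

omit [Algebra.FiniteType A C] [IsNoetherianRing C] in
/-- the contraction of a prime of the fibre local ring lies below `Q` in the same fibre. -/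
theorem comap_fibLocRing_le (Q : Ideal C) [Q.IsPrime] (𝔰 : Ideal (EGA4.FibLocRing A C Q))
    [𝔰.IsPrime] :
    𝔰.comap (algebraMap C (EGA4.FibLocRing A C Q)) ≤ Q ∧
      (𝔰.comap (algebraMap C (EGA4.FibLocRing A C Q))).comap (algebraMap A C) =
        Q.comap (algebraMap A C) := by
  have hrq : 𝔰.comap (algebraMap C (EGA4.FibLocRing A C Q)) ≤ Q := by
    intro b hb
    rw [Ideal.mem_comap] at hb
    have h1 : algebraMap C (EGA4.FibLocRing A C Q) b ∈ maximalIdeal (EGA4.FibLocRing A C Q) :=
      le_maximalIdeal (Ideal.IsPrime.ne_top inferInstance) hb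
    by_contra hbq
    have hu : IsUnit (algebraMap C (Localization.AtPrime Q) b) :=
      IsLocalization.map_units (Localization.AtPrime Q) (⟨b, hbq⟩ : Q.primeCompl)
    have hu' : IsUnit (algebraMap C (EGA4.FibLocRing A C Q) b) := by
      rw [IsScalarTower.algebraMap_apply C (Localization.AtPrime Q) (EGA4.FibLocRing A C Q)]
      exact hu.map _
    exact (mem_maximalIdeal _).mp h1 hu'
  refine ⟨hrq, le_antisymm (Ideal.comap_mono hrq) ?_⟩
  intro a ha
  rw [Ideal.mem_comap, Ideal.mem_comap,
    ← IsScalarTower.algebraMap_apply A C (EGA4.FibLocRing A C Q),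
    IsScalarTower.algebraMap_apply A (Localization.AtPrime Q) (EGA4.FibLocRing A C Q)]
  have : algebraMap (Localization.AtPrime Q) (EGA4.FibLocRing A C Q)
      (algebraMap A (Localization.AtPrime Q) a) = 0 := by
    rw [Ideal.Quotient.algebraMap_eq, Ideal.Quotient.eq_zero_iff_mem]
    exact Ideal.mem_map_of_mem _ ha
  rw [this]
  exact zero_mem _

omit [Algebra.FiniteType A C] [IsNoetherianRing C] in
/-- every prime below `Q` in the same fibre is the contraction of a prime of the fibre local
ring. -/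
theorem exists_prime_fibLocRing (Q : Ideal C) [Q.IsPrime] (r : Ideal C) [r.IsPrime] (hrQ : r ≤ Q)
    (hfib : r.comap (algebraMap A C) = Q.comap (algebraMap A C)) :
    ∃ (𝔰 : Ideal (EGA4.FibLocRing A C Q)) (_ : 𝔰.IsPrime),
      𝔰.comap (algebraMap C (EGA4.FibLocRing A C Q)) = r := by
  have hdisj : Disjoint (Q.primeCompl : Set C) (r : Set C) := by
    rw [Set.disjoint_left]
    intro x hx hxr
    exact hx (hrQ hxr)
  set r' : Ideal (Localization.AtPrime Q) := r.map (algebraMap C (Localization.AtPrime Q)) with hr'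
  haveI hr'p : r'.IsPrime :=
    IsLocalization.isPrime_of_isPrime_disjoint Q.primeCompl _ r inferInstance hdisj
  have hr'c : r'.comap (algebraMap C (Localization.AtPrime Q)) = r :=
    IsLocalization.under_map_of_isPrime_disjoint Q.primeCompl _ inferInstance hdisj
  set J : Ideal (Localization.AtPrime Q) :=
    (Q.comap (algebraMap A C)).map (algebraMap A (Localization.AtPrime Q)) with hJ
  have hJr : J ≤ r' := by
    rw [hJ, Ideal.map_le_iff_le_comap]
    intro a ha
    rw [Ideal.mem_comap, IsScalarTower.algebraMap_apply A C (Localization.AtPrime Q)]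
    apply Ideal.mem_map_of_mem
    have : a ∈ r.comap (algebraMap A C) := hfib ▸ ha
    exact this
  have hker : RingHom.ker (Ideal.Quotient.mk J) ≤ r' := by
    rw [Ideal.mk_ker]; exact hJr
  refine ⟨r'.map (Ideal.Quotient.mk J),
    Ideal.map_isPrime_of_surjective Ideal.Quotient.mk_surjective hker, ?_⟩
  have h1 : (r'.map (Ideal.Quotient.mk J)).comap (Ideal.Quotient.mk J) = r' := by
    rw [Ideal.comap_map_of_surjective _ Ideal.Quotient.mk_surjective]
    refine le_antisymm (sup_le le_rfl ?_) le_sup_left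
    rw [← RingHom.ker_eq_comap_bot]
    exact hker
  have h2 : algebraMap C (EGA4.FibLocRing A C Q) =
      (Ideal.Quotient.mk J).comp (algebraMap C (Localization.AtPrime Q)) := rfl
  rw [h2, ← Ideal.comap_comap, h1, hr'c]

/-- **Dictionary**: the `(S_k)` condition for the fibre local ring at `Q` in terms of the fibre
local rings at the generizations of `Q` in its fibre. -/
theorem hasSk_fibLocRing_iff (k : ℕ) (Q : Ideal C) [Q.IsPrime] :
    HasSk k (EGA4.FibLocRing A C Q) (EGA4.FibLocRing A C Q) ↔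
      ∀ (r : Ideal C) (_ : r.IsPrime), r ≤ Q →
        r.comap (algebraMap A C) = Q.comap (algebraMap A C) → min k (fdim A r) ≤ fdep A r := by
  rw [hasSk_self_iff]
  have key : ∀ (𝔰 : Ideal (EGA4.FibLocRing A C Q)) [𝔰.IsPrime] (r : Ideal C) [r.IsPrime],
      r = 𝔰.comap (algebraMap C (EGA4.FibLocRing A C Q)) →
      (Groth.Agent.Lib.Helper24.HensDepth.SkAt k (EGA4.FibLocRing A C Q) 𝔰 ↔
        min k (fdim A r) ≤ fdep A r) := by
    intro 𝔰 _ r _ hr
    obtain ⟨e⟩ := Groth.Agent.Lib.helper26.FibDict.nonempty_fibLocRing_localization A C Q 𝔰 r hr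
    obtain ⟨h1, h2⟩ := fdim_fdep_of_ringEquiv A r (Localization.AtPrime 𝔰) e
    unfold Groth.Agent.Lib.Helper24.HensDepth.SkAt
    rw [Module.supportDim_self_eq_ringKrullDim, h1, h2]
    constructor
    · intro h
      have h' : min ((k : ℕ) : WithBot ℕ∞) ((fdim A r : ℕ) : WithBot ℕ∞) ≤
          (((fdep A r : ℕ) : ℕ∞) : WithBot ℕ∞) := h
      rcases le_total k (fdim A r) with hk | hk
      · rw [min_eq_left (by exact_mod_cast hk)] at h'
        rw [min_eq_left hk]
        exact_mod_cast h'
      · rw [min_eq_right (by exact_mod_cast hk)] at h'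
        rw [min_eq_right hk]
        exact_mod_cast h'
    · intro h
      show min ((k : ℕ) : WithBot ℕ∞) ((fdim A r : ℕ) : WithBot ℕ∞) ≤
          (((fdep A r : ℕ) : ℕ∞) : WithBot ℕ∞)
      rcases le_total k (fdim A r) with hk | hk
      · rw [min_eq_left (by exact_mod_cast hk)]
        rw [min_eq_left hk] at h
        exact_mod_cast h
      · rw [min_eq_right (by exact_mod_cast hk)]
        rw [min_eq_right hk] at h
        exact_mod_cast h
  constructor
  · intro h r hr hrQ hfib
    haveI := hr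
    obtain ⟨𝔰, h𝔰, h𝔰r⟩ := exists_prime_fibLocRing A Q r hrQ hfib
    haveI := h𝔰
    exact (key 𝔰 r h𝔰r.symm).mp (h 𝔰)
  · intro h 𝔰 h𝔰
    haveI := h𝔰
    obtain ⟨h1, h2⟩ := comap_fibLocRing_le A Q 𝔰
    exact (key 𝔰 _ rfl).mpr (h _ inferInstance h1 h2)

end dict

end Groth.Agent.Lib.Helper24.FibCod
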