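import Mathlib
import Groth.Prelude.Def_EGA4b
import Groth.Agent.Lib.Helper24.FibCod8

/-!
# Codepth of fibre local rings (helper24), part 9: monotonicity lemmas

* `tdN_le_of_minimal`: Chevalley's lower bound for the dimension of the components of a fibre;
* `fdim_add_tdN_mono`: upper semicontinuity of `x ↦ dim_x (fibre)`;
* `exists_tdN_eq`: the local dimension of the fibre is attained.
-/

set_option autoImplicit false
universe u

namespace Groth.Agent.Lib.Helper24.FibCod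

open Groth.Agent.Lib.helper3.DimIneq Groth.Agent.Lib.helper3.FTField
  Groth.Agent.Lib.helper3.FibreParam
  Function TensorProduct LocCoh IsLocalRing

attribute [local instance] Groth.Agent.Lib.helper26.SkFlat.isLocalRing_fibLocRing

section general

variable (A : Type u) {C : Type u} [CommRing A] [CommRing C] [Algebra A C]
  [Algebra.FiniteType A C]

/-- **Chevalley's lower bound**: if `𝔯₁` is minimal over `𝔯 + p₁ C` (`p₁ = 𝔯₁ ∩ A`), then
`td(𝔯) ≤ td(𝔯₁)`. -/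
theorem tdN_le_of_minimal (𝔯 𝔯₁ : Ideal C) [𝔯.IsPrime] [𝔯₁.IsPrime]
    (hmin : 𝔯₁ ∈ (𝔯 ⊔ (𝔯₁.comap (algebraMap A C)).map (algebraMap A C)).minimalPrimes) :
    tdN A 𝔯 ≤ tdN A 𝔯₁ := by
  have hle : 𝔯 ≤ 𝔯₁ := le_sup_left.trans hmin.1.2
  haveI : IsDomain (C ⧸ 𝔯) := Ideal.Quotient.isDomain 𝔯
  haveI : Algebra.FiniteType A (C ⧸ 𝔯) :=
    Algebra.FiniteType.of_surjective (Ideal.Quotient.mkₐ A 𝔯) Ideal.Quotient.mk_surjective
  set Q' : Ideal (C ⧸ 𝔯) := 𝔯₁.map (Ideal.Quotient.mk 𝔯) with hQ'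
  haveI hQ'p : Q'.IsPrime := map_mk_isPrime 𝔯 𝔯₁ hle
  have hQ'c : Q'.comap (Ideal.Quotient.mk 𝔯) = 𝔯₁ := comap_map_mk 𝔯 𝔯₁ hle
  have h1 : tdN A Q' = tdN A 𝔯₁ := by
    rw [← tdN_comap_mk A 𝔯 Q']
    exact tdN_congr A hQ'c
  obtain ⟨r, hr, Hr⟩ := exists_notMem_forall_tdN_le (A := A) Q' (tdN A 𝔯₁) (by
    intro q' hq' hq'Q' hfib
    haveI := hq'
    have hq : q'.comap (Ideal.Quotient.mk 𝔯) = 𝔯₁ := by
      have hqle : q'.comap (Ideal.Quotient.mk 𝔯) ≤ 𝔯₁ := by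
        rw [← hQ'c]; exact Ideal.comap_mono hq'Q'
      refine le_antisymm hqle ?_
      refine hmin.2 ⟨inferInstance, sup_le ?_ ?_⟩ hqle
      · intro x hx
        rw [Ideal.mem_comap, Ideal.Quotient.eq_zero_iff_mem.mpr hx]
        exact zero_mem _
      · rw [Ideal.map_le_iff_le_comap]
        intro a ha
        rw [Ideal.mem_comap, Ideal.mem_comap]
        have h2 : a ∈ Q'.comap (algebraMap A (C ⧸ 𝔯)) := by
          rw [Ideal.mem_comap]
          have h3 : algebraMap A (C ⧸ 𝔯) a = Ideal.Quotient.mk 𝔯 (algebraMap A C a) := rfl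
          rw [h3, ← Ideal.mem_comap, hQ'c]
          exact ha
        rw [← hfib, Ideal.mem_comap] at h2
        exact h2
    rw [← tdN_comap_mk A 𝔯 q', tdN_congr A hq])
  have h2 := Hr ⊥ (fun h => hr ((bot_le : (⊥ : Ideal (C ⧸ 𝔯)) ≤ Q') h))
  have h3 : tdN A (⊥ : Ideal (C ⧸ 𝔯)) = tdN A 𝔯 := by
    rw [← tdN_comap_mk A 𝔯 ⊥]
    exact tdN_congr A (by rw [← RingHom.ker_eq_comap_bot, Ideal.mk_ker])
  omega

omit [Algebra.FiniteType A C] in
/-- a minimal prime of `𝔯 + p₁ C` inside `Q₁` (`p₁ = Q₁ ∩ A`) lies over `p₁`. -/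
theorem exists_minimal_in_fibre (𝔯 Q₁ : Ideal C) [𝔯.IsPrime] [Q₁.IsPrime] (hle : 𝔯 ≤ Q₁) :
    ∃ (𝔯₁ : Ideal C) (_ : 𝔯₁.IsPrime), 𝔯 ≤ 𝔯₁ ∧ 𝔯₁ ≤ Q₁ ∧
      𝔯₁.comap (algebraMap A C) = Q₁.comap (algebraMap A C) ∧
      𝔯₁ ∈ (𝔯 ⊔ (𝔯₁.comap (algebraMap A C)).map (algebraMap A C)).minimalPrimes := by
  have hJ : 𝔯 ⊔ (Q₁.comap (algebraMap A C)).map (algebraMap A C) ≤ Q₁ :=
    sup_le hle Ideal.map_comap_le
  obtain ⟨𝔯₁, hmin, hle₁⟩ := Ideal.exists_minimalPrimes_le hJ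
  have hp : 𝔯₁.IsPrime := hmin.1.1
  have hfib : 𝔯₁.comap (algebraMap A C) = Q₁.comap (algebraMap A C) := by
    refine le_antisymm (Ideal.comap_mono hle₁) ?_
    rw [← Ideal.map_le_iff_le_comap]
    exact le_sup_right.trans hmin.1.2
  refine ⟨𝔯₁, hp, le_sup_left.trans hmin.1.2, hle₁, hfib, ?_⟩
  rw [hfib]
  exact hmin

variable [IsNoetherianRing C]

/-- `fdim + td ≤ e` iff all generizations in the fibre have `td ≤ e`. -/
theorem fdim_add_tdN_le_iff (Q : Ideal C) [Q.IsPrime] (e : ℕ) :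
    fdim A Q + tdN A Q ≤ e ↔
      ∀ q : Ideal C, ∀ _ : q.IsPrime, q ≤ Q →
        q.comap (algebraMap A C) = Q.comap (algebraMap A C) → tdN A q ≤ e := by
  rw [← dim_fibLocRing_add_tdN_le_iff, fdim_spec]
  exact_mod_cast Iff.rfl

/-- the local dimension of the fibre at `Q` is attained at a generization of `Q` in its fibre. -/
theorem exists_tdN_eq (Q : Ideal C) [Q.IsPrime] :
    ∃ (q : Ideal C) (_ : q.IsPrime), q ≤ Q ∧
      q.comap (algebraMap A C) = Q.comap (algebraMap A C) ∧ tdN A q = fdim A Q + tdN A Q := by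
  by_contra hcon
  push Not at hcon
  have hall := (fdim_add_tdN_le_iff A Q (fdim A Q + tdN A Q)).1 le_rfl
  have hQ := hcon Q inferInstance le_rfl rfl
  have h1 : ∀ q : Ideal C, ∀ _ : q.IsPrime, q ≤ Q →
      q.comap (algebraMap A C) = Q.comap (algebraMap A C) →
      tdN A q ≤ fdim A Q + tdN A Q - 1 := by
    intro q hq hle hfib
    have := hall q hq hle hfib
    have := hcon q hq hle hfib
    omega
  have h2 := (fdim_add_tdN_le_iff A Q (fdim A Q + tdN A Q - 1)).2 h1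
  omega

/-- **Chevalley's semicontinuity**: `x ↦ dim_x (fibre through x)` does not decrease under
specialization. -/
theorem fdim_add_tdN_mono (𝔷 𝔯' : Ideal C) [𝔷.IsPrime] [𝔯'.IsPrime] (hle : 𝔷 ≤ 𝔯') :
    fdim A 𝔷 + tdN A 𝔷 ≤ fdim A 𝔯' + tdN A 𝔯' := by
  obtain ⟨q₀, hq₀, hq₀le, hq₀fib, hq₀td⟩ := exists_tdN_eq A 𝔷
  haveI := hq₀
  obtain ⟨q₁, hq₁, hq₀q₁, hq₁le, hq₁fib, hq₁min⟩ :=
    exists_minimal_in_fibre A q₀ 𝔯' (hq₀le.trans hle)
  haveI := hq₁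
  have h1 := tdN_le_of_minimal A q₀ q₁ hq₁min
  have h2 := (fdim_add_tdN_le_iff A 𝔯' (fdim A 𝔯' + tdN A 𝔯')).1 le_rfl q₁ hq₁ hq₁le hq₁fib
  omega

end general

end Groth.Agent.Lib.Helper24.FibCod
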