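import Mathlib
import Groth.Prelude.Def_EGA4b
import Groth.Agent.Lib.Helper24.FibCod9
import Groth.Agent.Lib.Helper3.FlatLocus4

/-!
# Codepth of fibre local rings (helper24), part 10: openness of the fibrewise `(S_k)` locus over a
Noetherian base (EGA IV 12.1.6)

`A` Noetherian, `P = A[x_1..x_N] → B` surjective, `B` flat over `A`.  The set of primes `Q` of `B`
such that the fibre local ring `B_Q / p B_Q` satisfies `(S_k)` is open.
-/

set_option autoImplicit false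
universe u

namespace Groth.Agent.Lib.Helper24.FibCod

open Groth.Agent.Lib.helper3.DimIneq Groth.Agent.Lib.helper3.FTField
  Groth.Agent.Lib.helper3.FibreParam Groth.Agent.Lib.helper3.PdSemi
  Function TensorProduct LocCoh IsLocalRing CategoryTheory
  Groth.Agent.Lib.helper23.DRingPC

attribute [local instance] Groth.Agent.Lib.helper26.SkFlat.isLocalRing_fibLocRing

section chev

variable (A : Type u) {C : Type u} [CommRing A] [CommRing C] [Algebra A C]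
  [Algebra.FiniteType A C]

/-- Chevalley at a specialization `Q` of `𝔷` in the same fibre: near `Q` on `V(𝔷)`, `td ≤ td(𝔷)`. -/
theorem exists_notMem_tdN_le_of_le (𝔷 Q : Ideal C) [𝔷.IsPrime] [Q.IsPrime] (hle : 𝔷 ≤ Q)
    (hfib : 𝔷.comap (algebraMap A C) = Q.comap (algebraMap A C)) :
    ∃ g : C, g ∉ Q ∧ ∀ (𝔯' : Ideal C) [𝔯'.IsPrime], 𝔷 ≤ 𝔯' → g ∉ 𝔯' → tdN A 𝔯' ≤ tdN A 𝔷 := by
  haveI : Algebra.FiniteType A (C ⧸ 𝔷) :=
    Algebra.FiniteType.of_surjective (Ideal.Quotient.mkₐ A 𝔷) Ideal.Quotient.mk_surjective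
  set Q' : Ideal (C ⧸ 𝔷) := Q.map (Ideal.Quotient.mk 𝔷) with hQ'
  haveI hQ'p : Q'.IsPrime := map_mk_isPrime 𝔷 Q hle
  have hQ'c : Q'.comap (Ideal.Quotient.mk 𝔷) = Q := comap_map_mk 𝔷 Q hle
  obtain ⟨r, hr, Hr⟩ := exists_notMem_forall_tdN_le (A := A) Q' (tdN A 𝔷) (by
    intro q' hq' hq'Q' hfib'
    haveI := hq'
    have h𝔷q : 𝔷 ≤ q'.comap (Ideal.Quotient.mk 𝔷) := by
      intro x hx
      rw [Ideal.mem_comap, Ideal.Quotient.eq_zero_iff_mem.mpr hx]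
      exact zero_mem _
    have hqQ : q'.comap (Ideal.Quotient.mk 𝔷) ≤ Q := by
      rw [← hQ'c]; exact Ideal.comap_mono hq'Q'
    have hfibq : 𝔷.comap (algebraMap A C) =
        (q'.comap (Ideal.Quotient.mk 𝔷)).comap (algebraMap A C) :=
      le_antisymm (Ideal.comap_mono h𝔷q) (hfib ▸ Ideal.comap_mono hqQ)
    have h1 := height_map_add_tdN (A := A) 𝔷 (q'.comap (Ideal.Quotient.mk 𝔷)) h𝔷q hfibq
    have h2 : (tdN A (q'.comap (Ideal.Quotient.mk 𝔷)) : ℕ∞) ≤ (tdN A 𝔷 : ℕ∞) := by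
      rw [← h1]; exact le_add_self
    rw [← tdN_comap_mk A 𝔷 q']
    exact_mod_cast h2)
  obtain ⟨g, rfl⟩ := Ideal.Quotient.mk_surjective r
  refine ⟨g, fun hg => hr (Ideal.mem_map_of_mem _ hg), ?_⟩
  intro 𝔯' _ h𝔷𝔯' hg𝔯'
  haveI : (𝔯'.map (Ideal.Quotient.mk 𝔷)).IsPrime := map_mk_isPrime 𝔷 𝔯' h𝔷𝔯'
  have hc : (𝔯'.map (Ideal.Quotient.mk 𝔷)).comap (Ideal.Quotient.mk 𝔷) = 𝔯' :=
    comap_map_mk 𝔷 𝔯' h𝔷𝔯'
  have h1 := Hr (𝔯'.map (Ideal.Quotient.mk 𝔷)) (by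
    intro h
    apply hg𝔯'
    rw [← hc, Ideal.mem_comap]
    exact h)
  rw [← tdN_comap_mk A 𝔷 (𝔯'.map (Ideal.Quotient.mk 𝔷)), tdN_congr A hc] at h1
  exact h1

end chev

variable (A : Type u) [CommRing A] [IsNoetherianRing A] (N : ℕ) {B : Type u} [CommRing B]
  [Algebra A B] [Algebra (MvPolynomial (Fin N) A) B] [IsScalarTower A (MvPolynomial (Fin N) A) B]
  (hs : Surjective (algebraMap (MvPolynomial (Fin N) A) B))

include hs in
theorem fdim_add_tdN_le_card' (Q : Ideal B) [Q.IsPrime] : fdim A Q + tdN A Q ≤ N := by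
  haveI : IsNoetherianRing B :=
    isNoetherianRing_of_surjective (MvPolynomial (Fin N) A) B (algebraMap _ B) hs
  haveI : Algebra.FiniteType A B := finiteType_of_surj A N hs
  have h := dim_add_tdN_le_card A N hs Q
  rw [fdim_spec] at h
  exact_mod_cast h

variable [Module.Flat A B]

include hs in
theorem isOpen_fdim_le (n : ℕ) :
    IsOpen {Q : PrimeSpectrum B | fdim A Q.asIdeal ≤ fdep A Q.asIdeal + n} := by
  haveI : IsNoetherianRing B :=
    isNoetherianRing_of_surjective (MvPolynomial (Fin N) A) B (algebraMap _ B) hs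
  haveI : Algebra.FiniteType A B := finiteType_of_surj A N hs
  convert isOpen_codepth_le_of_surjective A N hs n using 1
  ext Q
  simp only [Set.mem_ofPred_eq]
  rw [fdim_spec, fdep_spec]
  exact_mod_cast Iff.rfl

include hs in
theorem pdlt_iff' (Q : PrimeSpectrum B) (t : ℕ) :
    HasProjectiveDimensionLT
      (ModuleCat.of (Fp A (PrimeSpectrum.comap (algebraMap (MvPolynomial (Fin N) A) B) Q))
        ((Fp A (PrimeSpectrum.comap (algebraMap (MvPolynomial (Fin N) A) B) Q))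
          ⊗[MvPolynomial (Fin N) A] B)) t ↔ N - tdN A Q.asIdeal < t + fdep A Q.asIdeal := by
  haveI : IsNoetherianRing B :=
    isNoetherianRing_of_surjective (MvPolynomial (Fin N) A) B (algebraMap _ B) hs
  rw [pdlt_iff A N hs Q t, fdep_spec]
  exact_mod_cast Iff.rfl

include hs in
/-- the codepth of the fibre local ring does not increase under generization. -/
theorem codepth_mono (Q Q₁ : PrimeSpectrum B) (hle : Q ≤ Q₁) (n : ℕ)
    (h : fdim A Q₁.asIdeal ≤ fdep A Q₁.asIdeal + n) : fdim A Q.asIdeal ≤ fdep A Q.asIdeal + n :=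
  (isOpen_fdim_le A N hs n).stableUnderGeneralization
    ((PrimeSpectrum.le_iff_specializes _ _).mp hle) h

include hs in
/-- `depth + td` of the fibre local ring does not decrease under generization. -/
theorem fdep_add_tdN_le (Q Q₁ : PrimeSpectrum B) (hle : Q ≤ Q₁) :
    fdep A Q₁.asIdeal + tdN A Q₁.asIdeal ≤ fdep A Q.asIdeal + tdN A Q.asIdeal := by
  haveI : IsNoetherianRing B :=
    isNoetherianRing_of_surjective (MvPolynomial (Fin N) A) B (algebraMap _ B) hs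
  haveI : Algebra.FiniteType A B := finiteType_of_surj A N hs
  haveI : Module.Finite (MvPolynomial (Fin N) A) B :=
    Module.Finite.of_surjective (Algebra.linearMap (MvPolynomial (Fin N) A) B) hs
  have hpc : PCMod (MvPolynomial (Fin N) A) (ModuleCat.of (MvPolynomial (Fin N) A) B) :=
    (forall_npc_single_iff_of_noetherian (MvPolynomial (Fin N) A) _).2 inferInstance
  have hcard₁ := fdim_add_tdN_le_card' A N hs Q₁.asIdeal
  have hcard := fdim_add_tdN_le_card' A N hs Q.asIdeal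
  have hd₁ := fdep_le_fdim A Q₁.asIdeal
  set t := N - tdN A Q₁.asIdeal - fdep A Q₁.asIdeal + 1 with ht
  have hopen := isOpen_pdlt (A := A) (B := MvPolynomial (Fin N) A) t B hpc
  have hle' : PrimeSpectrum.comap (algebraMap (MvPolynomial (Fin N) A) B) Q ≤
      PrimeSpectrum.comap (algebraMap (MvPolynomial (Fin N) A) B) Q₁ :=
    Ideal.comap_mono hle
  have h2 := hopen.stableUnderGeneralization ((PrimeSpectrum.le_iff_specializes _ _).mp hle')
    ((pdlt_iff' A N hs Q₁ t).2 (by omega))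
  have h3 := (pdlt_iff' A N hs Q t).1 h2
  omega

include hs in
/-- **EGA IV 12.1.6, Noetherian ring form**: the locus where the fibre local ring satisfies `(S_k)`
is open. -/
theorem isOpen_hasSk_of_surjective (k : ℕ) :
    IsOpen {Q : PrimeSpectrum B | HasSk k (EGA4.FibLocRing A B Q.asIdeal)
      (EGA4.FibLocRing A B Q.asIdeal)} := by
  classical
  haveI : IsNoetherianRing B :=
    isNoetherianRing_of_surjective (MvPolynomial (Fin N) A) B (algebraMap _ B) hs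
  haveI : Algebra.FiniteType A B := finiteType_of_surj A N hs
  have hset : {Q : PrimeSpectrum B | HasSk k (EGA4.FibLocRing A B Q.asIdeal)
      (EGA4.FibLocRing A B Q.asIdeal)} =
      {Q : PrimeSpectrum B | ∀ (r : Ideal B) (_ : r.IsPrime), r ≤ Q.asIdeal →
        r.comap (algebraMap A B) = Q.asIdeal.comap (algebraMap A B) →
        min k (fdim A r) ≤ fdep A r} := by
    ext Q
    exact hasSk_fibLocRing_iff A k Q.asIdeal
  rw [hset]
  apply Groth.Agent.Lib.helper3.FlatLocus.isOpen_of_nagata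
  · -- stability under generization
    intro Q₁ Q hspec hQ₁
    have hQQ₁ : Q ≤ Q₁ := (PrimeSpectrum.le_iff_specializes _ _).mpr hspec
    intro 𝔯 h𝔯 h𝔯Q hfib
    haveI := h𝔯
    by_contra hbad
    obtain ⟨𝔯₁, h𝔯₁, h𝔯𝔯₁, h𝔯₁Q₁, h𝔯₁fib, h𝔯₁min⟩ :=
      exists_minimal_in_fibre A 𝔯 Q₁.asIdeal (h𝔯Q.trans hQQ₁)
    haveI := h𝔯₁
    have hgood := hQ₁ 𝔯₁ h𝔯₁ h𝔯₁Q₁ h𝔯₁fib
    have h1 := tdN_le_of_minimal A 𝔯 𝔯₁ h𝔯₁min
    have h2 := fdep_add_tdN_le A N hs ⟨𝔯, h𝔯⟩ ⟨𝔯₁, h𝔯₁⟩ h𝔯𝔯₁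
    have h3 := codepth_mono A N hs ⟨𝔯, h𝔯⟩ ⟨𝔯₁, h𝔯₁⟩ h𝔯𝔯₁ 0
    have h4 := fdep_le_fdim A 𝔯₁
    simp only at h2 h3
    omega
  · -- a neighbourhood of the generic point in its closure
    intro Q hQ
    set pB : Ideal B := (Q.asIdeal.comap (algebraMap A B)).map (algebraMap A B) with hpB
    let Z : ℕ → Set (PrimeSpectrum B) := fun m =>
      {q | ¬ (fdim A q.asIdeal ≤ fdep A q.asIdeal + m)} ∩ PrimeSpectrum.zeroLocus (pB : Set B)
    have hZclosed : ∀ m, IsClosed (Z m) := fun m =>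
      ((isOpen_fdim_le A N hs m).isClosed_compl).inter (PrimeSpectrum.isClosed_zeroLocus _)
    let I : ℕ → Ideal B := fun m => PrimeSpectrum.vanishingIdeal (Z m)
    have hzl : ∀ m, PrimeSpectrum.zeroLocus ((I m : Ideal B) : Set B) = Z m := fun m => by
      rw [PrimeSpectrum.zeroLocus_vanishingIdeal_eq_closure, (hZclosed m).closure_eq]
    let S : Set (PrimeSpectrum B) := {𝔷 | ∃ m < N + 1, 𝔷.asIdeal ∈ (I m).minimalPrimes}
    have hSfin : S.Finite := by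
      have h1 : (⋃ m ∈ Finset.range (N + 1), {𝔷 : PrimeSpectrum B |
          𝔷.asIdeal ∈ (I m).minimalPrimes}).Finite := by
        refine Set.Finite.biUnion (Finset.finite_toSet _) fun m _ => ?_
        exact Set.Finite.preimage (fun x _ y _ hxy => PrimeSpectrum.ext hxy)
          (Ideal.finite_minimalPrimes_of_isNoetherianRing B _)
      refine h1.subset ?_
      rintro 𝔷 ⟨m, hm, h𝔷⟩
      simp only [Set.mem_iUnion, Finset.mem_range]
      exact ⟨m, hm, h𝔷⟩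
    have hchoice : ∀ 𝔷 : PrimeSpectrum B, ∃ g : B, g ∉ Q.asIdeal ∧
        (¬ 𝔷.asIdeal ≤ Q.asIdeal → g ∈ 𝔷.asIdeal) ∧
        (𝔷.asIdeal ≤ Q.asIdeal →
          𝔷.asIdeal.comap (algebraMap A B) = Q.asIdeal.comap (algebraMap A B) →
          ∀ 𝔯' : PrimeSpectrum B, 𝔷 ≤ 𝔯' → g ∉ 𝔯'.asIdeal →
            tdN A 𝔯'.asIdeal ≤ tdN A 𝔷.asIdeal) := by
      intro 𝔷
      by_cases h𝔷Q : 𝔷.asIdeal ≤ Q.asIdeal
      · by_cases hfib : 𝔷.asIdeal.comap (algebraMap A B) = Q.asIdeal.comap (algebraMap A B)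
        · obtain ⟨g, hg, Hg⟩ := exists_notMem_tdN_le_of_le A 𝔷.asIdeal Q.asIdeal h𝔷Q hfib
          exact ⟨g, hg, fun h => absurd h𝔷Q h, fun _ _ 𝔯' h𝔷𝔯' hg𝔯' => Hg 𝔯'.asIdeal h𝔷𝔯' hg𝔯'⟩
        · exact ⟨1, fun h => Q.isPrime.ne_top ((Ideal.eq_top_iff_one _).mpr h),
            fun h => absurd h𝔷Q h, fun _ h => absurd h hfib⟩
      · obtain ⟨g, hg𝔷, hgQ⟩ := SetLike.not_le_iff_exists.mp h𝔷Q
        exact ⟨g, hgQ, fun _ => hg𝔷, fun h => absurd h h𝔷Q⟩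
    choose g hg using hchoice
    set G : B := ∏ 𝔷 ∈ hSfin.toFinset, g 𝔷 with hG
    have hGQ : G ∉ Q.asIdeal := by
      rw [hG, Q.isPrime.prod_mem_iff]
      rintro ⟨𝔷, -, h⟩
      exact (hg 𝔷).1 h
    refine ⟨G, hGQ, fun Q' hQQ' hGQ' => ?_⟩
    intro 𝔯' h𝔯' h𝔯'Q' hfib'
    haveI := h𝔯'
    by_contra hbad
    have hdf := fdep_le_fdim A 𝔯'
    have hcard := fdim_add_tdN_le_card' A N hs 𝔯'
    set m := fdim A 𝔯' - fdep A 𝔯' - 1 with hm
    have hmN : m < N + 1 := by omega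
    have hpB𝔯' : pB ≤ 𝔯' := by
      rw [hpB, Ideal.map_le_iff_le_comap, hfib']
      exact Ideal.comap_mono hQQ'
    have h𝔯'Z : (⟨𝔯', h𝔯'⟩ : PrimeSpectrum B) ∈ Z m := by
      refine ⟨?_, ?_⟩
      · show ¬ (fdim A 𝔯' ≤ fdep A 𝔯' + m)
        omega
      · rw [PrimeSpectrum.mem_zeroLocus, SetLike.coe_subset_coe]
        exact hpB𝔯'
    rw [← hzl m, PrimeSpectrum.mem_zeroLocus, SetLike.coe_subset_coe] at h𝔯'Z
    obtain ⟨𝔷, h𝔷min, h𝔷le⟩ := Ideal.exists_minimalPrimes_le h𝔯'Z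
    have h𝔷p : 𝔷.IsPrime := h𝔷min.1.1
    set 𝔷' : PrimeSpectrum B := ⟨𝔷, h𝔷p⟩ with h𝔷'
    have h𝔷S : 𝔷' ∈ S := ⟨m, hmN, h𝔷min⟩
    have hG𝔯' : G ∉ 𝔯' := fun h => hGQ' (h𝔯'Q' h)
    have hg𝔯' : g 𝔷' ∉ 𝔯' := fun h => hG𝔯'
      (Ideal.mem_of_dvd _ (Finset.dvd_prod_of_mem g (hSfin.mem_toFinset.mpr h𝔷S)) h)
    have h𝔷Q : 𝔷 ≤ Q.asIdeal := by
      by_contra hn
      exact hg𝔯' (h𝔷le ((hg 𝔷').2.1 hn))
    have h𝔷Z : 𝔷' ∈ Z m := by
      rw [← hzl m, PrimeSpectrum.mem_zeroLocus, SetLike.coe_subset_coe]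
      exact h𝔷min.1.2
    obtain ⟨h𝔷c, h𝔷pB⟩ := h𝔷Z
    rw [PrimeSpectrum.mem_zeroLocus, SetLike.coe_subset_coe] at h𝔷pB
    have h𝔷fib : 𝔷.comap (algebraMap A B) = Q.asIdeal.comap (algebraMap A B) := by
      refine le_antisymm (Ideal.comap_mono h𝔷Q) ?_
      rw [← Ideal.map_le_iff_le_comap]
      exact h𝔷pB
    have htd : tdN A 𝔯' ≤ tdN A 𝔷 := (hg 𝔷').2.2 h𝔷Q h𝔷fib ⟨𝔯', h𝔯'⟩ h𝔷le hg𝔯'
    have hgood := hQ 𝔷 h𝔷p h𝔷Q h𝔷fib
    have hkey := fdim_add_tdN_mono A 𝔷 𝔯' h𝔷le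
    have h𝔷c' : ¬ (fdim A 𝔷 ≤ fdep A 𝔷 + m) := h𝔷c
    omega

end Groth.Agent.Lib.Helper24.FibCod
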