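import Mathlib
import Groth.Prelude.Def_EGA4b
import Groth.Agent.S2699
import Groth.Agent.Lib.Helper24.FibCod8
import Groth.Agent.Lib.Helper24.FibreRegular
import Groth.Agent.Lib.Helper26.FibBC
import Groth.Agent.Lib.Helper26.Reflexive
import Groth.Agent.Lib.Helper26.GrLoc6

/-!
# Codepth of fibre local rings (helper24), part 11: base change of the fibre local rings

`B' = B ⊗_A A'`, `q'` a prime of `B'` with contraction `q` to `B`.  The fibre local ring of `B'` at
`q'` and the fibre local ring of `B` at `q` have the same codepth, and one is `(S_k)` iff the other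
is (EGA IV 6.7.1 via `S2699`).
-/

set_option autoImplicit false
universe u

namespace Groth.Agent.Lib.Helper24.FibCod

open Function TensorProduct LocCoh IsLocalRing Groth.Agent.Lib.helper26.FibBC

attribute [local instance] Groth.Agent.Lib.helper26.SkFlat.isLocalRing_fibLocRing

section BaseChange

variable (A B A' B' : Type u) [CommRing A] [CommRing B] [CommRing A'] [CommRing B']
  [Algebra A B] [Algebra A A'] [Algebra B B'] [Algebra A' B'] [Algebra A B']
  [IsScalarTower A B B'] [IsScalarTower A A' B'] [Algebra.IsPushout A B A' B']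
  (p : Ideal A) [p.IsPrime] (p' : Ideal A') [p'.IsPrime] (hp : p = p'.comap (algebraMap A A'))

include hp in
/-- the fibre ring of `B'` over `p'` is the base change of the fibre ring of `B` over `p` along
`κ(p) → κ(p')`. -/
theorem exists_fiber_tensor_equiv :
    letI := algκ A A' p p' hp
    ∃ Θ : (p'.Fiber B') ≃+* ((p.Fiber B) ⊗[p.ResidueField] p'.ResidueField),
      ∀ b : B, Θ ((1 : p'.ResidueField) ⊗ₜ[A'] (algebraMap B B' b)) =
        ((1 : p.ResidueField) ⊗ₜ[A] b) ⊗ₜ[p.ResidueField] (1 : p'.ResidueField) := by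
  letI := algκ A A' p p' hp
  haveI : IsScalarTower A p.ResidueField p'.ResidueField := towAκ A A' p p' hp
  haveI hpush' : Algebra.IsPushout A A' B B' := Algebra.IsPushout.symm inferInstance
  let e₁ : A' ⊗[A] B ≃ₐ[A'] B' := Algebra.IsPushout.equiv A A' B B'
  let θ₁ : (p'.ResidueField ⊗[A'] B') ≃ₐ[p'.ResidueField] (p'.ResidueField ⊗[A] B) :=
    (Algebra.TensorProduct.congr (AlgEquiv.refl : p'.ResidueField ≃ₐ[p'.ResidueField] p'.ResidueField)
      e₁.symm).trans
      (Algebra.TensorProduct.cancelBaseChange A A' p'.ResidueField p'.ResidueField B)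
  have hθ₁ : ∀ b : B, θ₁ ((1 : p'.ResidueField) ⊗ₜ[A'] (algebraMap B B' b)) =
      (1 : p'.ResidueField) ⊗ₜ[A] b := by
    intro b
    change Algebra.TensorProduct.cancelBaseChange A A' p'.ResidueField p'.ResidueField B
      ((1 : p'.ResidueField) ⊗ₜ[A'] (e₁.symm (algebraMap B B' b))) = _
    rw [Algebra.IsPushout.equiv_symm_algebraMap_right, Algebra.TensorProduct.cancelBaseChange_tmul,
      one_smul]
  let θ₂ : (p'.ResidueField ⊗[p.ResidueField] (p.ResidueField ⊗[A] B)) ≃ₐ[p'.ResidueField]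
      (p'.ResidueField ⊗[A] B) :=
    Algebra.TensorProduct.cancelBaseChange A p.ResidueField p'.ResidueField p'.ResidueField B
  let θ₃ : (p'.ResidueField ⊗[p.ResidueField] (p.ResidueField ⊗[A] B)) ≃ₐ[p.ResidueField]
      ((p.ResidueField ⊗[A] B) ⊗[p.ResidueField] p'.ResidueField) :=
    Algebra.TensorProduct.comm p.ResidueField p'.ResidueField (p.ResidueField ⊗[A] B)
  refine ⟨(θ₁.toRingEquiv.trans θ₂.symm.toRingEquiv).trans θ₃.toRingEquiv, fun b => ?_⟩
  change θ₃ (θ₂.symm (θ₁ ((1 : p'.ResidueField) ⊗ₜ[A'] (algebraMap B B' b)))) = _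
  rw [hθ₁]
  have h2 : θ₂.symm ((1 : p'.ResidueField) ⊗ₜ[A] b) =
      (1 : p'.ResidueField) ⊗ₜ[p.ResidueField] ((1 : p.ResidueField) ⊗ₜ[A] b) := by
    rw [AlgEquiv.symm_apply_eq]
    change _ = Algebra.TensorProduct.cancelBaseChange A p.ResidueField p'.ResidueField
      p'.ResidueField B _
    rw [Algebra.TensorProduct.cancelBaseChange_tmul, one_smul]
  rw [h2]
  rfl

end BaseChange

section transport

theorem hasSkAt_self_iff_hasSk (n : ℕ) (S : Type u) [CommRing S] (𝔮 : Ideal S) [𝔮.IsPrime] :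
    EGA4.HasSkAt n S S 𝔮 ↔ HasSk n (Localization.AtPrime 𝔮) (Localization.AtPrime 𝔮) :=
  ⟨fun h => Groth.Agent.Lib.helper26.Depth.hasSk_congr n
      (Groth.Agent.Lib.helper26.Depth.selfEquiv S 𝔮).symm h,
    fun h => Groth.Agent.Lib.helper26.Depth.hasSk_congr n
      (Groth.Agent.Lib.helper26.Depth.selfEquiv S 𝔮) h⟩

theorem hasSk_iff_of_ringEquiv (n : ℕ) {R R' : Type u} [CommRing R] [CommRing R'] (e : R ≃+* R')
    [IsNoetherianRing R] [IsNoetherianRing R'] : HasSk n R R ↔ HasSk n R' R' :=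
  ⟨Groth.Agent.Lib.helper26.GrLoc.hasSk_of_ringEquiv n e.symm,
    Groth.Agent.Lib.helper26.GrLoc.hasSk_of_ringEquiv n e⟩

/-- transporting a prime and its localization along a ring isomorphism. -/
theorem exists_prime_loc_equiv {R R' : Type u} [CommRing R] [CommRing R'] (Θ : R ≃+* R')
    (𝔮' : Ideal R) [𝔮'.IsPrime] :
    ∃ (𝔮'' : Ideal R') (_ : 𝔮''.IsPrime), (∀ x : R, Θ x ∈ 𝔮'' ↔ x ∈ 𝔮') ∧
      Nonempty (Localization.AtPrime 𝔮'' ≃+* Localization.AtPrime 𝔮') := by
  refine ⟨𝔮'.comap Θ.symm, Ideal.comap_isPrime _ _, fun x => ?_, ⟨?_⟩⟩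
  · rw [Ideal.mem_comap, RingEquiv.symm_apply_apply]
  · exact IsLocalization.ringEquivOfRingEquiv (Localization.AtPrime (𝔮'.comap Θ.symm))
      (Localization.AtPrime 𝔮') Θ.symm (Θ.symm.map_primeCompl_comap_eq 𝔮')

end transport

section abstract

variable (k S k' : Type u) [Field k] [CommRing S] [Algebra k S] [Field k'] [Algebra k k']
  [Algebra.FiniteType k S]

/-- `S2699` transported to rings isomorphic to the two local rings. -/
theorem field_baseChange_transport (𝔮'' : Ideal (S ⊗[k] k')) [𝔮''.IsPrime]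
    (F F' : Type u) [CommRing F] [CommRing F'] [IsLocalRing F] [IsLocalRing F']
    (e : Localization.AtPrime (𝔮''.comap (algebraMap S (S ⊗[k] k'))) ≃+* F)
    (e' : Localization.AtPrime 𝔮'' ≃+* F') (n : ℕ) :
    IsNoetherianRing F ∧ IsNoetherianRing F' ∧
    (ringKrullDim F + ((depth F' F' : ℕ∞) : WithBot ℕ∞) =
      ringKrullDim F' + ((depth F F : ℕ∞) : WithBot ℕ∞)) ∧
    (HasSk n F F ↔ HasSk n F' F') := by
  haveI : IsNoetherianRing S := Algebra.FiniteType.isNoetherianRing k S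
  haveI : IsNoetherianRing (k' ⊗[k] S) := by
    have h := Algebra.FiniteType.isNoetherianRing k' (k' ⊗[k] S)
    exact h
  haveI : IsNoetherianRing (S ⊗[k] k') :=
    isNoetherianRing_of_ringEquiv _ (Algebra.TensorProduct.comm k k' S).toRingEquiv
  haveI : IsNoetherianRing F := isNoetherianRing_of_ringEquiv _ e
  haveI : IsNoetherianRing F' := isNoetherianRing_of_ringEquiv _ e'
  obtain ⟨h1, h2⟩ := Groth.Agent.S2699.result k S k' (Or.inl inferInstance) 𝔮'' n
  refine ⟨inferInstance, inferInstance, ?_, ?_⟩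
  · rw [← ringKrullDim_eq_of_ringEquiv e, ← ringKrullDim_eq_of_ringEquiv e',
      Groth.Agent.Lib.Helper24.FlatDepth.depth_eq_of_ringEquiv e,
      Groth.Agent.Lib.Helper24.FlatDepth.depth_eq_of_ringEquiv e']
    exact h1
  · rw [← hasSk_iff_of_ringEquiv n e, ← hasSk_iff_of_ringEquiv n e',
      ← hasSkAt_self_iff_hasSk, ← hasSkAt_self_iff_hasSk]
    exact h2

end abstract

section Main

variable (A B A' B' : Type u) [CommRing A] [CommRing B] [CommRing A'] [CommRing B']
  [Algebra A B] [Algebra A A'] [Algebra B B'] [Algebra A' B'] [Algebra A B']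
  [IsScalarTower A B B'] [IsScalarTower A A' B'] [Algebra.IsPushout A B A' B']

/-- the tensor model of the two fibre local rings. -/
theorem exists_tensor_model [Algebra.FiniteType A B] (q' : Ideal B') [q'.IsPrime] (q : Ideal B)
    [q.IsPrime] (hq : q = q'.comap (algebraMap B B')) :
    ∃ (k S k' : Type u) (_ : Field k) (_ : CommRing S) (_ : Algebra k S) (_ : Field k')
      (_ : Algebra k k') (_ : Algebra.FiniteType k S) (𝔮'' : Ideal (S ⊗[k] k')) (_ : 𝔮''.IsPrime),
      Nonempty (Localization.AtPrime (𝔮''.comap (algebraMap S (S ⊗[k] k'))) ≃+*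
        EGA4.FibLocRing A B q) ∧
      Nonempty (Localization.AtPrime 𝔮'' ≃+* EGA4.FibLocRing A' B' q') := by
  have hp : q.comap (algebraMap A B) = (q'.comap (algebraMap A' B')).comap (algebraMap A A') := by
    rw [hq, Ideal.comap_comap, Ideal.comap_comap,
      ← IsScalarTower.algebraMap_eq, ← IsScalarTower.algebraMap_eq]
  set p' : Ideal A' := q'.comap (algebraMap A' B') with hp'
  set p : Ideal A := q.comap (algebraMap A B) with hpdef
  haveI : q'.LiesOver p' := ⟨rfl⟩
  obtain ⟨𝔮', h𝔮'prime, h𝔮'⟩ :=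
    Groth.Agent.Lib.Helper24.FibreRegular.exists_fiber_prime A' B' p' q'
  letI := algκ A A' p p' hp
  obtain ⟨Θ, hΘ⟩ := exists_fiber_tensor_equiv A B A' B' p p' hp
  obtain ⟨𝔮'', h𝔮''p, hmem, ⟨e''⟩⟩ := exists_prime_loc_equiv (R := p'.Fiber B')
    (R' := (p.Fiber B) ⊗[p.ResidueField] p'.ResidueField) Θ 𝔮'
  haveI := h𝔮''p
  set 𝔮₀ : Ideal (p.Fiber B) :=
    𝔮''.comap (algebraMap (p.Fiber B) ((p.Fiber B) ⊗[p.ResidueField] p'.ResidueField)) with h𝔮₀
  haveI : 𝔮₀.IsPrime := Ideal.comap_isPrime _ _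
  have hr : q = 𝔮₀.comap (Algebra.TensorProduct.includeRight : B →ₐ[A] p.Fiber B) := by
    ext b
    rw [Ideal.mem_comap, h𝔮₀, Ideal.mem_comap]
    have h1 : algebraMap (p.Fiber B) ((p.Fiber B) ⊗[p.ResidueField] p'.ResidueField)
        ((Algebra.TensorProduct.includeRight : B →ₐ[A] p.Fiber B) b) =
        Θ ((1 : p'.ResidueField) ⊗ₜ[A'] (algebraMap B B' b)) := by
      rw [hΘ]; rfl
    rw [h1, hmem, hq, Ideal.mem_comap]
    exact (Ideal.ext_iff.mp h𝔮' (algebraMap B B' b)).symm.trans Ideal.mem_comap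
  obtain ⟨e⟩ := nonempty_fibLocRingEquiv A B p 𝔮₀ q hr
  obtain ⟨e'⟩ := nonempty_fibLocRingEquiv A' B' p' 𝔮' q' h𝔮'.symm
  exact ⟨p.ResidueField, p.Fiber B, p'.ResidueField, inferInstance, inferInstance, inferInstance,
    inferInstance, algκ A A' p p' hp, inferInstance, 𝔮'', h𝔮''p, ⟨e⟩, ⟨e''.trans e'⟩⟩

variable [Algebra.FiniteType A B]

/-- **Base change of fibre local rings** (EGA IV 6.7.1): same codepth, and `(S_n)` is equivalent. -/
theorem fibLocRing_baseChange (q' : Ideal B') [q'.IsPrime] (q : Ideal B) [q.IsPrime]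
    (hq : q = q'.comap (algebraMap B B')) (n : ℕ) :
    IsNoetherianRing (EGA4.FibLocRing A B q) ∧ IsNoetherianRing (EGA4.FibLocRing A' B' q') ∧
    (ringKrullDim (EGA4.FibLocRing A B q) +
        ((depth (EGA4.FibLocRing A' B' q') (EGA4.FibLocRing A' B' q') : ℕ∞) : WithBot ℕ∞) =
      ringKrullDim (EGA4.FibLocRing A' B' q') +
        ((depth (EGA4.FibLocRing A B q) (EGA4.FibLocRing A B q) : ℕ∞) : WithBot ℕ∞)) ∧
    (HasSk n (EGA4.FibLocRing A B q) (EGA4.FibLocRing A B q) ↔
      HasSk n (EGA4.FibLocRing A' B' q') (EGA4.FibLocRing A' B' q')) := by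
  obtain ⟨k, S, k', _, _, _, _, _, _, 𝔮'', h𝔮'', ⟨e⟩, ⟨e'⟩⟩ := exists_tensor_model A B A' B' q' q hq
  haveI := h𝔮''
  exact field_baseChange_transport k S k' 𝔮'' _ _ e e' n

end Main

end Groth.Agent.Lib.Helper24.FibCod
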