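import Mathlib
import Groth.Prelude.Def_EGA4b
import Groth.Agent.Lib.Helper24.FibCod10
import Groth.Agent.Lib.Helper24.FibCod11
import Groth.Agent.Lib.Helper3.FlatDescQ

/-!
# Codepth of fibre local rings (helper24), part 12: the ring-level theorems without Noetherian
hypotheses (EGA IV 12.1.1 (i), 12.1.6 (i) for `O_X`)

`B` a flat finitely presented `A`-algebra.  The set of primes `Q` of `B` whose fibre local ring has
codepth `≤ n` (resp. satisfies `(S_k)`) is open in `Spec B`.
-/

set_option autoImplicit false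
universe u

namespace Groth.Agent.Lib.Helper24.FibCod

open Function TensorProduct LocCoh IsLocalRing

attribute [local instance] Groth.Agent.Lib.helper26.SkFlat.isLocalRing_fibLocRing

section noeth

variable (A₀ B₀ : Type u) [CommRing A₀] [IsNoetherianRing A₀] [CommRing B₀] [Algebra A₀ B₀]
  [Algebra.FiniteType A₀ B₀] [Module.Flat A₀ B₀]

theorem isOpen_codepth_le_noeth (n : ℕ) :
    IsOpen {Q : PrimeSpectrum B₀ | ringKrullDim (EGA4.FibLocRing A₀ B₀ Q.asIdeal) ≤
      ((depth (EGA4.FibLocRing A₀ B₀ Q.asIdeal) (EGA4.FibLocRing A₀ B₀ Q.asIdeal) : ℕ∞) :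
        WithBot ℕ∞) + n} := by
  obtain ⟨N, f, hf⟩ := Algebra.FiniteType.iff_quotient_mvPolynomial''.mp
    (inferInstance : Algebra.FiniteType A₀ B₀)
  letI : Algebra (MvPolynomial (Fin N) A₀) B₀ := f.toRingHom.toAlgebra
  haveI : IsScalarTower A₀ (MvPolynomial (Fin N) A₀) B₀ :=
    IsScalarTower.of_algebraMap_eq (fun a => (f.commutes a).symm)
  exact isOpen_codepth_le_of_surjective A₀ N hf n

theorem isOpen_hasSk_noeth (k : ℕ) :
    IsOpen {Q : PrimeSpectrum B₀ | HasSk k (EGA4.FibLocRing A₀ B₀ Q.asIdeal)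
      (EGA4.FibLocRing A₀ B₀ Q.asIdeal)} := by
  obtain ⟨N, f, hf⟩ := Algebra.FiniteType.iff_quotient_mvPolynomial''.mp
    (inferInstance : Algebra.FiniteType A₀ B₀)
  letI : Algebra (MvPolynomial (Fin N) A₀) B₀ := f.toRingHom.toAlgebra
  haveI : IsScalarTower A₀ (MvPolynomial (Fin N) A₀) B₀ :=
    IsScalarTower.of_algebraMap_eq (fun a => (f.commutes a).symm)
  exact isOpen_hasSk_of_surjective A₀ N hf k

end noeth

section arith

/-- a Noetherian local ring has finite Krull dimension. -/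
theorem exists_nat_ringKrullDim (R : Type u) [CommRing R] [IsLocalRing R] [IsNoetherianRing R] :
    ∃ a : ℕ, ringKrullDim R = ((a : ℕ) : WithBot ℕ∞) := by
  rw [← IsLocalRing.maximalIdeal_height_eq_ringKrullDim]
  obtain ⟨m, hm⟩ := ENat.ne_top_iff_exists.mp
    (Ideal.height_ne_top_of_isPrime (I := maximalIdeal R))
  exact ⟨m, by rw [← hm]; rfl⟩

theorem codepth_le_iff_of_eq (R R' : Type u) [CommRing R] [IsLocalRing R] [IsNoetherianRing R]
    [CommRing R'] [IsLocalRing R'] [IsNoetherianRing R'] (n : ℕ)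
    (h : ringKrullDim R + ((depth R' R' : ℕ∞) : WithBot ℕ∞) =
      ringKrullDim R' + ((depth R R : ℕ∞) : WithBot ℕ∞)) :
    ringKrullDim R' ≤ ((depth R' R' : ℕ∞) : WithBot ℕ∞) + n ↔
      ringKrullDim R ≤ ((depth R R : ℕ∞) : WithBot ℕ∞) + n := by
  obtain ⟨a, ha⟩ := exists_nat_ringKrullDim R
  obtain ⟨c, hc⟩ := exists_nat_ringKrullDim R'
  obtain ⟨b, hb⟩ := ENat.ne_top_iff_exists.mp
    (Groth.Agent.Lib.helper26.Depth.depth_ne_top (A := R) R)
  obtain ⟨d, hd⟩ := ENat.ne_top_iff_exists.mp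
    (Groth.Agent.Lib.helper26.Depth.depth_ne_top (A := R') R')
  rw [ha, hc, ← hb, ← hd] at h ⊢
  have h' : a + d = c + b := by exact_mod_cast h
  constructor
  · intro h1
    have h1' : c ≤ d + n := by exact_mod_cast h1
    have : a ≤ b + n := by omega
    exact_mod_cast this
  · intro h1
    have h1' : a ≤ b + n := by exact_mod_cast h1
    have : c ≤ d + n := by omega
    exact_mod_cast this

end arith

section main

variable (A B : Type u) [CommRing A] [CommRing B] [Algebra A B] [Algebra.FinitePresentation A B]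
  [Module.Flat A B]

/-- **EGA IV 12.1.1 (i)/(vii) for `O_X`, ring form**: for a flat finitely presented algebra, the
locus where the fibre local ring has codepth `≤ n` is open. -/
theorem isOpen_codepth_le (n : ℕ) :
    IsOpen {Q : PrimeSpectrum B | ringKrullDim (EGA4.FibLocRing A B Q.asIdeal) ≤
      ((depth (EGA4.FibLocRing A B Q.asIdeal) (EGA4.FibLocRing A B Q.asIdeal) : ℕ∞) :
        WithBot ℕ∞) + n} := by
  obtain ⟨A₀, _, _, _, _, hft, -, -, B₀, _, _, _, _, hfp, hpo, hflat, -⟩ :=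
    Groth.Agent.Lib.helper3.FlatDesc.exists_fg_model_flat_module (A := A) (B := B) (M := B) ∅
  haveI : IsNoetherianRing A₀ := Algebra.FiniteType.isNoetherianRing ℤ A₀
  haveI : Module.Flat A₀ B₀ := hflat inferInstance
  haveI : Algebra.FiniteType A₀ B₀ := inferInstance
  haveI : Algebra.IsPushout A₀ B₀ A B := hpo.symm
  have hopen := isOpen_codepth_le_noeth A₀ B₀ n
  have hcont := PrimeSpectrum.continuous_comap (algebraMap B₀ B)
  convert hopen.preimage hcont using 1
  ext Q
  simp only [Set.mem_preimage, Set.mem_ofPred_eq]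
  obtain ⟨hN, hN', h1, -⟩ := fibLocRing_baseChange A₀ B₀ A B Q.asIdeal
    (Q.asIdeal.comap (algebraMap B₀ B)) rfl 0
  haveI := hN
  haveI := hN'
  exact codepth_le_iff_of_eq (EGA4.FibLocRing A₀ B₀ (Q.asIdeal.comap (algebraMap B₀ B)))
    (EGA4.FibLocRing A B Q.asIdeal) n h1

/-- **EGA IV 12.1.6 (i) for `O_X`, ring form**: for a flat finitely presented algebra, the locus
where the fibre local ring satisfies `(S_k)` is open. -/
theorem isOpen_hasSk (k : ℕ) :
    IsOpen {Q : PrimeSpectrum B | HasSk k (EGA4.FibLocRing A B Q.asIdeal)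
      (EGA4.FibLocRing A B Q.asIdeal)} := by
  obtain ⟨A₀, _, _, _, _, hft, -, -, B₀, _, _, _, _, hfp, hpo, hflat, -⟩ :=
    Groth.Agent.Lib.helper3.FlatDesc.exists_fg_model_flat_module (A := A) (B := B) (M := B) ∅
  haveI : IsNoetherianRing A₀ := Algebra.FiniteType.isNoetherianRing ℤ A₀
  haveI : Module.Flat A₀ B₀ := hflat inferInstance
  haveI : Algebra.FiniteType A₀ B₀ := inferInstance
  haveI : Algebra.IsPushout A₀ B₀ A B := hpo.symm
  have hopen := isOpen_hasSk_noeth A₀ B₀ k
  have hcont := PrimeSpectrum.continuous_comap (algebraMap B₀ B)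
  convert hopen.preimage hcont using 1
  ext Q
  simp only [Set.mem_preimage, Set.mem_ofPred_eq]
  exact (fibLocRing_baseChange A₀ B₀ A B Q.asIdeal
    (Q.asIdeal.comap (algebraMap B₀ B)) rfl k).2.2.2.symm

end main

end Groth.Agent.Lib.Helper24.FibCod
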