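import Mathlib
import Groth.Prelude.Def_EGA4b
import Groth.Agent.Lib.Helper17.FibreStalk

/-!
# Codepth of fibre local rings (helper24), part 13: the fibre local ring in an affine chart

For `f : X ⟶ Y`, affine opens `U ⊆ f⁻¹ V` and `x ∈ U`: the local ring of the fibre of `f` through
`x` at `x` is `B_q / p B_q` with `A = Γ(Y, V)`, `B = Γ(X, U)`, `q` the prime of `x`.
-/

set_option autoImplicit false
universe u

namespace Groth.Agent.Lib.Helper24.FibCod

open AlgebraicGeometry CategoryTheory IsLocalRing Groth.Agent.Lib.helper17.FibreStalk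

/-- quotient by the extended maximal ideal, along an isomorphism of arrows of local rings. -/
theorem nonempty_quot_equiv_of_arrowIso {R S R' S' : CommRingCat.{u}} [IsLocalRing R]
    [IsLocalRing R'] (g : R ⟶ S) (g' : R' ⟶ S') (e : Arrow.mk g ≅ Arrow.mk g') :
    Nonempty ((S ⧸ (maximalIdeal R).map g.hom) ≃+* (S' ⧸ (maximalIdeal R').map g'.hom)) := by
  let α : R ≃+* R' := (Arrow.leftFunc.mapIso e).commRingCatIsoToRingEquiv
  let β : S ≃+* S' := (Arrow.rightFunc.mapIso e).commRingCatIsoToRingEquiv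
  have hcomm : ∀ r : R, β (g.hom r) = g'.hom (α r) := by
    intro r
    have hw : e.hom.left ≫ g' = g ≫ e.hom.right := e.hom.w
    exact (congrArg (fun φ => φ.hom r) hw).symm
  have h : ((maximalIdeal R).map g.hom).map (β : S →+* S') = (maximalIdeal R').map g'.hom := by
    rw [Ideal.map_map, ← map_ringEquiv_maximalIdeal α]
    change _ = Ideal.map g'.hom (Ideal.map (α : R →+* R') (maximalIdeal R))
    rw [Ideal.map_map]
    congr 1
    ext r
    exact hcomm r
  exact ⟨Ideal.quotientEquiv _ _ β h.symm⟩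

/-- **Chart lemma**: the fibre local ring in an affine chart. -/
theorem nonempty_fibRing_equiv_fibLocRing {X Y : Scheme.{u}} (f : X ⟶ Y) {V : Y.Opens}
    (hV : IsAffineOpen V) {U : X.Opens} (hU : IsAffineOpen U) (e : U ≤ f ⁻¹ᵁ V) (x : X)
    (hx : x ∈ U) :
    letI := (f.appLE V U e).hom.toAlgebra
    Nonempty (FibRing f x ≃+*
      EGA4.FibLocRing Γ(Y, V) Γ(X, U) (hU.primeIdealOf ⟨x, hx⟩).asIdeal) := by
  letI := (f.appLE V U e).hom.toAlgebra
  have hpq : (hV.primeIdealOf ⟨f x, e hx⟩).asIdeal =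
      (hU.primeIdealOf ⟨x, hx⟩).asIdeal.comap (f.appLE V U e).hom :=
    congr($(IsAffineOpen.comap_primeIdealOf_appLE V hV U hU e hx).1).symm
  obtain ⟨ε⟩ := nonempty_quot_equiv_of_arrowIso _ _
    (IsAffineOpen.arrowStalkMapIso f V hV U hU e hx)
  have hI : (maximalIdeal (Localization.AtPrime (hV.primeIdealOf ⟨f x, e hx⟩).asIdeal)).map
      (Localization.localRingHom (hV.primeIdealOf ⟨f x, e hx⟩).asIdeal
        (hU.primeIdealOf ⟨x, hx⟩).asIdeal (f.appLE V U e).hom hpq) =
      ((hU.primeIdealOf ⟨x, hx⟩).asIdeal.comap (algebraMap Γ(Y, V) Γ(X, U))).map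
        (algebraMap Γ(Y, V) (Localization.AtPrime (hU.primeIdealOf ⟨x, hx⟩).asIdeal)) := by
    have h1 : maximalIdeal (Localization.AtPrime (hV.primeIdealOf ⟨f x, e hx⟩).asIdeal) =
        (hV.primeIdealOf ⟨f x, e hx⟩).asIdeal.map (algebraMap Γ(Y, V) _) :=
      Localization.AtPrime.map_eq_maximalIdeal.symm
    rw [h1, Ideal.map_map]
    have h2 : (hU.primeIdealOf ⟨x, hx⟩).asIdeal.comap (algebraMap Γ(Y, V) Γ(X, U)) =
        (hV.primeIdealOf ⟨f x, e hx⟩).asIdeal := hpq.symm
    rw [h2]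
    congr 1
    ext a
    rw [RingHom.comp_apply, Localization.localRingHom_to_map]
    rfl
  exact ⟨ε.trans (Ideal.quotEquivOfEq hI)⟩

end Groth.Agent.Lib.Helper24.FibCod
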