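import Mathlib
import Groth.Prelude.Def_EGA4b
import Groth.Agent.Lib.Helper24.FibCod12
import Groth.Agent.Lib.Helper24.FibCod13
import Groth.Agent.Lib.Helper3.FlatLocus5
import Groth.Agent.Lib.Helper3.FlatDescI

/-!
# Codepth of fibre local rings (helper24), part 14: from rings to schemes

A property `P` of Noetherian local rings, invariant under isomorphism, such that for every flat
finitely presented algebra `A → B` the set of primes `Q` with `P (B_Q / p B_Q)` is open, defines an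
open locus `{x | f flat at x ∧ P (O_{X_{f(x)}, x})}` for every morphism locally of finite
presentation.
-/

set_option autoImplicit false
universe u

namespace Groth.Agent.Lib.Helper24.FibCod

open AlgebraicGeometry CategoryTheory IsLocalRing Groth.Agent.Lib.helper17.FibreStalk
  Groth.Agent.Lib.helper3.FlatLocus

attribute [local instance] Groth.Agent.Lib.helper26.SkFlat.isLocalRing_fibLocRing

/-- the fibre local ring of a finite type algebra is Noetherian. -/
theorem isNoetherianRing_fibLocRing (A B : Type u) [CommRing A] [CommRing B] [Algebra A B]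
    [Algebra.FiniteType A B] (q : Ideal B) [q.IsPrime] :
    IsNoetherianRing (EGA4.FibLocRing A B q) := by
  set p := q.comap (algebraMap A B) with hp
  haveI : q.LiesOver p := ⟨rfl⟩
  obtain ⟨𝔮, h𝔮, h𝔮q⟩ := Groth.Agent.Lib.Helper24.FibreRegular.exists_fiber_prime A B p q
  haveI := h𝔮
  obtain ⟨e⟩ := Groth.Agent.Lib.helper26.FibBC.nonempty_fibLocRingEquiv A B p 𝔮 q h𝔮q.symm
  haveI : Algebra.FiniteType p.ResidueField (p.Fiber B) := inferInstance
  haveI : IsNoetherianRing (p.Fiber B) := Algebra.FiniteType.isNoetherianRing p.ResidueField _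
  exact isNoetherianRing_of_ringEquiv _ e

/-- flatness of the ring of sections of an affine open all of whose points are flat. -/
theorem flat_sections_of_forall_flat_stalkMap {X Y : Scheme.{u}} (f : X ⟶ Y) {V : Y.Opens}
    (hV : IsAffineOpen V) {U : X.Opens} (hU : IsAffineOpen U) (e : U ≤ f ⁻¹ᵁ V)
    (h : ∀ x ∈ U, (f.stalkMap x).hom.Flat) :
    letI := (f.appLE V U e).hom.toAlgebra
    Module.Flat Γ(Y, V) Γ(X, U) := by
  letI := (f.appLE V U e).hom.toAlgebra
  refine Module.flat_of_isLocalized_maximal Γ(X, U) Γ(X, U) (fun P _ => Localization.AtPrime P)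
    (fun P _ => Algebra.linearMap _ _) ?_
  intro P hP
  have hyU : hU.fromSpec ⟨P, hP.isPrime⟩ ∈ U := by
    rw [← SetLike.mem_coe, ← hU.range_fromSpec]
    exact Set.mem_range_self _
  have hq' : hU.primeIdealOf ⟨hU.fromSpec ⟨P, hP.isPrime⟩, hyU⟩ = ⟨P, hP.isPrime⟩ :=
    hU.fromSpec.isOpenEmbedding.injective (hU.fromSpec_primeIdealOf ⟨_, hyU⟩)
  have h1 := (flat_stalkMap_iff f V hV U hU e hyU).mp (h _ hyU)
  rw [hq'] at h1
  exact h1

/-- **From rings to schemes.** -/
theorem isOpen_flat_and_fibre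
    (P : ∀ (R : Type u) [CommRing R] [IsLocalRing R], Prop)
    (hP : ∀ (R R' : Type u) [CommRing R] [CommRing R'] [IsLocalRing R] [IsLocalRing R']
      [IsNoetherianRing R] [IsNoetherianRing R'], (R ≃+* R') → P R → P R')
    (hring : ∀ (A B : Type u) [CommRing A] [CommRing B] [Algebra A B]
      [Algebra.FinitePresentation A B] [Module.Flat A B],
      IsOpen {Q : PrimeSpectrum B | P (EGA4.FibLocRing A B Q.asIdeal)})
    {X Y : Scheme.{u}} (f : X ⟶ Y) [LocallyOfFinitePresentation f] :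
    IsOpen {x : X | (f.stalkMap x).hom.Flat ∧
      P ((f.fiber (f.base x)).presheaf.stalk (f.asFiber x))} := by
  rw [isOpen_iff_forall_mem_open]
  rintro x ⟨hxflat, hxP⟩
  have hW : IsOpen {x : X | (f.stalkMap x).hom.Flat} :=
    Groth.Agent.Lib.helper3.FlatDesc.isOpen_flatLocus_of_locallyOfFinitePresentation f
  obtain ⟨_, ⟨V, hV : IsAffineOpen V, rfl⟩, hfxV, -⟩ :=
    Y.isBasis_affineOpens.exists_subset_of_mem_open (Set.mem_univ (f x)) isOpen_univ
  obtain ⟨_, ⟨U, hU : IsAffineOpen U, rfl⟩, hxU, hUVW⟩ :=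
    X.isBasis_affineOpens.exists_subset_of_mem_open
      (show x ∈ (f ⁻¹ᵁ V : Set X) ∩ {x : X | (f.stalkMap x).hom.Flat} from ⟨hfxV, hxflat⟩)
      ((f ⁻¹ᵁ V).isOpen.inter hW)
  have hUV : U ≤ f ⁻¹ᵁ V := fun y hy => (hUVW hy).1
  have hUW : ∀ y ∈ U, (f.stalkMap y).hom.Flat := fun y hy => (hUVW hy).2
  have hfp : (f.appLE V U hUV).hom.FinitePresentation := f.finitePresentation_appLE hV hU hUV
  letI := (f.appLE V U hUV).hom.toAlgebra
  haveI : Algebra.FinitePresentation Γ(Y, V) Γ(X, U) := hfp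
  haveI : Module.Flat Γ(Y, V) Γ(X, U) := flat_sections_of_forall_flat_stalkMap f hV hU hUV hUW
  have hopen := hring Γ(Y, V) Γ(X, U)
  -- the key equivalence at points of `U`
  have key : ∀ (y : X) (hy : y ∈ U),
      P ((f.fiber (f.base y)).presheaf.stalk (f.asFiber y)) ↔
        P (EGA4.FibLocRing Γ(Y, V) Γ(X, U) (hU.primeIdealOf ⟨y, hy⟩).asIdeal) := by
    intro y hy
    obtain ⟨e1⟩ := nonempty_asFiber_stalk_equiv f y
    obtain ⟨e2⟩ := nonempty_fibRing_equiv_fibLocRing f hV hU hUV y hy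
    haveI : IsNoetherianRing (EGA4.FibLocRing Γ(Y, V) Γ(X, U) (hU.primeIdealOf ⟨y, hy⟩).asIdeal) :=
      isNoetherianRing_fibLocRing _ _ _
    haveI : IsNoetherianRing ((f.fiber (f.base y)).presheaf.stalk (f.asFiber y)) :=
      isNoetherianRing_of_ringEquiv _ (e2.symm.trans e1)
    exact ⟨hP _ _ (e1.symm.trans e2), hP _ _ (e2.symm.trans e1)⟩
  set O : Set (PrimeSpectrum Γ(X, U)) :=
    {Q | P (EGA4.FibLocRing Γ(Y, V) Γ(X, U) Q.asIdeal)} with hO
  refine ⟨hU.fromSpec '' O, ?_, hU.fromSpec.isOpenEmbedding.isOpenMap _ hopen, ?_⟩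
  · rintro _ ⟨q, hq, rfl⟩
    have hyU : hU.fromSpec q ∈ U := by
      rw [← SetLike.mem_coe, ← hU.range_fromSpec]
      exact Set.mem_range_self q
    have hq' : hU.primeIdealOf ⟨hU.fromSpec q, hyU⟩ = q :=
      hU.fromSpec.isOpenEmbedding.injective (hU.fromSpec_primeIdealOf ⟨hU.fromSpec q, hyU⟩)
    refine ⟨hUW _ hyU, (key _ hyU).mpr ?_⟩
    rw [hq']
    exact hq
  · refine ⟨hU.primeIdealOf ⟨x, hxU⟩, (key x hxU).mp hxP, hU.fromSpec_primeIdealOf ⟨x, hxU⟩⟩

end Groth.Agent.Lib.Helper24.FibCod
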