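import Mathlib
import Groth.Prelude.Def_EGA4b
import Groth.Agent.Lib.Helper26.SkFlat1
import Groth.Agent.Lib.Helper26.DepthCR2
import Groth.Agent.Lib.Helper24.FibCod14

/-!
# Fibre stalks of modules (helper24), part 1: base change models

For `A → B`, a prime `q` of `B` and a `B`-module `M`, the fibre stalk `M_q / p M_q`
(`EGA4.FibLocMod A B q M`) is the base change of `M` along `B → B_q / p B_q`
(`EGA4.FibLocRing A B q`).  Any other base change model `(R, T)` with `R ≃ₐ[B] B_q / p B_q` has the
same depth and support dimension.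
-/

set_option autoImplicit false
universe u

namespace Groth.Agent.Lib.Helper24.FibMd

open TensorProduct LocCoh IsLocalRing

attribute [local instance] Groth.Agent.Lib.helper26.SkFlat.isLocalRing_fibLocRing

section mkQ

variable {S : Type u} [CommRing S] (I : Ideal S) (N : Type u) [AddCommGroup N] [Module S N]

/-- `N → N / I N` is the base change along `S → S / I`. -/
theorem isBaseChange_mkQ : IsBaseChange (S ⧸ I) ((I • (⊤ : Submodule S N)).mkQ) := by
  let e₀ := TensorProduct.quotTensorEquivQuotSMul N I
  let e : (S ⧸ I) ⊗[S] N ≃ₗ[S ⧸ I] N ⧸ (I • (⊤ : Submodule S N)) :=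
    LinearEquiv.extendScalarsOfSurjective (R := S) (S := S ⧸ I) Ideal.Quotient.mk_surjective e₀
  refine IsBaseChange.of_equiv e (fun n => ?_)
  change e₀ ((1 : S ⧸ I) ⊗ₜ[S] n) = _
  have h1 : (1 : S ⧸ I) = Ideal.Quotient.mk I 1 := rfl
  rw [h1, TensorProduct.quotTensorEquivQuotSMul_mk_tmul, one_smul]
  rfl

end mkQ

section standard

variable (A B : Type u) [CommRing A] [CommRing B] [Algebra A B] (q : Ideal B) [q.IsPrime]
  (M : Type u) [AddCommGroup M] [Module B M]

/-- the canonical map `M → M_q / p M_q`. -/
noncomputable def fibLocModMap : M →ₗ[B] EGA4.FibLocMod A B q M :=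
  ((((q.comap (algebraMap A B)).map (algebraMap A (Localization.AtPrime q)) •
      (⊤ : Submodule (Localization.AtPrime q) (LocalizedModule q.primeCompl M))).mkQ).restrictScalars
        B).comp (LocalizedModule.mkLinearMap q.primeCompl M)

/-- the fibre stalk is the base change of `M` along `B → B_q / p B_q`. -/
theorem isBaseChange_fibLocModMap :
    IsBaseChange (EGA4.FibLocRing A B q) (fibLocModMap A B q M) :=
  IsBaseChange.comp
    (IsLocalizedModule.isBaseChange q.primeCompl (Localization.AtPrime q)
      (LocalizedModule.mkLinearMap q.primeCompl M))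
    (isBaseChange_mkQ _ _)

end standard

section transport

variable {B : Type u} [CommRing B] {R R' : Type u} [CommRing R] [CommRing R'] [IsLocalRing R]
  [IsLocalRing R'] [IsNoetherianRing R] [IsNoetherianRing R'] [Algebra B R] [Algebra B R']
  (σ : R ≃ₐ[B] R')
  {M T T' : Type u} [AddCommGroup M] [Module B M] [Module.Finite B M]
  [AddCommGroup T] [Module B T] [Module R T] [IsScalarTower B R T]
  [AddCommGroup T'] [Module B T'] [Module R' T'] [IsScalarTower B R' T']
  {g : M →ₗ[B] T} (hg : IsBaseChange R g) {g' : M →ₗ[B] T'} (hg' : IsBaseChange R' g')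

include σ hg hg' in
/-- **Uniqueness of base change models**: two base changes of `M` along isomorphic `B`-algebras
have the same depth and support dimension. -/
theorem depth_supportDim_eq_of_isBaseChange :
    depth R T = depth R' T' ∧ Module.supportDim R T = Module.supportDim R' T' := by
  letI algRR' : Algebra R R' := σ.toRingEquiv.toRingHom.toAlgebra
  letI modRT' : Module R T' := Module.compHom T' σ.toRingEquiv.toRingHom
  haveI : IsScalarTower R R' T' := IsScalarTower.of_algebraMap_smul fun r x => rfl
  haveI : IsScalarTower B R R' := IsScalarTower.of_algebraMap_eq fun b => (σ.commutes b).symm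
  haveI : IsScalarTower B R T' := by
    refine IsScalarTower.of_algebraMap_smul fun b x => ?_
    change σ (algebraMap B R b) • x = b • x
    rw [σ.commutes, algebraMap_smul]
  have hsurj : Function.Surjective (algebraMap R R') := σ.surjective
  haveI : IsLocalHom (algebraMap R R') := IsLocalHom.of_surjective _ hsurj
  -- the `R`-linear equivalence `T ≃ T'`
  let σl : R ≃ₗ[R] R' :=
    { σ.toRingEquiv.toAddEquiv with
      map_smul' := fun r x => by
        change σ (r * x) = σ r * σ x
        exact map_mul σ r x }
  let c : R ⊗[B] M ≃ₗ[R] R' ⊗[B] M :=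
    TensorProduct.AlgebraTensorModule.congr σl (LinearEquiv.refl B M)
  let E : T ≃ₗ[R] T' := hg.equiv.symm ≪≫ₗ c ≪≫ₗ (hg'.equiv.restrictScalars R)
  haveI : Module.Finite R T := Module.Finite.equiv hg.equiv
  haveI : Module.Finite R' T' := Module.Finite.equiv hg'.equiv
  haveI : Module.Finite R T' := Module.Finite.equiv E
  constructor
  · rw [← Groth.Agent.Lib.helper26.Depth.depth_eq_of_isLocalHom (A := R) (B := R') T']
    exact Groth.Agent.Lib.helper26.Depth.idealDepth_congr E
  · rw [← Groth.Agent.Lib.helper26.SkFlat.supportDim_eq_of_surjective hsurj T']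
    exact Module.supportDim_eq_of_equiv E

end transport

section recognition

variable (A B : Type u) [CommRing A] [CommRing B] [Algebra A B] (q : Ideal B) [q.IsPrime]
  (S₁ : Type u) [CommRing S₁] [Algebra B S₁] [IsLocalization.AtPrime S₁ q]
  (R : Type u) [CommRing R] [Algebra B R] [Algebra S₁ R] [IsScalarTower B S₁ R]

/-- **Recognition of the fibre local ring**: a quotient of (a model of) `B_q` by `p B_q` is
`B`-isomorphic to `B_q / p B_q`. -/
theorem nonempty_algEquiv_fibLocRing (hsurj : Function.Surjective (algebraMap S₁ R))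
    (hker : RingHom.ker (algebraMap S₁ R) =
      ((q.comap (algebraMap A B)).map (algebraMap A B)).map (algebraMap B S₁)) :
    Nonempty (R ≃ₐ[B] EGA4.FibLocRing A B q) := by
  let f : S₁ →ₐ[B] R := IsScalarTower.toAlgHom B S₁ R
  have hf : Function.Surjective f := hsurj
  let e₀ : (S₁ ⧸ RingHom.ker f) ≃ₐ[B] R := Ideal.quotientKerAlgEquivOfSurjective hf
  let e₁ : S₁ ≃ₐ[B] Localization.AtPrime q :=
    IsLocalization.algEquiv q.primeCompl S₁ (Localization.AtPrime q)
  have hI : (q.comap (algebraMap A B)).map (algebraMap A (Localization.AtPrime q)) =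
      (RingHom.ker f).map (e₁ : S₁ →+* Localization.AtPrime q) := by
    have hkf : RingHom.ker f = RingHom.ker (algebraMap S₁ R) := rfl
    rw [hkf, hker, Ideal.map_map, Ideal.map_map]
    congr 1
    ext a
    simp only [RingHom.comp_apply]
    rw [IsScalarTower.algebraMap_apply A B (Localization.AtPrime q)]
    exact (e₁.commutes (algebraMap A B a)).symm
  let e₂ : (S₁ ⧸ RingHom.ker f) ≃ₐ[B] EGA4.FibLocRing A B q :=
    Ideal.quotientEquivAlg (RingHom.ker f) _ e₁ hI
  exact ⟨e₀.symm.trans e₂⟩

end recognition

section chart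

variable (A B : Type u) [CommRing A] [CommRing B] [Algebra A B] [Algebra.FiniteType A B]
  (q : Ideal B) [q.IsPrime] (M : Type u) [AddCommGroup M] [Module B M] [Module.Finite B M]
  (S₁ : Type u) [CommRing S₁] [Algebra B S₁] [IsLocalization.AtPrime S₁ q]
  (N : Type u) [AddCommGroup N] [Module B N] [Module S₁ N] [IsScalarTower B S₁ N]
  (g₁ : M →ₗ[B] N) [IsLocalizedModule q.primeCompl g₁]
  (R : Type u) [CommRing R] [IsLocalRing R] [Algebra S₁ R]
  (T : Type u) [AddCommGroup T] [Module S₁ T] [Module R T] [IsScalarTower S₁ R T]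
  (ψ : N →ₗ[S₁] T)

include g₁ in
/-- **Abstract chart theorem**: `S₁` a model of `B_q`, `N` a model of `M_q`, `R` a quotient of `S₁`
by `p S₁`, and `T` the base change of `N` to `R`.  Then `(R, T)` has the same depth and support
dimension as the fibre stalk `(B_q / p B_q, M_q / p M_q)`. -/
theorem depth_supportDim_of_chart (hψ : IsBaseChange R ψ)
    (hsurj : Function.Surjective (algebraMap S₁ R))
    (hker : RingHom.ker (algebraMap S₁ R) =
      ((q.comap (algebraMap A B)).map (algebraMap A B)).map (algebraMap B S₁)) :
    depth R T = depth (EGA4.FibLocRing A B q) (EGA4.FibLocMod A B q M) ∧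
    Module.supportDim R T =
      Module.supportDim (EGA4.FibLocRing A B q) (EGA4.FibLocMod A B q M) := by
  letI algBR : Algebra B R := ((algebraMap S₁ R).comp (algebraMap B S₁)).toAlgebra
  haveI : IsScalarTower B S₁ R := IsScalarTower.of_algebraMap_eq fun _ => rfl
  letI modBT : Module B T := Module.compHom T (algebraMap B R)
  haveI : IsScalarTower B R T := IsScalarTower.of_algebraMap_smul fun _ _ => rfl
  haveI : IsScalarTower B S₁ T := by
    refine IsScalarTower.of_algebraMap_smul fun b x => ?_
    change algebraMap B S₁ b • x = (algebraMap S₁ R (algebraMap B S₁ b)) • x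
    exact (algebraMap_smul R (algebraMap B S₁ b) x).symm
  obtain ⟨σ⟩ := nonempty_algEquiv_fibLocRing A B q S₁ R hsurj hker
  haveI : IsNoetherianRing (EGA4.FibLocRing A B q) :=
    Groth.Agent.Lib.Helper24.FibCod.isNoetherianRing_fibLocRing A B q
  haveI : IsNoetherianRing R := isNoetherianRing_of_ringEquiv _ σ.symm.toRingEquiv
  have hg : IsBaseChange R ((ψ.restrictScalars B).comp g₁) :=
    IsBaseChange.comp (IsLocalizedModule.isBaseChange q.primeCompl S₁ g₁) hψ
  exact depth_supportDim_eq_of_isBaseChange σ hg (isBaseChange_fibLocModMap A B q M)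

end chart

end Groth.Agent.Lib.Helper24.FibMd
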