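import Mathlib
import Groth.Prelude.Def_EGA4b
import Groth.Agent.Lib.Helper24.FibMd1
import Groth.Agent.Lib.Helper17.StalkPullback
import Groth.Agent.Lib.Helper17.FibreStalk

/-!
# Fibre stalks of modules (helper24), part 2: the geometric chart

For `f : X ⟶ Y`, a quasi-coherent `O_X`-module `F`, affine opens `U ⊆ f⁻¹ V` and a point `z` of the
fibre `X_s` whose image `x` in `X` lies in `U`: the stalk at `z` of the restriction of `F` to the
fibre, over the local ring of the fibre at `z`, has the same depth and support dimension as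
`M_q / p M_q` over `B_q / p B_q`, where `A = Γ(Y, V)`, `B = Γ(X, U)`, `M = Γ(F, U)` and `q` is the
prime of `x`.
-/

set_option autoImplicit false
universe u

namespace Groth.Agent.Lib.Helper24.FibMd

open AlgebraicGeometry CategoryTheory IsLocalRing LocCoh
  Groth.Agent.Lib.helper17.FibreStalk Groth.Agent.Lib.helper17.StalkPullback
  Groth.Agent.Lib.helper16.CohStalk Groth.Agent.Lib.helper17.FlatOver1

attribute [local instance] Groth.Agent.Lib.helper26.SkFlat.isLocalRing_fibLocRing

/-- **Geometric chart theorem**. -/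
theorem depth_supportDim_fibre_stalk {X Y : Scheme.{u}} (f : X ⟶ Y) (F : X.Modules)
    [F.IsQuasicoherent] {V : Y.Opens} (hV : IsAffineOpen V) {U : X.Opens} (hU : IsAffineOpen U)
    (e : U ≤ f ⁻¹ᵁ V) (hft : (f.appLE V U e).hom.FiniteType)
    (hfin : Module.Finite Γ(X, U) Γ(F, U))
    (s : Y) (z : f.fiber s) (hx : f.fiberι s z ∈ U) :
    letI := (f.appLE V U e).hom.toAlgebra
    depth ((f.fiber s).presheaf.stalk z)
        (((Scheme.Modules.pullback (f.fiberι s)).obj F).presheaf.stalk z) =
      depth (EGA4.FibLocRing Γ(Y, V) Γ(X, U) (hU.primeIdealOf ⟨f.fiberι s z, hx⟩).asIdeal)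
        (EGA4.FibLocMod Γ(Y, V) Γ(X, U) (hU.primeIdealOf ⟨f.fiberι s z, hx⟩).asIdeal Γ(F, U)) ∧
    Module.supportDim ((f.fiber s).presheaf.stalk z)
        (((Scheme.Modules.pullback (f.fiberι s)).obj F).presheaf.stalk z) =
      Module.supportDim
        (EGA4.FibLocRing Γ(Y, V) Γ(X, U) (hU.primeIdealOf ⟨f.fiberι s z, hx⟩).asIdeal)
        (EGA4.FibLocMod Γ(Y, V) Γ(X, U) (hU.primeIdealOf ⟨f.fiberι s z, hx⟩).asIdeal Γ(F, U)) := by
  letI algAB := (f.appLE V U e).hom.toAlgebra
  haveI : Algebra.FiniteType Γ(Y, V) Γ(X, U) := hft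
  set ι := f.fiberι s with hι
  set x := ι z with hxdef
  set q := (hU.primeIdealOf ⟨x, hx⟩).asIdeal with hq
  -- the model of `B_q`
  letI algBS : Algebra Γ(X, U) (X.presheaf.stalk x) :=
    TopCat.Presheaf.algebra_section_stalk X.presheaf (⟨x, hx⟩ : U)
  haveI : IsLocalization.AtPrime (X.presheaf.stalk x) q := hU.isLocalization_stalk ⟨x, hx⟩
  -- the model of `M_q`
  letI modBN : Module Γ(X, U) (F.presheaf.stalk x) := modStalk F x hx
  haveI : IsScalarTower Γ(X, U) (X.presheaf.stalk x) (F.presheaf.stalk x) :=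
    isScalarTower_stalk F x hx
  haveI : IsLocalizedModule q.primeCompl (germLin F x hx) := isLocalizedModule_stalk F hU x hx
  -- the fibre
  letI algSR : Algebra (X.presheaf.stalk x) ((f.fiber s).presheaf.stalk z) :=
    (ι.stalkMap z).hom.toAlgebra
  letI modST : Module (X.presheaf.stalk x)
      (((Scheme.Modules.pullback ι).obj F).presheaf.stalk z) :=
    FlatMod.moduleStalkOver ι ((Scheme.Modules.pullback ι).obj F) z
  haveI : IsScalarTower (X.presheaf.stalk x) ((f.fiber s).presheaf.stalk z)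
      (((Scheme.Modules.pullback ι).obj F).presheaf.stalk z) :=
    isScalarTower_moduleStalkOver ι ((Scheme.Modules.pullback ι).obj F) z
  obtain ⟨ψ, hψ⟩ := exists_isBaseChange_stalk_pullback ι F z
  have hsurj : Function.Surjective
      (algebraMap (X.presheaf.stalk x) ((f.fiber s).presheaf.stalk z)) :=
    ι.stalkMap_surjective z
  have hker : RingHom.ker (algebraMap (X.presheaf.stalk x) ((f.fiber s).presheaf.stalk z)) =
      ((q.comap (algebraMap Γ(Y, V) Γ(X, U))).map (algebraMap Γ(Y, V) Γ(X, U))).map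
        (algebraMap Γ(X, U) (X.presheaf.stalk x)) := by
    have h1 : RingHom.ker (algebraMap (X.presheaf.stalk x) ((f.fiber s).presheaf.stalk z)) =
        (maximalIdeal (Y.presheaf.stalk (f x))).map (f.stalkMap x).hom :=
      ker_fiberι_stalkMap f s z
    rw [h1]
    have hpq : (hV.primeIdealOf ⟨f x, e hx⟩).asIdeal = q.comap (f.appLE V U e).hom :=
      congr($(IsAffineOpen.comap_primeIdealOf_appLE V hV U hU e hx).1).symm
    letI algAO : Algebra Γ(Y, V) (Y.presheaf.stalk (f x)) :=
      TopCat.Presheaf.algebra_section_stalk Y.presheaf (⟨f x, e hx⟩ : V)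
    haveI : IsLocalization.AtPrime (Y.presheaf.stalk (f x))
        (hV.primeIdealOf ⟨f x, e hx⟩).asIdeal := hV.isLocalization_stalk ⟨f x, e hx⟩
    have h2 : maximalIdeal (Y.presheaf.stalk (f x)) =
        (hV.primeIdealOf ⟨f x, e hx⟩).asIdeal.map (algebraMap Γ(Y, V) (Y.presheaf.stalk (f x))) :=
      (IsLocalization.AtPrime.map_eq_maximalIdeal _ _).symm
    rw [h2, Ideal.map_map, Ideal.map_map, hpq]
    congr 1
    ext a
    simp only [RingHom.comp_apply]
    exact (germ_appLE_apply f e x hx a).symm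
  exact depth_supportDim_of_chart Γ(Y, V) Γ(X, U) q Γ(F, U) (X.presheaf.stalk x)
    (F.presheaf.stalk x) (germLin F x hx) ((f.fiber s).presheaf.stalk z)
    (((Scheme.Modules.pullback ι).obj F).presheaf.stalk z) ψ hψ hsurj hker

end Groth.Agent.Lib.Helper24.FibMd
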