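import Mathlib
import Groth.Prelude.Def_EGA4b
import Groth.Agent.Lib.Helper24.FibMd1
import Groth.Agent.Lib.Helper24.FibCod7
import Groth.Agent.Lib.Helper18.PullbackStalk

/-!
# Fibre stalks of modules (helper24), part 3: openness of the codepth `≤ k` locus over a
Noetherian base, for a module with full support (EGA IV 12.1.1 (i) for modules)

`A` Noetherian, `P = A[x_1..x_N] → C` surjective, `M` a finite `C`-module flat over `A` with
`Supp M = Spec C`.  The set of primes `Q` of `C` such that the fibre stalk `M_Q / p M_Q` has codepth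
`≤ k` is open.
-/

set_option autoImplicit false
universe u

namespace Groth.Agent.Lib.Helper24.FibMd

open Groth.Agent.Lib.helper3.DimIneq Groth.Agent.Lib.helper3.FTField
  Groth.Agent.Lib.helper3.FibreParam Groth.Agent.Lib.helper3.PdSemi
  Function TensorProduct LocCoh IsLocalRing CategoryTheory
  Groth.Agent.Lib.helper23.DRingPC Groth.Agent.Lib.Helper24.FibCod

attribute [local instance] Groth.Agent.Lib.helper26.SkFlat.isLocalRing_fibLocRing

section support

variable (A C : Type u) [CommRing A] [CommRing C] [Algebra A C] (Q : Ideal C) [Q.IsPrime]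
  (M : Type u) [AddCommGroup M] [Module C M] [Module.Finite C M]

/-- for a finite module with full support the fibre stalk has full support. -/
theorem supportDim_fibLocMod_of_support_eq_univ (hsupp : Module.support C M = Set.univ) :
    Module.supportDim (EGA4.FibLocRing A C Q) (EGA4.FibLocMod A C Q M) =
      ringKrullDim (EGA4.FibLocRing A C Q) := by
  have hbc := isBaseChange_fibLocModMap A C Q M
  have hs : Module.support (EGA4.FibLocRing A C Q) (EGA4.FibLocMod A C Q M) = Set.univ := by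
    rw [← hbc.equiv.support_eq]
    ext p'
    simp only [Set.mem_univ, iff_true]
    rw [Groth.Agent.Lib.Helper18.PullbackStalk.mem_support_baseChange_iff, hsupp]
    exact Set.mem_univ _
  rw [Module.supportDim, hs]
  exact Order.krullDim_eq_of_orderIso OrderIso.Set.univ

end support

variable (A : Type u) [CommRing A] [IsNoetherianRing A] (N : ℕ) {C : Type u} [CommRing C]
  [Algebra A C] [Algebra (MvPolynomial (Fin N) A) C] [IsScalarTower A (MvPolynomial (Fin N) A) C]
  (hs : Surjective (algebraMap (MvPolynomial (Fin N) A) C))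
  (M : Type u) [AddCommGroup M] [Module C M] [Module (MvPolynomial (Fin N) A) M] [Module A M]
  [IsScalarTower (MvPolynomial (Fin N) A) C M] [IsScalarTower A C M]
  [IsScalarTower A (MvPolynomial (Fin N) A) M] [Module.Finite C M] [Module.Flat A M]

include hs in
/-- **Pointwise dictionary for modules**. -/
theorem pdlt_iff_mod (hsupp : Module.support C M = Set.univ) (Q : PrimeSpectrum C) (t : ℕ) :
    HasProjectiveDimensionLT
      (ModuleCat.of (Fp A (PrimeSpectrum.comap (algebraMap (MvPolynomial (Fin N) A) C) Q))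
        ((Fp A (PrimeSpectrum.comap (algebraMap (MvPolynomial (Fin N) A) C) Q))
          ⊗[MvPolynomial (Fin N) A] M)) t ↔
      (((N - tdN A Q.asIdeal : ℕ) : ℕ∞) <
        (t : ℕ∞) + depth (EGA4.FibLocRing A C Q.asIdeal) (EGA4.FibLocMod A C Q.asIdeal M)) := by
  set 𝔔 := PrimeSpectrum.comap (algebraMap (MvPolynomial (Fin N) A) C) Q with h𝔔
  have h𝔔' : 𝔔.asIdeal = Q.asIdeal.comap (algebraMap (MvPolynomial (Fin N) A) C) := rfl
  haveI : IsNoetherianRing C :=
    isNoetherianRing_of_surjective (MvPolynomial (Fin N) A) C (algebraMap _ C) hs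
  haveI : Module.Finite (MvPolynomial (Fin N) A) C :=
    Module.Finite.of_surjective (Algebra.linearMap (MvPolynomial (Fin N) A) C) hs
  haveI : Module.Finite (MvPolynomial (Fin N) A) M := Module.Finite.trans C M
  haveI hreg : IsRegularLocalRing (Fp A 𝔔) := isRegularLocalRing_fibLocRing_mvPolynomial A N 𝔔.asIdeal
  have hdim := dim_fibLocRing_mvPolynomial A N 𝔔.asIdeal
  have htd : tdN A 𝔔.asIdeal = tdN A Q.asIdeal := tdN_comap_of_surjective A hs Q.asIdeal
  have htdle : tdN A 𝔔.asIdeal ≤ N := tdN_le_card (AlgHom.id A _) (fun x => ⟨x, rfl⟩) 𝔔.asIdeal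
  have hh : ringKrullDim (Fp A 𝔔) = (((N - tdN A Q.asIdeal : ℕ) : ℕ∞) : WithBot ℕ∞) := by
    obtain ⟨d, hd⟩ := exists_nat_dim_fibLocRing A 𝔔.asIdeal
    have h1 : ringKrullDim (Fp A 𝔔) = ((d : ℕ) : WithBot ℕ∞) := hd
    rw [hd] at hdim
    have h2 : d + tdN A 𝔔.asIdeal = N := by exact_mod_cast hdim
    rw [h1, ← htd]
    have : d = N - tdN A 𝔔.asIdeal := by omega
    rw [this]
    rfl
  -- not subsingleton
  have hns : ¬ Subsingleton ((Fp A 𝔔) ⊗[MvPolynomial (Fin N) A] M) := by
    rw [subsingleton_fibre_iff (A := A) 𝔔 M, not_not, Module.mem_support_iff_of_finite]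
    intro x hx
    rw [h𝔔', Ideal.mem_comap]
    have hQs : Q ∈ Module.support C M := by rw [hsupp]; exact Set.mem_univ _
    rw [Module.mem_support_iff_of_finite] at hQs
    apply hQs
    rw [Module.mem_annihilator]
    intro m
    rw [algebraMap_smul]
    exact Module.mem_annihilator.mp hx m
  rw [Groth.Agent.Lib.helper19.Falt.pd_lt_iff (Fp A 𝔔)
    ((Fp A 𝔔) ⊗[MvPolynomial (Fin N) A] M) _ hh t]
  have hd1 := depth_fibTensor A 𝔔 M
  have hd2 := (depth_supportDim_fibLocMod_comap A hs M Q.asIdeal).1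
  have hdepth : depth (Fp A 𝔔) ((Fp A 𝔔) ⊗[MvPolynomial (Fin N) A] M) =
      depth (EGA4.FibLocRing A C Q.asIdeal) (EGA4.FibLocMod A C Q.asIdeal M) := by
    rw [← hd2]
    exact hd1
  rw [hdepth]
  constructor
  · rintro (h | h)
    · exact absurd h hns
    · exact h
  · intro h
    exact Or.inr h

include hs in
/-- **EGA IV 12.1.1 (i) for modules, Noetherian ring form, full support**. -/
theorem isOpen_codepth_le_mod_of_surjective (hsupp : Module.support C M = Set.univ) (k : ℕ) :
    IsOpen {Q : PrimeSpectrum C |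
      Module.supportDim (EGA4.FibLocRing A C Q.asIdeal) (EGA4.FibLocMod A C Q.asIdeal M) ≤
      ((depth (EGA4.FibLocRing A C Q.asIdeal) (EGA4.FibLocMod A C Q.asIdeal M) : ℕ∞) :
        WithBot ℕ∞) + k} := by
  haveI : IsNoetherianRing C :=
    isNoetherianRing_of_surjective (MvPolynomial (Fin N) A) C (algebraMap _ C) hs
  haveI : Algebra.FiniteType A C := finiteType_of_surj A N hs
  haveI : Module.Finite (MvPolynomial (Fin N) A) C :=
    Module.Finite.of_surjective (Algebra.linearMap (MvPolynomial (Fin N) A) C) hs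
  haveI : Module.Finite (MvPolynomial (Fin N) A) M := Module.Finite.trans C M
  have hpc : PCMod (MvPolynomial (Fin N) A) (ModuleCat.of (MvPolynomial (Fin N) A) M) :=
    (forall_npc_single_iff_of_noetherian (MvPolynomial (Fin N) A) _).2 inferInstance
  have hsd : ∀ Q : PrimeSpectrum C,
      Module.supportDim (EGA4.FibLocRing A C Q.asIdeal) (EGA4.FibLocMod A C Q.asIdeal M) =
        ringKrullDim (EGA4.FibLocRing A C Q.asIdeal) :=
    fun Q => supportDim_fibLocMod_of_support_eq_univ A C Q.asIdeal M hsupp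
  rw [isOpen_iff_forall_mem_open]
  intro Q₀ hQ₀
  obtain ⟨d₀, hd₀⟩ := exists_nat_dim_fibLocRing A Q₀.asIdeal
  have hle := dim_add_tdN_le_card A N hs Q₀.asIdeal
  rw [hd₀] at hle
  have hle' : d₀ + tdN A Q₀.asIdeal ≤ N := by exact_mod_cast hle
  set e₀ := d₀ + tdN A Q₀.asIdeal with he₀
  have H : ∀ q : Ideal C, ∀ _ : q.IsPrime, q ≤ Q₀.asIdeal →
      q.comap (algebraMap A C) = Q₀.asIdeal.comap (algebraMap A C) → tdN A q ≤ e₀ := by
    rw [← dim_fibLocRing_add_tdN_le_iff, hd₀]
    exact_mod_cast le_rfl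
  obtain ⟨r, hr, Hr⟩ := exists_notMem_forall_tdN_le (A := A) Q₀.asIdeal e₀ H
  set t : ℕ := k + (N - e₀) + 1 with ht
  have hopen := isOpen_pdlt (A := A) (B := MvPolynomial (Fin N) A) t M hpc
  have hcont := PrimeSpectrum.continuous_comap (algebraMap (MvPolynomial (Fin N) A) C)
  refine ⟨(PrimeSpectrum.basicOpen r : Set (PrimeSpectrum C)) ∩
    (PrimeSpectrum.comap (algebraMap (MvPolynomial (Fin N) A) C)) ⁻¹'
      {P | HasProjectiveDimensionLT (ModuleCat.of (Fp A P) ((Fp A P) ⊗[MvPolynomial (Fin N) A] M)) t},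
    ?_, (PrimeSpectrum.basicOpen r).isOpen.inter (hopen.preimage hcont), ⟨hr, ?_⟩⟩
  · rintro Q ⟨hrQ, hQ⟩
    have hrQ' : r ∉ Q.asIdeal := hrQ
    have hQ' := (pdlt_iff_mod A N hs M hsupp Q t).1 hQ
    simp only [Set.mem_setOf_eq]
    rw [hsd Q]
    obtain ⟨d, hd⟩ := exists_nat_dim_fibLocRing A Q.asIdeal
    have h1 : ringKrullDim (EGA4.FibLocRing A C Q.asIdeal) + ((tdN A Q.asIdeal : ℕ) : WithBot ℕ∞) ≤
        ((e₀ : ℕ) : WithBot ℕ∞) := by
      rw [dim_fibLocRing_add_tdN_le_iff]
      intro q hq hqQ _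
      haveI := hq
      exact Hr q (fun hrq => hrQ' (hqQ hrq))
    rw [hd] at h1 ⊢
    have h1' : d + tdN A Q.asIdeal ≤ e₀ := by exact_mod_cast h1
    rcases eq_or_ne (depth (EGA4.FibLocRing A C Q.asIdeal) (EGA4.FibLocMod A C Q.asIdeal M)) ⊤
      with htop | hne
    · rw [htop]
      exact le_of_le_of_eq le_top (by rfl)
    · obtain ⟨δ, hδ⟩ := ENat.ne_top_iff_exists.mp hne
      rw [← hδ] at hQ' ⊢
      have h2 : N - tdN A Q.asIdeal < t + δ := by exact_mod_cast hQ'
      have h3 : d ≤ δ + k := by omega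
      exact_mod_cast h3
  · show HasProjectiveDimensionLT _ t
    rw [pdlt_iff_mod A N hs M hsupp Q₀ t]
    simp only [Set.mem_setOf_eq] at hQ₀
    rw [hsd Q₀, hd₀] at hQ₀
    rcases eq_or_ne (depth (EGA4.FibLocRing A C Q₀.asIdeal) (EGA4.FibLocMod A C Q₀.asIdeal M)) ⊤
      with htop | hne
    · rw [htop, add_top]
      exact ENat.coe_lt_top _
    · obtain ⟨δ, hδ⟩ := ENat.ne_top_iff_exists.mp hne
      rw [← hδ] at hQ₀ ⊢
      have h2 : d₀ ≤ δ + k := by exact_mod_cast hQ₀
      have h3 : N - tdN A Q₀.asIdeal < t + δ := by omega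
      exact_mod_cast h3

end Groth.Agent.Lib.Helper24.FibMd
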