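import Mathlib
import Groth.Prelude.Def_EGA4b
import Groth.Agent.Lib.Helper24.FibMd3

/-!
# Fibre stalks of modules (helper24), part 4: openness of the codepth `≤ k` locus over a
Noetherian base (EGA IV 12.1.1 (i) for modules, Noetherian ring form)

`A` Noetherian, `B` an `A`-algebra of finite type, `M` a finite `B`-module flat over `A`.  The set
of primes `Q` of `B` such that the fibre stalk `M_Q / p M_Q` has codepth `≤ k` is open.
-/

set_option autoImplicit false
universe u

namespace Groth.Agent.Lib.Helper24.FibMd

open Function TensorProduct LocCoh IsLocalRing Groth.Agent.Lib.Helper24.FibCod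

attribute [local instance] Groth.Agent.Lib.helper26.SkFlat.isLocalRing_fibLocRing

/-- the codepth `≤ k` locus of the fibre stalks of a module. -/
def codepthLocus (A B : Type u) [CommRing A] [CommRing B] [Algebra A B] (M : Type u)
    [AddCommGroup M] [Module B M] (k : ℕ) : Set (PrimeSpectrum B) :=
  {Q | Module.supportDim (EGA4.FibLocRing A B Q.asIdeal) (EGA4.FibLocMod A B Q.asIdeal M) ≤
    ((depth (EGA4.FibLocRing A B Q.asIdeal) (EGA4.FibLocMod A B Q.asIdeal M) : ℕ∞) :
      WithBot ℕ∞) + k}

section reduction

variable (A : Type u) {B C : Type u} [CommRing A] [CommRing B] [CommRing C]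
  [IsNoetherianRing A] [IsNoetherianRing B] [Algebra A B] [Algebra A C] [Algebra B C]
  [IsScalarTower A B C] (hs : Surjective (algebraMap B C))
  (M : Type u) [AddCommGroup M] [Module C M] [Module B M] [Module A M] [IsScalarTower B C M]
  [IsScalarTower A C M] [IsScalarTower A B M] [Module.Finite C M] [Module.Flat A M]

omit [IsNoetherianRing A] [IsNoetherianRing B] [Algebra A C] [IsScalarTower A B C] [Module A M]
  [IsScalarTower A C M] [IsScalarTower A B M] [Module.Finite C M] [Module.Flat A M] in
/-- a fibre stalk over `B` which is nonzero lives on `Spec C`. -/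
theorem ker_le_of_nontrivial_fibLocMod (Q : Ideal B) [Q.IsPrime]
    (h : Nontrivial (EGA4.FibLocMod A B Q M)) : RingHom.ker (algebraMap B C) ≤ Q := by
  intro b hb
  by_contra hbQ
  -- `b` kills `M` and is a unit at `Q`
  have hkill : ∀ m : M, b • m = 0 := by
    intro m
    rw [← algebraMap_smul C b m, (RingHom.mem_ker).mp hb, zero_smul]
  have hsub : Subsingleton (LocalizedModule Q.primeCompl M) := by
    rw [LocalizedModule.subsingleton_iff]
    intro m
    exact ⟨b, hbQ, hkill m⟩
  haveI := hsub
  have : Subsingleton (EGA4.FibLocMod A B Q M) := inferInstance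
  exact not_subsingleton _ this

include hs in
/-- **Reduction along a surjection**. -/
theorem isOpen_codepthLocus_of_surjective (k : ℕ) (h : IsOpen (codepthLocus A C M k)) :
    IsOpen (codepthLocus A B M k) := by
  have hemb := PrimeSpectrum.isClosedEmbedding_comap_of_surjective C (algebraMap B C) hs
  have hset : (codepthLocus A B M k)ᶜ =
      PrimeSpectrum.comap (algebraMap B C) '' (codepthLocus A C M k)ᶜ := by
    ext Q
    simp only [Set.mem_compl_iff, Set.mem_image]
    constructor
    · intro hQ
      have hnt : Nontrivial (EGA4.FibLocMod A B Q.asIdeal M) := by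
        by_contra hcon
        rw [not_nontrivial_iff_subsingleton] at hcon
        apply hQ
        show Module.supportDim _ _ ≤ _
        rw [Module.supportDim_eq_bot_of_subsingleton]
        exact bot_le
      have hker := ker_le_of_nontrivial_fibLocMod (C := C) A M Q.asIdeal hnt
      obtain ⟨Q', hQ'⟩ : Q ∈ Set.range (PrimeSpectrum.comap (algebraMap B C)) := by
        rw [_root_.range_comap_of_surjective C (algebraMap B C) hs,
          PrimeSpectrum.mem_zeroLocus]
        exact hker
      refine ⟨Q', ?_, hQ'⟩
      intro hQ'mem
      apply hQ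
      subst hQ'
      have hinv := depth_supportDim_fibLocMod_comap A hs M Q'.asIdeal
      show Module.supportDim (EGA4.FibLocRing A B (Q'.asIdeal.comap (algebraMap B C)))
          (EGA4.FibLocMod A B (Q'.asIdeal.comap (algebraMap B C)) M) ≤
          ((depth (EGA4.FibLocRing A B (Q'.asIdeal.comap (algebraMap B C)))
            (EGA4.FibLocMod A B (Q'.asIdeal.comap (algebraMap B C)) M) : ℕ∞) : WithBot ℕ∞) + k
      have h1 : Module.supportDim (EGA4.FibLocRing A C Q'.asIdeal)
          (EGA4.FibLocMod A C Q'.asIdeal M) ≤
          ((depth (EGA4.FibLocRing A C Q'.asIdeal)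
            (EGA4.FibLocMod A C Q'.asIdeal M) : ℕ∞) : WithBot ℕ∞) + k := hQ'mem
      rw [hinv.1, hinv.2]
      exact h1
    · rintro ⟨Q', hQ', rfl⟩ hmem
      apply hQ'
      have hinv := depth_supportDim_fibLocMod_comap A hs M Q'.asIdeal
      show Module.supportDim _ _ ≤ _
      have h1 : Module.supportDim (EGA4.FibLocRing A B (Q'.asIdeal.comap (algebraMap B C)))
          (EGA4.FibLocMod A B (Q'.asIdeal.comap (algebraMap B C)) M) ≤
          ((depth (EGA4.FibLocRing A B (Q'.asIdeal.comap (algebraMap B C)))
            (EGA4.FibLocMod A B (Q'.asIdeal.comap (algebraMap B C)) M) : ℕ∞) : WithBot ℕ∞) + k :=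
        hmem
      rw [hinv.1, hinv.2] at h1
      exact h1
  rw [← isClosed_compl_iff, hset]
  exact hemb.isClosedMap _ h.isClosed_compl

end reduction

section main

variable (A B : Type u) [CommRing A] [IsNoetherianRing A] [CommRing B] [Algebra A B]
  [Algebra.FiniteType A B] (M : Type u) [AddCommGroup M] [Module B M] [Module A M]
  [IsScalarTower A B M] [Module.Finite B M] [Module.Flat A M]

/-- **EGA IV 12.1.1 (i) for modules, Noetherian ring form**. -/
theorem isOpen_codepthLocus_noeth (k : ℕ) : IsOpen (codepthLocus A B M k) := by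
  haveI : IsNoetherianRing B := Algebra.FiniteType.isNoetherianRing A B
  letI modCM : Module (B ⧸ Module.annihilator B M) M := Module.quotientAnnihilator
  haveI : IsScalarTower B (B ⧸ Module.annihilator B M) M :=
    IsScalarTower.of_algebraMap_smul fun b m => rfl
  haveI : IsScalarTower A (B ⧸ Module.annihilator B M) M := by
    refine IsScalarTower.of_algebraMap_smul fun a m => ?_
    have h1 : algebraMap A (B ⧸ Module.annihilator B M) a =
        algebraMap B (B ⧸ Module.annihilator B M) (algebraMap A B a) := rfl
    rw [h1, algebraMap_smul, algebraMap_smul]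
  have hs : Surjective (algebraMap B (B ⧸ Module.annihilator B M)) := Ideal.Quotient.mk_surjective
  haveI : Module.Finite (B ⧸ Module.annihilator B M) M :=
    Module.Finite.of_restrictScalars_finite B (B ⧸ Module.annihilator B M) M
  have hsupp : Module.support (B ⧸ Module.annihilator B M) M = Set.univ := by
    rw [Module.support_eq_zeroLocus]
    have hann : Module.annihilator (B ⧸ Module.annihilator B M) M = ⊥ := by
      rw [eq_bot_iff]
      intro x hx
      obtain ⟨b, rfl⟩ := Ideal.Quotient.mk_surjective x
      rw [Ideal.mem_bot, Ideal.Quotient.eq_zero_iff_mem, Module.mem_annihilator]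
      intro m
      exact Module.mem_annihilator.mp hx m
    rw [hann]
    exact PrimeSpectrum.zeroLocus_bot
  haveI : Algebra.FiniteType A (B ⧸ Module.annihilator B M) :=
    Algebra.FiniteType.of_surjective (Ideal.Quotient.mkₐ A (Module.annihilator B M))
      Ideal.Quotient.mk_surjective
  obtain ⟨N, f, hf⟩ := Algebra.FiniteType.iff_quotient_mvPolynomial''.mp
    (inferInstance : Algebra.FiniteType A (B ⧸ Module.annihilator B M))
  letI : Algebra (MvPolynomial (Fin N) A) (B ⧸ Module.annihilator B M) := f.toRingHom.toAlgebra
  haveI : IsScalarTower A (MvPolynomial (Fin N) A) (B ⧸ Module.annihilator B M) :=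
    IsScalarTower.of_algebraMap_eq (fun a => (f.commutes a).symm)
  letI : Module (MvPolynomial (Fin N) A) M :=
    Module.compHom M (algebraMap (MvPolynomial (Fin N) A) (B ⧸ Module.annihilator B M))
  haveI : IsScalarTower (MvPolynomial (Fin N) A) (B ⧸ Module.annihilator B M) M :=
    IsScalarTower.of_algebraMap_smul fun _ _ => rfl
  haveI : IsScalarTower A (MvPolynomial (Fin N) A) M := by
    refine IsScalarTower.of_algebraMap_smul fun a m => ?_
    change algebraMap (MvPolynomial (Fin N) A) (B ⧸ Module.annihilator B M)
      (algebraMap A (MvPolynomial (Fin N) A) a) • m = a • m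
    rw [← IsScalarTower.algebraMap_apply, algebraMap_smul]
  exact isOpen_codepthLocus_of_surjective A hs M k
    (isOpen_codepth_le_mod_of_surjective A N hf M hsupp k)

end main

end Groth.Agent.Lib.Helper24.FibMd
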