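import Mathlib
import Groth.Prelude.Def_EGA4b
import Groth.Agent.Lib.Helper24.FibMd1

/-!
# Fibre stalks of modules (helper24), part 5: the fibre stalk through the fibre ring

`S = κ(p) ⊗_A B` the fibre ring, `𝔮` a prime of `S` with contraction `q` to `B`, `M` a finite
`B`-module.  Then `(S_𝔮, (S ⊗_B M)_𝔮)` has the same depth and support dimension as the fibre stalk
`(B_q / p B_q, M_q / p M_q)`.
-/

set_option autoImplicit false
universe u

namespace Groth.Agent.Lib.Helper24.FibMd

open Algebra TensorProduct LocCoh IsLocalRing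

attribute [local instance] Groth.Agent.Lib.helper26.SkFlat.isLocalRing_fibLocRing
attribute [local instance] Algebra.TensorProduct.rightAlgebra

section fiberLoc

variable {R S : Type u} [CommRing R] [CommRing S] [Algebra R S] (p : Ideal R) [p.IsPrime]

/-- The localization of the fibre ring `p.Fiber S` at a prime is a quotient of a localization of `S`,
`S`-linearly (Mathlib's `Ideal.Fiber.algEquivAux₂`, keeping the `S`-algebra structure). -/
noncomputable def fiberLocAlgEquiv (q : Ideal (p.Fiber S)) [q.IsPrime] :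
    Localization.AtPrime q ≃ₐ[S]
      Localization.AtPrime (q.comap (includeRight : S →ₐ[R] p.Fiber S)) ⧸
        (p.map (algebraMap R S)).map
          (algebraMap S (Localization.AtPrime (q.comap (includeRight : S →ₐ[R] p.Fiber S)))) :=
  letI Sp := Localization (algebraMapSubmonoid S p.primeCompl)
  letI pS := p.map (algebraMap R S)
  letI SpS := S ⧸ pS
  letI r := q.comap (includeRight : S →ₐ[R] p.Fiber S)
  letI Sr := Localization.AtPrime r
  letI e₁ : p.Fiber S ≃ₐ[S] Sp ⧸ pS.map (algebraMap S Sp) := Ideal.Fiber.algEquivAux₁ p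
  letI q' : Ideal (Sp ⧸ pS.map (algebraMap S Sp)) := q.comap e₁.symm
  haveI : (q'.under SpS).LiesOver r := Ideal.under_liesOver_of_liesOver SpS q' (q.under S)
  haveI : algebraMapSubmonoid SpS r.primeCompl = (q'.under SpS).primeCompl :=
    Ideal.algebraMapSubmonoid_primeCompl_of_liesOver_surjective (q'.under SpS) r
      Ideal.Quotient.mk_surjective
  haveI : IsLocalization (algebraMapSubmonoid SpS r.primeCompl) (Localization.AtPrime q') := by
    convert IsLocalization.isLocalization_isLocalization_atPrime_isLocalization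
      (algebraMapSubmonoid SpS (algebraMapSubmonoid S p.primeCompl)) (Localization.AtPrime q') q'
  ((Localization.localAlgEquiv q' q e₁.symm rfl).symm).trans
    ((IsLocalization.algEquiv (algebraMapSubmonoid SpS r.primeCompl) (Localization.AtPrime q')
      (Sr ⧸ pS.map (algebraMap S Sr))).restrictScalars S)

end fiberLoc

section fibreRing

variable (A B : Type u) [CommRing A] [CommRing B] [Algebra A B] (p : Ideal A) [p.IsPrime]
  (𝔮 : Ideal (p.Fiber B)) [𝔮.IsPrime]

/-- the contraction of a prime of the fibre ring over `p` lies over `p`. -/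
theorem comap_comap_includeRight :
    (𝔮.comap (includeRight : B →ₐ[A] p.Fiber B)).comap (algebraMap A B) = p := by
  have h1 : p = 𝔮.comap (algebraMap A (p.Fiber B)) := Ideal.over_def 𝔮 p
  ext a
  rw [Ideal.mem_comap, Ideal.mem_comap, AlgHom.commutes]
  have h2 : a ∈ p ↔ a ∈ 𝔮.comap (algebraMap A (p.Fiber B)) := by rw [← h1]
  rw [h2, Ideal.mem_comap]

/-- the localization of the fibre ring at a prime is the fibre local ring, `B`-linearly. -/
noncomputable def fiberLocAlgEquivFibLocRing :
    Localization.AtPrime 𝔮 ≃ₐ[B]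
      EGA4.FibLocRing A B (𝔮.comap (includeRight : B →ₐ[A] p.Fiber B)) :=
  (fiberLocAlgEquiv p 𝔮).trans (Ideal.quotientEquivAlgOfEq B (by
    rw [comap_comap_includeRight A B p 𝔮, Ideal.map_map, ← IsScalarTower.algebraMap_eq]))

end fibreRing

section model

variable (A B : Type u) [CommRing A] [CommRing B] [Algebra A B] [Algebra.FiniteType A B]
  (p : Ideal A) [p.IsPrime] (𝔮 : Ideal (p.Fiber B)) [𝔮.IsPrime]
  (M : Type u) [AddCommGroup M] [Module B M] [Module.Finite B M]

/-- **The fibre stalk through the fibre ring.** -/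
theorem depth_supportDim_fiberRing_model :
    depth (Localization.AtPrime 𝔮) (LocalizedModule 𝔮.primeCompl (p.Fiber B ⊗[B] M)) =
      depth (EGA4.FibLocRing A B (𝔮.comap (includeRight : B →ₐ[A] p.Fiber B)))
        (EGA4.FibLocMod A B (𝔮.comap (includeRight : B →ₐ[A] p.Fiber B)) M) ∧
    Module.supportDim (Localization.AtPrime 𝔮)
        (LocalizedModule 𝔮.primeCompl (p.Fiber B ⊗[B] M)) =
      Module.supportDim (EGA4.FibLocRing A B (𝔮.comap (includeRight : B →ₐ[A] p.Fiber B)))
        (EGA4.FibLocMod A B (𝔮.comap (includeRight : B →ₐ[A] p.Fiber B)) M) := by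
  set q := 𝔮.comap (includeRight : B →ₐ[A] p.Fiber B) with hq
  let σ := fiberLocAlgEquivFibLocRing A B p 𝔮
  haveI : IsNoetherianRing (EGA4.FibLocRing A B q) :=
    Groth.Agent.Lib.Helper24.FibCod.isNoetherianRing_fibLocRing A B q
  haveI : IsNoetherianRing (Localization.AtPrime 𝔮) :=
    isNoetherianRing_of_ringEquiv _ σ.symm.toRingEquiv
  have hg : IsBaseChange (Localization.AtPrime 𝔮)
      (((LocalizedModule.mkLinearMap 𝔮.primeCompl (p.Fiber B ⊗[B] M)).restrictScalars B).comp
        (TensorProduct.mk B (p.Fiber B) M 1)) :=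
    IsBaseChange.comp (TensorProduct.isBaseChange B M (p.Fiber B))
      (IsLocalizedModule.isBaseChange 𝔮.primeCompl (Localization.AtPrime 𝔮)
        (LocalizedModule.mkLinearMap 𝔮.primeCompl (p.Fiber B ⊗[B] M)))
  exact depth_supportDim_eq_of_isBaseChange σ hg (isBaseChange_fibLocModMap A B q M)

end model

end Groth.Agent.Lib.Helper24.FibMd
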