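import Mathlib
import Groth.Prelude.Def_EGA4b
import Groth.Agent.Lib.Helper24.FibMd5
import Groth.Agent.Lib.Helper24.FibCod11
import Groth.Agent.Lib.Helper26.DepthLoc3
import Groth.Agent.Lib.Helper26.LocTrans
import Groth.Agent.Lib.Helper26.CM7

/-!
# Fibre stalks of modules (helper24), part 6: base change of the codepth of fibre stalks

`S → S'` a flat map of Noetherian rings whose localizations at `𝔮' ⊇ 𝔮` have the same codepth (e.g.
`S' = S ⊗_k k'`).  Then for every finite `S`-module `N` the modules `N_𝔮` and `(S' ⊗_S N)_𝔮'` have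
the same codepth.
-/

set_option autoImplicit false
universe u

namespace Groth.Agent.Lib.Helper24.FibMd

open Algebra TensorProduct LocCoh IsLocalRing

attribute [local instance] Groth.Agent.Lib.helper26.SkFlat.isLocalRing_fibLocRing

section flat

variable (S S' : Type u) [CommRing S] [CommRing S'] [IsNoetherianRing S] [IsNoetherianRing S']
  [Algebra S S'] [Module.Flat S S'] (𝔮' : Ideal S') [𝔮'.IsPrime]
  (N : Type u) [AddCommGroup N] [Module S N] [Module.Finite S N]

/-- **Codepth along a flat map with Cohen–Macaulay-like fibres.** -/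
theorem flat_codepth_eq
    (hring : ringKrullDim (Localization.AtPrime (𝔮'.comap (algebraMap S S'))) +
        ((depth (Localization.AtPrime 𝔮') (Localization.AtPrime 𝔮') : ℕ∞) : WithBot ℕ∞) =
      ringKrullDim (Localization.AtPrime 𝔮') +
        ((depth (Localization.AtPrime (𝔮'.comap (algebraMap S S')))
          (Localization.AtPrime (𝔮'.comap (algebraMap S S'))) : ℕ∞) : WithBot ℕ∞)) :
    Module.supportDim (Localization.AtPrime (𝔮'.comap (algebraMap S S')))
        (LocalizedModule (𝔮'.comap (algebraMap S S')).primeCompl N) +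
      ((depth (Localization.AtPrime 𝔮') (LocalizedModule 𝔮'.primeCompl (S' ⊗[S] N)) : ℕ∞) :
        WithBot ℕ∞) =
    Module.supportDim (Localization.AtPrime 𝔮') (LocalizedModule 𝔮'.primeCompl (S' ⊗[S] N)) +
      ((depth (Localization.AtPrime (𝔮'.comap (algebraMap S S')))
        (LocalizedModule (𝔮'.comap (algebraMap S S')).primeCompl N) : ℕ∞) : WithBot ℕ∞) := by
  set 𝔮 := 𝔮'.comap (algebraMap S S') with h𝔮
  -- the two instances of the flat formula
  obtain ⟨hdN, hsN⟩ :=
    Groth.Agent.Lib.helper26.SkFlat.depth_supportDim_localization_tensor S S' 𝔮' N S'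
  obtain ⟨hdS, hsS⟩ :=
    Groth.Agent.Lib.helper26.SkFlat.depth_supportDim_localization_tensor S S' 𝔮' S S'
  -- the model `S'_𝔮'` of `(S' ⊗ S)_𝔮'`
  let f : (S' ⊗[S] S) →ₗ[S'] Localization.AtPrime 𝔮' :=
    (Algebra.linearMap S' (Localization.AtPrime 𝔮')) ∘ₗ
      (TensorProduct.AlgebraTensorModule.rid S S' S').toLinearMap
  haveI : IsLocalizedModule 𝔮'.primeCompl f := by
    haveI : IsLocalizedModule 𝔮'.primeCompl (Algebra.linearMap S' (Localization.AtPrime 𝔮')) :=
      inferInstance
    exact IsLocalizedModule.of_linearEquiv_right 𝔮'.primeCompl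
      (Algebra.linearMap S' (Localization.AtPrime 𝔮'))
      (TensorProduct.AlgebraTensorModule.rid S S' S')
  have hm1 := Groth.Agent.Lib.helper26.Depth.depth_eq_of_isLocalizedModule 𝔮' (S' ⊗[S] S)
    (Localization.AtPrime 𝔮') (Localization.AtPrime 𝔮') f
  have hm2 := Groth.Agent.Lib.helper26.Depth.supportDim_eq_of_isLocalizedModule 𝔮' (S' ⊗[S] S)
    (Localization.AtPrime 𝔮') (Localization.AtPrime 𝔮') f
  have hm3 := Groth.Agent.Lib.helper26.Depth.depth_localizedModule_self S 𝔮
  have hm4 : Module.supportDim (Localization.AtPrime 𝔮) (LocalizedModule 𝔮.primeCompl S) =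
      ringKrullDim (Localization.AtPrime 𝔮) := by
    rw [← Module.supportDim_eq_of_equiv (Groth.Agent.Lib.helper26.Depth.selfEquiv S 𝔮)]
    exact Module.supportDim_self_eq_ringKrullDim _
  rw [← hm1, hm3] at hdS
  rw [← hm2, hm4, Module.supportDim_self_eq_ringKrullDim] at hsS
  -- numbers
  set F := EGA4.FibLocMod S S' 𝔮' S' with hF
  obtain ⟨a, ha⟩ := Groth.Agent.Lib.Helper24.FibCod.exists_nat_ringKrullDim (Localization.AtPrime 𝔮)
  obtain ⟨a', ha'⟩ := Groth.Agent.Lib.Helper24.FibCod.exists_nat_ringKrullDim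
    (Localization.AtPrime 𝔮')
  obtain ⟨b, hb⟩ := ENat.ne_top_iff_exists.mp
    (Groth.Agent.Lib.helper26.Depth.depth_ne_top (A := Localization.AtPrime 𝔮)
      (Localization.AtPrime 𝔮))
  obtain ⟨b', hb'⟩ := ENat.ne_top_iff_exists.mp
    (Groth.Agent.Lib.helper26.Depth.depth_ne_top (A := Localization.AtPrime 𝔮')
      (Localization.AtPrime 𝔮'))
  rw [ha, ha', ← hb, ← hb'] at hring
  have hring' : a + b' = a' + b := by exact_mod_cast hring
  rw [← hb, ← hb'] at hdS
  rw [ha, ha'] at hsS
  -- the depth of the closed fibre is finite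
  have hdF : depth (Localization.AtPrime 𝔮') F ≠ ⊤ := by
    intro htop
    rw [htop, add_top] at hdS
    exact ENat.natCast_ne_top b' hdS
  obtain ⟨dd, hdd⟩ := ENat.ne_top_iff_exists.mp hdF
  rw [← hdd] at hdS hdN
  have hdS' : b' = b + dd := by exact_mod_cast hdS
  -- the dimension of the closed fibre is a natural number
  obtain ⟨ds, hds⟩ : ∃ ds : ℕ, Module.supportDim (Localization.AtPrime 𝔮') F =
      ((ds : ℕ) : WithBot ℕ∞) := by
    generalize Module.supportDim (Localization.AtPrime 𝔮') F = x at hsS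
    induction x using WithBot.recBotCoe with
    | bot =>
      exfalso
      rw [WithBot.add_bot] at hsS
      exact WithBot.coe_ne_bot (a := (a' : ℕ∞)) hsS
    | coe x =>
      rcases eq_or_ne x ⊤ with hx | hx
      · exfalso
        rw [hx] at hsS
        have h1 : ((a : ℕ) : WithBot ℕ∞) + ((⊤ : ℕ∞) : WithBot ℕ∞) =
            (((a : ℕ∞) + ⊤ : ℕ∞) : WithBot ℕ∞) := rfl
        rw [h1, add_top] at hsS
        have h2 : ((a' : ℕ) : WithBot ℕ∞) = (((a' : ℕ∞)) : WithBot ℕ∞) := rfl
        rw [h2] at hsS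
        exact ENat.natCast_ne_top a' (WithBot.coe_injective hsS)
      · obtain ⟨ds, hds⟩ := ENat.ne_top_iff_exists.mp hx
        exact ⟨ds, by rw [← hds]; rfl⟩
  rw [hds] at hsS hsN
  have hsS' : a' = a + ds := by exact_mod_cast hsS
  have hdds : dd = ds := by omega
  rw [hdN, hsN, hdds]
  have hc : (((depth (Localization.AtPrime 𝔮) (LocalizedModule 𝔮.primeCompl N) + (ds : ℕ∞) : ℕ∞)) :
      WithBot ℕ∞) = ((depth (Localization.AtPrime 𝔮) (LocalizedModule 𝔮.primeCompl N) : ℕ∞) :
        WithBot ℕ∞) + ((ds : ℕ) : WithBot ℕ∞) := rfl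
  rw [hc]
  abel

end flat

section congr

variable (A B : Type u) [CommRing A] [CommRing B] [Algebra A B]
  (M : Type u) [AddCommGroup M] [Module B M]

/-- the invariants of the fibre stalk only depend on the prime. -/
theorem depth_supportDim_fibLocMod_congr {q₁ q₂ : Ideal B} [q₁.IsPrime] [q₂.IsPrime]
    (h : q₁ = q₂) :
    depth (EGA4.FibLocRing A B q₁) (EGA4.FibLocMod A B q₁ M) =
      depth (EGA4.FibLocRing A B q₂) (EGA4.FibLocMod A B q₂ M) ∧
    Module.supportDim (EGA4.FibLocRing A B q₁) (EGA4.FibLocMod A B q₁ M) =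
      Module.supportDim (EGA4.FibLocRing A B q₂) (EGA4.FibLocMod A B q₂ M) := by
  subst h
  exact ⟨rfl, rfl⟩

end congr

section formal

variable (B B' S S' : Type u) [CommRing B] [CommRing B'] [CommRing S] [CommRing S']
  [Algebra B B'] [Algebra B S] [Algebra B' S'] [Algebra S S'] [Algebra B S']
  [IsScalarTower B S S'] [IsScalarTower B B' S']
  [IsNoetherianRing S] [IsNoetherianRing S'] [Module.Flat S S']
  (M M' : Type u) [AddCommGroup M] [Module B M] [Module.Finite B M]
  [AddCommGroup M'] [Module B' M'] [Module B M'] [IsScalarTower B B' M']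
  (h : M →ₗ[B] M')

include h in
/-- the formal part of the base change theorem. -/
theorem codepth_eq_of_flat_of_isBaseChange (hh : IsBaseChange B' h) (𝔮' : Ideal S') [𝔮'.IsPrime]
    (hring : ringKrullDim (Localization.AtPrime (𝔮'.comap (algebraMap S S'))) +
        ((depth (Localization.AtPrime 𝔮') (Localization.AtPrime 𝔮') : ℕ∞) : WithBot ℕ∞) =
      ringKrullDim (Localization.AtPrime 𝔮') +
        ((depth (Localization.AtPrime (𝔮'.comap (algebraMap S S')))
          (Localization.AtPrime (𝔮'.comap (algebraMap S S'))) : ℕ∞) : WithBot ℕ∞)) :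
    Module.supportDim (Localization.AtPrime (𝔮'.comap (algebraMap S S')))
        (LocalizedModule (𝔮'.comap (algebraMap S S')).primeCompl (S ⊗[B] M)) +
      ((depth (Localization.AtPrime 𝔮') (LocalizedModule 𝔮'.primeCompl (S' ⊗[B'] M')) : ℕ∞) :
        WithBot ℕ∞) =
    Module.supportDim (Localization.AtPrime 𝔮') (LocalizedModule 𝔮'.primeCompl (S' ⊗[B'] M')) +
      ((depth (Localization.AtPrime (𝔮'.comap (algebraMap S S')))
        (LocalizedModule (𝔮'.comap (algebraMap S S')).primeCompl (S ⊗[B] M)) : ℕ∞) :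
          WithBot ℕ∞) := by
  have key := flat_codepth_eq S S' 𝔮' (S ⊗[B] M) hring
  -- the two descriptions of the base change of `M` to `S'`
  have chain1 : IsBaseChange S'
      (((TensorProduct.mk B' S' M' 1).restrictScalars B).comp h) :=
    IsBaseChange.comp hh (TensorProduct.isBaseChange B' M' S')
  have chain2 : IsBaseChange S'
      (((TensorProduct.mk S S' (S ⊗[B] M) 1).restrictScalars B).comp (TensorProduct.mk B S M 1)) :=
    IsBaseChange.comp (TensorProduct.isBaseChange B M S)
      (TensorProduct.isBaseChange S (S ⊗[B] M) S')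
  let e : S' ⊗[S] (S ⊗[B] M) ≃ₗ[S'] S' ⊗[B'] M' := chain2.equiv.symm ≪≫ₗ chain1.equiv
  let f : S' ⊗[S] (S ⊗[B] M) →ₗ[S'] LocalizedModule 𝔮'.primeCompl (S' ⊗[B'] M') :=
    (LocalizedModule.mkLinearMap 𝔮'.primeCompl (S' ⊗[B'] M')) ∘ₗ e.toLinearMap
  haveI : IsLocalizedModule 𝔮'.primeCompl f :=
    IsLocalizedModule.of_linearEquiv_right 𝔮'.primeCompl
      (LocalizedModule.mkLinearMap 𝔮'.primeCompl (S' ⊗[B'] M')) e
  have hm1 := Groth.Agent.Lib.helper26.Depth.depth_eq_of_isLocalizedModule 𝔮' (S' ⊗[S] (S ⊗[B] M))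
    (Localization.AtPrime 𝔮') (LocalizedModule 𝔮'.primeCompl (S' ⊗[B'] M')) f
  have hm2 := Groth.Agent.Lib.helper26.Depth.supportDim_eq_of_isLocalizedModule 𝔮'
    (S' ⊗[S] (S ⊗[B] M)) (Localization.AtPrime 𝔮')
    (LocalizedModule 𝔮'.primeCompl (S' ⊗[B'] M')) f
  rw [hm1, hm2]
  exact key

end formal

section ringLevel

open Groth.Agent.Lib.helper26.FibBC Groth.Agent.Lib.Helper24.FibCod

attribute [local instance] Algebra.TensorProduct.rightAlgebra

variable (A B A' B' : Type u) [CommRing A] [CommRing B] [CommRing A'] [CommRing B']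
  [Algebra A B] [Algebra A A'] [Algebra B B'] [Algebra A' B'] [Algebra A B']
  [IsScalarTower A B B'] [IsScalarTower A A' B'] [Algebra.IsPushout A B A' B']
  [Algebra.FiniteType A B] [Algebra.FiniteType A' B']
  (p : Ideal A) [p.IsPrime] (p' : Ideal A') [p'.IsPrime]
  [Algebra (p.Fiber B) (p'.Fiber B')]

/-- the ring-level codepth equation for the localizations of the fibre rings. -/
theorem fiberRing_codepth_eq
    (hcompat : ∀ b : B, algebraMap (p.Fiber B) (p'.Fiber B') ((1 : p.ResidueField) ⊗ₜ[A] b) =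
      (1 : p'.ResidueField) ⊗ₜ[A'] (algebraMap B B' b))
    (𝔮' : Ideal (p'.Fiber B')) [𝔮'.IsPrime] :
    ringKrullDim (Localization.AtPrime (𝔮'.comap (algebraMap (p.Fiber B) (p'.Fiber B')))) +
        ((depth (Localization.AtPrime 𝔮') (Localization.AtPrime 𝔮') : ℕ∞) : WithBot ℕ∞) =
      ringKrullDim (Localization.AtPrime 𝔮') +
        ((depth (Localization.AtPrime (𝔮'.comap (algebraMap (p.Fiber B) (p'.Fiber B'))))
          (Localization.AtPrime (𝔮'.comap (algebraMap (p.Fiber B) (p'.Fiber B')))) : ℕ∞) :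
            WithBot ℕ∞) := by
  have hq₁ : (𝔮'.comap (algebraMap (p.Fiber B) (p'.Fiber B'))).comap
      (includeRight : B →ₐ[A] p.Fiber B) =
      (𝔮'.comap (includeRight : B' →ₐ[A'] p'.Fiber B')).comap (algebraMap B B') := by
    ext b
    rw [Ideal.mem_comap, Ideal.mem_comap, Ideal.mem_comap, Ideal.mem_comap]
    have h1 : algebraMap (p.Fiber B) (p'.Fiber B') ((includeRight : B →ₐ[A] p.Fiber B) b) =
        (includeRight : B' →ₐ[A'] p'.Fiber B') (algebraMap B B' b) := hcompat b
    rw [h1]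
  obtain ⟨hN, hN', heq, -⟩ := fibLocRing_baseChange A B A' B'
    (𝔮'.comap (includeRight : B' →ₐ[A'] p'.Fiber B'))
    ((𝔮'.comap (algebraMap (p.Fiber B) (p'.Fiber B'))).comap (includeRight : B →ₐ[A] p.Fiber B))
    hq₁ 0
  haveI := hN
  haveI := hN'
  let σ := fiberLocAlgEquivFibLocRing A B p (𝔮'.comap (algebraMap (p.Fiber B) (p'.Fiber B')))
  let σ' := fiberLocAlgEquivFibLocRing A' B' p' 𝔮'
  haveI : IsNoetherianRing (Localization.AtPrime
      (𝔮'.comap (algebraMap (p.Fiber B) (p'.Fiber B')))) :=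
    isNoetherianRing_of_ringEquiv _ σ.symm.toRingEquiv
  haveI : IsNoetherianRing (Localization.AtPrime 𝔮') :=
    isNoetherianRing_of_ringEquiv _ σ'.symm.toRingEquiv
  have h1 : ringKrullDim (Localization.AtPrime
      (𝔮'.comap (algebraMap (p.Fiber B) (p'.Fiber B')))) =
      ringKrullDim (EGA4.FibLocRing A B
        ((𝔮'.comap (algebraMap (p.Fiber B) (p'.Fiber B'))).comap
          (includeRight : B →ₐ[A] p.Fiber B))) :=
    ringKrullDim_eq_of_ringEquiv σ.toRingEquiv
  have h2 : ringKrullDim (Localization.AtPrime 𝔮') =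
      ringKrullDim (EGA4.FibLocRing A' B'
        (𝔮'.comap (includeRight : B' →ₐ[A'] p'.Fiber B'))) :=
    ringKrullDim_eq_of_ringEquiv σ'.toRingEquiv
  have h3 : depth (EGA4.FibLocRing A B
        ((𝔮'.comap (algebraMap (p.Fiber B) (p'.Fiber B'))).comap
          (includeRight : B →ₐ[A] p.Fiber B)))
      (EGA4.FibLocRing A B
        ((𝔮'.comap (algebraMap (p.Fiber B) (p'.Fiber B'))).comap
          (includeRight : B →ₐ[A] p.Fiber B))) =
      depth (Localization.AtPrime (𝔮'.comap (algebraMap (p.Fiber B) (p'.Fiber B'))))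
        (Localization.AtPrime (𝔮'.comap (algebraMap (p.Fiber B) (p'.Fiber B')))) :=
    Groth.Agent.Lib.Helper24.FlatDepth.depth_eq_of_ringEquiv σ.toRingEquiv
  have h4 : depth (EGA4.FibLocRing A' B'
        (𝔮'.comap (includeRight : B' →ₐ[A'] p'.Fiber B')))
      (EGA4.FibLocRing A' B'
        (𝔮'.comap (includeRight : B' →ₐ[A'] p'.Fiber B'))) =
      depth (Localization.AtPrime 𝔮') (Localization.AtPrime 𝔮') :=
    Groth.Agent.Lib.Helper24.FlatDepth.depth_eq_of_ringEquiv σ'.toRingEquiv
  rw [h1, h2, ← h3, ← h4]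
  exact heq

end ringLevel

section Aux

open Groth.Agent.Lib.helper26.FibBC Groth.Agent.Lib.Helper24.FibCod

attribute [local instance] Algebra.TensorProduct.rightAlgebra

variable (A B A' B' : Type u) [CommRing A] [CommRing B] [CommRing A'] [CommRing B']
  [Algebra A B] [Algebra A A'] [Algebra B B'] [Algebra A' B'] [Algebra A B']
  [IsScalarTower A B B'] [IsScalarTower A A' B'] [Algebra.IsPushout A B A' B']
  [Algebra.FiniteType A B] [Algebra.FiniteType A' B']
  (M M' : Type u) [AddCommGroup M] [Module B M] [Module.Finite B M]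
  [AddCommGroup M'] [Module B' M'] [Module B M'] [IsScalarTower B B' M'] [Module.Finite B' M']
  (h : M →ₗ[B] M')
  (p : Ideal A) [p.IsPrime] (p' : Ideal A') [p'.IsPrime]
  [Algebra (p.Fiber B) (p'.Fiber B')] [Module.Flat (p.Fiber B) (p'.Fiber B')]

include h in
/-- the base change theorem with the fibre rings made explicit. -/
theorem fibLocMod_baseChange_aux (hh : IsBaseChange B' h)
    (hcompat : ∀ b : B, algebraMap (p.Fiber B) (p'.Fiber B') ((1 : p.ResidueField) ⊗ₜ[A] b) =
      (1 : p'.ResidueField) ⊗ₜ[A'] (algebraMap B B' b))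
    (𝔮' : Ideal (p'.Fiber B')) [𝔮'.IsPrime] :
    Module.supportDim
        (EGA4.FibLocRing A B ((𝔮'.comap (algebraMap (p.Fiber B) (p'.Fiber B'))).comap
          (includeRight : B →ₐ[A] p.Fiber B)))
        (EGA4.FibLocMod A B ((𝔮'.comap (algebraMap (p.Fiber B) (p'.Fiber B'))).comap
          (includeRight : B →ₐ[A] p.Fiber B)) M) +
      ((depth (EGA4.FibLocRing A' B' (𝔮'.comap (includeRight : B' →ₐ[A'] p'.Fiber B')))
        (EGA4.FibLocMod A' B' (𝔮'.comap (includeRight : B' →ₐ[A'] p'.Fiber B')) M') : ℕ∞) :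
          WithBot ℕ∞) =
    Module.supportDim (EGA4.FibLocRing A' B' (𝔮'.comap (includeRight : B' →ₐ[A'] p'.Fiber B')))
        (EGA4.FibLocMod A' B' (𝔮'.comap (includeRight : B' →ₐ[A'] p'.Fiber B')) M') +
      ((depth
        (EGA4.FibLocRing A B ((𝔮'.comap (algebraMap (p.Fiber B) (p'.Fiber B'))).comap
          (includeRight : B →ₐ[A] p.Fiber B)))
        (EGA4.FibLocMod A B ((𝔮'.comap (algebraMap (p.Fiber B) (p'.Fiber B'))).comap
          (includeRight : B →ₐ[A] p.Fiber B)) M) : ℕ∞) : WithBot ℕ∞) := by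
  haveI : IsNoetherianRing (p.Fiber B) := Algebra.FiniteType.isNoetherianRing p.ResidueField _
  haveI : IsNoetherianRing (p'.Fiber B') := Algebra.FiniteType.isNoetherianRing p'.ResidueField _
  letI algBS' : Algebra B (p'.Fiber B') :=
    ((algebraMap B' (p'.Fiber B')).comp (algebraMap B B')).toAlgebra
  haveI tow1 : IsScalarTower B B' (p'.Fiber B') := IsScalarTower.of_algebraMap_eq fun _ => rfl
  haveI tow2 : IsScalarTower B (p.Fiber B) (p'.Fiber B') := by
    refine IsScalarTower.of_algebraMap_eq fun b => ?_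
    have h1 : algebraMap B (p.Fiber B) b = (1 : p.ResidueField) ⊗ₜ[A] b := rfl
    have h2 : algebraMap B (p'.Fiber B') b =
        (1 : p'.ResidueField) ⊗ₜ[A'] (algebraMap B B' b) := rfl
    rw [h1, h2, hcompat]
  have hring := fiberRing_codepth_eq A B A' B' p p' hcompat 𝔮'
  have key := codepth_eq_of_flat_of_isBaseChange B B' (p.Fiber B) (p'.Fiber B') M M' h hh 𝔮' hring
  obtain ⟨hd1, hs1⟩ := depth_supportDim_fiberRing_model A B p
    (𝔮'.comap (algebraMap (p.Fiber B) (p'.Fiber B'))) M
  obtain ⟨hd1', hs1'⟩ := depth_supportDim_fiberRing_model A' B' p' 𝔮' M'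
  rw [← hd1, ← hs1, ← hd1', ← hs1']
  exact key

end Aux

section Main

open Groth.Agent.Lib.helper26.FibBC Groth.Agent.Lib.Helper24.FibCod

/-- bookkeeping: transport a codepth equation along equalities. -/
theorem codepth_transfer {s1 s2 s1' s2' : WithBot ℕ∞} {d1 d2 d1' d2' : ℕ∞}
    (key : s1 + ((d2 : ℕ∞) : WithBot ℕ∞) = s2 + ((d1 : ℕ∞) : WithBot ℕ∞))
    (hs1 : s1 = s1') (hs2 : s2 = s2') (hd1 : d1 = d1') (hd2 : d2 = d2') :
    s1' + ((d2' : ℕ∞) : WithBot ℕ∞) = s2' + ((d1' : ℕ∞) : WithBot ℕ∞) := by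
  subst hs1 hs2 hd1 hd2
  exact key

attribute [local instance] Algebra.TensorProduct.rightAlgebra

variable (A B A' B' : Type u) [CommRing A] [CommRing B] [CommRing A'] [CommRing B']
  [Algebra A B] [Algebra A A'] [Algebra B B'] [Algebra A' B'] [Algebra A B']
  [IsScalarTower A B B'] [IsScalarTower A A' B'] [Algebra.IsPushout A B A' B']
  [Algebra.FiniteType A B]
  (M M' : Type u) [AddCommGroup M] [Module B M] [Module.Finite B M]
  [AddCommGroup M'] [Module B' M'] [Module B M'] [IsScalarTower B B' M']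
  (h : M →ₗ[B] M')

include h in
/-- **Base change of fibre stalks** (EGA IV 6.7.1 for modules): the fibre stalks of `M` at `q` and
of `M' = B' ⊗_B M` at `q'` have the same codepth. -/
theorem fibLocMod_baseChange (hh : IsBaseChange B' h) (q' : Ideal B') [q'.IsPrime] :
    Module.supportDim (EGA4.FibLocRing A B (q'.comap (algebraMap B B')))
        (EGA4.FibLocMod A B (q'.comap (algebraMap B B')) M) +
      ((depth (EGA4.FibLocRing A' B' q') (EGA4.FibLocMod A' B' q' M') : ℕ∞) : WithBot ℕ∞) =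
    Module.supportDim (EGA4.FibLocRing A' B' q') (EGA4.FibLocMod A' B' q' M') +
      ((depth (EGA4.FibLocRing A B (q'.comap (algebraMap B B')))
        (EGA4.FibLocMod A B (q'.comap (algebraMap B B')) M) : ℕ∞) : WithBot ℕ∞) := by
  have hp : (q'.comap (algebraMap A' B')).comap (algebraMap A A') =
      (q'.comap (algebraMap A' B')).comap (algebraMap A A') := rfl
  haveI : q'.LiesOver (q'.comap (algebraMap A' B')) := ⟨rfl⟩
  obtain ⟨𝔮', h𝔮'prime, h𝔮'⟩ :=
    Groth.Agent.Lib.Helper24.FibreRegular.exists_fiber_prime A' B' (q'.comap (algebraMap A' B')) q'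
  haveI := h𝔮'prime
  obtain ⟨alg, hflat, hcompat⟩ := exists_flat_algebra A B A' B'
    ((q'.comap (algebraMap A' B')).comap (algebraMap A A')) (q'.comap (algebraMap A' B')) hp
  letI := alg
  haveI := hflat
  -- finiteness
  haveI hpush' : Algebra.IsPushout A A' B B' := Algebra.IsPushout.symm inferInstance
  haveI : Algebra.FiniteType A' B' :=
    Algebra.FiniteType.equiv inferInstance (Algebra.IsPushout.equiv A A' B B')
  haveI : Module.Finite B' M' := Module.Finite.equiv hh.equiv
  have h𝔮q : (𝔮'.comap (algebraMap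
      (((q'.comap (algebraMap A' B')).comap (algebraMap A A')).Fiber B)
      ((q'.comap (algebraMap A' B')).Fiber B'))).comap
        (includeRight : B →ₐ[A] ((q'.comap (algebraMap A' B')).comap (algebraMap A A')).Fiber B) =
      q'.comap (algebraMap B B') := by
    ext b
    rw [Ideal.mem_comap, Ideal.mem_comap]
    have h1 : algebraMap (((q'.comap (algebraMap A' B')).comap (algebraMap A A')).Fiber B)
        ((q'.comap (algebraMap A' B')).Fiber B')
        ((includeRight : B →ₐ[A] ((q'.comap (algebraMap A' B')).comap (algebraMap A A')).Fiber B)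
          b) =
        (includeRight : B' →ₐ[A'] (q'.comap (algebraMap A' B')).Fiber B') (algebraMap B B' b) :=
      hcompat b
    rw [h1, ← Ideal.mem_comap, h𝔮', Ideal.mem_comap]
  have key := fibLocMod_baseChange_aux A B A' B' M M' h
    ((q'.comap (algebraMap A' B')).comap (algebraMap A A')) (q'.comap (algebraMap A' B'))
    hh hcompat 𝔮'
  obtain ⟨hc1, hc2⟩ := depth_supportDim_fibLocMod_congr A B M h𝔮q
  obtain ⟨hc1', hc2'⟩ := depth_supportDim_fibLocMod_congr A' B' M' h𝔮'
  exact codepth_transfer key hc2 hc2' hc1 hc1'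

end Main

end Groth.Agent.Lib.Helper24.FibMd
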