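import Mathlib
import Groth.Prelude.Def_EGA4b
import Groth.Agent.Lib.Helper24.FibMd4
import Groth.Agent.Lib.Helper24.FibMd6
import Groth.Agent.Lib.Helper26.CM1
import Groth.Agent.Lib.Helper3.FlatDescQ

/-!
# Fibre stalks of modules (helper24), part 7: openness of the codepth loci, general base

`A → B` of finite presentation, `M` a finitely presented `B`-module flat over `A`.  The set of primes
`q` of `B` at which the fibre stalk `M_q / p M_q` has codepth `≤ k` is open in `Spec B`
(EGA IV 12.1.1 (i), ring form).
-/

set_option autoImplicit false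
universe u

namespace Groth.Agent.Lib.Helper24.FibMd

open Algebra TensorProduct LocCoh IsLocalRing

attribute [local instance] Groth.Agent.Lib.helper26.SkFlat.isLocalRing_fibLocRing

section arith

variable (R R' : Type u) [CommRing R] [CommRing R'] [IsLocalRing R] [IsLocalRing R']
  [IsNoetherianRing R] [IsNoetherianRing R']
  (T T' : Type u) [AddCommGroup T] [AddCommGroup T'] [Module R T] [Module R' T']
  [Module.Finite R T] [Module.Finite R' T']

/-- equal codepth (in the additive form) gives the same codepth inequalities. -/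
theorem codepth_le_iff_of_eq
    (heq : Module.supportDim R T + ((depth R' T' : ℕ∞) : WithBot ℕ∞) =
      Module.supportDim R' T' + ((depth R T : ℕ∞) : WithBot ℕ∞)) (k : ℕ) :
    Module.supportDim R T ≤ ((depth R T : ℕ∞) : WithBot ℕ∞) + k ↔
      Module.supportDim R' T' ≤ ((depth R' T' : ℕ∞) : WithBot ℕ∞) + k := by
  rcases subsingleton_or_nontrivial T with hT | hT
  · have hs : Module.supportDim R T = ⊥ := (Module.supportDim_eq_bot_iff_subsingleton R T).mpr hT
    rw [hs, WithBot.bot_add] at heq
    have hs' : Module.supportDim R' T' = ⊥ := by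
      rcases WithBot.add_eq_bot.mp heq.symm with h | h
      · exact h
      · exact absurd h WithBot.coe_ne_bot
    rw [hs, hs']
    simp
  · have hT' : Nontrivial T' := by
      by_contra hnt
      rw [not_nontrivial_iff_subsingleton] at hnt
      have hs' : Module.supportDim R' T' = ⊥ := (Module.supportDim_eq_bot_iff_subsingleton R' T').mpr hnt
      rw [hs', WithBot.bot_add] at heq
      rcases WithBot.add_eq_bot.mp heq with h | h
      · exact (Module.supportDim_ne_bot_iff_nontrivial R T).mpr hT h
      · exact WithBot.coe_ne_bot h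
    obtain ⟨s, hs⟩ := Groth.Agent.Lib.helper26.Depth.exists_nat_supportDim (A := R) T
    obtain ⟨s', hs'⟩ := Groth.Agent.Lib.helper26.Depth.exists_nat_supportDim (A := R') T'
    obtain ⟨d, hd⟩ := Groth.Agent.Lib.helper26.Depth.exists_nat_depth (A := R) T
    obtain ⟨d', hd'⟩ := Groth.Agent.Lib.helper26.Depth.exists_nat_depth (A := R') T'
    rw [hs, hs', hd, hd'] at heq
    rw [hs, hs', hd, hd']
    have h1 : s + d' = s' + d := by exact_mod_cast heq
    constructor
    · intro hle
      have h2 : s ≤ d + k := by exact_mod_cast hle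
      have h3 : s' ≤ d' + k := by omega
      exact_mod_cast h3
    · intro hle
      have h2 : s' ≤ d' + k := by exact_mod_cast hle
      have h3 : s ≤ d + k := by omega
      exact_mod_cast h3

end arith

section main

variable (A B : Type u) [CommRing A] [CommRing B] [Algebra A B] [Algebra.FinitePresentation A B]
  (M : Type u) [AddCommGroup M] [Module B M] [Module A M] [IsScalarTower A B M]
  [Module.FinitePresentation B M] [Module.Flat A M]

/-- **EGA IV 12.1.1 (i) for modules, ring form**: the codepth `≤ k` locus of the fibre stalks of a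
finitely presented module, flat over the base, over a finitely presented algebra is open. -/
theorem isOpen_codepthLocus (k : ℕ) : IsOpen (codepthLocus A B M k) := by
  obtain ⟨A₀, _, _, _, _, hft, -, -, B₀, _, _, _, _, hfp, hpo, -, M₀, _, _, _, _, hfin, hflat, ⟨e⟩⟩ :=
    Groth.Agent.Lib.helper3.FlatDesc.exists_fg_model_flat_module (A := A) (B := B) (M := M) ∅
  haveI : IsNoetherianRing A₀ := Algebra.FiniteType.isNoetherianRing ℤ A₀
  haveI := hfp
  haveI := hfin
  haveI := hflat
  haveI : Algebra.FiniteType A₀ B₀ := inferInstance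
  haveI : Algebra.IsPushout A₀ B₀ A B := hpo.symm
  letI : Module B₀ M := Module.compHom M (algebraMap B₀ B)
  haveI : IsScalarTower B₀ B M := IsScalarTower.of_algebraMap_smul fun _ _ => rfl
  let h : M₀ →ₗ[B₀] M := (e.restrictScalars B₀).toLinearMap ∘ₗ (TensorProduct.mk B₀ B M₀ 1)
  have hh : IsBaseChange B h := IsBaseChange.of_equiv e (fun x => rfl)
  have hopen := isOpen_codepthLocus_noeth A₀ B₀ M₀ k
  have hset : codepthLocus A B M k =
      (PrimeSpectrum.comap (algebraMap B₀ B)) ⁻¹' (codepthLocus A₀ B₀ M₀ k) := by
    ext Q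
    have heq := fibLocMod_baseChange A₀ B₀ A B M₀ M h hh Q.asIdeal
    haveI : Module.Finite B M := inferInstance
    haveI : Algebra.FiniteType A B := inferInstance
    haveI : IsNoetherianRing (EGA4.FibLocRing A B Q.asIdeal) :=
      Groth.Agent.Lib.Helper24.FibCod.isNoetherianRing_fibLocRing A B Q.asIdeal
    haveI : IsNoetherianRing (EGA4.FibLocRing A₀ B₀ (Q.asIdeal.comap (algebraMap B₀ B))) :=
      Groth.Agent.Lib.Helper24.FibCod.isNoetherianRing_fibLocRing A₀ B₀ _
    haveI : Module.Finite (EGA4.FibLocRing A B Q.asIdeal) (EGA4.FibLocMod A B Q.asIdeal M) :=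
      Module.Finite.of_restrictScalars_finite (Localization.AtPrime Q.asIdeal) _ _
    haveI : Module.Finite (EGA4.FibLocRing A₀ B₀ (Q.asIdeal.comap (algebraMap B₀ B)))
        (EGA4.FibLocMod A₀ B₀ (Q.asIdeal.comap (algebraMap B₀ B)) M₀) :=
      Module.Finite.of_restrictScalars_finite
        (Localization.AtPrime (Q.asIdeal.comap (algebraMap B₀ B))) _ _
    exact (codepth_le_iff_of_eq _ _ _ _ heq k).symm
  rw [hset]
  exact hopen.preimage (PrimeSpectrum.continuous_comap (algebraMap B₀ B))

end main

end Groth.Agent.Lib.Helper24.FibMd
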