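import Mathlib
import Groth.Prelude.Def_EGA4b
import Groth.Prelude.Def_CohB1
import Groth.Prelude.Def_FlatMod2
import Groth.Agent.Lib.Helper24.FibMd2
import Groth.Agent.Lib.Helper24.FibMd7
import Groth.Agent.Lib.Helper16.CohFP
import Groth.Agent.Lib.Helper17.FlatOver1

/-!
# Fibre stalks of modules (helper24), part 8: openness of the codepth loci on schemes

`f : X ⟶ Y` locally of finite presentation, `F` a finitely presented `O_X`-module flat over `Y`.
The set of `x ∈ X` at which the fibre stalk of `F` has codepth `≤ k` is open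
(EGA IV 12.1.1 (i)).
-/

set_option autoImplicit false
universe u

namespace Groth.Agent.Lib.Helper24.FibMd

open AlgebraicGeometry CategoryTheory IsLocalRing LocCoh
  Groth.Agent.Lib.helper16.CohStalk Groth.Agent.Lib.helper17.FlatOver1

open Scheme.Modules Groth.Agent.Lib.helper7 Groth.Agent.Lib.helper16.CohFinite

attribute [local instance] Groth.Agent.Lib.helper26.SkFlat.isLocalRing_fibLocRing

/-- bookkeeping. -/
theorem le_iff_of_eq {s s' : WithBot ℕ∞} {d d' : ℕ∞} (hs : s = s') (hd : d = d') (k : ℕ) :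
    s ≤ ((d : ℕ∞) : WithBot ℕ∞) + k ↔ s' ≤ ((d' : ℕ∞) : WithBot ℕ∞) + k := by
  subst hs hd
  rfl

/-- the chart: in an affine chart `U ≤ f⁻¹ V` the codepth condition at `y ∈ U` is the ring-level
condition at the prime of `y`. -/
theorem fibre_codepth_le_iff {X Y : Scheme.{u}} (f : X ⟶ Y) (F : X.Modules)
    [F.IsQuasicoherent] {V : Y.Opens} (hV : IsAffineOpen V) {U : X.Opens} (hU : IsAffineOpen U)
    (e : U ≤ f ⁻¹ᵁ V) (hft : (f.appLE V U e).hom.FiniteType)
    (hfin : Module.Finite Γ(X, U) Γ(F, U)) (k : ℕ) (y : X) (hy : y ∈ U) :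
    letI := (f.appLE V U e).hom.toAlgebra
    (Module.supportDim ((f.fiber (f.base y)).presheaf.stalk (f.asFiber y))
        (((Scheme.Modules.pullback (f.fiberι (f.base y))).obj F).presheaf.stalk (f.asFiber y)) ≤
      ((depth ((f.fiber (f.base y)).presheaf.stalk (f.asFiber y))
        (((Scheme.Modules.pullback (f.fiberι (f.base y))).obj F).presheaf.stalk (f.asFiber y)) : ℕ∞) :
          WithBot ℕ∞) + k) ↔
      hU.primeIdealOf ⟨y, hy⟩ ∈ codepthLocus Γ(Y, V) Γ(X, U) Γ(F, U) k := by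
  letI := (f.appLE V U e).hom.toAlgebra
  have hy' : f.fiberι (f.base y) (f.asFiber y) ∈ U := by
    rw [f.fiberι_asFiber]
    exact hy
  obtain ⟨hd, hs⟩ := depth_supportDim_fibre_stalk f F hV hU e hft hfin (f.base y) (f.asFiber y) hy'
  have hq : hU.primeIdealOf ⟨f.fiberι (f.base y) (f.asFiber y), hy'⟩ = hU.primeIdealOf ⟨y, hy⟩ := by
    congr 1
    exact Subtype.ext (f.fiberι_asFiber y)
  obtain ⟨hc1, hc2⟩ := depth_supportDim_fibLocMod_congr Γ(Y, V) Γ(X, U) Γ(F, U)
    (congrArg PrimeSpectrum.asIdeal hq)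
  exact le_iff_of_eq (hs.trans hc2) (hd.trans hc1) k

/-- **EGA IV 12.1.1 (i)**: upper semicontinuity of the codepth of the fibre stalks of a finitely
presented module flat over the base. -/
theorem isOpen_setOf_fibre_codepth_le {X Y : Scheme.{u}} (f : X ⟶ Y)
    [LocallyOfFinitePresentation f] (F : X.Modules) (hF : CohB1.IsFP F)
    (hflat : FlatMod.IsFlatOver f F) (k : ℕ) :
    IsOpen {x : X | Module.supportDim ((f.fiber (f.base x)).presheaf.stalk (f.asFiber x))
        (((Scheme.Modules.pullback (f.fiberι (f.base x))).obj F).presheaf.stalk (f.asFiber x)) ≤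
      ((depth ((f.fiber (f.base x)).presheaf.stalk (f.asFiber x))
        (((Scheme.Modules.pullback (f.fiberι (f.base x))).obj F).presheaf.stalk (f.asFiber x)) : ℕ∞) :
          WithBot ℕ∞) + k} := by
  haveI hF' : SheafOfModules.IsFinitePresentation (R := X.ringCatSheaf) F := hF
  haveI : F.IsQuasicoherent := SheafOfModules.instIsQuasicoherentOfIsFinitePresentation F
  rw [isOpen_iff_forall_mem_open]
  intro x hx
  obtain ⟨_, ⟨V, hV : IsAffineOpen V, rfl⟩, hfxV, -⟩ :=
    Y.isBasis_affineOpens.exists_subset_of_mem_open (Set.mem_univ (f x)) isOpen_univ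
  obtain ⟨_, ⟨U, hU : IsAffineOpen U, rfl⟩, hxU, hUV'⟩ :=
    X.isBasis_affineOpens.exists_subset_of_mem_open
      (show x ∈ (f ⁻¹ᵁ V : Set X) from hfxV) (f ⁻¹ᵁ V).isOpen
  have hUV : U ≤ f ⁻¹ᵁ V := hUV'
  have hfp : (f.appLE V U hUV).hom.FinitePresentation := f.finitePresentation_appLE hV hU hUV
  letI := (f.appLE V U hUV).hom.toAlgebra
  haveI : Algebra.FinitePresentation Γ(Y, V) Γ(X, U) := hfp
  haveI hMfp : Module.FinitePresentation Γ(X, U) Γ(F, U) :=
    Groth.Agent.Lib.helper16.CohFP.fp_sections_of_isFinitePresentation F hF hU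
  letI := modSecBase f F hUV
  haveI := isScalarTower_sections f F hUV
  haveI : Module.Flat Γ(Y, V) Γ(F, U) :=
    flat_sections_of_isFlatOverAt f F hUV hU hV (fun x _ => hflat x)
  have hopen := isOpen_codepthLocus Γ(Y, V) Γ(X, U) Γ(F, U) k
  have hft : (f.appLE V U hUV).hom.FiniteType := RingHom.FiniteType.of_finitePresentation hfp
  have hfin : Module.Finite Γ(X, U) Γ(F, U) := inferInstance
  have key := fibre_codepth_le_iff f F hV hU hUV hft hfin k
  refine ⟨hU.fromSpec '' codepthLocus Γ(Y, V) Γ(X, U) Γ(F, U) k, ?_,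
    hU.fromSpec.isOpenEmbedding.isOpenMap _ hopen, ?_⟩
  · rintro _ ⟨q, hq, rfl⟩
    have hyU : hU.fromSpec q ∈ U := by
      rw [← SetLike.mem_coe, ← hU.range_fromSpec]
      exact Set.mem_range_self q
    have hq' : hU.primeIdealOf ⟨hU.fromSpec q, hyU⟩ = q :=
      hU.fromSpec.isOpenEmbedding.injective (hU.fromSpec_primeIdealOf ⟨hU.fromSpec q, hyU⟩)
    refine (key _ hyU).mpr ?_
    rw [hq']
    exact hq
  · exact ⟨hU.primeIdealOf ⟨x, hxU⟩, (key x hxU).mp hx, hU.fromSpec_primeIdealOf ⟨x, hxU⟩⟩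

end Groth.Agent.Lib.Helper24.FibMd
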