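import Mathlib
import Groth.Prelude.Def_EGA4b
import Groth.Agent.Lib.Helper24.FibCod3
import Groth.Agent.Lib.Helper24.FibCod11
import Groth.Agent.Lib.Helper24.FibCod12
import Groth.Agent.Lib.Helper24.FibCod14

/-!
# Rectified depth of fibre stalks (helper24), part 1: dimension formulas without Noetherian
hypotheses

`A → C` of finite type (no Noetherian hypothesis):
`dim (C_Q / p C_Q) + td(Q) ≤ e ↔ td(q) ≤ e` for all primes `q ≤ Q` in the fibre of `Q`, and
`dim (P_𝔔 / p P_𝔔) + td(𝔔) = N` for the polynomial ring `P = A[x_1..x_N]`.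
-/

set_option autoImplicit false
universe u

namespace Groth.Agent.Lib.Helper24.FibRd

open Groth.Agent.Lib.helper3.DimIneq Groth.Agent.Lib.helper3.FTField
  Groth.Agent.Lib.helper3.FibreParam Function Groth.Agent.Lib.Helper24.FibCod

attribute [local instance] Groth.Agent.Lib.helper26.SkFlat.isLocalRing_fibLocRing

section height

variable {B : Type u} [CommRing B]

/-- some minimal prime `q0 ≤ q` has `ht(q/q0) = ht q`, for a prime of finite height. -/
theorem exists_minimalPrimes_height_map_eq' (q : Ideal B) [q.IsPrime] [q.FiniteHeight] :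
    ∃ q0 ∈ minimalPrimes B, q0 ≤ q ∧ ∀ [q0.IsPrime],
      (q.map (Ideal.Quotient.mk q0)).height = q.height := by
  obtain ⟨l, hlast, hlen⟩ := Ideal.exists_ltSeries_length_eq_height q
  obtain ⟨q0, hq0, hq0le⟩ := Ideal.exists_minimalPrimes_le (I := ⊥) (J := l.head.asIdeal) bot_le
  have hq0q : q0 ≤ q := by
    have h1 : l.head ≤ l.last := LTSeries.head_le_last l
    rw [hlast] at h1
    exact hq0le.trans h1
  refine ⟨q0, hq0, hq0q, ?_⟩
  intro hq0p
  refine le_antisymm (Groth.Agent.Lib.helper3.FTField.height_map_le q0 q hq0q) ?_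
  have hsurj : Surjective (Ideal.Quotient.mk q0) := Ideal.Quotient.mk_surjective
  have hq'p : (q.map (Ideal.Quotient.mk q0)).IsPrime := by
    apply Ideal.map_isPrime_of_surjective hsurj
    rw [Ideal.mk_ker]; exact hq0q
  have := length_le_height_map (Ideal.Quotient.mk q0) hsurj l
    (by rw [Ideal.mk_ker]; exact hq0le) (by rw [hlast]; exact hq'p)
  rw [hlen] at this
  simpa [hlast] using this

end height

variable (A : Type u) {C : Type u} [CommRing A] [CommRing C] [Algebra A C]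
  [Algebra.FiniteType A C] (Q : Ideal C) [Q.IsPrime]

/-- the dimension of the fibre local ring is a natural number. -/
theorem exists_nat_dim_fibLocRing' :
    ∃ d : ℕ, ringKrullDim (EGA4.FibLocRing A C Q) = ((d : ℕ) : WithBot ℕ∞) := by
  haveI : IsNoetherianRing (EGA4.FibLocRing A C Q) := isNoetherianRing_fibLocRing A C Q
  exact exists_nat_ringKrullDim (EGA4.FibLocRing A C Q)

/-- `dim (C_Q / p C_Q) + td(Q) ≤ e` iff all generizations of `Q` in its fibre have `td ≤ e`. -/
theorem dim_fibLocRing_add_tdN_le_iff' (e : ℕ) :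
    ringKrullDim (EGA4.FibLocRing A C Q) + ((tdN A Q : ℕ) : WithBot ℕ∞) ≤ ((e : ℕ) : WithBot ℕ∞) ↔
      ∀ q : Ideal C, ∀ _ : q.IsPrime, q ≤ Q →
        q.comap (algebraMap A C) = Q.comap (algebraMap A C) → tdN A q ≤ e := by
  set I := (Q.comap (algebraMap A C)).map (algebraMap A C) with hI
  have hIQ : I ≤ Q := Ideal.map_comap_le
  set Q' : Ideal (C ⧸ I) := Q.map (Ideal.Quotient.mk I) with hQ'
  haveI hQ'p : Q'.IsPrime := Groth.Agent.Lib.helper5.FibLoc.isPrime_map_mk A C Q
  have hQ'c : Q'.comap (Ideal.Quotient.mk I) = Q := comap_map_mk I Q hIQ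
  have hdim : ringKrullDim (EGA4.FibLocRing A C Q) = ((Q'.height : ℕ∞) : WithBot ℕ∞) :=
    Groth.Agent.Lib.helper5.FibLoc.ringKrullDim_fibLocRing A C Q
  haveI hfinQ' : Q'.FiniteHeight := by
    obtain ⟨d, hd⟩ := exists_nat_dim_fibLocRing' A Q
    rw [hdim] at hd
    refine ⟨Or.inr ?_⟩
    intro htop
    rw [htop] at hd
    have h2 : ((d : ℕ) : WithBot ℕ∞) = (((d : ℕ∞)) : WithBot ℕ∞) := rfl
    rw [h2] at hd
    exact ENat.natCast_ne_top d (WithBot.coe_injective hd).symm
  haveI : Algebra.FiniteType A (C ⧸ I) :=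
    Algebra.FiniteType.of_surjective (Ideal.Quotient.mkₐ A I) Ideal.Quotient.mk_surjective
  have hQ'A : tdN A Q' = tdN A Q := by
    rw [← tdN_comap_mk A I Q']
    exact tdN_congr A hQ'c
  -- every prime below `Q'` lies in its fibre
  have hfib : ∀ q' : Ideal (C ⧸ I), q'.IsPrime → q' ≤ Q' →
      q'.comap (algebraMap A (C ⧸ I)) = Q'.comap (algebraMap A (C ⧸ I)) := by
    intro q' _ hle
    apply le_antisymm (Ideal.comap_mono hle)
    intro a ha
    rw [Ideal.mem_comap] at ha ⊢
    have h1 : algebraMap A (C ⧸ I) a = Ideal.Quotient.mk I (algebraMap A C a) := rfl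
    rw [h1, ← Ideal.mem_comap, hQ'c] at ha
    have h2 : algebraMap A C a ∈ I := Ideal.mem_map_of_mem _ ha
    rw [h1, Ideal.Quotient.eq_zero_iff_mem.mpr h2]
    exact zero_mem _
  have hcast : ∀ (h : ℕ∞) (t e : ℕ), ((h : ℕ∞) : WithBot ℕ∞) + ((t : ℕ) : WithBot ℕ∞) ≤
      ((e : ℕ) : WithBot ℕ∞) ↔ h + (t : ℕ∞) ≤ (e : ℕ∞) := by
    intro h t e
    have h1 : ((t : ℕ) : WithBot ℕ∞) = (((t : ℕ∞)) : WithBot ℕ∞) := rfl
    have h2 : ((e : ℕ) : WithBot ℕ∞) = (((e : ℕ∞)) : WithBot ℕ∞) := rfl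
    rw [h1, h2, ← WithBot.coe_add, WithBot.coe_le_coe]
  rw [hdim, hcast, ← hQ'A]
  constructor
  · intro H q hq hle hc
    have hIq : I ≤ q := by
      rw [hI, ← hc]
      exact Ideal.map_comap_le
    set q' : Ideal (C ⧸ I) := q.map (Ideal.Quotient.mk I) with hq'
    haveI hq'p : q'.IsPrime := map_mk_isPrime I q hIq
    have hq'c : q'.comap (Ideal.Quotient.mk I) = q := comap_map_mk I q hIq
    have hq'le : q' ≤ Q' := Ideal.map_mono hle
    have h1 := height_map_add_tdN (A := A) q' Q' hq'le (hfib q' hq'p hq'le)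
    have h2 : (Q'.map (Ideal.Quotient.mk q')).height ≤ Q'.height :=
      Groth.Agent.Lib.helper3.FTField.height_map_le q' Q' hq'le
    have h3 : tdN A q = tdN A q' := by
      rw [← tdN_comap_mk A I q']
      exact tdN_congr A hq'c.symm
    have h4 : (tdN A q' : ℕ∞) ≤ (e : ℕ∞) := by
      rw [← h1]
      exact le_trans (add_le_add_left h2 _) H
    rw [h3]
    exact_mod_cast h4
  · intro H
    obtain ⟨q0, hq0, hq0le, hht⟩ := exists_minimalPrimes_height_map_eq' Q'
    haveI hq0p : q0.IsPrime := hq0.1.1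
    have hht' := hht
    have h1 := height_map_add_tdN (A := A) q0 Q' hq0le (hfib q0 hq0p hq0le)
    rw [hht'] at h1
    rw [h1]
    haveI : (q0.comap (Ideal.Quotient.mk I)).IsPrime := Ideal.comap_isPrime _ _
    have h2 : q0.comap (Ideal.Quotient.mk I) ≤ Q := by
      rw [← hQ'c]
      exact Ideal.comap_mono hq0le
    have h3 : (q0.comap (Ideal.Quotient.mk I)).comap (algebraMap A C) =
        Q.comap (algebraMap A C) := by
      have e1 : (q0.comap (Ideal.Quotient.mk I)).comap (algebraMap A C) =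
          q0.comap (algebraMap A (C ⧸ I)) := by
        rw [Ideal.comap_comap]; rfl
      have e2 : Q.comap (algebraMap A C) = Q'.comap (algebraMap A (C ⧸ I)) := by
        conv_lhs => rw [← hQ'c]
        rw [Ideal.comap_comap]; rfl
      rw [e1, e2]
      exact hfib q0 hq0p hq0le
    have h4 := H (q0.comap (Ideal.Quotient.mk I)) inferInstance h2 h3
    rw [tdN_comap_mk A I q0] at h4
    exact_mod_cast h4

section poly

variable (N : ℕ)

/-- `dim (P_𝔔 / p P_𝔔) + td(𝔔) = N` for the polynomial ring in `N` variables, over any base. -/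
theorem dim_fibLocRing_mvPolynomial' (𝔔 : Ideal (MvPolynomial (Fin N) A)) [𝔔.IsPrime] :
    ringKrullDim (EGA4.FibLocRing A (MvPolynomial (Fin N) A) 𝔔) + ((tdN A 𝔔 : ℕ) : WithBot ℕ∞) =
      ((N : ℕ) : WithBot ℕ∞) := by
  obtain ⟨d, hd⟩ := exists_nat_dim_fibLocRing' A 𝔔
  apply le_antisymm
  · rw [dim_fibLocRing_add_tdN_le_iff']
    intro q hq _ _
    exact tdN_le_card (AlgHom.id A _) (fun x => ⟨x, rfl⟩) q
  · have h1 : ringKrullDim (EGA4.FibLocRing A (MvPolynomial (Fin N) A) 𝔔) +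
        ((tdN A 𝔔 : ℕ) : WithBot ℕ∞) ≤ ((d + tdN A 𝔔 : ℕ) : WithBot ℕ∞) := by
      rw [hd]; push_cast; exact le_rfl
    rw [dim_fibLocRing_add_tdN_le_iff'] at h1
    set p := 𝔔.comap (algebraMap A (MvPolynomial (Fin N) A)) with hp
    haveI : p.IsPrime := Ideal.comap_isPrime _ _
    haveI := isPrime_map_C A N p
    have h2 := h1 (p.map (algebraMap A (MvPolynomial (Fin N) A))) inferInstance
      Ideal.map_comap_le (comap_map_C A N p)
    rw [td_map_C A N p] at h2
    rw [hd]
    exact_mod_cast h2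

end poly

end Groth.Agent.Lib.Helper24.FibRd
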