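import Mathlib
import Groth.Prelude.Def_EGA4b
import Groth.Agent.Lib.Helper24.FibMd1
import Groth.Agent.Lib.Helper24.FibCod14
import Groth.Agent.Lib.Helper26.DepthCR2
import Groth.Agent.Lib.Helper26.SkFlat1

/-!
# Rectified depth of fibre stalks (helper24), part 2: fibre stalks along a surjection, general base

`A → P` of finite type, `P → B` surjective, `M` a finite `B`-module, `Q` a prime of `B` with
contraction `𝔔` to `P`: the fibre stalks `M_𝔔 / p M_𝔔` over `P_𝔔 / p P_𝔔` and `M_Q / p M_Q` over
`B_Q / p B_Q` have the same depth and dimension.  (No Noetherian or flatness hypotheses.)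
-/

set_option autoImplicit false
universe u

namespace Groth.Agent.Lib.Helper24.FibRd

open Function TensorProduct LocCoh IsLocalRing Groth.Agent.Lib.Helper24.FibMd
  Groth.Agent.Lib.Helper24.FibCod

attribute [local instance] Groth.Agent.Lib.helper26.SkFlat.isLocalRing_fibLocRing

section mkQ

variable {S : Type u} [CommRing S] (I : Ideal S) (N : Type u) [AddCommGroup N] [Module S N]
  (T : Type u) [AddCommGroup T] [Module S T] [Module (S ⧸ I) T] [IsScalarTower S (S ⧸ I) T]

/-- a surjection `N → T` with kernel `I N` onto an `S/I`-module is the base change to `S/I`. -/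
theorem isBaseChange_of_surjective_of_ker (ψ : N →ₗ[S] T) (hsurj : Surjective ψ)
    (hker : LinearMap.ker ψ = I • (⊤ : Submodule S N)) : IsBaseChange (S ⧸ I) ψ := by
  let e₀ : (N ⧸ (I • (⊤ : Submodule S N))) ≃ₗ[S] T :=
    (Submodule.quotEquivOfEq _ _ hker.symm) ≪≫ₗ ψ.quotKerEquivOfSurjective hsurj
  let e : (N ⧸ (I • (⊤ : Submodule S N))) ≃ₗ[S ⧸ I] T :=
    LinearEquiv.extendScalarsOfSurjective (R := S) (S := S ⧸ I) Ideal.Quotient.mk_surjective e₀
  have hbc := isBaseChange_mkQ I N
  refine IsBaseChange.of_equiv (hbc.equiv ≪≫ₗ e) (fun n => ?_)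
  rw [LinearEquiv.trans_apply, IsBaseChange.equiv_tmul, one_smul]
  rfl

end mkQ

section transfer

variable (A : Type u) {P B : Type u} [CommRing A] [CommRing P] [CommRing B]
  [Algebra A P] [Algebra A B] [Algebra P B] [IsScalarTower A P B] [Algebra.FiniteType A P]
  (hs : Surjective (algebraMap P B))
  (M : Type u) [AddCommGroup M] [Module B M] [Module P M] [IsScalarTower P B M]
  [Module.Finite B M]

include hs in
/-- the fibre stalks of `M` computed over `P` and over `B = P/I` have the same depth and
dimension. -/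
theorem depth_supportDim_fibLocMod_comap' (Q : Ideal B) [Q.IsPrime] :
    depth (EGA4.FibLocRing A P (Q.comap (algebraMap P B)))
        (EGA4.FibLocMod A P (Q.comap (algebraMap P B)) M) =
      depth (EGA4.FibLocRing A B Q) (EGA4.FibLocMod A B Q M) ∧
    Module.supportDim (EGA4.FibLocRing A P (Q.comap (algebraMap P B)))
        (EGA4.FibLocMod A P (Q.comap (algebraMap P B)) M) =
      Module.supportDim (EGA4.FibLocRing A B Q) (EGA4.FibLocMod A B Q M) := by
  haveI : Algebra.FiniteType A B :=
    Algebra.FiniteType.of_surjective (IsScalarTower.toAlgHom A P B) hs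
  haveI : Module.Finite P B := Module.Finite.of_surjective (Algebra.linearMap P B) hs
  haveI : Module.Finite P M := Module.Finite.trans B M
  set 𝔔 := Q.comap (algebraMap P B) with h𝔔
  let φ : Localization.AtPrime 𝔔 →+* Localization.AtPrime Q :=
    Localization.localRingHom 𝔔 Q (algebraMap P B) rfl
  have hsub : Algebra.algebraMapSubmonoid B 𝔔.primeCompl = Q.primeCompl := by
    ext a
    constructor
    · rintro ⟨r, hr, rfl⟩
      exact hr
    · intro ha
      obtain ⟨r, rfl⟩ := hs a
      exact ⟨r, ha, rfl⟩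
  have hφsurj : Surjective φ := by
    haveI : IsLocalization (Submonoid.map (algebraMap P B) 𝔔.primeCompl)
        (Localization.AtPrime Q) := by
      have : Submonoid.map (algebraMap P B) 𝔔.primeCompl = Q.primeCompl := hsub
      rw [this]
      infer_instance
    exact IsLocalization.map_surjective_of_surjective 𝔔.primeCompl (Localization.AtPrime 𝔔)
      (Localization.AtPrime Q) hs
  -- the ideals of the fibres
  set J : Ideal (Localization.AtPrime 𝔔) :=
    (𝔔.comap (algebraMap A P)).map (algebraMap A (Localization.AtPrime 𝔔)) with hJ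
  set J' : Ideal (Localization.AtPrime Q) :=
    (Q.comap (algebraMap A B)).map (algebraMap A (Localization.AtPrime Q)) with hJ'
  have hp : 𝔔.comap (algebraMap A P) = Q.comap (algebraMap A B) := by
    rw [h𝔔, Ideal.comap_comap, ← IsScalarTower.algebraMap_eq]
  have hcomp : φ.comp (algebraMap A (Localization.AtPrime 𝔔)) =
      algebraMap A (Localization.AtPrime Q) := by
    ext a
    rw [RingHom.comp_apply, IsScalarTower.algebraMap_apply A P (Localization.AtPrime 𝔔),
      Localization.localRingHom_to_map, ← IsScalarTower.algebraMap_apply,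
      ← IsScalarTower.algebraMap_apply]
  have hJJ' : J.map φ = J' := by
    rw [hJ, Ideal.map_map, hcomp, hp]
  -- the map of fibre local rings
  let φbar : EGA4.FibLocRing A P 𝔔 →+* EGA4.FibLocRing A B Q :=
    Ideal.quotientMap J' φ (by rw [← Ideal.map_le_iff_le_comap, hJJ'])
  have hφbarsurj : Surjective φbar := Ideal.quotientMap_surjective hφsurj
  letI algRR' : Algebra (EGA4.FibLocRing A P 𝔔) (EGA4.FibLocRing A B Q) := φbar.toAlgebra
  letI modRT' : Module (EGA4.FibLocRing A P 𝔔) (EGA4.FibLocMod A B Q M) :=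
    Module.compHom _ φbar
  haveI towRR'T' : IsScalarTower (EGA4.FibLocRing A P 𝔔) (EGA4.FibLocRing A B Q)
      (EGA4.FibLocMod A B Q M) := IsScalarTower.of_algebraMap_smul fun _ _ => rfl
  haveI : IsLocalHom (algebraMap (EGA4.FibLocRing A P 𝔔) (EGA4.FibLocRing A B Q)) :=
    IsLocalHom.of_surjective _ hφbarsurj
  haveI : IsNoetherianRing (EGA4.FibLocRing A P 𝔔) := isNoetherianRing_fibLocRing A P 𝔔
  haveI : IsNoetherianRing (EGA4.FibLocRing A B Q) := isNoetherianRing_fibLocRing A B Q
  haveI finR'T' : Module.Finite (EGA4.FibLocRing A B Q) (EGA4.FibLocMod A B Q M) :=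
    Module.Finite.of_restrictScalars_finite (Localization.AtPrime Q) _ _
  haveI : Module.Finite (EGA4.FibLocRing A P 𝔔) (EGA4.FibLocRing A B Q) :=
    Module.Finite.of_surjective (Algebra.linearMap _ _) hφbarsurj
  haveI finRT' : Module.Finite (EGA4.FibLocRing A P 𝔔) (EGA4.FibLocMod A B Q M) :=
    Module.Finite.trans (EGA4.FibLocRing A B Q) _
  -- Lemma V
  have hV1 : depth (EGA4.FibLocRing A P 𝔔) (EGA4.FibLocMod A B Q M) =
      depth (EGA4.FibLocRing A B Q) (EGA4.FibLocMod A B Q M) :=
    Groth.Agent.Lib.helper26.Depth.depth_eq_of_isLocalHom (A := EGA4.FibLocRing A P 𝔔)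
      (B := EGA4.FibLocRing A B Q) (EGA4.FibLocMod A B Q M)
  have hV2 : Module.supportDim (EGA4.FibLocRing A P 𝔔) (EGA4.FibLocMod A B Q M) =
      Module.supportDim (EGA4.FibLocRing A B Q) (EGA4.FibLocMod A B Q M) :=
    Groth.Agent.Lib.helper26.SkFlat.supportDim_eq_of_surjective hφbarsurj _
  -- the chart
  letI modS₁N : Module (Localization.AtPrime 𝔔) (LocalizedModule Q.primeCompl M) :=
    Module.compHom _ φ
  haveI towPS₁N : IsScalarTower P (Localization.AtPrime 𝔔) (LocalizedModule Q.primeCompl M) := by
    refine IsScalarTower.of_algebraMap_smul fun r x => ?_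
    change φ (algebraMap P _ r) • x = r • x
    rw [Localization.localRingHom_to_map, algebraMap_smul, algebraMap_smul]
  haveI hloc : IsLocalizedModule 𝔔.primeCompl
      ((LocalizedModule.mkLinearMap Q.primeCompl M).restrictScalars P) := by
    haveI : IsLocalizedModule (Algebra.algebraMapSubmonoid B 𝔔.primeCompl)
        (LocalizedModule.mkLinearMap Q.primeCompl M) := by
      rw [hsub]; infer_instance
    exact IsLocalizedModule.restrictScalars 𝔔.primeCompl _
  letI modS₁T' : Module (Localization.AtPrime 𝔔) (EGA4.FibLocMod A B Q M) :=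
    Module.compHom _ (algebraMap (Localization.AtPrime 𝔔) (EGA4.FibLocRing A P 𝔔))
  haveI towS₁RT' : IsScalarTower (Localization.AtPrime 𝔔) (EGA4.FibLocRing A P 𝔔)
      (EGA4.FibLocMod A B Q M) := by
    refine ⟨fun s r t => ?_⟩
    change (s • r) • t = (algebraMap (Localization.AtPrime 𝔔) (EGA4.FibLocRing A P 𝔔) s) • (r • t)
    have h : (s • r : EGA4.FibLocRing A P 𝔔) =
        algebraMap (Localization.AtPrime 𝔔) (EGA4.FibLocRing A P 𝔔) s * r := Algebra.smul_def s r
    rw [← mul_smul, ← h]
  let ψ : LocalizedModule Q.primeCompl M →ₗ[Localization.AtPrime 𝔔] EGA4.FibLocMod A B Q M :=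
    { toFun := fun n => (J' • (⊤ : Submodule (Localization.AtPrime Q)
        (LocalizedModule Q.primeCompl M))).mkQ n
      map_add' := fun x y => map_add _ x y
      map_smul' := fun s n => rfl }
  have hψapp : ∀ n, ψ n = (J' • (⊤ : Submodule (Localization.AtPrime Q)
      (LocalizedModule Q.primeCompl M))).mkQ n := fun n => rfl
  have hψsurj : Surjective ψ := by
    intro t
    obtain ⟨n, hn⟩ := Submodule.mkQ_surjective (J' • (⊤ : Submodule (Localization.AtPrime Q)
      (LocalizedModule Q.primeCompl M))) t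
    exact ⟨n, (hψapp n).trans hn⟩
  have hψker : LinearMap.ker ψ =
      J • (⊤ : Submodule (Localization.AtPrime 𝔔) (LocalizedModule Q.primeCompl M)) := by
    ext n
    rw [LinearMap.mem_ker, hψapp n, Submodule.mkQ_apply, Submodule.Quotient.mk_eq_zero]
    constructor
    · intro hn
      refine Submodule.smul_induction_on hn ?_ ?_
      · intro j' hj' x _
        rw [← hJJ'] at hj'
        obtain ⟨j, hj, rfl⟩ := (Ideal.mem_map_iff_of_surjective φ hφsurj).mp hj'
        exact Submodule.smul_mem_smul hj Submodule.mem_top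
      · intro x y hx hy
        exact add_mem hx hy
    · intro hn
      refine Submodule.smul_induction_on hn ?_ ?_
      · intro j hj x _
        have h1 : φ j ∈ J' := by
          rw [← hJJ']
          exact Ideal.mem_map_of_mem φ hj
        exact Submodule.smul_mem_smul h1 Submodule.mem_top
      · intro x y hx hy
        exact add_mem hx hy
  have hψ : IsBaseChange (EGA4.FibLocRing A P 𝔔) ψ :=
    isBaseChange_of_surjective_of_ker J _ _ ψ hψsurj hψker
  have hsurj : Surjective (algebraMap (Localization.AtPrime 𝔔) (EGA4.FibLocRing A P 𝔔)) :=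
    Ideal.Quotient.mk_surjective
  have hker : RingHom.ker (algebraMap (Localization.AtPrime 𝔔) (EGA4.FibLocRing A P 𝔔)) =
      ((𝔔.comap (algebraMap A P)).map (algebraMap A P)).map
        (algebraMap P (Localization.AtPrime 𝔔)) := by
    rw [Ideal.Quotient.algebraMap_eq, Ideal.mk_ker, Ideal.map_map,
      ← IsScalarTower.algebraMap_eq]
  obtain ⟨hc1, hc2⟩ := depth_supportDim_of_chart A P 𝔔 M (Localization.AtPrime 𝔔)
    (LocalizedModule Q.primeCompl M)
    ((LocalizedModule.mkLinearMap Q.primeCompl M).restrictScalars P)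
    (EGA4.FibLocRing A P 𝔔) (EGA4.FibLocMod A B Q M) ψ hψ hsurj hker
  exact ⟨hc1.symm.trans hV1, hc2.symm.trans hV2⟩

end transfer

end Groth.Agent.Lib.Helper24.FibRd
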