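import Mathlib
import Groth.Prelude.Def_EGA4b
import Groth.Agent.Lib.Helper24.FibRd1
import Groth.Agent.Lib.Helper24.FibRd2
import Groth.Agent.Lib.Helper24.FibMd3
import Groth.Agent.Lib.Helper3.RelPerf

/-!
# Rectified depth of fibre stalks (helper24), part 3: lower semicontinuity on `Spec B`

`A → B` of finite presentation, `M` a finitely presented `B`-module flat over `A`.  The rectified
depth `Q ↦ depth (M_Q / p M_Q) + trdeg (κ(Q) / κ(p))` of the fibre stalks is lower semicontinuous on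
`Spec B` (EGA IV 12.3.?, ring form; no Noetherian hypotheses).
-/

set_option autoImplicit false
universe u

namespace Groth.Agent.Lib.Helper24.FibRd

open Groth.Agent.Lib.helper3.DimIneq Groth.Agent.Lib.helper3.FTField
  Groth.Agent.Lib.helper3.FibreParam Groth.Agent.Lib.helper3.PdSemi
  Function TensorProduct LocCoh IsLocalRing CategoryTheory
  Groth.Agent.Lib.helper23.DRingPC Groth.Agent.Lib.Helper24.FibCod

attribute [local instance] Groth.Agent.Lib.helper26.SkFlat.isLocalRing_fibLocRing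

/-- the locus where the rectified depth of the fibre stalk is at least `n`. -/
def rdepthLocus (A B : Type u) [CommRing A] [CommRing B] [Algebra A B] (M : Type u)
    [AddCommGroup M] [Module B M] (n : ℕ) : Set (PrimeSpectrum B) :=
  {Q | (n : ℕ∞) ≤ depth (EGA4.FibLocRing A B Q.asIdeal) (EGA4.FibLocMod A B Q.asIdeal M) +
    (tdN A Q.asIdeal : ℕ∞)}

section dictionary

variable (A : Type u) [CommRing A] (N : ℕ) {C : Type u} [CommRing C]
  [Algebra A C] [Algebra (MvPolynomial (Fin N) A) C] [IsScalarTower A (MvPolynomial (Fin N) A) C]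
  (hs : Surjective (algebraMap (MvPolynomial (Fin N) A) C))
  (M : Type u) [AddCommGroup M] [Module C M] [Module (MvPolynomial (Fin N) A) M]
  [IsScalarTower (MvPolynomial (Fin N) A) C M] [Module.Finite C M]

include hs in
/-- **Pointwise dictionary**: the rectified depth through the projective dimension over the fibre
local ring of the polynomial ring. -/
theorem pdlt_iff_rdepth (Q : PrimeSpectrum C) (n : ℕ) :
    HasProjectiveDimensionLT
      (ModuleCat.of (Fp A (PrimeSpectrum.comap (algebraMap (MvPolynomial (Fin N) A) C) Q))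
        ((Fp A (PrimeSpectrum.comap (algebraMap (MvPolynomial (Fin N) A) C) Q))
          ⊗[MvPolynomial (Fin N) A] M)) (N + 1 - n) ↔
      Q ∈ rdepthLocus A C M n := by
  set 𝔔 := PrimeSpectrum.comap (algebraMap (MvPolynomial (Fin N) A) C) Q with h𝔔
  have h𝔔' : 𝔔.asIdeal = Q.asIdeal.comap (algebraMap (MvPolynomial (Fin N) A) C) := rfl
  haveI : Module.Finite (MvPolynomial (Fin N) A) C :=
    Module.Finite.of_surjective (Algebra.linearMap (MvPolynomial (Fin N) A) C) hs
  haveI : Module.Finite (MvPolynomial (Fin N) A) M := Module.Finite.trans C M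
  haveI hreg : IsRegularLocalRing (Fp A 𝔔) := isRegularLocalRing_fibLocRing_mvPolynomial A N 𝔔.asIdeal
  have hdim := dim_fibLocRing_mvPolynomial' A N 𝔔.asIdeal
  have htd : tdN A 𝔔.asIdeal = tdN A Q.asIdeal := tdN_comap_of_surjective A hs Q.asIdeal
  obtain ⟨d₀, hd₀⟩ := exists_nat_dim_fibLocRing' A 𝔔.asIdeal
  have h1 : ringKrullDim (Fp A 𝔔) = ((d₀ : ℕ) : WithBot ℕ∞) := hd₀
  rw [hd₀] at hdim
  have h2 : d₀ + tdN A 𝔔.asIdeal = N := by exact_mod_cast hdim
  have hh : ringKrullDim (Fp A 𝔔) = (((d₀ : ℕ) : ℕ∞) : WithBot ℕ∞) := h1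
  -- the depth
  have hd1 := depth_fibTensor A 𝔔 M
  have hd2 := (depth_supportDim_fibLocMod_comap' A hs M Q.asIdeal).1
  have hdepth : depth (Fp A 𝔔) ((Fp A 𝔔) ⊗[MvPolynomial (Fin N) A] M) =
      depth (EGA4.FibLocRing A C Q.asIdeal) (EGA4.FibLocMod A C Q.asIdeal M) := by
    rw [← hd2]
    exact hd1
  have hpd := fun t => Groth.Agent.Lib.helper19.Falt.pd_lt_iff (Fp A 𝔔)
    ((Fp A 𝔔) ⊗[MvPolynomial (Fin N) A] M) _ hh t
  show _ ↔ (n : ℕ∞) ≤ depth (EGA4.FibLocRing A C Q.asIdeal) (EGA4.FibLocMod A C Q.asIdeal M) +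
    (tdN A Q.asIdeal : ℕ∞)
  rw [hpd, ← hdepth, ← htd]
  rcases subsingleton_or_nontrivial ((Fp A 𝔔) ⊗[MvPolynomial (Fin N) A] M) with hsub | hnt
  · have htop : depth (Fp A 𝔔) ((Fp A 𝔔) ⊗[MvPolynomial (Fin N) A] M) = ⊤ :=
      Groth.Agent.Lib.Helper24.FlatDepth.idealDepth_of_subsingleton (Fp A 𝔔)
        (maximalIdeal (Fp A 𝔔)) ((Fp A 𝔔) ⊗[MvPolynomial (Fin N) A] M)
    rw [htop, top_add]
    exact ⟨fun _ => le_top, fun _ => Or.inl hsub⟩
  · have hns : ¬ Subsingleton ((Fp A 𝔔) ⊗[MvPolynomial (Fin N) A] M) :=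
      not_subsingleton_iff_nontrivial.mpr hnt
    haveI : IsNoetherianRing (Fp A 𝔔) := isNoetherianRing_fibLocRing A _ 𝔔.asIdeal
    have hne : depth (Fp A 𝔔) ((Fp A 𝔔) ⊗[MvPolynomial (Fin N) A] M) ≠ ⊤ :=
      Groth.Agent.Lib.helper26.Depth.depth_ne_top (A := Fp A 𝔔) _
    obtain ⟨δ, hδ⟩ := ENat.ne_top_iff_exists.mp hne
    -- `pd < 0` fails
    have h0 : ¬ HasProjectiveDimensionLT
        (ModuleCat.of (Fp A 𝔔) ((Fp A 𝔔) ⊗[MvPolynomial (Fin N) A] M)) 0 := by
      rw [hasProjectiveDimensionLT_zero_iff_isZero]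
      intro hz
      exact hns (ModuleCat.subsingleton_of_isZero hz)
    rw [hpd 0, ← hδ] at h0
    have h3 : ¬ (d₀ < 0 + δ) := by
      intro hlt
      exact h0 (Or.inr (by exact_mod_cast hlt))
    rw [← hδ]
    constructor
    · rintro (h | h)
      · exact absurd h hns
      · have h4 : d₀ < (N + 1 - n) + δ := by exact_mod_cast h
        have h5 : n ≤ δ + tdN A 𝔔.asIdeal := by omega
        exact_mod_cast h5
    · intro h
      have h5 : n ≤ δ + tdN A 𝔔.asIdeal := by exact_mod_cast h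
      have h4 : d₀ < (N + 1 - n) + δ := by omega
      exact Or.inr (by exact_mod_cast h4)

end dictionary

section surjective

variable (A : Type u) [CommRing A] (N : ℕ) {C : Type u} [CommRing C]
  [Algebra A C] [Algebra (MvPolynomial (Fin N) A) C] [IsScalarTower A (MvPolynomial (Fin N) A) C]
  (hs : Surjective (algebraMap (MvPolynomial (Fin N) A) C))
  (M : Type u) [AddCommGroup M] [Module C M] [Module (MvPolynomial (Fin N) A) M] [Module A M]
  [IsScalarTower (MvPolynomial (Fin N) A) C M] [IsScalarTower A (MvPolynomial (Fin N) A) M]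
  [Module.Finite C M] [Module.Flat A M]

include hs in
/-- openness of the rectified depth loci, surjective form. -/
theorem isOpen_rdepthLocus_of_surjective
    (hpc : PCMod (MvPolynomial (Fin N) A) (ModuleCat.of (MvPolynomial (Fin N) A) M)) (n : ℕ) :
    IsOpen (rdepthLocus A C M n) := by
  have hopen := isOpen_pdlt (A := A) (B := MvPolynomial (Fin N) A) (N + 1 - n) M hpc
  have hcont := PrimeSpectrum.continuous_comap (algebraMap (MvPolynomial (Fin N) A) C)
  have hset : rdepthLocus A C M n =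
      (PrimeSpectrum.comap (algebraMap (MvPolynomial (Fin N) A) C)) ⁻¹'
        {P | HasProjectiveDimensionLT
          (ModuleCat.of (Fp A P) ((Fp A P) ⊗[MvPolynomial (Fin N) A] M)) (N + 1 - n)} := by
    ext Q
    exact (pdlt_iff_rdepth A N hs M Q n).symm
  rw [hset]
  exact hopen.preimage hcont

end surjective

end Groth.Agent.Lib.Helper24.FibRd
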