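import Mathlib
import Groth.Prelude.Def_EGA4b
import Groth.Agent.Lib.Helper24.FibRd3

/-!
# Rectified depth of fibre stalks (helper24), part 4: the ring-level theorem

`A → B` of finite presentation, `M` a finitely presented `B`-module flat over `A`: the loci
`{Q | n ≤ depth (M_Q / p M_Q) + trdeg (κ(Q)/κ(p))}` are open in `Spec B`.
-/

set_option autoImplicit false
universe u

namespace Groth.Agent.Lib.Helper24.FibRd

open Function TensorProduct LocCoh IsLocalRing CategoryTheory
  Groth.Agent.Lib.helper23.DRingPC Groth.Agent.Lib.Helper24.FibCod

attribute [local instance] Groth.Agent.Lib.helper26.SkFlat.isLocalRing_fibLocRing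

variable (A B : Type u) [CommRing A] [CommRing B] [Algebra A B] [Algebra.FinitePresentation A B]
  (M : Type u) [AddCommGroup M] [Module B M] [Module A M] [IsScalarTower A B M]
  [Module.FinitePresentation B M] [Module.Flat A M]

/-- **Lower semicontinuity of the rectified depth of the fibre stalks**, ring form. -/
theorem isOpen_rdepthLocus (n : ℕ) : IsOpen (rdepthLocus A B M n) := by
  obtain ⟨N, f, hf, hker⟩ := Algebra.FinitePresentation.out (R := A) (A := B)
  letI algPB : Algebra (MvPolynomial (Fin N) A) B := f.toRingHom.toAlgebra
  haveI : IsScalarTower A (MvPolynomial (Fin N) A) B :=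
    IsScalarTower.of_algebraMap_eq fun a => (f.commutes a).symm
  letI modPM : Module (MvPolynomial (Fin N) A) M := Module.compHom M f.toRingHom
  haveI : IsScalarTower (MvPolynomial (Fin N) A) B M :=
    IsScalarTower.of_algebraMap_smul fun _ _ => rfl
  haveI : IsScalarTower A (MvPolynomial (Fin N) A) M := by
    refine IsScalarTower.of_algebraMap_smul fun a m => ?_
    change f (algebraMap A _ a) • m = a • m
    rw [f.commutes, algebraMap_smul]
  have hs : Surjective (algebraMap (MvPolynomial (Fin N) A) B) := hf
  haveI : Module.FinitePresentation (MvPolynomial (Fin N) A) B := by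
    refine Module.finitePresentation_of_surjective
      (Algebra.linearMap (MvPolynomial (Fin N) A) B) hs ?_
    have hk : LinearMap.ker (Algebra.linearMap (MvPolynomial (Fin N) A) B) =
        RingHom.ker f.toRingHom := by
      ext x
      rfl
    rw [hk]
    exact hker
  haveI : Module.FinitePresentation (MvPolynomial (Fin N) A) M :=
    Module.FinitePresentation.trans (MvPolynomial (Fin N) A) M B
  have hflat' : Module.Flat A ((ModuleCat.restrictScalars.{u}
      (algebraMap A (MvPolynomial (Fin N) A))).obj
        (ModuleCat.of (MvPolynomial (Fin N) A) M)) := by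
    let e : M ≃ₗ[A] ((ModuleCat.restrictScalars.{u}
        (algebraMap A (MvPolynomial (Fin N) A))).obj
          (ModuleCat.of (MvPolynomial (Fin N) A) M)) :=
      { toFun := fun m => m
        invFun := fun m => m
        map_add' := fun _ _ => rfl
        map_smul' := fun a m => (algebraMap_smul (MvPolynomial (Fin N) A) a m).symm
        left_inv := fun _ => rfl
        right_inv := fun _ => rfl }
    exact Module.Flat.of_linearEquiv e.symm
  have hpc : PCMod (MvPolynomial (Fin N) A) (ModuleCat.of (MvPolynomial (Fin N) A) M) :=
    Groth.Agent.Lib.helper3.RelPerf.pcMod_of_prFl (R := A) (A := MvPolynomial (Fin N) A)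
      (ModuleCat.of (MvPolynomial (Fin N) A) M) ⟨inferInstance, hflat'⟩
  haveI : Module.Finite B M := inferInstance
  exact isOpen_rdepthLocus_of_surjective A N hs M hpc n

end Groth.Agent.Lib.Helper24.FibRd
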