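import Mathlib
import Groth.Prelude.Def_EGA4b
import Groth.Prelude.Def_CohB1
import Groth.Prelude.Def_FlatMod2
import Groth.Agent.Lib.Helper24.FibRd4
import Groth.Agent.Lib.Helper24.FibMd8
import Groth.Agent.Lib.Helper3.FibreField
import Groth.Agent.Lib.Helper3.FTFieldClosureDim
import Groth.Agent.Lib.Helper3.DimIneqSch

/-!
# Rectified depth of fibre stalks (helper24), part 5: lower semicontinuity on schemes

`f : X ⟶ Y` locally of finite presentation, `F` a finitely presented `O_X`-module flat over `Y`.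
The rectified depth `x ↦ depth (F_{f(x)})_x + dim cl{x}` (closure in the fibre) is lower
semicontinuous on `X` (EGA IV 12.3).
-/

set_option autoImplicit false
universe u

namespace Groth.Agent.Lib.Helper24.FibRd

open AlgebraicGeometry CategoryTheory IsLocalRing LocCoh
  Groth.Agent.Lib.helper16.CohStalk Groth.Agent.Lib.helper17.FlatOver1
  Groth.Agent.Lib.helper3.DimIneq Groth.Agent.Lib.helper3.FTField
  Groth.Agent.Lib.helper3.FibreField Groth.Agent.Lib.Helper24.FibCod
  Groth.Agent.Lib.Helper24.FibMd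

attribute [local instance] Groth.Agent.Lib.helper26.SkFlat.isLocalRing_fibLocRing

/-- the dimension of the closure of a point in its fibre is the residue transcendence degree. -/
theorem dim_closure_asFiber {X Y : Scheme.{u}} (f : X ⟶ Y) [LocallyOfFiniteType f]
    {V : Y.Opens} (hV : IsAffineOpen V) {U : X.Opens} (hU : IsAffineOpen U) (e : U ≤ f ⁻¹ᵁ V)
    (hft : (f.appLE V U e).hom.FiniteType) (x : X) (hx : x ∈ U) :
    letI := (f.appLE V U e).hom.toAlgebra
    topologicalKrullDim ↥(closure ({f.asFiber x} : Set ↥(f.fiber (f.base x)))) =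
      ((tdN Γ(Y, V) (hU.primeIdealOf ⟨x, hx⟩).asIdeal : ℕ) : WithBot ℕ∞) := by
  letI := (f.appLE V U e).hom.toAlgebra
  haveI : Algebra.FiniteType Γ(Y, V) Γ(X, U) := hft
  letI := fiberOver f (f.base x)
  haveI : LocallyOfFiniteType ((f.fiber (f.base x)) ↘
      Spec (CommRingCat.of (Y.residueField (f.base x)))) := locallyOfFiniteType_fiber f (f.base x)
  apply dim_closure_eq_trdeg (Y.residueField (f.base x)) (f.fiber (f.base x)) (f.asFiber x)
  change td (Curv2.resMap (Y.residueField (f.base x)) (f.fiber (f.base x)) (f.asFiber x)) = _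
  rw [td_resMap_fiber f (f.base x) (f.asFiber x), td_residueFieldMap_congr f (f.fiberι_asFiber x),
    ← td_quotientMap_eq f hV hU e x hx, tdN_spec]
  rfl

/-- bookkeeping. -/
theorem le_add_iff_of_eq {d d' : ℕ∞} {c : WithBot ℕ∞} {t : ℕ} (hd : d = d')
    (hc : c = ((t : ℕ) : WithBot ℕ∞)) (n : ℕ) :
    ((n : ℕ) : WithBot ℕ∞) ≤ ((d : ℕ∞) : WithBot ℕ∞) + c ↔ (n : ℕ∞) ≤ d' + (t : ℕ∞) := by
  subst hd hc
  have h1 : ((t : ℕ) : WithBot ℕ∞) = (((t : ℕ∞)) : WithBot ℕ∞) := rfl
  have h2 : ((n : ℕ) : WithBot ℕ∞) = (((n : ℕ∞)) : WithBot ℕ∞) := rfl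
  rw [h1, h2, ← WithBot.coe_add, WithBot.coe_le_coe]

/-- the chart: in an affine chart `U ≤ f⁻¹ V` the rectified depth condition at `y ∈ U` is the
ring-level condition at the prime of `y`. -/
theorem fibre_rdepth_le_iff {X Y : Scheme.{u}} (f : X ⟶ Y) [LocallyOfFiniteType f]
    (F : X.Modules) [F.IsQuasicoherent] {V : Y.Opens} (hV : IsAffineOpen V) {U : X.Opens}
    (hU : IsAffineOpen U) (e : U ≤ f ⁻¹ᵁ V) (hft : (f.appLE V U e).hom.FiniteType)
    (hfin : Module.Finite Γ(X, U) Γ(F, U)) (n : ℕ) (y : X) (hy : y ∈ U) :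
    letI := (f.appLE V U e).hom.toAlgebra
    (((n : ℕ) : WithBot ℕ∞) ≤
      ((depth ((f.fiber (f.base y)).presheaf.stalk (f.asFiber y))
        (((Scheme.Modules.pullback (f.fiberι (f.base y))).obj F).presheaf.stalk (f.asFiber y)) : ℕ∞) :
          WithBot ℕ∞) +
        topologicalKrullDim ↥(closure ({f.asFiber y} : Set ↥(f.fiber (f.base y))))) ↔
      hU.primeIdealOf ⟨y, hy⟩ ∈ rdepthLocus Γ(Y, V) Γ(X, U) Γ(F, U) n := by
  letI := (f.appLE V U e).hom.toAlgebra
  have hy' : f.fiberι (f.base y) (f.asFiber y) ∈ U := by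
    rw [f.fiberι_asFiber]
    exact hy
  obtain ⟨hd, -⟩ := depth_supportDim_fibre_stalk f F hV hU e hft hfin (f.base y) (f.asFiber y) hy'
  have hq : hU.primeIdealOf ⟨f.fiberι (f.base y) (f.asFiber y), hy'⟩ = hU.primeIdealOf ⟨y, hy⟩ := by
    congr 1
    exact Subtype.ext (f.fiberι_asFiber y)
  obtain ⟨hc1, -⟩ := depth_supportDim_fibLocMod_congr Γ(Y, V) Γ(X, U) Γ(F, U)
    (congrArg PrimeSpectrum.asIdeal hq)
  exact le_add_iff_of_eq (hd.trans hc1) (dim_closure_asFiber f hV hU e hft y hy) n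

/-- **EGA IV 12.3**: lower semicontinuity of the rectified depth of the fibre stalks of a finitely
presented module flat over the base. -/
theorem isOpen_setOf_le_fibre_rectifiedDepth {X Y : Scheme.{u}} (f : X ⟶ Y)
    [LocallyOfFinitePresentation f] (F : X.Modules) (hF : CohB1.IsFP F)
    (hflat : FlatMod.IsFlatOver f F) (n : ℕ) :
    IsOpen {x : X | ((n : ℕ) : WithBot ℕ∞) ≤
      ((depth ((f.fiber (f.base x)).presheaf.stalk (f.asFiber x))
        (((Scheme.Modules.pullback (f.fiberι (f.base x))).obj F).presheaf.stalk (f.asFiber x)) : ℕ∞) :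
          WithBot ℕ∞) +
        topologicalKrullDim ↥(closure ({f.asFiber x} : Set ↥(f.fiber (f.base x))))} := by
  haveI hF' : SheafOfModules.IsFinitePresentation (R := X.ringCatSheaf) F := hF
  haveI : F.IsQuasicoherent := SheafOfModules.instIsQuasicoherentOfIsFinitePresentation F
  rw [isOpen_iff_forall_mem_open]
  intro x hx
  obtain ⟨_, ⟨V, hV : IsAffineOpen V, rfl⟩, hfxV, -⟩ :=
    Y.isBasis_affineOpens.exists_subset_of_mem_open (Set.mem_univ (f x)) isOpen_univ
  obtain ⟨_, ⟨U, hU : IsAffineOpen U, rfl⟩, hxU, hUV'⟩ :=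
    X.isBasis_affineOpens.exists_subset_of_mem_open
      (show x ∈ (f ⁻¹ᵁ V : Set X) from hfxV) (f ⁻¹ᵁ V).isOpen
  have hUV : U ≤ f ⁻¹ᵁ V := hUV'
  have hfp : (f.appLE V U hUV).hom.FinitePresentation := f.finitePresentation_appLE hV hU hUV
  letI := (f.appLE V U hUV).hom.toAlgebra
  haveI : Algebra.FinitePresentation Γ(Y, V) Γ(X, U) := hfp
  haveI hMfp : Module.FinitePresentation Γ(X, U) Γ(F, U) :=
    Groth.Agent.Lib.helper16.CohFP.fp_sections_of_isFinitePresentation F hF hU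
  letI := modSecBase f F hUV
  haveI := isScalarTower_sections f F hUV
  haveI : Module.Flat Γ(Y, V) Γ(F, U) :=
    flat_sections_of_isFlatOverAt f F hUV hU hV (fun x _ => hflat x)
  have hopen := isOpen_rdepthLocus Γ(Y, V) Γ(X, U) Γ(F, U) n
  have hft : (f.appLE V U hUV).hom.FiniteType := RingHom.FiniteType.of_finitePresentation hfp
  have hfin : Module.Finite Γ(X, U) Γ(F, U) := inferInstance
  have key := fibre_rdepth_le_iff f F hV hU hUV hft hfin n
  refine ⟨hU.fromSpec '' rdepthLocus Γ(Y, V) Γ(X, U) Γ(F, U) n, ?_,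
    hU.fromSpec.isOpenEmbedding.isOpenMap _ hopen, ?_⟩
  · rintro _ ⟨q, hq, rfl⟩
    have hyU : hU.fromSpec q ∈ U := by
      rw [← SetLike.mem_coe, ← hU.range_fromSpec]
      exact Set.mem_range_self q
    have hq' : hU.primeIdealOf ⟨hU.fromSpec q, hyU⟩ = q :=
      hU.fromSpec.isOpenEmbedding.injective (hU.fromSpec_primeIdealOf ⟨hU.fromSpec q, hyU⟩)
    refine (key _ hyU).mpr ?_
    rw [hq']
    exact hq
  · exact ⟨hU.primeIdealOf ⟨x, hxU⟩, (key x hxU).mp hx, hU.fromSpec_primeIdealOf ⟨x, hxU⟩⟩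

end Groth.Agent.Lib.Helper24.FibRd
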