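import Mathlib
import Groth.Prelude.Def_EGA4b
import Groth.Prelude.Def_FDesc
import Groth.Agent.Lib.Helper24.FibMd2
import Groth.Agent.Lib.Helper24.FibRd5
import Groth.Agent.Lib.Helper26.CM3
import Groth.Agent.Lib.Helper26.DepthCR

/-!
# Associated points of fibre modules in families (helper24), part 2: the geometric chart

* `isAssociatedPrime_maximalIdeal_iff`: over a Noetherian local ring the maximal ideal is associated
  to a finite module iff the depth is zero.
* `mem_Ass_fibre_iff`: a point `z` of the fibre `X_s` is an associated point of `F|X_s` iff the fibre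
  stalk at the prime of `z` (in an affine chart) has depth zero.
* `dim_closure_fibre_point`: `dim cl{z} = tdN` of the prime of `z`.
-/

set_option autoImplicit false
universe u

namespace Groth.Agent.Lib.Helper24.AssFib

open AlgebraicGeometry CategoryTheory IsLocalRing LocCoh
  Groth.Agent.Lib.helper17.FibreStalk Groth.Agent.Lib.helper17.StalkPullback
  Groth.Agent.Lib.helper16.CohStalk Groth.Agent.Lib.helper17.FlatOver1
  Groth.Agent.Lib.helper3.DimIneq Groth.Agent.Lib.helper3.FTField
  Groth.Agent.Lib.helper3.FibreField Groth.Agent.Lib.Helper24.FibCod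
  Groth.Agent.Lib.Helper24.FibMd Groth.Agent.Lib.helper26.Depth

attribute [local instance] Groth.Agent.Lib.helper26.SkFlat.isLocalRing_fibLocRing

section local_algebra

/-- over a Noetherian local ring the maximal ideal is associated to a finite module iff the depth
is zero. -/
theorem isAssociatedPrime_maximalIdeal_iff (R : Type u) [CommRing R] [IsLocalRing R]
    [IsNoetherianRing R] (T : Type u) [AddCommGroup T] [Module R T] [Module.Finite R T] :
    IsAssociatedPrime (maximalIdeal R) T ↔ depth R T = 0 := by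
  constructor
  · intro h
    obtain ⟨-, x, hx⟩ := isAssociatedPrime_iff.mp h
    have hx0 : x ≠ 0 := by
      rintro rfl
      have h1 : (1 : R) ∈ (⊥ : Submodule R T).colon {(0 : T)} := by
        rw [Submodule.mem_colon_singleton, Submodule.mem_bot, smul_zero]
      rw [← hx] at h1
      exact (maximalIdeal.isMaximal R).ne_top ((Ideal.eq_top_iff_one _).mpr h1)
    haveI : Nontrivial T := ⟨⟨x, 0, hx0⟩⟩
    refine idealDepth_eq_zero_of_annihilated _ T (maximalIdeal_smul_top_ne_top T) x hx0 ?_
    intro s hs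
    have h2 : s ∈ (⊥ : Submodule R T).colon {x} := hx ▸ hs
    rwa [Submodule.mem_colon_singleton, Submodule.mem_bot] at h2
  · intro h0
    obtain ⟨Q, hQ, hle⟩ := exists_associatedPrime_ge_of_idealDepth_eq_zero (maximalIdeal R) T h0
    have hQp : Q.IsPrime := hQ.isPrime
    have hQe : Q = maximalIdeal R :=
      ((maximalIdeal.isMaximal R).eq_of_le hQp.ne_top hle).symm
    rw [hQe] at hQ
    exact hQ

end local_algebra

section chart

variable (A B : Type u) [CommRing A] [CommRing B] [Algebra A B] [Algebra.FiniteType A B]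
  (q : Ideal B) [q.IsPrime] (M : Type u) [AddCommGroup M] [Module B M] [Module.Finite B M]
  (S₁ : Type u) [CommRing S₁] [Algebra B S₁] [IsLocalization.AtPrime S₁ q]
  (N : Type u) [AddCommGroup N] [Module B N] [Module S₁ N] [IsScalarTower B S₁ N]
  (g₁ : M →ₗ[B] N) [IsLocalizedModule q.primeCompl g₁]
  (R : Type u) [CommRing R] [IsLocalRing R] [Algebra S₁ R]
  (T : Type u) [AddCommGroup T] [Module S₁ T] [Module R T] [IsScalarTower S₁ R T]
  (ψ : N →ₗ[S₁] T)

include g₁ in
/-- **Abstract chart theorem** for associated points. -/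
theorem isAssociatedPrime_of_chart (hψ : IsBaseChange R ψ)
    (hsurj : Function.Surjective (algebraMap S₁ R))
    (hker : RingHom.ker (algebraMap S₁ R) =
      ((q.comap (algebraMap A B)).map (algebraMap A B)).map (algebraMap B S₁)) :
    IsAssociatedPrime (maximalIdeal R) T ↔
      depth (EGA4.FibLocRing A B q) (EGA4.FibLocMod A B q M) = 0 := by
  rw [← (depth_supportDim_of_chart A B q M S₁ N g₁ R T ψ hψ hsurj hker).1]
  letI algBR : Algebra B R := ((algebraMap S₁ R).comp (algebraMap B S₁)).toAlgebra
  haveI : IsScalarTower B S₁ R := IsScalarTower.of_algebraMap_eq fun _ => rfl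
  letI modBT : Module B T := Module.compHom T (algebraMap B R)
  haveI : IsScalarTower B R T := IsScalarTower.of_algebraMap_smul fun _ _ => rfl
  haveI : IsScalarTower B S₁ T := by
    refine IsScalarTower.of_algebraMap_smul fun b x => ?_
    change algebraMap B S₁ b • x = (algebraMap S₁ R (algebraMap B S₁ b)) • x
    exact (algebraMap_smul R (algebraMap B S₁ b) x).symm
  obtain ⟨σ⟩ := nonempty_algEquiv_fibLocRing A B q S₁ R hsurj hker
  haveI : IsNoetherianRing (EGA4.FibLocRing A B q) :=
    Groth.Agent.Lib.Helper24.FibCod.isNoetherianRing_fibLocRing A B q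
  haveI : IsNoetherianRing R := isNoetherianRing_of_ringEquiv _ σ.symm.toRingEquiv
  have hg : IsBaseChange R ((ψ.restrictScalars B).comp g₁) :=
    IsBaseChange.comp (IsLocalizedModule.isBaseChange q.primeCompl S₁ g₁) hψ
  haveI : Module.Finite R T := Module.Finite.equiv hg.equiv
  exact isAssociatedPrime_maximalIdeal_iff R T

end chart

section geometric

/-- a point of the fibre is an associated point of the restriction of `F` iff the fibre stalk has
depth zero. -/
theorem mem_Ass_fibre_iff {X Y : Scheme.{u}} (f : X ⟶ Y) (F : X.Modules)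
    [F.IsQuasicoherent] {V : Y.Opens} (hV : IsAffineOpen V) {U : X.Opens} (hU : IsAffineOpen U)
    (e : U ≤ f ⁻¹ᵁ V) (hft : (f.appLE V U e).hom.FiniteType)
    (hfin : Module.Finite Γ(X, U) Γ(F, U))
    (s : Y) (z : f.fiber s) (hx : f.fiberι s z ∈ U) :
    letI := (f.appLE V U e).hom.toAlgebra
    z ∈ AssSch.Ass ((Scheme.Modules.pullback (f.fiberι s)).obj F) ↔
      depth (EGA4.FibLocRing Γ(Y, V) Γ(X, U) (hU.primeIdealOf ⟨f.fiberι s z, hx⟩).asIdeal)
        (EGA4.FibLocMod Γ(Y, V) Γ(X, U) (hU.primeIdealOf ⟨f.fiberι s z, hx⟩).asIdeal Γ(F, U)) = 0 := by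
  letI algAB := (f.appLE V U e).hom.toAlgebra
  haveI : Algebra.FiniteType Γ(Y, V) Γ(X, U) := hft
  set ι := f.fiberι s with hι
  set x := ι z with hxdef
  set q := (hU.primeIdealOf ⟨x, hx⟩).asIdeal with hq
  letI algBS : Algebra Γ(X, U) (X.presheaf.stalk x) :=
    TopCat.Presheaf.algebra_section_stalk X.presheaf (⟨x, hx⟩ : U)
  haveI : IsLocalization.AtPrime (X.presheaf.stalk x) q := hU.isLocalization_stalk ⟨x, hx⟩
  letI modBN : Module Γ(X, U) (F.presheaf.stalk x) := modStalk F x hx
  haveI : IsScalarTower Γ(X, U) (X.presheaf.stalk x) (F.presheaf.stalk x) :=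
    isScalarTower_stalk F x hx
  haveI : IsLocalizedModule q.primeCompl (germLin F x hx) := isLocalizedModule_stalk F hU x hx
  letI algSR : Algebra (X.presheaf.stalk x) ((f.fiber s).presheaf.stalk z) :=
    (ι.stalkMap z).hom.toAlgebra
  letI modST : Module (X.presheaf.stalk x)
      (((Scheme.Modules.pullback ι).obj F).presheaf.stalk z) :=
    FlatMod.moduleStalkOver ι ((Scheme.Modules.pullback ι).obj F) z
  haveI : IsScalarTower (X.presheaf.stalk x) ((f.fiber s).presheaf.stalk z)
      (((Scheme.Modules.pullback ι).obj F).presheaf.stalk z) :=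
    isScalarTower_moduleStalkOver ι ((Scheme.Modules.pullback ι).obj F) z
  obtain ⟨ψ, hψ⟩ := exists_isBaseChange_stalk_pullback ι F z
  have hsurj : Function.Surjective
      (algebraMap (X.presheaf.stalk x) ((f.fiber s).presheaf.stalk z)) :=
    ι.stalkMap_surjective z
  have hker : RingHom.ker (algebraMap (X.presheaf.stalk x) ((f.fiber s).presheaf.stalk z)) =
      ((q.comap (algebraMap Γ(Y, V) Γ(X, U))).map (algebraMap Γ(Y, V) Γ(X, U))).map
        (algebraMap Γ(X, U) (X.presheaf.stalk x)) := by
    have h1 : RingHom.ker (algebraMap (X.presheaf.stalk x) ((f.fiber s).presheaf.stalk z)) =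
        (maximalIdeal (Y.presheaf.stalk (f x))).map (f.stalkMap x).hom :=
      ker_fiberι_stalkMap f s z
    rw [h1]
    have hpq : (hV.primeIdealOf ⟨f x, e hx⟩).asIdeal = q.comap (f.appLE V U e).hom :=
      congr($(IsAffineOpen.comap_primeIdealOf_appLE V hV U hU e hx).1).symm
    letI algAO : Algebra Γ(Y, V) (Y.presheaf.stalk (f x)) :=
      TopCat.Presheaf.algebra_section_stalk Y.presheaf (⟨f x, e hx⟩ : V)
    haveI : IsLocalization.AtPrime (Y.presheaf.stalk (f x))
        (hV.primeIdealOf ⟨f x, e hx⟩).asIdeal := hV.isLocalization_stalk ⟨f x, e hx⟩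
    have h2 : maximalIdeal (Y.presheaf.stalk (f x)) =
        (hV.primeIdealOf ⟨f x, e hx⟩).asIdeal.map (algebraMap Γ(Y, V) (Y.presheaf.stalk (f x))) :=
      (IsLocalization.AtPrime.map_eq_maximalIdeal _ _).symm
    rw [h2, Ideal.map_map, Ideal.map_map, hpq]
    congr 1
    ext a
    simp only [RingHom.comp_apply]
    exact (germ_appLE_apply f e x hx a).symm
  exact isAssociatedPrime_of_chart Γ(Y, V) Γ(X, U) q Γ(F, U) (X.presheaf.stalk x)
    (F.presheaf.stalk x) (germLin F x hx) ((f.fiber s).presheaf.stalk z)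
    (((Scheme.Modules.pullback ι).obj F).presheaf.stalk z) ψ hψ hsurj hker

/-- the dimension of the closure of a point of a fibre is the residue transcendence degree. -/
theorem dim_closure_fibre_point {X Y : Scheme.{u}} (f : X ⟶ Y) [LocallyOfFiniteType f]
    {V : Y.Opens} (hV : IsAffineOpen V) {U : X.Opens} (hU : IsAffineOpen U) (e : U ≤ f ⁻¹ᵁ V)
    (hft : (f.appLE V U e).hom.FiniteType) (s : Y) (z : f.fiber s) (hz : f.fiberι s z ∈ U) :
    letI := (f.appLE V U e).hom.toAlgebra
    topologicalKrullDim ↥(closure ({z} : Set ↥(f.fiber s))) =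
      ((tdN Γ(Y, V) (hU.primeIdealOf ⟨f.fiberι s z, hz⟩).asIdeal : ℕ) : WithBot ℕ∞) := by
  letI := (f.appLE V U e).hom.toAlgebra
  haveI : Algebra.FiniteType Γ(Y, V) Γ(X, U) := hft
  letI := fiberOver f s
  haveI : LocallyOfFiniteType ((f.fiber s) ↘
      Spec (CommRingCat.of (Y.residueField s))) := locallyOfFiniteType_fiber f s
  apply dim_closure_eq_trdeg (Y.residueField s) (f.fiber s) z
  change td (Curv2.resMap (Y.residueField s) (f.fiber s) z) = _
  rw [td_resMap_fiber f s z, ← td_quotientMap_eq f hV hU e (f.fiberι s z) hz, tdN_spec]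
  rfl

end geometric

end Groth.Agent.Lib.Helper24.AssFib
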