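import Groth.Agent.Lib.Helper24.QGorSk1

/-!
# `S_k`-morphisms near a point (helper24), part 2: the ring-level neighbourhood

For `A → B` flat of finite presentation, `k ≥ 2`, a closed `C ⊆ Spec B` and a prime `Q` whose fibre
local ring is `(S_k)` and such that the fibre-generizations of `Q` in `C` have fibre local rings of
dimension `≥ n`: there is an open neighbourhood `O` of `Q` and `lam` such that on `O` the fibre local
rings are `(S_k)`, `dim + td = lam`, and on `O ∩ C` the fibre local rings have dimension `≥ n`.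
-/

set_option autoImplicit false
universe u

namespace Groth.Agent.Lib.Helper24.QGorSk

open LocCoh Groth.Agent.Lib.Helper24.FibCod Groth.Agent.Lib.Helper24.FibSk
  Groth.Agent.Lib.Helper24.GRk Groth.Agent.Lib.Helper24.AssFib Groth.Agent.Lib.Helper24.FibRd

attribute [local instance] Groth.Agent.Lib.helper26.SkFlat.isLocalRing_fibLocRing

variable (A B : Type u) [CommRing A] [CommRing B] [Algebra A B] [Algebra.FinitePresentation A B]
  [Module.Flat A B]

theorem exists_open_nhd (k : ℕ) (hk : 2 ≤ k) (C : Set (PrimeSpectrum B)) (hC : IsClosed C)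
    (Q : PrimeSpectrum B)
    (hQ : HasSk k (EGA4.FibLocRing A B Q.asIdeal) (EGA4.FibLocRing A B Q.asIdeal)) (n : ℕ)
    (hn : ∀ q : PrimeSpectrum B, q.asIdeal ≤ Q.asIdeal →
      q.asIdeal.comap (algebraMap A B) = Q.asIdeal.comap (algebraMap A B) → q ∈ C →
        ((n : ℕ) : WithBot ℕ∞) ≤ ringKrullDim (EGA4.FibLocRing A B q.asIdeal)) :
    ∃ (O : Set (PrimeSpectrum B)) (lam : ℕ), IsOpen O ∧ Q ∈ O ∧
      (∀ Q' ∈ O, HasSk k (EGA4.FibLocRing A B Q'.asIdeal) (EGA4.FibLocRing A B Q'.asIdeal)) ∧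
      (∀ Q' ∈ O, ringKrullDim (EGA4.FibLocRing A B Q'.asIdeal) +
        ((tdN A Q'.asIdeal : ℕ) : WithBot ℕ∞) = ((lam : ℕ) : WithBot ℕ∞)) ∧
      (∀ Q' ∈ O, Q' ∈ C →
        ((n : ℕ) : WithBot ℕ∞) ≤ ringKrullDim (EGA4.FibLocRing A B Q'.asIdeal)) := by
  haveI : Algebra.FiniteType A B := Algebra.FiniteType.of_finitePresentation
  have hQe : Q ∈ eqSkLocus A B B k := (mem_eqSkLocus_self_iff_hasSk A B k hk Q).mpr hQ
  obtain ⟨lam, h1, -⟩ := hQe
  set Olam : Set (PrimeSpectrum B) := {Q' | ∀ q : PrimeSpectrum B, q.asIdeal ≤ Q'.asIdeal →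
      q.asIdeal.comap (algebraMap A B) = Q'.asIdeal.comap (algebraMap A B) →
        fdepth A B B q = 0 → tdN A q.asIdeal ∈ ({lam} : Finset ℕ)} with hOlam
  have hOlam_open : IsOpen Olam := isOpen_setOf_assDims_mem A B B {lam}
  set G : Set (PrimeSpectrum B) := genSet A B C (lam + 1 - n) with hG
  have hGc : IsClosed G := isClosed_genSet A B C hC _
  have hdimeq : ∀ Q' ∈ Olam, ringKrullDim (EGA4.FibLocRing A B Q'.asIdeal) +
      ((tdN A Q'.asIdeal : ℕ) : WithBot ℕ∞) = ((lam : ℕ) : WithBot ℕ∞) := fun Q' hQ' =>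
    dim_fibLocRing_add_tdN_eq A B lam Q' hQ' Q' le_rfl rfl
  refine ⟨eqSkLocus A B B k ∩ Olam ∩ Gᶜ, lam,
    ((isOpen_eqSkLocus A B B k).inter hOlam_open).inter hGc.isOpen_compl,
    ⟨⟨(mem_eqSkLocus_self_iff_hasSk A B k hk Q).mpr hQ, h1⟩, ?_⟩, ?_, ?_, ?_⟩
  · rintro ⟨q, hle, hfib, hqC, hm⟩
    have hd := hn q hle hfib hqC
    have he := dim_fibLocRing_add_tdN_eq A B lam Q h1 q hle hfib
    obtain ⟨d, hd'⟩ := exists_nat_dim_fibLocRing' A q.asIdeal
    rw [hd'] at hd he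
    have hd2 : n ≤ d := by exact_mod_cast hd
    have he2 : d + tdN A q.asIdeal = lam := by exact_mod_cast he
    omega
  · rintro Q' ⟨⟨hQ'1, -⟩, -⟩
    exact (mem_eqSkLocus_self_iff_hasSk A B k hk Q').mp hQ'1
  · rintro Q' ⟨⟨-, hQ'2⟩, -⟩
    exact hdimeq Q' hQ'2
  · rintro Q' ⟨⟨-, hQ'2⟩, hQ'3⟩ hQ'C
    have he := hdimeq Q' hQ'2
    obtain ⟨d, hd'⟩ := exists_nat_dim_fibLocRing' A Q'.asIdeal
    rw [hd'] at he ⊢
    have he2 : d + tdN A Q'.asIdeal = lam := by exact_mod_cast he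
    have hnot : ¬ (lam + 1 - n ≤ tdN A Q'.asIdeal) := fun hm =>
      hQ'3 ⟨Q', le_rfl, rfl, hQ'C, hm⟩
    have : n ≤ d := by omega
    exact_mod_cast this

end Groth.Agent.Lib.Helper24.QGorSk
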