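import Groth.Prelude.Def_RelCanon
import Groth.Agent.Lib.Helper24.QGorSk2
import Groth.Agent.Lib.Helper24.AssFib2
import Groth.Agent.Lib.Helper16.FLF5
import Groth.Agent.Lib.Helper3.RelDim
import Groth.Agent.Lib.Helper5.FibreDimLocal

/-!
# `S_k`-morphisms near a point (helper24), part 3: bridges to schemes

* `skAt_structureModule_iff`: `RelCanon.SkAt` for the structure module is `HasSk` of the local ring.
* `nonempty_fibre_stalk_equiv_of_isOpenImmersion`: the fibre local ring is insensitive to open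
  immersions on the source.
* `fibreDimAt_eq_chart`: `dim_x f⁻¹(f x) = td + dim` of the fibre local ring in a chart.
-/

set_option autoImplicit false
universe u

namespace Groth.Agent.Lib.Helper24.QGorSk

open AlgebraicGeometry CategoryTheory IsLocalRing LocCoh
  Groth.Agent.Lib.helper17.FibreStalk
  Groth.Agent.Lib.helper3.DimIneq Groth.Agent.Lib.helper3.FTField
  Groth.Agent.Lib.helper3.FibreField Groth.Agent.Lib.Helper24.FibCod
  Groth.Agent.Lib.Helper24.GRk

attribute [local instance] Groth.Agent.Lib.helper26.SkFlat.isLocalRing_fibLocRing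

/-- the stalk of the structure module. -/
theorem nonempty_stalk_structureModule_equiv {X : Scheme.{u}} (x : X) :
    Nonempty ((Coh.structureModule X).presheaf.stalk x ≃ₗ[X.presheaf.stalk x]
      X.presheaf.stalk x) := by
  obtain ⟨hfree, hfin⟩ := Groth.Agent.Lib.helper16.FLF.free_stalk_of_isFinLocFree _
    (Groth.Agent.Lib.helper16.FLF.isFinLocFree_structureModule X) x
  have hrk := Groth.Agent.Lib.helper16.FLF.finrank_stalk_of_isFinLocFreeOfRank _
    (Groth.Agent.Lib.helper16.FLF.isFinLocFreeOfRank_structureModule X) x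
  obtain ⟨e⟩ := Module.nonempty_linearEquiv_of_finrank_eq_one hrk
  exact ⟨e.symm⟩

theorem skAt_structureModule_iff {X : Scheme.{u}} (k : ℕ) (x : X) :
    RelCanon.SkAt k (Coh.structureModule X) x ↔
      HasSk k (X.presheaf.stalk x) (X.presheaf.stalk x) := by
  obtain ⟨e⟩ := nonempty_stalk_structureModule_equiv x
  exact ⟨Groth.Agent.Lib.helper26.Depth.hasSk_congr k e,
    Groth.Agent.Lib.helper26.Depth.hasSk_congr k e.symm⟩

/-- the fibre ring at a point is insensitive to open immersions on the source. -/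
theorem nonempty_fibRing_equiv_of_isOpenImmersion {X₁ X Y : Scheme.{u}} (j : X₁ ⟶ X)
    [IsOpenImmersion j] (f : X ⟶ Y) (x₁ : X₁) :
    Nonempty (FibRing f (j x₁) ≃+* FibRing (j ≫ f) x₁) := by
  let e : X.presheaf.stalk (j x₁) ≃+* X₁.presheaf.stalk x₁ :=
    RingEquiv.ofBijective (j.stalkMap x₁).hom
      (ConcreteCategory.bijective_of_isIso (j.stalkMap x₁))
  refine ⟨Ideal.quotientEquiv _ _ e ?_⟩
  have h1 : ((j ≫ f).stalkMap x₁).hom = (j.stalkMap x₁).hom.comp (f.stalkMap (j x₁)).hom := by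
    rw [Scheme.Hom.stalkMap_comp]
    rfl
  change Ideal.map ((j ≫ f).stalkMap x₁).hom (maximalIdeal (Y.presheaf.stalk (f (j x₁)))) =
    Ideal.map (j.stalkMap x₁).hom
      (Ideal.map (f.stalkMap (j x₁)).hom (maximalIdeal (Y.presheaf.stalk (f (j x₁)))))
  rw [Ideal.map_map]
  exact congrArg (fun φ => Ideal.map φ (maximalIdeal (Y.presheaf.stalk (f (j x₁))))) h1

/-- the fibre local ring is insensitive to open immersions on the source. -/
theorem nonempty_fibre_stalk_equiv_of_isOpenImmersion {X₁ X Y : Scheme.{u}} (j : X₁ ⟶ X)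
    [IsOpenImmersion j] (f : X ⟶ Y) (x₁ : X₁) :
    Nonempty (((j ≫ f).fiber ((j ≫ f) x₁)).presheaf.stalk ((j ≫ f).asFiber x₁) ≃+*
      (f.fiber (f (j x₁))).presheaf.stalk (f.asFiber (j x₁))) := by
  obtain ⟨E⟩ := nonempty_fibRing_equiv_of_isOpenImmersion j f x₁
  obtain ⟨e1⟩ := nonempty_asFiber_stalk_equiv f (j x₁)
  obtain ⟨e2⟩ := nonempty_asFiber_stalk_equiv (j ≫ f) x₁
  exact ⟨(e2.symm.trans E.symm).trans e1⟩

section chart

variable {X Y : Scheme.{u}} (f : X ⟶ Y) [LocallyOfFiniteType f]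
  {V : Y.Opens} (hV : IsAffineOpen V) {U : X.Opens} (hU : IsAffineOpen U) (e : U ≤ f ⁻¹ᵁ V)

omit [LocallyOfFiniteType f] in
include hV in
/-- the residue transcendence degree of a point of a fibre, in a chart. -/
theorem trdeg_fibre_point (hft : (f.appLE V U e).hom.FiniteType) (s : Y) (z : f.fiber s)
    (hz : f.fiberι s z ∈ U) :
    letI := (f.appLE V U e).hom.toAlgebra
    letI := fiberOver f s
    @Algebra.trdeg (Y.residueField s) ((f.fiber s).residueField z) _ _
        (Curv2.resAlgebra (Y.residueField s) (f.fiber s) z) =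
      ((tdN Γ(Y, V) (hU.primeIdealOf ⟨f.fiberι s z, hz⟩).asIdeal : ℕ) : Cardinal) := by
  letI := (f.appLE V U e).hom.toAlgebra
  haveI : Algebra.FiniteType Γ(Y, V) Γ(X, U) := hft
  letI := fiberOver f s
  change td (Curv2.resMap (Y.residueField s) (f.fiber s) z) = _
  rw [td_resMap_fiber f s z, ← td_quotientMap_eq f hV hU e (f.fiberι s z) hz, tdN_spec]
  rfl

include hV in
/-- the local dimension of the fibre, in a chart. -/
theorem fibreDimAt_eq_chart (hft : (f.appLE V U e).hom.FiniteType) (x : X) (hx : x ∈ U) (d : ℕ)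
    (hd : letI := (f.appLE V U e).hom.toAlgebra
      ringKrullDim (EGA4.FibLocRing Γ(Y, V) Γ(X, U) (hU.primeIdealOf ⟨x, hx⟩).asIdeal) =
        ((d : ℕ) : WithBot ℕ∞)) :
    letI := (f.appLE V U e).hom.toAlgebra
    FlatMor.fibreDimAt f x =
      ((tdN Γ(Y, V) (hU.primeIdealOf ⟨x, hx⟩).asIdeal + d : ℕ) : WithBot ℕ∞) := by
  letI := (f.appLE V U e).hom.toAlgebra
  haveI : Algebra.FiniteType Γ(Y, V) Γ(X, U) := hft
  unfold FlatMor.fibreDimAt
  letI := fiberOver f (f x)
  haveI : LocallyOfFiniteType ((f.fiber (f x)) ↘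
      Spec (CommRingCat.of (Y.residueField (f x)))) := locallyOfFiniteType_fiber f (f x)
  have hz : f.fiberι (f x) (f.asFiber x) ∈ U := by
    rw [f.fiberι_asFiber x]
    exact hx
  have hpt : (⟨f.fiberι (f x) (f.asFiber x), hz⟩ : U) = ⟨x, hx⟩ :=
    Subtype.ext (f.fiberι_asFiber x)
  have ha := trdeg_fibre_point f hV hU e hft (f x) (f.asFiber x) hz
  rw [hpt] at ha
  obtain ⟨ε⟩ := nonempty_fibre_stalk_equiv_fibLocRing f hV hU e x hx
  have hb : ringKrullDim ((f.fiber (f x)).presheaf.stalk (f.asFiber x)) =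
      ((d : ℕ) : WithBot ℕ∞) := by
    rw [ringKrullDim_eq_of_ringEquiv ε]
    exact hd
  exact localDim_eq (Y.residueField (f x)) (f.fiber (f x)) (f.asFiber x) _ d ha hb

end chart

end Groth.Agent.Lib.Helper24.QGorSk
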