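import Mathlib

/-!
# Normal local domains with separably closed fraction field are strictly henselian
-/

open Polynomial IsLocalRing

namespace Groth.Agent.Lib.Helper24.NormalSepClosed

variable (A : Type*) [CommRing A] [IsDomain A] [IsIntegrallyClosed A]
  [IsSepClosed (FractionRing A)]

theorem natDegree_eq_one_of_irreducible {P : A[X]} (hP : P.Monic) (hirr : Irreducible P)
    (hd : derivative P ≠ 0) : P.natDegree = 1 := by
  have h1 : Irreducible (P.map (algebraMap A (FractionRing A))) :=
    (Polynomial.Monic.irreducible_iff_irreducible_map_fraction_map hP).1 hirr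
  have h2 : (P.map (algebraMap A (FractionRing A))).Separable := by
    rw [Polynomial.separable_iff_derivative_ne_zero h1, Polynomial.derivative_map]
    intro h
    apply hd
    exact (Polynomial.map_eq_zero_iff (IsFractionRing.injective A (FractionRing A))).1 h
  have h3 := IsSepClosed.degree_eq_one_of_irreducible _ h1 h2
  rw [Polynomial.degree_map_eq_of_injective (IsFractionRing.injective A _)] at h3
  exact Polynomial.natDegree_eq_of_degree_eq_some h3

theorem hensel [IsLocalRing A] : ∀ (n : ℕ) (g : A[X]), g.natDegree = n → g.Monic → ∀ a₀ : A,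
    g.eval a₀ ∈ maximalIdeal A → IsUnit (g.derivative.eval a₀) →
    ∃ a, g.IsRoot a ∧ a - a₀ ∈ maximalIdeal A := by
  intro n
  induction n using Nat.strong_induction_on with
  | _ n ih =>
  intro g hn hg a₀ h0 h1
  by_cases hirr : Irreducible g
  · have hd : derivative g ≠ 0 := by
      intro h
      rw [h] at h1
      simp at h1
    have h2 := natDegree_eq_one_of_irreducible A hg hirr hd
    have h3 := hg.eq_X_add_C h2
    refine ⟨-(g.coeff 0), ?_, ?_⟩
    · rw [Polynomial.IsRoot.def, h3]
      simp
    · have : g.eval a₀ = a₀ + g.coeff 0 := by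
        conv_lhs => rw [h3]
        simp
      rw [this] at h0
      have h4 : -(g.coeff 0) - a₀ = -(a₀ + g.coeff 0) := by ring
      rw [h4]
      exact neg_mem h0
  · rw [hg.irreducible_iff_natDegree] at hirr
    push Not at hirr
    have hg1 : g ≠ 1 := by
      rintro rfl
      simp at h0
    obtain ⟨f, h, hf, hh, hfh, hf0, hh0⟩ := hirr hg1
    have hdeg : g.natDegree = f.natDegree + h.natDegree := by
      rw [← hfh, hf.natDegree_mul hh]
    have hev : g.eval a₀ = f.eval a₀ * h.eval a₀ := by rw [← hfh, eval_mul]
    have hder : g.derivative.eval a₀ =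
        f.derivative.eval a₀ * h.eval a₀ + f.eval a₀ * h.derivative.eval a₀ := by
      rw [← hfh, derivative_mul, eval_add, eval_mul, eval_mul]
    have hnm : g.derivative.eval a₀ ∉ maximalIdeal A := by
      rwa [mem_maximalIdeal, mem_nonunits_iff, not_not]
    rw [hev] at h0
    rcases (Ideal.IsPrime.mem_or_mem (inferInstance : (maximalIdeal A).IsPrime) h0) with h0 | h0
    · have hu : IsUnit (f.derivative.eval a₀) := by
        by_contra hc
        apply hnm
        rw [hder]
        exact add_mem (Ideal.mul_mem_right _ _ hc) (Ideal.mul_mem_right _ _ h0)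
      obtain ⟨a, ha, ha'⟩ := ih f.natDegree (by omega) f rfl hf a₀ h0 hu
      refine ⟨a, ?_, ha'⟩
      rw [Polynomial.IsRoot.def] at ha ⊢
      rw [← hfh, eval_mul, ha, zero_mul]
    · have hu : IsUnit (h.derivative.eval a₀) := by
        by_contra hc
        apply hnm
        rw [hder]
        exact add_mem (Ideal.mul_mem_left _ _ h0) (Ideal.mul_mem_left _ _ hc)
      obtain ⟨a, ha, ha'⟩ := ih h.natDegree (by omega) h rfl hh a₀ h0 hu
      refine ⟨a, ?_, ha'⟩
      rw [Polynomial.IsRoot.def] at ha ⊢
      rw [← hfh, eval_mul, ha, mul_zero]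

theorem henselianLocalRing [IsLocalRing A] : HenselianLocalRing A where
  is_henselian g hg a₀ h0 h1 := hensel A _ g rfl hg a₀ h0 h1

theorem isSepClosed_residueField [IsLocalRing A] : IsSepClosed (ResidueField A) := by
  apply IsSepClosed.of_exists_root
  intro p hp hirr hsep
  obtain ⟨P, hPp, hPdeg, hP⟩ := Polynomial.lifts_and_natDegree_eq_and_monic
    (Polynomial.mem_lifts_of_surjective (f := residue A) residue_surjective p) hp
  have hPirr : Irreducible P := by
    rw [hP.irreducible_iff_natDegree]
    refine ⟨?_, ?_⟩
    · rintro rfl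
      rw [Polynomial.map_one] at hPp
      exact hirr.not_isUnit (hPp ▸ isUnit_one)
    · intro f h hf hh hfh
      have h1 : f.map (residue A) * h.map (residue A) = p := by
        rw [← Polynomial.map_mul, hfh, hPp]
      have h2 := hirr.isUnit_or_isUnit h1.symm
      rcases h2 with h2 | h2
      · left
        have := Polynomial.natDegree_eq_zero_of_isUnit h2
        rwa [hf.natDegree_map] at this
      · right
        have := Polynomial.natDegree_eq_zero_of_isUnit h2
        rwa [hh.natDegree_map] at this
  have hd : derivative P ≠ 0 := by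
    intro h
    have h1 : derivative p = 0 := by
      rw [← hPp, Polynomial.derivative_map, h, Polynomial.map_zero]
    have h2 := hsep
    rw [Polynomial.separable_def, h1] at h2
    rw [isCoprime_zero_right] at h2
    exact hirr.not_isUnit h2
  have h2 := natDegree_eq_one_of_irreducible A hP hPirr hd
  have h3 := hP.eq_X_add_C h2
  refine ⟨residue A (-(P.coeff 0)), ?_⟩
  rw [← hPp, Polynomial.eval_map, Polynomial.eval₂_at_apply, h3]
  simp

end Groth.Agent.Lib.Helper24.NormalSepClosed
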