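import Mathlib
import Groth.Agent.Lib.Helper24.NormalSepClosed

/-!
# Localizations of integral closures in fixed fields of decomposition-type groups are henselian
-/

set_option autoImplicit false
open IsLocalRing Polynomial

universe u

namespace Groth.Agent.Lib.Helper24.FixedFieldHensel

/-- Uniqueness of Hensel roots. -/
theorem root_unique {C : Type*} [CommRing C] [IsLocalRing C] (g : C[X]) (a₀ x y : C)
    (hu : IsUnit (g.derivative.eval a₀)) (hx : g.IsRoot x) (hy : g.IsRoot y)
    (hxa : x - a₀ ∈ maximalIdeal C) (hya : y - a₀ ∈ maximalIdeal C) : x = y := by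
  obtain ⟨k, hk⟩ := g.binomExpansion x (y - x)
  rw [add_sub_cancel, hy.eq_zero, hx.eq_zero, zero_add] at hk
  have hyx : y - x ∈ maximalIdeal C := by
    have : y - x = (y - a₀) - (x - a₀) := by ring
    rw [this]; exact sub_mem hya hxa
  have hgx : IsUnit (g.derivative.eval x) := by
    by_contra hnu
    have h1 : g.derivative.eval x ∈ maximalIdeal C := hnu
    have h2 : g.derivative.eval x - g.derivative.eval a₀ ∈ maximalIdeal C := by
      obtain ⟨c, hc⟩ := Polynomial.sub_dvd_eval_sub x a₀ g.derivative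
      rw [hc]; exact Ideal.mul_mem_right _ _ hxa
    have h3 : g.derivative.eval a₀ ∈ maximalIdeal C := by
      have : g.derivative.eval a₀ = g.derivative.eval x -
          (g.derivative.eval x - g.derivative.eval a₀) := by ring
      rw [this]; exact sub_mem h1 h2
    exact h3 hu
  have hfac : IsUnit (g.derivative.eval x + k * (y - x)) := by
    by_contra hnu
    have h1 : g.derivative.eval x + k * (y - x) ∈ maximalIdeal C := hnu
    have h2 : g.derivative.eval x ∈ maximalIdeal C := by
      have : g.derivative.eval x = (g.derivative.eval x + k * (y - x)) - k * (y - x) := by ring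
      rw [this]; exact sub_mem h1 (Ideal.mul_mem_left _ _ hyx)
    exact h2 hgx
  have h0 : (g.derivative.eval x + k * (y - x)) * (y - x) = 0 := by
    rw [hk]; ring
  have := (hfac.mul_right_eq_zero).1 h0
  exact (sub_eq_zero.1 this).symm

/-- Descent of the henselian property to a ring of invariants. -/
theorem henselian_of_invariants {B C : Type*} [CommRing B] [IsLocalRing B] [CommRing C]
    [HenselianLocalRing C] (ι : B →+* C) (hι : Function.Injective ι) [IsLocalHom ι]
    (Sg : Set (C →+* C)) (hS1 : ∀ σ ∈ Sg, σ.comp ι = ι)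
    (hS2 : ∀ σ ∈ Sg, ∀ x ∈ maximalIdeal C, σ x ∈ maximalIdeal C)
    (hfix : ∀ c : C, ι.IsIntegralElem c → (∀ σ ∈ Sg, σ c = c) → c ∈ Set.range ι) :
    HenselianLocalRing B := by
  refine ⟨fun f hf a₀ h0 h1 => ?_⟩
  have e0 : (f.map ι).eval (ι a₀) = ι (f.eval a₀) := by
    rw [Polynomial.eval_map, Polynomial.eval₂_hom]
  have e1 : (f.map ι).derivative.eval (ι a₀) = ι (f.derivative.eval a₀) := by
    rw [Polynomial.derivative_map, Polynomial.eval_map, Polynomial.eval₂_hom]
  have h0' : (f.map ι).eval (ι a₀) ∈ maximalIdeal C := by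
    rw [e0]; exact map_nonunit ι _ h0
  have h1' : IsUnit ((f.map ι).derivative.eval (ι a₀)) := by
    rw [e1]; exact h1.map ι
  obtain ⟨c, hc, hca⟩ := HenselianLocalRing.is_henselian (f.map ι) (hf.map ι) (ι a₀) h0' h1'
  have hfixc : ∀ σ ∈ Sg, σ c = c := by
    intro σ hσ
    apply root_unique (f.map ι) (ι a₀) (σ c) c h1' ?_ hc ?_ hca
    · have : f.map ι = (f.map ι).map σ := by
        rw [Polynomial.map_map, hS1 σ hσ]
      rw [Polynomial.IsRoot.def, this, Polynomial.eval_map, Polynomial.eval₂_hom, hc.eq_zero,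
        map_zero]
    · have : σ c - ι a₀ = σ (c - ι a₀) := by
        rw [map_sub]
        congr 1
        exact (congrArg (fun φ => φ a₀) (hS1 σ hσ)).symm
      rw [this]
      exact hS2 σ hσ _ hca
  have hint : ι.IsIntegralElem c := ⟨f, hf, by rw [← Polynomial.eval_map]; exact hc⟩
  obtain ⟨b, rfl⟩ := hfix c hint hfixc
  refine ⟨b, ?_, ?_⟩
  · apply hι
    rw [map_zero, ← Polynomial.eval₂_hom, ← Polynomial.eval_map]
    exact hc
  · by_contra hnu
    have hunit : IsUnit (b - a₀) := by
      by_contra h'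
      exact hnu h'
    have := hunit.map ι
    rw [map_sub] at this
    exact hca this

theorem isSepClosed_of_ringEquiv {k k' : Type*} [Field k] [Field k'] (e : k ≃+* k')
    [IsSepClosed k] : IsSepClosed k' := by
  refine ⟨fun p hp => ?_⟩
  have h1 : (p.map e.symm.toRingHom).Separable := hp.map
  have h2 := IsSepClosed.splits_of_separable _ h1
  have h3 := h2.map e.toRingHom
  rw [Polynomial.map_map] at h3
  have : e.toRingHom.comp e.symm.toRingHom = RingHom.id k' := by
    ext x; simp
  rwa [this, Polynomial.map_id] at h3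

theorem isSepClosed_fractionRing (A Ω : Type*) [CommRing A] [IsDomain A] [Field Ω] [Algebra A Ω]
    [IsFractionRing A Ω] [IsSepClosed Ω] : IsSepClosed (FractionRing A) :=
  isSepClosed_of_ringEquiv (FractionRing.algEquiv A Ω).toRingEquiv.symm

section Loc

variable (Rs Ω : Type u) [CommRing Rs] [IsDomain Rs] [Field Ω] [Algebra Rs Ω]
  [IsFractionRing Rs Ω] (Ps : Ideal Rs) [Ps.IsPrime]

/-- the canonical map from a localization at a prime into the fraction field. -/
noncomputable def toFrac : Localization.AtPrime Ps →+* Ω :=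
  IsLocalization.lift (M := Ps.primeCompl) (g := algebraMap Rs Ω) (fun s => IsUnit.mk0 _ (by
    have : (s : Rs) ≠ 0 := fun h => s.2 (h ▸ Ps.zero_mem)
    exact (map_ne_zero_iff _ (IsFractionRing.injective Rs Ω)).2 this))

theorem toFrac_algebraMap (x : Rs) :
    toFrac Rs Ω Ps (algebraMap Rs (Localization.AtPrime Ps) x) = algebraMap Rs Ω x :=
  IsLocalization.lift_eq _ _

theorem isFractionRing_toFrac :
    letI : Algebra (Localization.AtPrime Ps) Ω := (toFrac Rs Ω Ps).toAlgebra
    IsFractionRing (Localization.AtPrime Ps) Ω := by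
  letI : Algebra (Localization.AtPrime Ps) Ω := (toFrac Rs Ω Ps).toAlgebra
  haveI : IsScalarTower Rs (Localization.AtPrime Ps) Ω :=
    IsScalarTower.of_algebraMap_eq (fun x => (toFrac_algebraMap Rs Ω Ps x).symm)
  exact IsFractionRing.isFractionRing_of_isDomain_of_isLocalization Ps.primeCompl
    (Localization.AtPrime Ps) Ω

theorem toFrac_injective : Function.Injective (toFrac Rs Ω Ps) := by
  letI : Algebra (Localization.AtPrime Ps) Ω := (toFrac Rs Ω Ps).toAlgebra
  haveI := isFractionRing_toFrac Rs Ω Ps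
  exact IsFractionRing.injective (Localization.AtPrime Ps) Ω

theorem isIntegrallyClosed_localization [IsIntegrallyClosed Rs] :
    IsIntegrallyClosed (Localization.AtPrime Ps) :=
  isIntegrallyClosed_of_isLocalization (Localization.AtPrime Ps) Ps.primeCompl
    Ps.primeCompl_le_nonZeroDivisors

/-- The localization of a normal domain with separably closed fraction field at a prime is
henselian. -/
theorem henselian_localization_of_sepClosed [IsIntegrallyClosed Rs] [IsSepClosed Ω] :
    HenselianLocalRing (Localization.AtPrime Ps) := by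
  letI : Algebra (Localization.AtPrime Ps) Ω := (toFrac Rs Ω Ps).toAlgebra
  haveI := isFractionRing_toFrac Rs Ω Ps
  haveI := isIntegrallyClosed_localization Rs Ps
  haveI : IsSepClosed (FractionRing (Localization.AtPrime Ps)) :=
    isSepClosed_fractionRing (Localization.AtPrime Ps) Ω
  exact Groth.Agent.Lib.Helper24.NormalSepClosed.henselianLocalRing (Localization.AtPrime Ps)

end Loc

section Tower

variable (Rs Ω : Type u) [CommRing Rs] [IsDomain Rs] [IsIntegrallyClosed Rs] [Field Ω]
  [Algebra Rs Ω] [IsFractionRing Rs Ω] [IsSepClosed Ω] (Ps : Ideal Rs) [Ps.IsMaximal]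
  (OL L : Type u) [CommRing OL] [IsDomain OL] [IsIntegrallyClosed OL] [Field L]
  [Algebra OL L] [IsFractionRing OL L] [Algebra L Ω]
  (φ : OL →+* Rs)
  (hφ : ∀ y, algebraMap Rs Ω (φ y) = algebraMap L Ω (algebraMap OL L y))
  (Q : Ideal OL) [Q.IsPrime] (hQ : Q = Ps.comap φ)
  (T : Set (Ω →+* Ω))
  (hT1 : ∀ σ ∈ T, ∃ τ : Rs →+* Rs,
    (∀ x, algebraMap Rs Ω (τ x) = σ (algebraMap Rs Ω x)) ∧ ∀ x ∈ Ps, τ x ∈ Ps)
  (hT2 : ∀ σ ∈ T, ∀ l : L, σ (algebraMap L Ω l) = algebraMap L Ω l)
  (hT3 : ∀ γ : Ω, (∀ σ ∈ T, σ γ = γ) → γ ∈ Set.range (algebraMap L Ω))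

include hφ hQ hT1 hT2 hT3 in
theorem henselian_localization_tower : HenselianLocalRing (Localization.AtPrime Q) := by
  haveI hC : HenselianLocalRing (Localization.AtPrime Ps) :=
    henselian_localization_of_sepClosed Rs Ω Ps
  set ι := Localization.localRingHom Q Ps φ hQ with hι
  have hcompat : ∀ b, toFrac Rs Ω Ps (ι b) = algebraMap L Ω (toFrac OL L Q b) := by
    have : (toFrac Rs Ω Ps).comp ι = (algebraMap L Ω).comp (toFrac OL L Q) := by
      apply IsLocalization.ringHom_ext Q.primeCompl
      ext y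
      simp only [RingHom.comp_apply, hι, Localization.localRingHom_to_map, toFrac_algebraMap, hφ]
    intro b
    exact congrArg (fun f => f b) this
  have hιinj : Function.Injective ι := by
    intro b b' h
    apply toFrac_injective OL L Q
    apply (algebraMap L Ω).injective
    rw [← hcompat, ← hcompat, h]
  -- the induced endomorphisms of `C`
  have hcomap : ∀ τ : Rs →+* Rs, (∀ x ∈ Ps, τ x ∈ Ps) → Ps = Ps.comap τ := by
    intro τ hτ
    exact Ideal.IsMaximal.eq_of_le inferInstance (Ideal.comap_ne_top _ (Ideal.IsPrime.ne_top'))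
      (fun x hx => hτ x hx)
  let Sg : Set (Localization.AtPrime Ps →+* Localization.AtPrime Ps) :=
    {τC | ∃ σ ∈ T, ∃ τ : Rs →+* Rs, ∃ h : Ps = Ps.comap τ,
      (∀ x, algebraMap Rs Ω (τ x) = σ (algebraMap Rs Ω x)) ∧
        τC = Localization.localRingHom Ps Ps τ h}
  have hSg : ∀ τC ∈ Sg, ∃ σ ∈ T, ∀ c, toFrac Rs Ω Ps (τC c) = σ (toFrac Rs Ω Ps c) := by
    rintro τC ⟨σ, hσ, τ, h, hτ, rfl⟩
    refine ⟨σ, hσ, ?_⟩
    have : (toFrac Rs Ω Ps).comp (Localization.localRingHom Ps Ps τ h) =
        σ.comp (toFrac Rs Ω Ps) := by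
      apply IsLocalization.ringHom_ext Ps.primeCompl
      ext x
      simp only [RingHom.comp_apply, Localization.localRingHom_to_map, toFrac_algebraMap, hτ]
    intro c
    exact congrArg (fun f => f c) this
  refine henselian_of_invariants ι hιinj Sg ?_ ?_ ?_
  · intro τC hτC
    obtain ⟨σ, hσ, hσc⟩ := hSg τC hτC
    ext b
    apply toFrac_injective Rs Ω Ps
    rw [RingHom.comp_apply, hσc, hcompat, hT2 σ hσ]
  · rintro τC ⟨σ, hσ, τ, h, hτ, rfl⟩ x hx
    exact map_nonunit _ x hx
  · intro c hc hfix
    have h1 : ∀ σ ∈ T, σ (toFrac Rs Ω Ps c) = toFrac Rs Ω Ps c := by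
      intro σ hσ
      obtain ⟨τ, hτ, hτP⟩ := hT1 σ hσ
      have hmem : Localization.localRingHom Ps Ps τ (hcomap τ hτP) ∈ Sg :=
        ⟨σ, hσ, τ, hcomap τ hτP, hτ, rfl⟩
      obtain ⟨σ', hσ', hσc⟩ := hSg _ hmem
      have h2 := hfix _ hmem
      have : (toFrac Rs Ω Ps).comp (Localization.localRingHom Ps Ps τ (hcomap τ hτP)) =
          σ.comp (toFrac Rs Ω Ps) := by
        apply IsLocalization.ringHom_ext Ps.primeCompl
        ext x
        simp only [RingHom.comp_apply, Localization.localRingHom_to_map, toFrac_algebraMap, hτ]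
      have h3 := congrArg (fun f => f c) this
      simp only [RingHom.comp_apply] at h3
      rw [← h3, h2]
    obtain ⟨γL, hγL⟩ := hT3 _ h1
    -- `γL` is integral over `B`
    letI : Algebra (Localization.AtPrime Q) L := (toFrac OL L Q).toAlgebra
    haveI := isFractionRing_toFrac OL L Q
    haveI := isIntegrallyClosed_localization OL Q
    have hint : IsIntegral (Localization.AtPrime Q) γL := by
      obtain ⟨p, hp, hpc⟩ := hc
      refine ⟨p, hp, ?_⟩
      apply (algebraMap L Ω).injective
      rw [map_zero, Polynomial.hom_eval₂, hγL]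
      have : (algebraMap L Ω).comp (algebraMap (Localization.AtPrime Q) L) =
          (toFrac Rs Ω Ps).comp ι := by
        ext b
        exact (hcompat b).symm
      rw [this, ← Polynomial.hom_eval₂, hpc, map_zero]
    obtain ⟨b, hb⟩ := IsIntegrallyClosed.isIntegral_iff.mp hint
    refine ⟨b, ?_⟩
    apply toFrac_injective Rs Ω Ps
    rw [hcompat, ← hγL]
    congr 1

end Tower

section Concrete

variable (R K Ks : Type u) [CommRing R] [IsDomain R] [Field K] [Algebra R K] [IsFractionRing R K]
    [Field Ks] [Algebra K Ks] [IsSepClosure K Ks] [Algebra R Ks] [IsScalarTower R K Ks]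

include K in
theorem algebraMap_inj : ∀ x : R, algebraMap R Ks x = 0 → x = 0 := by
  intro x hx
  rw [IsScalarTower.algebraMap_apply R K Ks, map_eq_zero_iff _ (algebraMap K Ks).injective] at hx
  exact (map_eq_zero_iff _ (IsFractionRing.injective R K)).1 hx

include K in
theorem isAlgebraic_Ks : Algebra.IsAlgebraic R Ks := by
  haveI : Algebra.IsSeparable K Ks := IsSepClosure.separable
  haveI : Algebra.IsAlgebraic K Ks := inferInstance
  exact (IsFractionRing.comap_isAlgebraic_iff (A := R) (K := K) (C := Ks)).2 inferInstance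

theorem henselian_fixedField
    (Ps : Ideal (integralClosure R Ks)) [Ps.IsMaximal]
    (T : Set (Ks ≃ₐ[K] Ks))
    (hT : ∀ σ ∈ T, ∀ x : integralClosure R Ks, x ∈ Ps →
        ∃ h : σ (x : Ks) ∈ integralClosure R Ks, (⟨σ (x : Ks), h⟩ : integralClosure R Ks) ∈ Ps)
    (L : IntermediateField K Ks) (hL : L = IntermediateField.fixedField (Subgroup.closure T))
    (Q : Ideal (integralClosure R L)) [Q.IsPrime]
    (hQ : ∀ y : integralClosure R L, y ∈ Q ↔
      ∃ x : integralClosure R Ks, x ∈ Ps ∧ (x : Ks) = ((y : L) : Ks)) :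
    HenselianLocalRing (Localization.AtPrime Q) := by
  haveI : IsSepClosed Ks := IsSepClosure.sep_closed K
  haveI halg : Algebra.IsAlgebraic R Ks := isAlgebraic_Ks R K Ks
  haveI hfr : IsFractionRing (integralClosure R Ks) Ks :=
    integralClosure.isFractionRing_of_algebraic (A := R) (L := Ks) (algebraMap_inj R K Ks)
  haveI : IsIntegrallyClosed (integralClosure R Ks) :=
    (isIntegrallyClosed_iff_isIntegrallyClosedIn Ks).2 inferInstance
  haveI : IsScalarTower R L Ks := IsScalarTower.of_algebraMap_eq (fun x => rfl)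
  haveI hKL : Algebra.IsAlgebraic K L := Algebra.IsAlgebraic.of_injective (L.val) L.val.injective
  haveI halgL : Algebra.IsAlgebraic R L :=
    (IsFractionRing.comap_isAlgebraic_iff (A := R) (K := K) (C := L)).2 inferInstance
  have hinjL : ∀ x : R, algebraMap R L x = 0 → x = 0 := by
    intro x hx
    apply algebraMap_inj R K Ks
    rw [IsScalarTower.algebraMap_apply R L Ks, hx, map_zero]
  haveI hfrL : IsFractionRing (integralClosure R L) L :=
    integralClosure.isFractionRing_of_algebraic (A := R) (L := L) hinjL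
  haveI : IsIntegrallyClosed (integralClosure R L) :=
    (isIntegrallyClosed_iff_isIntegrallyClosedIn L).2 inferInstance
  -- the inclusion `OL → Rs`
  let φ : integralClosure R L →ₐ[R] integralClosure R Ks :=
    AlgHom.codRestrict ((IsScalarTower.toAlgHom R L Ks).comp (integralClosure R L).val)
      (integralClosure R Ks) (fun y => IsIntegral.map (IsScalarTower.toAlgHom R L Ks) y.2)
  have hφ : ∀ y, algebraMap (integralClosure R Ks) Ks (φ y) =
      algebraMap L Ks (algebraMap (integralClosure R L) L y) := fun y => rfl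
  have hQ' : Q = Ps.comap φ.toRingHom := by
    ext y
    rw [hQ, Ideal.mem_comap]
    constructor
    · rintro ⟨x, hx, hxy⟩
      have : x = φ y := Subtype.ext hxy
      show φ y ∈ Ps
      rw [← this]; exact hx
    · intro h
      exact ⟨φ y, h, rfl⟩
  let T' : Set (Ks →+* Ks) := (fun σ : Ks ≃ₐ[K] Ks => (σ : Ks →+* Ks)) '' T
  refine henselian_localization_tower (integralClosure R Ks) Ks Ps (integralClosure R L) L
    φ.toRingHom hφ Q hQ' T' ?_ ?_ ?_
  · rintro _ ⟨σ, hσ, rfl⟩
    let τ : integralClosure R Ks →ₐ[R] integralClosure R Ks :=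
      AlgHom.codRestrict (((σ.restrictScalars R : Ks ≃ₐ[R] Ks) : Ks →ₐ[R] Ks).comp
        (integralClosure R Ks).val) (integralClosure R Ks)
        (fun y => IsIntegral.map ((σ.restrictScalars R : Ks ≃ₐ[R] Ks) : Ks →ₐ[R] Ks) y.2)
    refine ⟨τ.toRingHom, fun x => rfl, fun x hx => ?_⟩
    obtain ⟨h, hmem⟩ := hT σ hσ x hx
    exact hmem
  · rintro _ ⟨σ, hσ, rfl⟩ l
    have hl : (l : Ks) ∈ IntermediateField.fixedField (Subgroup.closure T) := by
      rw [← hL]; exact l.2
    rw [IntermediateField.mem_fixedField_iff] at hl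
    exact hl σ (Subgroup.subset_closure hσ)
  · intro γ hγ
    have hle : Subgroup.closure T ≤ MulAction.stabilizer (Ks ≃ₐ[K] Ks) γ := by
      rw [Subgroup.closure_le]
      intro σ hσ
      rw [SetLike.mem_coe, MulAction.mem_stabilizer_iff]
      exact hγ _ ⟨σ, hσ, rfl⟩
    have hmem : γ ∈ L := by
      rw [hL, IntermediateField.mem_fixedField_iff]
      intro σ hσ
      exact MulAction.mem_stabilizer_iff.1 (hle hσ)
    exact ⟨⟨γ, hmem⟩, rfl⟩

end Concrete

end Groth.Agent.Lib.Helper24.FixedFieldHensel
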