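import Mathlib
import Groth.Agent.Lib.Helper24.CohenPS
import Groth.Agent.Lib.Helper24.CohenCoeff
import Groth.Agent.Lib.Helper24.CplCatenary

/-!
# Cohen rings: characteristic, and homomorphisms out of power series rings (helper24)

* `cohen_cases`: for a Cohen ring `W` (EGA sense) with `c = ringChar κ(W)`:
  `𝔪_W = (c)`, `c = 0 → W` field, `c ≠ 0 → W` Cohen ring.
* `exists_ps_hom`: ring maps `W⟦X₁..Xₙ⟧ → R` into a complete Noetherian local ring extending a
  local `v : W → R` with prescribed values of the `Xᵢ` in `𝔪_R`.
-/

set_option autoImplicit false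
universe u

namespace Groth.Agent.Lib.Helper24.CohenFlat

open IsLocalRing

theorem cohen_cases (W : Type u) [CommRing W] [IsLocalRing W] (hW : EGA41.IsCohenRingEGA W) :
    maximalIdeal W = Ideal.span {((ringChar (ResidueField W) : ℕ) : W)} ∧
      (ringChar (ResidueField W) = 0 → IsField W) ∧
      (ringChar (ResidueField W) ≠ 0 → CAlg.IsCohenRing W) := by
  rcases hW with ⟨hF, hchar⟩ | hC
  · have hbot : maximalIdeal W = ⊥ := IsLocalRing.isField_iff_maximalIdeal_eq.1 hF
    have hinj : Function.Injective (residue W) := by
      rw [injective_iff_map_eq_zero]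
      intro x hx
      have h1 : x ∈ maximalIdeal W := (IsLocalRing.residue_eq_zero_iff x).1 hx
      rwa [hbot] at h1
    haveI : CharZero (ResidueField W) := charZero_of_injective_ringHom hinj
    have h0 : ringChar (ResidueField W) = 0 := ringChar.eq_zero
    refine ⟨?_, fun _ => hF, fun h => absurd h0 h⟩
    rw [h0, Nat.cast_zero, Ideal.span_singleton_eq_bot.2 rfl, hbot]
  · obtain ⟨hd, hdvr, hc, p, hp, hm⟩ := id hC
    have hp0 : ((p : ℕ) : ResidueField W) = 0 := by
      have : residue W ((p : ℕ) : W) = 0 := by
        rw [IsLocalRing.residue_eq_zero_iff, hm]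
        exact Ideal.mem_span_singleton_self _
      rwa [map_natCast] at this
    have hdvd : ringChar (ResidueField W) ∣ p := ringChar.dvd hp0
    have hne1 : ringChar (ResidueField W) ≠ 1 := CharP.ringChar_ne_one
    have hpe : ringChar (ResidueField W) = p :=
      (Nat.dvd_prime hp).1 hdvd |>.resolve_left hne1
    refine ⟨by rw [hpe, hm], fun h => ?_, fun _ => hC⟩
    rw [hpe] at h
    exact absurd h hp.ne_zero

section pshom

variable {W R : Type u} [CommRing W] [CommRing R] [IsLocalRing R] [IsNoetherianRing R]
  [IsAdicComplete (maximalIdeal R) R]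

theorem exists_ps_hom (v : W →+* R) (n : ℕ) (x : Fin n → R) (hxm : ∀ i, x i ∈ maximalIdeal R) :
    ∃ f : MvPowerSeries (Fin n) W →+* R, f.comp MvPowerSeries.C = v ∧
      (∀ i, f (MvPowerSeries.X i) = x i) := by
  classical
  letI : Algebra W R := v.toAlgebra
  letI : Algebra W (ResidueField R) := ((residue R).comp v).toAlgebra
  let S : ArtFun.CRing W (ResidueField R) :=
    { carrier := R
      res := { (residue R) with commutes' := fun r => rfl }
      res_surjective := IsLocalRing.residue_surjective
      isAdicComplete := inferInstance }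
  obtain ⟨G, hG⟩ := Groth.Agent.LibCR29.exists_ps_algHom S n x hxm
  refine ⟨G.toRingHom, ?_, hG⟩
  ext a
  have h1 := G.commutes a
  rw [MvPowerSeries.algebraMap_apply, Algebra.algebraMap_self, RingHom.id_apply] at h1
  exact h1

end pshom

end Groth.Agent.Lib.Helper24.CohenFlat
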