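import Mathlib
import Groth.Agent.Lib.Helper24.CohenFlat1
import Groth.Agent.Lib.Helper17.Miracle

/-!
# The standard flat extension of power series rings over Cohen rings (helper24)

`P = W_A⟦T₁..Tₙ⟧ → S = W_B⟦Y₁..Y_{d+n}⟧`, `Tⱼ ↦ Y_{d+j}`, where `W_A`, `W_B` are Cohen rings (EGA sense)
with the same residue characteristic `c`.  Then `𝔪_P S = (c, Y_{d+1}, …, Y_{d+n})`, `S/𝔪_P S` is a regular
local ring of dimension `d`, and `S` is flat over `P`.
-/

set_option autoImplicit false
universe u

namespace Groth.Agent.Lib.Helper24.CohenFlat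

open IsLocalRing

section dims

variable (W : Type u) [CommRing W] [IsLocalRing W] (hW : EGA41.IsCohenRingEGA W)

include hW in
theorem field_or_cohen : IsField W ∨ CAlg.IsCohenRing W := by
  rcases hW with ⟨hF, -⟩ | hC
  · exact Or.inl hF
  · exact Or.inr hC

include hW in
theorem isRegularLocalRing_ps (N : ℕ) : IsRegularLocalRing (MvPowerSeries (Fin N) W) :=
  Groth.Agent.Lib.Helper24.CplCatenary.isRegularLocalRing_mvPowerSeries_of_field_or_cohen W
    (field_or_cohen W hW) N

/-- `ε(W)`: `0` for a field, `1` for a Cohen ring. -/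
noncomputable def eps (c : ℕ) : ℕ := if c = 0 then 0 else 1

include hW in
theorem le_dim_ps (c : ℕ) (hc : ringChar (ResidueField W) = c) (N : ℕ) :
    ((N + eps c : ℕ) : WithBot ℕ∞) ≤ ringKrullDim (MvPowerSeries (Fin N) W) := by
  obtain ⟨-, h0, h1⟩ := cohen_cases W hW
  by_cases hc0 : c = 0
  · have hF : IsField W := h0 (hc.trans hc0)
    letI := hF.toField
    have := Groth.Agent.LibObs29.le_ringKrullDim_mvPowerSeries W N
    simpa [eps, hc0] using this
  · obtain ⟨hd, hdvr, -⟩ := h1 (by rw [hc]; exact hc0)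
    have := Groth.Agent.Lib.Helper24.RegPS.le_ringKrullDim_mvPowerSeries W N
    simpa [eps, hc0] using this

end dims

section main

variable (WA WB : Type u) [CommRing WA] [CommRing WB] [IsLocalRing WA] [IsLocalRing WB]
  (hWA : EGA41.IsCohenRingEGA WA) (hWB : EGA41.IsCohenRingEGA WB)
  (c : ℕ) (hcA : ringChar (ResidueField WA) = c) (hcB : ringChar (ResidueField WB) = c)
  (n d : ℕ)
  (τ : MvPowerSeries (Fin n) WA →+* MvPowerSeries (Fin (d + n)) WB)
  (hτX : ∀ j : Fin n, τ (MvPowerSeries.X j) = MvPowerSeries.X (Fin.natAdd d j))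

/-- The ideal `(c, Y_{d+1}, …, Y_{d+n})` of `S`. -/
noncomputable def aIdeal : Ideal (MvPowerSeries (Fin (d + n)) WB) :=
  Ideal.span {((c : ℕ) : MvPowerSeries (Fin (d + n)) WB)} ⊔
    Ideal.span (Set.range fun j : Fin n =>
      (MvPowerSeries.X (Fin.natAdd d j) : MvPowerSeries (Fin (d + n)) WB))

include hWA hcA hτX in
theorem map_maximalIdeal :
    (maximalIdeal (MvPowerSeries (Fin n) WA)).map τ = aIdeal WB c n d := by
  rw [Groth.Agent.LibCR29.maximalIdeal_ps, Ideal.map_sup, (cohen_cases WA hWA).1, hcA,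
    Ideal.map_span, Set.image_singleton, Ideal.map_span, Set.image_singleton, Ideal.map_span,
    map_natCast, map_natCast, ← Set.range_comp]
  unfold aIdeal
  congr 2
  ext x
  constructor
  · rintro ⟨j, rfl⟩
    exact ⟨j, (hτX j).symm⟩
  · rintro ⟨j, rfl⟩
    exact ⟨j, hτX j⟩

include hWB hcB in
theorem maximalIdeal_S :
    maximalIdeal (MvPowerSeries (Fin (d + n)) WB) = aIdeal WB c n d ⊔
      Ideal.span (Set.range fun i : Fin d =>
        (MvPowerSeries.X (Fin.castAdd n i) : MvPowerSeries (Fin (d + n)) WB)) := by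
  rw [Groth.Agent.LibCR29.maximalIdeal_ps, (cohen_cases WB hWB).1, hcB, Ideal.map_span,
    Set.image_singleton, map_natCast]
  unfold aIdeal
  have hset : ((Set.range fun j : Fin n =>
      (MvPowerSeries.X (Fin.natAdd d j) : MvPowerSeries (Fin (d + n)) WB)) ∪
      Set.range fun i : Fin d =>
        (MvPowerSeries.X (Fin.castAdd n i) : MvPowerSeries (Fin (d + n)) WB)) =
      Set.range (MvPowerSeries.X : Fin (d + n) → MvPowerSeries (Fin (d + n)) WB) := by
    ext x
    constructor
    · rintro (⟨j, rfl⟩ | ⟨i, rfl⟩)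
      · exact ⟨_, rfl⟩
      · exact ⟨_, rfl⟩
    · rintro ⟨i, rfl⟩
      refine Fin.addCases (fun i => ?_) (fun j => ?_) i
      · exact Or.inr ⟨i, rfl⟩
      · exact Or.inl ⟨j, rfl⟩
  rw [sup_assoc, ← Ideal.span_union (Set.range fun j : Fin n =>
      (MvPowerSeries.X (Fin.natAdd d j) : MvPowerSeries (Fin (d + n)) WB)), hset]

theorem spanFinrank_aIdeal_le :
    (aIdeal WB c n d).spanFinrank ≤ n + eps c := by
  classical
  by_cases hc0 : c = 0
  · have h1 : aIdeal WB c n d = Ideal.span (Set.range fun j : Fin n =>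
        (MvPowerSeries.X (Fin.natAdd d j) : MvPowerSeries (Fin (d + n)) WB)) := by
      unfold aIdeal
      rw [hc0, Nat.cast_zero, Ideal.span_singleton_eq_bot.2 rfl, bot_sup_eq]
    rw [h1]
    have h2 : (Ideal.span (Set.range fun j : Fin n =>
        (MvPowerSeries.X (Fin.natAdd d j) : MvPowerSeries (Fin (d + n)) WB))).spanFinrank ≤
        (Set.range fun j : Fin n =>
        (MvPowerSeries.X (Fin.natAdd d j) : MvPowerSeries (Fin (d + n)) WB)).ncard :=
      Submodule.spanFinrank_span_le_ncard_of_finite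
      (R := MvPowerSeries (Fin (d + n)) WB) (Set.finite_range fun j : Fin n =>
        (MvPowerSeries.X (Fin.natAdd d j) : MvPowerSeries (Fin (d + n)) WB))
    have h3 : (Set.range fun j : Fin n =>
        (MvPowerSeries.X (Fin.natAdd d j) : MvPowerSeries (Fin (d + n)) WB)).ncard ≤ n := by
      have e : (Set.range fun j : Fin n =>
          (MvPowerSeries.X (Fin.natAdd d j) : MvPowerSeries (Fin (d + n)) WB)) =
          ((Finset.univ.image fun j : Fin n =>
            (MvPowerSeries.X (Fin.natAdd d j) : MvPowerSeries (Fin (d + n)) WB) :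
            Finset (MvPowerSeries (Fin (d + n)) WB)) : Set _) := by simp
      rw [e, Set.ncard_coe_finset]
      exact Finset.card_image_le.trans (by simp)
    have : eps c = 0 := by simp [eps, hc0]
    omega
  · have h1 : aIdeal WB c n d = Ideal.span ({((c : ℕ) : MvPowerSeries (Fin (d + n)) WB)} ∪
        Set.range fun j : Fin n =>
        (MvPowerSeries.X (Fin.natAdd d j) : MvPowerSeries (Fin (d + n)) WB)) := by
      unfold aIdeal
      rw [Ideal.span_union]
    rw [h1]
    have hfin : ({((c : ℕ) : MvPowerSeries (Fin (d + n)) WB)} ∪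
        Set.range fun j : Fin n =>
        (MvPowerSeries.X (Fin.natAdd d j) : MvPowerSeries (Fin (d + n)) WB)).Finite :=
      (Set.finite_singleton _).union (Set.finite_range _)
    have h2 : (Ideal.span ({((c : ℕ) : MvPowerSeries (Fin (d + n)) WB)} ∪
        Set.range fun j : Fin n =>
        (MvPowerSeries.X (Fin.natAdd d j) : MvPowerSeries (Fin (d + n)) WB))).spanFinrank ≤
        ({((c : ℕ) : MvPowerSeries (Fin (d + n)) WB)} ∪
        Set.range fun j : Fin n =>
        (MvPowerSeries.X (Fin.natAdd d j) : MvPowerSeries (Fin (d + n)) WB)).ncard :=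
      Submodule.spanFinrank_span_le_ncard_of_finite
      (R := MvPowerSeries (Fin (d + n)) WB) hfin
    have h3 : ({((c : ℕ) : MvPowerSeries (Fin (d + n)) WB)} ∪
        Set.range fun j : Fin n =>
        (MvPowerSeries.X (Fin.natAdd d j) : MvPowerSeries (Fin (d + n)) WB)).ncard ≤ n + 1 := by
      refine (Set.ncard_union_le _ _).trans ?_
      rw [Set.ncard_singleton, add_comm]
      have : (Set.range fun j : Fin n =>
          (MvPowerSeries.X (Fin.natAdd d j) : MvPowerSeries (Fin (d + n)) WB)).ncard ≤ n := by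
        have e : (Set.range fun j : Fin n =>
            (MvPowerSeries.X (Fin.natAdd d j) : MvPowerSeries (Fin (d + n)) WB)) =
            ((Finset.univ.image fun j : Fin n =>
              (MvPowerSeries.X (Fin.natAdd d j) : MvPowerSeries (Fin (d + n)) WB) :
              Finset (MvPowerSeries (Fin (d + n)) WB)) : Set _) := by simp
        rw [e, Set.ncard_coe_finset]
        exact Finset.card_image_le.trans (by simp)
      omega
    have : eps c = 1 := by simp [eps, hc0]
    omega

include hWB hcB in
/-- `S / (c, Y_{d+1..d+n})` is regular local of dimension `d`, and `dim S = d + n + ε`. -/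
theorem quotient_regular :
    ∃ _ : IsRegularLocalRing (MvPowerSeries (Fin (d + n)) WB ⧸ aIdeal WB c n d),
      ringKrullDim (MvPowerSeries (Fin (d + n)) WB ⧸ aIdeal WB c n d) = (d : WithBot ℕ∞) ∧
      ringKrullDim (MvPowerSeries (Fin (d + n)) WB) = ((d + n + eps c : ℕ) : WithBot ℕ∞) := by
  classical
  haveI hSreg : IsRegularLocalRing (MvPowerSeries (Fin (d + n)) WB) :=
    isRegularLocalRing_ps WB hWB (d + n)
  set S := MvPowerSeries (Fin (d + n)) WB with hS
  let T : Finset S := Finset.univ.image fun i : Fin d => (MvPowerSeries.X (Fin.castAdd n i) : S)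
  have hTcoe : (T : Set S) = Set.range fun i : Fin d => (MvPowerSeries.X (Fin.castAdd n i) : S) := by
    simp [T]
  have hTcard : T.card ≤ d := Finset.card_image_le.trans (by simp)
  have hm : maximalIdeal S = aIdeal WB c n d ⊔ Ideal.span (T : Set S) := by
    rw [hTcoe]
    exact maximalIdeal_S WB hWB c hcB n d
  have hdimS : ((d + n + eps c : ℕ) : WithBot ℕ∞) ≤ ringKrullDim S :=
    le_dim_ps WB hWB c hcB (d + n)
  have hsf : ((maximalIdeal S).spanFinrank : WithBot ℕ∞) = ringKrullDim S :=
    IsRegularLocalRing.spanFinrank_maximalIdeal (R := S)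
  have hsfge : d + n + eps c ≤ (maximalIdeal S).spanFinrank := by
    rw [← hsf] at hdimS
    exact_mod_cast hdimS
  have ha := spanFinrank_aIdeal_le WB c n d
  -- upper bound for spanFinrank of the maximal ideal
  have hfgA : (aIdeal WB c n d).FG := IsNoetherian.noetherian _
  have hsfle : (maximalIdeal S).spanFinrank ≤ (aIdeal WB c n d).spanFinrank + T.card := by
    rw [hm]
    refine (Groth.Agent.Lib.helper15.spanFinrank_sup_le hfgA (IsNoetherian.noetherian _)).trans ?_
    gcongr
    have := Submodule.spanFinrank_span_le_ncard_of_finite (R := S) (T.finite_toSet)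
    rwa [Set.ncard_coe_finset] at this
  have hcard : (aIdeal WB c n d).spanFinrank + T.card ≤ (maximalIdeal S).spanFinrank := by omega
  obtain ⟨hreg, h1, h2⟩ := Groth.Agent.Lib.helper15.isRegularLocalRing_quotient_of_span
    (aIdeal WB c n d) T hm hcard
  have hTd : T.card = d := by omega
  have hSsf : (maximalIdeal S).spanFinrank = d + n + eps c := by omega
  refine ⟨hreg, ?_, ?_⟩
  · rw [← IsRegularLocalRing.spanFinrank_maximalIdeal (R := S ⧸ aIdeal WB c n d), h1, hTd]
  · rw [← hsf, hSsf]

end main

end Groth.Agent.Lib.Helper24.CohenFlat
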