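import Mathlib
import Groth.Agent.Lib.Helper24.CohenFlat2

/-!
# The standard flat extension of power series rings over Cohen rings, part 2 (helper24)

* `dim_ps`: `dim W⟦X₁..X_N⟧ = N + ε`.
* `flat_tau`: `P = W_A⟦T⟧ → S = W_B⟦Y⟧` (`Tⱼ ↦ Y_{d+j}`, local) is flat.
* `ker_eq_aIdeal`: a surjection `S → B₀` onto a regular local ring of dimension `d` killing
  `(c, Y_{d+1..d+n})` has exactly this kernel.
-/

set_option autoImplicit false
universe u

namespace Groth.Agent.Lib.Helper24.CohenFlat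

open IsLocalRing

section dim

variable (W : Type u) [CommRing W] [IsLocalRing W] (hW : EGA41.IsCohenRingEGA W)
  (c : ℕ) (hc : ringChar (ResidueField W) = c)

include hW hc in
theorem dim_ps (N : ℕ) :
    ringKrullDim (MvPowerSeries (Fin N) W) = ((N + eps c : ℕ) : WithBot ℕ∞) := by
  -- use `quotient_regular` with `n = 0`
  obtain ⟨-, -, h⟩ := quotient_regular W hW c hc 0 N
  simpa using h

end dim

section main

variable (WA WB : Type u) [CommRing WA] [CommRing WB] [IsLocalRing WA] [IsLocalRing WB]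
  (hWA : EGA41.IsCohenRingEGA WA) (hWB : EGA41.IsCohenRingEGA WB)
  (c : ℕ) (hcA : ringChar (ResidueField WA) = c) (hcB : ringChar (ResidueField WB) = c)
  (n d : ℕ)
  (τ : MvPowerSeries (Fin n) WA →+* MvPowerSeries (Fin (d + n)) WB)
  (hτX : ∀ j : Fin n, τ (MvPowerSeries.X j) = MvPowerSeries.X (Fin.natAdd d j))

include hWA hWB hcA hcB hτX in
theorem flat_tau [IsLocalHom τ] : τ.Flat := by
  letI : Algebra (MvPowerSeries (Fin n) WA) (MvPowerSeries (Fin (d + n)) WB) := τ.toAlgebra
  show Module.Flat (MvPowerSeries (Fin n) WA) (MvPowerSeries (Fin (d + n)) WB)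
  haveI : IsLocalHom (algebraMap (MvPowerSeries (Fin n) WA) (MvPowerSeries (Fin (d + n)) WB)) :=
    ‹IsLocalHom τ›
  haveI hP : IsRegularLocalRing (MvPowerSeries (Fin n) WA) := isRegularLocalRing_ps WA hWA n
  haveI hS : IsRegularLocalRing (MvPowerSeries (Fin (d + n)) WB) :=
    isRegularLocalRing_ps WB hWB (d + n)
  obtain ⟨hreg, hdq, hdS⟩ := quotient_regular WB hWB c hcB n d
  have hmap : (maximalIdeal (MvPowerSeries (Fin n) WA)).map
      (algebraMap (MvPowerSeries (Fin n) WA) (MvPowerSeries (Fin (d + n)) WB)) =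
      aIdeal WB c n d := map_maximalIdeal WA WB hWA c hcA n d τ hτX
  refine Groth.Agent.Lib.helper17.Miracle.flat_of_cm (MvPowerSeries (Fin n) WA)
    (MvPowerSeries (Fin (d + n)) WB) (MvPowerSeries (Fin (d + n)) WB)
    (Groth.Agent.Lib.Helper24.CplCatenary.isCohenMacaulayModule_of_isRegularLocalRing _) ?_
  rw [Module.supportDim_self_eq_ringKrullDim, hmap, hdS, dim_ps WA hWA c hcA n]
  have e : (aIdeal WB c n d • (⊤ : Submodule (MvPowerSeries (Fin (d + n)) WB)
      (MvPowerSeries (Fin (d + n)) WB))) = aIdeal WB c n d := by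
    rw [smul_eq_mul, Ideal.mul_top]
  rw [e, Module.supportDim_quotient_eq_ringKrullDim, hdq]
  push_cast
  ring

include hWB hcB in
theorem ker_eq_aIdeal {B₀ : Type u} [CommRing B₀] [IsRegularLocalRing B₀]
    (hdim : ringKrullDim B₀ = (d : WithBot ℕ∞))
    (π : MvPowerSeries (Fin (d + n)) WB →+* B₀) (hπ : Function.Surjective π)
    (hle : aIdeal WB c n d ≤ RingHom.ker π) :
    RingHom.ker π = aIdeal WB c n d := by
  obtain ⟨hreg, hdq, -⟩ := quotient_regular WB hWB c hcB n d
  haveI := hreg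
  haveI : IsDomain (MvPowerSeries (Fin (d + n)) WB ⧸ aIdeal WB c n d) :=
    Groth.Agent.Lib.helper15.isDomain_of_isRegularLocalRing _
  let πb : (MvPowerSeries (Fin (d + n)) WB ⧸ aIdeal WB c n d) →+* B₀ :=
    Ideal.Quotient.lift (aIdeal WB c n d) π (fun a ha => hle ha)
  have hπb : Function.Surjective πb := by
    intro b
    obtain ⟨s, rfl⟩ := hπ b
    exact ⟨Ideal.Quotient.mk _ s, rfl⟩
  have hinj : Function.Injective πb := by
    rw [injective_iff_map_eq_zero]
    intro x hx
    by_contra hx0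
    have hnzd : x ∈ nonZeroDivisors (MvPowerSeries (Fin (d + n)) WB ⧸ aIdeal WB c n d) :=
      mem_nonZeroDivisors_of_ne_zero hx0
    have h1 := ringKrullDim_quotient_succ_le_of_nonZeroDivisor hnzd
    let πc : ((MvPowerSeries (Fin (d + n)) WB ⧸ aIdeal WB c n d) ⧸ Ideal.span {x}) →+* B₀ :=
      Ideal.Quotient.lift (Ideal.span {x}) πb (fun a ha => by
        obtain ⟨y, rfl⟩ := Ideal.mem_span_singleton'.1 ha
        rw [map_mul, hx, mul_zero])
    have hπc : Function.Surjective πc := by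
      intro b
      obtain ⟨s, rfl⟩ := hπb b
      exact ⟨Ideal.Quotient.mk _ s, rfl⟩
    have h2 : ringKrullDim B₀ ≤ ringKrullDim ((MvPowerSeries (Fin (d + n)) WB ⧸ aIdeal WB c n d) ⧸
        Ideal.span {x}) := ringKrullDim_le_of_surjective πc hπc
    rw [hdim] at h2
    rw [hdq] at h1
    have h3 : ((d : WithBot ℕ∞) + 1) ≤ (d : WithBot ℕ∞) := (add_le_add_left h2 1).trans h1
    have h4 : ((d + 1 : ℕ) : WithBot ℕ∞) ≤ ((d : ℕ) : WithBot ℕ∞) := by exact_mod_cast h3
    have h5 : d + 1 ≤ d := by exact_mod_cast h4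
    omega
  apply le_antisymm _ hle
  intro s hs
  have : πb (Ideal.Quotient.mk _ s) = 0 := hs
  have h0 := hinj (this.trans (map_zero πb).symm)
  exact Ideal.Quotient.eq_zero_iff_mem.1 h0

end main

end Groth.Agent.Lib.Helper24.CohenFlat
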