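import Mathlib
import Groth.Agent.Lib.Helper24.FlatQuot
import Groth.Agent.Lib.Helper24.N2Reg
import Groth.Agent.Lib.Helper15.Regular

/-!
# Assembling a flat lift from a presentation (helper24)

`assemble`: `A → Ah` flat local with `𝔪_A Ah = 𝔪_Ah`, `ρ : P ↠ Ah`, `τ : P → S` flat into a complete
Noetherian local ring, `π : S ↠ B₀` with kernel `𝔪_P S`, compatible with `k = κ(A) → B₀`.  Then
`B = S / (ker ρ) S` is a complete Noetherian local flat `A`-algebra with `k ⊗_A B ≃ B₀`.
-/

set_option autoImplicit false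
universe u

open TensorProduct IsLocalRing

namespace Groth.Agent.Lib.Helper24.CohenFlat

theorem flat_of_bijective {R R' : Type u} [CommRing R] [CommRing R'] [Algebra R R']
    (h : Function.Bijective (algebraMap R R')) : Module.Flat R R' := by
  haveI : IsLocalization (⊥ : Submonoid R) R' :=
    IsLocalization.of_le_isUnit_of_bijective (by
      rintro _ ⟨x, hx, rfl⟩
      rw [SetLike.mem_coe, Submonoid.mem_bot] at hx
      rw [hx, map_one]
      exact isUnit_one) h
  exact IsLocalization.flat R' (⊥ : Submonoid R)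

theorem assemble {A : Type u} [CommRing A] [IsLocalRing A]
    (Ah : Type u) [CommRing Ah] [IsLocalRing Ah] [Algebra A Ah] [Module.Flat A Ah]
    (hmA : (maximalIdeal A).map (algebraMap A Ah) = maximalIdeal Ah)
    (P : Type u) [CommRing P] [IsLocalRing P] (ρ : P →+* Ah) (hρ : Function.Surjective ρ)
    (S : Type u) [CommRing S] [IsLocalRing S] [IsNoetherianRing S]
    [IsAdicComplete (maximalIdeal S) S]
    (τ : P →+* S) (hτ : τ.Flat)
    (B₀ : Type u) [CommRing B₀] [Algebra (ResidueField A) B₀] [Nontrivial B₀]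
    (π : S →+* B₀) (hπ : Function.Surjective π)
    (hker : RingHom.ker π = (maximalIdeal P).map τ)
    (hcompat : ∀ (a : A) (p : P), ρ p = algebraMap A Ah a →
      π (τ p) = algebraMap (ResidueField A) B₀ (residue A a)) :
    ∃ (B : Type u) (_ : CommRing B) (_ : IsLocalRing B) (_ : IsNoetherianRing B)
      (_ : Algebra A B) (_ : IsLocalHom (algebraMap A B)),
      IsAdicComplete (maximalIdeal B) B ∧ Module.Flat A B ∧
        Nonempty (ResidueField A ⊗[A] B ≃ₐ[ResidueField A] B₀) := by
  classical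
  letI algPS : Algebra P S := τ.toAlgebra
  haveI hflatPS : Module.Flat P S := hτ
  set I : Ideal P := RingHom.ker ρ with hI
  have hIm : I ≤ maximalIdeal P := IsLocalRing.le_maximalIdeal (RingHom.ker_ne_top ρ)
  have hkertop : RingHom.ker π ≠ ⊤ := RingHom.ker_ne_top π
  have hJle : I.map (algebraMap P S) ≤ RingHom.ker π := by
    rw [hker]; exact Ideal.map_mono hIm
  have hJtop : I.map (algebraMap P S) ≠ ⊤ := fun h => hkertop (top_le_iff.1 (h ▸ hJle))
  haveI hlocB : IsLocalRing (S ⧸ I.map (algebraMap P S)) :=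
    Groth.Agent.Lib.helper15.isLocalRing_quotient _ hJtop
  haveI hcplB : IsAdicComplete (maximalIdeal (S ⧸ I.map (algebraMap P S)))
      (S ⧸ I.map (algebraMap P S)) :=
    Groth.Agent.Lib.Helper24.N2Reg.isAdicComplete_quotient S _
  -- `Ah ≃ P/I`
  let e : (P ⧸ I) ≃+* Ah := RingHom.quotientKerEquivOfSurjective hρ
  have he : ∀ p : P, e (Ideal.Quotient.mk I p) = ρ p := fun p => rfl
  letI algAhPI : Algebra Ah (P ⧸ I) := (e.symm : Ah →+* (P ⧸ I)).toAlgebra
  letI algAhB : Algebra Ah (S ⧸ I.map (algebraMap P S)) :=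
    ((algebraMap (P ⧸ I) (S ⧸ I.map (algebraMap P S))).comp (e.symm : Ah →+* (P ⧸ I))).toAlgebra
  haveI : IsScalarTower Ah (P ⧸ I) (S ⧸ I.map (algebraMap P S)) :=
    IsScalarTower.of_algebraMap_eq' rfl
  haveI : Module.Flat Ah (P ⧸ I) := flat_of_bijective e.symm.bijective
  haveI : Module.Flat (P ⧸ I) (S ⧸ I.map (algebraMap P S)) :=
    Groth.Agent.Lib.Helper24.FlatQuot.flat_quotient P S I
  haveI : Module.Flat Ah (S ⧸ I.map (algebraMap P S)) :=
    Module.Flat.trans Ah (P ⧸ I) (S ⧸ I.map (algebraMap P S))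
  letI algAB : Algebra A (S ⧸ I.map (algebraMap P S)) :=
    ((algebraMap Ah (S ⧸ I.map (algebraMap P S))).comp (algebraMap A Ah)).toAlgebra
  haveI : IsScalarTower A Ah (S ⧸ I.map (algebraMap P S)) := IsScalarTower.of_algebraMap_eq' rfl
  haveI hflatAB : Module.Flat A (S ⧸ I.map (algebraMap P S)) :=
    Module.Flat.trans A Ah (S ⧸ I.map (algebraMap P S))
  -- key formula for the structure map
  have hg : ∀ p : P, algebraMap Ah (S ⧸ I.map (algebraMap P S)) (ρ p) =
      Ideal.Quotient.mk _ (τ p) := by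
    intro p
    show algebraMap (P ⧸ I) (S ⧸ I.map (algebraMap P S)) (e.symm (ρ p)) = _
    rw [← he p, RingEquiv.symm_apply_apply]
    rfl
  -- the map to `B₀`
  let ψ : (S ⧸ I.map (algebraMap P S)) →+* B₀ :=
    Ideal.Quotient.lift _ π (fun s hs => hJle hs)
  have hψ : ∀ s : S, ψ (Ideal.Quotient.mk _ s) = π s := fun s => rfl
  have hψsurj : Function.Surjective ψ := by
    intro b
    obtain ⟨s, rfl⟩ := hπ b
    exact ⟨Ideal.Quotient.mk _ s, rfl⟩
  have hψalg : ∀ a : A, ψ (algebraMap A (S ⧸ I.map (algebraMap P S)) a) =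
      algebraMap (ResidueField A) B₀ (residue A a) := by
    intro a
    obtain ⟨p, hp⟩ := hρ (algebraMap A Ah a)
    show ψ (algebraMap Ah (S ⧸ I.map (algebraMap P S)) (algebraMap A Ah a)) = _
    rw [← hp, hg p, hψ]
    exact hcompat a p hp
  -- `A → B` is local
  haveI hlocAB : IsLocalHom (algebraMap A (S ⧸ I.map (algebraMap P S))) := by
    refine ⟨fun a ha => ?_⟩
    by_contra hna
    have hmem : a ∈ maximalIdeal A := (IsLocalRing.mem_maximalIdeal a).2 hna
    have h1 : IsUnit (ψ (algebraMap A (S ⧸ I.map (algebraMap P S)) a)) := ha.map ψ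
    rw [hψalg a, (IsLocalRing.residue_eq_zero_iff a).2 hmem, map_zero] at h1
    exact not_isUnit_zero h1
  -- the kernel of `ψ`
  have hkerψ : RingHom.ker ψ = (maximalIdeal A).map (algebraMap A (S ⧸ I.map (algebraMap P S))) := by
    apply le_antisymm
    · intro x hx
      obtain ⟨s, rfl⟩ := Ideal.Quotient.mk_surjective x
      have hs : s ∈ (maximalIdeal P).map τ := by
        rw [← hker]; exact hx
      -- `(𝔪_P).map τ` maps into `𝔪_A B`
      have hle : (maximalIdeal P).map τ ≤ ((maximalIdeal A).map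
          (algebraMap A (S ⧸ I.map (algebraMap P S)))).comap (Ideal.Quotient.mk _) := by
        rw [Ideal.map_le_iff_le_comap]
        intro p hp
        rw [Ideal.mem_comap, Ideal.mem_comap, ← hg p]
        have hρp : ρ p ∈ maximalIdeal Ah := by
          rw [IsLocalRing.mem_maximalIdeal] at hp ⊢
          intro hu
          apply hp
          haveI : IsLocalHom ρ := IsLocalHom.of_surjective ρ hρ
          exact isUnit_of_map_unit ρ p hu
        rw [← hmA] at hρp
        have : (maximalIdeal A).map (algebraMap A (S ⧸ I.map (algebraMap P S))) =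
            ((maximalIdeal A).map (algebraMap A Ah)).map
              (algebraMap Ah (S ⧸ I.map (algebraMap P S))) := by
          rw [Ideal.map_map]; rfl
        rw [this]
        exact Ideal.mem_map_of_mem _ hρp
      exact hle hs
    · rw [Ideal.map_le_iff_le_comap]
      intro a ha
      rw [Ideal.mem_comap, RingHom.mem_ker, hψalg a, (IsLocalRing.residue_eq_zero_iff a).2 ha,
        map_zero]
  -- the fibre
  letI algAB₀ : Algebra A B₀ :=
    ((algebraMap (ResidueField A) B₀).comp (algebraMap A (ResidueField A))).toAlgebra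
  haveI : IsScalarTower A (ResidueField A) B₀ := IsScalarTower.of_algebraMap_eq' rfl
  let ψA : (S ⧸ I.map (algebraMap P S)) →ₐ[A] B₀ :=
    { ψ with commutes' := fun a => hψalg a }
  let F : ResidueField A ⊗[A] (S ⧸ I.map (algebraMap P S)) →ₐ[ResidueField A] B₀ :=
    Algebra.TensorProduct.lift (Algebra.ofId (ResidueField A) B₀) ψA (fun _ _ => Commute.all _ _)
  have hF : ∀ b, F (1 ⊗ₜ b) = ψ b := by
    intro b
    show (Algebra.ofId (ResidueField A) B₀) 1 * ψA b = _
    rw [map_one, one_mul]
    rfl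
  have hFsurj : Function.Surjective F := by
    intro b
    obtain ⟨x, rfl⟩ := hψsurj b
    exact ⟨1 ⊗ₜ x, hF x⟩
  have hFinj : Function.Injective F := by
    let ε := Algebra.TensorProduct.quotIdealMapEquivQuotTensor (S ⧸ I.map (algebraMap P S))
      (maximalIdeal A)
    rw [injective_iff_map_eq_zero]
    intro z hz
    obtain ⟨y, rfl⟩ := ε.surjective z
    obtain ⟨b, rfl⟩ := Ideal.Quotient.mk_surjective y
    have h1 : ε (Ideal.Quotient.mk _ b) = 1 ⊗ₜ b := rfl
    have h2 : ψ b = 0 := by
      rw [← hF b]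
      exact hz
    have h3 : b ∈ (maximalIdeal A).map (algebraMap A (S ⧸ I.map (algebraMap P S))) := by
      rw [← hkerψ]; exact h2
    rw [Ideal.Quotient.eq_zero_iff_mem.2 h3, map_zero]
    rfl
  exact ⟨S ⧸ I.map (algebraMap P S), inferInstance, hlocB, inferInstance, algAB, hlocAB, hcplB,
    hflatAB, ⟨AlgEquiv.ofBijective F ⟨hFinj, hFsurj⟩⟩⟩

end Groth.Agent.Lib.Helper24.CohenFlat
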