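import Mathlib
import Groth.Agent.Lib.Helper24.CohenFlat3
import Groth.Agent.Lib.Helper24.CohenFlat4
import Groth.Agent.S2456

/-!
# Flat lifts of complete regular local rings (EGA 0_IV 19.7.1.5 / 19.8.x), helper24

* `exists_gens`: generators of an f.g. ideal indexed by `Fin spanFinrank`.
* `exists_flat_lift`: `A → Ah` flat local with `𝔪_A Ah = 𝔪_Ah`, `Ah` complete Noetherian local,
  `B₀` complete regular local `κ(A)`-algebra (compatibly a `κ(Ah)`-algebra via `θ₀`).  Then there is a
  complete Noetherian local flat `A`-algebra `B` with `κ(A) ⊗_A B ≃ B₀`.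
-/

set_option autoImplicit false
universe u

open TensorProduct IsLocalRing

namespace Groth.Agent.Lib.Helper24.CohenFlat

theorem exists_gens {R : Type u} [CommRing R] (I : Ideal R) (hI : I.FG) :
    ∃ x : Fin (Submodule.spanFinrank I) → R, Ideal.span (Set.range x) = I := by
  classical
  have hfin : (Submodule.generators I).Finite := Submodule.FG.finite_generators hI
  have hcard : (Submodule.generators I).ncard = Submodule.spanFinrank I :=
    Submodule.FG.generators_ncard hI
  haveI := hfin.fintype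
  have hc : Fintype.card (Submodule.generators I) = Submodule.spanFinrank I := by
    rw [← hcard, Set.ncard_eq_toFinset_card', Set.toFinset_card]
  let e : Fin (Submodule.spanFinrank I) ≃ Submodule.generators I :=
    (Fintype.equivFinOfCardEq hc).symm
  refine ⟨fun i => (e i : R), ?_⟩
  have : Set.range (fun i => (e i : R)) = Submodule.generators I := by
    ext r
    constructor
    · rintro ⟨i, rfl⟩
      exact (e i).2
    · intro hr
      exact ⟨e.symm ⟨r, hr⟩, by simp⟩
  rw [this]
  exact Submodule.span_generators I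

theorem isLocalHom_of_field {K R : Type u} [Field K] [CommRing R] [Nontrivial R] (f : K →+* R) :
    IsLocalHom f := by
  refine ⟨fun a ha => ?_⟩
  have : a ≠ 0 := by
    rintro rfl
    rw [map_zero] at ha
    exact not_isUnit_zero ha
  exact this.isUnit

theorem exists_flat_lift {A : Type u} [CommRing A] [IsLocalRing A]
    (Ah : Type u) [CommRing Ah] [IsLocalRing Ah] [IsNoetherianRing Ah]
    [IsAdicComplete (maximalIdeal Ah) Ah] [Algebra A Ah] [Module.Flat A Ah]
    (hmA : (maximalIdeal A).map (algebraMap A Ah) = maximalIdeal Ah)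
    (B₀ : Type u) [CommRing B₀] [IsRegularLocalRing B₀] [IsAdicComplete (maximalIdeal B₀) B₀]
    [Algebra (ResidueField A) B₀]
    (θ₀ : ResidueField Ah →+* B₀)
    (hθ₀ : ∀ a : A, θ₀ (residue Ah (algebraMap A Ah a)) =
      algebraMap (ResidueField A) B₀ (residue A a)) :
    ∃ (B : Type u) (_ : CommRing B) (_ : IsLocalRing B) (_ : IsNoetherianRing B)
      (_ : Algebra A B) (_ : IsLocalHom (algebraMap A B)),
      IsAdicComplete (maximalIdeal B) B ∧ Module.Flat A B ∧
        Nonempty (ResidueField A ⊗[A] B ≃ₐ[ResidueField A] B₀) := by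
  classical
  obtain ⟨WA, _, _, hWA, hWAn, hWAc, vA, eA, hvAloc, hvA⟩ :=
    Groth.Agent.Lib.Helper24.CohenCoeff.exists_coeff_ring Ah
  obtain ⟨WB, _, _, hWB, hWBn, hWBc, vB, eB, hvBloc, hvB⟩ :=
    Groth.Agent.Lib.Helper24.CohenCoeff.exists_coeff_ring B₀
  haveI := hWAn; haveI := hWAc; haveI := hWBn; haveI := hWBc; haveI := hvAloc; haveI := hvBloc
  -- generators
  obtain ⟨x, hx⟩ := exists_gens (maximalIdeal Ah) (IsNoetherian.noetherian _)
  obtain ⟨y, hy⟩ := exists_gens (maximalIdeal B₀) (IsNoetherian.noetherian _)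
  have hdim : ringKrullDim B₀ = ((Submodule.spanFinrank (maximalIdeal B₀) : ℕ) : WithBot ℕ∞) :=
    (IsRegularLocalRing.spanFinrank_maximalIdeal (R := B₀)).symm
  generalize Submodule.spanFinrank (maximalIdeal Ah) = n at x hx
  generalize Submodule.spanFinrank (maximalIdeal B₀) = d at y hy hdim
  -- the presentation of `Ah`
  have hresA : Function.Surjective ((residue Ah).comp vA) := by
    intro z
    obtain ⟨w, hw⟩ := IsLocalRing.residue_surjective (eA.symm z)
    refine ⟨w, ?_⟩
    rw [RingHom.comp_apply, hvA, hw, RingEquiv.apply_symm_apply]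
  have hxA : maximalIdeal Ah = (maximalIdeal WA).map vA ⊔ Ideal.span (Set.range x) := by
    apply le_antisymm
    · rw [hx]; exact le_sup_right
    · refine sup_le ?_ (le_of_eq hx)
      exact ((IsLocalRing.local_hom_TFAE vA).out 0 2).1 hvAloc
  obtain ⟨ρ, hρC, hρX, hρsurj, hρm⟩ :=
    Groth.Agent.Lib.Helper24.CohenPS.exists_ps_surjective vA hresA n x hxA
  -- the presentation of `B₀`
  have hresB : Function.Surjective ((residue B₀).comp vB) := by
    intro z
    obtain ⟨w, hw⟩ := IsLocalRing.residue_surjective (eB.symm z)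
    refine ⟨w, ?_⟩
    rw [RingHom.comp_apply, hvB, hw, RingEquiv.apply_symm_apply]
  let y' : Fin (d + n) → B₀ := Fin.addCases (motive := fun _ => B₀) y (fun _ => 0)
  have hy'l : ∀ i : Fin d, y' (Fin.castAdd n i) = y i := fun i =>
    Fin.addCases_left (motive := fun _ => B₀) i
  have hy'r : ∀ j : Fin n, y' (Fin.natAdd d j) = 0 := fun j =>
    Fin.addCases_right (motive := fun _ => B₀) j
  have hy'mem : ∀ i, y' i ∈ maximalIdeal B₀ := by
    intro i
    refine Fin.addCases (fun i => ?_) (fun j => ?_) i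
    · rw [hy'l, ← hy]
      exact Ideal.subset_span ⟨i, rfl⟩
    · rw [hy'r]
      exact Ideal.zero_mem _
  have hyB : maximalIdeal B₀ = (maximalIdeal WB).map vB ⊔ Ideal.span (Set.range y') := by
    apply le_antisymm
    · rw [← hy]
      refine le_trans ?_ le_sup_right
      rw [Ideal.span_le]
      rintro _ ⟨i, rfl⟩
      exact Ideal.subset_span ⟨Fin.castAdd n i, hy'l i⟩
    · refine sup_le ?_ ?_
      · exact ((IsLocalRing.local_hom_TFAE vB).out 0 2).1 hvBloc
      · rw [Ideal.span_le]
        rintro _ ⟨i, rfl⟩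
        exact hy'mem i
  obtain ⟨π, hπC, hπX, hπsurj, hπm⟩ :=
    Groth.Agent.Lib.Helper24.CohenPS.exists_ps_surjective vB hresB (d + n) y' hyB
  -- instances on `S`
  haveI hSreg : IsRegularLocalRing (MvPowerSeries (Fin (d + n)) WB) :=
    isRegularLocalRing_ps WB hWB (d + n)
  haveI hScpl : IsAdicComplete (maximalIdeal (MvPowerSeries (Fin (d + n)) WB))
      (MvPowerSeries (Fin (d + n)) WB) :=
    Groth.Agent.LibCR29.isAdicComplete_mvPowerSeries (d + n) WB
  -- the map `WA → B₀`
  let θ : WA →+* B₀ := θ₀.comp ((residue Ah).comp vA)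
  haveI hθ₀loc : IsLocalHom θ₀ := isLocalHom_of_field θ₀
  haveI hθloc : IsLocalHom θ := by
    haveI : IsLocalHom ((residue Ah).comp vA) := RingHom.isLocalHom_comp _ _
    exact RingHom.isLocalHom_comp _ _
  -- lift along `π`
  have hJ : RingHom.ker π ≠ ⊤ := RingHom.ker_ne_top π
  haveI hlocQ : IsLocalRing (MvPowerSeries (Fin (d + n)) WB ⧸ RingHom.ker π) :=
    Groth.Agent.Lib.helper15.isLocalRing_quotient _ hJ
  let eπ : (MvPowerSeries (Fin (d + n)) WB ⧸ RingHom.ker π) ≃+* B₀ :=
    RingHom.quotientKerEquivOfSurjective hπsurj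
  have heπ : ∀ s, eπ (Ideal.Quotient.mk _ s) = π s := fun s => rfl
  let u : WA →+* (MvPowerSeries (Fin (d + n)) WB ⧸ RingHom.ker π) :=
    (eπ.symm : B₀ →+* _).comp θ
  haveI huloc : IsLocalHom u := by
    haveI : IsLocalHom (eπ.symm : B₀ →+* (MvPowerSeries (Fin (d + n)) WB ⧸ RingHom.ker π)) :=
      ⟨fun a ha => by
        have := ha.map (eπ : _ →+* B₀)
        simpa using this⟩
    exact RingHom.isLocalHom_comp _ _
  obtain ⟨φ, hφloc, hφ⟩ := Groth.Agent.S2456.result hWA (RingHom.ker π) hJ u
  have hπφ : ∀ w : WA, π (φ w) = θ w := by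
    intro w
    have h1 : Ideal.Quotient.mk (RingHom.ker π) (φ w) = u w := by
      rw [← hφ]; rfl
    have h2 := congrArg eπ h1
    rw [heπ] at h2
    rw [h2]
    show eπ (eπ.symm (θ w)) = θ w
    exact eπ.apply_symm_apply _
  -- `τ`
  obtain ⟨τ, hτC, hτX⟩ := exists_ps_hom φ n
    (fun j => (MvPowerSeries.X (Fin.natAdd d j) : MvPowerSeries (Fin (d + n)) WB))
    (fun j => Groth.Agent.LibCR29.X_mem_maximalIdeal_ps _)
  -- characteristics
  set c : ℕ := ringChar (ResidueField WA) with hc
  have hcA : ringChar (ResidueField WA) = c := rfl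
  have hcB : ringChar (ResidueField WB) = c := by
    let f : ResidueField WA →+* ResidueField WB :=
      ((eB.symm : ResidueField B₀ →+* ResidueField WB).comp (residue B₀)).comp
        (θ₀.comp (eA : ResidueField WA →+* ResidueField Ah))
    haveI : CharP (ResidueField WA) c := ringChar.charP _
    haveI : CharP (ResidueField WB) c := (RingHom.charP_iff f f.injective c).1 inferInstance
    exact ringChar.eq _ c
  have hc0 : ((c : ℕ) : B₀) = 0 := by
    haveI : CharP (ResidueField WA) c := ringChar.charP _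
    have h1 : ((c : ℕ) : ResidueField WA) = 0 := CharP.cast_eq_zero _ _
    have h2 := congrArg (θ₀.comp (eA : ResidueField WA →+* ResidueField Ah)) h1
    rwa [map_natCast, map_zero] at h2
  -- `aIdeal ≤ ker π`
  have hle : aIdeal WB c n d ≤ RingHom.ker π := by
    unfold aIdeal
    refine sup_le ?_ ?_
    · rw [Ideal.span_le]
      rintro _ rfl
      rw [SetLike.mem_coe, RingHom.mem_ker, map_natCast, hc0]
    · rw [Ideal.span_le]
      rintro _ ⟨j, rfl⟩
      rw [SetLike.mem_coe, RingHom.mem_ker, hπX, hy'r]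
  have hker0 : RingHom.ker π = aIdeal WB c n d :=
    ker_eq_aIdeal WB hWB c hcB n d hdim π hπsurj hle
  have hmap : (maximalIdeal (MvPowerSeries (Fin n) WA)).map τ = aIdeal WB c n d :=
    map_maximalIdeal WA WB hWA c hcA n d τ hτX
  have hker : RingHom.ker π = (maximalIdeal (MvPowerSeries (Fin n) WA)).map τ := by
    rw [hker0, hmap]
  -- `τ` is local
  haveI hτloc : IsLocalHom τ := by
    refine ⟨fun p hp => ?_⟩
    by_contra hnp
    have hpm : p ∈ maximalIdeal (MvPowerSeries (Fin n) WA) := (IsLocalRing.mem_maximalIdeal p).2 hnp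
    have h1 : τ p ∈ RingHom.ker π := by
      rw [hker]; exact Ideal.mem_map_of_mem _ hpm
    have h2 : RingHom.ker π ≤ maximalIdeal (MvPowerSeries (Fin (d + n)) WB) :=
      IsLocalRing.le_maximalIdeal hJ
    exact (IsLocalRing.mem_maximalIdeal _).1 (h2 h1) hp
  have hτflat : τ.Flat := flat_tau WA WB hWA hWB c hcA hcB n d τ hτX
  -- compatibility
  have hkill : ∀ p ∈ maximalIdeal (MvPowerSeries (Fin n) WA), π (τ p) = 0 := by
    intro p hp
    have h1 : τ p ∈ RingHom.ker π := by
      rw [hker]; exact Ideal.mem_map_of_mem _ hp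
    exact h1
  have hkill' : ∀ p ∈ maximalIdeal (MvPowerSeries (Fin n) WA), θ₀ (residue Ah (ρ p)) = 0 := by
    intro p hp
    have h1 : ρ p ∈ maximalIdeal Ah := by
      rw [← hρm]; exact Ideal.mem_map_of_mem _ hp
    rw [(IsLocalRing.residue_eq_zero_iff _).2 h1, map_zero]
  have hgen : ∀ p : MvPowerSeries (Fin n) WA, π (τ p) = θ₀ (residue Ah (ρ p)) := by
    intro p
    have hsub : p - MvPowerSeries.C (MvPowerSeries.constantCoeff p) ∈
        maximalIdeal (MvPowerSeries (Fin n) WA) := by
      rw [Groth.Agent.LibCR29.mem_maximalIdeal_ps_iff, map_sub, MvPowerSeries.constantCoeff_C,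
        sub_self]
      exact Ideal.zero_mem _
    have hp : p = MvPowerSeries.C (MvPowerSeries.constantCoeff p) +
        (p - MvPowerSeries.C (MvPowerSeries.constantCoeff p)) := by ring
    have hC1 : ∀ w : WA, τ (MvPowerSeries.C w) = φ w := fun w => by
      rw [← hτC]; rfl
    have hC2 : ∀ w : WA, ρ (MvPowerSeries.C w) = vA w := fun w => by
      rw [← hρC]; rfl
    rw [hp, map_add, map_add, map_add, map_add, map_add, hkill _ hsub, hkill' _ hsub, hC1, hC2,
      hπφ]
    rfl
  have hcompat : ∀ (a : A) (p : MvPowerSeries (Fin n) WA), ρ p = algebraMap A Ah a →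
      π (τ p) = algebraMap (ResidueField A) B₀ (residue A a) := by
    intro a p hp
    rw [hgen p, hp, hθ₀]
  exact assemble Ah hmA (MvPowerSeries (Fin n) WA) ρ hρsurj (MvPowerSeries (Fin (d + n)) WB) τ
    hτflat B₀ π hπsurj hker hcompat

end Groth.Agent.Lib.Helper24.CohenFlat
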