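import Mathlib
import Groth.Agent.Lib.Helper24.FlatDimFormula
import Groth.Agent.Lib.Helper24.CplCatenary
import Groth.Agent.Lib.Helper24.CohenFlat5
import Groth.Agent.Lib.Helper17.Miracle
import Groth.Agent.S0565

/-!
# Regular local homomorphisms (EGA 0_IV 17.3.3), helper24

For a local hom `A → B` of Noetherian local rings with closed fibre `B₀ = B/𝔪_A B`:
* `embdim_le`: `embdim B ≤ embdim A + embdim B₀`;
* `dim_le`: `dim B ≤ dim A + dim B₀`;
* `tfae`: the equivalent conditions of EGA 0_IV 17.3.3.
-/

set_option autoImplicit false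
universe u

open IsLocalRing

namespace Groth.Agent.Lib.Helper24.RegHomTFAE

theorem exists_nat_dim (R : Type u) [CommRing R] [IsLocalRing R] [IsNoetherianRing R] :
    ∃ d : ℕ, ringKrullDim R = (d : WithBot ℕ∞) := by
  have h1 := ringKrullDim_le_spanFinrank_maximalIdeal R
  have h0 : (0 : WithBot ℕ∞) ≤ ringKrullDim R := ringKrullDim_nonneg_of_nontrivial
  generalize ringKrullDim R = x at h0 h1
  induction x using WithBot.recBotCoe with
  | bot => simp at h0
  | coe y =>
    induction y using ENat.recTopCoe with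
    | top =>
      exfalso
      have h2 : ((⊤ : ℕ∞) : WithBot ℕ∞) ≤ (((maximalIdeal R).spanFinrank : ℕ∞) : WithBot ℕ∞) := h1
      rw [WithBot.coe_le_coe] at h2
      exact absurd h2 (by simp)
    | coe m => exact ⟨m, rfl⟩

section

variable {A B : Type u} [CommRing A] [IsLocalRing A] [IsNoetherianRing A] [CommRing B]
  [IsLocalRing B] [IsNoetherianRing B] [Algebra A B] [IsLocalHom (algebraMap A B)]
  [IsLocalRing (B ⧸ (maximalIdeal A).map (algebraMap A B))]

theorem embdim_le :
    (maximalIdeal B).spanFinrank ≤ (maximalIdeal A).spanFinrank +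
      (maximalIdeal (B ⧸ (maximalIdeal A).map (algebraMap A B))).spanFinrank := by
  classical
  set I := (maximalIdeal A).map (algebraMap A B) with hI
  obtain ⟨y, hy⟩ := Groth.Agent.Lib.Helper24.CohenFlat.exists_gens (maximalIdeal (B ⧸ I))
    (IsNoetherian.noetherian _)
  have hq : Function.Surjective (Ideal.Quotient.mk I) := Ideal.Quotient.mk_surjective
  choose z hz using fun i => hq (y i)
  have hmq : maximalIdeal (B ⧸ I) = (maximalIdeal B).map (Ideal.Quotient.mk I) :=
    Groth.Agent.Lib.Helper24.FlatDimFormula.maximalIdeal_quotient A B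
  have hIle : I ≤ maximalIdeal B := Groth.Agent.Lib.Helper24.FlatDimFormula.map_le_maximalIdeal A B
  have hm : maximalIdeal B = I ⊔ Ideal.span (Set.range z) := by
    apply le_antisymm
    · intro x hx
      have h1 : Ideal.Quotient.mk I x ∈ (Ideal.span (Set.range z)).map (Ideal.Quotient.mk I) := by
        rw [Ideal.map_span, ← Set.range_comp]
        have : (Ideal.Quotient.mk I) ∘ z = y := funext hz
        rw [this, hy, hmq]
        exact Ideal.mem_map_of_mem _ hx
      have h2 : x ∈ ((Ideal.span (Set.range z)).map (Ideal.Quotient.mk I)).comap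
          (Ideal.Quotient.mk I) := h1
      rw [Ideal.comap_map_of_surjective _ hq, ← RingHom.ker_eq_comap_bot, Ideal.mk_ker] at h2
      rwa [sup_comm]
    · refine sup_le hIle ?_
      rw [Ideal.span_le]
      rintro _ ⟨i, rfl⟩
      have h1 : Ideal.Quotient.mk I (z i) ∈ maximalIdeal (B ⧸ I) := by
        rw [hz, ← hy]; exact Ideal.subset_span ⟨i, rfl⟩
      rw [SetLike.mem_coe, IsLocalRing.mem_maximalIdeal]
      intro hu
      exact (IsLocalRing.mem_maximalIdeal _).1 h1 (hu.map _)
  have h1 : (maximalIdeal B).spanFinrank ≤ Submodule.spanFinrank I +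
      Submodule.spanFinrank (Ideal.span (Set.range z)) := by
    rw [hm]
    exact Groth.Agent.Lib.helper15.spanFinrank_sup_le (IsNoetherian.noetherian _)
      (IsNoetherian.noetherian _)
  have h2 : Submodule.spanFinrank I ≤ (maximalIdeal A).spanFinrank :=
    Ideal.spanFinrank_map_le_of_fg _ (IsNoetherian.noetherian _)
  have h3 : Submodule.spanFinrank (Ideal.span (Set.range z)) ≤
      (maximalIdeal (B ⧸ I)).spanFinrank := by
    have h4 : Submodule.spanFinrank (Ideal.span (Set.range z)) ≤ (Set.range z).ncard :=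
      Submodule.spanFinrank_span_le_ncard_of_finite (R := B) (Set.finite_range z)
    have h5 : (Set.range z).ncard ≤ (maximalIdeal (B ⧸ I)).spanFinrank := by
      have e : Set.range z = ((Finset.univ.image z : Finset B) : Set B) := by simp
      rw [e, Set.ncard_coe_finset]
      exact Finset.card_image_le.trans (by simp)
    exact h4.trans h5
  exact h1.trans (add_le_add h2 h3)

theorem dim_le :
    ringKrullDim B ≤ ringKrullDim A +
      ringKrullDim (B ⧸ (maximalIdeal A).map (algebraMap A B)) := by
  have hlies : (maximalIdeal B).LiesOver (maximalIdeal A) :=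
    ⟨(IsLocalRing.maximalIdeal_comap (algebraMap A B)).symm⟩
  have h := Ideal.height_le_height_add_of_liesOver (maximalIdeal A) (maximalIdeal B)
  have hmq : maximalIdeal (B ⧸ (maximalIdeal A).map (algebraMap A B)) =
      (maximalIdeal B).map (Ideal.Quotient.mk ((maximalIdeal A).map (algebraMap A B))) :=
    Groth.Agent.Lib.Helper24.FlatDimFormula.maximalIdeal_quotient A B
  rw [← hmq] at h
  rw [← IsLocalRing.maximalIdeal_height_eq_ringKrullDim,
    ← IsLocalRing.maximalIdeal_height_eq_ringKrullDim,
    ← IsLocalRing.maximalIdeal_height_eq_ringKrullDim, ← WithBot.coe_add]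
  exact WithBot.coe_le_coe.2 h

theorem tfae :
    [IsRegularLocalRing B ∧
       Module.finrank (ResidueField B) (CotangentSpace B) =
         Module.finrank (ResidueField A) (CotangentSpace A) +
           Module.finrank (ResidueField (B ⧸ (maximalIdeal A).map (algebraMap A B)))
             (CotangentSpace (B ⧸ (maximalIdeal A).map (algebraMap A B))),
     IsRegularLocalRing B ∧ IsRegularLocalRing (B ⧸ (maximalIdeal A).map (algebraMap A B)) ∧
       Module.Flat A B,
     IsRegularLocalRing A ∧ IsRegularLocalRing (B ⧸ (maximalIdeal A).map (algebraMap A B)) ∧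
       Module.Flat A B,
     IsRegularLocalRing A ∧ IsRegularLocalRing (B ⧸ (maximalIdeal A).map (algebraMap A B)) ∧
       ringKrullDim B = ringKrullDim A +
         ringKrullDim (B ⧸ (maximalIdeal A).map (algebraMap A B))].TFAE := by
  classical
  set I := (maximalIdeal A).map (algebraMap A B) with hI
  obtain ⟨dA, hdA⟩ := exists_nat_dim A
  obtain ⟨dB, hdB⟩ := exists_nat_dim B
  obtain ⟨d₀, hd₀⟩ := exists_nat_dim (B ⧸ I)
  have cA := (spanFinrank_maximalIdeal_eq_finrank_cotangentSpace A).symm
  have cB := (spanFinrank_maximalIdeal_eq_finrank_cotangentSpace B).symm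
  have c₀ := (spanFinrank_maximalIdeal_eq_finrank_cotangentSpace (B ⧸ I)).symm
  rw [cA, cB, c₀]
  set a := (maximalIdeal A).spanFinrank with ha
  set b := (maximalIdeal B).spanFinrank with hb
  set b₀ := (maximalIdeal (B ⧸ I)).spanFinrank with hb₀
  have F1A : dA ≤ a := by
    have := ringKrullDim_le_spanFinrank_maximalIdeal A
    rw [hdA] at this
    exact_mod_cast this
  have F1B : dB ≤ b := by
    have := ringKrullDim_le_spanFinrank_maximalIdeal B
    rw [hdB] at this
    exact_mod_cast this
  have F1₀ : d₀ ≤ b₀ := by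
    have := ringKrullDim_le_spanFinrank_maximalIdeal (B ⧸ I)
    rw [hd₀] at this
    exact_mod_cast this
  have F2 : b ≤ a + b₀ := embdim_le
  have F3 : dB ≤ dA + d₀ := by
    have := dim_le (A := A) (B := B)
    rw [hdA, hdB, hd₀] at this
    exact_mod_cast this
  have F4 : Module.Flat A B → dB = dA + d₀ := by
    intro hfl
    have := Groth.Agent.Lib.Helper24.FlatDimFormula.ringKrullDim_eq_add_of_flat A B
    rw [hdA, hdB, hd₀] at this
    exact_mod_cast this
  have RA : IsRegularLocalRing A ↔ a = dA := by
    rw [isRegularLocalRing_iff, hdA]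
    exact_mod_cast Iff.rfl
  have RB : IsRegularLocalRing B ↔ b = dB := by
    rw [isRegularLocalRing_iff, hdB]
    exact_mod_cast Iff.rfl
  have R₀ : IsRegularLocalRing (B ⧸ I) ↔ b₀ = d₀ := by
    rw [isRegularLocalRing_iff, hd₀]
    exact_mod_cast Iff.rfl
  have DIM : ringKrullDim B = ringKrullDim A + ringKrullDim (B ⧸ I) ↔ dB = dA + d₀ := by
    rw [hdA, hdB, hd₀]
    exact_mod_cast Iff.rfl
  tfae_have 1 → 4 := by
    rintro ⟨h1, h2⟩
    rw [RB] at h1
    rw [RA, R₀, DIM]
    omega
  tfae_have 4 → 3 := by
    rintro ⟨h1, h2, h3⟩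
    refine ⟨h1, h2, ?_⟩
    have hB : IsRegularLocalRing B := by
      rw [RB]
      rw [RA] at h1
      rw [R₀] at h2
      rw [DIM] at h3
      omega
    haveI := h1
    refine Groth.Agent.Lib.helper17.Miracle.flat_of_cm A B B
      (Groth.Agent.Lib.Helper24.CplCatenary.isCohenMacaulayModule_of_isRegularLocalRing B) ?_
    rw [Module.supportDim_self_eq_ringKrullDim]
    have e : (I • (⊤ : Submodule B B)) = I := by
      rw [smul_eq_mul, Ideal.mul_top]
    rw [e, Module.supportDim_quotient_eq_ringKrullDim]
    exact h3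
  tfae_have 3 → 2 := by
    rintro ⟨h1, h2, h3⟩
    refine ⟨?_, h2, h3⟩
    have := F4 h3
    rw [RB]
    rw [RA] at h1
    rw [R₀] at h2
    omega
  tfae_have 2 → 1 := by
    rintro ⟨h1, h2, h3⟩
    haveI := h1
    haveI := h3
    have hA : IsRegularLocalRing A := Groth.Agent.S0565.result A B
    refine ⟨h1, ?_⟩
    have := F4 h3
    rw [RB] at h1
    rw [RA] at hA
    rw [R₀] at h2
    omega
  tfae_finish

end

end Groth.Agent.Lib.Helper24.RegHomTFAE
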