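import Mathlib

/-!
# Reduced fibres of flat local homomorphisms (helper24), part 1: base change to finite algebras

`H A B` is the flexible form of "the closed fibre of `A → B` is geometrically reduced":
`k' ⊗[A] B` is reduced for every field `k'` which is a finite `A`-algebra.

* `H_baseChange`: `H A B → H D (D ⊗[A] B)` for a finite `A`-algebra `D`.
* `isNoetherianRing_baseChange`, `jacobson_baseChange`, `includeRight_injective_of_flat`.
-/

set_option autoImplicit false
universe u
open TensorProduct IsLocalRing

namespace Groth.Agent.Lib.Helper24.RedFib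

/-- `k' ⊗[A] B` is reduced for every field `k'` finite over `A`. -/
def H (A : Type u) [CommRing A] (B : Type u) [CommRing B] [Algebra A B] : Prop :=
  ∀ (k' : Type u) [Field k'] [Algebra A k'] [Module.Finite A k'], IsReduced (k' ⊗[A] B)

variable (A : Type u) [CommRing A] (B : Type u) [CommRing B] [Algebra A B]
  (D : Type u) [CommRing D] [Algebra A D]

theorem H_baseChange [Module.Finite A D] (h : H A B) : H D (D ⊗[A] B) := by
  intro k' _ _ _
  letI : Algebra A k' := Algebra.compHom k' (algebraMap A D)
  haveI : IsScalarTower A D k' := IsScalarTower.of_algebraMap_eq' rfl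
  haveI : Module.Finite A k' := Module.Finite.trans D k'
  haveI := h k'
  exact isReduced_of_injective (Algebra.TensorProduct.cancelBaseChange A D D k' B).toRingEquiv
    (Algebra.TensorProduct.cancelBaseChange A D D k' B).injective

theorem isNoetherianRing_baseChange [IsNoetherianRing B] [Module.Finite A D] :
    IsNoetherianRing (D ⊗[A] B) := by
  haveI : IsNoetherianRing (B ⊗[A] D) := IsNoetherianRing.of_finite B (B ⊗[A] D)
  exact isNoetherianRing_of_ringEquiv (B ⊗[A] D) (Algebra.TensorProduct.comm A B D).toRingEquiv

theorem includeRight_isIntegral [Algebra.IsIntegral A D] :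
    (Algebra.TensorProduct.includeRight : B →ₐ[A] D ⊗[A] B).toRingHom.IsIntegral := by
  intro x
  induction x using TensorProduct.induction_on with
  | zero => exact RingHom.isIntegralElem_zero _
  | tmul d b =>
    have h1 : (Algebra.TensorProduct.includeRight : B →ₐ[A] D ⊗[A] B).toRingHom.IsIntegralElem
        (d ⊗ₜ[A] (1 : B)) := by
      have hd : (algebraMap A D).IsIntegralElem d := Algebra.IsIntegral.isIntegral (R := A) d
      have hd' := hd.map (algebraMap D (D ⊗[A] B))
      have hc : (algebraMap D (D ⊗[A] B)).comp (algebraMap A D) =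
          (Algebra.TensorProduct.includeRight : B →ₐ[A] D ⊗[A] B).toRingHom.comp
            (algebraMap A B) := by
        ext a
        simp [Algebra.algebraMap_eq_smul_one]
      rw [hc] at hd'
      exact hd'.of_comp
    have h2 : (Algebra.TensorProduct.includeRight : B →ₐ[A] D ⊗[A] B).toRingHom.IsIntegralElem
        ((1 : D) ⊗ₜ[A] b) := RingHom.isIntegralElem_map _
    have : d ⊗ₜ[A] b = (d ⊗ₜ[A] (1 : B)) * ((1 : D) ⊗ₜ[A] b) := by
      rw [Algebra.TensorProduct.tmul_mul_tmul, mul_one, one_mul]
    rw [this]
    exact RingHom.IsIntegralElem.mul _ h1 h2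
  | add x y hx hy => exact RingHom.IsIntegralElem.add _ hx hy

theorem jacobson_baseChange [IsLocalRing A] [IsLocalRing D] [Algebra.IsIntegral A D]
    (hJ : (maximalIdeal A).map (algebraMap A B) ≤ Ideal.jacobson ⊥) :
    (maximalIdeal D).map (algebraMap D (D ⊗[A] B)) ≤ Ideal.jacobson ⊥ := by
  rw [Ideal.jacobson, le_sInf_iff]
  rintro n ⟨-, hn⟩
  haveI := hn
  set ι : B →+* D ⊗[A] B :=
    (Algebra.TensorProduct.includeRight : B →ₐ[A] D ⊗[A] B).toRingHom with hι
  have hint := includeRight_isIntegral A B D
  haveI hnB : (n.comap ι).IsMaximal :=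
    Ideal.isMaximal_comap_of_isIntegral_of_isMaximal' ι hint n
  have h1 : (maximalIdeal A).map (algebraMap A B) ≤ n.comap ι :=
    hJ.trans (by
      rw [Ideal.jacobson]
      exact sInf_le ⟨bot_le, hnB⟩)
  set q : Ideal D := n.comap (algebraMap D (D ⊗[A] B)) with hq
  haveI : q.IsPrime := Ideal.comap_isPrime _ _
  have hcomm : (algebraMap D (D ⊗[A] B)).comp (algebraMap A D) = ι.comp (algebraMap A B) := by
    ext a
    simp [hι, Algebra.algebraMap_eq_smul_one]
  have h2 : maximalIdeal A ≤ q.comap (algebraMap A D) := by
    rw [hq, Ideal.comap_comap, hcomm, ← Ideal.comap_comap]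
    exact Ideal.map_le_iff_le_comap.mp h1
  have h3 : q.comap (algebraMap A D) = maximalIdeal A := by
    refine (IsLocalRing.eq_maximalIdeal ?_)
    exact (IsLocalRing.maximalIdeal.isMaximal A).eq_of_le
      (Ideal.comap_ne_top _ (Ideal.IsPrime.ne_top inferInstance)) h2 ▸
      IsLocalRing.maximalIdeal.isMaximal A
  have hqmax : q.IsMaximal :=
    Ideal.isMaximal_of_isIntegral_of_isMaximal_comap (R := A) q
      (h3 ▸ IsLocalRing.maximalIdeal.isMaximal A)
  have hq' : q = maximalIdeal D := IsLocalRing.eq_maximalIdeal hqmax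
  rw [Ideal.map_le_iff_le_comap, ← hq, hq']

theorem includeRight_injective_of_flat [Module.Flat A B]
    (hinj : Function.Injective (algebraMap A D)) :
    Function.Injective (Algebra.TensorProduct.includeRight : B →ₐ[A] D ⊗[A] B) :=
  Algebra.TensorProduct.includeRight_injective hinj

end Groth.Agent.Lib.Helper24.RedFib
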