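import Mathlib
import Groth.Agent.Lib.Helper26.Zariski4
import Groth.Agent.Lib.Helper26.RedDiv1
import Groth.Agent.S14359

/-!
# Reduced fibres of flat local homomorphisms (helper24), part 2: the normal case

`isReduced_of_normal`: `A` a Noetherian normal local domain which is not a field, `B` a Noetherian
flat `A`-algebra with `𝔪_A B ⊆ rad B`, such that `qB` is radical for every nonzero prime `q` of `A`.
Then `B` is reduced (Zariski's lemma, applied at every maximal ideal of `B`).
-/

set_option autoImplicit false
universe u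
open TensorProduct IsLocalRing

namespace Groth.Agent.Lib.Helper24.RedFib

variable (A : Type u) [CommRing A] [IsDomain A] [IsNoetherianRing A]
  [IsIntegrallyClosed A]

theorem span_le_of_assoc (t : A) (q : Ideal A)
    (hq : q ∈ associatedPrimes A (A ⧸ Ideal.span {t})) : Ideal.span {t} ≤ q := by
  obtain ⟨-, yb, hqy⟩ := (isAssociatedPrime_iff (I := q)).mp hq
  rw [Ideal.span_singleton_le_iff_mem, hqy, Submodule.mem_colon_singleton, Submodule.mem_bot]
  obtain ⟨y, rfl⟩ := Ideal.Quotient.mk_surjective yb
  rw [Algebra.smul_def, Ideal.Quotient.algebraMap_eq, ← map_mul, Ideal.Quotient.eq_zero_iff_mem]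
  exact Ideal.mul_mem_right _ _ (Ideal.mem_span_singleton_self t)

theorem assoc_subset_minimalPrimes (t : A) (ht : t ≠ 0) :
    associatedPrimes A (A ⧸ Ideal.span {t}) ⊆ (Ideal.span {t}).minimalPrimes := by
  intro q hq
  have hht := Groth.Agent.S14359.result A t ht q hq
  haveI hqprime : q.IsPrime := hq.isPrime
  have htq : Ideal.span {t} ≤ q := span_le_of_assoc A t q hq
  refine ⟨⟨hqprime, htq⟩, ?_⟩
  rintro q' ⟨hq'prime, htq'⟩ hq'q
  haveI := hq'prime
  by_contra hne
  have hlt : q' < q := lt_of_le_of_ne hq'q (fun h => hne (h ▸ le_rfl))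
  haveI : q.FiniteHeight := ⟨Or.inr (by rw [hht]; exact ENat.one_ne_top)⟩
  have h1 := Ideal.height_strict_mono_of_isPrime_of_isPrime hlt
  rw [hht, ENat.lt_one_iff_eq_zero, Ideal.height_eq_zero_iff,
    IsDomain.minimalPrimes_eq_singleton_bot (R := A)] at h1
  have h2 : q' = ⊥ := h1
  have : t ∈ q' := htq' (Ideal.mem_span_singleton_self t)
  rw [h2] at this
  exact ht this

variable [IsLocalRing A] (B : Type u) [CommRing B] [Algebra A B] [IsNoetherianRing B]
  [Module.Flat A B]

theorem isReduced_of_normal (hm : maximalIdeal A ≠ ⊥)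
    (hJ : (maximalIdeal A).map (algebraMap A B) ≤ Ideal.jacobson ⊥)
    (hq : ∀ (q : Ideal A) [q.IsPrime], q ≠ ⊥ → (q.map (algebraMap A B)).IsRadical) :
    IsReduced B := by
  obtain ⟨t, htm, ht0⟩ : ∃ t ∈ maximalIdeal A, t ≠ 0 := by
    by_contra hcon
    push_neg at hcon
    exact hm ((Submodule.eq_bot_iff _).mpr hcon)
  have hreg : t ∈ nonZeroDivisors A := mem_nonZeroDivisors_of_ne_zero ht0
  have hemb := assoc_subset_minimalPrimes A t ht0
  have hU : ∀ q ∈ associatedPrimes A (A ⧸ Ideal.span {t}),
      Groth.Agent.Lib.helper26.Zariski.UData t q := by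
    intro q hq'
    haveI : q.IsPrime := hq'.isPrime
    have hht := Groth.Agent.S14359.result A t ht0 q hq'
    haveI : IsDomain (Localization.AtPrime q) :=
      IsLocalization.isDomain_localization q.primeCompl_le_nonZeroDivisors
    haveI := Groth.Agent.Lib.helper26.RedDiv.isDiscreteValuationRing_atPrime q hht
    exact Groth.Agent.Lib.helper26.Zariski.uData_of_dvr t hreg q
      ((hemb hq').1.2 (Ideal.mem_span_singleton_self t))
  apply isReduced_ofLocalizationMaximal
  intro n hn
  haveI := hn
  haveI : Module.Flat A (Localization.AtPrime n) := Module.Flat.trans A B _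
  haveI : IsNoetherianRing (Localization.AtPrime n) :=
    IsLocalization.isNoetherianRing n.primeCompl _ inferInstance
  refine Groth.Agent.Lib.helper26.Zariski.isReduced_of_flat (A := A)
    (B := Localization.AtPrime n) t hreg hemb hU ?_ ?_
  · intro q hq'
    haveI : q.IsPrime := hq'.isPrime
    have hqne : q ≠ ⊥ := by
      intro h
      have : t ∈ q := (hemb hq').1.2 (Ideal.mem_span_singleton_self t)
      rw [h] at this
      exact ht0 this
    have hr := hq q hqne
    rw [IsScalarTower.algebraMap_eq A B (Localization.AtPrime n), ← Ideal.map_map]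
    rw [← Ideal.radical_eq_iff] at hr ⊢
    rw [← IsLocalization.map_radical n.primeCompl, hr]
  · rw [IsScalarTower.algebraMap_apply A B (Localization.AtPrime n),
      IsLocalization.AtPrime.to_map_mem_maximal_iff (Localization.AtPrime n) n]
    have h1 : algebraMap A B t ∈ (maximalIdeal A).map (algebraMap A B) :=
      Ideal.mem_map_of_mem _ htm
    have h2 := hJ h1
    rw [Ideal.jacobson, Ideal.mem_sInf] at h2
    exact h2 ⟨bot_le, hn⟩

end Groth.Agent.Lib.Helper24.RedFib
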