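import Mathlib
import Groth.Agent.Lib.Helper24.ZarNag
import Groth.Agent.S9405

/-!
# Completion of a reduced finite algebra over a local ring with N-2 quotients

`isReduced_tensor_of_isReduced`: `C ⊗[A] Â` is reduced.
`isReduced_adicCompletion_jacobson`: the `Jac(C)`-adic completion of `C` is reduced.
-/

set_option autoImplicit false
universe u

open IsLocalRing TensorProduct

namespace Groth.Agent.Lib.Helper24.CplFinAlg

theorem isReduced_pi {ι : Type u} (B : ι → Type u) [∀ i, CommRing (B i)]
    (h : ∀ i, IsReduced (B i)) : IsReduced (∀ i, B i) := by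
  refine ⟨fun x hx => ?_⟩
  funext i
  obtain ⟨n, hn⟩ := hx
  have : IsNilpotent (x i) := ⟨n, by simpa using congrFun hn i⟩
  exact (h i).eq_zero _ this

variable (A : Type u) [CommRing A] [IsNoetherianRing A] [IsLocalRing A]
  (hN : ∀ (p : Ideal A) [p.IsPrime], CAlg.IsN2 (A ⧸ p))
  (C : Type u) [CommRing C] [Algebra A C] [Module.Finite A C]

include hN in
theorem isReduced_tensor_of_isReduced [IsReduced C] :
    IsReduced (C ⊗[A] AdicCompletion (maximalIdeal A) A) := by
  classical
  haveI : IsNoetherianRing C := IsNoetherianRing.of_finite A C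
  have hfin : (minimalPrimes C).Finite := minimalPrimes.finite_of_isNoetherianRing C
  haveI : Fintype ↥(minimalPrimes C) := hfin.fintype
  haveI hprime : ∀ i : ↥(minimalPrimes C), (i.1).IsPrime := fun i => i.2.1.1
  let g : C →ₐ[A] (∀ i : ↥(minimalPrimes C), C ⧸ i.1) :=
    AlgHom.pi (fun i => Ideal.Quotient.mkₐ A i.1)
  have hg : Function.Injective g := by
    rw [injective_iff_map_eq_zero]
    intro x hx
    have h1 : x ∈ sInf (minimalPrimes C) := by
      rw [Submodule.mem_sInf]
      intro p hp
      have := congrFun hx ⟨p, hp⟩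
      simpa [g, Ideal.Quotient.eq_zero_iff_mem] using this
    have h2 : sInf (minimalPrimes C) = nilradical C := by
      rw [minimalPrimes, Ideal.sInf_minimalPrimes]
      rfl
    rw [h2, nilradical_eq_zero] at h1
    simpa using h1
  -- step 1: tensor with the flat module `Â`
  let G : C ⊗[A] AdicCompletion (maximalIdeal A) A →ₐ[A]
      (∀ i : ↥(minimalPrimes C), C ⧸ i.1) ⊗[A] AdicCompletion (maximalIdeal A) A :=
    Algebra.TensorProduct.map g (AlgHom.id A _)
  have hG : Function.Injective G := by
    have := Module.Flat.rTensor_preserves_injective_linearMap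
      (M := AdicCompletion (maximalIdeal A) A) g.toLinearMap hg
    exact this
  let e1 := Algebra.TensorProduct.comm A (∀ i : ↥(minimalPrimes C), C ⧸ i.1)
    (AdicCompletion (maximalIdeal A) A)
  let e2 := Algebra.TensorProduct.piRight A A (AdicCompletion (maximalIdeal A) A)
    (fun i : ↥(minimalPrimes C) => C ⧸ i.1)
  haveI : IsReduced (∀ i : ↥(minimalPrimes C),
      AdicCompletion (maximalIdeal A) A ⊗[A] (C ⧸ i.1)) := by
    apply isReduced_pi
    intro i
    haveI : IsDomain (C ⧸ i.1) := Ideal.Quotient.isDomain _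
    haveI : IsReduced ((C ⧸ i.1) ⊗[A] AdicCompletion (maximalIdeal A) A) :=
      Groth.Agent.Lib.Helper24.ZarNag.isReduced_tensor A hN (C ⧸ i.1)
    exact isReduced_of_injective
      (Algebra.TensorProduct.comm A (AdicCompletion (maximalIdeal A) A) (C ⧸ i.1))
      (Algebra.TensorProduct.comm A (AdicCompletion (maximalIdeal A) A) (C ⧸ i.1)).injective
  exact isReduced_of_injective ((e2.toAlgHom.comp e1.toAlgHom).comp G)
    ((e2.injective.comp e1.injective).comp hG)

/-- `J^k ≤ m C` for the Jacobson radical `J` of `C`. -/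
theorem exists_jacobson_pow_le :
    ∃ k : ℕ, 0 < k ∧ ((⊥ : Ideal C).jacobson) ^ k ≤ (maximalIdeal A).map (algebraMap A C) := by
  set mC := (maximalIdeal A).map (algebraMap A C) with hmC
  letI : Field (A ⧸ maximalIdeal A) := Ideal.Quotient.field _
  haveI : Module.Finite (A ⧸ maximalIdeal A) (C ⧸ mC) :=
    Module.Finite.of_restrictScalars_finite A _ _
  haveI : IsArtinianRing (C ⧸ mC) := IsArtinianRing.of_finite (A ⧸ maximalIdeal A) (C ⧸ mC)
  obtain ⟨k, hk⟩ := IsArtinianRing.isNilpotent_jacobson_bot (R := C ⧸ mC)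
  refine ⟨k + 1, Nat.succ_pos k, ?_⟩
  have hsurj : Function.Surjective (Ideal.Quotient.mk mC) := Ideal.Quotient.mk_surjective
  have hker : RingHom.ker (Ideal.Quotient.mk mC) ≤ mC := by rw [Ideal.mk_ker]
  have h1 : Ideal.map (Ideal.Quotient.mk mC) mC.jacobson =
      (Ideal.map (Ideal.Quotient.mk mC) mC).jacobson :=
    Ideal.map_jacobson_of_surjective hsurj hker
  have h2 : Ideal.map (Ideal.Quotient.mk mC) mC = ⊥ := by
    rw [Ideal.map_quotient_self]
  have h3 : Ideal.map (Ideal.Quotient.mk mC) ((⊥ : Ideal C).jacobson) ≤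
      (⊥ : Ideal (C ⧸ mC)).jacobson := by
    rw [← h2, ← h1]
    exact Ideal.map_mono (Ideal.jacobson_mono bot_le)
  have h4 : Ideal.map (Ideal.Quotient.mk mC) (((⊥ : Ideal C).jacobson) ^ (k + 1)) = ⊥ := by
    rw [Ideal.map_pow, eq_bot_iff]
    calc _ ≤ ((⊥ : Ideal (C ⧸ mC)).jacobson) ^ (k + 1) := Ideal.pow_right_mono h3 _
      _ = ⊥ := by rw [pow_succ, hk, Ideal.zero_eq_bot, Ideal.bot_mul]
  intro x hx
  have : Ideal.Quotient.mk mC x ∈ Ideal.map (Ideal.Quotient.mk mC)
      (((⊥ : Ideal C).jacobson) ^ (k + 1)) := Ideal.mem_map_of_mem _ hx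
  rw [h4, Ideal.mem_bot, Ideal.Quotient.eq_zero_iff_mem] at this
  exact this

/-- `C ⊗ Â` is complete for the extension of the Jacobson radical of `C`. -/
theorem isAdicComplete_tensor_jacobson :
    IsAdicComplete (((⊥ : Ideal C).jacobson).map
      (algebraMap C (C ⊗[A] AdicCompletion (maximalIdeal A) A)))
      (C ⊗[A] AdicCompletion (maximalIdeal A) A) := by
  haveI : IsNoetherianRing (AdicCompletion (maximalIdeal A) A) :=
    Groth.Agent.S0542.result A _ (maximalIdeal A).fg_of_isNoetherianRing
  let j : AdicCompletion (maximalIdeal A) A →+* C ⊗[A] AdicCompletion (maximalIdeal A) A :=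
    (Algebra.TensorProduct.includeRight :
      AdicCompletion (maximalIdeal A) A →ₐ[A] C ⊗[A] AdicCompletion (maximalIdeal A) A).toRingHom
  have hj : j.Finite := by
    have h1 : (algebraMap (AdicCompletion (maximalIdeal A) A)
        (AdicCompletion (maximalIdeal A) A ⊗[A] C)).Finite :=
      RingHom.finite_algebraMap.mpr inferInstance
    have h2 : ((Algebra.TensorProduct.comm A (AdicCompletion (maximalIdeal A) A) C :
        AdicCompletion (maximalIdeal A) A ⊗[A] C ≃ₐ[A] C ⊗[A] AdicCompletion (maximalIdeal A) A) :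
        AdicCompletion (maximalIdeal A) A ⊗[A] C →+*
          C ⊗[A] AdicCompletion (maximalIdeal A) A).Finite :=
      RingHom.Finite.of_surjective _
        (Algebra.TensorProduct.comm A (AdicCompletion (maximalIdeal A) A) C).surjective
    have h3 : j = ((Algebra.TensorProduct.comm A (AdicCompletion (maximalIdeal A) A) C :
        AdicCompletion (maximalIdeal A) A ⊗[A] C ≃ₐ[A] C ⊗[A] AdicCompletion (maximalIdeal A) A) :
        AdicCompletion (maximalIdeal A) A ⊗[A] C →+*
          C ⊗[A] AdicCompletion (maximalIdeal A) A).comp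
        (algebraMap (AdicCompletion (maximalIdeal A) A)
          (AdicCompletion (maximalIdeal A) A ⊗[A] C)) := by
      ext a
      simp [j]
    rw [h3]
    exact h2.comp h1
  letI algT : Algebra (AdicCompletion (maximalIdeal A) A)
      (C ⊗[A] AdicCompletion (maximalIdeal A) A) := j.toAlgebra
  haveI : Module.Finite (AdicCompletion (maximalIdeal A) A)
      (C ⊗[A] AdicCompletion (maximalIdeal A) A) := hj
  haveI hc : IsAdicComplete (maximalIdeal (AdicCompletion (maximalIdeal A) A))
      (C ⊗[A] AdicCompletion (maximalIdeal A) A) :=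
    Groth.Agent.S9405.isAdicComplete_of_finite _ _
  obtain ⟨k, hk0, hk⟩ := exists_jacobson_pow_le A C
  -- the extension of `m̂` is the extension of `m C`
  have hext : (maximalIdeal (AdicCompletion (maximalIdeal A) A)).map
      (algebraMap (AdicCompletion (maximalIdeal A) A) (C ⊗[A] AdicCompletion (maximalIdeal A) A)) =
      ((maximalIdeal A).map (algebraMap A C)).map
        (algebraMap C (C ⊗[A] AdicCompletion (maximalIdeal A) A)) := by
    rw [AdicCompletion.maximalIdeal_eq_map, Ideal.map_map, Ideal.map_map]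
    congr 1
    ext a
    change j (algebraMap A _ a) = algebraMap C _ (algebraMap A C a)
    simp only [j, AlgHom.toRingHom_eq_coe, RingHom.coe_coe, AlgHom.commutes]
    rw [← IsScalarTower.algebraMap_apply]
  refine Groth.Agent.S9405.isAdicComplete_transfer
    (maximalIdeal (AdicCompletion (maximalIdeal A) A)) _ k hk0 ?_ ?_
  · rw [hext]
    exact Ideal.map_mono (Groth.Agent.Lib.Helper24.ZarNag.map_maximalIdeal_le_jacobson A C)
  · rw [hext, ← Ideal.map_pow]
    exact Ideal.map_mono hk

include hN in
/-- The `Jac(C)`-adic completion of a reduced finite `A`-algebra is reduced. -/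
theorem isReduced_adicCompletion_jacobson [IsReduced C] :
    IsReduced (AdicCompletion ((⊥ : Ideal C).jacobson) C) := by
  set J := (⊥ : Ideal C).jacobson with hJ
  haveI hTred := isReduced_tensor_of_isReduced A hN C
  haveI hTc := isAdicComplete_tensor_jacobson A C
  haveI : Module.FaithfullyFlat A (AdicCompletion (maximalIdeal A) A) :=
    Module.FaithfullyFlat.of_flat_of_isLocalHom
  haveI : Module.FaithfullyFlat C (C ⊗[A] AdicCompletion (maximalIdeal A) A) := inferInstance
  set JT := J.map (algebraMap C (C ⊗[A] AdicCompletion (maximalIdeal A) A)) with hJT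
  rw [isReduced_iff_pow_one_lt 2 (by norm_num)]
  intro x hx
  obtain ⟨c, rfl⟩ := AdicCompletion.mk_surjective J C x
  -- squares of the terms lie in `J^n`
  have hsq : ∀ n, c n ^ 2 ∈ J ^ n := by
    intro n
    have h1 := congrArg (AdicCompletion.evalₐ J n) hx
    rw [map_pow, AdicCompletion.evalₐ_mk, map_zero, ← map_pow,
      Ideal.Quotient.eq_zero_iff_mem] at h1
    exact h1
  have hcau : ∀ {m n : ℕ}, m ≤ n → c m - c n ∈ J ^ m := by
    intro m n hmn
    have := c.2 hmn
    rw [SModEq.sub_mem, smul_eq_mul, Ideal.mul_top] at this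
    exact this
  have hmap : ∀ (n : ℕ) (y : C), y ∈ J ^ n →
      algebraMap C (C ⊗[A] AdicCompletion (maximalIdeal A) A) y ∈ JT ^ n := by
    intro n y hy
    rw [hJT, ← Ideal.map_pow]
    exact Ideal.mem_map_of_mem _ hy
  obtain ⟨t, ht⟩ := hTc.toIsPrecomplete.prec'
    (fun n => algebraMap C (C ⊗[A] AdicCompletion (maximalIdeal A) A) (c n)) (by
      intro m n hmn
      rw [SModEq.sub_mem, smul_eq_mul, Ideal.mul_top, ← map_sub]
      exact hmap m _ (hcau hmn))
  have ht' : ∀ n, algebraMap C (C ⊗[A] AdicCompletion (maximalIdeal A) A) (c n) - t ∈ JT ^ n := by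
    intro n
    have := ht n
    rw [SModEq.sub_mem, smul_eq_mul, Ideal.mul_top] at this
    exact this
  have ht2 : t ^ 2 = 0 := by
    apply hTc.toIsHausdorff.haus' (t ^ 2)
    intro n
    rw [SModEq.sub_mem, sub_zero, smul_eq_mul, Ideal.mul_top]
    have h1 : t ^ 2 = algebraMap C (C ⊗[A] AdicCompletion (maximalIdeal A) A) (c n ^ 2) -
        (algebraMap C (C ⊗[A] AdicCompletion (maximalIdeal A) A) (c n) - t) *
          (algebraMap C (C ⊗[A] AdicCompletion (maximalIdeal A) A) (c n) + t) := by
      rw [map_pow]; ring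
    rw [h1]
    exact Ideal.sub_mem _ (hmap n _ (hsq n)) (Ideal.mul_mem_right _ _ (ht' n))
  have ht0 : t = 0 := (isReduced_iff_pow_one_lt 2 (by norm_num)).mp hTred t ht2
  have hcn : ∀ n, c n ∈ J ^ n := by
    intro n
    have h1 : algebraMap C (C ⊗[A] AdicCompletion (maximalIdeal A) A) (c n) ∈ JT ^ n := by
      have := ht' n
      rwa [ht0, sub_zero] at this
    rw [hJT, ← Ideal.map_pow] at h1
    have h2 : c n ∈ ((J ^ n).map
        (algebraMap C (C ⊗[A] AdicCompletion (maximalIdeal A) A))).comap
        (algebraMap C (C ⊗[A] AdicCompletion (maximalIdeal A) A)) := h1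
    rwa [Ideal.comap_map_eq_self_of_faithfullyFlat] at h2
  apply AdicCompletion.ext_evalₐ
  intro n
  rw [AdicCompletion.evalₐ_mk, map_zero, Ideal.Quotient.eq_zero_iff_mem]
  exact hcn n

end Groth.Agent.Lib.Helper24.CplFinAlg
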