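import Mathlib
import Groth.Agent.Lib.Helper24.RedFib1
import Groth.Agent.Lib.Helper24.RedFib2
import Groth.Agent.S4564
import Groth.Agent.Lib.Helper24.SopFinite
import Groth.Agent.Lib.Helper24.CplQuot

/-!
# Reduced fibres of flat local homomorphisms (helper24), part 3: the core theorem

`isReduced_of_complete_domain`: `A` a complete Noetherian local domain, `B` a Noetherian flat
`A`-algebra with `𝔪_A B ⊆ rad B` whose closed fibre is geometrically reduced (in the form `H A B`).
Then `B` is reduced.
-/

set_option autoImplicit false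
universe u
open TensorProduct IsLocalRing

namespace Groth.Agent.Lib.Helper24.RedFib

theorem isReduced_of_maximalIdeal_eq_bot (A : Type u) [CommRing A] [IsLocalRing A]
    (B : Type u) [CommRing B] [Algebra A B] [Module.Flat A B]
    (hm : maximalIdeal A = ⊥) (h : H A B) : IsReduced B := by
  haveI : Module.Finite A (ResidueField A) :=
    Module.Finite.of_surjective (Algebra.linearMap A (ResidueField A)) residue_surjective
  haveI := h (ResidueField A)
  have hinj : Function.Injective (algebraMap A (ResidueField A)) := by
    rw [RingHom.injective_iff_ker_eq_bot]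
    change RingHom.ker (residue A) = ⊥
    rw [ker_residue, hm]
  exact isReduced_of_injective
    (Algebra.TensorProduct.includeRight : B →ₐ[A] ResidueField A ⊗[A] B)
    (includeRight_injective_of_flat A B _ hinj)

theorem dim_le_of_succ (d : WithBot ℕ∞) (n : ℕ) (h : d + 1 ≤ ((n + 1 : ℕ) : WithBot ℕ∞)) :
    d ≤ (n : WithBot ℕ∞) := by
  induction d using WithBot.recBotCoe with
  | bot => exact bot_le
  | coe a =>
    have h' : ((a + 1 : ℕ∞) : WithBot ℕ∞) ≤ (((n + 1 : ℕ) : ℕ∞) : WithBot ℕ∞) := by
      simpa using h
    rw [WithBot.coe_le_coe] at h'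
    have : a ≤ (n : ℕ∞) := by
      have h2 : a + 1 ≤ (n : ℕ∞) + 1 := by simpa using h'
      exact (ENat.add_le_add_iff_right ENat.one_ne_top).mp h2
    exact_mod_cast this

/-- the quotient of a complete Noetherian local ring by a proper ideal is complete. -/
theorem isAdicComplete_quotient (A : Type u) [CommRing A] [IsLocalRing A] [IsNoetherianRing A]
    [IsAdicComplete (maximalIdeal A) A] (I : Ideal A) [IsLocalRing (A ⧸ I)] :
    IsAdicComplete (maximalIdeal (A ⧸ I)) (A ⧸ I) := by
  haveI : IsAdicComplete (maximalIdeal A) (A ⧸ I) :=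
    Groth.Agent.S9405.isAdicComplete_of_finite (maximalIdeal A) _
  have hmap : (maximalIdeal A).map (algebraMap A (A ⧸ I)) = maximalIdeal (A ⧸ I) := by
    rw [Ideal.Quotient.algebraMap_eq]
    exact Groth.Agent.Lib.Helper24.CplQuot.map_maximalIdeal_eq A I
  exact Groth.Agent.S9405.isAdicComplete_transfer (maximalIdeal A) (maximalIdeal (A ⧸ I)) 1
    Nat.one_pos hmap.le (by rw [pow_one, hmap])

/-- The induction hypothesis at level `n`. -/
def IH (n : ℕ) : Prop :=
  ∀ (A : Type u) [CommRing A] [IsDomain A]
    [IsLocalRing A] [IsNoetherianRing A] [IsAdicComplete (maximalIdeal A) A],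
    ringKrullDim A ≤ n →
    ∀ (B : Type u) [CommRing B] [Algebra A B] [IsNoetherianRing B] [Module.Flat A B],
    (maximalIdeal A).map (algebraMap A B) ≤ Ideal.jacobson ⊥ → H A B → IsReduced B

section step

variable (n : ℕ) (ih : IH.{u} n)
  (A : Type u) [CommRing A] [IsDomain A] [IsLocalRing A] [IsNoetherianRing A]
  (A' : Type u) [CommRing A'] [IsDomain A'] [IsLocalRing A'] [IsNoetherianRing A']
  [IsIntegrallyClosed A'] [IsAdicComplete (maximalIdeal A') A']
  [Algebra A A'] [Module.Finite A A']
  (B : Type u) [CommRing B] [Algebra A B] [IsNoetherianRing B] [Module.Flat A B]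

include ih in
theorem isReduced_baseChange_normal (hinj : Function.Injective (algebraMap A A'))
    (hm : maximalIdeal A ≠ ⊥) (hdimA' : ringKrullDim A' ≤ ((n + 1 : ℕ) : WithBot ℕ∞))
    (hJ : (maximalIdeal A).map (algebraMap A B) ≤ Ideal.jacobson ⊥) (h : H A B) :
    IsReduced (A' ⊗[A] B) := by
  haveI : Algebra.IsIntegral A A' := inferInstance
  haveI : IsLocalHom (algebraMap A A') :=
    Groth.Agent.Lib.Helper24.IntegralHensel.isLocalHom_of_isIntegral A A'
  haveI : IsNoetherianRing (A' ⊗[A] B) := isNoetherianRing_baseChange A B A'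
  refine isReduced_of_normal A' (A' ⊗[A] B) ?_ (jacobson_baseChange A B A' hJ) ?_
  · -- the maximal ideal of `A'` is nonzero
    obtain ⟨t, htm, ht0⟩ : ∃ t ∈ maximalIdeal A, t ≠ 0 := by
      by_contra hcon
      push_neg at hcon
      exact hm ((Submodule.eq_bot_iff _).mpr hcon)
    intro hbot
    have h1 : algebraMap A A' t ∈ maximalIdeal A' := by
      rw [mem_maximalIdeal, mem_nonunits_iff]
      intro hu
      exact (mem_maximalIdeal t).mp htm (isUnit_of_map_unit (algebraMap A A') t hu)
    rw [hbot, Ideal.mem_bot] at h1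
    exact ht0 (hinj (by rw [h1, map_zero]))
  · intro q' hq'prime hq'ne
    haveI := hq'prime
    rw [Ideal.isRadical_iff_quotient_reduced]
    -- `D = A' ⧸ q'`
    haveI : Nontrivial (A' ⧸ q') := Ideal.Quotient.nontrivial_iff.mpr hq'prime.ne_top
    haveI : IsLocalRing (A' ⧸ q') :=
      IsLocalRing.of_surjective' (Ideal.Quotient.mk q') Ideal.Quotient.mk_surjective
    haveI : IsAdicComplete (maximalIdeal (A' ⧸ q')) (A' ⧸ q') := isAdicComplete_quotient A' q'
    haveI : Module.Finite A (A' ⧸ q') := Module.Finite.trans A' _
    haveI : IsNoetherianRing ((A' ⧸ q') ⊗[A] B) := isNoetherianRing_baseChange A B (A' ⧸ q')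
    have hdimD : ringKrullDim (A' ⧸ q') ≤ (n : WithBot ℕ∞) := by
      apply dim_le_of_succ
      obtain ⟨x, hxq, hx0⟩ : ∃ x ∈ q', x ≠ 0 := by
        by_contra hcon
        push_neg at hcon
        exact hq'ne ((Submodule.eq_bot_iff _).mpr hcon)
      have h1 := ringKrullDim_quotient_succ_le_of_nonZeroDivisor
        (mem_nonZeroDivisors_of_ne_zero hx0)
      have hle : Ideal.span {x} ≤ q' := (Ideal.span_singleton_le_iff_mem _).mpr hxq
      have h2 : ringKrullDim (A' ⧸ q') ≤ ringKrullDim (A' ⧸ Ideal.span {x}) :=
        ringKrullDim_le_of_surjective (Ideal.Quotient.factor hle)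
          (Ideal.Quotient.factor_surjective hle)
      have h3 : ringKrullDim (A' ⧸ q') + 1 ≤ ringKrullDim (A' ⧸ Ideal.span {x}) + 1 := by
        gcongr
      exact h3.trans (h1.trans hdimA')
    haveI : Algebra.IsIntegral A (A' ⧸ q') := inferInstance
    have hD := ih (A' ⧸ q') hdimD ((A' ⧸ q') ⊗[A] B)
      (jacobson_baseChange A B (A' ⧸ q') hJ) (H_baseChange A B (A' ⧸ q') h)
    -- transfer along the isomorphisms
    let e1 := Algebra.TensorProduct.quotIdealMapEquivQuotTensor (A' ⊗[A] B) q'
    let e2 := Algebra.TensorProduct.cancelBaseChange A A' A' (A' ⧸ q') B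
    exact isReduced_of_injective (e1.toRingEquiv.trans e2.toRingEquiv)
      (e1.toRingEquiv.trans e2.toRingEquiv).injective

end step

theorem isReduced_of_complete_domain : ∀ (n : ℕ), IH.{u} n := by
  intro n
  induction n with
  | zero =>
    intro A _ _ _ _ _ hdim B _ _ _ _ hJ h
    apply isReduced_of_maximalIdeal_eq_bot A B _ h
    have hf : IsField A := by
      haveI : Ring.KrullDimLE 0 A := Ring.krullDimLE_iff.mpr (by simpa using hdim)
      exact Ring.KrullDimLE.isField_of_isDomain
    exact IsLocalRing.isField_iff_maximalIdeal_eq.mp hf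
  | succ n ih =>
    intro A _ _ _ _ _ hdim B _ _ _ _ hJ h
    by_cases hm : maximalIdeal A = ⊥
    · exact isReduced_of_maximalIdeal_eq_bot A B hm h
    -- the normalization
    obtain ⟨hloc, hcompl⟩ := Groth.Agent.S4564.result (A := A) (K' := FractionRing A)
    haveI := hloc
    haveI := hcompl
    have hNag := Groth.Agent.S0568.result A
    have hN2 : CAlg.IsN2 A := Groth.Agent.Lib.Helper24.NagFT.isN2_of_isNagata hNag
    haveI hfin : Module.Finite A (integralClosure A (FractionRing A)) :=
      hN2 (FractionRing A) inferInstance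
    haveI : IsNoetherianRing (integralClosure A (FractionRing A)) :=
      IsNoetherianRing.of_finite A _
    haveI : IsIntegrallyClosed (integralClosure A (FractionRing A)) :=
      integralClosure.isIntegrallyClosedOfFiniteExtension (FractionRing A)
    have hinj : Function.Injective (algebraMap A (integralClosure A (FractionRing A))) := by
      intro x y hxy
      have := congrArg (algebraMap (integralClosure A (FractionRing A)) (FractionRing A)) hxy
      rw [← IsScalarTower.algebraMap_apply, ← IsScalarTower.algebraMap_apply] at this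
      exact IsFractionRing.injective A (FractionRing A) this
    have hdimA' : ringKrullDim (integralClosure A (FractionRing A)) ≤
        ((n + 1 : ℕ) : WithBot ℕ∞) :=
      (Groth.Agent.Lib.Helper24.SopFinite.ringKrullDim_le_of_isIntegral
        (algebraMap A (integralClosure A (FractionRing A)))
        (algebraMap_isIntegral_iff.mpr inferInstance)).trans hdim
    have hred := isReduced_baseChange_normal n ih A (integralClosure A (FractionRing A)) B hinj hm
      hdimA' hJ h
    exact isReduced_of_injective
      (Algebra.TensorProduct.includeRight : B →ₐ[A] integralClosure A (FractionRing A) ⊗[A] B)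
      (includeRight_injective_of_flat A B _ hinj)

end Groth.Agent.Lib.Helper24.RedFib
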