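import Mathlib
import Groth.Agent.Lib.Helper24.RedFib3

/-!
# Reduced fibres of flat local homomorphisms (helper24), part 4: the reduction to the complete case

* `isReduced_tensor_of_minimalPrimes`: `C ⊗[R] E` is reduced if `C` is Noetherian and reduced, `E` is
  `R`-flat and `(C ⧸ q) ⊗[R] E` is reduced for all minimal primes `q` of `C`.
* `compatibleSMul_of_surj`: `k' ⊗[A] E = k' ⊗[Ah] E` if `A → Ah / I Ah` is surjective and `I k' = 0`.
* `isReduced_tensor_of_complete`: theorem R.
-/

set_option autoImplicit false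
universe u
open TensorProduct IsLocalRing

namespace Groth.Agent.Lib.Helper24.RedFib

theorem isReduced_pi' {ι : Type u} (B : ι → Type u) [∀ i, CommRing (B i)]
    (h : ∀ i, IsReduced (B i)) : IsReduced (∀ i, B i) := by
  refine ⟨fun x hx => ?_⟩
  funext i
  obtain ⟨n, hn⟩ := hx
  have : IsNilpotent (x i) := ⟨n, by simpa using congrFun hn i⟩
  exact (h i).eq_zero _ this

theorem isReduced_tensor_of_minimalPrimes (R : Type u) [CommRing R]
    (C : Type u) [CommRing C] [Algebra R C] [IsNoetherianRing C] [IsReduced C]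
    (E : Type u) [CommRing E] [Algebra R E] [Module.Flat R E]
    (h : ∀ q ∈ minimalPrimes C, IsReduced ((C ⧸ q) ⊗[R] E)) : IsReduced (C ⊗[R] E) := by
  classical
  have hfin : (minimalPrimes C).Finite := minimalPrimes.finite_of_isNoetherianRing C
  haveI : Fintype ↥(minimalPrimes C) := hfin.fintype
  let g : C →ₐ[R] (∀ i : ↥(minimalPrimes C), C ⧸ i.1) :=
    AlgHom.pi (fun i => Ideal.Quotient.mkₐ R i.1)
  have hg : Function.Injective g := by
    rw [injective_iff_map_eq_zero]
    intro x hx
    have h1 : x ∈ sInf (minimalPrimes C) := by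
      rw [Submodule.mem_sInf]
      intro p hp
      have := congrFun hx ⟨p, hp⟩
      simpa [g, Ideal.Quotient.eq_zero_iff_mem] using this
    have h2 : sInf (minimalPrimes C) = nilradical C := by
      rw [minimalPrimes, Ideal.sInf_minimalPrimes]
      rfl
    rw [h2, nilradical_eq_zero] at h1
    simpa using h1
  let G : C ⊗[R] E →ₐ[R] (∀ i : ↥(minimalPrimes C), C ⧸ i.1) ⊗[R] E :=
    Algebra.TensorProduct.map g (AlgHom.id R _)
  have hG : Function.Injective G := by
    have := Module.Flat.rTensor_preserves_injective_linearMap (M := E) g.toLinearMap hg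
    exact this
  let e1 := Algebra.TensorProduct.comm R (∀ i : ↥(minimalPrimes C), C ⧸ i.1) E
  let e2 := Algebra.TensorProduct.piRight R R E (fun i : ↥(minimalPrimes C) => C ⧸ i.1)
  haveI : IsReduced (∀ i : ↥(minimalPrimes C), E ⊗[R] (C ⧸ i.1)) := by
    apply isReduced_pi'
    intro i
    haveI := h i.1 i.2
    exact isReduced_of_injective (Algebra.TensorProduct.comm R E (C ⧸ i.1))
      (Algebra.TensorProduct.comm R E (C ⧸ i.1)).injective
  exact isReduced_of_injective ((e2.toAlgHom.comp e1.toAlgHom).comp G)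
    ((e2.injective.comp e1.injective).comp hG)

section compat

variable (A Ah : Type u) [CommRing A] [CommRing Ah] [Algebra A Ah] (I : Ideal A)
  (hsurj : ∀ r' : Ah, ∃ a : A, r' - algebraMap A Ah a ∈ I.map (algebraMap A Ah))
  (k' : Type u) [CommRing k'] [Algebra A k'] [Algebra Ah k'] [IsScalarTower A Ah k']
  (hI : ∀ a ∈ I, algebraMap A k' a = 0)
  (E : Type u) [CommRing E] [Algebra A E] [Algebra Ah E] [IsScalarTower A Ah E]

include hsurj hI in
theorem compatibleSMul_of_surj : TensorProduct.CompatibleSMul A Ah k' E := by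
  -- the two kernels
  have hker1 : I.map (algebraMap A Ah) ≤ RingHom.ker (algebraMap Ah k') := by
    rw [Ideal.map_le_iff_le_comap]
    intro a ha
    rw [Ideal.mem_comap, RingHom.mem_ker, ← IsScalarTower.algebraMap_apply]
    exact hI a ha
  let φ : Ah →+* k' ⊗[A] E :=
    (Algebra.TensorProduct.includeRight : E →ₐ[A] k' ⊗[A] E).toRingHom.comp (algebraMap Ah E)
  have hker2 : I.map (algebraMap A Ah) ≤ RingHom.ker φ := by
    rw [Ideal.map_le_iff_le_comap]
    intro a ha
    rw [Ideal.mem_comap, RingHom.mem_ker]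
    change (1 : k') ⊗ₜ[A] (algebraMap Ah E (algebraMap A Ah a)) = 0
    rw [← IsScalarTower.algebraMap_apply, Algebra.algebraMap_eq_smul_one, ← TensorProduct.smul_tmul,
      ← Algebra.algebraMap_eq_smul_one, hI a ha, TensorProduct.zero_tmul]
  refine ⟨fun r' x y => ?_⟩
  obtain ⟨a, ha⟩ := hsurj r'
  set z := r' - algebraMap A Ah a with hz
  have hr' : r' = algebraMap A Ah a + z := by rw [hz]; ring
  have h1 : z • x = 0 := by
    rw [Algebra.smul_def, (RingHom.mem_ker).mp (hker1 ha), zero_mul]
  have h2 : x ⊗ₜ[A] (z • y) = 0 := by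
    have h3 : φ z = 0 := (RingHom.mem_ker).mp (hker2 ha)
    have h4 : x ⊗ₜ[A] (z • y) = (x ⊗ₜ[A] y) * φ z := by
      change _ = (x ⊗ₜ[A] y) * ((1 : k') ⊗ₜ[A] (algebraMap Ah E z))
      rw [Algebra.TensorProduct.tmul_mul_tmul, mul_one, Algebra.smul_def, mul_comm]
    rw [h4, h3, mul_zero]
  rw [hr', add_smul, add_smul, TensorProduct.add_tmul, TensorProduct.tmul_add, h1, h2,
    TensorProduct.zero_tmul, add_zero, add_zero, algebraMap_smul, algebraMap_smul,
    TensorProduct.smul_tmul]

include hsurj hI in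
/-- `k' ⊗[Ah] E` embeds into `k' ⊗[A] E`. -/
theorem isReduced_tensor_of_surj (h : IsReduced (k' ⊗[A] E)) : IsReduced (k' ⊗[Ah] E) := by
  haveI := compatibleSMul_of_surj A Ah I hsurj k' hI E
  let e := Algebra.TensorProduct.equivOfCompatibleSMul A Ah A k' E
  exact isReduced_of_injective e.toRingEquiv e.injective

end compat

end Groth.Agent.Lib.Helper24.RedFib
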