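import Mathlib
import Groth.Agent.Lib.Helper24.RedFib4

/-!
# Reduced fibres of flat local homomorphisms (helper24), part 5: theorem R, localization, descent

* `isReduced_tensor_of_complete`: `Ah` complete Noetherian local, `E` a Noetherian flat `Ah`-algebra
  with `𝔪 E ⊆ rad E` and geometrically reduced closed fibre; `C` a finite `A`-algebra with
  `Ah ⊗[A] C` reduced. Then `C ⊗[A] E` is reduced.
* `isReduced_tensor_fractionRing`: pass from `C` to its fraction field.
* `isReduced_of_faithfullyFlat_tensor`: descent along a faithfully flat `B → Bh`.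
-/

set_option autoImplicit false
universe u
open TensorProduct IsLocalRing

namespace Groth.Agent.Lib.Helper24.RedFib

theorem exists_isLocalRing_isAdicComplete_of_finite (Ah : Type u) [CommRing Ah] [IsLocalRing Ah]
    [IsNoetherianRing Ah] [IsAdicComplete (maximalIdeal Ah) Ah]
    (D : Type u) [CommRing D] [IsDomain D] [Algebra Ah D] [Module.Finite Ah D] :
    ∃ _ : IsLocalRing D, IsAdicComplete (maximalIdeal D) D := by
  classical
  haveI : HenselianLocalRing Ah :=
    Groth.Agent.Lib.helper26.PairHens.henselianLocalRing_of_henselianRing Ah inferInstance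
  haveI : Algebra.IsIntegral Ah D := inferInstance
  haveI hloc : IsLocalRing D :=
    Groth.Agent.Lib.Helper24.IntegralHensel.isLocalRing_of_isDomain_of_isIntegral Ah _
  refine ⟨hloc, ?_⟩
  haveI : IsAdicComplete (maximalIdeal Ah) D :=
    Groth.Agent.S9405.isAdicComplete_of_finite (maximalIdeal Ah) _
  obtain ⟨k, hk, hle⟩ := Groth.Agent.Lib.Helper24.CplFinAlg.exists_jacobson_pow_le Ah D
  rw [IsLocalRing.jacobson_eq_maximalIdeal ⊥ bot_ne_top] at hle
  haveI : IsLocalHom (algebraMap Ah D) :=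
    Groth.Agent.Lib.Helper24.IntegralHensel.isLocalHom_of_isIntegral Ah _
  have h1 : (maximalIdeal Ah).map (algebraMap Ah D) ≤ maximalIdeal D :=
    IsLocalRing.map_maximalIdeal_le _
  exact Groth.Agent.S9405.isAdicComplete_transfer (maximalIdeal Ah) (maximalIdeal D) k hk h1 hle

theorem exists_nat_dim_le (D : Type u) [CommRing D] [FiniteRingKrullDim D] :
    ∃ n : ℕ, ringKrullDim D ≤ n := by
  have h1 := ringKrullDim_ne_top (R := D)
  generalize ringKrullDim D = d at h1
  induction d using WithBot.recBotCoe with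
  | bot => exact ⟨0, bot_le⟩
  | coe a =>
    have ha : a ≠ ⊤ := fun h => h1 (by rw [h]; rfl)
    obtain ⟨n, rfl⟩ := ENat.ne_top_iff_exists.mp ha
    exact ⟨n, le_rfl⟩

section R

variable (A : Type u) [CommRing A]
  (Ah : Type u) [CommRing Ah] [IsLocalRing Ah] [IsNoetherianRing Ah]
  [IsAdicComplete (maximalIdeal Ah) Ah] [Algebra A Ah]
  (E : Type u) [CommRing E] [IsNoetherianRing E] [Algebra Ah E] [Algebra A E]
  [IsScalarTower A Ah E] [Module.Flat Ah E]
  (C : Type u) [CommRing C] [Algebra A C] [Module.Finite A C]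

theorem isReduced_tensor_of_complete
    (hJ : (maximalIdeal Ah).map (algebraMap Ah E) ≤ Ideal.jacobson ⊥) (hH : H Ah E)
    (hred : IsReduced (Ah ⊗[A] C)) : IsReduced (C ⊗[A] E) := by
  haveI : Module.Finite Ah (Ah ⊗[A] C) := inferInstance
  haveI : IsNoetherianRing (Ah ⊗[A] C) := IsNoetherianRing.of_finite Ah _
  have key : IsReduced ((Ah ⊗[A] C) ⊗[Ah] E) := by
    apply isReduced_tensor_of_minimalPrimes Ah (Ah ⊗[A] C) E
    intro q hq
    haveI : q.IsPrime := hq.1.1
    haveI : IsDomain ((Ah ⊗[A] C) ⧸ q) := Ideal.Quotient.isDomain q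
    haveI : Module.Finite Ah ((Ah ⊗[A] C) ⧸ q) := inferInstance
    obtain ⟨hloc, hc⟩ := exists_isLocalRing_isAdicComplete_of_finite Ah ((Ah ⊗[A] C) ⧸ q)
    haveI := hloc
    haveI := hc
    haveI : IsNoetherianRing ((Ah ⊗[A] C) ⧸ q) := inferInstance
    obtain ⟨n, hn⟩ := exists_nat_dim_le ((Ah ⊗[A] C) ⧸ q)
    haveI : IsNoetherianRing (((Ah ⊗[A] C) ⧸ q) ⊗[Ah] E) := isNoetherianRing_baseChange Ah E _
    haveI : Algebra.IsIntegral Ah ((Ah ⊗[A] C) ⧸ q) := inferInstance
    exact isReduced_of_complete_domain n ((Ah ⊗[A] C) ⧸ q) hn (((Ah ⊗[A] C) ⧸ q) ⊗[Ah] E)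
      (jacobson_baseChange Ah E _ hJ) (H_baseChange Ah E _ hH)
  let e1 := Algebra.TensorProduct.comm Ah (Ah ⊗[A] C) E
  let e2 := Algebra.TensorProduct.cancelBaseChange A Ah Ah E C
  let e3 := Algebra.TensorProduct.comm A E C
  let e : (Ah ⊗[A] C) ⊗[Ah] E ≃+* C ⊗[A] E :=
    (e1.toRingEquiv.trans e2.toRingEquiv).trans e3.toRingEquiv
  exact isReduced_of_injective e.symm.toRingHom e.symm.injective

end R

theorem isReduced_tensor_fractionRing (A : Type u) [CommRing A] (C : Type u) [CommRing C]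
    [Algebra A C] (L : Type u) [Field L] [Algebra A L] [Algebra C L] [IsScalarTower A C L]
    [IsFractionRing C L] (E : Type u) [CommRing E] [Algebra A E]
    (h : IsReduced (C ⊗[A] E)) : IsReduced (L ⊗[A] E) := by
  haveI : IsLocalization (Algebra.algebraMapSubmonoid (C ⊗[A] E) (nonZeroDivisors C))
      ((C ⊗[A] E) ⊗[C] L) := IsLocalization.tensor L (nonZeroDivisors C)
  haveI : IsReduced ((C ⊗[A] E) ⊗[C] L) :=
    isReduced_localizationPreserves
      (Algebra.algebraMapSubmonoid (C ⊗[A] E) (nonZeroDivisors C)) _ h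
  let e1 := Algebra.TensorProduct.comm C (C ⊗[A] E) L
  let e2 := Algebra.TensorProduct.cancelBaseChange A C C L E
  let e : (C ⊗[A] E) ⊗[C] L ≃+* L ⊗[A] E := e1.toRingEquiv.trans e2.toRingEquiv
  exact isReduced_of_injective e.symm.toRingHom e.symm.injective

theorem isReduced_of_faithfullyFlat_tensor (A : Type u) [CommRing A] (L : Type u) [CommRing L]
    [Algebra A L] (B : Type u) [CommRing B] [Algebra A B] (Bh : Type u) [CommRing Bh]
    [Algebra B Bh] [Algebra A Bh] [IsScalarTower A B Bh] [Module.FaithfullyFlat B Bh]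
    (h : IsReduced (L ⊗[A] Bh)) : IsReduced (L ⊗[A] B) := by
  let e1 := Algebra.TensorProduct.comm A L B
  let ι : B ⊗[A] L →ₐ[B] Bh ⊗[B] (B ⊗[A] L) := Algebra.TensorProduct.includeRight
  have hι : Function.Injective ι := by
    rw [injective_iff_map_eq_zero]
    intro x hx
    exact (Module.FaithfullyFlat.one_tmul_eq_zero_iff B (B ⊗[A] L) x).mp hx
  let e2 := Algebra.TensorProduct.cancelBaseChange A B B Bh L
  let e3 := Algebra.TensorProduct.comm A Bh L
  let f : L ⊗[A] B →+* L ⊗[A] Bh :=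
    (e3.toRingEquiv.toRingHom.comp e2.toRingEquiv.toRingHom).comp
      (ι.toRingHom.comp e1.toRingEquiv.toRingHom)
  have hf : Function.Injective f :=
    (e3.injective.comp e2.injective).comp (hι.comp e1.injective)
  exact isReduced_of_injective f hf

end Groth.Agent.Lib.Helper24.RedFib
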