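import Groth.Agent.Lib.Helper24.CplFree1

/-!
# `F̂ ⊗ Q ↪ ∏ Q` for the completion of a free module (helper24)

`R` Noetherian and `I`-adically complete, `F = α →₀ R`.  For every module `Q` the natural map
`Phi : F̂ ⊗ Q → (α → Q)` is injective.  Consequences: `F̂ → ∏ R̂` is universally injective and
`F̂` is Mittag-Leffler.
-/

set_option autoImplicit false
open TensorProduct

namespace Groth.Agent.Lib.Helper24.CplFree

universe u

variable {R : Type u} [CommRing R] (I : Ideal R) [IsAdicComplete I R] (α : Type u)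

/-- The natural map `F̂ ⊗ Q → ∏_α Q`. -/
noncomputable def Phi (Q : Type u) [AddCommGroup Q] [Module R Q] :
    AdicCompletion I (α →₀ R) ⊗[R] Q →ₗ[R] (α → Q) :=
  LinearMap.pi (fun a => (TensorProduct.lid R Q).toLinearMap ∘ₗ (coord I α a).rTensor Q)

theorem Phi_tmul (Q : Type u) [AddCommGroup Q] [Module R Q] (x : AdicCompletion I (α →₀ R))
    (q : Q) (a : α) : Phi I α Q (x ⊗ₜ q) a = coord I α a x • q := by
  simp [Phi]

theorem Phi_lTensor {Q Q' : Type u} [AddCommGroup Q] [Module R Q] [AddCommGroup Q'] [Module R Q']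
    (g : Q →ₗ[R] Q') (t : AdicCompletion I (α →₀ R) ⊗[R] Q) (a : α) :
    Phi I α Q' (LinearMap.lTensor _ g t) a = g (Phi I α Q t a) := by
  induction t using TensorProduct.induction_on with
  | zero => simp
  | tmul x q => rw [LinearMap.lTensor_tmul, Phi_tmul, Phi_tmul, map_smul]
  | add t₁ t₂ h₁ h₂ => rw [map_add, map_add, Pi.add_apply, h₁, h₂, map_add, Pi.add_apply, map_add]

variable [IsNoetherianRing R]

open Groth.Agent.S0550 in
theorem Phi_injective_of_finite (Q : Type u) [AddCommGroup Q] [Module R Q] [Module.Finite R Q] :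
    Function.Injective (Phi I α Q) := by
  obtain ⟨n, q, hq⟩ := Module.Finite.exists_fin (R := R) (M := Q)
  have hrepr : ∀ t : AdicCompletion I (α →₀ R) ⊗[R] Q,
      ∃ x : Fin n → AdicCompletion I (α →₀ R), t = ∑ j, x j ⊗ₜ[R] q j := by
    intro t
    induction t using TensorProduct.induction_on with
    | zero => exact ⟨0, by simp⟩
    | tmul z p =>
      have hp : p ∈ Submodule.span R (Set.range q) := hq ▸ Submodule.mem_top
      obtain ⟨r, rfl⟩ := (Submodule.mem_span_range_iff_exists_fun R).mp hp
      refine ⟨fun j => r j • z, ?_⟩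
      rw [tmul_sum]
      exact Finset.sum_congr rfl (fun j _ => by rw [tmul_smul, smul_tmul'])
    | add t₁ t₂ h₁ h₂ =>
      obtain ⟨x₁, rfl⟩ := h₁
      obtain ⟨x₂, rfl⟩ := h₂
      refine ⟨x₁ + x₂, ?_⟩
      rw [← Finset.sum_add_distrib]
      exact Finset.sum_congr rfl (fun j _ => by rw [Pi.add_apply, add_tmul])
  rw [injective_iff_map_eq_zero]
  intro t ht
  obtain ⟨x, rfl⟩ := hrepr t
  obtain ⟨m, b, hb⟩ := Submodule.fg_iff_exists_fin_generating_family.mp
    (IsNoetherian.noetherian (LinearMap.ker (Fintype.linearCombination R q)))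
  have hrel : ∀ l, ∑ j, b l j • q j = 0 := by
    intro l
    have h1 : b l ∈ LinearMap.ker (Fintype.linearCombination R q) := by
      rw [← hb]; exact Submodule.subset_span ⟨l, rfl⟩
    have h2 := LinearMap.mem_ker.mp h1
    rwa [Fintype.linearCombination_apply] at h2
  have hK : ∀ a, ∃ u : Fin m → R, ∀ j, ∑ l, u l * b l j = coord I α a (x j) := by
    intro a
    have h1 : (fun j => coord I α a (x j)) ∈ LinearMap.ker (Fintype.linearCombination R q) := by
      rw [LinearMap.mem_ker, Fintype.linearCombination_apply]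
      have h2 := congrFun ht a
      rw [map_sum, Finset.sum_apply, Pi.zero_apply] at h2
      rw [← h2]
      exact Finset.sum_congr rfl (fun j _ => (Phi_tmul I α Q (x j) (q j) a).symm)
    rw [← hb, ← Fintype.range_linearCombination] at h1
    obtain ⟨u, hu⟩ := h1
    exact ⟨u, fun j => by rw [← lc_apply, hu]⟩
  obtain ⟨y, hy⟩ := exists_decomp I α b x hK
  calc ∑ j, x j ⊗ₜ[R] q j = ∑ j, ∑ l, y l ⊗ₜ[R] (b l j • q j) := by
        refine Finset.sum_congr rfl (fun j _ => ?_)
        rw [hy j, sum_tmul]
        exact Finset.sum_congr rfl (fun l _ => by rw [smul_tmul])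
    _ = ∑ l, y l ⊗ₜ[R] (∑ j, b l j • q j) := by
        rw [Finset.sum_comm]
        exact Finset.sum_congr rfl (fun l _ => by rw [tmul_sum])
    _ = 0 := by
        refine Finset.sum_eq_zero (fun l _ => ?_)
        rw [hrel l, tmul_zero]

theorem Phi_injective (Q : Type u) [AddCommGroup Q] [Module R Q] :
    Function.Injective (Phi I α Q) := by
  rw [injective_iff_map_eq_zero]
  intro t ht
  obtain ⟨Q₀, hfin, hsub⟩ := TensorProduct.exists_finite_submodule_right_of_setFinite {t}
    (Set.finite_singleton t)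
  obtain ⟨t₀, rfl⟩ := hsub (Set.mem_singleton t)
  haveI := hfin
  have h0 : Phi I α Q₀ t₀ = 0 := by
    funext a
    apply Subtype.val_injective
    have h1 := congrFun ht a
    rw [Phi_lTensor] at h1
    exact h1
  rw [Phi_injective_of_finite I α Q₀ (h0.trans (map_zero _).symm), map_zero]

/-- `F̂ → ∏ R̂` is universally injective. -/
theorem rTensor_pi_injective (Q : Type u) [AddCommGroup Q] [Module R Q] :
    Function.Injective (LinearMap.rTensor Q
      (LinearMap.pi fun a : α => (AdicCompletion.map I (Finsupp.lapply a : (α →₀ R) →ₗ[R] R)).restrictScalars R :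
        AdicCompletion I (α →₀ R) →ₗ[R] (α → AdicCompletion I R))) := by
  let G : (α → AdicCompletion I R) ⊗[R] Q →ₗ[R] (α → Q) :=
    LinearMap.pi (fun a => (TensorProduct.lid R Q).toLinearMap ∘ₗ
      (((AdicCompletion.ofAlgEquiv I).symm.toLinearMap) ∘ₗ
        (LinearMap.proj a : (α → AdicCompletion I R) →ₗ[R] AdicCompletion I R)).rTensor Q)
  have hG : ∀ t, G (LinearMap.rTensor Q
      (LinearMap.pi fun a : α => (AdicCompletion.map I (Finsupp.lapply a : (α →₀ R) →ₗ[R] R)).restrictScalars R :
        AdicCompletion I (α →₀ R) →ₗ[R] (α → AdicCompletion I R)) t) = Phi I α Q t := by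
    intro t
    induction t using TensorProduct.induction_on with
    | zero => simp
    | tmul x q =>
      funext a
      rw [Phi_tmul]
      simp [G, coord]
    | add t₁ t₂ h₁ h₂ => rw [map_add, map_add, h₁, h₂, map_add]
  intro t₁ t₂ h
  apply Phi_injective I α Q
  rw [← hG, ← hG, h]

/-- `F̂` is Mittag-Leffler. -/
theorem piRightHom_injective (ι : Type u) (Q : ι → Type u) [∀ i, AddCommGroup (Q i)]
    [∀ i, Module R (Q i)] :
    Function.Injective (TensorProduct.piRightHom R R (AdicCompletion I (α →₀ R)) Q) := by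
  have key : ∀ (t : AdicCompletion I (α →₀ R) ⊗[R] (∀ i, Q i)) (a : α) (i : ι),
      Phi I α (∀ i, Q i) t a i =
        Phi I α (Q i) (TensorProduct.piRightHom R R (AdicCompletion I (α →₀ R)) Q t i) a := by
    intro t a i
    induction t using TensorProduct.induction_on with
    | zero => simp
    | tmul x f => rw [Phi_tmul, TensorProduct.piRightHom_tmul, Phi_tmul, Pi.smul_apply]
    | add t₁ t₂ h₁ h₂ =>
      rw [map_add, map_add, Pi.add_apply, Pi.add_apply, Pi.add_apply, h₁, h₂, map_add,
        Pi.add_apply]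
  rw [injective_iff_map_eq_zero]
  intro t ht
  apply Phi_injective I α (∀ i, Q i)
  rw [map_zero]
  funext a i
  rw [key, ht]
  simp

end Groth.Agent.Lib.Helper24.CplFree
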