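import Mathlib

/-!
# Adic formal unramifiedness and `Ω = 𝔟 Ω` (helper24)

`A → B` a ring map, `𝔟` an ideal of `B`.

* `pow_smul_top_eq_top`: `𝔟 Ω = Ω ⇒ 𝔟ᵐ Ω = Ω`;
* `formallyUnramified_quotient_pow`: if `𝔟 Ω_{B/A} = Ω_{B/A}` then every `B/𝔟ᵐ` is formally
  unramified over `A`;
* `eq_of_smul_top_eq_top`: uniqueness of continuous lifts along nilpotent thickenings;
* `derivation_eq_zero_of_subsingleton`: a derivation `B → M` killing the kernel of a surjection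
  `B → B'` with `Ω_{B'/A} = 0` vanishes (`M` a `B'`-module);
* `smul_top_eq_top_of_subsingleton`: if `Ω_{(B/𝔠)/A} = 0`, `𝔠 ≤ 𝔟` and `d𝔠 ⊆ 𝔟 Ω` then `𝔟 Ω = Ω`.
-/

set_option autoImplicit false
universe u

namespace Groth.Agent.Lib.Helper24.AdicUnram

section

variable {A B : Type u} [CommRing A] [CommRing B] [Algebra A B] (𝔟 : Ideal B)

theorem pow_smul_top_eq_top {M : Type*} [AddCommGroup M] [Module B M]
    (h : 𝔟 • (⊤ : Submodule B M) = ⊤) (m : ℕ) : 𝔟 ^ m • (⊤ : Submodule B M) = ⊤ := by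
  induction m with
  | zero => rw [pow_zero, Ideal.one_eq_top, Submodule.top_smul]
  | succ m ih => rw [pow_succ, Submodule.mul_smul, h, ih]

theorem formallyUnramified_quotient_pow
    (h : 𝔟 • (⊤ : Submodule B (Ω[B⁄A])) = ⊤) (m : ℕ) :
    Algebra.FormallyUnramified A (B ⧸ 𝔟 ^ m) := by
  constructor
  have hsurj : Function.Surjective (KaehlerDifferential.map A A B (B ⧸ 𝔟 ^ m)) :=
    KaehlerDifferential.map_surjective_of_surjective A A B (B ⧸ 𝔟 ^ m)
      Ideal.Quotient.mk_surjective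
  have hzero : ∀ ω : Ω[B⁄A], KaehlerDifferential.map A A B (B ⧸ 𝔟 ^ m) ω = 0 := by
    intro ω
    have hω : ω ∈ 𝔟 ^ m • (⊤ : Submodule B (Ω[B⁄A])) := by
      rw [pow_smul_top_eq_top 𝔟 h m]; exact Submodule.mem_top
    refine Submodule.smul_induction_on hω ?_ ?_
    · intro c hc ω' _
      rw [map_smul, ← algebraMap_smul (B ⧸ 𝔟 ^ m) c, Ideal.Quotient.algebraMap_eq,
        Ideal.Quotient.eq_zero_iff_mem.mpr hc, zero_smul]
    · intro x y hx hy
      rw [map_add, hx, hy, add_zero]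
  refine ⟨fun x y => ?_⟩
  obtain ⟨x', rfl⟩ := hsurj x
  obtain ⟨y', rfl⟩ := hsurj y
  rw [hzero, hzero]

theorem eq_of_smul_top_eq_top (h : 𝔟 • (⊤ : Submodule B (Ω[B⁄A])) = ⊤)
    (E : Type u) [CommRing E] [Algebra A E] (J : Ideal E) (hJ : IsNilpotent J)
    (v₁ v₂ : B →ₐ[A] E) (h₁ : ∃ m : ℕ, ∀ x ∈ 𝔟 ^ m, v₁ x = 0) (h₂ : ∃ m : ℕ, ∀ x ∈ 𝔟 ^ m, v₂ x = 0)
    (hv : ∀ b : B, Ideal.Quotient.mk J (v₁ b) = Ideal.Quotient.mk J (v₂ b)) : v₁ = v₂ := by
  obtain ⟨m₁, hm₁⟩ := h₁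
  obtain ⟨m₂, hm₂⟩ := h₂
  have k₁ : ∀ x ∈ 𝔟 ^ (max m₁ m₂), v₁ x = 0 := fun x hx =>
    hm₁ x (Ideal.pow_le_pow_right (le_max_left _ _) hx)
  have k₂ : ∀ x ∈ 𝔟 ^ (max m₁ m₂), v₂ x = 0 := fun x hx =>
    hm₂ x (Ideal.pow_le_pow_right (le_max_right _ _) hx)
  haveI := formallyUnramified_quotient_pow 𝔟 h (max m₁ m₂)
  let f₁ : B ⧸ 𝔟 ^ (max m₁ m₂) →ₐ[A] E := Ideal.Quotient.liftₐ _ v₁ k₁
  let f₂ : B ⧸ 𝔟 ^ (max m₁ m₂) →ₐ[A] E := Ideal.Quotient.liftₐ _ v₂ k₂
  have hf : (Ideal.Quotient.mkₐ A J).comp f₁ = (Ideal.Quotient.mkₐ A J).comp f₂ := by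
    apply Ideal.Quotient.algHom_ext
    ext b
    exact hv b
  have h12 : f₁ = f₂ := Algebra.FormallyUnramified.lift_unique J hJ f₁ f₂ hf
  ext b
  have : f₁ (Ideal.Quotient.mk _ b) = f₂ (Ideal.Quotient.mk _ b) := by rw [h12]
  exact this

end

section derivation

variable {A B B' M : Type u} [CommRing A] [CommRing B] [CommRing B'] [Algebra A B] [Algebra A B']
  [Algebra B B'] [IsScalarTower A B B'] [AddCommGroup M] [Module A M] [Module B M] [Module B' M]
  [IsScalarTower A B M] [IsScalarTower A B' M] [IsScalarTower B B' M]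

theorem derivation_eq_zero_of_subsingleton (hsurj : Function.Surjective (algebraMap B B'))
    [Subsingleton (Ω[B'⁄A])] (D : Derivation A B M)
    (hD : ∀ x : B, algebraMap B B' x = 0 → D x = 0) : D = 0 := by
  classical
  have hwd : ∀ x x' : B, algebraMap B B' x = algebraMap B B' x' → D x = D x' := by
    intro x x' hxx'
    have : D (x - x') = 0 := hD _ (by rw [map_sub, hxx', sub_self])
    rw [map_sub, sub_eq_zero] at this
    exact this
  let g : B' → M := fun y => D (Classical.choose (hsurj y))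
  have hg : ∀ x : B, g (algebraMap B B' x) = D x := fun x =>
    hwd _ _ (Classical.choose_spec (hsurj (algebraMap B B' x)))
  let D' : Derivation A B' M :=
    { toFun := g
      map_add' := by
        intro y₁ y₂
        obtain ⟨x₁, rfl⟩ := hsurj y₁
        obtain ⟨x₂, rfl⟩ := hsurj y₂
        rw [← map_add, hg, hg, hg, map_add]
      map_smul' := by
        intro a y
        obtain ⟨x, rfl⟩ := hsurj y
        have e : a • algebraMap B B' x = algebraMap B B' (a • x) := by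
          rw [Algebra.smul_def, Algebra.smul_def, map_mul, ← IsScalarTower.algebraMap_apply]
        rw [e, hg, hg, RingHom.id_apply, Derivation.map_smul]
      map_one_eq_zero' := by
        show g 1 = 0
        rw [← map_one (algebraMap B B'), hg, Derivation.map_one_eq_zero]
      leibniz' := by
        intro y₁ y₂
        obtain ⟨x₁, rfl⟩ := hsurj y₁
        obtain ⟨x₂, rfl⟩ := hsurj y₂
        show g _ = _ • g _ + _ • g _
        rw [← map_mul, hg, hg, hg, Derivation.leibniz, algebraMap_smul, algebraMap_smul] }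
  have hD' : ∀ y : B', D' y = 0 := by
    intro y
    rw [← Derivation.liftKaehlerDifferential_comp_D D' y,
      Subsingleton.elim (KaehlerDifferential.D A B' y) 0, map_zero]
  ext x
  rw [← hg x]
  exact hD' _

end derivation

section apply

variable {A B : Type u} [CommRing A] [CommRing B] [Algebra A B] (𝔟 𝔠 : Ideal B)

theorem smul_top_eq_top_of_subsingleton (h𝔠𝔟 : 𝔠 ≤ 𝔟) [Subsingleton (Ω[(B ⧸ 𝔠)⁄A])]
    (hd : ∀ x ∈ 𝔠, KaehlerDifferential.D A B x ∈ 𝔟 • (⊤ : Submodule B (Ω[B⁄A]))) :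
    𝔟 • (⊤ : Submodule B (Ω[B⁄A])) = ⊤ := by
  letI : Module (B ⧸ 𝔠) (Ω[B⁄A] ⧸ 𝔟 • (⊤ : Submodule B (Ω[B⁄A]))) :=
    Module.compHom _ (Ideal.Quotient.factor h𝔠𝔟)
  haveI : IsScalarTower B (B ⧸ 𝔠) (Ω[B⁄A] ⧸ 𝔟 • (⊤ : Submodule B (Ω[B⁄A]))) :=
    IsScalarTower.of_algebraMap_smul fun b m => by
      show (Ideal.Quotient.factor h𝔠𝔟 (algebraMap B (B ⧸ 𝔠) b)) • m = b • m
      rw [Ideal.Quotient.algebraMap_eq, Ideal.Quotient.factor_mk]
      rfl
  haveI : IsScalarTower A (B ⧸ 𝔠) (Ω[B⁄A] ⧸ 𝔟 • (⊤ : Submodule B (Ω[B⁄A]))) :=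
    IsScalarTower.of_algebraMap_smul fun a m => by
      rw [IsScalarTower.algebraMap_apply A B (B ⧸ 𝔠), algebraMap_smul, algebraMap_smul]
  let D : Derivation A B (Ω[B⁄A] ⧸ 𝔟 • (⊤ : Submodule B (Ω[B⁄A]))) :=
    (Submodule.mkQ (𝔟 • (⊤ : Submodule B (Ω[B⁄A])))).compDer (KaehlerDifferential.D A B)
  have hD0 : D = 0 := by
    apply derivation_eq_zero_of_subsingleton (B' := B ⧸ 𝔠) Ideal.Quotient.mk_surjective D
    intro x hx
    rw [Ideal.Quotient.algebraMap_eq, Ideal.Quotient.eq_zero_iff_mem] at hx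
    show Submodule.mkQ _ (KaehlerDifferential.D A B x) = 0
    rw [Submodule.mkQ_apply, Submodule.Quotient.mk_eq_zero]
    exact hd x hx
  apply eq_top_iff.mpr
  intro ω _
  have hω : ω ∈ Submodule.span B (Set.range (KaehlerDifferential.D A B)) := by
    rw [KaehlerDifferential.span_range_derivation]; trivial
  refine Submodule.span_le.mpr ?_ hω
  rintro _ ⟨b, rfl⟩
  have : D b = 0 := by rw [hD0]; rfl
  have h2 : Submodule.mkQ (𝔟 • (⊤ : Submodule B (Ω[B⁄A]))) (KaehlerDifferential.D A B b) = 0 := this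
  rw [Submodule.mkQ_apply, Submodule.Quotient.mk_eq_zero] at h2
  exact h2

end apply

end Groth.Agent.Lib.Helper24.AdicUnram
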