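import Mathlib
import Groth.Agent.Lib.Helper19.ArtFlat

/-!
# Flatness criteria for complexes over an Artinian local ring (helper24)

`A` Artinian local with maximal ideal `𝔪`.
* `flat_coker_of_exact_mod` : `X --f--> Y --g--> P`, `g ∘ f = 0`, `P` flat, exact modulo `𝔪`
  (elementwise: `g y ∈ 𝔪P → y ∈ f(X) + 𝔪Y`) ⇒ `P / g(Y)` flat.
* `injective_and_flat_of_injective_mod` : `g : Y → P`, `P` flat, injective modulo `𝔪` ⇒ `g` injective
  and `Y` flat.
-/

set_option autoImplicit false
universe u
open TensorProduct IsLocalRing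

namespace Groth.Agent.Lib.Helper24.ArtCplx

/-- Kernel of a surjection of flat modules is flat. -/
theorem flat_ker_of_exact {A : Type u} [CommRing A] {M' M M'' : Type u}
    [AddCommGroup M'] [AddCommGroup M] [AddCommGroup M''] [Module A M'] [Module A M] [Module A M'']
    (g : M' →ₗ[A] M) (f : M →ₗ[A] M'') (hg : Function.Injective g) (hf : Function.Surjective f)
    (H : Function.Exact g f) [Module.Flat A M] [Module.Flat A M''] : Module.Flat A M' := by
  rw [Module.Flat.iff_rTensor_preserves_injective_linearMap]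
  intro N N' _ _ _ _ i hi
  have hgN : Function.Injective (g.lTensor N) :=
    LinearMap.lTensor_injective_of_exact_of_flat f hf g hg H N
  have h1 : Function.Injective ((i.rTensor M) ∘ (g.lTensor N)) :=
    (Module.Flat.rTensor_preserves_injective_linearMap (M := M) i hi).comp hgN
  have h2 : (i.rTensor M) ∘ (g.lTensor N) = (g.lTensor N') ∘ (i.rTensor M') := by
    funext y
    simp only [Function.comp_apply]
    rw [← LinearMap.comp_apply, ← LinearMap.comp_apply, LinearMap.rTensor_comp_lTensor,
        LinearMap.lTensor_comp_rTensor]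
  rw [h2] at h1
  exact Function.Injective.of_comp h1

variable {A : Type u} [CommRing A] [IsArtinianRing A] [IsLocalRing A]

theorem flat_coker_of_exact_mod {X Y P : Type u} [AddCommGroup X] [Module A X] [AddCommGroup Y]
    [Module A Y] [AddCommGroup P] [Module A P] [Module.Flat A P]
    (f : X →ₗ[A] Y) (g : Y →ₗ[A] P) (hgf : g ∘ₗ f = 0)
    (hex : ∀ y : Y, g y ∈ maximalIdeal A • (⊤ : Submodule A P) →
      y ∈ LinearMap.range f ⊔ maximalIdeal A • (⊤ : Submodule A Y)) :
    Module.Flat A (P ⧸ LinearMap.range g) := by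
  letI : Field (A ⧸ maximalIdeal A) := Ideal.Quotient.field _
  have hle : LinearMap.range f ≤ LinearMap.ker g := by
    rintro _ ⟨x, rfl⟩
    exact LinearMap.congr_fun hgf x
  let u : (Y ⧸ LinearMap.range f) →ₗ[A] P := (LinearMap.range f).liftQ g hle
  have hru : LinearMap.range u = LinearMap.range g := Submodule.range_liftQ _ g hle
  have h1 : ∀ z : Y ⧸ LinearMap.range f, u z ∈ maximalIdeal A • (⊤ : Submodule A P) →
      z ∈ maximalIdeal A • (⊤ : Submodule A (Y ⧸ LinearMap.range f)) := by
    intro z hz
    obtain ⟨y, rfl⟩ := Submodule.mkQ_surjective _ z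
    have h2 := hex y (by simpa [u] using hz)
    obtain ⟨a, ha, b, hb, rfl⟩ := Submodule.mem_sup.mp h2
    rw [map_add, Submodule.mkQ_apply, (Submodule.Quotient.mk_eq_zero _).mpr ha, zero_add]
    have h3 : (LinearMap.range f).mkQ b ∈
        Submodule.map (LinearMap.range f).mkQ (maximalIdeal A • (⊤ : Submodule A Y)) :=
      ⟨b, hb, rfl⟩
    rw [Submodule.map_smul''] at h3
    exact Submodule.smul_mono le_rfl le_top h3
  have hflat := Groth.Agent.Lib.Helper19.DefCIv.flat_coker (maximalIdeal A) u
    Groth.Agent.Lib.Helper19.ArtFlat.isNilpotent_maximalIdeal h1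
  exact Module.Flat.of_linearEquiv (Submodule.quotEquivOfEq _ _ hru.symm)

theorem injective_and_flat_of_injective_mod {Y P : Type u} [AddCommGroup Y]
    [Module A Y] [AddCommGroup P] [Module A P] [Module.Flat A P] (g : Y →ₗ[A] P)
    (hex : ∀ y : Y, g y ∈ maximalIdeal A • (⊤ : Submodule A P) →
      y ∈ maximalIdeal A • (⊤ : Submodule A Y)) :
    Function.Injective g ∧ Module.Flat A Y := by
  letI : Field (A ⧸ maximalIdeal A) := Ideal.Quotient.field _
  have hflat : Module.Flat A (P ⧸ LinearMap.range g) :=
    Groth.Agent.Lib.Helper19.DefCIv.flat_coker (maximalIdeal A) g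
      Groth.Agent.Lib.Helper19.ArtFlat.isNilpotent_maximalIdeal hex
  have hinj : Function.Injective g :=
    Groth.Agent.Lib.Helper19.DefCIv.injective_of_flat_coker (maximalIdeal A) g
      Groth.Agent.Lib.Helper19.ArtFlat.isNilpotent_maximalIdeal hex
  exact ⟨hinj, flat_ker_of_exact g (LinearMap.range g).mkQ hinj (Submodule.mkQ_surjective _)
    (LinearMap.exact_map_mkQ_range g)⟩

end Groth.Agent.Lib.Helper24.ArtCplx
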