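import Mathlib
import Groth.Prelude.Def_EGA4b
import Groth.Agent.Lib.Helper24.FibRd1
import Groth.Agent.Lib.Helper24.FibRd2
import Groth.Agent.Lib.Helper24.FibMd5
import Groth.Agent.Lib.Helper24.FibCod6
import Groth.Agent.Lib.Helper24.FlatDepth5
import Groth.Agent.Lib.Helper26.CM2
import Groth.Agent.Lib.Helper26.AffEquidim
import Groth.Agent.Lib.Helper3.FibreParam

/-!
# Regular sequences in Cohen–Macaulay fibres (helper24), part 1

* `isOpen_setOf_dim_fibLocRing_add_tdN_le`: Chevalley's semicontinuity for `A → C` of finite type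
  (no Noetherian or flatness hypothesis): `{Q | dim (C_Q / p C_Q) + td(Q) ≤ e}` is open.
* `dim_fibLocRing_add_tdN_eq`: if the fibre ring over `p` is equidimensional of dimension `d`
  then `dim (S_q / p S_q) + td(q) = d` for every `q` over `p`.
* `isCohenMacaulayModule_fibLocRing`: if the fibre ring is CM then so are the fibre local rings.
-/

set_option autoImplicit false
universe u

namespace Groth.Agent.Lib.Helper24.CMFib

open Groth.Agent.Lib.helper3.DimIneq Groth.Agent.Lib.helper3.FibreParam Function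
  Groth.Agent.Lib.Helper24.FibCod Groth.Agent.Lib.Helper24.FibRd Groth.Agent.Lib.Helper24.FibMd
  Algebra TensorProduct LocCoh IsLocalRing

attribute [local instance] Groth.Agent.Lib.helper26.SkFlat.isLocalRing_fibLocRing
attribute [local instance] Algebra.TensorProduct.rightAlgebra

section chevalley

variable (A C : Type u) [CommRing A] [CommRing C] [Algebra A C] [Algebra.FiniteType A C]

/-- **Chevalley's semicontinuity** for finite type algebras, in terms of the fibre local rings. -/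
theorem isOpen_setOf_dim_fibLocRing_add_tdN_le (e : ℕ) :
    IsOpen {Q : PrimeSpectrum C | ringKrullDim (EGA4.FibLocRing A C Q.asIdeal) +
      ((tdN A Q.asIdeal : ℕ) : WithBot ℕ∞) ≤ ((e : ℕ) : WithBot ℕ∞)} := by
  rw [isOpen_iff_forall_mem_open]
  intro Q hQ
  rw [Set.mem_ofPred_eq, dim_fibLocRing_add_tdN_le_iff'] at hQ
  obtain ⟨r, hr, Hr⟩ := exists_notMem_forall_tdN_le (A := A) Q.asIdeal e hQ
  refine ⟨PrimeSpectrum.basicOpen r, ?_, (PrimeSpectrum.basicOpen r).isOpen, hr⟩
  intro Q' hQ'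
  rw [Set.mem_ofPred_eq, dim_fibLocRing_add_tdN_le_iff']
  intro q hq hle _
  haveI := hq
  exact Hr q (fun h => hQ' (hle h))

end chevalley

section fibre

variable (R S : Type u) [CommRing R] [CommRing S] [Algebra R S] [Algebra.FiniteType R S]
  (p : Ideal R) [p.IsPrime] (𝔮 : Ideal (p.Fiber S)) [𝔮.IsPrime]

/-- `dim (S_q / p S_q) + td(q) = d` when the fibre ring over `p` is equidimensional of dimension
`d`. -/
theorem dim_fibLocRing_add_tdN_eq (q : Ideal S) [q.IsPrime]
    (hq : 𝔮.comap (includeRight : S →ₐ[R] p.Fiber S) = q) (d : ℕ)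
    (heq : ∀ P ∈ minimalPrimes (p.Fiber S), ringKrullDim (p.Fiber S ⧸ P) = (d : WithBot ℕ∞)) :
    ringKrullDim (EGA4.FibLocRing R S q) + ((tdN R q : ℕ) : WithBot ℕ∞) =
      ((d : ℕ) : WithBot ℕ∞) := by
  subst hq
  let σ := fiberLocAlgEquivFibLocRing R S p 𝔮
  have h1 : ringKrullDim (Localization.AtPrime 𝔮) =
      ringKrullDim (EGA4.FibLocRing R S (𝔮.comap (includeRight : S →ₐ[R] p.Fiber S))) :=
    ringKrullDim_eq_of_ringEquiv σ.toRingEquiv
  have h2 : ringKrullDim (Localization.AtPrime 𝔮) = 𝔮.height :=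
    IsLocalization.AtPrime.ringKrullDim_eq_height 𝔮 (Localization.AtPrime 𝔮)
  have h3 := Groth.Agent.Lib.helper26.DimFormula.height_add_dim_quotient_of_equidim
    p.ResidueField (p.Fiber S) d heq 𝔮
  haveI : IsDomain (p.Fiber S ⧸ 𝔮) := Ideal.Quotient.isDomain 𝔮
  obtain ⟨n, hn, hdn⟩ := Groth.Agent.Lib.helper26.DimFormula.exists_nat_trdeg_eq_ringKrullDim
    p.ResidueField (p.Fiber S ⧸ 𝔮)
  have h4 := trdeg_fiber_quotient p 𝔮
  have h5 : contr p 𝔮 = 𝔮.comap (includeRight : S →ₐ[R] p.Fiber S) := rfl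
  have h6 : tdN R (𝔮.comap (includeRight : S →ₐ[R] p.Fiber S)) = n := by
    have h7 := tdN_spec (A := R) (𝔮.comap (includeRight : S →ₐ[R] p.Fiber S))
    have h8 : td (Ideal.quotientMap (𝔮.comap (includeRight : S →ₐ[R] p.Fiber S))
        (algebraMap R S) le_rfl) = (n : Cardinal.{u}) := by
      rw [← hn, h4]
      exact (td_quotientMap_congr_prime (algebraMap R S) _ _ h5).symm
    rw [h8] at h7
    exact_mod_cast h7
  rw [← h1, h2, h6, ← hdn]
  exact h3

/-- the fibre local rings of a Cohen–Macaulay fibre ring are Cohen–Macaulay. -/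
theorem isCohenMacaulayModule_fibLocRing (q : Ideal S) [q.IsPrime]
    (hq : 𝔮.comap (includeRight : S →ₐ[R] p.Fiber S) = q)
    (hCM : LocCoh.IsCohenMacaulayRing (p.Fiber S)) :
    IsCohenMacaulayModule (EGA4.FibLocRing R S q) (EGA4.FibLocRing R S q) := by
  subst hq
  let σ := fiberLocAlgEquivFibLocRing R S p 𝔮
  haveI : IsNoetherianRing (EGA4.FibLocRing R S (𝔮.comap (includeRight : S →ₐ[R] p.Fiber S))) :=
    isNoetherianRing_fibLocRing R S _
  haveI hL : LocCoh.IsCohenMacaulayLocalRing (Localization.AtPrime 𝔮) :=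
    hCM.isCohenMacaulayLocalRing_localization 𝔮
  have h0 := hL.supportDim_eq_depth
  have h1 : ringKrullDim (Localization.AtPrime 𝔮) =
      ringKrullDim (EGA4.FibLocRing R S (𝔮.comap (includeRight : S →ₐ[R] p.Fiber S))) :=
    ringKrullDim_eq_of_ringEquiv σ.toRingEquiv
  haveI : IsNoetherianRing (Localization.AtPrime 𝔮) :=
    isNoetherianRing_of_ringEquiv _ σ.symm.toRingEquiv
  have h2 : depth (EGA4.FibLocRing R S (𝔮.comap (includeRight : S →ₐ[R] p.Fiber S)))
      (EGA4.FibLocRing R S (𝔮.comap (includeRight : S →ₐ[R] p.Fiber S))) =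
      depth (Localization.AtPrime 𝔮) (Localization.AtPrime 𝔮) :=
    Groth.Agent.Lib.Helper24.FlatDepth.depth_eq_of_ringEquiv σ.toRingEquiv
  unfold IsCohenMacaulayModule
  rw [Module.supportDim_self_eq_ringKrullDim, ← h1, h2, ← h0,
    Module.supportDim_self_eq_ringKrullDim]

end fibre

end Groth.Agent.Lib.Helper24.CMFib
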