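import Mathlib
import Groth.Prelude.Def_EGA4b
import Groth.Agent.Lib.Helper24.CMFib1
import Groth.Agent.Lib.Helper24.FibRd4

/-!
# Associated points of fibre modules in families (helper24), part 1: ring level

`A → B` of finite presentation, `M` a finitely presented `B`-module flat over `A`.  A prime `q` of `B`
is an *associated point of the fibre module* when `depth (M_q / p M_q) = 0`; its dimension in the fibre
is `tdN A q`.

* `isClosed_setOf_exists_fibGen_tdN_ge` (Chevalley): for `E` closed in `Spec B` (`A → B` of finite type)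
  the set of `Q` having a generization `q ∈ E` in its fibre with `tdN q ≥ m` is closed.
* `isClosed_assN`: `{Q | ∃ q ≤ Q in the fibre, depth(q) = 0, tdN q = n}` is closed.
* `isOpen_setOf_assDims_mem`: EGA IV 12.1.1 (i), ring form.
* `isOpen_setOf_noEmbedded`: EGA IV 12.1.1 (ii), ring form.
-/

set_option autoImplicit false
universe u

namespace Groth.Agent.Lib.Helper24.AssFib

open Function LocCoh IsLocalRing Groth.Agent.Lib.Helper24.FibCod Groth.Agent.Lib.Helper24.FibRd
  Groth.Agent.Lib.Helper24.CMFib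

attribute [local instance] Groth.Agent.Lib.helper26.SkFlat.isLocalRing_fibLocRing

section chevalley

variable (A B : Type u) [CommRing A] [CommRing B] [Algebra A B] [Algebra.FiniteType A B]

/-- **Chevalley**: generizations in the fibre, inside a closed set, of large dimension. -/
theorem isClosed_setOf_exists_fibGen_tdN_ge (E : Set (PrimeSpectrum B)) (hE : IsClosed E) (m : ℕ) :
    IsClosed {Q : PrimeSpectrum B | ∃ q : PrimeSpectrum B, q.asIdeal ≤ Q.asIdeal ∧
      q.asIdeal.comap (algebraMap A B) = Q.asIdeal.comap (algebraMap A B) ∧ q ∈ E ∧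
        m ≤ tdN A q.asIdeal} := by
  obtain ⟨J, rfl⟩ := (PrimeSpectrum.isClosed_iff_zeroLocus_ideal E).mp hE
  rcases Nat.eq_zero_or_pos m with hm | hm
  · subst hm
    convert PrimeSpectrum.isClosed_zeroLocus (J : Set B) using 1
    ext Q
    constructor
    · rintro ⟨q, hle, -, hq, -⟩
      exact fun x hx => hle (hq hx)
    · intro hQ
      exact ⟨Q, le_rfl, rfl, hQ, Nat.zero_le _⟩
  · obtain ⟨e, rfl⟩ : ∃ e, m = e + 1 := ⟨m - 1, by omega⟩
    haveI : Algebra.FiniteType A (B ⧸ J) :=
      Algebra.FiniteType.of_surjective (Ideal.Quotient.mkₐ A J) Ideal.Quotient.mk_surjective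
    have hsurj : Surjective (Ideal.Quotient.mk J) := Ideal.Quotient.mk_surjective
    have hW := isOpen_setOf_dim_fibLocRing_add_tdN_le A (B ⧸ J) e
    have hemb := PrimeSpectrum.isClosedEmbedding_comap_of_surjective (B ⧸ J)
      (Ideal.Quotient.mk J) hsurj
    have hrange : ∀ q : PrimeSpectrum B, q ∈ PrimeSpectrum.zeroLocus (J : Set B) →
        ∃ q' : PrimeSpectrum (B ⧸ J), PrimeSpectrum.comap (Ideal.Quotient.mk J) q' = q := by
      intro q hq
      have : q ∈ Set.range (PrimeSpectrum.comap (Ideal.Quotient.mk J)) := by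
        rw [range_comap_of_surjective _ _ hsurj, Ideal.mk_ker]
        exact hq
      exact this
    convert hemb.isClosedMap _ hW.isClosed_compl using 1
    ext Q
    constructor
    · rintro ⟨q, hle, hfib, hq, htd⟩
      have hQ : Q ∈ PrimeSpectrum.zeroLocus (J : Set B) := fun x hx => hle (hq hx)
      obtain ⟨Q', rfl⟩ := hrange Q hQ
      obtain ⟨q', rfl⟩ := hrange q hq
      refine ⟨Q', ?_, rfl⟩
      intro hmem
      rw [Set.mem_ofPred_eq, dim_fibLocRing_add_tdN_le_iff'] at hmem
      have h1 : q'.asIdeal ≤ Q'.asIdeal := by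
        intro x hx
        obtain ⟨y, rfl⟩ := hsurj x
        exact hle hx
      have h2 : q'.asIdeal.comap (algebraMap A (B ⧸ J)) =
          Q'.asIdeal.comap (algebraMap A (B ⧸ J)) := hfib
      have h3 := hmem q'.asIdeal q'.isPrime h1 h2
      have h4 : tdN A (q'.asIdeal.comap (Ideal.Quotient.mk J)) = tdN A q'.asIdeal :=
        tdN_comap_mk A J q'.asIdeal
      have h5 : e + 1 ≤ tdN A (q'.asIdeal.comap (Ideal.Quotient.mk J)) := htd
      omega
    · rintro ⟨Q', hQ', rfl⟩
      have hnot : ¬ (ringKrullDim (EGA4.FibLocRing A (B ⧸ J) Q'.asIdeal) +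
          ((tdN A Q'.asIdeal : ℕ) : WithBot ℕ∞) ≤ ((e : ℕ) : WithBot ℕ∞)) := hQ'
      rw [dim_fibLocRing_add_tdN_le_iff'] at hnot
      push Not at hnot
      obtain ⟨q', hq'p, hle, hfib, htd⟩ := hnot
      refine ⟨PrimeSpectrum.comap (Ideal.Quotient.mk J) ⟨q', hq'p⟩, Ideal.comap_mono hle, ?_, ?_, ?_⟩
      · exact hfib
      · intro x hx
        show Ideal.Quotient.mk J x ∈ q'
        rw [Ideal.Quotient.eq_zero_iff_mem.mpr hx]
        exact zero_mem _
      · haveI := hq'p
        have h4 : tdN A (q'.comap (Ideal.Quotient.mk J)) = tdN A q' := tdN_comap_mk A J q'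
        show e + 1 ≤ tdN A (q'.comap (Ideal.Quotient.mk J))
        omega

/-- a proper generization in the fibre has strictly larger transcendence degree. -/
theorem eq_of_tdN_eq (q' q : Ideal B) [q'.IsPrime] [q.IsPrime] (hle : q' ≤ q)
    (hfib : q'.comap (algebraMap A B) = q.comap (algebraMap A B)) (h : tdN A q' = tdN A q) :
    q' = q := by
  have h1 := height_map_add_tdN (A := A) q' q hle hfib
  rw [h] at h1
  have h2 : (q.map (Ideal.Quotient.mk q')).height = 0 := by
    have h3 : (q.map (Ideal.Quotient.mk q')).height + (tdN A q : ℕ∞) = 0 + (tdN A q : ℕ∞) := by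
      rw [h1, zero_add]
    exact (ENat.add_left_injective_of_ne_top (ENat.natCast_ne_top _)) h3
  haveI : IsDomain (B ⧸ q') := Ideal.Quotient.isDomain q'
  rw [Ideal.height_eq_zero_iff_eq_bot, Ideal.map_eq_bot_iff_le_ker, Ideal.mk_ker] at h2
  exact le_antisymm hle h2

theorem tdN_le_of_fibGen (q' q : Ideal B) [q'.IsPrime] [q.IsPrime] (hle : q' ≤ q)
    (hfib : q'.comap (algebraMap A B) = q.comap (algebraMap A B)) : tdN A q ≤ tdN A q' := by
  have h1 := height_map_add_tdN (A := A) q' q hle hfib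
  have h2 : (tdN A q : ℕ∞) ≤ (tdN A q' : ℕ∞) := by
    rw [← h1]
    exact le_add_self
  exact_mod_cast h2

end chevalley

section arith

/-- `¬ (n+1 ≤ d + t) ∧ n ≤ t ↔ d = 0 ∧ t = n`. -/
theorem arith_depth_zero (d : ℕ∞) (t n : ℕ) :
    (¬ (((n + 1 : ℕ) : ℕ∞) ≤ d + (t : ℕ∞)) ∧ n ≤ t) ↔ (d = 0 ∧ t = n) := by
  induction d using ENat.recTopCoe with
  | top => simp
  | coe d =>
    have h1 : ((d : ℕ∞) + (t : ℕ∞)) = ((d + t : ℕ) : ℕ∞) := by push_cast; rfl
    rw [h1, Nat.cast_le]
    have h2 : ((d : ℕ∞) = 0) ↔ d = 0 := by exact_mod_cast Iff.rfl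
    rw [h2]
    omega

end arith

section ass

variable (A B : Type u) [CommRing A] [CommRing B] [Algebra A B] [Algebra.FinitePresentation A B]
  (M : Type u) [AddCommGroup M] [Module B M] [Module A M] [IsScalarTower A B M]
  [Module.FinitePresentation B M] [Module.Flat A M]

/-- the fibre-depth at a prime. -/
noncomputable abbrev fdepth (q : PrimeSpectrum B) : ℕ∞ :=
  depth (EGA4.FibLocRing A B q.asIdeal) (EGA4.FibLocMod A B q.asIdeal M)

/-- the set of `Q` which are specializations, in their fibre, of an associated point of the fibre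
module of dimension `n`. -/
def assN (n : ℕ) : Set (PrimeSpectrum B) :=
  {Q | ∃ q : PrimeSpectrum B, q.asIdeal ≤ Q.asIdeal ∧
    q.asIdeal.comap (algebraMap A B) = Q.asIdeal.comap (algebraMap A B) ∧
      fdepth A B M q = 0 ∧ tdN A q.asIdeal = n}

omit [Algebra.FinitePresentation A B] [Module A M] [IsScalarTower A B M]
  [Module.FinitePresentation B M] [Module.Flat A M] in
theorem assN_eq (n : ℕ) : assN A B M n =
    {Q : PrimeSpectrum B | ∃ q : PrimeSpectrum B, q.asIdeal ≤ Q.asIdeal ∧
      q.asIdeal.comap (algebraMap A B) = Q.asIdeal.comap (algebraMap A B) ∧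
        q ∈ (rdepthLocus A B M (n + 1))ᶜ ∧ n ≤ tdN A q.asIdeal} := by
  ext Q
  constructor
  · rintro ⟨q, hle, hfib, hd, ht⟩
    refine ⟨q, hle, hfib, ?_⟩
    exact (arith_depth_zero (fdepth A B M q) (tdN A q.asIdeal) n).mpr ⟨hd, ht⟩
  · rintro ⟨q, hle, hfib, h1, h2⟩
    obtain ⟨hd, ht⟩ := (arith_depth_zero (fdepth A B M q) (tdN A q.asIdeal) n).mp ⟨h1, h2⟩
    exact ⟨q, hle, hfib, hd, ht⟩

theorem isClosed_assN (n : ℕ) : IsClosed (assN A B M n) := by
  haveI : Algebra.FiniteType A B := Algebra.FiniteType.of_finitePresentation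
  rw [assN_eq]
  exact isClosed_setOf_exists_fibGen_tdN_ge A B _ (isOpen_rdepthLocus A B M (n + 1)).isClosed_compl n

/-- a uniform bound for the transcendence degrees. -/
theorem exists_tdN_le : ∃ N : ℕ, ∀ q : PrimeSpectrum B, tdN A q.asIdeal ≤ N := by
  haveI : Algebra.FiniteType A B := Algebra.FiniteType.of_finitePresentation
  obtain ⟨N, f, hf⟩ := Algebra.FiniteType.iff_quotient_mvPolynomial''.mp
    (inferInstance : Algebra.FiniteType A B)
  exact ⟨N, fun q => tdN_le_card (A := A) f hf q.asIdeal⟩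

/-- **EGA IV 12.1.1 (i)**, ring form. -/
theorem isOpen_setOf_assDims_mem (Φ : Finset ℕ) :
    IsOpen {Q : PrimeSpectrum B | ∀ q : PrimeSpectrum B, q.asIdeal ≤ Q.asIdeal →
      q.asIdeal.comap (algebraMap A B) = Q.asIdeal.comap (algebraMap A B) →
        fdepth A B M q = 0 → tdN A q.asIdeal ∈ Φ} := by
  obtain ⟨N, hN⟩ := exists_tdN_le A B
  have hcl : IsClosed (⋃ n ∈ (Finset.range (N + 1)).filter (fun n => n ∉ Φ), assN A B M n) :=
    isClosed_biUnion_finset fun n _ => isClosed_assN A B M n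
  convert hcl.isOpen_compl using 1
  ext Q
  simp only [Set.mem_ofPred_eq, Set.mem_compl_iff, Set.mem_iUnion, Finset.mem_filter,
    Finset.mem_range, not_exists]
  constructor
  · rintro h n ⟨-, hn⟩ ⟨q, hle, hfib, hd, ht⟩
    exact hn (ht ▸ h q hle hfib hd)
  · intro h q hle hfib hd
    by_contra hn
    exact h (tdN A q.asIdeal) ⟨Nat.lt_succ_of_le (hN q), hn⟩ ⟨q, hle, hfib, hd, rfl⟩

/-- **EGA IV 12.1.1 (ii)**, ring form: no embedded associated point of the fibre module passes
through `Q`. -/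
theorem isOpen_setOf_noEmbedded :
    IsOpen {Q : PrimeSpectrum B | ∀ q : PrimeSpectrum B, q.asIdeal ≤ Q.asIdeal →
      q.asIdeal.comap (algebraMap A B) = Q.asIdeal.comap (algebraMap A B) →
        fdepth A B M q = 0 → ∀ q' : PrimeSpectrum B, q'.asIdeal ≤ q.asIdeal →
          q'.asIdeal.comap (algebraMap A B) = q.asIdeal.comap (algebraMap A B) →
            fdepth A B M q' = 0 → q' = q} := by
  haveI : Algebra.FiniteType A B := Algebra.FiniteType.of_finitePresentation
  obtain ⟨N, hN⟩ := exists_tdN_le A B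
  -- the closed sets
  let L : ℕ → Set (PrimeSpectrum B) := fun m =>
    ⋃ n ∈ (Finset.range (N + 1)).filter (fun n => m ≤ n), assN A B M n
  have hL : ∀ m, IsClosed (L m) := fun m =>
    isClosed_biUnion_finset fun n _ => isClosed_assN A B M n
  let K : ℕ → Set (PrimeSpectrum B) := fun n =>
    {Q | ∃ q : PrimeSpectrum B, q.asIdeal ≤ Q.asIdeal ∧
      q.asIdeal.comap (algebraMap A B) = Q.asIdeal.comap (algebraMap A B) ∧
        q ∈ (rdepthLocus A B M (n + 1))ᶜ ∩ L (n + 1) ∧ n ≤ tdN A q.asIdeal}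
  have hK : ∀ n, IsClosed (K n) := fun n =>
    isClosed_setOf_exists_fibGen_tdN_ge A B _
      ((isOpen_rdepthLocus A B M (n + 1)).isClosed_compl.inter (hL (n + 1))) n
  have hcl : IsClosed (⋃ n ∈ Finset.range (N + 1), K n) :=
    isClosed_biUnion_finset fun n _ => hK n
  convert hcl.isOpen_compl using 1
  ext Q
  simp only [Set.mem_ofPred_eq, Set.mem_compl_iff, Set.mem_iUnion, Finset.mem_range, not_exists]
  constructor
  · rintro h n hn ⟨q, hle, hfib, ⟨hq1, hq2⟩, htd⟩
    obtain ⟨hd, ht⟩ := (arith_depth_zero (fdepth A B M q) (tdN A q.asIdeal) n).mp ⟨hq1, htd⟩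
    simp only [L, Set.mem_iUnion, Finset.mem_filter, Finset.mem_range] at hq2
    obtain ⟨n', ⟨-, hn'⟩, q', hle', hfib', hd', ht'⟩ := hq2
    have := h q hle hfib hd q' hle' hfib' hd'
    subst this
    omega
  · intro h q hle hfib hd q' hle' hfib' hd'
    by_contra hne
    have hlt : tdN A q.asIdeal < tdN A q'.asIdeal := by
      have h1 := tdN_le_of_fibGen A B q'.asIdeal q.asIdeal hle' hfib'
      rcases h1.lt_or_eq with h2 | h2
      · exact h2
      · exact absurd (PrimeSpectrum.ext (eq_of_tdN_eq A B q'.asIdeal q.asIdeal hle' hfib' h2.symm)) hne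
    refine h (tdN A q.asIdeal) (Nat.lt_succ_of_le (hN q)) ⟨q, hle, hfib, ⟨?_, ?_⟩, le_rfl⟩
    · exact ((arith_depth_zero (fdepth A B M q) (tdN A q.asIdeal) _).mpr ⟨hd, rfl⟩).1
    · simp only [L, Set.mem_iUnion, Finset.mem_filter, Finset.mem_range]
      exact ⟨tdN A q'.asIdeal, ⟨Nat.lt_succ_of_le (hN q'), hlt⟩, q', hle', hfib', hd', rfl⟩

end ass

end Groth.Agent.Lib.Helper24.AssFib
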