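import Mathlib
import Groth.Prelude.Def_EGA4b
import Groth.Prelude.Def_FDesc
import Groth.Prelude.Def_CohB1
import Groth.Prelude.Def_FlatMod2
import Groth.Agent.Lib.Helper24.AssFib1
import Groth.Agent.Lib.Helper24.AssFib2

/-!
# Associated points of fibre modules in families (helper24), part 3: EGA IV 12.1.1 (i), (ii)

`f : X ⟶ Y` locally of finite presentation, `F` a finitely presented `O_X`-module flat over `Y`.
* `isOpen_setOf_fibre_assDims_through_mem`: the set of `x` such that every associated point of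
  `F_{f x}` specializing to `x` has closure of dimension in `Φ` is open.
* `isOpen_setOf_not_mem_embedded_fibre_assPoint`: the set of `x` lying on no embedded associated cycle
  of `F_{f x}` is open.
-/

set_option autoImplicit false
universe u

namespace Groth.Agent.Lib.Helper24.AssFib

open AlgebraicGeometry CategoryTheory IsLocalRing LocCoh
  Groth.Agent.Lib.helper16.CohStalk Groth.Agent.Lib.helper17.FlatOver1
  Groth.Agent.Lib.helper3.DimIneq Groth.Agent.Lib.helper3.FTField
  Groth.Agent.Lib.helper3.FibreField Groth.Agent.Lib.Helper24.FibCod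
  Groth.Agent.Lib.Helper24.FibMd Groth.Agent.Lib.Helper24.FibRd

attribute [local instance] Groth.Agent.Lib.helper26.SkFlat.isLocalRing_fibLocRing

section dictionary

variable {X Y : Scheme.{u}} (f : X ⟶ Y) {V : Y.Opens} (hV : IsAffineOpen V) {U : X.Opens}
  (hU : IsAffineOpen U) (e : U ≤ f ⁻¹ᵁ V)

theorem base_fiberι (s : Y) (z : f.fiber s) : f (f.fiberι s z) = s := by
  have h : f.fiberι s z ∈ Set.range (f.fiberι s) := Set.mem_range_self z
  rw [Scheme.Hom.range_fiberι] at h
  exact h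

include hV in
/-- the contraction of the prime of a point is the prime of its image. -/
theorem comap_primeIdealOf (x : X) (hx : x ∈ U) :
    letI := (f.appLE V U e).hom.toAlgebra
    (hU.primeIdealOf ⟨x, hx⟩).asIdeal.comap (algebraMap Γ(Y, V) Γ(X, U)) =
      (hV.primeIdealOf ⟨f x, e hx⟩).asIdeal :=
  congr($(IsAffineOpen.comap_primeIdealOf_appLE V hV U hU e hx).1)

include hV in
/-- points of the fibre specializing to `w` give primes below the prime of `w` in its fibre. -/
theorem dict_of_specializes (s : Y) (z w : f.fiber s) (hw : f.fiberι s w ∈ U) (hzw : z ⤳ w) :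
    letI := (f.appLE V U e).hom.toAlgebra
    ∃ hz : f.fiberι s z ∈ U,
      (hU.primeIdealOf ⟨f.fiberι s z, hz⟩).asIdeal ≤ (hU.primeIdealOf ⟨f.fiberι s w, hw⟩).asIdeal ∧
      (hU.primeIdealOf ⟨f.fiberι s z, hz⟩).asIdeal.comap (algebraMap Γ(Y, V) Γ(X, U)) =
        (hU.primeIdealOf ⟨f.fiberι s w, hw⟩).asIdeal.comap (algebraMap Γ(Y, V) Γ(X, U)) := by
  letI := (f.appLE V U e).hom.toAlgebra
  have hsp : f.fiberι s z ⤳ f.fiberι s w := hzw.map (f.fiberι s).continuous
  have hz : f.fiberι s z ∈ U := hsp.mem_open U.isOpen hw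
  refine ⟨hz, (specializes_iff_primeIdealOf_le hU _ _ hz hw).mp hsp, ?_⟩
  rw [comap_primeIdealOf f hV hU e _ hz, comap_primeIdealOf f hV hU e _ hw]
  have h1 : (⟨f (f.fiberι s z), e hz⟩ : V) = ⟨f (f.fiberι s w), e hw⟩ :=
    Subtype.ext ((base_fiberι f s z).trans (base_fiberι f s w).symm)
  rw [h1]

include hV in
/-- primes below the prime of `w` in its fibre come from points of the fibre specializing to `w`. -/
theorem dict_of_le (s : Y) (w : f.fiber s) (hw : f.fiberι s w ∈ U) (q : PrimeSpectrum Γ(X, U)) :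
    letI := (f.appLE V U e).hom.toAlgebra
    q.asIdeal ≤ (hU.primeIdealOf ⟨f.fiberι s w, hw⟩).asIdeal →
    q.asIdeal.comap (algebraMap Γ(Y, V) Γ(X, U)) =
        (hU.primeIdealOf ⟨f.fiberι s w, hw⟩).asIdeal.comap (algebraMap Γ(Y, V) Γ(X, U)) →
    ∃ (z : f.fiber s) (hz : f.fiberι s z ∈ U), z ⤳ w ∧ hU.primeIdealOf ⟨f.fiberι s z, hz⟩ = q := by
  letI := (f.appLE V U e).hom.toAlgebra
  intro hle hfib
  have hxU : hU.fromSpec q ∈ U := by
    rw [← SetLike.mem_coe, ← hU.range_fromSpec]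
    exact Set.mem_range_self q
  have hq' : hU.primeIdealOf ⟨hU.fromSpec q, hxU⟩ = q :=
    hU.fromSpec.isOpenEmbedding.injective (hU.fromSpec_primeIdealOf ⟨hU.fromSpec q, hxU⟩)
  have hfx : f (hU.fromSpec q) = s := by
    have h1 := comap_primeIdealOf f hV hU e _ hxU
    have h2 := comap_primeIdealOf f hV hU e _ hw
    rw [hq'] at h1
    rw [h1, h2] at hfib
    have h3 : hV.primeIdealOf ⟨f (hU.fromSpec q), e hxU⟩ =
        hV.primeIdealOf ⟨f (f.fiberι s w), e hw⟩ := PrimeSpectrum.ext hfib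
    have h4 := congrArg hV.fromSpec h3
    rw [hV.fromSpec_primeIdealOf, hV.fromSpec_primeIdealOf] at h4
    exact h4.trans (base_fiberι f s w)
  let z : f.fiber s := (f.fiberHomeo s).symm ⟨hU.fromSpec q, hfx⟩
  have hιz : f.fiberι s z = hU.fromSpec q := f.fiberι_fiberHomeo_symm s ⟨hU.fromSpec q, hfx⟩
  have hz : f.fiberι s z ∈ U := hιz ▸ hxU
  have hqz : hU.primeIdealOf ⟨f.fiberι s z, hz⟩ = q := by
    rw [← hq']
    congr 1
    exact Subtype.ext hιz
  refine ⟨z, hz, ?_, hqz⟩
  rw [← (f.fiberι s).isEmbedding.isInducing.specializes_iff,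
    specializes_iff_primeIdealOf_le hU _ _ hz hw, hqz]
  exact hle

end dictionary

section charts

variable {X Y : Scheme.{u}} (f : X ⟶ Y) [LocallyOfFiniteType f] (F : X.Modules)
  [F.IsQuasicoherent] {V : Y.Opens} (hV : IsAffineOpen V) {U : X.Opens}
  (hU : IsAffineOpen U) (e : U ≤ f ⁻¹ᵁ V) (hft : (f.appLE V U e).hom.FiniteType)
  (hfin : Module.Finite Γ(X, U) Γ(F, U))

include hV hft hfin in
/-- the chart for EGA IV 12.1.1 (i). -/
theorem fibre_assDims_iff (Φ : Finset ℕ) (s : Y) (w : f.fiber s) (hw : f.fiberι s w ∈ U) :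
    letI := (f.appLE V U e).hom.toAlgebra
    (∀ z ∈ AssSch.Ass ((Scheme.Modules.pullback (f.fiberι s)).obj F), w ∈ closure {z} →
      ∃ n ∈ Φ, topologicalKrullDim ↥(closure ({z} : Set ↥(f.fiber s))) = (n : WithBot ℕ∞)) ↔
    ∀ q : PrimeSpectrum Γ(X, U), q.asIdeal ≤ (hU.primeIdealOf ⟨f.fiberι s w, hw⟩).asIdeal →
      q.asIdeal.comap (algebraMap Γ(Y, V) Γ(X, U)) =
        (hU.primeIdealOf ⟨f.fiberι s w, hw⟩).asIdeal.comap (algebraMap Γ(Y, V) Γ(X, U)) →
        fdepth Γ(Y, V) Γ(X, U) Γ(F, U) q = 0 → tdN Γ(Y, V) q.asIdeal ∈ Φ := by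
  letI := (f.appLE V U e).hom.toAlgebra
  constructor
  · intro h q hle hfib hd
    obtain ⟨z, hz, hzw, rfl⟩ := dict_of_le f hV hU e s w hw q hle hfib
    have hass := (mem_Ass_fibre_iff f F hV hU e hft hfin s z hz).mpr hd
    obtain ⟨n, hn, hdim⟩ := h z hass (specializes_iff_mem_closure.mp hzw)
    rw [dim_closure_fibre_point f hV hU e hft s z hz] at hdim
    have h1 : tdN Γ(Y, V) (hU.primeIdealOf ⟨f.fiberι s z, hz⟩).asIdeal = n := by
      exact_mod_cast hdim
    rw [h1]
    exact hn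
  · intro h z hz hwz
    have hzw : z ⤳ w := specializes_iff_mem_closure.mpr hwz
    obtain ⟨hzU, hle, hfib⟩ := dict_of_specializes f hV hU e s z w hw hzw
    have hd := (mem_Ass_fibre_iff f F hV hU e hft hfin s z hzU).mp hz
    exact ⟨_, h _ hle hfib hd, dim_closure_fibre_point f hV hU e hft s z hzU⟩

omit [LocallyOfFiniteType f] in
include hV hft hfin in
/-- the chart for EGA IV 12.1.1 (ii). -/
theorem fibre_noEmbedded_iff (s : Y) (w : f.fiber s) (hw : f.fiberι s w ∈ U) :
    letI := (f.appLE V U e).hom.toAlgebra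
    (∀ z ∈ AssSch.Ass ((Scheme.Modules.pullback (f.fiberι s)).obj F), w ∈ closure {z} →
      ∀ z' ∈ AssSch.Ass ((Scheme.Modules.pullback (f.fiberι s)).obj F), z ∈ closure {z'} →
        z' = z) ↔
    ∀ q : PrimeSpectrum Γ(X, U), q.asIdeal ≤ (hU.primeIdealOf ⟨f.fiberι s w, hw⟩).asIdeal →
      q.asIdeal.comap (algebraMap Γ(Y, V) Γ(X, U)) =
        (hU.primeIdealOf ⟨f.fiberι s w, hw⟩).asIdeal.comap (algebraMap Γ(Y, V) Γ(X, U)) →
        fdepth Γ(Y, V) Γ(X, U) Γ(F, U) q = 0 →
          ∀ q' : PrimeSpectrum Γ(X, U), q'.asIdeal ≤ q.asIdeal →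
            q'.asIdeal.comap (algebraMap Γ(Y, V) Γ(X, U)) =
              q.asIdeal.comap (algebraMap Γ(Y, V) Γ(X, U)) →
            fdepth Γ(Y, V) Γ(X, U) Γ(F, U) q' = 0 → q' = q := by
  letI := (f.appLE V U e).hom.toAlgebra
  constructor
  · intro h q hle hfib hd q' hle' hfib' hd'
    obtain ⟨z, hz, hzw, rfl⟩ := dict_of_le f hV hU e s w hw q hle hfib
    obtain ⟨z', hz', hz'z, rfl⟩ := dict_of_le f hV hU e s z hz q' hle' hfib'
    have hass := (mem_Ass_fibre_iff f F hV hU e hft hfin s z hz).mpr hd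
    have hass' := (mem_Ass_fibre_iff f F hV hU e hft hfin s z' hz').mpr hd'
    have := h z hass (specializes_iff_mem_closure.mp hzw) z' hass'
      (specializes_iff_mem_closure.mp hz'z)
    subst this
    rfl
  · intro h z hz hwz z' hz' hzz'
    have hzw : z ⤳ w := specializes_iff_mem_closure.mpr hwz
    have hz'z : z' ⤳ z := specializes_iff_mem_closure.mpr hzz'
    obtain ⟨hzU, hle, hfib⟩ := dict_of_specializes f hV hU e s z w hw hzw
    obtain ⟨hz'U, hle', hfib'⟩ := dict_of_specializes f hV hU e s z' z hzU hz'z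
    have hd := (mem_Ass_fibre_iff f F hV hU e hft hfin s z hzU).mp hz
    have hd' := (mem_Ass_fibre_iff f F hV hU e hft hfin s z' hz'U).mp hz'
    have h1 := h _ hle hfib hd _ hle' hfib' hd'
    have h2 := congrArg hU.fromSpec h1
    rw [hU.fromSpec_primeIdealOf, hU.fromSpec_primeIdealOf] at h2
    exact (f.fiberι s).isEmbedding.injective h2

end charts

section main

variable {X Y : Scheme.{u}} (f : X ⟶ Y) [LocallyOfFinitePresentation f] (F : X.Modules)
  (hF : CohB1.IsFP F) (hflat : FlatMod.IsFlatOver f F)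

include hF hflat in
/-- a generic chart argument: a set of points of `X` which, in every affine chart, is the preimage
of an open subset of the spectrum, is open. -/
theorem isOpen_of_charts (P : ∀ (s : Y), f.fiber s → Prop)
    (R : ∀ (A B : Type u) [CommRing A] [CommRing B] [Algebra A B] (M : Type u) [AddCommGroup M]
      [Module B M], Set (PrimeSpectrum B))
    (hR : ∀ (A B : Type u) [CommRing A] [CommRing B] [Algebra A B]
      [Algebra.FinitePresentation A B] (M : Type u) [AddCommGroup M] [Module B M] [Module A M]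
      [IsScalarTower A B M] [Module.FinitePresentation B M] [Module.Flat A M],
      IsOpen (R A B M))
    (hPR : ∀ (V : Y.Opens) (_ : IsAffineOpen V) (U : X.Opens) (hU : IsAffineOpen U)
      (e : U ≤ f ⁻¹ᵁ V) (_ : (f.appLE V U e).hom.FiniteType)
      (_ : Module.Finite Γ(X, U) Γ(F, U)) (s : Y) (w : f.fiber s) (hw : f.fiberι s w ∈ U),
      letI := (f.appLE V U e).hom.toAlgebra
      P s w ↔ hU.primeIdealOf ⟨f.fiberι s w, hw⟩ ∈ R Γ(Y, V) Γ(X, U) Γ(F, U)) :
    IsOpen {x : X | P (f.base x) (f.asFiber x)} := by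
  haveI hF' : SheafOfModules.IsFinitePresentation (R := X.ringCatSheaf) F := hF
  haveI : F.IsQuasicoherent := SheafOfModules.instIsQuasicoherentOfIsFinitePresentation F
  rw [isOpen_iff_forall_mem_open]
  intro x hx
  obtain ⟨_, ⟨V, hV : IsAffineOpen V, rfl⟩, hfxV, -⟩ :=
    Y.isBasis_affineOpens.exists_subset_of_mem_open (Set.mem_univ (f x)) isOpen_univ
  obtain ⟨_, ⟨U, hU : IsAffineOpen U, rfl⟩, hxU, hUV'⟩ :=
    X.isBasis_affineOpens.exists_subset_of_mem_open
      (show x ∈ (f ⁻¹ᵁ V : Set X) from hfxV) (f ⁻¹ᵁ V).isOpen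
  have hUV : U ≤ f ⁻¹ᵁ V := hUV'
  have hfp : (f.appLE V U hUV).hom.FinitePresentation := f.finitePresentation_appLE hV hU hUV
  letI := (f.appLE V U hUV).hom.toAlgebra
  haveI : Algebra.FinitePresentation Γ(Y, V) Γ(X, U) := hfp
  haveI hMfp : Module.FinitePresentation Γ(X, U) Γ(F, U) :=
    Groth.Agent.Lib.helper16.CohFP.fp_sections_of_isFinitePresentation F hF hU
  letI := modSecBase f F hUV
  haveI := isScalarTower_sections f F hUV
  haveI : Module.Flat Γ(Y, V) Γ(F, U) :=
    flat_sections_of_isFlatOverAt f F hUV hU hV (fun x _ => hflat x)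
  have hopen := hR Γ(Y, V) Γ(X, U) Γ(F, U)
  have hft : (f.appLE V U hUV).hom.FiniteType := RingHom.FiniteType.of_finitePresentation hfp
  have hfin : Module.Finite Γ(X, U) Γ(F, U) := inferInstance
  have key : ∀ (y : X) (hy : y ∈ U), P (f.base y) (f.asFiber y) ↔
      hU.primeIdealOf ⟨y, hy⟩ ∈ R Γ(Y, V) Γ(X, U) Γ(F, U) := by
    intro y hy
    have hy' : f.fiberι (f.base y) (f.asFiber y) ∈ U := by
      rw [f.fiberι_asFiber]
      exact hy
    have hq : hU.primeIdealOf ⟨f.fiberι (f.base y) (f.asFiber y), hy'⟩ =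
        hU.primeIdealOf ⟨y, hy⟩ := by
      congr 1
      exact Subtype.ext (f.fiberι_asFiber y)
    rw [← hq]
    exact hPR V hV U hU hUV hft hfin (f.base y) (f.asFiber y) hy'
  refine ⟨hU.fromSpec '' R Γ(Y, V) Γ(X, U) Γ(F, U), ?_,
    hU.fromSpec.isOpenEmbedding.isOpenMap _ hopen, ?_⟩
  · rintro _ ⟨q, hq, rfl⟩
    have hyU : hU.fromSpec q ∈ U := by
      rw [← SetLike.mem_coe, ← hU.range_fromSpec]
      exact Set.mem_range_self q
    have hq' : hU.primeIdealOf ⟨hU.fromSpec q, hyU⟩ = q :=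
      hU.fromSpec.isOpenEmbedding.injective (hU.fromSpec_primeIdealOf ⟨hU.fromSpec q, hyU⟩)
    refine (key _ hyU).mpr ?_
    rw [hq']
    exact hq
  · exact ⟨hU.primeIdealOf ⟨x, hxU⟩, (key x hxU).mp hx, hU.fromSpec_primeIdealOf ⟨x, hxU⟩⟩

include hF hflat in
/-- **EGA IV 12.1.1 (i)**. -/
theorem isOpen_setOf_fibre_assDims_through_mem (Φ : Finset ℕ) :
    IsOpen {x : X | ∀ z ∈ AssSch.Ass ((Scheme.Modules.pullback (f.fiberι (f.base x))).obj F),
      f.asFiber x ∈ closure {z} → ∃ n ∈ Φ,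
        topologicalKrullDim ↥(closure ({z} : Set ↥(f.fiber (f.base x)))) = (n : WithBot ℕ∞)} := by
  haveI hF' : SheafOfModules.IsFinitePresentation (R := X.ringCatSheaf) F := hF
  haveI : F.IsQuasicoherent := SheafOfModules.instIsQuasicoherentOfIsFinitePresentation F
  exact isOpen_of_charts f F hF hflat
    (fun s w => ∀ z ∈ AssSch.Ass ((Scheme.Modules.pullback (f.fiberι s)).obj F),
      w ∈ closure {z} → ∃ n ∈ Φ,
        topologicalKrullDim ↥(closure ({z} : Set ↥(f.fiber s))) = (n : WithBot ℕ∞))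
    (fun A B _ _ _ M _ _ => {Q | ∀ q : PrimeSpectrum B, q.asIdeal ≤ Q.asIdeal →
      q.asIdeal.comap (algebraMap A B) = Q.asIdeal.comap (algebraMap A B) →
        fdepth A B M q = 0 → tdN A q.asIdeal ∈ Φ})
    (fun A B _ _ _ _ M _ _ _ _ _ _ => isOpen_setOf_assDims_mem A B M Φ)
    (fun V hV U hU e hft hfin s w hw => fibre_assDims_iff f F hV hU e hft hfin Φ s w hw)

include hF hflat in
/-- **EGA IV 12.1.1 (ii)**. -/
theorem isOpen_setOf_not_mem_embedded_fibre_assPoint :
    IsOpen {x : X | ∀ z ∈ AssSch.Ass ((Scheme.Modules.pullback (f.fiberι (f.base x))).obj F),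
      f.asFiber x ∈ closure {z} →
      ∀ z' ∈ AssSch.Ass ((Scheme.Modules.pullback (f.fiberι (f.base x))).obj F),
        z ∈ closure {z'} → z' = z} := by
  haveI hF' : SheafOfModules.IsFinitePresentation (R := X.ringCatSheaf) F := hF
  haveI : F.IsQuasicoherent := SheafOfModules.instIsQuasicoherentOfIsFinitePresentation F
  exact isOpen_of_charts f F hF hflat
    (fun s w => ∀ z ∈ AssSch.Ass ((Scheme.Modules.pullback (f.fiberι s)).obj F),
      w ∈ closure {z} → ∀ z' ∈ AssSch.Ass ((Scheme.Modules.pullback (f.fiberι s)).obj F),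
        z ∈ closure {z'} → z' = z)
    (fun A B _ _ _ M _ _ => {Q | ∀ q : PrimeSpectrum B, q.asIdeal ≤ Q.asIdeal →
      q.asIdeal.comap (algebraMap A B) = Q.asIdeal.comap (algebraMap A B) →
        fdepth A B M q = 0 → ∀ q' : PrimeSpectrum B, q'.asIdeal ≤ q.asIdeal →
          q'.asIdeal.comap (algebraMap A B) = q.asIdeal.comap (algebraMap A B) →
            fdepth A B M q' = 0 → q' = q})
    (fun A B _ _ _ _ M _ _ _ _ _ _ => isOpen_setOf_noEmbedded A B M)
    (fun V hV U hU e hft hfin s w hw => fibre_noEmbedded_iff f F hV hU e hft hfin s w hw)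

end main

end Groth.Agent.Lib.Helper24.AssFib
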