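import Mathlib
import Groth.Prelude.Def_EGA4b

/-!
# Constructibility of fibrewise loci (helper24), part 1: primes of tensor products

`exists_prime_tensor_both`: a compatible pair of primes of `A₂` and `B₀` (over `P`) comes from a prime
of `A₂ ⊗[P] B₀`.
-/

set_option autoImplicit false
universe u
open TensorProduct

namespace Groth.Agent.Lib.Helper24.FibCons

open AlgebraicGeometry CategoryTheory Limits in
/-- Existence of a prime of a tensor product over a given compatible pair of primes. -/
theorem exists_prime_tensor_both {P A₂ B₀ : Type u} [CommRing P] [CommRing A₂] [CommRing B₀]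
    [Algebra P A₂] [Algebra P B₀] (p₂ : Ideal A₂) [p₂.IsPrime] (𝔮 : Ideal B₀) [𝔮.IsPrime]
    (h : p₂.comap (algebraMap P A₂) = 𝔮.comap (algebraMap P B₀)) :
    ∃ p' : Ideal (A₂ ⊗[P] B₀), p'.IsPrime ∧
      p'.comap (algebraMap A₂ (A₂ ⊗[P] B₀)) = p₂ ∧
      p'.comap (Algebra.TensorProduct.includeRight : B₀ →ₐ[P] A₂ ⊗[P] B₀).toRingHom = 𝔮 := by
  let x : Spec (.of A₂) := ⟨p₂, inferInstance⟩
  let y : Spec (.of B₀) := ⟨𝔮, inferInstance⟩
  have hxy : Spec.map (CommRingCat.ofHom (algebraMap P A₂)) x =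
      Spec.map (CommRingCat.ofHom (algebraMap P B₀)) y := by
    apply PrimeSpectrum.ext
    exact h
  obtain ⟨z, hz1, hz2⟩ := Scheme.Pullback.exists_preimage_pullback x y hxy
  refine ⟨((pullbackSpecIso P A₂ B₀).hom z).asIdeal, PrimeSpectrum.isPrime _, ?_, ?_⟩
  · have := congrArg (fun t => (t : Spec (.of A₂)).asIdeal) hz1
    rw [← pullbackSpecIso_hom_fst', Scheme.Hom.comp_apply] at this
    exact this
  · have := congrArg (fun t => (t : Spec (.of B₀)).asIdeal) hz2
    rw [← pullbackSpecIso_hom_snd, Scheme.Hom.comp_apply] at this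
    exact this

end Groth.Agent.Lib.Helper24.FibCons
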