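import Mathlib
import Groth.Prelude.Def_EGA4b
import Groth.Agent.Lib.Helper24.FibCons1
import Groth.Agent.Lib.Helper24.FibCod12
import Groth.Agent.Lib.Helper11.GenFree9

/-!
# Constructibility of fibrewise loci (helper24), part 2: the generic piece

`P` a property of the fibre local rings with open loci for flat finitely presented algebras and
invariant under base change.  For `A` Noetherian, `B` of finite type over `A` and a prime `p` of `A`
there are `a ∉ p` and a constructible subset `W` of the `P`-locus of `Spec B` containing all points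
of the `P`-locus over `V(p) ∩ D(a)` (generic flatness).
-/

set_option autoImplicit false
universe u

namespace Groth.Agent.Lib.Helper24.FibCons

open Function TensorProduct IsLocalRing Topology

attribute [local instance] Groth.Agent.Lib.helper26.SkFlat.isLocalRing_fibLocRing
attribute [local instance] Algebra.TensorProduct.rightAlgebra

/-- a property of fibre local rings: open loci in the flat case and base change invariance. -/
structure FibProp (P : ∀ (R : Type u) [CommRing R] [IsLocalRing R], Prop) : Prop where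
  isOpen : ∀ (A B : Type u) [CommRing A] [CommRing B] [Algebra A B]
    [Algebra.FinitePresentation A B] [Module.Flat A B],
    IsOpen {Q : PrimeSpectrum B | P (EGA4.FibLocRing A B Q.asIdeal)}
  baseChange : ∀ (A B A' B' : Type u) [CommRing A] [CommRing B] [CommRing A'] [CommRing B']
    [Algebra A B] [Algebra A A'] [Algebra B B'] [Algebra A' B'] [Algebra A B']
    [IsScalarTower A B B'] [IsScalarTower A A' B'] [Algebra.IsPushout A B A' B']
    [Algebra.FiniteType A B] (q' : Ideal B') [q'.IsPrime],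
    P (EGA4.FibLocRing A B (q'.comap (algebraMap B B'))) ↔ P (EGA4.FibLocRing A' B' q')

/-- in a Noetherian spectrum open sets are constructible. -/
theorem isConstructible_of_isOpen {B : Type u} [CommRing B] [IsNoetherianRing B]
    {s : Set (PrimeSpectrum B)} (hs : IsOpen s) : IsConstructible s :=
  IsRetrocompact.isConstructible hs
    (fun _ _ _ => TopologicalSpace.NoetherianSpace.isCompact _)

section abstract

variable {P : ∀ (R : Type u) [CommRing R] [IsLocalRing R], Prop}

theorem piece_abstract (hP : FibProp P)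
    (A B R S Rf B'' : Type u) [CommRing A] [CommRing B] [CommRing R] [CommRing S] [CommRing Rf]
    [CommRing B'']
    [Algebra A B] [Algebra A R] [Algebra B S] [Algebra R S] [Algebra A S] [IsScalarTower A B S]
    [IsScalarTower A R S] [Algebra.IsPushout A B R S]
    [Algebra R Rf] [Algebra S B''] [Algebra Rf B''] [Algebra R B''] [IsScalarTower R S B'']
    [IsScalarTower R Rf B''] [Algebra.IsPushout R S Rf B'']
    [Algebra.FiniteType A B] [Algebra.FiniteType R S] [IsNoetherianRing B] [IsNoetherianRing B'']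
    [Algebra.FinitePresentation Rf B''] [Module.Flat Rf B'']
    (hφ : ((algebraMap S B'').comp (algebraMap B S)).FiniteType) :
    ∃ W : Set (PrimeSpectrum B), IsConstructible W ∧
      W ⊆ {Q | P (EGA4.FibLocRing A B Q.asIdeal)} ∧
      ∀ (z₂ : Ideal B'') [z₂.IsPrime] (Q : PrimeSpectrum B),
        Q.asIdeal = (z₂.comap (algebraMap S B'')).comap (algebraMap B S) →
        P (EGA4.FibLocRing A B Q.asIdeal) → Q ∈ W := by
  have hL := hP.isOpen Rf B''
  set L : Set (PrimeSpectrum B'') := {Q | P (EGA4.FibLocRing Rf B'' Q.asIdeal)} with hLdef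
  have hφ' : ((algebraMap S B'').comp (algebraMap B S)).FinitePresentation :=
    RingHom.FinitePresentation.of_finiteType.mp hφ
  refine ⟨PrimeSpectrum.comap ((algebraMap S B'').comp (algebraMap B S)) '' L,
    PrimeSpectrum.isConstructible_comap_image hφ' (isConstructible_of_isOpen hL), ?_, ?_⟩
  · rintro _ ⟨q'', hq'', rfl⟩
    have h2 := hP.baseChange R S Rf B'' q''.asIdeal
    have h1 := hP.baseChange A B R S (q''.asIdeal.comap (algebraMap S B''))
    exact h1.mpr (h2.mpr hq'')
  · intro z₂ hz₂ Q hQ hPQ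
    refine ⟨⟨z₂, hz₂⟩, ?_, PrimeSpectrum.ext hQ.symm⟩
    have h2 := hP.baseChange R S Rf B'' z₂
    have h1 := hP.baseChange A B R S (z₂.comap (algebraMap S B''))
    apply h2.mp
    apply h1.mp
    have hQ' : Q = ⟨(z₂.comap (algebraMap S B'')).comap (algebraMap B S), inferInstance⟩ :=
      PrimeSpectrum.ext hQ
    subst hQ'
    exact hPQ

end abstract

section piece

variable {P : ∀ (R : Type u) [CommRing R] [IsLocalRing R], Prop} (hP : FibProp P)
  (A B : Type u) [CommRing A] [IsNoetherianRing A] [CommRing B] [Algebra A B]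
  [Algebra.FiniteType A B] (p : Ideal A) [p.IsPrime]

omit [IsNoetherianRing A] [Algebra.FiniteType A B] [p.IsPrime] in
theorem includeRight_surjective_quot :
    Surjective (algebraMap B ((A ⧸ p) ⊗[A] B)) := by
  intro x
  induction x using TensorProduct.induction_on with
  | zero => exact ⟨0, map_zero _⟩
  | tmul r b =>
    obtain ⟨r', rfl⟩ := Ideal.Quotient.mk_surjective r
    refine ⟨algebraMap A B r' * b, ?_⟩
    change (1 : A ⧸ p) ⊗ₜ[A] (algebraMap A B r' * b) = _
    rw [← Algebra.smul_def, TensorProduct.tmul_smul, TensorProduct.smul_tmul']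
    congr 1
    rw [Algebra.smul_def, mul_one]
    rfl
  | add x y hx hy =>
    obtain ⟨x', rfl⟩ := hx
    obtain ⟨y', rfl⟩ := hy
    exact ⟨x' + y', map_add _ _ _⟩

include hP in
theorem exists_constructible_piece :
    ∃ (a : A) (W : Set (PrimeSpectrum B)), a ∉ p ∧ IsConstructible W ∧
      W ⊆ {Q | P (EGA4.FibLocRing A B Q.asIdeal)} ∧
      ∀ Q : PrimeSpectrum B, p ≤ Q.asIdeal.comap (algebraMap A B) →
        algebraMap A B a ∉ Q.asIdeal → P (EGA4.FibLocRing A B Q.asIdeal) → Q ∈ W := by
  haveI : IsDomain (A ⧸ p) := Ideal.Quotient.isDomain p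
  haveI : IsNoetherianRing B := Algebra.FiniteType.isNoetherianRing A B
  obtain ⟨f, hf0, -, hfree, hfp, -⟩ :=
    Groth.Agent.Lib.helper11.GenFree.generic_freeness_full (R := A ⧸ p) ((A ⧸ p) ⊗[A] B)
      ((A ⧸ p) ⊗[A] B)
  haveI : Module.Free (Localization.Away f) (Localization.Away f ⊗[A ⧸ p] ((A ⧸ p) ⊗[A] B)) :=
    hfree
  haveI : Module.Flat (Localization.Away f) (Localization.Away f ⊗[A ⧸ p] ((A ⧸ p) ⊗[A] B)) :=
    Module.Flat.of_free
  haveI : Algebra.FinitePresentation (Localization.Away f)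
      (Localization.Away f ⊗[A ⧸ p] ((A ⧸ p) ⊗[A] B)) := hfp
  haveI : IsNoetherianRing (Localization.Away f ⊗[A ⧸ p] ((A ⧸ p) ⊗[A] B)) := by
    have h := Algebra.FiniteType.isNoetherianRing (Localization.Away f)
      (Localization.Away f ⊗[A ⧸ p] ((A ⧸ p) ⊗[A] B))
    exact h
  obtain ⟨a, rfl⟩ := Ideal.Quotient.mk_surjective f
  have hap : a ∉ p := fun h => hf0 (Ideal.Quotient.eq_zero_iff_mem.mpr h)
  have hφ₁ : (algebraMap B ((A ⧸ p) ⊗[A] B)).FiniteType :=
    RingHom.FiniteType.of_surjective _ (includeRight_surjective_quot A B p)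
  have hφ₂ : (algebraMap ((A ⧸ p) ⊗[A] B)
      (Localization.Away (Ideal.Quotient.mk p a) ⊗[A ⧸ p] ((A ⧸ p) ⊗[A] B))).FiniteType := by
    have h1 : (algebraMap (A ⧸ p) (Localization.Away (Ideal.Quotient.mk p a))).FiniteType :=
      RingHom.finiteType_algebraMap.mpr inferInstance
    exact RingHom.finiteType_isStableUnderBaseChange (A ⧸ p)
      (Localization.Away (Ideal.Quotient.mk p a)) ((A ⧸ p) ⊗[A] B) _ h1
  obtain ⟨W, hWc, hWsub, hW⟩ := piece_abstract hP A B (A ⧸ p) ((A ⧸ p) ⊗[A] B)
    (Localization.Away (Ideal.Quotient.mk p a))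
    (Localization.Away (Ideal.Quotient.mk p a) ⊗[A ⧸ p] ((A ⧸ p) ⊗[A] B)) (hφ₂.comp hφ₁)
  refine ⟨a, W, hap, hWc, hWsub, ?_⟩
  intro Q hpQ haQ hQ
  -- the prime of `R`
  set p₁ : Ideal A := Q.asIdeal.comap (algebraMap A B) with hp₁
  set p₂ : Ideal (A ⧸ p) := p₁.map (Ideal.Quotient.mk p) with hp₂
  haveI hp₂p : p₂.IsPrime :=
    Groth.Agent.Lib.helper3.FTField.map_mk_isPrime p p₁ hpQ
  have hp₂c : p₂.comap (Ideal.Quotient.mk p) = p₁ :=
    Groth.Agent.Lib.helper3.FTField.comap_map_mk p p₁ hpQ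
  obtain ⟨z₁, hz₁p, hz₁R, hz₁B⟩ := exists_prime_tensor_both (P := A) (A₂ := A ⧸ p) (B₀ := B)
    p₂ Q.asIdeal hp₂c
  haveI := hz₁p
  -- the prime of `Rf`
  have hfp₂ : Ideal.Quotient.mk p a ∉ p₂ := by
    intro h
    have : a ∈ p₂.comap (Ideal.Quotient.mk p) := h
    rw [hp₂c] at this
    exact haQ this
  have hdisj : Disjoint (Submonoid.powers (Ideal.Quotient.mk p a) : Set (A ⧸ p))
      (p₂ : Set (A ⧸ p)) := by
    rw [Set.disjoint_left]
    rintro x ⟨n, rfl⟩ hx
    exact hfp₂ (hp₂p.mem_of_pow_mem n hx)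
  set p₂' : Ideal (Localization.Away (Ideal.Quotient.mk p a)) :=
    p₂.map (algebraMap (A ⧸ p) (Localization.Away (Ideal.Quotient.mk p a))) with hp₂'
  haveI hp₂'p : p₂'.IsPrime :=
    IsLocalization.isPrime_of_isPrime_disjoint (Submonoid.powers (Ideal.Quotient.mk p a)) _ p₂
      hp₂p hdisj
  have hp₂'c : p₂'.comap (algebraMap (A ⧸ p) (Localization.Away (Ideal.Quotient.mk p a))) = p₂ :=
    IsLocalization.under_map_of_isPrime_disjoint (Submonoid.powers (Ideal.Quotient.mk p a)) _
      hp₂p hdisj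
  obtain ⟨z₂, hz₂p, hz₂R, hz₂S⟩ := exists_prime_tensor_both (P := A ⧸ p)
    (A₂ := Localization.Away (Ideal.Quotient.mk p a)) (B₀ := (A ⧸ p) ⊗[A] B)
    p₂' z₁ (hp₂'c.trans hz₁R.symm)
  haveI := hz₂p
  refine hW z₂ Q ?_ hQ
  have e1 : z₂.comap (algebraMap ((A ⧸ p) ⊗[A] B)
      (Localization.Away (Ideal.Quotient.mk p a) ⊗[A ⧸ p] ((A ⧸ p) ⊗[A] B))) = z₁ := hz₂S
  rw [e1]
  exact hz₁B.symm

end piece

end Groth.Agent.Lib.Helper24.FibCons
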