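import Mathlib
import Groth.Prelude.Def_EGA4b
import Groth.Agent.Lib.Helper24.FibCons2
import Groth.Agent.Lib.Helper3.ModelSch

/-!
# Constructibility of fibrewise loci (helper24), part 3: the ring-level theorem (EGA IV 9.9.x)

`P` a property of fibre local rings with open loci for flat finitely presented algebras and invariant
under base change (`FibProp`).  Then for every finitely presented algebra `A → B` the `P`-locus
`{Q | P (B_Q / p B_Q)}` is constructible in `Spec B`.
-/

set_option autoImplicit false
universe u

namespace Groth.Agent.Lib.Helper24.FibCons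

open Function TensorProduct IsLocalRing Topology AlgebraicGeometry

attribute [local instance] Groth.Agent.Lib.helper26.SkFlat.isLocalRing_fibLocRing

variable {P : ∀ (R : Type u) [CommRing R] [IsLocalRing R], Prop}

/-- the Noetherian case, by Noetherian induction and generic flatness. -/
theorem isConstructible_locus_noeth (hP : FibProp P) (A B : Type u) [CommRing A]
    [IsNoetherianRing A] [CommRing B] [Algebra A B] [Algebra.FiniteType A B] :
    IsConstructible {Q : PrimeSpectrum B | P (EGA4.FibLocRing A B Q.asIdeal)} := by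
  classical
  haveI : IsNoetherianRing B := Algebra.FiniteType.isNoetherianRing A B
  set Loc : Set (PrimeSpectrum B) := {Q | P (EGA4.FibLocRing A B Q.asIdeal)} with hLoc
  have hV : ∀ I : Ideal A, IsConstructible
      {Q : PrimeSpectrum B | I ≤ Q.asIdeal.comap (algebraMap A B)} := by
    intro I
    have h1 : {Q : PrimeSpectrum B | I ≤ Q.asIdeal.comap (algebraMap A B)} =
        PrimeSpectrum.zeroLocus ((I.map (algebraMap A B) : Ideal B) : Set B) := by
      ext Q
      simp only [Set.mem_ofPred_eq, PrimeSpectrum.mem_zeroLocus, SetLike.coe_subset_coe]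
      exact Ideal.map_le_iff_le_comap.symm
    rw [h1, ← isConstructible_compl]
    exact isConstructible_of_isOpen (PrimeSpectrum.isClosed_zeroLocus _).isOpen_compl
  have claim : ∀ I : Ideal A, IsConstructible
      (Loc ∩ {Q : PrimeSpectrum B | I ≤ Q.asIdeal.comap (algebraMap A B)}) := by
    intro I
    refine IsNoetherian.induction (R := A) (M := A) (P := fun I : Submodule A A => IsConstructible
      (Loc ∩ {Q : PrimeSpectrum B | (I : Ideal A) ≤ Q.asIdeal.comap (algebraMap A B)})) ?_ I
    · intro (I : Ideal A) ih
      change IsConstructible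
        (Loc ∩ {Q : PrimeSpectrum B | I ≤ Q.asIdeal.comap (algebraMap A B)})
      have hfin : (I.minimalPrimes).Finite := Ideal.finite_minimalPrimes_of_isNoetherianRing A I
      have hunion : Loc ∩ {Q : PrimeSpectrum B | I ≤ Q.asIdeal.comap (algebraMap A B)} =
          ⋃ p ∈ I.minimalPrimes,
            (Loc ∩ {Q : PrimeSpectrum B | p ≤ Q.asIdeal.comap (algebraMap A B)}) := by
        ext Q
        simp only [Set.mem_inter_iff, Set.mem_ofPred_eq, Set.mem_iUnion, exists_prop]
        constructor
        · rintro ⟨hQ, hIQ⟩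
          obtain ⟨p, hp, hpQ⟩ := Ideal.exists_minimalPrimes_le hIQ
          exact ⟨p, hp, hQ, hpQ⟩
        · rintro ⟨p, hp, hQ, hpQ⟩
          exact ⟨hQ, hp.1.2.trans hpQ⟩
      rw [hunion]
      refine IsConstructible.biUnion hfin fun p hp => ?_
      haveI hpp : p.IsPrime := hp.1.1
      obtain ⟨a, W, hap, hWc, hWsub, hW⟩ := exists_constructible_piece hP A B p
      have hIJ : I < p ⊔ Ideal.span {a} := by
        refine lt_of_le_of_ne (hp.1.2.trans le_sup_left) ?_
        intro h
        apply hap
        have : a ∈ p ⊔ Ideal.span {a} := Ideal.mem_sup_right (Ideal.mem_span_singleton_self a)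
        rw [← h] at this
        exact hp.1.2 this
      have hsplit : Loc ∩ {Q : PrimeSpectrum B | p ≤ Q.asIdeal.comap (algebraMap A B)} =
          (W ∩ {Q : PrimeSpectrum B | p ≤ Q.asIdeal.comap (algebraMap A B)}) ∪
            (Loc ∩ {Q : PrimeSpectrum B | p ⊔ Ideal.span {a} ≤
              Q.asIdeal.comap (algebraMap A B)}) := by
        ext Q
        simp only [Set.mem_inter_iff, Set.mem_ofPred_eq, Set.mem_union]
        constructor
        · rintro ⟨hQ, hpQ⟩
          by_cases haQ : algebraMap A B a ∈ Q.asIdeal
          · right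
            refine ⟨hQ, sup_le hpQ ?_⟩
            rw [Ideal.span_le, Set.singleton_subset_iff]
            exact haQ
          · left
            exact ⟨hW Q hpQ haQ hQ, hpQ⟩
        · rintro (⟨hQW, hpQ⟩ | ⟨hQ, hJQ⟩)
          · exact ⟨hWsub hQW, hpQ⟩
          · exact ⟨hQ, le_sup_left.trans hJQ⟩
      rw [hsplit]
      exact (hWc.inter (hV p)).union (ih _ hIJ)
  have h := claim ⊥
  have hbot : {Q : PrimeSpectrum B | (⊥ : Ideal A) ≤ Q.asIdeal.comap (algebraMap A B)} =
      Set.univ := by
    ext Q
    simp
  rw [hbot, Set.inter_univ] at h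
  exact h

/-- **EGA IV 9.9.x, ring form**: constructibility of the `P`-locus for a finitely presented
algebra. -/
theorem isConstructible_locus (hP : FibProp P) (A B : Type u) [CommRing A] [CommRing B]
    [Algebra A B] [Algebra.FinitePresentation A B] :
    IsConstructible {Q : PrimeSpectrum B | P (EGA4.FibLocRing A B Q.asIdeal)} := by
  obtain ⟨A₀, _, _, _, _, hft, -, -, B₀, _, _, _, _, hfp, hpo, -⟩ :=
    Groth.Agent.Lib.helper3.ModelSch.exists_fg_model_module (A := A) (B := B) (M := B) ∅
  haveI : IsNoetherianRing A₀ := Algebra.FiniteType.isNoetherianRing ℤ A₀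
  haveI : Algebra.FiniteType A₀ B₀ := inferInstance
  haveI : Algebra.IsPushout A₀ B₀ A B := hpo.symm
  have h0 := isConstructible_locus_noeth hP A₀ B₀
  have h1 := Scheme.Hom.isConstructible_preimage
    (Spec.map (CommRingCat.ofHom (algebraMap B₀ B))) h0
  have hset : {Q : PrimeSpectrum B | P (EGA4.FibLocRing A B Q.asIdeal)} =
      (fun Q : PrimeSpectrum B => PrimeSpectrum.comap (algebraMap B₀ B) Q) ⁻¹'
        {Q₀ : PrimeSpectrum B₀ | P (EGA4.FibLocRing A₀ B₀ Q₀.asIdeal)} := by
    ext Q
    exact (hP.baseChange A₀ B₀ A B Q.asIdeal).symm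
  rw [hset]
  exact h1

end Groth.Agent.Lib.Helper24.FibCons
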