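import Mathlib
import Groth.Prelude.Def_EGA4b
import Groth.Agent.Lib.Helper24.FibCons3
import Groth.Agent.Lib.Helper24.FibCod12

/-!
# Constructibility of fibrewise loci (helper24), part 4: the codepth and `(S_k)` properties

The properties "codepth `≤ n`" and "`(S_k)`" of fibre local rings are `FibProp`s; hence their loci
are constructible for every finitely presented algebra (EGA IV 9.9.2, 9.9.3 for `O_X`, ring form).
-/

set_option autoImplicit false
universe u

namespace Groth.Agent.Lib.Helper24.FibCons

open Function TensorProduct IsLocalRing Topology AlgebraicGeometry LocCoh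

attribute [local instance] Groth.Agent.Lib.helper26.SkFlat.isLocalRing_fibLocRing

/-- the property "codepth `≤ n`" of a local ring. -/
def CodepthLE (n : ℕ) (R : Type u) [CommRing R] [IsLocalRing R] : Prop :=
  ringKrullDim R ≤ ((depth R R : ℕ∞) : WithBot ℕ∞) + n

/-- the property `(S_k)` of a local ring. -/
def SkProp (k : ℕ) (R : Type u) [CommRing R] [IsLocalRing R] : Prop :=
  HasSk k R R

theorem fibProp_codepthLE (n : ℕ) : FibProp (fun R _ _ => CodepthLE n R) where
  isOpen A B _ _ _ _ _ := Groth.Agent.Lib.Helper24.FibCod.isOpen_codepth_le A B n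
  baseChange A B A' B' _ _ _ _ _ _ _ _ _ _ _ _ _ q' _ := by
    obtain ⟨hN, hN', h1, -⟩ := Groth.Agent.Lib.Helper24.FibCod.fibLocRing_baseChange A B A' B' q'
      (q'.comap (algebraMap B B')) rfl 0
    haveI := hN
    haveI := hN'
    exact (Groth.Agent.Lib.Helper24.FibCod.codepth_le_iff_of_eq
      (EGA4.FibLocRing A B (q'.comap (algebraMap B B')))
      (EGA4.FibLocRing A' B' q') n h1).symm

theorem fibProp_sk (k : ℕ) : FibProp (fun R _ _ => SkProp k R) where
  isOpen A B _ _ _ _ _ := Groth.Agent.Lib.Helper24.FibCod.isOpen_hasSk A B k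
  baseChange A B A' B' _ _ _ _ _ _ _ _ _ _ _ _ _ q' _ :=
    (Groth.Agent.Lib.Helper24.FibCod.fibLocRing_baseChange A B A' B' q'
      (q'.comap (algebraMap B B')) rfl k).2.2.2

section ring

variable (A B : Type u) [CommRing A] [CommRing B] [Algebra A B] [Algebra.FinitePresentation A B]

/-- **EGA IV 9.9.2 for `O_X`, ring form**. -/
theorem isConstructible_codepth_le (n : ℕ) :
    IsConstructible {Q : PrimeSpectrum B | ringKrullDim (EGA4.FibLocRing A B Q.asIdeal) ≤
      ((depth (EGA4.FibLocRing A B Q.asIdeal) (EGA4.FibLocRing A B Q.asIdeal) : ℕ∞) :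
        WithBot ℕ∞) + n} :=
  isConstructible_locus (fibProp_codepthLE n) A B

/-- **EGA IV 9.9.3 for `O_X`, ring form**. -/
theorem isConstructible_hasSk (k : ℕ) :
    IsConstructible {Q : PrimeSpectrum B | HasSk k (EGA4.FibLocRing A B Q.asIdeal)
      (EGA4.FibLocRing A B Q.asIdeal)} :=
  isConstructible_locus (fibProp_sk k) A B

end ring

end Groth.Agent.Lib.Helper24.FibCons
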