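import Mathlib
import Groth.Prelude.Def_EGA4b
import Groth.Agent.Lib.Helper24.FibCons4
import Groth.Agent.Lib.Helper24.FibCod14

/-!
# Constructibility of fibrewise loci (helper24), part 5: from rings to schemes (EGA IV 9.9.2–9.9.4)

For a morphism `f : X ⟶ Y` locally of finite presentation the following subsets of `X` are locally
constructible: the points where the fibre local ring has codepth `≤ n` / `= n`, is Cohen–Macaulay,
satisfies `(S_k)`.
-/

set_option autoImplicit false
universe u

namespace Groth.Agent.Lib.Helper24.FibCons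

open AlgebraicGeometry CategoryTheory IsLocalRing Topology LocCoh Set.Notation
  Groth.Agent.Lib.helper17.FibreStalk Groth.Agent.Lib.Helper24.FibCod

attribute [local instance] Groth.Agent.Lib.helper26.SkFlat.isLocalRing_fibLocRing

theorem isLocallyConstructible_compl {Z : Type*} [TopologicalSpace Z] {A : Set Z}
    (hA : IsLocallyConstructible A) : IsLocallyConstructible Aᶜ := by
  intro x
  obtain ⟨U, hxU, hU, hUs⟩ := hA x
  exact ⟨U, hxU, hU, by simpa using hUs.compl⟩

/-- **From rings to schemes**, constructible version. -/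
theorem isLocallyConstructible_fibre
    (P : ∀ (R : Type u) [CommRing R] [IsLocalRing R], Prop)
    (hP : ∀ (R R' : Type u) [CommRing R] [CommRing R'] [IsLocalRing R] [IsLocalRing R']
      [IsNoetherianRing R] [IsNoetherianRing R'], (R ≃+* R') → P R → P R')
    (hring : ∀ (A B : Type u) [CommRing A] [CommRing B] [Algebra A B]
      [Algebra.FinitePresentation A B],
      IsConstructible {Q : PrimeSpectrum B | P (EGA4.FibLocRing A B Q.asIdeal)})
    {X Y : Scheme.{u}} (f : X ⟶ Y) [LocallyOfFinitePresentation f] :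
    IsLocallyConstructible {x : X | P ((f.fiber (f.base x)).presheaf.stalk (f.asFiber x))} := by
  intro x
  obtain ⟨_, ⟨V, hV : IsAffineOpen V, rfl⟩, hfxV, -⟩ :=
    Y.isBasis_affineOpens.exists_subset_of_mem_open (Set.mem_univ (f x)) isOpen_univ
  obtain ⟨_, ⟨U, hU : IsAffineOpen U, rfl⟩, hxU, hUV'⟩ :=
    X.isBasis_affineOpens.exists_subset_of_mem_open
      (show x ∈ (f ⁻¹ᵁ V : Set X) from hfxV) (f ⁻¹ᵁ V).isOpen
  have hUV : U ≤ f ⁻¹ᵁ V := hUV'
  have hfp : (f.appLE V U hUV).hom.FinitePresentation := f.finitePresentation_appLE hV hU hUV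
  letI := (f.appLE V U hUV).hom.toAlgebra
  haveI : Algebra.FinitePresentation Γ(Y, V) Γ(X, U) := hfp
  have hcons := hring Γ(Y, V) Γ(X, U)
  have key : ∀ (y : X) (hy : y ∈ U),
      P ((f.fiber (f.base y)).presheaf.stalk (f.asFiber y)) ↔
        P (EGA4.FibLocRing Γ(Y, V) Γ(X, U) (hU.primeIdealOf ⟨y, hy⟩).asIdeal) := by
    intro y hy
    obtain ⟨e1⟩ := nonempty_asFiber_stalk_equiv f y
    obtain ⟨e2⟩ := nonempty_fibRing_equiv_fibLocRing f hV hU hUV y hy
    haveI : IsNoetherianRing (EGA4.FibLocRing Γ(Y, V) Γ(X, U) (hU.primeIdealOf ⟨y, hy⟩).asIdeal) :=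
      isNoetherianRing_fibLocRing _ _ _
    haveI : IsNoetherianRing ((f.fiber (f.base y)).presheaf.stalk (f.asFiber y)) :=
      isNoetherianRing_of_ringEquiv _ (e2.symm.trans e1)
    exact ⟨hP _ _ (e1.symm.trans e2), hP _ _ (e2.symm.trans e1)⟩
  refine ⟨U, U.isOpen.mem_nhds hxU, U.isOpen, ?_⟩
  have hemb : IsOpenEmbedding (fun y : U => hU.primeIdealOf y) :=
    hU.isoSpec.hom.isOpenEmbedding
  have hset : ((U : Set X) ↓∩ {x : X | P ((f.fiber (f.base x)).presheaf.stalk (f.asFiber x))}) =
      (fun y : U => hU.primeIdealOf y) ⁻¹'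
        {Q : PrimeSpectrum Γ(X, U) | P (EGA4.FibLocRing Γ(Y, V) Γ(X, U) Q.asIdeal)} := by
    ext ⟨y, hy⟩
    exact key y hy
  rw [hset]
  exact hcons.preimage_of_isOpenEmbedding hemb

section invariance

theorem codepthLE_of_ringEquiv (n : ℕ) (R R' : Type u) [CommRing R] [CommRing R'] [IsLocalRing R]
    [IsLocalRing R'] [IsNoetherianRing R] [IsNoetherianRing R'] (e : R ≃+* R')
    (h : CodepthLE n R) : CodepthLE n R' := by
  unfold CodepthLE at h ⊢
  rw [← ringKrullDim_eq_of_ringEquiv e, Groth.Agent.Lib.Helper24.FlatDepth.depth_eq_of_ringEquiv e]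
  exact h

theorem skProp_of_ringEquiv (k : ℕ) (R R' : Type u) [CommRing R] [CommRing R'] [IsLocalRing R]
    [IsLocalRing R'] [IsNoetherianRing R] [IsNoetherianRing R'] (e : R ≃+* R')
    (h : SkProp k R) : SkProp k R' :=
  (hasSk_iff_of_ringEquiv k e).mp h

end invariance

section results

variable {X Y : Scheme.{u}} (f : X ⟶ Y) [LocallyOfFinitePresentation f]

/-- **EGA IV 9.9.2 (vii)**: the locus where the fibre has codepth `≤ n` is locally
constructible. -/
theorem isLocallyConstructible_codepth_le (n : ℕ) :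
    IsLocallyConstructible {x : X |
      ringKrullDim ((f.fiber (f.base x)).presheaf.stalk (f.asFiber x)) ≤
        ((depth ((f.fiber (f.base x)).presheaf.stalk (f.asFiber x))
          ((f.fiber (f.base x)).presheaf.stalk (f.asFiber x)) : ℕ∞) : WithBot ℕ∞) + n} :=
  isLocallyConstructible_fibre (fun R _ _ => CodepthLE n R)
    (fun R R' _ _ _ _ _ _ e h => codepthLE_of_ringEquiv n R R' e h)
    (fun A B _ _ _ _ => isConstructible_codepth_le A B n) f

/-- **EGA IV 9.9.3**: the locus where the fibre satisfies `(S_k)` is locally constructible. -/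
theorem isLocallyConstructible_hasSk (k : ℕ) :
    IsLocallyConstructible {x : X |
      HasSk k ((f.fiber (f.base x)).presheaf.stalk (f.asFiber x))
        ((f.fiber (f.base x)).presheaf.stalk (f.asFiber x))} :=
  isLocallyConstructible_fibre (fun R _ _ => SkProp k R)
    (fun R R' _ _ _ _ _ _ e h => skProp_of_ringEquiv k R R' e h)
    (fun A B _ _ _ _ => isConstructible_hasSk A B k) f

end results

end Groth.Agent.Lib.Helper24.FibCons
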