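import Mathlib
import Groth.Prelude.Def_EGA4b
import Groth.Agent.Lib.Helper24.FibMd6

/-!
# Rectified depth of fibre stalks under base change (helper24), part 1: the depth equation

`A → B` of finite type, `A → A'` arbitrary, `B' = A' ⊗_A B`, `M` a finite `B`-module and
`M' = B' ⊗_B M`.  For a prime `q'` of `B'` over `q`:
`depth (M'_s')_q' + depth (B_s)_q = depth (M_s)_q + depth (B'_s')_q'`
(no flatness hypothesis on `M` or `B`).
-/

set_option autoImplicit false
universe u

namespace Groth.Agent.Lib.Helper24.FibRc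

open Algebra TensorProduct LocCoh IsLocalRing Groth.Agent.Lib.Helper24.FibMd

attribute [local instance] Groth.Agent.Lib.helper26.SkFlat.isLocalRing_fibLocRing

section flat

variable (S S' : Type u) [CommRing S] [CommRing S'] [IsNoetherianRing S] [IsNoetherianRing S']
  [Algebra S S'] [Module.Flat S S'] (𝔮' : Ideal S') [𝔮'.IsPrime]
  (N : Type u) [AddCommGroup N] [Module S N] [Module.Finite S N]

/-- **Depth along a flat map**: the defect of depth is that of the rings. -/
theorem flat_depth_eq :
    depth (Localization.AtPrime 𝔮') (LocalizedModule 𝔮'.primeCompl (S' ⊗[S] N)) +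
      depth (Localization.AtPrime (𝔮'.comap (algebraMap S S')))
        (Localization.AtPrime (𝔮'.comap (algebraMap S S'))) =
    depth (Localization.AtPrime (𝔮'.comap (algebraMap S S')))
        (LocalizedModule (𝔮'.comap (algebraMap S S')).primeCompl N) +
      depth (Localization.AtPrime 𝔮') (Localization.AtPrime 𝔮') := by
  set 𝔮 := 𝔮'.comap (algebraMap S S') with h𝔮
  obtain ⟨hdN, -⟩ :=
    Groth.Agent.Lib.helper26.SkFlat.depth_supportDim_localization_tensor S S' 𝔮' N S'
  obtain ⟨hdS, -⟩ :=
    Groth.Agent.Lib.helper26.SkFlat.depth_supportDim_localization_tensor S S' 𝔮' S S'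
  let f : (S' ⊗[S] S) →ₗ[S'] Localization.AtPrime 𝔮' :=
    (Algebra.linearMap S' (Localization.AtPrime 𝔮')) ∘ₗ
      (TensorProduct.AlgebraTensorModule.rid S S' S').toLinearMap
  haveI : IsLocalizedModule 𝔮'.primeCompl f := by
    haveI : IsLocalizedModule 𝔮'.primeCompl (Algebra.linearMap S' (Localization.AtPrime 𝔮')) :=
      inferInstance
    exact IsLocalizedModule.of_linearEquiv_right 𝔮'.primeCompl
      (Algebra.linearMap S' (Localization.AtPrime 𝔮'))
      (TensorProduct.AlgebraTensorModule.rid S S' S')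
  have hm1 := Groth.Agent.Lib.helper26.Depth.depth_eq_of_isLocalizedModule 𝔮' (S' ⊗[S] S)
    (Localization.AtPrime 𝔮') (Localization.AtPrime 𝔮') f
  have hm3 := Groth.Agent.Lib.helper26.Depth.depth_localizedModule_self S 𝔮
  rw [← hm1, hm3] at hdS
  rw [hdN, hdS]
  abel

end flat

section formal

variable (B B' S S' : Type u) [CommRing B] [CommRing B'] [CommRing S] [CommRing S']
  [Algebra B B'] [Algebra B S] [Algebra B' S'] [Algebra S S'] [Algebra B S']
  [IsScalarTower B S S'] [IsScalarTower B B' S']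
  [IsNoetherianRing S] [IsNoetherianRing S'] [Module.Flat S S']
  (M M' : Type u) [AddCommGroup M] [Module B M] [Module.Finite B M]
  [AddCommGroup M'] [Module B' M'] [Module B M'] [IsScalarTower B B' M']
  (h : M →ₗ[B] M')

include h in
/-- the formal part of the base change theorem. -/
theorem depth_eq_of_flat_of_isBaseChange (hh : IsBaseChange B' h) (𝔮' : Ideal S') [𝔮'.IsPrime] :
    depth (Localization.AtPrime 𝔮') (LocalizedModule 𝔮'.primeCompl (S' ⊗[B'] M')) +
      depth (Localization.AtPrime (𝔮'.comap (algebraMap S S')))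
        (Localization.AtPrime (𝔮'.comap (algebraMap S S'))) =
    depth (Localization.AtPrime (𝔮'.comap (algebraMap S S')))
        (LocalizedModule (𝔮'.comap (algebraMap S S')).primeCompl (S ⊗[B] M)) +
      depth (Localization.AtPrime 𝔮') (Localization.AtPrime 𝔮') := by
  have key := flat_depth_eq S S' 𝔮' (S ⊗[B] M)
  have chain1 : IsBaseChange S'
      (((TensorProduct.mk B' S' M' 1).restrictScalars B).comp h) :=
    IsBaseChange.comp hh (TensorProduct.isBaseChange B' M' S')
  have chain2 : IsBaseChange S'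
      (((TensorProduct.mk S S' (S ⊗[B] M) 1).restrictScalars B).comp (TensorProduct.mk B S M 1)) :=
    IsBaseChange.comp (TensorProduct.isBaseChange B M S)
      (TensorProduct.isBaseChange S (S ⊗[B] M) S')
  let e : S' ⊗[S] (S ⊗[B] M) ≃ₗ[S'] S' ⊗[B'] M' := chain2.equiv.symm ≪≫ₗ chain1.equiv
  let f : S' ⊗[S] (S ⊗[B] M) →ₗ[S'] LocalizedModule 𝔮'.primeCompl (S' ⊗[B'] M') :=
    (LocalizedModule.mkLinearMap 𝔮'.primeCompl (S' ⊗[B'] M')) ∘ₗ e.toLinearMap
  haveI : IsLocalizedModule 𝔮'.primeCompl f :=
    IsLocalizedModule.of_linearEquiv_right 𝔮'.primeCompl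
      (LocalizedModule.mkLinearMap 𝔮'.primeCompl (S' ⊗[B'] M')) e
  have hm1 := Groth.Agent.Lib.helper26.Depth.depth_eq_of_isLocalizedModule 𝔮' (S' ⊗[S] (S ⊗[B] M))
    (Localization.AtPrime 𝔮') (LocalizedModule 𝔮'.primeCompl (S' ⊗[B'] M')) f
  rw [hm1]
  exact key

end formal

section Aux

open Groth.Agent.Lib.helper26.FibBC Groth.Agent.Lib.Helper24.FibCod

attribute [local instance] Algebra.TensorProduct.rightAlgebra

variable (A B A' B' : Type u) [CommRing A] [CommRing B] [CommRing A'] [CommRing B']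
  [Algebra A B] [Algebra A A'] [Algebra B B'] [Algebra A' B'] [Algebra A B']
  [IsScalarTower A B B'] [IsScalarTower A A' B'] [Algebra.IsPushout A B A' B']
  [Algebra.FiniteType A B] [Algebra.FiniteType A' B']
  (M M' : Type u) [AddCommGroup M] [Module B M] [Module.Finite B M]
  [AddCommGroup M'] [Module B' M'] [Module B M'] [IsScalarTower B B' M'] [Module.Finite B' M']
  (h : M →ₗ[B] M')
  (p : Ideal A) [p.IsPrime] (p' : Ideal A') [p'.IsPrime]
  [Algebra (p.Fiber B) (p'.Fiber B')] [Module.Flat (p.Fiber B) (p'.Fiber B')]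

include h in
/-- the base change theorem with the fibre rings made explicit. -/
theorem fibLocMod_depth_baseChange_aux (hh : IsBaseChange B' h)
    (hcompat : ∀ b : B, algebraMap (p.Fiber B) (p'.Fiber B') ((1 : p.ResidueField) ⊗ₜ[A] b) =
      (1 : p'.ResidueField) ⊗ₜ[A'] (algebraMap B B' b))
    (𝔮' : Ideal (p'.Fiber B')) [𝔮'.IsPrime] :
    depth (EGA4.FibLocRing A' B' (𝔮'.comap (includeRight : B' →ₐ[A'] p'.Fiber B')))
        (EGA4.FibLocMod A' B' (𝔮'.comap (includeRight : B' →ₐ[A'] p'.Fiber B')) M') +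
      depth (EGA4.FibLocRing A B ((𝔮'.comap (algebraMap (p.Fiber B) (p'.Fiber B'))).comap
          (includeRight : B →ₐ[A] p.Fiber B)))
        (EGA4.FibLocRing A B ((𝔮'.comap (algebraMap (p.Fiber B) (p'.Fiber B'))).comap
          (includeRight : B →ₐ[A] p.Fiber B))) =
    depth (EGA4.FibLocRing A B ((𝔮'.comap (algebraMap (p.Fiber B) (p'.Fiber B'))).comap
          (includeRight : B →ₐ[A] p.Fiber B)))
        (EGA4.FibLocMod A B ((𝔮'.comap (algebraMap (p.Fiber B) (p'.Fiber B'))).comap
          (includeRight : B →ₐ[A] p.Fiber B)) M) +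
      depth (EGA4.FibLocRing A' B' (𝔮'.comap (includeRight : B' →ₐ[A'] p'.Fiber B')))
        (EGA4.FibLocRing A' B' (𝔮'.comap (includeRight : B' →ₐ[A'] p'.Fiber B'))) := by
  haveI : IsNoetherianRing (p.Fiber B) := Algebra.FiniteType.isNoetherianRing p.ResidueField _
  haveI : IsNoetherianRing (p'.Fiber B') := Algebra.FiniteType.isNoetherianRing p'.ResidueField _
  letI algBS' : Algebra B (p'.Fiber B') :=
    ((algebraMap B' (p'.Fiber B')).comp (algebraMap B B')).toAlgebra
  haveI tow1 : IsScalarTower B B' (p'.Fiber B') := IsScalarTower.of_algebraMap_eq fun _ => rfl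
  haveI tow2 : IsScalarTower B (p.Fiber B) (p'.Fiber B') := by
    refine IsScalarTower.of_algebraMap_eq fun b => ?_
    have h1 : algebraMap B (p.Fiber B) b = (1 : p.ResidueField) ⊗ₜ[A] b := rfl
    have h2 : algebraMap B (p'.Fiber B') b =
        (1 : p'.ResidueField) ⊗ₜ[A'] (algebraMap B B' b) := rfl
    rw [h1, h2, hcompat]
  have key := depth_eq_of_flat_of_isBaseChange B B' (p.Fiber B) (p'.Fiber B') M M' h hh 𝔮'
  obtain ⟨hd1, -⟩ := depth_supportDim_fiberRing_model A B p
    (𝔮'.comap (algebraMap (p.Fiber B) (p'.Fiber B'))) M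
  obtain ⟨hd1', -⟩ := depth_supportDim_fiberRing_model A' B' p' 𝔮' M'
  let σ := fiberLocAlgEquivFibLocRing A B p (𝔮'.comap (algebraMap (p.Fiber B) (p'.Fiber B')))
  let σ' := fiberLocAlgEquivFibLocRing A' B' p' 𝔮'
  haveI : IsNoetherianRing (EGA4.FibLocRing A B
      ((𝔮'.comap (algebraMap (p.Fiber B) (p'.Fiber B'))).comap
        (includeRight : B →ₐ[A] p.Fiber B))) := isNoetherianRing_fibLocRing A B _
  haveI : IsNoetherianRing (EGA4.FibLocRing A' B'
      (𝔮'.comap (includeRight : B' →ₐ[A'] p'.Fiber B'))) := isNoetherianRing_fibLocRing A' B' _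
  haveI : IsNoetherianRing (Localization.AtPrime
      (𝔮'.comap (algebraMap (p.Fiber B) (p'.Fiber B')))) :=
    isNoetherianRing_of_ringEquiv _ σ.symm.toRingEquiv
  haveI : IsNoetherianRing (Localization.AtPrime 𝔮') :=
    isNoetherianRing_of_ringEquiv _ σ'.symm.toRingEquiv
  have h3 : depth (EGA4.FibLocRing A B
        ((𝔮'.comap (algebraMap (p.Fiber B) (p'.Fiber B'))).comap
          (includeRight : B →ₐ[A] p.Fiber B)))
      (EGA4.FibLocRing A B
        ((𝔮'.comap (algebraMap (p.Fiber B) (p'.Fiber B'))).comap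
          (includeRight : B →ₐ[A] p.Fiber B))) =
      depth (Localization.AtPrime (𝔮'.comap (algebraMap (p.Fiber B) (p'.Fiber B'))))
        (Localization.AtPrime (𝔮'.comap (algebraMap (p.Fiber B) (p'.Fiber B')))) :=
    Groth.Agent.Lib.Helper24.FlatDepth.depth_eq_of_ringEquiv σ.toRingEquiv
  have h4 : depth (EGA4.FibLocRing A' B'
        (𝔮'.comap (includeRight : B' →ₐ[A'] p'.Fiber B')))
      (EGA4.FibLocRing A' B'
        (𝔮'.comap (includeRight : B' →ₐ[A'] p'.Fiber B'))) =
      depth (Localization.AtPrime 𝔮') (Localization.AtPrime 𝔮') :=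
    Groth.Agent.Lib.Helper24.FlatDepth.depth_eq_of_ringEquiv σ'.toRingEquiv
  rw [← hd1, ← hd1', h3, h4]
  exact key

end Aux

section Main

open Groth.Agent.Lib.helper26.FibBC Groth.Agent.Lib.Helper24.FibCod

/-- bookkeeping: transport a depth equation along equalities. -/
theorem depth_transfer {a b c d a' b' c' d' : ℕ∞} (key : a + b = c + d)
    (ha : a = a') (hb : b = b') (hc : c = c') (hd : d = d') : a' + b' = c' + d' := by
  subst ha hb hc hd
  exact key

/-- the depth of the fibre local ring only depends on the prime. -/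
theorem depth_fibLocRing_congr (A B : Type u) [CommRing A] [CommRing B] [Algebra A B]
    {q₁ q₂ : Ideal B} [q₁.IsPrime] [q₂.IsPrime] (h : q₁ = q₂) :
    depth (EGA4.FibLocRing A B q₁) (EGA4.FibLocRing A B q₁) =
      depth (EGA4.FibLocRing A B q₂) (EGA4.FibLocRing A B q₂) := by
  subst h
  rfl

attribute [local instance] Algebra.TensorProduct.rightAlgebra

variable (A B A' B' : Type u) [CommRing A] [CommRing B] [CommRing A'] [CommRing B']
  [Algebra A B] [Algebra A A'] [Algebra B B'] [Algebra A' B'] [Algebra A B']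
  [IsScalarTower A B B'] [IsScalarTower A A' B'] [Algebra.IsPushout A B A' B']
  [Algebra.FiniteType A B]
  (M M' : Type u) [AddCommGroup M] [Module B M] [Module.Finite B M]
  [AddCommGroup M'] [Module B' M'] [Module B M'] [IsScalarTower B B' M']
  (h : M →ₗ[B] M')

include h in
/-- **Base change of the depth of fibre stalks**: no flatness assumption. -/
theorem fibLocMod_depth_baseChange (hh : IsBaseChange B' h) (q' : Ideal B') [q'.IsPrime] :
    depth (EGA4.FibLocRing A' B' q') (EGA4.FibLocMod A' B' q' M') +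
      depth (EGA4.FibLocRing A B (q'.comap (algebraMap B B')))
        (EGA4.FibLocRing A B (q'.comap (algebraMap B B'))) =
    depth (EGA4.FibLocRing A B (q'.comap (algebraMap B B')))
        (EGA4.FibLocMod A B (q'.comap (algebraMap B B')) M) +
      depth (EGA4.FibLocRing A' B' q') (EGA4.FibLocRing A' B' q') := by
  have hp : (q'.comap (algebraMap A' B')).comap (algebraMap A A') =
      (q'.comap (algebraMap A' B')).comap (algebraMap A A') := rfl
  haveI : q'.LiesOver (q'.comap (algebraMap A' B')) := ⟨rfl⟩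
  obtain ⟨𝔮', h𝔮'prime, h𝔮'⟩ :=
    Groth.Agent.Lib.Helper24.FibreRegular.exists_fiber_prime A' B' (q'.comap (algebraMap A' B')) q'
  haveI := h𝔮'prime
  obtain ⟨alg, hflat, hcompat⟩ := exists_flat_algebra A B A' B'
    ((q'.comap (algebraMap A' B')).comap (algebraMap A A')) (q'.comap (algebraMap A' B')) hp
  letI := alg
  haveI := hflat
  haveI hpush' : Algebra.IsPushout A A' B B' := Algebra.IsPushout.symm inferInstance
  haveI : Algebra.FiniteType A' B' :=
    Algebra.FiniteType.equiv inferInstance (Algebra.IsPushout.equiv A A' B B')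
  haveI : Module.Finite B' M' := Module.Finite.equiv hh.equiv
  have h𝔮q : (𝔮'.comap (algebraMap
      (((q'.comap (algebraMap A' B')).comap (algebraMap A A')).Fiber B)
      ((q'.comap (algebraMap A' B')).Fiber B'))).comap
        (includeRight : B →ₐ[A] ((q'.comap (algebraMap A' B')).comap (algebraMap A A')).Fiber B) =
      q'.comap (algebraMap B B') := by
    ext b
    rw [Ideal.mem_comap, Ideal.mem_comap]
    have h1 : algebraMap (((q'.comap (algebraMap A' B')).comap (algebraMap A A')).Fiber B)
        ((q'.comap (algebraMap A' B')).Fiber B')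
        ((includeRight : B →ₐ[A] ((q'.comap (algebraMap A' B')).comap (algebraMap A A')).Fiber B)
          b) =
        (includeRight : B' →ₐ[A'] (q'.comap (algebraMap A' B')).Fiber B') (algebraMap B B' b) :=
      hcompat b
    rw [h1, ← Ideal.mem_comap, h𝔮', Ideal.mem_comap]
  have key := fibLocMod_depth_baseChange_aux A B A' B' M M' h
    ((q'.comap (algebraMap A' B')).comap (algebraMap A A')) (q'.comap (algebraMap A' B'))
    hh hcompat 𝔮'
  obtain ⟨hc1, -⟩ := depth_supportDim_fibLocMod_congr A B M h𝔮q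
  obtain ⟨hc1', -⟩ := depth_supportDim_fibLocMod_congr A' B' M' h𝔮'
  exact depth_transfer key hc1' (depth_fibLocRing_congr A B h𝔮q) hc1
    (depth_fibLocRing_congr A' B' h𝔮')

end Main

end Groth.Agent.Lib.Helper24.FibRc
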