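import Mathlib
import Groth.Prelude.Def_EGA4b
import Groth.Agent.Lib.Helper24.FibRc1
import Groth.Agent.Lib.Helper24.FibRd3

/-!
# Rectified depth of fibre stalks under base change (helper24), part 2: invariance

`A → B` of finite type, `A → A'` arbitrary, `B' = A' ⊗_A B`, `M` a finite `B`-module and
`M' = B' ⊗_B M`.  For a prime `q'` of `B'` over `q`:
`depth (M'_s')_q' + trdeg κ(q')/κ(p') = depth (M_s)_q + trdeg κ(q)/κ(p)`.
-/

set_option autoImplicit false
universe u

namespace Groth.Agent.Lib.Helper24.FibRc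

open Algebra TensorProduct LocCoh IsLocalRing Function Groth.Agent.Lib.Helper24.FibMd
  Groth.Agent.Lib.Helper24.FibCod Groth.Agent.Lib.Helper24.FibRd

attribute [local instance] Groth.Agent.Lib.helper26.SkFlat.isLocalRing_fibLocRing
attribute [local instance] MvPolynomial.algebraMvPolynomial

section poly

variable (A : Type u) [CommRing A] (N : ℕ)

/-- the fibre local rings of a polynomial ring have depth `N - td`. -/
theorem depth_fibLocRing_mvPolynomial (𝔔 : Ideal (MvPolynomial (Fin N) A)) [𝔔.IsPrime] :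
    depth (EGA4.FibLocRing A (MvPolynomial (Fin N) A) 𝔔)
        (EGA4.FibLocRing A (MvPolynomial (Fin N) A) 𝔔) + (tdN A 𝔔 : ℕ∞) = (N : ℕ∞) := by
  haveI hreg : IsRegularLocalRing (EGA4.FibLocRing A (MvPolynomial (Fin N) A) 𝔔) :=
    isRegularLocalRing_fibLocRing_mvPolynomial A N 𝔔
  have h := Groth.Agent.Lib.helper26.Depth.depth_eq_ringKrullDim_of_isRegularLocalRing
    (EGA4.FibLocRing A (MvPolynomial (Fin N) A) 𝔔)
  have hdim := dim_fibLocRing_mvPolynomial' A N 𝔔
  rw [← h] at hdim
  exact_mod_cast hdim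

end poly

section polyBC

variable (A A' : Type u) [CommRing A] [CommRing A'] [Algebra A A'] (N : ℕ)
  (M M' : Type u) [AddCommGroup M] [Module (MvPolynomial (Fin N) A) M]
  [Module.Finite (MvPolynomial (Fin N) A) M]
  [AddCommGroup M'] [Module (MvPolynomial (Fin N) A') M'] [Module (MvPolynomial (Fin N) A) M']
  [IsScalarTower (MvPolynomial (Fin N) A) (MvPolynomial (Fin N) A') M']
  (h : M →ₗ[MvPolynomial (Fin N) A] M')

include h in
/-- invariance of the rectified depth for polynomial rings. -/
theorem rdepth_mvPolynomial_baseChange (hh : IsBaseChange (MvPolynomial (Fin N) A') h)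
    (𝔔' : Ideal (MvPolynomial (Fin N) A')) [𝔔'.IsPrime] :
    depth (EGA4.FibLocRing A' (MvPolynomial (Fin N) A') 𝔔')
        (EGA4.FibLocMod A' (MvPolynomial (Fin N) A') 𝔔' M') + (tdN A' 𝔔' : ℕ∞) =
    depth (EGA4.FibLocRing A (MvPolynomial (Fin N) A)
          (𝔔'.comap (algebraMap (MvPolynomial (Fin N) A) (MvPolynomial (Fin N) A'))))
        (EGA4.FibLocMod A (MvPolynomial (Fin N) A)
          (𝔔'.comap (algebraMap (MvPolynomial (Fin N) A) (MvPolynomial (Fin N) A'))) M) +
      (tdN A (𝔔'.comap (algebraMap (MvPolynomial (Fin N) A) (MvPolynomial (Fin N) A'))) : ℕ∞) := by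
  have key := fibLocMod_depth_baseChange A (MvPolynomial (Fin N) A) A' (MvPolynomial (Fin N) A')
    M M' h hh 𝔔'
  have h1 := depth_fibLocRing_mvPolynomial A' N 𝔔'
  have h2 := depth_fibLocRing_mvPolynomial A N
    (𝔔'.comap (algebraMap (MvPolynomial (Fin N) A) (MvPolynomial (Fin N) A')))
  generalize depth (EGA4.FibLocRing A' (MvPolynomial (Fin N) A') 𝔔')
    (EGA4.FibLocMod A' (MvPolynomial (Fin N) A') 𝔔' M') = D' at key ⊢
  generalize depth (EGA4.FibLocRing A (MvPolynomial (Fin N) A)
    (𝔔'.comap (algebraMap (MvPolynomial (Fin N) A) (MvPolynomial (Fin N) A'))))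
    (EGA4.FibLocMod A (MvPolynomial (Fin N) A)
      (𝔔'.comap (algebraMap (MvPolynomial (Fin N) A) (MvPolynomial (Fin N) A'))) M) = D at key ⊢
  generalize depth (EGA4.FibLocRing A' (MvPolynomial (Fin N) A') 𝔔')
    (EGA4.FibLocRing A' (MvPolynomial (Fin N) A') 𝔔') = d' at key h1
  generalize depth (EGA4.FibLocRing A (MvPolynomial (Fin N) A)
    (𝔔'.comap (algebraMap (MvPolynomial (Fin N) A) (MvPolynomial (Fin N) A'))))
    (EGA4.FibLocRing A (MvPolynomial (Fin N) A)
      (𝔔'.comap (algebraMap (MvPolynomial (Fin N) A) (MvPolynomial (Fin N) A')))) = d at key h2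
  generalize tdN A' 𝔔' = t' at h1 ⊢
  generalize tdN A (𝔔'.comap (algebraMap (MvPolynomial (Fin N) A) (MvPolynomial (Fin N) A'))) = t
    at h2 ⊢
  -- arithmetic in `ℕ∞`
  have hd : d ≠ ⊤ := by
    intro hd
    rw [hd, top_add] at h2
    exact ENat.top_ne_natCast N h2
  have hd' : d' ≠ ⊤ := by
    intro hd
    rw [hd, top_add] at h1
    exact ENat.top_ne_natCast N h1
  obtain ⟨dn, rfl⟩ := ENat.ne_top_iff_exists.mp hd
  obtain ⟨dn', rfl⟩ := ENat.ne_top_iff_exists.mp hd'
  have e1 : dn + t = N := by exact_mod_cast h2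
  have e2 : dn' + t' = N := by exact_mod_cast h1
  induction D' using ENat.recTopCoe with
  | top =>
    rw [top_add] at key ⊢
    induction D using ENat.recTopCoe with
    | top => rw [top_add]
    | coe D =>
      exfalso
      have : ((D + dn' : ℕ) : ℕ∞) = ⊤ := by push_cast; exact key.symm
      exact ENat.natCast_ne_top _ this
  | coe D' =>
    induction D using ENat.recTopCoe with
    | top =>
      exfalso
      rw [top_add] at key
      have : ((D' + dn : ℕ) : ℕ∞) = ⊤ := by push_cast; exact key
      exact ENat.natCast_ne_top _ this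
    | coe D =>
      have e3 : D' + dn = D + dn' := by exact_mod_cast key
      have e4 : D' + t' = D + t := by omega
      exact_mod_cast e4

end polyBC

section general

variable (A A' : Type u) [CommRing A] [CommRing A'] [Algebra A A'] (N : ℕ)
  {B B' : Type u} [CommRing B] [CommRing B'] [Algebra A B] [Algebra A' B'] [Algebra B B']
  [Algebra A B'] [IsScalarTower A B B'] [IsScalarTower A A' B'] [Algebra.IsPushout A B A' B']
  [Algebra (MvPolynomial (Fin N) A) B] [IsScalarTower A (MvPolynomial (Fin N) A) B]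
  [Algebra (MvPolynomial (Fin N) A') B'] [IsScalarTower A' (MvPolynomial (Fin N) A') B']
  (hs : Surjective (algebraMap (MvPolynomial (Fin N) A) B))
  (hs' : Surjective (algebraMap (MvPolynomial (Fin N) A') B'))
  (hcompat : ∀ x : MvPolynomial (Fin N) A,
    algebraMap (MvPolynomial (Fin N) A') B'
      (algebraMap (MvPolynomial (Fin N) A) (MvPolynomial (Fin N) A') x) =
      algebraMap B B' (algebraMap (MvPolynomial (Fin N) A) B x))
  (M M' : Type u) [AddCommGroup M] [Module B M] [Module (MvPolynomial (Fin N) A) M]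
  [IsScalarTower (MvPolynomial (Fin N) A) B M] [Module.Finite B M]
  [AddCommGroup M'] [Module B' M'] [Module (MvPolynomial (Fin N) A') M']
  [IsScalarTower (MvPolynomial (Fin N) A') B' M'] [Module B M'] [IsScalarTower B B' M']
  [Module (MvPolynomial (Fin N) A) M']
  [IsScalarTower (MvPolynomial (Fin N) A) (MvPolynomial (Fin N) A') M']
  (h : M →ₗ[B] M')

include hcompat in
/-- the base change map is linear over the polynomial ring. -/
theorem map_smul_poly (x : MvPolynomial (Fin N) A) (m : M) : h (x • m) = x • h m := by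
  rw [← algebraMap_smul B x m, map_smul, ← algebraMap_smul B' (algebraMap _ B x) (h m),
    ← hcompat, algebraMap_smul, algebraMap_smul]

/-- the base change map as a linear map over the polynomial ring. -/
def polyLin (hcompat : ∀ x : MvPolynomial (Fin N) A,
    algebraMap (MvPolynomial (Fin N) A') B'
      (algebraMap (MvPolynomial (Fin N) A) (MvPolynomial (Fin N) A') x) =
      algebraMap B B' (algebraMap (MvPolynomial (Fin N) A) B x)) :
    M →ₗ[MvPolynomial (Fin N) A] M' where
  toFun := h
  map_add' := map_add h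
  map_smul' := map_smul_poly A A' N hcompat M M' h

include hcompat in
/-- `M'` is also the base change of `M` along the map of polynomial rings. -/
theorem isBaseChange_polyLin (hh : IsBaseChange B' h) :
    IsBaseChange (MvPolynomial (Fin N) A') (polyLin A A' N M M' h hcompat) := by
  letI algPB' : Algebra (MvPolynomial (Fin N) A) B' :=
    ((algebraMap B B').comp (algebraMap (MvPolynomial (Fin N) A) B)).toAlgebra
  haveI tow1 : IsScalarTower (MvPolynomial (Fin N) A) B B' :=
    IsScalarTower.of_algebraMap_eq fun _ => rfl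
  haveI tow2 : IsScalarTower (MvPolynomial (Fin N) A) (MvPolynomial (Fin N) A') B' :=
    IsScalarTower.of_algebraMap_eq fun x => (hcompat x).symm
  haveI tow3 : IsScalarTower A (MvPolynomial (Fin N) A') B' := by
    refine IsScalarTower.of_algebraMap_eq fun a => ?_
    rw [IsScalarTower.algebraMap_apply A A' B',
      IsScalarTower.algebraMap_apply A' (MvPolynomial (Fin N) A') B',
      ← IsScalarTower.algebraMap_apply A A' (MvPolynomial (Fin N) A')]
  haveI hpo : Algebra.IsPushout (MvPolynomial (Fin N) A) B (MvPolynomial (Fin N) A') B' :=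
    (Algebra.IsPushout.comp_iff A (MvPolynomial (Fin N) A) A' (MvPolynomial (Fin N) A')
      (T := B) (T' := B')).mp inferInstance
  haveI hpo' : Algebra.IsPushout (MvPolynomial (Fin N) A) (MvPolynomial (Fin N) A') B B' :=
    hpo.symm
  let e1 : B' ⊗[B] M ≃ₗ[MvPolynomial (Fin N) A'] MvPolynomial (Fin N) A' ⊗[MvPolynomial (Fin N) A] M :=
    Algebra.IsPushout.cancelBaseChange (MvPolynomial (Fin N) A) (MvPolynomial (Fin N) A') B B' M
  let e2 : B' ⊗[B] M ≃ₗ[MvPolynomial (Fin N) A'] M' :=
    hh.equiv.restrictScalars (MvPolynomial (Fin N) A')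
  refine IsBaseChange.of_equiv (e1.symm ≪≫ₗ e2) (fun x => ?_)
  rw [LinearEquiv.trans_apply]
  have h1 : e1.symm ((1 : MvPolynomial (Fin N) A') ⊗ₜ[MvPolynomial (Fin N) A] x) =
      (algebraMap (MvPolynomial (Fin N) A') B' 1) ⊗ₜ[B] x :=
    Algebra.IsPushout.cancelBaseChange_symm_tmul (MvPolynomial (Fin N) A)
      (MvPolynomial (Fin N) A') B B' M 1 x
  rw [h1, map_one]
  change hh.equiv ((1 : B') ⊗ₜ[B] x) = h x
  rw [IsBaseChange.equiv_tmul, one_smul]

/-- the rectified depth only depends on the prime. -/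
theorem rdepth_congr (A : Type u) {B : Type u} [CommRing A] [CommRing B] [Algebra A B]
    (M : Type u) [AddCommGroup M] [Module B M] {q₁ q₂ : Ideal B} [q₁.IsPrime] [q₂.IsPrime]
    (h : q₁ = q₂) :
    depth (EGA4.FibLocRing A B q₁) (EGA4.FibLocMod A B q₁ M) + (tdN A q₁ : ℕ∞) =
      depth (EGA4.FibLocRing A B q₂) (EGA4.FibLocMod A B q₂ M) + (tdN A q₂ : ℕ∞) := by
  subst h
  rfl

include hs hs' hcompat h in
/-- invariance of the rectified depth, with presentations by polynomial rings. -/
theorem rdepth_baseChange_of_surjective (hh : IsBaseChange B' h) (q' : Ideal B') [q'.IsPrime] :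
    depth (EGA4.FibLocRing A' B' q') (EGA4.FibLocMod A' B' q' M') + (tdN A' q' : ℕ∞) =
    depth (EGA4.FibLocRing A B (q'.comap (algebraMap B B')))
        (EGA4.FibLocMod A B (q'.comap (algebraMap B B')) M) +
      (tdN A (q'.comap (algebraMap B B')) : ℕ∞) := by
  haveI : Module.Finite B' M' := Module.Finite.equiv hh.equiv
  haveI : Module.Finite (MvPolynomial (Fin N) A) B :=
    Module.Finite.of_surjective (Algebra.linearMap (MvPolynomial (Fin N) A) B) hs
  haveI : Module.Finite (MvPolynomial (Fin N) A) M := Module.Finite.trans B M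
  have key := rdepth_mvPolynomial_baseChange A A' N M M' (polyLin A A' N M M' h hcompat)
    (isBaseChange_polyLin A A' N hcompat M M' h hh)
    (q'.comap (algebraMap (MvPolynomial (Fin N) A') B'))
  have hd' := (depth_supportDim_fibLocMod_comap' A' hs' M' q').1
  have ht' := tdN_comap_of_surjective A' hs' q'
  have hd := (depth_supportDim_fibLocMod_comap' A hs M (q'.comap (algebraMap B B'))).1
  have ht := tdN_comap_of_surjective A hs (q'.comap (algebraMap B B'))
  have hq : (q'.comap (algebraMap (MvPolynomial (Fin N) A') B')).comap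
      (algebraMap (MvPolynomial (Fin N) A) (MvPolynomial (Fin N) A')) =
      (q'.comap (algebraMap B B')).comap (algebraMap (MvPolynomial (Fin N) A) B) := by
    ext x
    rw [Ideal.mem_comap, Ideal.mem_comap, Ideal.mem_comap, Ideal.mem_comap, hcompat]
  have hc := rdepth_congr A M hq
  rw [hd', ht'] at key
  rw [key, hc, hd, ht]

end general

end Groth.Agent.Lib.Helper24.FibRc
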