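import Mathlib
import Groth.Prelude.Def_EGA4b
import Groth.Agent.Lib.Helper24.FibRc2

/-!
# Rectified depth of fibre stalks under base change (helper24), part 3: the general statement

`A → B` of finite type, `A → A'` arbitrary, `B' = A' ⊗_A B`, `M` a finite `B`-module and
`M' = B' ⊗_B M`: the rectified depth loci of `M'` are the preimages of those of `M`.
-/

set_option autoImplicit false
universe u

namespace Groth.Agent.Lib.Helper24.FibRc

open Algebra TensorProduct LocCoh IsLocalRing Function Groth.Agent.Lib.Helper24.FibMd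
  Groth.Agent.Lib.Helper24.FibCod Groth.Agent.Lib.Helper24.FibRd

attribute [local instance] Groth.Agent.Lib.helper26.SkFlat.isLocalRing_fibLocRing
attribute [local instance] MvPolynomial.algebraMvPolynomial

variable (A B A' B' : Type u) [CommRing A] [CommRing B] [CommRing A'] [CommRing B']
  [Algebra A B] [Algebra A A'] [Algebra B B'] [Algebra A' B'] [Algebra A B']
  [IsScalarTower A B B'] [IsScalarTower A A' B'] [Algebra.IsPushout A B A' B']
  [Algebra.FiniteType A B]
  (M M' : Type u) [AddCommGroup M] [Module B M] [Module.Finite B M]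
  [AddCommGroup M'] [Module B' M'] [Module B M'] [IsScalarTower B B' M']
  (h : M →ₗ[B] M')

include h in
/-- **Invariance of the rectified depth of fibre stalks under base change** (no flatness). -/
theorem rdepth_baseChange (hh : IsBaseChange B' h) (q' : Ideal B') [q'.IsPrime] :
    depth (EGA4.FibLocRing A' B' q') (EGA4.FibLocMod A' B' q' M') + (tdN A' q' : ℕ∞) =
    depth (EGA4.FibLocRing A B (q'.comap (algebraMap B B')))
        (EGA4.FibLocMod A B (q'.comap (algebraMap B B')) M) +
      (tdN A (q'.comap (algebraMap B B')) : ℕ∞) := by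
  obtain ⟨N, π, hπ⟩ := Algebra.FiniteType.iff_quotient_mvPolynomial''.mp
    (inferInstance : Algebra.FiniteType A B)
  letI algPB : Algebra (MvPolynomial (Fin N) A) B := π.toRingHom.toAlgebra
  haveI : IsScalarTower A (MvPolynomial (Fin N) A) B :=
    IsScalarTower.of_algebraMap_eq fun a => (π.commutes a).symm
  let π' : MvPolynomial (Fin N) A' →ₐ[A'] B' :=
    MvPolynomial.aeval (fun i => algebraMap B B' (π (MvPolynomial.X i)))
  letI algPB' : Algebra (MvPolynomial (Fin N) A') B' := π'.toRingHom.toAlgebra
  haveI : IsScalarTower A' (MvPolynomial (Fin N) A') B' :=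
    IsScalarTower.of_algebraMap_eq fun a => (π'.commutes a).symm
  have hπ_def : ∀ x, algebraMap (MvPolynomial (Fin N) A) B x = π x := fun _ => rfl
  have hπ'_def : ∀ x, algebraMap (MvPolynomial (Fin N) A') B' x = π' x := fun _ => rfl
  have hcompat0 : (algebraMap (MvPolynomial (Fin N) A') B').comp
      (algebraMap (MvPolynomial (Fin N) A) (MvPolynomial (Fin N) A')) =
      (algebraMap B B').comp (algebraMap (MvPolynomial (Fin N) A) B) := by
    refine MvPolynomial.ringHom_ext (fun a => ?_) (fun i => ?_)
    · rw [RingHom.comp_apply, RingHom.comp_apply, hπ_def, hπ'_def, MvPolynomial.algebraMap_def,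
        MvPolynomial.map_C]
      have h1 : π (MvPolynomial.C a) = algebraMap A B a := π.commutes a
      have h2 : π' (MvPolynomial.C (algebraMap A A' a)) = algebraMap A' B' (algebraMap A A' a) :=
        π'.commutes _
      rw [h1, h2, ← IsScalarTower.algebraMap_apply, ← IsScalarTower.algebraMap_apply]
    · rw [RingHom.comp_apply, RingHom.comp_apply, hπ_def, hπ'_def, MvPolynomial.algebraMap_def,
        MvPolynomial.map_X]
      exact MvPolynomial.aeval_X _ i
  have hcompat : ∀ x : MvPolynomial (Fin N) A,
      algebraMap (MvPolynomial (Fin N) A') B'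
        (algebraMap (MvPolynomial (Fin N) A) (MvPolynomial (Fin N) A') x) =
        algebraMap B B' (algebraMap (MvPolynomial (Fin N) A) B x) :=
    fun x => RingHom.congr_fun hcompat0 x
  have hs : Surjective (algebraMap (MvPolynomial (Fin N) A) B) := hπ
  have hs' : Surjective (algebraMap (MvPolynomial (Fin N) A') B') := by
    intro b'
    haveI hpo' : Algebra.IsPushout A A' B B' := Algebra.IsPushout.symm inferInstance
    have hbc : IsBaseChange A' (IsScalarTower.toAlgHom A B B').toLinearMap := hpo'.out
    refine hbc.inductionOn b' (fun b' => ∃ y, algebraMap (MvPolynomial (Fin N) A') B' y = b')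
      ⟨0, map_zero _⟩ ?_ ?_ ?_
    · intro b
      obtain ⟨y, rfl⟩ := hs b
      exact ⟨algebraMap (MvPolynomial (Fin N) A) (MvPolynomial (Fin N) A') y, hcompat y⟩
    · rintro a' _ ⟨y, rfl⟩
      refine ⟨MvPolynomial.C a' * y, ?_⟩
      rw [map_mul, Algebra.smul_def]
      congr 1
      exact π'.commutes a'
    · rintro _ _ ⟨y₁, rfl⟩ ⟨y₂, rfl⟩
      exact ⟨y₁ + y₂, map_add _ _ _⟩
  letI modPM : Module (MvPolynomial (Fin N) A) M :=
    Module.compHom M (algebraMap (MvPolynomial (Fin N) A) B)
  haveI : IsScalarTower (MvPolynomial (Fin N) A) B M :=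
    IsScalarTower.of_algebraMap_smul fun _ _ => rfl
  letI modP'M' : Module (MvPolynomial (Fin N) A') M' :=
    Module.compHom M' (algebraMap (MvPolynomial (Fin N) A') B')
  haveI : IsScalarTower (MvPolynomial (Fin N) A') B' M' :=
    IsScalarTower.of_algebraMap_smul fun _ _ => rfl
  letI modPM' : Module (MvPolynomial (Fin N) A) M' :=
    Module.compHom M' (algebraMap (MvPolynomial (Fin N) A) (MvPolynomial (Fin N) A'))
  haveI : IsScalarTower (MvPolynomial (Fin N) A) (MvPolynomial (Fin N) A') M' :=
    IsScalarTower.of_algebraMap_smul fun _ _ => rfl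
  exact rdepth_baseChange_of_surjective A A' N hs hs' hcompat M M' h hh q'

include h in
/-- the rectified depth loci commute with base change. -/
theorem mem_rdepthLocus_baseChange (hh : IsBaseChange B' h) (n : ℕ) (Q' : PrimeSpectrum B') :
    Q' ∈ rdepthLocus A' B' M' n ↔
      PrimeSpectrum.comap (algebraMap B B') Q' ∈ rdepthLocus A B M n := by
  have key := rdepth_baseChange A B A' B' M M' h hh Q'.asIdeal
  change (n : ℕ∞) ≤ _ ↔ (n : ℕ∞) ≤ _
  rw [key]
  rfl

end Groth.Agent.Lib.Helper24.FibRc
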