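import Mathlib
import Groth.Prelude.Def_EGA4b
import Groth.Agent.Lib.Helper24.FibCons2

/-!
# Constructibility of fibrewise loci of modules (helper24), part 1: the generic piece

`Φ A B M ⊆ Spec B` a family of loci attached to algebras `A → B` and `B`-modules `M` (e.g. defined
through the fibre stalks `M_Q / p M_Q`), open in the flat finitely presented Noetherian case and
compatible with base change `A → A'`.  For `A` Noetherian, `B` of finite type, `M` finite and a prime
`p` of `A` there are `a ∉ p` and a constructible subset `W ⊆ Φ A B M` containing all points of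
`Φ A B M` over `V(p) ∩ D(a)` (generic freeness).
-/

set_option autoImplicit false
universe u

namespace Groth.Agent.Lib.Helper24.FibRc

open Function TensorProduct IsLocalRing Topology Groth.Agent.Lib.Helper24.FibCons

attribute [local instance] Algebra.TensorProduct.rightAlgebra

/-- a family of fibrewise loci of modules: open in the flat case and invariant under base change. -/
structure ModFibProp (Φ : ∀ (A B M : Type u) [CommRing A] [CommRing B] [Algebra A B]
    [AddCommGroup M] [Module B M], Set (PrimeSpectrum B)) : Prop where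
  isOpen : ∀ (A B M : Type u) [CommRing A] [CommRing B] [Algebra A B] [AddCommGroup M]
    [Module B M] [Module A M] [IsScalarTower A B M] [IsNoetherianRing A]
    [Algebra.FinitePresentation A B] [Module.Flat A B] [Module.FinitePresentation B M]
    [Module.Flat A M], IsOpen (Φ A B M)
  baseChange : ∀ (A B A' B' : Type u) [CommRing A] [CommRing B] [CommRing A'] [CommRing B']
    [Algebra A B] [Algebra A A'] [Algebra B B'] [Algebra A' B'] [Algebra A B']
    [IsScalarTower A B B'] [IsScalarTower A A' B'] [Algebra.IsPushout A B A' B']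
    [Algebra.FiniteType A B]
    (M M' : Type u) [AddCommGroup M] [Module B M] [Module.Finite B M]
    [AddCommGroup M'] [Module B' M'] [Module B M'] [IsScalarTower B B' M']
    (h : M →ₗ[B] M') (_ : IsBaseChange B' h) (Q' : PrimeSpectrum B'),
    Q' ∈ Φ A' B' M' ↔ PrimeSpectrum.comap (algebraMap B B') Q' ∈ Φ A B M

section abstract

variable {Φ : ∀ (A B M : Type u) [CommRing A] [CommRing B] [Algebra A B]
    [AddCommGroup M] [Module B M], Set (PrimeSpectrum B)}

theorem piece_abstract (hΦ : ModFibProp Φ)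
    (A B R S Rf B'' : Type u) [CommRing A] [CommRing B] [CommRing R] [CommRing S] [CommRing Rf]
    [CommRing B'']
    [Algebra A B] [Algebra A R] [Algebra B S] [Algebra R S] [Algebra A S] [IsScalarTower A B S]
    [IsScalarTower A R S] [Algebra.IsPushout A B R S]
    [Algebra R Rf] [Algebra S B''] [Algebra Rf B''] [Algebra R B''] [IsScalarTower R S B'']
    [IsScalarTower R Rf B''] [Algebra.IsPushout R S Rf B'']
    [Algebra.FiniteType A B] [Algebra.FiniteType R S] [IsNoetherianRing B] [IsNoetherianRing B'']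
    [IsNoetherianRing Rf] [Algebra.FinitePresentation Rf B''] [Module.Flat Rf B'']
    (M M₁ M₂ : Type u) [AddCommGroup M] [Module B M] [Module.Finite B M]
    [AddCommGroup M₁] [Module S M₁] [Module B M₁] [IsScalarTower B S M₁]
    [AddCommGroup M₂] [Module B'' M₂] [Module S M₂] [IsScalarTower S B'' M₂]
    [Module Rf M₂] [IsScalarTower Rf B'' M₂] [Module.Flat Rf M₂]
    (h₁ : M →ₗ[B] M₁) (hh₁ : IsBaseChange S h₁) (h₂ : M₁ →ₗ[S] M₂) (hh₂ : IsBaseChange B'' h₂)
    (hφ : ((algebraMap S B'').comp (algebraMap B S)).FiniteType) :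
    ∃ W : Set (PrimeSpectrum B), IsConstructible W ∧ W ⊆ Φ A B M ∧
      ∀ (z₂ : Ideal B'') [z₂.IsPrime] (Q : PrimeSpectrum B),
        Q.asIdeal = (z₂.comap (algebraMap S B'')).comap (algebraMap B S) →
        Q ∈ Φ A B M → Q ∈ W := by
  haveI : Module.Finite S M₁ := Module.Finite.equiv hh₁.equiv
  haveI : Module.Finite B'' M₂ := Module.Finite.equiv hh₂.equiv
  haveI : Module.FinitePresentation B'' M₂ := Module.finitePresentation_of_finite B'' M₂
  have hL : IsOpen (Φ Rf B'' M₂) := hΦ.isOpen Rf B'' M₂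
  have hφ' : ((algebraMap S B'').comp (algebraMap B S)).FinitePresentation :=
    RingHom.FinitePresentation.of_finiteType.mp hφ
  have hb1 := hΦ.baseChange A B R S M M₁ h₁ hh₁
  have hb2 := hΦ.baseChange R S Rf B'' M₁ M₂ h₂ hh₂
  refine ⟨PrimeSpectrum.comap ((algebraMap S B'').comp (algebraMap B S)) '' (Φ Rf B'' M₂),
    PrimeSpectrum.isConstructible_comap_image hφ' (isConstructible_of_isOpen hL), ?_, ?_⟩
  · rintro _ ⟨q'', hq'', rfl⟩
    exact (hb1 _).mp ((hb2 q'').mp hq'')
  · intro z₂ hz₂ Q hQ hPQ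
    refine ⟨⟨z₂, hz₂⟩, ?_, PrimeSpectrum.ext hQ.symm⟩
    apply (hb2 _).mpr
    apply (hb1 _).mpr
    have hQ' : Q = PrimeSpectrum.comap (algebraMap B S)
        (PrimeSpectrum.comap (algebraMap S B'') ⟨z₂, hz₂⟩) := PrimeSpectrum.ext hQ
    rw [← hQ']
    exact hPQ

end abstract

section generic

variable {Φ : ∀ (A B M : Type u) [CommRing A] [CommRing B] [Algebra A B]
    [AddCommGroup M] [Module B M], Set (PrimeSpectrum B)}

/-- the generic piece over a Noetherian domain `R` (generic freeness). -/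
theorem piece_generic (hΦ : ModFibProp Φ)
    (A B R S : Type u) [CommRing A] [CommRing B] [CommRing R] [CommRing S]
    [Algebra A B] [Algebra A R] [Algebra B S] [Algebra R S] [Algebra A S] [IsScalarTower A B S]
    [IsScalarTower A R S] [Algebra.IsPushout A B R S]
    [Algebra.FiniteType A B] [Algebra.FiniteType R S] [IsNoetherianRing B] [IsNoetherianRing R]
    [IsDomain R]
    (M M₁ : Type u) [AddCommGroup M] [Module B M] [Module.Finite B M]
    [AddCommGroup M₁] [Module S M₁] [Module B M₁] [IsScalarTower B S M₁]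
    (h₁ : M →ₗ[B] M₁) (hh₁ : IsBaseChange S h₁)
    (hφ₁ : (algebraMap B S).FiniteType) :
    ∃ f : R, f ≠ 0 ∧ ∃ W : Set (PrimeSpectrum B), IsConstructible W ∧ W ⊆ Φ A B M ∧
      ∀ (z₂ : Ideal (Localization.Away f ⊗[R] S)) [z₂.IsPrime] (Q : PrimeSpectrum B),
        Q.asIdeal = (z₂.comap (algebraMap S (Localization.Away f ⊗[R] S))).comap (algebraMap B S) →
        Q ∈ Φ A B M → Q ∈ W := by
  haveI : Module.Finite S M₁ := Module.Finite.equiv hh₁.equiv
  letI modRM₁ : Module R M₁ := Module.compHom M₁ (algebraMap R S)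
  haveI : IsScalarTower R S M₁ := IsScalarTower.of_algebraMap_smul fun _ _ => rfl
  obtain ⟨f, hf0, hfreeM, hfree, hfp, -⟩ :=
    Groth.Agent.Lib.helper11.GenFree.generic_freeness_full (R := R) S M₁
  refine ⟨f, hf0, ?_⟩
  haveI : Module.Free (Localization.Away f) (Localization.Away f ⊗[R] S) := hfree
  haveI : Module.Flat (Localization.Away f) (Localization.Away f ⊗[R] S) := Module.Flat.of_free
  haveI : Algebra.FinitePresentation (Localization.Away f) (Localization.Away f ⊗[R] S) := hfp
  haveI : IsNoetherianRing (Localization.Away f) :=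
    IsLocalization.isNoetherianRing (Submonoid.powers f) _ inferInstance
  haveI : IsNoetherianRing (Localization.Away f ⊗[R] S) :=
    Algebra.FiniteType.isNoetherianRing (Localization.Away f) (Localization.Away f ⊗[R] S)
  haveI hpo' : Algebra.IsPushout R (Localization.Away f) S (Localization.Away f ⊗[R] S) :=
    Algebra.IsPushout.symm inferInstance
  haveI hflatM : Module.Flat (Localization.Away f) ((Localization.Away f ⊗[R] S) ⊗[S] M₁) := by
    haveI : Module.Free (Localization.Away f) (Localization.Away f ⊗[R] M₁) := hfreeM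
    exact Module.Flat.of_linearEquiv
      (Algebra.IsPushout.cancelBaseChange R (Localization.Away f) S
        (Localization.Away f ⊗[R] S) M₁)
  have hφ₂ : (algebraMap S (Localization.Away f ⊗[R] S)).FiniteType := by
    have h1 : (algebraMap R (Localization.Away f)).FiniteType :=
      RingHom.finiteType_algebraMap.mpr inferInstance
    exact RingHom.finiteType_isStableUnderBaseChange R (Localization.Away f) S _ h1
  exact piece_abstract hΦ A B R S (Localization.Away f) (Localization.Away f ⊗[R] S)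
    M M₁ ((Localization.Away f ⊗[R] S) ⊗[S] M₁) h₁ hh₁
    (TensorProduct.mk S (Localization.Away f ⊗[R] S) M₁ 1) (TensorProduct.isBaseChange _ _ _)
    (hφ₂.comp hφ₁)

end generic

section piece

variable {Φ : ∀ (A B M : Type u) [CommRing A] [CommRing B] [Algebra A B]
    [AddCommGroup M] [Module B M], Set (PrimeSpectrum B)} (hΦ : ModFibProp Φ)
  (A B : Type u) [CommRing A] [IsNoetherianRing A] [CommRing B] [Algebra A B]
  [Algebra.FiniteType A B] (M : Type u) [AddCommGroup M] [Module B M] [Module.Finite B M]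
  (p : Ideal A) [p.IsPrime]

include hΦ in
theorem exists_constructible_piece :
    ∃ (a : A) (W : Set (PrimeSpectrum B)), a ∉ p ∧ IsConstructible W ∧ W ⊆ Φ A B M ∧
      ∀ Q : PrimeSpectrum B, p ≤ Q.asIdeal.comap (algebraMap A B) →
        algebraMap A B a ∉ Q.asIdeal → Q ∈ Φ A B M → Q ∈ W := by
  haveI : IsDomain (A ⧸ p) := Ideal.Quotient.isDomain p
  haveI : IsNoetherianRing B := Algebra.FiniteType.isNoetherianRing A B
  have hφ₁ : (algebraMap B ((A ⧸ p) ⊗[A] B)).FiniteType :=
    RingHom.FiniteType.of_surjective _ (includeRight_surjective_quot A B p)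
  have hbc : IsBaseChange ((A ⧸ p) ⊗[A] B) (TensorProduct.mk B ((A ⧸ p) ⊗[A] B) M 1) :=
    TensorProduct.isBaseChange B M _
  have key := @piece_generic Φ hΦ A B (A ⧸ p) ((A ⧸ p) ⊗[A] B)
    _ _ _ _ _ _ _ _ _ _ _ _ _ _ _ _ _
    M (((A ⧸ p) ⊗[A] B) ⊗[B] M) _ _ _ _ _ _ _
    (TensorProduct.mk B ((A ⧸ p) ⊗[A] B) M 1) hbc hφ₁
  obtain ⟨f, hf0, W, hWc, hWsub, hW⟩ := key
  obtain ⟨a, rfl⟩ := Ideal.Quotient.mk_surjective f
  have hap : a ∉ p := fun h => hf0 (Ideal.Quotient.eq_zero_iff_mem.mpr h)
  refine ⟨a, W, hap, hWc, hWsub, ?_⟩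
  intro Q hpQ haQ hQ
  -- the prime of `R`
  set p₁ : Ideal A := Q.asIdeal.comap (algebraMap A B) with hp₁
  set p₂ : Ideal (A ⧸ p) := p₁.map (Ideal.Quotient.mk p) with hp₂
  haveI hp₂p : p₂.IsPrime :=
    Groth.Agent.Lib.helper3.FTField.map_mk_isPrime p p₁ hpQ
  have hp₂c : p₂.comap (Ideal.Quotient.mk p) = p₁ :=
    Groth.Agent.Lib.helper3.FTField.comap_map_mk p p₁ hpQ
  obtain ⟨z₁, hz₁p, hz₁R, hz₁B⟩ := exists_prime_tensor_both (P := A) (A₂ := A ⧸ p) (B₀ := B)
    p₂ Q.asIdeal hp₂c
  haveI := hz₁p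
  -- the prime of `Rf`
  have hfp₂ : Ideal.Quotient.mk p a ∉ p₂ := by
    intro h
    have : a ∈ p₂.comap (Ideal.Quotient.mk p) := h
    rw [hp₂c] at this
    exact haQ this
  have hdisj : Disjoint (Submonoid.powers (Ideal.Quotient.mk p a) : Set (A ⧸ p))
      (p₂ : Set (A ⧸ p)) := by
    rw [Set.disjoint_left]
    rintro x ⟨n, rfl⟩ hx
    exact hfp₂ (hp₂p.mem_of_pow_mem n hx)
  set p₂' : Ideal (Localization.Away (Ideal.Quotient.mk p a)) :=
    p₂.map (algebraMap (A ⧸ p) (Localization.Away (Ideal.Quotient.mk p a))) with hp₂'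
  haveI hp₂'p : p₂'.IsPrime :=
    IsLocalization.isPrime_of_isPrime_disjoint (Submonoid.powers (Ideal.Quotient.mk p a)) _ p₂
      hp₂p hdisj
  have hp₂'c : p₂'.comap (algebraMap (A ⧸ p) (Localization.Away (Ideal.Quotient.mk p a))) = p₂ :=
    IsLocalization.under_map_of_isPrime_disjoint (Submonoid.powers (Ideal.Quotient.mk p a)) _
      hp₂p hdisj
  obtain ⟨z₂, hz₂p, hz₂R, hz₂S⟩ := exists_prime_tensor_both (P := A ⧸ p)
    (A₂ := Localization.Away (Ideal.Quotient.mk p a)) (B₀ := (A ⧸ p) ⊗[A] B)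
    p₂' z₁ (hp₂'c.trans hz₁R.symm)
  haveI := hz₂p
  refine hW z₂ Q ?_ hQ
  have e1 : z₂.comap (algebraMap ((A ⧸ p) ⊗[A] B)
      (Localization.Away (Ideal.Quotient.mk p a) ⊗[A ⧸ p] ((A ⧸ p) ⊗[A] B))) = z₁ := hz₂S
  rw [e1]
  exact hz₁B.symm

end piece

end Groth.Agent.Lib.Helper24.FibRc
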