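import Mathlib
import Groth.Prelude.Def_EGA4b
import Groth.Agent.Lib.Helper24.FibRc3
import Groth.Agent.Lib.Helper24.FibRc5
import Groth.Agent.Lib.Helper24.FibRd4

/-!
# Constructibility of the rectified depth of fibre stalks (helper24), ring form

`A → B` of finite presentation and `M` a finitely presented `B`-module (no flatness): the loci
`{Q | n ≤ depth (M_Q / p M_Q) + trdeg (κ(Q)/κ(p))}` are constructible in `Spec B`.
-/

set_option autoImplicit false
universe u

namespace Groth.Agent.Lib.Helper24.FibRc

open Function TensorProduct IsLocalRing Topology Groth.Agent.Lib.Helper24.FibRd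

/-- the rectified depth loci form a `ModFibProp`. -/
theorem modFibProp_rdepthLocus (n : ℕ) :
    ModFibProp (fun (A B M : Type u) [CommRing A] [CommRing B] [Algebra A B]
      [AddCommGroup M] [Module B M] => rdepthLocus A B M n) where
  isOpen := fun A B M _ _ _ _ _ _ _ _ _ _ _ _ => isOpen_rdepthLocus A B M n
  baseChange := fun A B A' B' _ _ _ _ _ _ _ _ _ _ _ _ _ M M' _ _ _ _ _ _ _ h hh Q' =>
    mem_rdepthLocus_baseChange A B A' B' M M' h hh n Q'

/-- **Constructibility of the rectified depth loci**, ring form (EGA IV 9.9.x / 10.8.x). -/
theorem isConstructible_rdepthLocus (A B : Type u) [CommRing A] [CommRing B]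
    [Algebra A B] [Algebra.FinitePresentation A B]
    (M : Type u) [AddCommGroup M] [Module B M] [Module.FinitePresentation B M] (n : ℕ) :
    IsConstructible (rdepthLocus A B M n) :=
  isConstructible_locus (modFibProp_rdepthLocus n) A B M

end Groth.Agent.Lib.Helper24.FibRc
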