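import Mathlib
import Groth.Prelude.Def_EGA4b
import Groth.Agent.Lib.Helper24.FibRc6
import Groth.Agent.Lib.Helper24.FibRd5
import Groth.Agent.Lib.Helper24.FibCons5

/-!
# Constructibility of the rectified depth of fibre stalks (helper24), level sets and schemes

`f : X ⟶ S` locally of finite presentation and `F` a finitely presented `O_X`-module (no flatness):
the level sets of the rectified depth `x ↦ depth (F_{f x})_x + dim cl{x}` of the fibre stalks are
locally constructible in `X` (EGA IV 9.9.x / 10.8.x).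
-/

set_option autoImplicit false
universe u

namespace Groth.Agent.Lib.Helper24.FibRc

open Function TensorProduct IsLocalRing Topology LocCoh CategoryTheory AlgebraicGeometry
  Set.Notation
  Groth.Agent.Lib.helper3.PdSemi Groth.Agent.Lib.Helper24.FibRd Groth.Agent.Lib.Helper24.FibCod
  Groth.Agent.Lib.Helper24.FibMd Groth.Agent.Lib.Helper24.FibCons

attribute [local instance] Groth.Agent.Lib.helper26.SkFlat.isLocalRing_fibLocRing

section top

variable (A : Type u) [CommRing A] (N : ℕ) {C : Type u} [CommRing C]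
  [Algebra A C] [Algebra (MvPolynomial (Fin N) A) C] [IsScalarTower A (MvPolynomial (Fin N) A) C]
  (hs : Surjective (algebraMap (MvPolynomial (Fin N) A) C))
  (M : Type u) [AddCommGroup M] [Module C M] [Module (MvPolynomial (Fin N) A) M]
  [IsScalarTower (MvPolynomial (Fin N) A) C M] [Module.Finite C M]

include hs in
/-- the rectified depth is infinite as soon as it exceeds the number of variables. -/
theorem mem_rdepthLocus_succ_iff (Q : PrimeSpectrum C) :
    Q ∈ rdepthLocus A C M (N + 1) ↔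
      depth (EGA4.FibLocRing A C Q.asIdeal) (EGA4.FibLocMod A C Q.asIdeal M) +
        (tdN A Q.asIdeal : ℕ∞) = ⊤ := by
  constructor
  · intro hQ
    have h1 := (pdlt_iff_rdepth A N hs M Q (N + 1)).mpr hQ
    rw [Nat.sub_self, hasProjectiveDimensionLT_zero_iff_isZero] at h1
    set 𝔔 := PrimeSpectrum.comap (algebraMap (MvPolynomial (Fin N) A) C) Q with h𝔔
    haveI : Subsingleton ((Fp A 𝔔) ⊗[MvPolynomial (Fin N) A] M) :=
      ModuleCat.subsingleton_of_isZero h1
    have htop : depth (Fp A 𝔔) ((Fp A 𝔔) ⊗[MvPolynomial (Fin N) A] M) = ⊤ :=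
      Groth.Agent.Lib.Helper24.FlatDepth.idealDepth_of_subsingleton (Fp A 𝔔)
        (maximalIdeal (Fp A 𝔔)) ((Fp A 𝔔) ⊗[MvPolynomial (Fin N) A] M)
    have hd1 := depth_fibTensor A 𝔔 M
    have hd2 := (depth_supportDim_fibLocMod_comap' A hs M Q.asIdeal).1
    have hdepth : depth (Fp A 𝔔) ((Fp A 𝔔) ⊗[MvPolynomial (Fin N) A] M) =
        depth (EGA4.FibLocRing A C Q.asIdeal) (EGA4.FibLocMod A C Q.asIdeal M) := by
      rw [← hd2]
      exact hd1
    rw [← hdepth, htop, top_add]
  · intro h
    change ((N + 1 : ℕ) : ℕ∞) ≤ _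
    rw [h]
    exact le_top

end top

section general

variable (A B : Type u) [CommRing A] [CommRing B] [Algebra A B]
  (M : Type u) [AddCommGroup M] [Module B M]

/-- the rectified depth is either infinite or bounded. -/
theorem exists_rdepthLocus_eq_top [Algebra.FiniteType A B] [Module.Finite B M] :
    ∃ N : ℕ, ∀ Q : PrimeSpectrum B, Q ∈ rdepthLocus A B M (N + 1) ↔
      depth (EGA4.FibLocRing A B Q.asIdeal) (EGA4.FibLocMod A B Q.asIdeal M) +
        (tdN A Q.asIdeal : ℕ∞) = ⊤ := by
  obtain ⟨N, f, hf⟩ := Algebra.FiniteType.iff_quotient_mvPolynomial''.mp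
    (inferInstance : Algebra.FiniteType A B)
  letI algPB : Algebra (MvPolynomial (Fin N) A) B := f.toRingHom.toAlgebra
  haveI : IsScalarTower A (MvPolynomial (Fin N) A) B :=
    IsScalarTower.of_algebraMap_eq fun a => (f.commutes a).symm
  letI modPM : Module (MvPolynomial (Fin N) A) M := Module.compHom M f.toRingHom
  haveI : IsScalarTower (MvPolynomial (Fin N) A) B M :=
    IsScalarTower.of_algebraMap_smul fun _ _ => rfl
  exact ⟨N, fun Q => mem_rdepthLocus_succ_iff A N (C := B) hf M Q⟩

/-- **Constructibility of the level sets of the rectified depth**, ring form. -/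
theorem isConstructible_rdepth_eq [Algebra.FinitePresentation A B]
    [Module.FinitePresentation B M] (n : ℕ∞) :
    IsConstructible {Q : PrimeSpectrum B |
      depth (EGA4.FibLocRing A B Q.asIdeal) (EGA4.FibLocMod A B Q.asIdeal M) +
        (tdN A Q.asIdeal : ℕ∞) = n} := by
  induction n using ENat.recTopCoe with
  | top =>
    obtain ⟨N, hN⟩ := exists_rdepthLocus_eq_top A B M
    have hset : {Q : PrimeSpectrum B |
        depth (EGA4.FibLocRing A B Q.asIdeal) (EGA4.FibLocMod A B Q.asIdeal M) +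
          (tdN A Q.asIdeal : ℕ∞) = ⊤} = rdepthLocus A B M (N + 1) := by
      ext Q
      exact (hN Q).symm
    rw [hset]
    exact isConstructible_rdepthLocus A B M (N + 1)
  | coe m =>
    have hset : {Q : PrimeSpectrum B |
        depth (EGA4.FibLocRing A B Q.asIdeal) (EGA4.FibLocMod A B Q.asIdeal M) +
          (tdN A Q.asIdeal : ℕ∞) = (m : ℕ∞)} =
        rdepthLocus A B M m ∩ (rdepthLocus A B M (m + 1))ᶜ := by
      ext Q
      change _ = (m : ℕ∞) ↔ (m : ℕ∞) ≤ _ ∧ ¬ (((m + 1 : ℕ) : ℕ∞) ≤ _)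
      generalize depth (EGA4.FibLocRing A B Q.asIdeal) (EGA4.FibLocMod A B Q.asIdeal M) +
        (tdN A Q.asIdeal : ℕ∞) = a
      induction a using ENat.recTopCoe with
      | top =>
        constructor
        · intro h
          exact absurd h (ENat.top_ne_natCast m)
        · rintro ⟨-, h⟩
          exact absurd le_top h
      | coe a =>
        constructor
        · intro h
          have h' : a = m := by exact_mod_cast h
          subst h'
          refine ⟨le_rfl, ?_⟩
          intro h2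
          have : a + 1 ≤ a := by exact_mod_cast h2
          omega
        · rintro ⟨h1, h2⟩
          have h1' : m ≤ a := by exact_mod_cast h1
          have h2' : ¬ (m + 1 ≤ a) := by
            intro h3
            exact h2 (by exact_mod_cast h3)
          have : a = m := by omega
          exact_mod_cast this
    rw [hset]
    exact (isConstructible_rdepthLocus A B M m).inter
      (isConstructible_rdepthLocus A B M (m + 1)).compl

end general

section scheme

/-- bookkeeping. -/
theorem add_eq_iff_of_eq {d d' : ℕ∞} {c : WithBot ℕ∞} {t : ℕ} (hd : d = d')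
    (hc : c = ((t : ℕ) : WithBot ℕ∞)) (n : ℕ∞) :
    ((d : ℕ∞) : WithBot ℕ∞) + c = ((n : ℕ∞) : WithBot ℕ∞) ↔ d' + (t : ℕ∞) = n := by
  subst hd hc
  have h1 : ((t : ℕ) : WithBot ℕ∞) = (((t : ℕ∞)) : WithBot ℕ∞) := rfl
  rw [h1, ← WithBot.coe_add, WithBot.coe_inj]

/-- the chart: in an affine chart `U ≤ f⁻¹ V` the rectified depth at `y ∈ U` is the ring-level one
at the prime of `y`. -/
theorem fibre_rdepth_eq_iff {X Y : Scheme.{u}} (f : X ⟶ Y) [LocallyOfFiniteType f]
    (F : X.Modules) [F.IsQuasicoherent] {V : Y.Opens} (hV : IsAffineOpen V) {U : X.Opens}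
    (hU : IsAffineOpen U) (e : U ≤ f ⁻¹ᵁ V) (hft : (f.appLE V U e).hom.FiniteType)
    (hfin : Module.Finite Γ(X, U) Γ(F, U)) (n : ℕ∞) (y : X) (hy : y ∈ U) :
    letI := (f.appLE V U e).hom.toAlgebra
    (((depth ((f.fiber (f.base y)).presheaf.stalk (f.asFiber y))
        (((Scheme.Modules.pullback (f.fiberι (f.base y))).obj F).presheaf.stalk (f.asFiber y)) : ℕ∞) :
          WithBot ℕ∞) +
        topologicalKrullDim ↥(closure ({f.asFiber y} : Set ↥(f.fiber (f.base y)))) =
          ((n : ℕ∞) : WithBot ℕ∞)) ↔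
      depth (EGA4.FibLocRing Γ(Y, V) Γ(X, U) (hU.primeIdealOf ⟨y, hy⟩).asIdeal)
          (EGA4.FibLocMod Γ(Y, V) Γ(X, U) (hU.primeIdealOf ⟨y, hy⟩).asIdeal Γ(F, U)) +
        (tdN Γ(Y, V) (hU.primeIdealOf ⟨y, hy⟩).asIdeal : ℕ∞) = n := by
  letI := (f.appLE V U e).hom.toAlgebra
  have hy' : f.fiberι (f.base y) (f.asFiber y) ∈ U := by
    rw [f.fiberι_asFiber]
    exact hy
  obtain ⟨hd, -⟩ := depth_supportDim_fibre_stalk f F hV hU e hft hfin (f.base y) (f.asFiber y) hy'
  have hq : hU.primeIdealOf ⟨f.fiberι (f.base y) (f.asFiber y), hy'⟩ = hU.primeIdealOf ⟨y, hy⟩ := by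
    congr 1
    exact Subtype.ext (f.fiberι_asFiber y)
  obtain ⟨hc1, -⟩ := depth_supportDim_fibLocMod_congr Γ(Y, V) Γ(X, U) Γ(F, U)
    (congrArg PrimeSpectrum.asIdeal hq)
  exact add_eq_iff_of_eq (hd.trans hc1) (dim_closure_asFiber f hV hU e hft y hy) n

/-- **EGA IV 9.9.x / 10.8.x**: the level sets of the rectified depth of the fibre stalks of a
finitely presented module are locally constructible. -/
theorem isLocallyConstructible_setOf_fibre_rectifiedDepth_eq {X Y : Scheme.{u}} (f : X ⟶ Y)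
    [LocallyOfFinitePresentation f] (F : X.Modules) (hF : CohB1.IsFP F) (n : ℕ∞) :
    IsLocallyConstructible {x : X |
      ((depth ((f.fiber (f.base x)).presheaf.stalk (f.asFiber x))
        (((Scheme.Modules.pullback (f.fiberι (f.base x))).obj F).presheaf.stalk (f.asFiber x)) : ℕ∞) :
          WithBot ℕ∞) +
        topologicalKrullDim ↥(closure ({f.asFiber x} : Set ↥(f.fiber (f.base x)))) =
          ((n : ℕ∞) : WithBot ℕ∞)} := by
  haveI hF' : SheafOfModules.IsFinitePresentation (R := X.ringCatSheaf) F := hF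
  haveI : F.IsQuasicoherent := SheafOfModules.instIsQuasicoherentOfIsFinitePresentation F
  intro x
  obtain ⟨_, ⟨V, hV : IsAffineOpen V, rfl⟩, hfxV, -⟩ :=
    Y.isBasis_affineOpens.exists_subset_of_mem_open (Set.mem_univ (f x)) isOpen_univ
  obtain ⟨_, ⟨U, hU : IsAffineOpen U, rfl⟩, hxU, hUV'⟩ :=
    X.isBasis_affineOpens.exists_subset_of_mem_open
      (show x ∈ (f ⁻¹ᵁ V : Set X) from hfxV) (f ⁻¹ᵁ V).isOpen
  have hUV : U ≤ f ⁻¹ᵁ V := hUV'
  have hfp : (f.appLE V U hUV).hom.FinitePresentation := f.finitePresentation_appLE hV hU hUV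
  letI := (f.appLE V U hUV).hom.toAlgebra
  haveI : Algebra.FinitePresentation Γ(Y, V) Γ(X, U) := hfp
  haveI hMfp : Module.FinitePresentation Γ(X, U) Γ(F, U) :=
    Groth.Agent.Lib.helper16.CohFP.fp_sections_of_isFinitePresentation F hF hU
  have hcons := isConstructible_rdepth_eq Γ(Y, V) Γ(X, U) Γ(F, U) n
  have hft : (f.appLE V U hUV).hom.FiniteType := RingHom.FiniteType.of_finitePresentation hfp
  have hfin : Module.Finite Γ(X, U) Γ(F, U) := inferInstance
  have key := fibre_rdepth_eq_iff f F hV hU hUV hft hfin n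
  refine ⟨U, U.isOpen.mem_nhds hxU, U.isOpen, ?_⟩
  have hemb : IsOpenEmbedding (fun y : U => hU.primeIdealOf y) :=
    hU.isoSpec.hom.isOpenEmbedding
  have hset : ((U : Set X) ↓∩ {x : X |
      ((depth ((f.fiber (f.base x)).presheaf.stalk (f.asFiber x))
        (((Scheme.Modules.pullback (f.fiberι (f.base x))).obj F).presheaf.stalk (f.asFiber x)) : ℕ∞) :
          WithBot ℕ∞) +
        topologicalKrullDim ↥(closure ({f.asFiber x} : Set ↥(f.fiber (f.base x)))) =
          ((n : ℕ∞) : WithBot ℕ∞)}) =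
      (fun y : U => hU.primeIdealOf y) ⁻¹'
        {Q : PrimeSpectrum Γ(X, U) |
          depth (EGA4.FibLocRing Γ(Y, V) Γ(X, U) Q.asIdeal)
              (EGA4.FibLocMod Γ(Y, V) Γ(X, U) Q.asIdeal Γ(F, U)) +
            (tdN Γ(Y, V) Q.asIdeal : ℕ∞) = n} := by
    ext ⟨y, hy⟩
    exact key y hy
  rw [hset]
  exact hcons.preimage_of_isOpenEmbedding hemb

end scheme

end Groth.Agent.Lib.Helper24.FibRc
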