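import Mathlib
import Groth.Prelude.Def_EGA4b
import Groth.Agent.Lib.Helper24.AssFib1
import Groth.Agent.Lib.Helper24.FibRc7
import Groth.Agent.Lib.Helper16.FlatGD1
import Groth.Agent.Lib.Helper26.SkFlat2
import Groth.Agent.Lib.Helper26.FibMod1

/-!
# Associated points of fibre modules in families (helper24), part 4: supports, ring level

`A → B` of finite presentation, `M` a finitely presented `B`-module flat over `A`.
* `exists_le_support_comap`: going down for the support of `M`.
* `mem_support_iff_fdepth_ne_top`, `isConstructible_support`.
* `isOpen_image_inter_support`: `Spec B → Spec A` restricted to `Supp M` is open.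
-/

set_option autoImplicit false
universe u

namespace Groth.Agent.Lib.Helper24.AssFib

open Topology Function LocCoh IsLocalRing Groth.Agent.Lib.Helper24.FibCod Groth.Agent.Lib.Helper24.FibRd
  Groth.Agent.Lib.helper26.Depth

attribute [local instance] Groth.Agent.Lib.helper26.SkFlat.isLocalRing_fibLocRing

section goingdown

variable (A B : Type u) [CommRing A] [CommRing B] [Algebra A B]
  (M : Type u) [AddCommGroup M] [Module B M] [Module A M] [IsScalarTower A B M]
  [Module.Finite B M] [Module.Flat A M]

/-- **Going down for the support of a finite module flat over the base.** -/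
theorem exists_le_support_comap (Q : PrimeSpectrum B) (hQ : Q ∈ Module.support B M)
    (p' : Ideal A) [p'.IsPrime] (hp' : p' ≤ Q.asIdeal.comap (algebraMap A B)) :
    ∃ Q' : PrimeSpectrum B, Q'.asIdeal ≤ Q.asIdeal ∧ Q' ∈ Module.support B M ∧
      Q'.asIdeal.comap (algebraMap A B) = p' := by
  set q := Q.asIdeal with hq
  set p := q.comap (algebraMap A B) with hp
  have hlo : q.LiesOver p := ⟨rfl⟩
  letI : Algebra (Localization.AtPrime p) (Localization.AtPrime q) :=
    Localization.AtPrime.algebraOfLiesOver p q
  haveI hloc : IsLocalHom (algebraMap (Localization.AtPrime p) (Localization.AtPrime q)) :=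
    Localization.isLocalHom_localRingHom _ q (algebraMap A B) Ideal.LiesOver.over
  let N := LocalizedModule q.primeCompl M
  letI : Module (Localization.AtPrime p) N :=
    Module.compHom N (algebraMap (Localization.AtPrime p) (Localization.AtPrime q))
  haveI hst : IsScalarTower (Localization.AtPrime p) (Localization.AtPrime q) N :=
    IsScalarTower.of_algebraMap_smul fun r x => rfl
  haveI hst2 : IsScalarTower A (Localization.AtPrime p) N := by
    refine IsScalarTower.of_algebraMap_smul fun r x => ?_
    change (algebraMap (Localization.AtPrime p) (Localization.AtPrime q)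
      (algebraMap A (Localization.AtPrime p) r)) • x = r • x
    rw [← IsScalarTower.algebraMap_apply A (Localization.AtPrime p) (Localization.AtPrime q),
      IsScalarTower.algebraMap_apply A B (Localization.AtPrime q), algebraMap_smul, algebraMap_smul]
  haveI hflatA : Module.Flat A N :=
    Groth.Agent.Lib.helper26.FlatCrit.flat_localizedModule q.primeCompl M
  haveI hflat : Module.Flat (Localization.AtPrime p) N :=
    (Module.flat_iff_of_isLocalization (Localization.AtPrime p) p.primeCompl N).mpr hflatA
  haveI hfin : Module.Finite (Localization.AtPrime q) N := inferInstance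
  haveI hnt : Nontrivial N := Module.mem_support_iff.mp hQ
  -- the prime of `A_p`
  have hdisj : Disjoint (p.primeCompl : Set A) (p' : Set A) := by
    rw [Set.disjoint_left]
    intro x hx hxp
    exact hx (hp' hxp)
  set p'' : Ideal (Localization.AtPrime p) := p'.map (algebraMap A (Localization.AtPrime p))
    with hp''
  haveI hp''p : p''.IsPrime :=
    IsLocalization.isPrime_of_isPrime_disjoint p.primeCompl _ p' inferInstance hdisj
  have hp''c : p''.comap (algebraMap A (Localization.AtPrime p)) = p' :=
    IsLocalization.under_map_of_isPrime_disjoint p.primeCompl _ inferInstance hdisj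
  obtain ⟨q'', hq''s, hq''c⟩ := Groth.Agent.Lib.helper16.FlatGD.exists_prime_support_comap
    (A := Localization.AtPrime p) (B := Localization.AtPrime q) (N := N) p''
  refine ⟨PrimeSpectrum.comap (algebraMap B (Localization.AtPrime q)) q'', ?_, ?_, ?_⟩
  · -- below `Q`
    intro b hb
    by_contra hbq
    have hu : IsUnit (algebraMap B (Localization.AtPrime q) b) :=
      IsLocalization.map_units (Localization.AtPrime q) (⟨b, hbq⟩ : q.primeCompl)
    exact q''.isPrime.ne_top (Ideal.eq_top_of_isUnit_mem _ hb hu)
  · -- in the support
    rw [Module.mem_support_iff_of_finite]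
    intro b hb
    show algebraMap B (Localization.AtPrime q) b ∈ q''.asIdeal
    have h1 := Module.annihilator_le_of_mem_support hq''s
    apply h1
    rw [Module.mem_annihilator]
    intro n
    induction n using LocalizedModule.induction_on with
    | h m s =>
      rw [algebraMap_smul, LocalizedModule.smul'_mk, (Module.mem_annihilator.mp hb) m,
        LocalizedModule.zero_mk]
  · -- the contraction
    have h1 : (PrimeSpectrum.comap (algebraMap B (Localization.AtPrime q)) q'').asIdeal.comap
        (algebraMap A B) = (q''.asIdeal.comap (algebraMap (Localization.AtPrime p)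
          (Localization.AtPrime q))).comap (algebraMap A (Localization.AtPrime p)) := by
      rw [PrimeSpectrum.comap_asIdeal, Ideal.comap_comap, Ideal.comap_comap]
      congr 1
      ext a
      simp only [RingHom.comp_apply]
      rw [← IsScalarTower.algebraMap_apply A B (Localization.AtPrime q),
        ← IsScalarTower.algebraMap_apply A (Localization.AtPrime p) (Localization.AtPrime q)]
    rw [h1, hq''c, hp''c]

end goingdown

section support

variable (A B : Type u) [CommRing A] [CommRing B] [Algebra A B]
  (M : Type u) [AddCommGroup M] [Module B M] [Module.Finite B M]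

/-- the fibre stalk is nonzero exactly on the support. -/
theorem nontrivial_fibLocMod_iff (Q : PrimeSpectrum B) :
    Nontrivial (EGA4.FibLocMod A B Q.asIdeal M) ↔ Q ∈ Module.support B M := by
  constructor
  · intro h
    rw [Module.mem_support_iff]
    by_contra hsub
    rw [not_nontrivial_iff_subsingleton] at hsub
    haveI := hsub
    have : Subsingleton (EGA4.FibLocMod A B Q.asIdeal M) := inferInstance
    exact not_subsingleton _ this
  · intro h
    exact Groth.Agent.Lib.helper26.SkFlat.nontrivial_fibLocMod A B M Q.asIdeal h

variable [Algebra.FiniteType A B]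

theorem mem_support_iff_fdepth_ne_top (Q : PrimeSpectrum B) :
    Q ∈ Module.support B M ↔ fdepth A B M Q ≠ ⊤ := by
  haveI : IsNoetherianRing (EGA4.FibLocRing A B Q.asIdeal) := isNoetherianRing_fibLocRing A B _
  rw [← nontrivial_fibLocMod_iff A B M Q]
  constructor
  · intro h
    haveI := h
    exact Groth.Agent.Lib.helper26.Depth.depth_ne_top (A := EGA4.FibLocRing A B Q.asIdeal) _
  · intro h
    by_contra hnt
    rw [not_nontrivial_iff_subsingleton] at hnt
    haveI := hnt
    exact h (Groth.Agent.Lib.Helper24.FlatDepth.idealDepth_of_subsingleton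
      (EGA4.FibLocRing A B Q.asIdeal) (maximalIdeal (EGA4.FibLocRing A B Q.asIdeal))
      (EGA4.FibLocMod A B Q.asIdeal M))

end support

section open_image

variable (A B : Type u) [CommRing A] [CommRing B] [Algebra A B] [Algebra.FinitePresentation A B]
  (M : Type u) [AddCommGroup M] [Module B M] [Module A M] [IsScalarTower A B M]
  [Module.FinitePresentation B M]

omit [Algebra A B] [Algebra.FinitePresentation A B] [Module A M] [IsScalarTower A B M] in
/-- the support of a finitely presented module is constructible. -/
theorem isConstructible_support : IsConstructible (Module.support B M) := by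
  have h := (Groth.Agent.Lib.Helper24.FibRc.isConstructible_rdepth_eq B B M ⊤).compl
  convert h using 1
  ext Q
  rw [mem_support_iff_fdepth_ne_top B B M Q, Set.mem_compl_iff, Set.mem_ofPred_eq]
  constructor
  · intro h1 h2
    apply h1
    by_contra h3
    obtain ⟨d, hd⟩ := ENat.ne_top_iff_exists.mp h3
    have hd' : fdepth B B M Q = (d : ℕ∞) := hd.symm
    change fdepth B B M Q + _ = ⊤ at h2
    rw [hd'] at h2
    exact ENat.natCast_ne_top (d + tdN B Q.asIdeal) (by push_cast; exact h2)
  · intro h1 h2
    apply h1
    change fdepth B B M Q + _ = ⊤
    rw [h2, top_add]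

variable [Module.Flat A M]

/-- **`Spec B → Spec A` is open on the support of a finitely presented module flat over `A`.** -/
theorem isOpen_image_inter_support (G : Set (PrimeSpectrum B)) (hG : IsOpen G) :
    IsOpen (PrimeSpectrum.comap (algebraMap A B) '' (G ∩ Module.support B M)) := by
  wlog hG' : ∃ g, G = SetLike.coe (PrimeSpectrum.basicOpen g) generalizing G
  · rw [PrimeSpectrum.eq_biUnion_of_isOpen hG, Set.iUnion₂_inter, Set.image_iUnion₂]
    exact isOpen_iUnion fun _ => isOpen_iUnion fun _ =>
      this _ (PrimeSpectrum.basicOpen _).isOpen ⟨_, rfl⟩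
  obtain ⟨g, rfl⟩ := hG'
  apply PrimeSpectrum.isOpen_of_stableUnderGeneralization_of_isConstructible
  · -- stable under generization
    rintro p p' hp'p ⟨Q, ⟨hQg, hQs⟩, rfl⟩
    have hle : p'.asIdeal ≤ Q.asIdeal.comap (algebraMap A B) :=
      (PrimeSpectrum.le_iff_specializes _ _).mpr hp'p
    obtain ⟨Q', hQ'le, hQ's, hQ'c⟩ := exists_le_support_comap A B M Q hQs p'.asIdeal hle
    refine ⟨Q', ⟨?_, hQ's⟩, PrimeSpectrum.ext hQ'c⟩
    exact fun hg => hQg (hQ'le hg)
  · exact PrimeSpectrum.isConstructible_comap_image
      (RingHom.finitePresentation_algebraMap.mpr inferInstance)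
      (PrimeSpectrum.isConstructible_basicOpen.inter (isConstructible_support B M))

end open_image

end Groth.Agent.Lib.Helper24.AssFib
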