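import Mathlib

/-!
# Irreducible components of a closed subspace of a sober space (helper24)

`T` quasi-sober and `T₀`, `S ⊆ T` closed.  The irreducible components of the subspace `S` are the
closures of the points of `S` which are maximal for generization inside `S`.
-/

set_option autoImplicit false
universe u

namespace Groth.Agent.Lib.Helper24.AssFib

open Topology

variable {T : Type u} [TopologicalSpace T] [QuasiSober T] [T0Space T] {S : Set T}

/-- an irreducible component of a closed subspace has a generic point, maximal for generization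
in the subspace. -/
theorem exists_generic_of_mem_irreducibleComponents (hS : IsClosed S) (Z : Set ↥S)
    (hZ : Z ∈ irreducibleComponents ↥S) :
    ∃ ζ : T, ζ ∈ S ∧ (∀ z ∈ S, z ⤳ ζ → z = ζ) ∧ Subtype.val '' Z = closure {ζ} := by
  haveI : QuasiSober ↥S := hS.isClosedEmbedding_subtypeVal.quasiSober
  have hZc : IsClosed Z := isClosed_of_mem_irreducibleComponents Z hZ
  have hZi : IsIrreducible Z := hZ.1
  obtain ⟨ζ', hζ'⟩ := QuasiSober.sober hZi hZc
  have hζ'c : closure ({ζ'} : Set ↥S) = Z := hζ'
  refine ⟨ζ'.1, ζ'.2, ?_, ?_⟩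
  · intro z hz hzζ
    have h1 : (⟨z, hz⟩ : ↥S) ⤳ ζ' := IsInducing.subtypeVal.specializes_iff.mp hzζ
    have h2 : IsIrreducible (closure ({⟨z, hz⟩} : Set ↥S)) := isIrreducible_singleton.closure
    have h3 : Z ⊆ closure ({⟨z, hz⟩} : Set ↥S) := by
      rw [← hζ'c]
      exact closure_minimal (Set.singleton_subset_iff.mpr (specializes_iff_mem_closure.mp h1))
        isClosed_closure
    have h4 : closure ({⟨z, hz⟩} : Set ↥S) ⊆ Z := hZ.2 h2 h3
    have h5 : ζ' ⤳ (⟨z, hz⟩ : ↥S) := by
      rw [specializes_iff_mem_closure, hζ'c]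
      exact h4 (subset_closure rfl)
    have h6 : (⟨z, hz⟩ : ↥S) = ζ' := (h1.antisymm h5).eq
    exact congrArg Subtype.val h6
  · rw [← hζ'c, ← hS.isClosedEmbedding_subtypeVal.closure_image_eq, Set.image_singleton]

omit [T0Space T] in
/-- the closure of a point of `S` maximal for generization in `S` is an irreducible component. -/
theorem closure_mem_irreducibleComponents_of_maximal (hS : IsClosed S) (ζ : T) (hζ : ζ ∈ S)
    (hmax : ∀ z ∈ S, z ⤳ ζ → z = ζ) :
    closure ({⟨ζ, hζ⟩} : Set ↥S) ∈ irreducibleComponents ↥S ∧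
      Subtype.val '' closure ({⟨ζ, hζ⟩} : Set ↥S) = closure {ζ} := by
  haveI : QuasiSober ↥S := hS.isClosedEmbedding_subtypeVal.quasiSober
  refine ⟨⟨isIrreducible_singleton.closure, ?_⟩, ?_⟩
  · intro s hs hle
    obtain ⟨η', hη'⟩ := QuasiSober.sober hs.closure isClosed_closure
    have hη'c : closure ({η'} : Set ↥S) = closure s := hη'
    have h1 : (⟨ζ, hζ⟩ : ↥S) ∈ closure s := subset_closure (hle (subset_closure rfl))
    have h2 : η' ⤳ (⟨ζ, hζ⟩ : ↥S) := by
      rw [specializes_iff_mem_closure, hη'c]
      exact h1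
    have h3 : η'.1 ⤳ ζ := IsInducing.subtypeVal.specializes_iff.mpr h2
    have h4 : η'.1 = ζ := hmax η'.1 η'.2 h3
    have h5 : η' = ⟨ζ, hζ⟩ := Subtype.ext h4
    rw [← h5, hη'c]
    exact subset_closure
  · rw [← hS.isClosedEmbedding_subtypeVal.closure_image_eq, Set.image_singleton]

omit [QuasiSober T] [T0Space T] in
/-- the dimension of a subset of the subspace `S` is the dimension of its image in `T`. -/
theorem topologicalKrullDim_eq_of_image_eq (Z : Set ↥S) (W : Set T)
    (h : Subtype.val '' Z = W) : topologicalKrullDim ↥Z = topologicalKrullDim ↥W := by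
  subst h
  exact IsHomeomorph.topologicalKrullDim_eq _
    (IsEmbedding.subtypeVal.homeomorphImage Z).isHomeomorph

end Groth.Agent.Lib.Helper24.AssFib
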