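import Mathlib
import Groth.Prelude.Def_EGA4b
import Groth.Prelude.Def_FDesc
import Groth.Prelude.Def_CohB1
import Groth.Prelude.Def_FlatMod2
import Groth.Agent.Lib.Helper24.AssFib3
import Groth.Agent.Lib.Helper24.AssFib4
import Groth.Agent.Lib.Helper24.AssFib5
import Groth.Agent.Lib.Helper16.LenSemi3
import Groth.Agent.Lib.Helper16.QCohPullback2
import Groth.Agent.Lib.Helper8.SupportProper
import Groth.Agent.Lib.Lead.FibrewiseOpen

/-!
# Associated points of fibre modules in families (helper24), part 6: components of the supports of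
the fibres

`f : X ⟶ Y` locally of finite presentation, `F` a finitely presented `O_X`-module flat over `Y`.
* `fibre (b)`: `Supp F_y` has an irreducible component of dimension `n` iff some point `w` of `Supp F_y`
  has all associated points of `F_y` through it of dimension `n`.
* `isOpen_image_inter_fibreSupport`: `f` restricted to the support is open.
* `isOpen_setOf_exists_component_dim_eq`: the set of `y` such that `Supp F_y` has an irreducible
  component of dimension `n` is open.
-/

set_option autoImplicit false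
universe u

namespace Groth.Agent.Lib.Helper24.AssFib

open AlgebraicGeometry CategoryTheory IsLocalRing LocCoh Topology
  Groth.Agent.Lib.helper16.CohStalk Groth.Agent.Lib.helper17.FlatOver1
  Groth.Agent.Lib.helper3.DimIneq Groth.Agent.Lib.helper3.FTField
  Groth.Agent.Lib.helper3.FibreField Groth.Agent.Lib.Helper24.FibCod
  Groth.Agent.Lib.Helper24.FibMd Groth.Agent.Lib.Helper24.FibRd

attribute [local instance] Groth.Agent.Lib.helper26.SkFlat.isLocalRing_fibLocRing

section fibre

variable {X Y : Scheme.{u}} (f : X ⟶ Y) [LocallyOfFiniteType f] (F : X.Modules)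
  (hF : CohB1.IsFP F)

theorem isLocallyNoetherian_fiber (y : Y) : IsLocallyNoetherian (f.fiber y) := by
  haveI : LocallyOfFiniteType (f.fiberToSpecResidueField y) := locallyOfFiniteType_fiber f y
  exact LocallyOfFiniteType.isLocallyNoetherian (f.fiberToSpecResidueField y)

omit [LocallyOfFiniteType f] in
include hF in
theorem isCoh_fibre (y : Y) : Coh.IsCoh ((Scheme.Modules.pullback (f.fiberι y)).obj F) := by
  haveI hF' : SheafOfModules.IsFinitePresentation (R := X.ringCatSheaf) F := hF
  haveI : F.IsQuasicoherent := SheafOfModules.instIsQuasicoherentOfIsFinitePresentation F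
  exact ⟨Groth.Agent.Lib.helper16.QCohPullback.isQuasicoherent_pullback (f.fiberι y) F,
    Groth.Agent.Lib.helper16.QCohPullback2.isFiniteType_pullback (f.fiberι y) F
      (SheafOfModules.instIsFiniteTypeOfIsFinitePresentation F)⟩

omit [LocallyOfFiniteType f] in
include hF in
/-- the support of the restriction of `F` to a fibre is closed. -/
theorem isClosed_fibreSupport (y : Y) :
    IsClosed {z : ↥(f.fiber y) |
      Nontrivial (((Scheme.Modules.pullback (f.fiberι y)).obj F).presheaf.stalk z)} := by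
  have hcoh := isCoh_fibre f F hF y
  haveI := hcoh.1
  have h := Groth.Agent.Lib.helper8.SchemeSupport.isClosed_support
    ((Scheme.Modules.pullback (f.fiberι y)).obj F) hcoh.2
  convert h using 1
  ext z
  exact not_subsingleton_iff_nontrivial.symm

include hF in
/-- **Components of the support of a fibre**: `Supp F_y` has an irreducible component of dimension
`n` iff some point of `Supp F_y` has all associated points of `F_y` through it of dimension `n`. -/
theorem exists_component_dim_eq_iff (y : Y) (n : ℕ) :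
    (∃ Z ∈ irreducibleComponents ↥{z : ↥(f.fiber y) |
        Nontrivial (((Scheme.Modules.pullback (f.fiberι y)).obj F).presheaf.stalk z)},
      topologicalKrullDim ↥Z = (n : WithBot ℕ∞)) ↔
    ∃ w : ↥(f.fiber y),
      Nontrivial (((Scheme.Modules.pullback (f.fiberι y)).obj F).presheaf.stalk w) ∧
      ∀ z ∈ AssSch.Ass ((Scheme.Modules.pullback (f.fiberι y)).obj F), w ∈ closure {z} →
        ∃ n' ∈ ({n} : Finset ℕ),
          topologicalKrullDim ↥(closure ({z} : Set ↥(f.fiber y))) = (n' : WithBot ℕ∞) := by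
  haveI := isLocallyNoetherian_fiber f y
  have hcoh := isCoh_fibre f F hF y
  have hcl := isClosed_fibreSupport f F hF y
  constructor
  · rintro ⟨Z, hZ, hdim⟩
    obtain ⟨ζ, hζS, hζmax, hζZ⟩ := exists_generic_of_mem_irreducibleComponents hcl Z hZ
    refine ⟨ζ, hζS, ?_⟩
    intro z hz hζz
    have hzS : Nontrivial (((Scheme.Modules.pullback (f.fiberι y)).obj F).presheaf.stalk z) := by
      by_contra hsub
      rw [not_nontrivial_iff_subsingleton] at hsub
      haveI := hsub
      exact not_isAssociatedPrime_of_subsingleton hz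
    have hzζ : z = ζ := hζmax z hzS (specializes_iff_mem_closure.mpr hζz)
    subst hzζ
    refine ⟨n, Finset.mem_singleton_self n, ?_⟩
    rw [← topologicalKrullDim_eq_of_image_eq Z _ hζZ]
    exact hdim
  · rintro ⟨w, hw, h⟩
    obtain ⟨ξ, hξw, hξnt, hξmax⟩ :=
      Groth.Agent.Lib.helper16.LenSemi.exists_maximal_generization _ hcoh hw
    have hξass : Curv2.IsAssPoint ((Scheme.Modules.pullback (f.fiberι y)).obj F) ξ :=
      Groth.Agent.Lib.helper16.LenSemi.isAssPoint_of_maximal _ hcoh hξnt hξmax
    obtain ⟨n', hn', hdim⟩ := h ξ hξass (specializes_iff_mem_closure.mp hξw)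
    rw [Finset.mem_singleton] at hn'
    subst hn'
    obtain ⟨hZ, hZim⟩ := closure_mem_irreducibleComponents_of_maximal hcl ξ hξnt
      (fun z hz hzξ => hξmax z hz hzξ)
    refine ⟨_, hZ, ?_⟩
    rw [topologicalKrullDim_eq_of_image_eq _ _ hZim]
    exact hdim

end fibre

section support_chart

variable {X Y : Scheme.{u}} (f : X ⟶ Y) [LocallyOfFiniteType f] (F : X.Modules)
  [F.IsQuasicoherent] {V : Y.Opens} (hV : IsAffineOpen V) {U : X.Opens}
  (hU : IsAffineOpen U) (e : U ≤ f ⁻¹ᵁ V) (hft : (f.appLE V U e).hom.FiniteType)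
  (hfin : Module.Finite Γ(X, U) Γ(F, U))

omit [LocallyOfFiniteType f] in
include hV hft hfin in
/-- the chart for the support of the fibre module. -/
theorem fibre_support_iff (s : Y) (w : f.fiber s) (hw : f.fiberι s w ∈ U) :
    Nontrivial (((Scheme.Modules.pullback (f.fiberι s)).obj F).presheaf.stalk w) ↔
      hU.primeIdealOf ⟨f.fiberι s w, hw⟩ ∈ Module.support Γ(X, U) Γ(F, U) := by
  letI := (f.appLE V U e).hom.toAlgebra
  obtain ⟨-, hs⟩ := depth_supportDim_fibre_stalk f F hV hU e hft hfin s w hw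
  rw [← nontrivial_fibLocMod_iff Γ(Y, V) Γ(X, U) Γ(F, U),
    ← Module.supportDim_ne_bot_iff_nontrivial ((f.fiber s).presheaf.stalk w),
    ← Module.supportDim_ne_bot_iff_nontrivial
      (EGA4.FibLocRing Γ(Y, V) Γ(X, U) (hU.primeIdealOf ⟨f.fiberι s w, hw⟩).asIdeal), hs]

omit [LocallyOfFiniteType f] in
include hV hft hfin in
/-- the chart for the support of the fibre module, at a point of `X`. -/
theorem fibre_support_iff' (y : X) (hy : y ∈ U) :
    Nontrivial (((Scheme.Modules.pullback (f.fiberι (f.base y))).obj F).presheaf.stalk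
      (f.asFiber y)) ↔
      hU.primeIdealOf ⟨y, hy⟩ ∈ Module.support Γ(X, U) Γ(F, U) := by
  have hy' : f.fiberι (f.base y) (f.asFiber y) ∈ U := by
    rw [f.fiberι_asFiber]
    exact hy
  have hq : hU.primeIdealOf ⟨f.fiberι (f.base y) (f.asFiber y), hy'⟩ =
      hU.primeIdealOf ⟨y, hy⟩ := by
    congr 1
    exact Subtype.ext (f.fiberι_asFiber y)
  rw [← hq]
  exact fibre_support_iff f F hV hU e hft hfin (f.base y) (f.asFiber y) hy'

omit [LocallyOfFiniteType f] [F.IsQuasicoherent] in
include hV in
/-- the image of a point of an affine chart. -/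
theorem base_eq_fromSpec_comap (x : X) (hx : x ∈ U) :
    letI := (f.appLE V U e).hom.toAlgebra
    f x = hV.fromSpec (PrimeSpectrum.comap (algebraMap Γ(Y, V) Γ(X, U))
      (hU.primeIdealOf ⟨x, hx⟩)) := by
  letI := (f.appLE V U e).hom.toAlgebra
  have h1 := comap_primeIdealOf f hV hU e x hx
  have h2 : PrimeSpectrum.comap (algebraMap Γ(Y, V) Γ(X, U)) (hU.primeIdealOf ⟨x, hx⟩) =
      hV.primeIdealOf ⟨f x, e hx⟩ := PrimeSpectrum.ext h1
  rw [h2, hV.fromSpec_primeIdealOf]

end support_chart

section main2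

variable {X Y : Scheme.{u}} (f : X ⟶ Y) [LocallyOfFinitePresentation f] (F : X.Modules)
  (hF : CohB1.IsFP F) (hflat : FlatMod.IsFlatOver f F)

include hF hflat in
/-- **`f` is open on the support of a finitely presented module flat over the base.** -/
theorem isOpen_image_inter_fibreSupport (G : Set X) (hG : IsOpen G) :
    IsOpen (f '' (G ∩ {x : X | Nontrivial
      (((Scheme.Modules.pullback (f.fiberι (f.base x))).obj F).presheaf.stalk (f.asFiber x))})) := by
  haveI hF' : SheafOfModules.IsFinitePresentation (R := X.ringCatSheaf) F := hF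
  haveI : F.IsQuasicoherent := SheafOfModules.instIsQuasicoherentOfIsFinitePresentation F
  rw [isOpen_iff_forall_mem_open]
  rintro _ ⟨x, ⟨hxG, hxS⟩, rfl⟩
  obtain ⟨_, ⟨V, hV : IsAffineOpen V, rfl⟩, hfxV, -⟩ :=
    Y.isBasis_affineOpens.exists_subset_of_mem_open (Set.mem_univ (f x)) isOpen_univ
  obtain ⟨_, ⟨U, hU : IsAffineOpen U, rfl⟩, hxU, hUV'⟩ :=
    X.isBasis_affineOpens.exists_subset_of_mem_open
      (show x ∈ (f ⁻¹ᵁ V : Set X) ∩ G from ⟨hfxV, hxG⟩) ((f ⁻¹ᵁ V).isOpen.inter hG)
  have hUV : U ≤ f ⁻¹ᵁ V := fun z hz => (hUV' hz).1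
  have hUG : (U : Set X) ⊆ G := fun z hz => (hUV' hz).2
  have hfp : (f.appLE V U hUV).hom.FinitePresentation := f.finitePresentation_appLE hV hU hUV
  letI := (f.appLE V U hUV).hom.toAlgebra
  haveI : Algebra.FinitePresentation Γ(Y, V) Γ(X, U) := hfp
  haveI hMfp : Module.FinitePresentation Γ(X, U) Γ(F, U) :=
    Groth.Agent.Lib.helper16.CohFP.fp_sections_of_isFinitePresentation F hF hU
  letI := modSecBase f F hUV
  haveI := isScalarTower_sections f F hUV
  haveI : Module.Flat Γ(Y, V) Γ(F, U) :=
    flat_sections_of_isFlatOverAt f F hUV hU hV (fun x _ => hflat x)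
  have hopen := isOpen_image_inter_support Γ(Y, V) Γ(X, U) Γ(F, U) Set.univ isOpen_univ
  have hft : (f.appLE V U hUV).hom.FiniteType := RingHom.FiniteType.of_finitePresentation hfp
  have hfin : Module.Finite Γ(X, U) Γ(F, U) := inferInstance
  refine ⟨hV.fromSpec '' (PrimeSpectrum.comap (algebraMap Γ(Y, V) Γ(X, U)) ''
    (Set.univ ∩ Module.support Γ(X, U) Γ(F, U))), ?_,
    hV.fromSpec.isOpenEmbedding.isOpenMap _ hopen, ?_⟩
  · rintro _ ⟨_, ⟨Q, ⟨-, hQ⟩, rfl⟩, rfl⟩
    have hyU : hU.fromSpec Q ∈ U := by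
      rw [← SetLike.mem_coe, ← hU.range_fromSpec]
      exact Set.mem_range_self Q
    have hq' : hU.primeIdealOf ⟨hU.fromSpec Q, hyU⟩ = Q :=
      hU.fromSpec.isOpenEmbedding.injective (hU.fromSpec_primeIdealOf ⟨hU.fromSpec Q, hyU⟩)
    refine ⟨hU.fromSpec Q, ⟨hUG hyU, ?_⟩, ?_⟩
    · refine (fibre_support_iff' f F hV hU hUV hft hfin _ hyU).mpr ?_
      rw [hq']
      exact hQ
    · rw [base_eq_fromSpec_comap f hV hU hUV _ hyU, hq']
  · refine ⟨_, ⟨hU.primeIdealOf ⟨x, hxU⟩, ⟨trivial, ?_⟩, rfl⟩, ?_⟩
    · exact (fibre_support_iff' f F hV hU hUV hft hfin x hxU).mp hxS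
    · exact (base_eq_fromSpec_comap f hV hU hUV x hxU).symm

omit [LocallyOfFinitePresentation f] in
/-- the set of points of the base whose fibre contains a point with a given property is the image
of the corresponding subset of `X`. -/
theorem setOf_exists_fiber_eq (Q : ∀ y : Y, f.fiber y → Prop) :
    {y : Y | ∃ x' : f.fiber y, Q y x'} = f '' {x : X | Q (f x) (f.asFiber x)} := by
  ext y
  constructor
  · rintro ⟨x', hx'⟩
    refine ⟨f.fiberι y x', ?_, base_fiberι f y x'⟩
    exact (Groth.Agent.Lib.Lead.FibrewiseOpen.asFiber_fiberι f y x' (base_fiberι f y x') Q).mpr hx'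
  · rintro ⟨x, hx, rfl⟩
    exact ⟨f.asFiber x, hx⟩

include hF hflat in
/-- the set of points `y` such that `Supp F_y` has an irreducible component of dimension `n` is
open. -/
theorem isOpen_setOf_exists_component_dim_eq (n : ℕ) :
    IsOpen {y : Y | ∃ Z ∈ irreducibleComponents ↥{z : ↥(f.fiber y) |
        Nontrivial (((Scheme.Modules.pullback (f.fiberι y)).obj F).presheaf.stalk z)},
      topologicalKrullDim ↥Z = (n : WithBot ℕ∞)} := by
  have h1 : {y : Y | ∃ Z ∈ irreducibleComponents ↥{z : ↥(f.fiber y) |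
        Nontrivial (((Scheme.Modules.pullback (f.fiberι y)).obj F).presheaf.stalk z)},
      topologicalKrullDim ↥Z = (n : WithBot ℕ∞)} =
      {y : Y | ∃ w : ↥(f.fiber y),
        Nontrivial (((Scheme.Modules.pullback (f.fiberι y)).obj F).presheaf.stalk w) ∧
        ∀ z ∈ AssSch.Ass ((Scheme.Modules.pullback (f.fiberι y)).obj F), w ∈ closure {z} →
          ∃ n' ∈ ({n} : Finset ℕ),
            topologicalKrullDim ↥(closure ({z} : Set ↥(f.fiber y))) = (n' : WithBot ℕ∞)} := by
    ext y
    exact exists_component_dim_eq_iff f F hF y n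
  rw [h1, setOf_exists_fiber_eq f (fun y w =>
    Nontrivial (((Scheme.Modules.pullback (f.fiberι y)).obj F).presheaf.stalk w) ∧
    ∀ z ∈ AssSch.Ass ((Scheme.Modules.pullback (f.fiberι y)).obj F), w ∈ closure {z} →
      ∃ n' ∈ ({n} : Finset ℕ),
        topologicalKrullDim ↥(closure ({z} : Set ↥(f.fiber y))) = (n' : WithBot ℕ∞))]
  have h2 := isOpen_image_inter_fibreSupport f F hF hflat _
    (isOpen_setOf_fibre_assDims_through_mem f F hF hflat {n})
  convert h2 using 2
  ext x
  exact and_comm

include hF hflat in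
/-- **EGA IV 12.2.1 (ii)**: the set of `y` such that the dimensions of the irreducible components
of `Supp F_y` contain `Φ` is open. -/
theorem isOpen_setOf_fibre_supportComponentDims_supset (Φ : Finset ℕ) :
    IsOpen {y : Y | ∀ n ∈ Φ, ∃ Z ∈ irreducibleComponents ↥{z : ↥(f.fiber y) |
        Nontrivial (((Scheme.Modules.pullback (f.fiberι y)).obj F).presheaf.stalk z)},
      topologicalKrullDim ↥Z = (n : WithBot ℕ∞)} := by
  have h : {y : Y | ∀ n ∈ Φ, ∃ Z ∈ irreducibleComponents ↥{z : ↥(f.fiber y) |
        Nontrivial (((Scheme.Modules.pullback (f.fiberι y)).obj F).presheaf.stalk z)},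
      topologicalKrullDim ↥Z = (n : WithBot ℕ∞)} =
      ⋂ n ∈ Φ, {y : Y | ∃ Z ∈ irreducibleComponents ↥{z : ↥(f.fiber y) |
        Nontrivial (((Scheme.Modules.pullback (f.fiberι y)).obj F).presheaf.stalk z)},
      topologicalKrullDim ↥Z = (n : WithBot ℕ∞)} := by
    ext y
    simp only [Set.mem_ofPred_eq, Set.mem_iInter]
  rw [h]
  exact isOpen_biInter_finset fun n _ => isOpen_setOf_exists_component_dim_eq f F hF hflat n

end main2

end Groth.Agent.Lib.Helper24.AssFib
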