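import Mathlib
import Groth.Prelude.Def_EGA4b
import Groth.Prelude.Def_FDesc
import Groth.Prelude.Def_CohB1
import Groth.Prelude.Def_FlatMod2
import Groth.Agent.Lib.Helper24.AssFib6

/-!
# Associated points of fibre modules in families (helper24), part 7: EGA IV 12.2.1 (iii)

`f : X ⟶ Y` proper of finite presentation, `F` a finitely presented `O_X`-module flat over `Y`: the set
of `y` such that `F_y` has no embedded associated point and the set of dimensions of the irreducible
components of `Supp F_y` is exactly `Φ` is open.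
-/

set_option autoImplicit false
universe u

namespace Groth.Agent.Lib.Helper24.AssFib

open AlgebraicGeometry CategoryTheory IsLocalRing LocCoh Topology

section pointwise

variable {X Y : Scheme.{u}} (f : X ⟶ Y) [LocallyOfFiniteType f] (F : X.Modules)
  (hF : CohB1.IsFP F)

include hF in
/-- in a fibre without embedded points: the dimensions of the components of the support are exactly
`Φ` iff the associated points have dimensions in `Φ` and every element of `Φ` is the dimension of a
component. -/
theorem fibre_noEmbedded_dims_iff (y : Y) (Φ : Finset ℕ) :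
    (AssSch.NoEmbedded ((Scheme.Modules.pullback (f.fiberι y)).obj F) ∧
      (fun Z : Set ↥{z : ↥(f.fiber y) | Nontrivial
          (((Scheme.Modules.pullback (f.fiberι y)).obj F).presheaf.stalk z)} =>
        topologicalKrullDim ↥Z) '' irreducibleComponents ↥{z : ↥(f.fiber y) | Nontrivial
          (((Scheme.Modules.pullback (f.fiberι y)).obj F).presheaf.stalk z)} =
        (fun n : ℕ => (n : WithBot ℕ∞)) '' (Φ : Set ℕ)) ↔
    (AssSch.NoEmbedded ((Scheme.Modules.pullback (f.fiberι y)).obj F) ∧
      (∀ z ∈ AssSch.Ass ((Scheme.Modules.pullback (f.fiberι y)).obj F), ∃ n ∈ Φ,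
        topologicalKrullDim ↥(closure ({z} : Set ↥(f.fiber y))) = (n : WithBot ℕ∞)) ∧
      (∀ n ∈ Φ, ∃ Z ∈ irreducibleComponents ↥{z : ↥(f.fiber y) |
        Nontrivial (((Scheme.Modules.pullback (f.fiberι y)).obj F).presheaf.stalk z)},
      topologicalKrullDim ↥Z = (n : WithBot ℕ∞))) := by
  haveI := isLocallyNoetherian_fiber f y
  have hcoh := isCoh_fibre f F hF y
  have hcl := isClosed_fibreSupport f F hF y
  constructor
  · rintro ⟨hemb, heq⟩
    refine ⟨hemb, ?_, ?_⟩
    · intro z hz
      have hznt : Nontrivial (((Scheme.Modules.pullback (f.fiberι y)).obj F).presheaf.stalk z) := by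
        by_contra hsub
        rw [not_nontrivial_iff_subsingleton] at hsub
        haveI := hsub
        exact not_isAssociatedPrime_of_subsingleton hz
      have hmax : ∀ w ∈ {z : ↥(f.fiber y) | Nontrivial
          (((Scheme.Modules.pullback (f.fiberι y)).obj F).presheaf.stalk z)}, w ⤳ z → w = z :=
        fun w hw hwz =>
          Groth.Agent.Lib.helper16.LenSemi.maximal_of_isAssPoint_of_noEmbedded _ hcoh hemb hz w hw hwz
      obtain ⟨hZ, hZim⟩ := closure_mem_irreducibleComponents_of_maximal hcl z hznt hmax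
      have hmem : topologicalKrullDim ↥(closure ({⟨z, hznt⟩} : Set ↥{z : ↥(f.fiber y) | Nontrivial
          (((Scheme.Modules.pullback (f.fiberι y)).obj F).presheaf.stalk z)})) ∈
          (fun n : ℕ => (n : WithBot ℕ∞)) '' (Φ : Set ℕ) := by
        rw [← heq]
        exact ⟨_, hZ, rfl⟩
      obtain ⟨n, hn, hnd⟩ := hmem
      refine ⟨n, hn, ?_⟩
      rw [← topologicalKrullDim_eq_of_image_eq _ _ hZim]
      exact hnd.symm
    · intro n hn
      have hmem : ((n : ℕ) : WithBot ℕ∞) ∈ (fun n : ℕ => (n : WithBot ℕ∞)) '' (Φ : Set ℕ) :=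
        ⟨n, hn, rfl⟩
      rw [← heq] at hmem
      obtain ⟨Z, hZ, hd⟩ := hmem
      exact ⟨Z, hZ, hd⟩
  · rintro ⟨hemb, h1, h2⟩
    refine ⟨hemb, ?_⟩
    ext d
    constructor
    · rintro ⟨Z, hZ, rfl⟩
      obtain ⟨ζ, hζS, hζmax, hζZ⟩ := exists_generic_of_mem_irreducibleComponents hcl Z hZ
      have hζass : Curv2.IsAssPoint ((Scheme.Modules.pullback (f.fiberι y)).obj F) ζ :=
        Groth.Agent.Lib.helper16.LenSemi.isAssPoint_of_maximal _ hcoh hζS
          (fun w hw hwζ => hζmax w hw hwζ)
      obtain ⟨n, hn, hnd⟩ := h1 ζ hζass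
      refine ⟨n, hn, ?_⟩
      show ((n : ℕ) : WithBot ℕ∞) = topologicalKrullDim ↥Z
      rw [topologicalKrullDim_eq_of_image_eq Z _ hζZ]
      exact hnd.symm
    · rintro ⟨n, hn, rfl⟩
      obtain ⟨Z, hZ, hd⟩ := h2 n hn
      exact ⟨Z, hZ, hd⟩

omit [LocallyOfFiniteType f] in
/-- `F_y` has no embedded point iff no point of the fibre lies on an embedded associated cycle. -/
theorem noEmbedded_iff_forall (y : Y) :
    AssSch.NoEmbedded ((Scheme.Modules.pullback (f.fiberι y)).obj F) ↔
      ∀ w : ↥(f.fiber y), ∀ z ∈ AssSch.Ass ((Scheme.Modules.pullback (f.fiberι y)).obj F),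
        w ∈ closure {z} → ∀ z' ∈ AssSch.Ass ((Scheme.Modules.pullback (f.fiberι y)).obj F),
          z ∈ closure {z'} → z' = z := by
  constructor
  · intro h w z hz _ z' hz' hzz'
    exact (h z hz z' hz' (specializes_iff_mem_closure.mpr hzz')).symm
  · intro h x hx y' hy' hyx
    exact (h x x hx (subset_closure rfl) y' hy' (specializes_iff_mem_closure.mp hyx)).symm

end pointwise

section main3

variable {X Y : Scheme.{u}} (f : X ⟶ Y) [IsProper f] [LocallyOfFinitePresentation f]
  (F : X.Modules) (hF : CohB1.IsFP F) (hflat : FlatMod.IsFlatOver f F)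

include hF hflat in
/-- the set of `y` such that `F_y` has no embedded associated point is open. -/
theorem isOpen_setOf_fibre_noEmbedded :
    IsOpen {y : Y | AssSch.NoEmbedded ((Scheme.Modules.pullback (f.fiberι y)).obj F)} := by
  have h := Groth.Agent.Lib.Lead.FibrewiseOpen.isOpen_setOf_forall_fiber f f.isClosedMap
    (fun y w => ∀ z ∈ AssSch.Ass ((Scheme.Modules.pullback (f.fiberι y)).obj F),
        w ∈ closure {z} → ∀ z' ∈ AssSch.Ass ((Scheme.Modules.pullback (f.fiberι y)).obj F),
          z ∈ closure {z'} → z' = z)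
    (isOpen_setOf_not_mem_embedded_fibre_assPoint f F hF hflat)
  convert h using 1
  ext y
  exact noEmbedded_iff_forall f F y

include hF hflat in
/-- the set of `y` such that all associated points of `F_y` have dimension in `Φ` is open. -/
theorem isOpen_setOf_fibre_assDims_subset (Φ : Finset ℕ) :
    IsOpen {y : Y | ∀ z ∈ AssSch.Ass ((Scheme.Modules.pullback (f.fiberι y)).obj F), ∃ n ∈ Φ,
      topologicalKrullDim ↥(closure ({z} : Set ↥(f.fiber y))) = (n : WithBot ℕ∞)} := by
  have h := Groth.Agent.Lib.Lead.FibrewiseOpen.isOpen_setOf_forall_fiber f f.isClosedMap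
    (fun y x' => ∀ z ∈ AssSch.Ass ((Scheme.Modules.pullback (f.fiberι y)).obj F),
      x' ∈ closure {z} → ∃ n ∈ Φ,
        topologicalKrullDim ↥(closure ({z} : Set ↥(f.fiber y))) = (n : WithBot ℕ∞))
    (isOpen_setOf_fibre_assDims_through_mem f F hF hflat Φ)
  convert h using 1
  ext y
  constructor
  · intro hy x' z hz _
    exact hy z hz
  · intro hy z hz
    exact hy z z hz (subset_closure rfl)

include hF hflat in
/-- **EGA IV 12.2.1 (iii)**. -/
theorem isOpen_setOf_fibre_noEmbedded_and_supportComponentDims_eq (Φ : Finset ℕ) :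
    IsOpen {y : Y | AssSch.NoEmbedded ((Scheme.Modules.pullback (f.fiberι y)).obj F) ∧
      (fun Z : Set ↥{z : ↥(f.fiber y) | Nontrivial
          (((Scheme.Modules.pullback (f.fiberι y)).obj F).presheaf.stalk z)} =>
        topologicalKrullDim ↥Z) '' irreducibleComponents ↥{z : ↥(f.fiber y) | Nontrivial
          (((Scheme.Modules.pullback (f.fiberι y)).obj F).presheaf.stalk z)} =
        (fun n : ℕ => (n : WithBot ℕ∞)) '' (Φ : Set ℕ)} := by
  have hA := isOpen_setOf_fibre_noEmbedded f F hF hflat
  have hB := isOpen_setOf_fibre_assDims_subset f F hF hflat Φ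
  have hC := isOpen_setOf_fibre_supportComponentDims_supset f F hF hflat Φ
  convert (hA.inter hB).inter hC using 1
  ext y
  rw [Set.mem_ofPred_eq, fibre_noEmbedded_dims_iff f F hF y Φ]
  exact ⟨fun h => ⟨⟨h.1, h.2.1⟩, h.2.2⟩, fun h => ⟨h.1.1, h.1.2, h.2⟩⟩

end main3

end Groth.Agent.Lib.Helper24.AssFib
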