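import Mathlib
import Groth.Prelude.Def_EGA4b
import Groth.Prelude.Def_FDesc
import Groth.Prelude.Def_CohB1
import Groth.Prelude.Def_FlatMod2
import Groth.Agent.Lib.Helper24.AssFib7

/-!
# Associated points of fibre modules in families (helper24), part 8: EGA IV 12.2.1 (iv)/(v)

`f : X ⟶ Y` proper of finite presentation, `F` a finitely presented `O_X`-module flat over `Y`: the
function `y ↦ dim Supp F_y` is locally constant.
-/

set_option autoImplicit false
universe u

namespace Groth.Agent.Lib.Helper24.AssFib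

open AlgebraicGeometry CategoryTheory IsLocalRing LocCoh Topology TopologicalSpace

section topology

variable {T : Type*} [TopologicalSpace T]

/-- the trace on a subspace `Z` of an irreducible subset contained in `Z` is irreducible. -/
theorem isIrreducible_preimage_val {Z : Set T} (c : Set T) (hc : IsIrreducible c) (hcZ : c ⊆ Z) :
    IsIrreducible (Subtype.val ⁻¹' c : Set ↥Z) := by
  obtain ⟨⟨x, hx⟩, hpre⟩ := hc
  refine ⟨⟨⟨x, hcZ hx⟩, hx⟩, ?_⟩
  intro u v hu hv hau hbv
  obtain ⟨a, ha, hau⟩ := hau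
  obtain ⟨b, hb, hbv⟩ := hbv
  obtain ⟨u', hu', rfl⟩ := isOpen_induced_iff.mp hu
  obtain ⟨v', hv', rfl⟩ := isOpen_induced_iff.mp hv
  obtain ⟨z, hz, hzu, hzv⟩ := hpre u' v' hu' hv' ⟨a.1, ha, hau⟩ ⟨b.1, hb, hbv⟩
  exact ⟨⟨z, hcZ hz⟩, hz, hzu, hzv⟩

/-- the dimension of a space is bounded by a bound for the dimensions of its irreducible
components. -/
theorem topologicalKrullDim_le_of_forall_irreducibleComponents (d : WithBot ℕ∞)
    (h : ∀ Z ∈ irreducibleComponents T, topologicalKrullDim ↥Z ≤ d) :
    topologicalKrullDim T ≤ d := by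
  unfold topologicalKrullDim at h ⊢
  unfold Order.krullDim
  refine iSup_le fun p => ?_
  obtain ⟨Z, hZ, hcZ⟩ := exists_mem_irreducibleComponents_subset_of_isIrreducible
    (p.last : Set T) p.last.isIrreducible
  have hsub : ∀ i, ((p i : IrreducibleCloseds T) : Set T) ⊆ Z := fun i =>
    (show ((p i : IrreducibleCloseds T) : Set T) ⊆ (p.last : Set T) from
      (p.monotone (Fin.le_last i))).trans hcZ
  let g : Fin (p.length + 1) → IrreducibleCloseds ↥Z := fun i =>
    ⟨Subtype.val ⁻¹' ((p i : IrreducibleCloseds T) : Set T),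
      isIrreducible_preimage_val _ (p i).isIrreducible (hsub i),
      (p i).isClosed.preimage continuous_subtype_val⟩
  have hg : ∀ i, ((g i : IrreducibleCloseds ↥Z) : Set ↥Z) =
      Subtype.val ⁻¹' ((p i : IrreducibleCloseds T) : Set T) := fun i => rfl
  have hstep : ∀ i : Fin p.length, g i.castSucc < g i.succ := by
    intro i
    have hlt : p i.castSucc < p i.succ := p.step i
    have hle : ((p i.castSucc : IrreducibleCloseds T) : Set T) ⊆
        ((p i.succ : IrreducibleCloseds T) : Set T) := hlt.le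
    refine lt_of_le_of_ne ?_ ?_
    · rw [← SetLike.coe_subset_coe, hg, hg]
      exact Set.preimage_mono hle
    · intro heq
      apply hlt.ne
      apply IrreducibleCloseds.ext
      have h1 : (Subtype.val ⁻¹' ((p i.castSucc : IrreducibleCloseds T) : Set T) : Set ↥Z) =
          Subtype.val ⁻¹' ((p i.succ : IrreducibleCloseds T) : Set T) := by
        rw [← hg, ← hg, heq]
      have h2 := congrArg (fun s : Set ↥Z => Subtype.val '' s) h1
      simp only [Subtype.image_preimage_coe] at h2
      rwa [Set.inter_eq_self_of_subset_right (hsub _),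
        Set.inter_eq_self_of_subset_right (hsub _)] at h2
  let q : LTSeries (IrreducibleCloseds ↥Z) :=
    { length := p.length
      toFun := g
      step := hstep }
  calc (p.length : WithBot ℕ∞) = (q.length : WithBot ℕ∞) := rfl
    _ ≤ Order.krullDim (IrreducibleCloseds ↥Z) := Order.LTSeries.length_le_krullDim q
    _ ≤ d := h Z hZ

/-- the dimension of an empty space is `⊥`. -/
theorem topologicalKrullDim_eq_bot_of_isEmpty [IsEmpty T] : topologicalKrullDim T = ⊥ := by
  unfold topologicalKrullDim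
  rw [Order.krullDim_eq_bot_iff]
  exact ⟨fun c => isEmptyElim (c.isIrreducible.nonempty.some)⟩

end topology

section pointwise

variable {X Y : Scheme.{u}} (f : X ⟶ Y) [LocallyOfFiniteType f] (F : X.Modules)
  (hF : CohB1.IsFP F)

/-- the closure of a point of a fibre has finite dimension. -/
theorem exists_nat_dim_closure_fibre_point (y : Y) (z : f.fiber y) :
    ∃ n : ℕ, topologicalKrullDim ↥(closure ({z} : Set ↥(f.fiber y))) = (n : WithBot ℕ∞) := by
  obtain ⟨_, ⟨V, hV : IsAffineOpen V, rfl⟩, hfxV, -⟩ :=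
    Y.isBasis_affineOpens.exists_subset_of_mem_open
      (Set.mem_univ (f (f.fiberι y z))) isOpen_univ
  obtain ⟨_, ⟨U, hU : IsAffineOpen U, rfl⟩, hxU, hUV'⟩ :=
    X.isBasis_affineOpens.exists_subset_of_mem_open
      (show f.fiberι y z ∈ (f ⁻¹ᵁ V : Set X) from hfxV) (f ⁻¹ᵁ V).isOpen
  have hUV : U ≤ f ⁻¹ᵁ V := hUV'
  have hft : (f.appLE V U hUV).hom.FiniteType := f.finiteType_appLE hV hU hUV
  exact ⟨_, dim_closure_fibre_point f hV hU hUV hft y z hxU⟩

include hF in
/-- if all associated points of `F_y` have dimension `≤ n` then `dim Supp F_y ≤ n`. -/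
theorem fibre_support_dim_le (y : Y) (n : ℕ)
    (h : ∀ z ∈ AssSch.Ass ((Scheme.Modules.pullback (f.fiberι y)).obj F),
      ∃ m ∈ Finset.range (n + 1),
        topologicalKrullDim ↥(closure ({z} : Set ↥(f.fiber y))) = (m : WithBot ℕ∞)) :
    topologicalKrullDim ↥{z : ↥(f.fiber y) | Nontrivial
      (((Scheme.Modules.pullback (f.fiberι y)).obj F).presheaf.stalk z)} ≤ (n : WithBot ℕ∞) := by
  haveI := isLocallyNoetherian_fiber f y
  have hcoh := isCoh_fibre f F hF y
  have hcl := isClosed_fibreSupport f F hF y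
  apply topologicalKrullDim_le_of_forall_irreducibleComponents
  intro Z hZ
  obtain ⟨ζ, hζS, hζmax, hζZ⟩ := exists_generic_of_mem_irreducibleComponents hcl Z hZ
  have hζass : Curv2.IsAssPoint ((Scheme.Modules.pullback (f.fiberι y)).obj F) ζ :=
    Groth.Agent.Lib.helper16.LenSemi.isAssPoint_of_maximal _ hcoh hζS
      (fun w hw hwζ => hζmax w hw hwζ)
  obtain ⟨m, hm, hmd⟩ := h ζ hζass
  rw [topologicalKrullDim_eq_of_image_eq Z _ hζZ, hmd]
  exact_mod_cast Nat.lt_succ_iff.mp (Finset.mem_range.mp hm)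

include hF in
/-- if `F_y` has no associated point then `Supp F_y` is empty. -/
theorem fibre_support_isEmpty (y : Y)
    (h : ∀ z ∈ AssSch.Ass ((Scheme.Modules.pullback (f.fiberι y)).obj F),
      ∃ m ∈ (∅ : Finset ℕ),
        topologicalKrullDim ↥(closure ({z} : Set ↥(f.fiber y))) = (m : WithBot ℕ∞)) :
    IsEmpty ↥{z : ↥(f.fiber y) | Nontrivial
      (((Scheme.Modules.pullback (f.fiberι y)).obj F).presheaf.stalk z)} := by
  haveI := isLocallyNoetherian_fiber f y
  have hcoh := isCoh_fibre f F hF y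
  refine ⟨fun w => ?_⟩
  obtain ⟨ξ, -, hξnt, hξmax⟩ :=
    Groth.Agent.Lib.helper16.LenSemi.exists_maximal_generization _ hcoh w.2
  have hξass : Curv2.IsAssPoint ((Scheme.Modules.pullback (f.fiberι y)).obj F) ξ :=
    Groth.Agent.Lib.helper16.LenSemi.isAssPoint_of_maximal _ hcoh hξnt hξmax
  obtain ⟨m, hm, -⟩ := h ξ hξass
  exact absurd hm (Finset.notMem_empty m)

include hF in
/-- in a quasi-compact fibre with `Supp F_y` nonempty: `dim Supp F_y` is a natural number `n`,
attained by a component, and all associated points have dimension `≤ n`. -/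
theorem exists_fibre_support_dim (y : Y) [CompactSpace ↥(f.fiber y)]
    (hne : {z : ↥(f.fiber y) | Nontrivial
      (((Scheme.Modules.pullback (f.fiberι y)).obj F).presheaf.stalk z)}.Nonempty) :
    ∃ n : ℕ, (∃ Z ∈ irreducibleComponents ↥{z : ↥(f.fiber y) | Nontrivial
        (((Scheme.Modules.pullback (f.fiberι y)).obj F).presheaf.stalk z)},
        topologicalKrullDim ↥Z = (n : WithBot ℕ∞)) ∧
      ∀ z ∈ AssSch.Ass ((Scheme.Modules.pullback (f.fiberι y)).obj F),
        ∃ m ∈ Finset.range (n + 1),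
          topologicalKrullDim ↥(closure ({z} : Set ↥(f.fiber y))) = (m : WithBot ℕ∞) := by
  haveI := isLocallyNoetherian_fiber f y
  haveI : IsNoetherian (f.fiber y) := {}
  haveI : NoetherianSpace ↥(f.fiber y) := inferInstance
  have hcoh := isCoh_fibre f F hF y
  have hcl := isClosed_fibreSupport f F hF y
  have hfin : (irreducibleComponents ↥{z : ↥(f.fiber y) | Nontrivial
      (((Scheme.Modules.pullback (f.fiberι y)).obj F).presheaf.stalk z)}).Finite :=
    NoetherianSpace.finite_irreducibleComponents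
  have hnat : ∀ Z ∈ irreducibleComponents ↥{z : ↥(f.fiber y) | Nontrivial
      (((Scheme.Modules.pullback (f.fiberι y)).obj F).presheaf.stalk z)},
      ∃ n : ℕ, topologicalKrullDim ↥Z = (n : WithBot ℕ∞) := by
    intro Z hZ
    obtain ⟨ζ, hζS, hζmax, hζZ⟩ := exists_generic_of_mem_irreducibleComponents hcl Z hZ
    obtain ⟨n, hn⟩ := exists_nat_dim_closure_fibre_point f y ζ
    exact ⟨n, by rw [topologicalKrullDim_eq_of_image_eq Z _ hζZ, hn]⟩
  choose! d hd using hnat
  obtain ⟨w, hw⟩ := hne
  have hne' : hfin.toFinset.Nonempty :=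
    ⟨irreducibleComponent ⟨w, hw⟩, by
      rw [Set.Finite.mem_toFinset]
      exact irreducibleComponent_mem_irreducibleComponents _⟩
  obtain ⟨Z0, hZ0, hmax⟩ := hfin.toFinset.exists_max_image d hne'
  rw [Set.Finite.mem_toFinset] at hZ0
  refine ⟨d Z0, ⟨Z0, hZ0, hd Z0 hZ0⟩, ?_⟩
  have hle : topologicalKrullDim ↥{z : ↥(f.fiber y) | Nontrivial
      (((Scheme.Modules.pullback (f.fiberι y)).obj F).presheaf.stalk z)} ≤
      ((d Z0 : ℕ) : WithBot ℕ∞) := by
    apply topologicalKrullDim_le_of_forall_irreducibleComponents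
    intro Z hZ
    rw [hd Z hZ]
    exact_mod_cast hmax Z (by rw [Set.Finite.mem_toFinset]; exact hZ)
  intro z hz
  have hznt : Nontrivial (((Scheme.Modules.pullback (f.fiberι y)).obj F).presheaf.stalk z) := by
    by_contra hsub
    rw [not_nontrivial_iff_subsingleton] at hsub
    haveI := hsub
    exact not_isAssociatedPrime_of_subsingleton hz
  obtain ⟨m, hm⟩ := exists_nat_dim_closure_fibre_point f y z
  refine ⟨m, ?_, hm⟩
  have hsub : closure ({z} : Set ↥(f.fiber y)) ⊆ {z : ↥(f.fiber y) | Nontrivial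
      (((Scheme.Modules.pullback (f.fiberι y)).obj F).presheaf.stalk z)} :=
    hcl.closure_subset_iff.mpr (Set.singleton_subset_iff.mpr hznt)
  have h1 : topologicalKrullDim ↥(closure ({z} : Set ↥(f.fiber y))) ≤
      topologicalKrullDim ↥{z : ↥(f.fiber y) | Nontrivial
        (((Scheme.Modules.pullback (f.fiberι y)).obj F).presheaf.stalk z)} :=
    (Topology.IsEmbedding.inclusion hsub).isInducing.topologicalKrullDim_le
  rw [hm] at h1
  have h2 : ((m : ℕ) : WithBot ℕ∞) ≤ ((d Z0 : ℕ) : WithBot ℕ∞) := h1.trans hle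
  rw [Finset.mem_range]
  exact Nat.lt_succ_of_le (by exact_mod_cast h2)

end pointwise

section main4

variable {X Y : Scheme.{u}} (f : X ⟶ Y) [IsProper f] [LocallyOfFinitePresentation f]
  (F : X.Modules) (hF : CohB1.IsFP F) (hflat : FlatMod.IsFlatOver f F)

include hF hflat in
/-- **EGA IV 12.2.1 (iv)**: `y ↦ dim Supp F_y` is locally constant. -/
theorem isLocallyConstant_fibre_support_dim :
    IsLocallyConstant (fun y : Y => topologicalKrullDim ↥{z : ↥(f.fiber y) | Nontrivial
      (((Scheme.Modules.pullback (f.fiberι y)).obj F).presheaf.stalk z)}) := by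
  rw [IsLocallyConstant.iff_exists_open]
  intro y
  by_cases hne : {z : ↥(f.fiber y) | Nontrivial
      (((Scheme.Modules.pullback (f.fiberι y)).obj F).presheaf.stalk z)}.Nonempty
  · obtain ⟨n, ⟨Z, hZ, hZd⟩, hass⟩ := exists_fibre_support_dim f F hF y hne
    refine ⟨_, (isOpen_setOf_exists_component_dim_eq f F hF hflat n).inter
      (isOpen_setOf_fibre_assDims_subset f F hF hflat (Finset.range (n + 1))),
      ⟨⟨Z, hZ, hZd⟩, hass⟩, ?_⟩
    rintro y' ⟨⟨Z', hZ', hZ'd⟩, hass'⟩
    have h1 : topologicalKrullDim ↥{z : ↥(f.fiber y') | Nontrivial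
        (((Scheme.Modules.pullback (f.fiberι y')).obj F).presheaf.stalk z)} =
        (n : WithBot ℕ∞) :=
      le_antisymm (fibre_support_dim_le f F hF y' n hass')
        (hZ'd ▸ topologicalKrullDim_subspace_le _ Z')
    have h2 : topologicalKrullDim ↥{z : ↥(f.fiber y) | Nontrivial
        (((Scheme.Modules.pullback (f.fiberι y)).obj F).presheaf.stalk z)} =
        (n : WithBot ℕ∞) :=
      le_antisymm (fibre_support_dim_le f F hF y n hass)
        (hZd ▸ topologicalKrullDim_subspace_le _ Z)
    show topologicalKrullDim ↥{z : ↥(f.fiber y') | Nontrivial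
        (((Scheme.Modules.pullback (f.fiberι y')).obj F).presheaf.stalk z)} =
      topologicalKrullDim ↥{z : ↥(f.fiber y) | Nontrivial
        (((Scheme.Modules.pullback (f.fiberι y)).obj F).presheaf.stalk z)}
    rw [h1, h2]
  · refine ⟨_, isOpen_setOf_fibre_assDims_subset f F hF hflat ∅, ?_, ?_⟩
    · intro z hz
      exfalso
      apply hne
      refine ⟨z, ?_⟩
      by_contra hsub
      rw [Set.mem_ofPred_eq, not_nontrivial_iff_subsingleton] at hsub
      haveI := hsub
      exact not_isAssociatedPrime_of_subsingleton hz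
    · intro y' hy'
      haveI := fibre_support_isEmpty f F hF y' hy'
      haveI : IsEmpty ↥{z : ↥(f.fiber y) | Nontrivial
          (((Scheme.Modules.pullback (f.fiberι y)).obj F).presheaf.stalk z)} :=
        ⟨fun w => hne ⟨w.1, w.2⟩⟩
      show topologicalKrullDim ↥{z : ↥(f.fiber y') | Nontrivial
          (((Scheme.Modules.pullback (f.fiberι y')).obj F).presheaf.stalk z)} =
        topologicalKrullDim ↥{z : ↥(f.fiber y) | Nontrivial
          (((Scheme.Modules.pullback (f.fiberι y)).obj F).presheaf.stalk z)}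
      rw [topologicalKrullDim_eq_bot_of_isEmpty, topologicalKrullDim_eq_bot_of_isEmpty]

end main4

end Groth.Agent.Lib.Helper24.AssFib
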