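import Mathlib
import Groth.Prelude.Def_Disc

/-!
# Associated primes of `Hom_A(B, A)` for a finite map of Noetherian rings
-/

set_option autoImplicit false

namespace Groth.Agent.Lib.Helper24.AssOmega1

universe u v

/-- A finite injective extension of domains `R ⊆ S` admits an `R`-linear form on `S` not vanishing
at `1`. -/
theorem exists_dual_one_ne_zero (R : Type u) (S : Type v) [CommRing R] [IsDomain R] [CommRing S]
    [IsDomain S] [Algebra R S] [Module.Finite R S]
    (hinj : Function.Injective (algebraMap R S)) : ∃ ψ : S →ₗ[R] R, ψ 1 ≠ 0 := by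
  classical
  haveI : FaithfulSMul R S := (faithfulSMul_iff_algebraMap_injective R S).mpr hinj
  let K := FractionRing R
  let L := FractionRing S
  letI : Algebra K L := FractionRing.liftAlgebra R L
  haveI : IsScalarTower R K L := FractionRing.isScalarTower_liftAlgebra R L
  obtain ⟨lam, hlam⟩ := Module.Projective.exists_dual_eq_one K (one_ne_zero : (1 : L) ≠ 0)
  let μ : S →ₗ[R] K := (lam.restrictScalars R) ∘ₗ (IsScalarTower.toAlgHom R S L).toLinearMap
  have hμ1 : μ 1 = 1 := by
    change lam ((IsScalarTower.toAlgHom R S L) 1) = 1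
    rw [map_one, hlam]
  obtain ⟨s, hs⟩ := (Module.Finite.fg_top : (⊤ : Submodule R S).FG)
  obtain ⟨d, hd⟩ := IsLocalization.exist_integer_multiples_of_finset (nonZeroDivisors R)
    (s.image μ)
  have hd0 : (d : R) ≠ 0 := nonZeroDivisors.coe_ne_zero d
  have hrange : LinearMap.range ((d : R) • μ) ≤ LinearMap.range (Algebra.linearMap R K) := by
    rw [LinearMap.range_eq_map, ← hs, Submodule.map_span, Submodule.span_le]
    rintro _ ⟨x, hx, rfl⟩
    obtain ⟨r, hr⟩ := hd (μ x) (Finset.mem_image_of_mem μ hx)
    exact ⟨r, hr⟩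
  have hKinj : Function.Injective (Algebra.linearMap R K) :=
    FaithfulSMul.algebraMap_injective R K
  let ψ : S →ₗ[R] R := (LinearEquiv.ofInjective (Algebra.linearMap R K) hKinj).symm.toLinearMap ∘ₗ
    (((d : R) • μ).codRestrict (LinearMap.range (Algebra.linearMap R K))
      (fun x => hrange (LinearMap.mem_range_self _ x)))
  refine ⟨ψ, fun h0 => ?_⟩
  have h1 : algebraMap R K (ψ 1) = (d : R) • μ 1 := by
    have := (LinearEquiv.ofInjective (Algebra.linearMap R K) hKinj).apply_symm_apply
      ((((d : R) • μ).codRestrict (LinearMap.range (Algebra.linearMap R K))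
      (fun x => hrange (LinearMap.mem_range_self _ x))) 1)
    exact congrArg Subtype.val this
  rw [h0, map_zero, hμ1, Algebra.smul_def, mul_one] at h1
  exact hd0 ((FaithfulSMul.algebraMap_injective R K) (by rw [map_zero]; exact h1.symm))


section Main

variable {A : Type u} {B : Type v} [CommRing A] [CommRing B] [Algebra A B]

theorem smul_eq_zero_iff (b : B) (φ : Disc.Omega A B) :
    b • φ = 0 ↔ ∀ x : B, φ.toLinearMap (b * x) = 0 := by
  constructor
  · intro h x
    have := congrArg (fun ψ : Disc.Omega A B => ψ.toLinearMap x) h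
    simpa using this
  · intro h
    apply Disc.Omega.ext
    ext x
    simpa using h x

/-- `⊆`: the contraction of an associated prime of `Hom_A(B, A)` is an associated prime of `A`. -/
theorem comap_mem_of_mem [IsNoetherianRing A] [IsNoetherianRing B] [Module.Finite A B]
    (q : Ideal B) (hq : q ∈ associatedPrimes B (Disc.Omega A B)) :
    q.comap (algebraMap A B) ∈ associatedPrimes A A := by
  classical
  obtain ⟨hqp, φ, hφ⟩ := (isAssociatedPrime_iff).mp hq
  haveI := hqp
  have hpp : (q.comap (algebraMap A B)).IsPrime := Ideal.comap_isPrime _ _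
  obtain ⟨s, hs⟩ := (Module.Finite.fg_top : (⊤ : Submodule A B).FG)
  -- membership in p
  have hmem : ∀ a : A, a ∈ q.comap (algebraMap A B) ↔ ∀ b ∈ s, a * φ.toLinearMap b = 0 := by
    intro a
    rw [Ideal.mem_comap, hφ, Submodule.mem_colon_singleton, Submodule.mem_bot, smul_eq_zero_iff]
    constructor
    · intro h b _
      have := h b
      rwa [← Algebra.smul_def, map_smul, smul_eq_mul] at this
    · intro h x
      rw [← Algebra.smul_def, map_smul, smul_eq_mul]
      have hx : x ∈ Submodule.span A (s : Set B) := by rw [hs]; trivial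
      induction hx using Submodule.span_induction with
      | mem y hy => exact h y hy
      | zero => simp
      | add y z _ _ hy hz => rw [map_add, mul_add, hy, hz, add_zero]
      | smul c y _ hy => rw [map_smul, smul_eq_mul, mul_left_comm, hy, mul_zero]
  have hle : (s.inf fun b => Submodule.colon (⊥ : Submodule A A) {φ.toLinearMap b}) ≤
      q.comap (algebraMap A B) := by
    intro a ha
    rw [hmem]
    intro b hb
    have := (Finset.inf_le hb : (s.inf fun b => Submodule.colon (⊥ : Submodule A A)
      {φ.toLinearMap b}) ≤ _) ha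
    rwa [Submodule.mem_colon_singleton, Submodule.mem_bot, smul_eq_mul] at this
  obtain ⟨b, hb, hble⟩ := (Ideal.IsPrime.inf_le' hpp).mp hle
  refine (isAssociatedPrime_iff).mpr ⟨hpp, φ.toLinearMap b, le_antisymm ?_ hble⟩
  intro a ha
  rw [Submodule.mem_colon_singleton, Submodule.mem_bot, smul_eq_mul]
  exact (hmem a).mp ha b hb


/-- `⊇`: a prime of `B` whose contraction is an associated prime of `A` is an associated prime of
`Hom_A(B, A)`. -/
theorem mem_of_comap_mem [IsNoetherianRing A] [IsNoetherianRing B] [Module.Finite A B]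
    (q : Ideal B) [hqp : q.IsPrime] (hq : q.comap (algebraMap A B) ∈ associatedPrimes A A) :
    q ∈ associatedPrimes B (Disc.Omega A B) := by
  classical
  obtain ⟨hpp, a₀, ha₀⟩ := (isAssociatedPrime_iff).mp hq
  haveI := hpp
  -- the finite extension of domains A/p ⊆ B/q
  have hinj : Function.Injective (algebraMap (A ⧸ q.comap (algebraMap A B)) (B ⧸ q)) :=
    Ideal.algebraMap_quotient_injective
  haveI : Module.Finite A (B ⧸ q) :=
    Module.Finite.of_surjective (Ideal.Quotient.mkₐ A q).toLinearMap
      (Ideal.Quotient.mkₐ_surjective A q)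
  haveI : Module.Finite (A ⧸ q.comap (algebraMap A B)) (B ⧸ q) :=
    Module.Finite.of_restrictScalars_finite A _ _
  obtain ⟨ψ, hψ⟩ := exists_dual_one_ne_zero (A ⧸ q.comap (algebraMap A B)) (B ⧸ q) hinj
  -- multiplication by a₀ : A/p → A
  have hker : q.comap (algebraMap A B) ≤ LinearMap.ker (LinearMap.toSpanSingleton A A a₀) := by
    intro a ha
    rw [ha₀, Submodule.mem_colon_singleton, Submodule.mem_bot] at ha
    rw [LinearMap.mem_ker, LinearMap.toSpanSingleton_apply]
    exact ha
  let m : (A ⧸ q.comap (algebraMap A B)) →ₗ[A] A :=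
    Submodule.liftQ (q.comap (algebraMap A B)) (LinearMap.toSpanSingleton A A a₀) hker
  have hm : Function.Injective m := by
    rw [← LinearMap.ker_eq_bot]
    apply Submodule.ker_liftQ_eq_bot
    intro a ha
    rw [LinearMap.mem_ker, LinearMap.toSpanSingleton_apply] at ha
    rw [ha₀, Submodule.mem_colon_singleton, Submodule.mem_bot]
    exact ha
  let φ : Disc.Omega A B :=
    ⟨m ∘ₗ (ψ.restrictScalars A) ∘ₗ (Ideal.Quotient.mkₐ A q).toLinearMap⟩
  have hφ : ∀ x : B, φ.toLinearMap x = m (ψ (Ideal.Quotient.mk q x)) := fun x => rfl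
  refine (isAssociatedPrime_iff).mpr ⟨hqp, φ, ?_⟩
  ext b
  rw [Submodule.mem_colon_singleton, Submodule.mem_bot, smul_eq_zero_iff]
  constructor
  · intro hb x
    rw [hφ]
    have : Ideal.Quotient.mk q (b * x) = 0 :=
      Ideal.Quotient.eq_zero_iff_mem.mpr (q.mul_mem_right x hb)
    rw [this, map_zero, map_zero]
  · intro hb
    by_contra hbq
    have hb0 : Ideal.Quotient.mk q b ≠ 0 := fun h => hbq (Ideal.Quotient.eq_zero_iff_mem.mp h)
    have hψb : ∀ y : B ⧸ q, ψ (Ideal.Quotient.mk q b * y) = 0 := by
      intro y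
      obtain ⟨x, rfl⟩ := Ideal.Quotient.mk_surjective y
      have := hb x
      rw [hφ, map_mul] at this
      exact hm (by rw [this, map_zero])
    have hint : IsIntegral (A ⧸ q.comap (algebraMap A B)) (Ideal.Quotient.mk q b) :=
      Algebra.IsIntegral.isIntegral _
    have hne := Ideal.comap_ne_bot_of_integral_mem (R := A ⧸ q.comap (algebraMap A B))
      (I := Ideal.span {Ideal.Quotient.mk q b}) hb0 (Ideal.mem_span_singleton_self _) hint
    obtain ⟨c, hc, hc0⟩ := Submodule.exists_mem_ne_zero_of_ne_bot hne
    rw [Ideal.mem_comap, Ideal.mem_span_singleton'] at hc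
    obtain ⟨y, hy⟩ := hc
    have h1 : c • ψ 1 = 0 := by
      rw [← map_smul, Algebra.smul_def, mul_one, ← hy, mul_comm]
      exact hψb y
    rcases smul_eq_zero.mp h1 with h | h
    · exact hc0 h
    · exact hψ h

theorem main [IsNoetherianRing A] [IsNoetherianRing B] [Module.Finite A B] :
    associatedPrimes B (Disc.Omega A B) =
      {q : Ideal B | q.IsPrime ∧ q.comap (algebraMap A B) ∈ associatedPrimes A A} := by
  ext q
  constructor
  · intro hq
    exact ⟨hq.isPrime, comap_mem_of_mem q hq⟩
  · rintro ⟨hqp, hq⟩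
    exact mem_of_comap_mem q hq

end Main

end Groth.Agent.Lib.Helper24.AssOmega1
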