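import Mathlib

/-!
# Associated primes of a base change along a map that is a local isomorphism at a prime
-/

set_option autoImplicit false

open TensorProduct

namespace Groth.Agent.Lib.Helper24.AssOmega2

universe u v w

/-- Associated primes along a bijective ring map (restriction of scalars). -/
theorem mem_ass_iff_of_bijective {R₁ : Type u} {R₂ : Type v} [CommRing R₁] [CommRing R₂]
    [Algebra R₁ R₂] (hb : Function.Bijective (algebraMap R₁ R₂)) (N : Type w) [AddCommGroup N]
    [Module R₁ N] [Module R₂ N] [IsScalarTower R₁ R₂ N] (P : Ideal R₂) :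
    P ∈ associatedPrimes R₂ N ↔ P.comap (algebraMap R₁ R₂) ∈ associatedPrimes R₁ N := by
  have key : ∀ (x : N) (r : R₁), algebraMap R₁ R₂ r ∈ (Submodule.colon (⊥ : Submodule R₂ N) {x}).radical ↔
      r ∈ (Submodule.colon (⊥ : Submodule R₁ N) {x}).radical := by
    intro x r
    simp only [Ideal.mem_radical_iff, Submodule.mem_colon_singleton, Submodule.mem_bot, ← map_pow,
      algebraMap_smul]
  constructor
  · intro h
    obtain ⟨hP, x, hx⟩ := (Submodule.isAssociatedPrime_def).mp h
    refine (Submodule.isAssociatedPrime_def).mpr ⟨Ideal.comap_isPrime _ _, x, ?_⟩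
    ext r
    rw [Ideal.mem_comap, hx, key]
  · intro h
    obtain ⟨hP, x, hx⟩ := (Submodule.isAssociatedPrime_def).mp h
    let e : R₁ ≃+* R₂ := RingEquiv.ofBijective (algebraMap R₁ R₂) hb
    have hPe : P = (P.comap (algebraMap R₁ R₂)).comap (e.symm : R₂ →+* R₁) := by
      ext s
      rw [Ideal.mem_comap, Ideal.mem_comap]
      have : algebraMap R₁ R₂ (e.symm s) = s := e.apply_symm_apply s
      rw [RingEquiv.coe_toRingHom, this]
    refine (Submodule.isAssociatedPrime_def).mpr ⟨?_, x, ?_⟩
    · rw [hPe]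
      exact Ideal.comap_isPrime _ _
    · ext s
      obtain ⟨r, rfl⟩ := hb.2 s
      rw [key, ← hx, Ideal.mem_comap]

/-- If `R_{q'} → T_q` is bijective (`q' = q ∩ R`), then `q ∈ Ass_T(T ⊗_R M) ↔ q' ∈ Ass_R(M)`. -/
theorem mem_ass_tensor_iff
    {R : Type u} {T : Type u} [CommRing R] [CommRing T] [Algebra R T] [IsNoetherianRing R]
    [IsNoetherianRing T] (q : Ideal T) [q.IsPrime]
    (Rq Tq : Type u) [CommRing Rq] [CommRing Tq] [Algebra R Rq] [Algebra T Tq] [Algebra Rq Tq]
    [Algebra R Tq] [IsScalarTower R Rq Tq] [IsScalarTower R T Tq]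
    [IsLocalization.AtPrime Rq (q.comap (algebraMap R T))] [IsLocalization.AtPrime Tq q]
    (hbij : Function.Bijective (algebraMap Rq Tq))
    (M : Type u) [AddCommGroup M] [Module R M] :
    q ∈ associatedPrimes T (T ⊗[R] M) ↔ q.comap (algebraMap R T) ∈ associatedPrimes R M := by
  haveI : IsLocalRing Rq := IsLocalization.AtPrime.isLocalRing Rq (q.comap (algebraMap R T))
  haveI : IsLocalRing Tq := IsLocalization.AtPrime.isLocalRing Tq q
  -- the common localized module
  let f₁ : M →ₗ[R] Tq ⊗[R] M := TensorProduct.mk R Tq M 1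
  have hf₁ : IsBaseChange Tq f₁ := TensorProduct.isBaseChange R M Tq
  -- localization of `T ⊗ M` at `q`
  let h : T ⊗[R] M →ₗ[T] Tq ⊗[R] M :=
    TensorProduct.AlgebraTensorModule.map (Algebra.linearMap T Tq) (LinearMap.id (R := R) (M := M))
  have hcomp : (h.restrictScalars R) ∘ₗ (TensorProduct.mk R T M 1) = f₁ := by
    ext m
    simp [h, f₁]
  have hh : IsBaseChange Tq h := by
    refine IsBaseChange.of_comp (TensorProduct.isBaseChange R M T) ?_
    rw [show ((h : T ⊗[R] M →ₗ[R] Tq ⊗[R] M)) = h.restrictScalars R from rfl, hcomp]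
    exact hf₁
  haveI hloc1 : IsLocalizedModule q.primeCompl h :=
    (isLocalizedModule_iff_isBaseChange q.primeCompl Tq h).mpr hh
  -- localization of `M` at `q'`
  let eLin : Rq ≃ₗ[Rq] Tq := LinearEquiv.ofBijective (Algebra.linearMap Rq Tq) hbij
  have hf₁' : IsBaseChange Rq f₁ := by
    refine IsBaseChange.of_equiv
      (TensorProduct.AlgebraTensorModule.congr eLin (LinearEquiv.refl R M)) (fun x => ?_)
    change (algebraMap Rq Tq 1) ⊗ₜ[R] x = 1 ⊗ₜ[R] x
    rw [map_one]
  haveI hloc2 : IsLocalizedModule (q.comap (algebraMap R T)).primeCompl f₁ :=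
    (isLocalizedModule_iff_isBaseChange (q.comap (algebraMap R T)).primeCompl Rq f₁).mpr hf₁'
  -- associated primes
  have h1 := Module.associatedPrimes.preimage_comap_associatedPrimes_eq_associatedPrimes_of_isLocalizedModule
    q.primeCompl (R' := Tq) h
  have h2 := Module.associatedPrimes.preimage_comap_associatedPrimes_eq_associatedPrimes_of_isLocalizedModule
    (q.comap (algebraMap R T)).primeCompl (R' := Rq) f₁
  have e1 : q ∈ associatedPrimes T (T ⊗[R] M) ↔
      IsLocalRing.maximalIdeal Tq ∈ associatedPrimes Tq (Tq ⊗[R] M) := by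
    have := IsLocalization.AtPrime.under_maximalIdeal Tq q
    rw [Ideal.under_def] at this
    rw [← h1, Set.mem_preimage, this]
  have e2 : q.comap (algebraMap R T) ∈ associatedPrimes R M ↔
      IsLocalRing.maximalIdeal Rq ∈ associatedPrimes Rq (Tq ⊗[R] M) := by
    have := IsLocalization.AtPrime.under_maximalIdeal Rq (q.comap (algebraMap R T))
    rw [Ideal.under_def] at this
    rw [← h2, Set.mem_preimage, this]
  rw [e1, e2, mem_ass_iff_of_bijective hbij]
  have : (IsLocalRing.maximalIdeal Tq).comap (algebraMap Rq Tq) = IsLocalRing.maximalIdeal Rq := by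
    haveI : IsLocalHom (algebraMap Rq Tq) :=
      ⟨fun a ha => (isLocalHom_equiv (RingEquiv.ofBijective (algebraMap Rq Tq) hbij)).map_nonunit
        a ha⟩
    exact ((IsLocalRing.local_hom_TFAE (algebraMap Rq Tq)).out 0 4).mp this
  rw [this]

end Groth.Agent.Lib.Helper24.AssOmega2
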