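import Mathlib
import Groth.Prelude.Def_QFDual
import Groth.Agent.Lib.Helper24.AssOmega1
import Groth.Agent.Lib.Helper24.AssOmega2

/-!
# Associated primes of the relative dualizing module of a quasi-finite map
-/

set_option autoImplicit false

open TensorProduct AlgebraicGeometry CategoryTheory

namespace Groth.Agent.Lib.Helper24.AssOmega3

universe u

set_option backward.isDefEq.respectTransparency false in
/-- An open immersion `Spec T → Spec R` induces bijections on local rings. -/
theorem localRingHom_bijective_of_isOpenImmersion {R T : Type u} [CommRing R] [CommRing T]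
    [Algebra R T]
    (hopen : IsOpenImmersion (Spec.map (CommRingCat.ofHom (algebraMap R T))))
    (q : Ideal T) [hq : q.IsPrime] :
    Function.Bijective
      (Localization.localRingHom (q.comap (algebraMap R T)) q (algebraMap R T) rfl) := by
  haveI := hopen
  have hiso : IsIso ((Spec.map (CommRingCat.ofHom (algebraMap R T))).stalkMap
      (⟨q, hq⟩ : PrimeSpectrum T)) := inferInstance
  rw [← Scheme.localRingHom_comp_stalkIso] at hiso
  haveI := hiso
  have h2 := IsIso.of_isIso_comp_left (Spec.stalkIso (CommRingCat.of R)
      ((⟨q, hq⟩ : PrimeSpectrum T).comap (CommRingCat.ofHom (algebraMap R T)).hom)).hom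
      ((CommRingCat.ofHom <| Localization.localRingHom
        (PrimeSpectrum.comap (CommRingCat.ofHom (algebraMap R T)).hom (⟨q, hq⟩ : PrimeSpectrum T)).asIdeal
        q (CommRingCat.ofHom (algebraMap R T)).hom rfl) ≫
      (Spec.stalkIso (CommRingCat.of T) (⟨q, hq⟩ : PrimeSpectrum T)).inv)
  haveI := h2
  have h3 := IsIso.of_isIso_comp_right (CommRingCat.ofHom <| Localization.localRingHom
        (PrimeSpectrum.comap (CommRingCat.ofHom (algebraMap R T)).hom (⟨q, hq⟩ : PrimeSpectrum T)).asIdeal
        q (CommRingCat.ofHom (algebraMap R T)).hom rfl)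
      (Spec.stalkIso (CommRingCat.of T) (⟨q, hq⟩ : PrimeSpectrum T)).inv
  exact (ConcreteCategory.isIso_iff_bijective _).mp h3


/-- Associated primes of `T ⊗_R M` for an open immersion `Spec T → Spec R` of Noetherian rings. -/
theorem mem_ass_tensor_iff_of_isOpenImmersion {R T : Type u} [CommRing R] [CommRing T]
    [Algebra R T] [IsNoetherianRing R] [IsNoetherianRing T]
    (hopen : IsOpenImmersion (Spec.map (CommRingCat.ofHom (algebraMap R T))))
    (q : Ideal T) [hq : q.IsPrime] (M : Type u) [AddCommGroup M] [Module R M] :
    q ∈ associatedPrimes T (T ⊗[R] M) ↔ q.comap (algebraMap R T) ∈ associatedPrimes R M := by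
  letI : Algebra (Localization.AtPrime (q.comap (algebraMap R T))) (Localization.AtPrime q) :=
    (Localization.localRingHom (q.comap (algebraMap R T)) q (algebraMap R T) rfl).toAlgebra
  haveI : IsScalarTower R (Localization.AtPrime (q.comap (algebraMap R T)))
      (Localization.AtPrime q) := by
    refine IsScalarTower.of_algebraMap_eq (fun r => ?_)
    rw [IsScalarTower.algebraMap_apply R T (Localization.AtPrime q)]
    exact (Localization.localRingHom_to_map (q.comap (algebraMap R T)) q (algebraMap R T) rfl
      r).symm
  exact AssOmega2.mem_ass_tensor_iff q (Localization.AtPrime (q.comap (algebraMap R T)))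
    (Localization.AtPrime q) (localRingHom_bijective_of_isOpenImmersion hopen q) M

theorem main (A B' B : Type u) [CommRing A] [CommRing B'] [CommRing B] [IsNoetherianRing A]
    [IsNoetherianRing B] [Algebra A B'] [Algebra B' B] [Algebra A B] [IsScalarTower A B' B]
    (hf : QFDual.IsQFFactor A B' B) :
    associatedPrimes B (QFDual.omega A B' B) =
      {q : Ideal B | q.IsPrime ∧ q.comap (algebraMap A B) ∈ associatedPrimes A A} := by
  haveI := hf.finite
  haveI : IsNoetherianRing B' := IsNoetherianRing.of_finite A B'
  have hcomap : ∀ q : Ideal B, (q.comap (algebraMap B' B)).comap (algebraMap A B') =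
      q.comap (algebraMap A B) := by
    intro q
    rw [Ideal.comap_comap, ← IsScalarTower.algebraMap_eq]
  ext q
  constructor
  · intro hq
    haveI : q.IsPrime := hq.isPrime
    refine ⟨hq.isPrime, ?_⟩
    have h1 := (mem_ass_tensor_iff_of_isOpenImmersion hf.isOpenImmersion q
      (Disc.Omega A B')).mp hq
    rw [AssOmega1.main] at h1
    rw [← hcomap]
    exact h1.2
  · rintro ⟨hqp, hq⟩
    haveI := hqp
    refine (mem_ass_tensor_iff_of_isOpenImmersion hf.isOpenImmersion q (Disc.Omega A B')).mpr ?_
    rw [AssOmega1.main]
    refine ⟨Ideal.comap_isPrime _ _, ?_⟩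
    rw [hcomap]
    exact hq

end Groth.Agent.Lib.Helper24.AssOmega3
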