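import Groth.Agent.Lib.Helper24.RelAssBC2
import Groth.Agent.Lib.Helper17.FlatOver7

/-!
# Base change of the relative assassin (helper24), part 3: the fibres of a base change

For a cartesian square `P → X`, `P → Y`, `X → Z ← Y` and a point `y : Y`, the fibre of `P → Y` over
`y` is the base change of the fibre of `X → Z` over `g y` along `κ(g y) → κ(y)`:
* `fibMap h y : snd.fiber y ⟶ f.fiber (g y)`, flat, with `fibMap_fiberι`;
* `isAssPoint_fibre_baseChange_iff`: associated points of the restriction of `fst^* F` to the fibre
  over `y`.
-/

set_option autoImplicit false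
universe u

namespace Groth.Agent.Lib.Helper24.RelAssBC

open AlgebraicGeometry CategoryTheory CategoryTheory.Limits IsLocalRing TensorProduct

section square

variable {P X Y Z : Scheme.{u}} {fst : P ⟶ X} {snd : P ⟶ Y} {f : X ⟶ Z} {g : Y ⟶ Z}
  (h : IsPullback fst snd f g) (y : Y)

/-- the map from the fibre of the base change to the fibre. -/
noncomputable def fibMap : snd.fiber y ⟶ f.fiber (g y) :=
  pullback.map _ _ _ _ fst (Spec.map (g.residueFieldMap y)) g h.w.symm (by simp)

theorem isPullback_fibMap :
    IsPullback (fibMap h y) (snd.fiberToSpecResidueField y) (f.fiberToSpecResidueField (g y))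
      (Spec.map (g.residueFieldMap y)) :=
  isPullback_fiberToSpecResidueField_of_isPullback h y

@[reassoc]
theorem fibMap_fiberι : fibMap h y ≫ f.fiberι (g y) = snd.fiberι y ≫ fst := by
  exact pullback.lift_fst _ _ _

theorem fibMap_fiberι_apply (z' : snd.fiber y) :
    f.fiberι (g y) (fibMap h y z') = fst (snd.fiberι y z') := by
  have := congrArg (fun φ => φ.base z') (fibMap_fiberι h y)
  exact this

theorem flat_SpecMap_residueFieldMap : Flat (Spec.map (g.residueFieldMap y)) := by
  rw [Flat.SpecMap_iff]
  letI := (g.residueFieldMap y).hom.toAlgebra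
  change Module.Flat (Z.residueField (g y)) (Y.residueField y)
  infer_instance

instance flat_fibMap : Flat (fibMap h y) :=
  MorphismProperty.of_isPullback (isPullback_fibMap h y).flip (flat_SpecMap_residueFieldMap y)

/-- the restriction of `fst^* F` to the fibre over `y` is the pullback of the restriction of `F` to
the fibre over `g y`. -/
noncomputable def fibModIso (F : X.Modules) :
    (Scheme.Modules.pullback (snd.fiberι y)).obj ((Scheme.Modules.pullback fst).obj F) ≅
      (Scheme.Modules.pullback (fibMap h y)).obj
        ((Scheme.Modules.pullback (f.fiberι (g y))).obj F) :=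
  (Scheme.Modules.pullbackComp (snd.fiberι y) fst).app F ≪≫
    (Scheme.Modules.pullbackCongr (fibMap_fiberι h y).symm).app F ≪≫
      ((Scheme.Modules.pullbackComp (fibMap h y) (f.fiberι (g y))).app F).symm

open Groth.Agent.Lib.Helper24.AssFib in
/-- associated points of the restriction of `fst^* F` to the fibre over `y`. -/
theorem isAssPoint_fibre_baseChange_iff [LocallyOfFiniteType f] (F : X.Modules)
    [F.IsQuasicoherent] (z' : snd.fiber y) :
    Curv2.IsAssPoint
        ((Scheme.Modules.pullback (snd.fiberι y)).obj ((Scheme.Modules.pullback fst).obj F)) z' ↔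
      fst (snd.fiberι y z') ∈ MoreMor.relAss f F ∧
      IsAssociatedPrime (maximalIdeal ((snd.fiber y).presheaf.stalk z'))
        ((snd.fiber y).presheaf.stalk z' ⧸
          (maximalIdeal ((f.fiber (g y)).presheaf.stalk (fibMap h y z'))).map
            ((fibMap h y).stalkMap z').hom •
          (⊤ : Submodule ((snd.fiber y).presheaf.stalk z') ((snd.fiber y).presheaf.stalk z'))) := by
  haveI : IsLocallyNoetherian (f.fiber (g y)) := isLocallyNoetherian_fiber f (g y)
  haveI : ((Scheme.Modules.pullback (f.fiberι (g y))).obj F).IsQuasicoherent :=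
    Groth.Agent.Lib.helper16.QCohPullback.isQuasicoherent_pullback _ F
  have h1 : Curv2.IsAssPoint
      ((Scheme.Modules.pullback (snd.fiberι y)).obj ((Scheme.Modules.pullback fst).obj F)) z' ↔
      Curv2.IsAssPoint ((Scheme.Modules.pullback (fibMap h y)).obj
        ((Scheme.Modules.pullback (f.fiberι (g y))).obj F)) z' := by
    have e := LinearEquiv.AssociatedPrimes.eq
      (Groth.Agent.Lib.helper17.FlatOver7.stalkLinEquiv (fibModIso h y F) z')
    constructor
    · intro hh
      have : maximalIdeal _ ∈ associatedPrimes _ _ := hh
      rw [e] at this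
      exact this
    · intro hh
      have : maximalIdeal _ ∈ associatedPrimes _ _ := hh
      rw [← e] at this
      exact this
  rw [h1, isAssPoint_pullback_iff_of_flat (fibMap h y) _ z' (Flat.stalkMap (fibMap h y) z'),
    isAssPoint_fibre_iff, fibMap_fiberι_apply]

end square

end Groth.Agent.Lib.Helper24.RelAssBC
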