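import Groth.Agent.Lib.Helper24.TensFlat2
import Groth.Agent.Lib.Helper24.RelAssBC3
import Groth.Agent.Lib.Helper17.FlatOver6
import Groth.Agent.Lib.Helper16.PrimDec3
import Groth.Agent.Lib.Helper11.InvMod
import Groth.Agent.Lib.Lead.ModTensor
import Groth.Agent.Lib.Lead.RefHull5

/-!
# Associated points of `F ⊗_S G` for `G` flat over `S` (helper24), part 1

* `fst_mem_relAss_of_mem_relAss_baseChange`: points of the relative assassin of a base change map
  into the relative assassin (Noetherian stalks, no finiteness on the morphism).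
* `isAssPoint_iff_of_isFlatOver`: for `G` flat over `S` at `y`: `y ∈ Ass G ↔ g y ∈ Ass O_S ∧
  y ∈ relAss g G`.
* `snd_mem_ass_of_mem_ass_tensor` (S4670).
-/

set_option autoImplicit false
universe u

namespace Groth.Agent.Lib.Helper24.AssTens

open AlgebraicGeometry CategoryTheory CategoryTheory.Limits IsLocalRing TensorProduct
open Groth.Agent.Lib.Helper24.RelAssBC Groth.Agent.Lib.Helper24.TensFlat

section R2gen

variable {P X Y Z : Scheme.{u}} {fst : P ⟶ X} {snd : P ⟶ Y} {f : X ⟶ Z} {g : Y ⟶ Z}
  (h : IsPullback fst snd f g)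

include h in
theorem fst_mem_relAss_of_mem_relAss_baseChange [IsLocallyNoetherian X] (F : X.Modules)
    [F.IsQuasicoherent] (x' : P)
    (hx' : x' ∈ MoreMor.relAss snd ((Scheme.Modules.pullback fst).obj F)) :
    fst x' ∈ MoreMor.relAss f F := by
  haveI : ((Scheme.Modules.pullback fst).obj F).IsQuasicoherent :=
    Groth.Agent.Lib.helper16.QCohPullback.isQuasicoherent_pullback _ F
  haveI : ((Scheme.Modules.pullback (f.fiberι (g (snd x')))).obj F).IsQuasicoherent :=
    Groth.Agent.Lib.helper16.QCohPullback.isQuasicoherent_pullback _ F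
  set z' := snd.asFiber x' with hz'
  have e1 : snd.fiberι (snd x') z' = x' := snd.fiberι_asFiber x'
  have e2 : f.fiberι (g (snd x')) (fibMap h (snd x') z') = fst x' := by
    rw [fibMap_fiberι_apply, e1]
  have s1 : Curv2.IsAssPoint ((Scheme.Modules.pullback (snd.fiberι (snd x'))).obj
      ((Scheme.Modules.pullback fst).obj F)) z' :=
    (isAssPoint_asFiber_iff snd ((Scheme.Modules.pullback fst).obj F) x').mpr hx'
  have s2 : Curv2.IsAssPoint ((Scheme.Modules.pullback (fibMap h (snd x'))).obj
      ((Scheme.Modules.pullback (f.fiberι (g (snd x')))).obj F)) z' := by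
    have e := LinearEquiv.AssociatedPrimes.eq
      (Groth.Agent.Lib.helper17.FlatOver7.stalkLinEquiv (fibModIso h (snd x') F) z')
    have : maximalIdeal _ ∈ associatedPrimes _ _ := s1
    rw [e] at this
    exact this
  haveI : IsNoetherianRing ((f.fiber (g (snd x'))).presheaf.stalk (fibMap h (snd x') z')) :=
    isNoetherianRing_of_surjective _ _ _
      ((f.fiberι (g (snd x'))).stalkMap_surjective (fibMap h (snd x') z'))
  have s3 := ((isAssPoint_pullback_iff_of_flat (fibMap h (snd x'))
    ((Scheme.Modules.pullback (f.fiberι (g (snd x')))).obj F) z'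
    (Flat.stalkMap (fibMap h (snd x')) z')).mp s2).1
  have s4 := (isAssPoint_fibre_iff f F (g (snd x')) (fibMap h (snd x') z')).mp s3
  rw [e2] at s4
  exact s4

end R2gen

section base

variable {Y S : Scheme.{u}} [IsLocallyNoetherian Y] [IsLocallyNoetherian S] (g : Y ⟶ S)
  (G : Y.Modules) [G.IsQuasicoherent]

theorem isAssPoint_iff_of_isFlatOver (y : Y) (hfl : FlatMod.IsFlatOverAt g G y) :
    y ∈ AssSch.Ass G ↔ g y ∈ AssSch.Ass (Coh.structureModule S) ∧ y ∈ MoreMor.relAss g G := by
  haveI := Groth.Agent.Lib.Lead.RH.isQuasicoherent_structureModule' S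
  haveI := Groth.Agent.Lib.Lead.RH.isQuasicoherent_structureModule' Y
  haveI : ((Scheme.Modules.pullback g).obj (Coh.structureModule S)).IsQuasicoherent :=
    Groth.Agent.Lib.helper16.QCohPullback.isQuasicoherent_pullback _ _
  haveI : (CohB1.tensorMod ((Scheme.Modules.pullback g).obj (Coh.structureModule S))
      G).IsQuasicoherent := Groth.Agent.Lib.helper2.TensorQCoh.isQuasicoherent_tensorMod _ _
  have e : CohB1.tensorMod ((Scheme.Modules.pullback g).obj (Coh.structureModule S)) G ≅ G :=
    Groth.Agent.Lib.Lead.ModTensor.tensorIso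
      (Groth.Agent.Lib.helper11.InvMod.pullbackUnitIso g) (Iso.refl G) ≪≫
      Groth.Agent.Lib.Lead.ModTensor.leftUnitor G
  have h1 := Groth.Agent.Lib.helper16.PrimDec.ass_eq_of_iso e
  rw [← h1]
  exact isAssPoint_tensor_iff g (Coh.structureModule S) G y hfl

end base

end Groth.Agent.Lib.Helper24.AssTens
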