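import Groth.Agent.Lib.Helper24.RelAssBC3
import Groth.Agent.Lib.Helper24.QGorSk3
import Groth.Agent.Lib.Helper16.LenSemi3
import Groth.Agent.Lib.Helper16.NoEmbBC6
import Groth.Agent.Lib.Helper16.SpFun7

/-!
# Base change of the relative assassin (helper24), part 4: the fibre condition

* `isAssociatedPrime_fibRing_iff`: for any morphism `π : Z' ⟶ Z` and a point `t` of the fibre
  `π.fiber z` with image `z'` in `Z'`: `𝔪_{z'} ∈ Ass (O_{z'} / 𝔪_{π z'} O_{z'})` iff `t` is an associated point
  of the structure sheaf of the fibre.
* `isAssPoint_structureModule_iff_maximal`: on a locally Noetherian scheme without embedded points,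
  the associated points of the structure sheaf are the maximal points.
-/

set_option autoImplicit false
universe u

namespace Groth.Agent.Lib.Helper24.RelAssBC

open AlgebraicGeometry CategoryTheory CategoryTheory.Limits IsLocalRing TensorProduct

section fibre

open Groth.Agent.Lib.helper17.FibreStalk

variable {Z' Z : Scheme.{u}} (π : Z' ⟶ Z)

theorem isAssociatedPrime_fibRing_iff (z : Z) (t : π.fiber z) :
    IsAssociatedPrime (maximalIdeal (Z'.presheaf.stalk (π.fiberι z t)))
        (Z'.presheaf.stalk (π.fiberι z t) ⧸
          (maximalIdeal (Z.presheaf.stalk (π (π.fiberι z t)))).map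
            (π.stalkMap (π.fiberι z t)).hom •
          (⊤ : Submodule (Z'.presheaf.stalk (π.fiberι z t)) (Z'.presheaf.stalk (π.fiberι z t)))) ↔
      Curv2.IsAssPoint (Coh.structureModule (π.fiber z)) t := by
  letI alg : Algebra (Z'.presheaf.stalk (π.fiberι z t)) ((π.fiber z).presheaf.stalk t) :=
    ((π.fiberι z).stalkMap t).hom.toAlgebra
  have hsurj : Function.Surjective
      (algebraMap (Z'.presheaf.stalk (π.fiberι z t)) ((π.fiber z).presheaf.stalk t)) :=
    (π.fiberι z).stalkMap_surjective t
  have hker : RingHom.ker
      (algebraMap (Z'.presheaf.stalk (π.fiberι z t)) ((π.fiber z).presheaf.stalk t)) =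
      (maximalIdeal (Z.presheaf.stalk (π (π.fiberι z t)))).map
        (π.stalkMap (π.fiberι z t)).hom := ker_fiberι_stalkMap π z t
  have h := isAssociatedPrime_iff_of_isBaseChange
    (Algebra.linearMap (Z'.presheaf.stalk (π.fiberι z t)) ((π.fiber z).presheaf.stalk t))
    (IsBaseChange.linearMap _ _) hsurj
  rw [hker] at h
  rw [← h]
  obtain ⟨e⟩ := Groth.Agent.Lib.Helper24.QGorSk.nonempty_stalk_structureModule_equiv (X := π.fiber z) t
  have he := LinearEquiv.AssociatedPrimes.eq e
  constructor
  · intro hh
    have : maximalIdeal _ ∈ associatedPrimes _ _ := hh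
    rw [← he] at this
    exact this
  · intro hh
    have : maximalIdeal _ ∈ associatedPrimes _ _ := hh
    rw [he] at this
    exact this

end fibre

section maximal

open Groth.Agent.Lib.helper16.LenSemi

/-- on a locally Noetherian scheme whose structure sheaf has no embedded points, the associated points
of the structure sheaf are exactly the maximal points. -/
theorem isAssPoint_structureModule_iff_maximal {T : Scheme.{u}} [IsLocallyNoetherian T]
    (hne : AssSch.NoEmbedded (Coh.structureModule T)) (t : T) :
    Curv2.IsAssPoint (Coh.structureModule T) t ↔ ∀ w : T, w ⤳ t → w = t := by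
  have hcoh : Coh.IsCoh (Coh.structureModule T) :=
    Groth.Agent.Lib.helper16.SpFun.isCoh_structureModule T
  have hnt : ∀ w : T, Nontrivial ((Coh.structureModule T).presheaf.stalk w) := by
    intro w
    obtain ⟨e⟩ := Groth.Agent.Lib.Helper24.QGorSk.nonempty_stalk_structureModule_equiv (X := T) w
    exact e.toEquiv.nontrivial
  constructor
  · intro h w hw
    exact maximal_of_isAssPoint_of_noEmbedded _ hcoh hne h w (hnt w) hw
  · intro h
    exact isAssPoint_of_maximal _ hcoh (hnt t) (fun w _ hw => h w hw)

end maximal

end Groth.Agent.Lib.Helper24.RelAssBC
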