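import Groth.Agent.Lib.Helper24.RelAssBC1

/-!
# The relative assassin and open immersions (helper24)

* `isAssociatedPrime_quot_iff_of_bijective` (ring level): for a bijective `A → R` and a base change
  `ψ : N → T`: `𝔪_R ∈ Ass_R (T / (I R) T) ↔ 𝔪_A ∈ Ass_A (N / I N)`.
* `mem_relAss_comp_openImmersion_iff` (**R1**): for an open immersion `j : W ⟶ X`,
  `w ∈ relAss (j ≫ f) (j^*F) ↔ j w ∈ relAss f F`.
* `relAss_comp_openImmersion_target` (**R3**): for an open immersion `k : S ⟶ S'`,
  `relAss (g ≫ k) G = relAss g G`.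
-/

set_option autoImplicit false
universe u

namespace Groth.Agent.Lib.Helper24.RelAssBC

open AlgebraicGeometry CategoryTheory IsLocalRing TensorProduct

section alg

variable {A R : Type u} [CommRing A] [CommRing R] [Algebra A R]
  {N T : Type u} [AddCommGroup N] [Module A N] [AddCommGroup T] [Module A T] [Module R T]
  [IsScalarTower A R T]

/-- a base change along a bijective ring map is bijective. -/
theorem bijective_of_isBaseChange_of_bijective (ψ : N →ₗ[A] T) (hψ : IsBaseChange R ψ)
    (hbij : Function.Bijective (algebraMap A R)) : Function.Bijective ψ := by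
  let e0 : A ≃ₗ[A] R := LinearEquiv.ofBijective (Algebra.linearMap A R) hbij
  let e : N ≃ₗ[A] T := (TensorProduct.lid A N).symm ≪≫ₗ
    (TensorProduct.congr e0 (LinearEquiv.refl A N)) ≪≫ₗ (hψ.equiv.restrictScalars A)
  have he : ∀ n, e n = ψ n := by
    intro n
    simp only [e, e0, LinearEquiv.trans_apply, TensorProduct.lid_symm_apply,
      TensorProduct.congr_tmul, LinearEquiv.refl_apply, LinearEquiv.ofBijective_apply,
      Algebra.linearMap_apply, map_one, LinearEquiv.restrictScalars_apply]
    rw [hψ.equiv_tmul, one_smul]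
  have : ⇑ψ = ⇑e := funext fun n => (he n).symm
  rw [this]
  exact e.bijective

theorem isAssociatedPrime_quot_iff_of_bijective [IsLocalRing A] [IsLocalRing R]
    (ψ : N →ₗ[A] T) (hψ : IsBaseChange R ψ)
    (hbij : Function.Bijective (algebraMap A R)) (I : Ideal A) :
    IsAssociatedPrime (maximalIdeal R)
        (T ⧸ (I.map (algebraMap A R)) • (⊤ : Submodule R T)) ↔
      IsAssociatedPrime (maximalIdeal A) (N ⧸ I • (⊤ : Submodule A N)) := by
  have hψb := bijective_of_isBaseChange_of_bijective ψ hψ hbij
  rw [← Groth.Agent.Lib.Helper24.FibKL.isAssociatedPrime_maximalIdeal_iff_of_surjective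
    (T ⧸ (I.map (algebraMap A R)) • (⊤ : Submodule R T)) hbij.2]
  let g : N →ₗ[A] (T ⧸ (I.map (algebraMap A R)) • (⊤ : Submodule R T)) :=
    (((I.map (algebraMap A R)) • (⊤ : Submodule R T)).mkQ.restrictScalars A) ∘ₗ ψ
  have hg : Function.Surjective g := by
    intro t
    obtain ⟨t, rfl⟩ := Submodule.Quotient.mk_surjective _ t
    obtain ⟨n, rfl⟩ := hψb.2 t
    exact ⟨n, rfl⟩
  have hmem : ∀ n : N, ψ n ∈ (I.map (algebraMap A R)) • (⊤ : Submodule R T) ↔
      n ∈ I • (⊤ : Submodule A N) := by
    intro n
    constructor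
    · intro h
      have key : ∀ t ∈ (I.map (algebraMap A R)) • (⊤ : Submodule R T),
          ∃ n' ∈ I • (⊤ : Submodule A N), ψ n' = t := by
        intro t ht
        refine Submodule.smul_induction_on ht ?_ ?_
        · intro r hr t' _
          obtain ⟨a, ha, rfl⟩ := (Ideal.mem_map_iff_of_surjective _ hbij.2).mp hr
          obtain ⟨n', rfl⟩ := hψb.2 t'
          refine ⟨a • n', Submodule.smul_mem_smul ha trivial, ?_⟩
          rw [map_smul, algebraMap_smul]
        · rintro _ _ ⟨n1, hn1, rfl⟩ ⟨n2, hn2, rfl⟩
          exact ⟨n1 + n2, add_mem hn1 hn2, map_add _ _ _⟩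
      obtain ⟨n', hn', hnn⟩ := key _ h
      rwa [← hψb.1 hnn]
    · intro h
      refine Submodule.smul_induction_on h ?_ ?_
      · intro a ha n' _
        rw [map_smul, ← algebraMap_smul R a (ψ n')]
        exact Submodule.smul_mem_smul (Ideal.mem_map_of_mem _ ha) trivial
      · intro n1 n2 h1 h2
        rw [map_add]
        exact add_mem h1 h2
  have hker : LinearMap.ker g = I • (⊤ : Submodule A N) := by
    ext n
    rw [LinearMap.mem_ker, ← hmem]
    change Submodule.Quotient.mk (ψ n) = 0 ↔ _
    rw [Submodule.Quotient.mk_eq_zero]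
  have h := LinearEquiv.AssociatedPrimes.eq (g.quotKerEquivOfSurjective hg)
  rw [hker] at h
  constructor
  · intro h1
    have : maximalIdeal A ∈ associatedPrimes A _ := h1
    rw [← h] at this
    exact this
  · intro h1
    have : maximalIdeal A ∈ associatedPrimes A _ := h1
    rw [h] at this
    exact this

end alg

section sch

open Groth.Agent.Lib.helper17.StalkPullback

/-- **(R1)**: the relative assassin is compatible with restriction to an open subscheme of the
source. -/
theorem mem_relAss_comp_openImmersion_iff {W X S : Scheme.{u}} (j : W ⟶ X) [IsOpenImmersion j]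
    (f : X ⟶ S) (F : X.Modules) [F.IsQuasicoherent] (w : W) :
    w ∈ MoreMor.relAss (j ≫ f) ((Scheme.Modules.pullback j).obj F) ↔
      j w ∈ MoreMor.relAss f F := by
  letI alg : Algebra (X.presheaf.stalk (j w)) (W.presheaf.stalk w) :=
    (j.stalkMap w).hom.toAlgebra
  letI m1 := FlatMod.moduleStalkOver j ((Scheme.Modules.pullback j).obj F) w
  haveI := isScalarTower_moduleStalkOver j ((Scheme.Modules.pullback j).obj F) w
  obtain ⟨ψ, hψ⟩ := exists_isBaseChange_stalk_pullback j F w
  have hbij : Function.Bijective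
      (algebraMap (X.presheaf.stalk (j w)) (W.presheaf.stalk w)) := by
    haveI : IsIso (j.stalkMap w) := inferInstance
    exact ConcreteCategory.bijective_of_isIso (j.stalkMap w)
  have h := isAssociatedPrime_quot_iff_of_bijective ψ hψ hbij
    ((maximalIdeal (S.presheaf.stalk (f (j w)))).map (f.stalkMap (j w)).hom)
  rw [Ideal.map_map] at h
  have hcomp : (algebraMap (X.presheaf.stalk (j w)) (W.presheaf.stalk w)).comp
      (f.stalkMap (j w)).hom = ((j ≫ f).stalkMap w).hom := by
    rw [Scheme.Hom.stalkMap_comp]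
    rfl
  rw [hcomp] at h
  exact h

/-- **(R3)**: the relative assassin does not change when the target is enlarged by an open
immersion. -/
theorem relAss_comp_openImmersion_target {X S S' : Scheme.{u}} (g : X ⟶ S) (k : S ⟶ S')
    [IsOpenImmersion k] (G : X.Modules) :
    MoreMor.relAss (g ≫ k) G = MoreMor.relAss g G := by
  ext x
  have hbij : Function.Bijective (k.stalkMap (g x)).hom := by
    haveI : IsIso (k.stalkMap (g x)) := inferInstance
    exact ConcreteCategory.bijective_of_isIso (k.stalkMap (g x))
  have hmax : (maximalIdeal (S'.presheaf.stalk (k (g x)))).map (k.stalkMap (g x)).hom =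
      maximalIdeal (S.presheaf.stalk (g x)) := by
    have hloc : IsLocalHom (k.stalkMap (g x)).hom := inferInstance
    have h1 : (maximalIdeal (S.presheaf.stalk (g x))).comap (k.stalkMap (g x)).hom =
        maximalIdeal (S'.presheaf.stalk (k (g x))) :=
      ((IsLocalRing.local_hom_TFAE (k.stalkMap (g x)).hom).out 0 4).mp hloc
    rw [← h1, Ideal.map_comap_of_surjective _ hbij.2]
  have hideal : (maximalIdeal (S'.presheaf.stalk ((g ≫ k) x))).map ((g ≫ k).stalkMap x).hom =
      (maximalIdeal (S.presheaf.stalk (g x))).map (g.stalkMap x).hom := by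
    rw [← hmax, Ideal.map_map]
    congr 1
    rw [Scheme.Hom.stalkMap_comp]
    rfl
  change IsAssociatedPrime _ (_ ⧸ (Ideal.map ((g ≫ k).stalkMap x).hom
    (maximalIdeal (S'.presheaf.stalk ((g ≫ k) x)))) • ⊤) ↔
    IsAssociatedPrime _ (_ ⧸ (Ideal.map (g.stalkMap x).hom
    (maximalIdeal (S.presheaf.stalk (g x)))) • ⊤)
  rw [hideal]

end sch

end Groth.Agent.Lib.Helper24.RelAssBC
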