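import Groth.Agent.Lib.Helper24.AssTens1
import Groth.Agent.Lib.Helper24.RelAssBC4
import Groth.Agent.Lib.Helper24.RelAssOpen1

/-!
# Associated points of `F ⊗_S G` for `G` flat over `S` (helper24), part 2

* `isAssociatedPrime_maximalIdeal_of_ringEquiv`
* `mem_relAss_structureModule_iff`
* `mem_relAss_comp_iff_of_surjective` (**R4**)
* `mem_relAss_baseChange_fibre_iff` (**R2gen**, iff-version)
-/

set_option autoImplicit false
universe u

namespace Groth.Agent.Lib.Helper24.AssTens

open AlgebraicGeometry CategoryTheory CategoryTheory.Limits IsLocalRing TensorProduct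
open Groth.Agent.Lib.Helper24.RelAssBC Groth.Agent.Lib.Helper24.TensFlat

section alg

theorem isAssociatedPrime_maximalIdeal_of_ringEquiv {R R' : Type*} [CommRing R] [CommRing R']
    [IsLocalRing R] [IsLocalRing R'] (φ : R ≃+* R')
    (h : IsAssociatedPrime (maximalIdeal R) R) : IsAssociatedPrime (maximalIdeal R') R' := by
  obtain ⟨_, x, hx⟩ := h
  refine ⟨inferInstance, φ x, ?_⟩
  ext a'
  have key : ∀ a : R, a ∈ maximalIdeal R ↔ ∃ n : ℕ, a ^ n • x = 0 := by
    intro a
    rw [hx, Ideal.mem_radical_iff]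
    simp only [Submodule.mem_colon_singleton, Submodule.mem_bot]
  rw [Ideal.mem_radical_iff]
  simp only [Submodule.mem_colon_singleton, Submodule.mem_bot]
  have hmem : a' ∈ maximalIdeal R' ↔ φ.symm a' ∈ maximalIdeal R := by
    rw [mem_maximalIdeal, mem_maximalIdeal, mem_nonunits_iff, mem_nonunits_iff]
    exact not_congr (by simp)
  rw [hmem, key]
  constructor
  · rintro ⟨n, hn⟩
    refine ⟨n, ?_⟩
    have := congrArg φ hn
    simpa using this
  · rintro ⟨n, hn⟩
    refine ⟨n, ?_⟩
    apply φ.injective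
    simpa using hn

end alg

section bridge

theorem isAssPoint_structureModule_iff {T : Scheme.{u}} (t : T) :
    Curv2.IsAssPoint (Coh.structureModule T) t ↔
      IsAssociatedPrime (maximalIdeal (T.presheaf.stalk t)) (T.presheaf.stalk t) := by
  obtain ⟨e⟩ := Groth.Agent.Lib.Helper24.QGorSk.nonempty_stalk_structureModule_equiv (X := T) t
  exact e.isAssociatedPrime_iff

theorem isAssPoint_structureModule_iff_of_isIso {T T' : Scheme.{u}} (e : T ⟶ T') [IsIso e]
    (t : T) :
    Curv2.IsAssPoint (Coh.structureModule T) t ↔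
      Curv2.IsAssPoint (Coh.structureModule T') (e t) := by
  rw [isAssPoint_structureModule_iff, isAssPoint_structureModule_iff]
  haveI : IsIso (e.stalkMap t) := inferInstance
  let φ : T'.presheaf.stalk (e t) ≃+* T.presheaf.stalk t :=
    (asIso (e.stalkMap t)).commRingCatIsoToRingEquiv
  exact ⟨isAssociatedPrime_maximalIdeal_of_ringEquiv φ.symm,
    isAssociatedPrime_maximalIdeal_of_ringEquiv φ⟩

theorem mem_relAss_structureModule_iff {Z' Z : Scheme.{u}} (π : Z' ⟶ Z) (x : Z') :
    x ∈ MoreMor.relAss π (Coh.structureModule Z') ↔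
      IsAssociatedPrime (maximalIdeal (Z'.presheaf.stalk x))
        (Z'.presheaf.stalk x ⧸ (maximalIdeal (Z.presheaf.stalk (π x))).map (π.stalkMap x).hom •
          (⊤ : Submodule (Z'.presheaf.stalk x) (Z'.presheaf.stalk x))) := by
  obtain ⟨e⟩ := Groth.Agent.Lib.Helper24.QGorSk.nonempty_stalk_structureModule_equiv (X := Z') x
  have hmap : (((maximalIdeal (Z.presheaf.stalk (π x))).map (π.stalkMap x).hom •
      (⊤ : Submodule (Z'.presheaf.stalk x) ((Coh.structureModule Z').presheaf.stalk x)))).map
      (e : _ →ₗ[Z'.presheaf.stalk x] _) =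
      (maximalIdeal (Z.presheaf.stalk (π x))).map (π.stalkMap x).hom •
      (⊤ : Submodule (Z'.presheaf.stalk x) (Z'.presheaf.stalk x)) := by
    rw [Submodule.map_smul'', Submodule.map_top, LinearEquiv.range]
  exact (Submodule.Quotient.equiv _ _ e hmap).isAssociatedPrime_iff

end bridge

section R4

/-- **(R4)**: the relative assassin does not change when the target is enlarged by a morphism which
is surjective on the stalk. -/
theorem mem_relAss_comp_iff_of_surjective {X S S' : Scheme.{u}} (g : X ⟶ S) (k : S ⟶ S')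
    (G : X.Modules) (x : X) (hk : Function.Surjective (k.stalkMap (g x)).hom) :
    x ∈ MoreMor.relAss (g ≫ k) G ↔ x ∈ MoreMor.relAss g G := by
  have hmax : (maximalIdeal (S'.presheaf.stalk (k (g x)))).map (k.stalkMap (g x)).hom =
      maximalIdeal (S.presheaf.stalk (g x)) := by
    have hloc : IsLocalHom (k.stalkMap (g x)).hom := inferInstance
    have h1 : (maximalIdeal (S.presheaf.stalk (g x))).comap (k.stalkMap (g x)).hom =
        maximalIdeal (S'.presheaf.stalk (k (g x))) :=
      ((IsLocalRing.local_hom_TFAE (k.stalkMap (g x)).hom).out 0 4).mp hloc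
    rw [← h1, Ideal.map_comap_of_surjective _ hk]
  have hideal : (maximalIdeal (S'.presheaf.stalk ((g ≫ k) x))).map ((g ≫ k).stalkMap x).hom =
      (maximalIdeal (S.presheaf.stalk (g x))).map (g.stalkMap x).hom := by
    rw [← hmax, Ideal.map_map]
    congr 1
    rw [Scheme.Hom.stalkMap_comp]
    rfl
  change IsAssociatedPrime _ (_ ⧸ (Ideal.map ((g ≫ k).stalkMap x).hom
    (maximalIdeal (S'.presheaf.stalk ((g ≫ k) x)))) • ⊤) ↔
    IsAssociatedPrime _ (_ ⧸ (Ideal.map (g.stalkMap x).hom
    (maximalIdeal (S.presheaf.stalk (g x)))) • ⊤)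
  rw [hideal]

end R4

section R2gen

variable {P X Y Z : Scheme.{u}} {fst : P ⟶ X} {snd : P ⟶ Y} {f : X ⟶ Z} {g : Y ⟶ Z}
  (h : IsPullback fst snd f g)

include h in
/-- **(R2gen)**: base change of the relative assassin, in terms of a point of a fibre of `snd`. -/
theorem mem_relAss_baseChange_fibre_iff [IsLocallyNoetherian X] (F : X.Modules)
    [F.IsQuasicoherent] (y : Y) (z' : snd.fiber y) :
    snd.fiberι y z' ∈ MoreMor.relAss snd ((Scheme.Modules.pullback fst).obj F) ↔
      fst (snd.fiberι y z') ∈ MoreMor.relAss f F ∧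
      z' ∈ MoreMor.relAss (snd.fiberι y ≫ fst) (Coh.structureModule (snd.fiber y)) := by
  haveI : ((Scheme.Modules.pullback fst).obj F).IsQuasicoherent :=
    Groth.Agent.Lib.helper16.QCohPullback.isQuasicoherent_pullback _ F
  haveI : ((Scheme.Modules.pullback (f.fiberι (g y))).obj F).IsQuasicoherent :=
    Groth.Agent.Lib.helper16.QCohPullback.isQuasicoherent_pullback _ F
  have e2 : f.fiberι (g y) (fibMap h y z') = fst (snd.fiberι y z') := by
    rw [fibMap_fiberι_apply]
  have s1 : Curv2.IsAssPoint ((Scheme.Modules.pullback (snd.fiberι y)).obj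
      ((Scheme.Modules.pullback fst).obj F)) z' ↔
      snd.fiberι y z' ∈ MoreMor.relAss snd ((Scheme.Modules.pullback fst).obj F) :=
    isAssPoint_fibre_iff snd ((Scheme.Modules.pullback fst).obj F) y z'
  have s2 : Curv2.IsAssPoint ((Scheme.Modules.pullback (fibMap h y)).obj
      ((Scheme.Modules.pullback (f.fiberι (g y))).obj F)) z' ↔
      Curv2.IsAssPoint ((Scheme.Modules.pullback (snd.fiberι y)).obj
      ((Scheme.Modules.pullback fst).obj F)) z' :=
    (Groth.Agent.Lib.helper17.FlatOver7.stalkLinEquiv (fibModIso h y F) z').isAssociatedPrime_iff.symm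
  haveI : IsNoetherianRing ((f.fiber (g y)).presheaf.stalk (fibMap h y z')) :=
    isNoetherianRing_of_surjective _ _ _
      ((f.fiberι (g y)).stalkMap_surjective (fibMap h y z'))
  have s3 := isAssPoint_pullback_iff_of_flat (fibMap h y)
    ((Scheme.Modules.pullback (f.fiberι (g y))).obj F) z'
    (Flat.stalkMap (fibMap h y) z')
  have s4 := isAssPoint_fibre_iff f F (g y) (fibMap h y z')
  rw [e2] at s4
  have s5 := mem_relAss_structureModule_iff (fibMap h y) z'
  have s6 := mem_relAss_comp_iff_of_surjective (fibMap h y) (f.fiberι (g y))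
    (Coh.structureModule (snd.fiber y)) z'
    ((f.fiberι (g y)).stalkMap_surjective (fibMap h y z'))
  rw [fibMap_fiberι] at s6
  rw [← s1, ← s2, s3, s4, ← s5, s6]

end R2gen

end Groth.Agent.Lib.Helper24.AssTens
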