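import Groth.Agent.Lib.Helper24.AssTens2

/-!
# Associated points of `F ⊗_S G` for `G` flat over `S` (helper24), part 3

The scheme `T(x, y) = Spec κ(x) ×_S Spec κ(y)` as a fibre of a fibre.
-/

set_option autoImplicit false
universe u

namespace Groth.Agent.Lib.Helper24.AssTens

open AlgebraicGeometry CategoryTheory CategoryTheory.Limits IsLocalRing TensorProduct
open Groth.Agent.Lib.Helper24.RelAssBC Groth.Agent.Lib.Helper24.TensFlat

section geom

variable {X Y S : Scheme.{u}} (f : X ⟶ S) (g : Y ⟶ S) (x : X) (y : Y)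

/-- `T(x, y) = Spec κ(x) ×_S Spec κ(y)` -/
noncomputable abbrev Txy : Scheme.{u} :=
  pullback (X.fromSpecResidueField x ≫ f) (Y.fromSpecResidueField y ≫ g)

/-- the canonical monomorphism `T(x, y) ⟶ X ×_S Y` -/
noncomputable abbrev jxy : Txy f g x y ⟶ pullback f g :=
  pullback.map (X.fromSpecResidueField x ≫ f) (Y.fromSpecResidueField y ≫ g) f g
    (X.fromSpecResidueField x) (Y.fromSpecResidueField y) (𝟙 S) (Category.comp_id _)
    (Category.comp_id _)

theorem jxy_fst : jxy f g x y ≫ pullback.fst f g =
    pullback.fst _ _ ≫ X.fromSpecResidueField x :=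
  pullback.lift_fst _ _ _

theorem jxy_snd : jxy f g x y ≫ pullback.snd f g =
    pullback.snd _ _ ≫ Y.fromSpecResidueField y :=
  pullback.lift_snd _ _ _

/-- the morphism from `T(x, y)` to the fibre of `X ×_S Y ⟶ X` over `x`. -/
noncomputable def uxy : Txy f g x y ⟶ (pullback.fst f g).fiber x :=
  pullback.lift (jxy f g x y) (pullback.fst _ _) (jxy_fst f g x y)

@[reassoc (attr := simp)]
theorem uxy_fiberι : uxy f g x y ≫ (pullback.fst f g).fiberι x = jxy f g x y :=
  pullback.lift_fst _ _ _

@[reassoc (attr := simp)]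
theorem uxy_toSpec : uxy f g x y ≫ (pullback.fst f g).fiberToSpecResidueField x =
    pullback.fst _ _ :=
  pullback.lift_snd _ _ _

theorem isPullback_uxy :
    IsPullback (uxy f g x y) (pullback.snd _ _)
      ((pullback.fst f g).fiberι x ≫ pullback.snd f g) (Y.fromSpecResidueField y) := by
  have right : IsPullback ((pullback.fst f g).fiberToSpecResidueField x)
      ((pullback.fst f g).fiberι x ≫ pullback.snd f g) (X.fromSpecResidueField x ≫ f) g :=
    (IsPullback.of_hasPullback (pullback.fst f g) (X.fromSpecResidueField x)).flip.paste_vert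
      (IsPullback.of_hasPullback f g)
  refine IsPullback.of_right ?_ ?_ right
  · rw [uxy_toSpec]
    exact IsPullback.of_hasPullback _ _
  · rw [uxy_fiberι_assoc]
    exact jxy_snd f g x y

theorem uxy_apply_fiberι (t : Txy f g x y) :
    (pullback.fst f g).fiberι x (uxy f g x y t) = jxy f g x y t := by
  rw [← Scheme.Hom.comp_apply, uxy_fiberι]

theorem fst_jxy_apply (t : Txy f g x y) : pullback.fst f g (jxy f g x y t) = x := by
  have h : jxy f g x y t ∈ Set.range ((pullback.fst f g).fiberι x) :=
    ⟨uxy f g x y t, uxy_apply_fiberι f g x y t⟩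
  rw [Scheme.Hom.range_fiberι] at h
  exact h

theorem snd_jxy_apply (t : Txy f g x y) : pullback.snd f g (jxy f g x y t) = y := by
  have h1 : jxy f g x y ≫ pullback.snd f g = pullback.snd _ _ ≫ Y.fromSpecResidueField y :=
    jxy_snd f g x y
  have h2 : pullback.snd f g (jxy f g x y t) ∈ Set.range (Y.fromSpecResidueField y) := by
    rw [← Scheme.Hom.comp_apply, h1, Scheme.Hom.comp_apply]
    exact ⟨_, rfl⟩
  rw [Scheme.range_fromSpecResidueField] at h2
  exact h2

/-- **Lemma A** -/
theorem isAssPoint_Txy_iff (t : Txy f g x y) :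
    Curv2.IsAssPoint (Coh.structureModule (Txy f g x y)) t ↔
      uxy f g x y t ∈ MoreMor.relAss ((pullback.fst f g).fiberι x ≫ pullback.snd f g)
        (Coh.structureModule ((pullback.fst f g).fiber x)) := by
  set qx := (pullback.fst f g).fiberι x ≫ pullback.snd f g with hqx
  let e : Txy f g x y ≅ qx.fiber y := (isPullback_uxy f g x y).isoPullback
  have he : e.hom ≫ qx.fiberι y = uxy f g x y := (isPullback_uxy f g x y).isoPullback_hom_fst
  have he' : qx.fiberι y (e.hom t) = uxy f g x y t := by
    rw [← Scheme.Hom.comp_apply, he]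
  rw [isAssPoint_structureModule_iff_of_isIso e.hom t,
    ← isAssociatedPrime_fibRing_iff qx y (e.hom t), ← mem_relAss_structureModule_iff, he']

end geom

end Groth.Agent.Lib.Helper24.AssTens
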