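import Groth.Agent.Lib.Helper24.AssTens3

/-!
# Associated points of `F ⊗_S G` for `G` flat over `S` (helper24), part 4

* `mem_ass_tensorS_iff`: `z ∈ Ass (F ⊗_S G)` iff `p z ∈ Ass F`, `q z ∈ relAss g G` and `z` is the
  image of an associated point of `T(p z, q z)`.
-/

set_option autoImplicit false
universe u

namespace Groth.Agent.Lib.Helper24.AssTens

open AlgebraicGeometry CategoryTheory CategoryTheory.Limits IsLocalRing TensorProduct
open Groth.Agent.Lib.Helper24.RelAssBC Groth.Agent.Lib.Helper24.TensFlat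

section master

variable {X Y S : Scheme.{u}} (f : X ⟶ S) (g : Y ⟶ S) [IsLocallyNoetherian X]
  [IsLocallyNoetherian Y] (F : X.Modules) [F.IsQuasicoherent] (G : Y.Modules) [G.IsQuasicoherent]

/-- `F ⊗_S G` -/
noncomputable abbrev tensS : (pullback f g).Modules :=
  CohB1.tensorMod ((Scheme.Modules.pullback (pullback.fst f g)).obj F)
    ((Scheme.Modules.pullback (pullback.snd f g)).obj G)

/-- characterization in terms of a point of the fibre of `X ×_S Y ⟶ X`. -/
theorem fiberι_mem_ass_tensS_iff (hGfl : FlatMod.IsFlatOver g G) (x : X)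
    (z' : (pullback.fst f g).fiber x) :
    (pullback.fst f g).fiberι x z' ∈ AssSch.Ass (tensS f g F G) ↔
      x ∈ AssSch.Ass F ∧
      pullback.snd f g ((pullback.fst f g).fiberι x z') ∈ MoreMor.relAss g G ∧
      z' ∈ MoreMor.relAss ((pullback.fst f g).fiberι x ≫ pullback.snd f g)
        (Coh.structureModule ((pullback.fst f g).fiber x)) := by
  have hc : IsPullback (pullback.fst f g) (pullback.snd f g) f g := IsPullback.of_hasPullback f g
  haveI : ((Scheme.Modules.pullback (pullback.snd f g)).obj G).IsQuasicoherent :=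
    Groth.Agent.Lib.helper16.QCohPullback.isQuasicoherent_pullback _ G
  set z := (pullback.fst f g).fiberι x z' with hz
  have hpz : pullback.fst f g z = x := by
    have h : z ∈ Set.range ((pullback.fst f g).fiberι x) := ⟨z', rfl⟩
    rw [Scheme.Hom.range_fiberι] at h
    exact h
  have hfl : FlatMod.IsFlatOverAt (pullback.fst f g)
      ((Scheme.Modules.pullback (pullback.snd f g)).obj G) z :=
    (Groth.Agent.Lib.helper17.FlatOver6.isFlatOverAt_baseChange_both hc.flip G z).1 (hGfl _)
  have h1 := isAssPoint_tensor_iff (pullback.fst f g) F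
    ((Scheme.Modules.pullback (pullback.snd f g)).obj G) z hfl
  have h2 := mem_relAss_baseChange_fibre_iff hc.flip G x z'
  rw [hpz] at h1
  change Curv2.IsAssPoint _ z ↔ _
  rw [h1, h2]
  rfl

/-- (⊇) -/
theorem jxy_mem_ass_tensS (hGfl : FlatMod.IsFlatOver g G) (x : X) (y : Y)
    (hx : x ∈ AssSch.Ass F) (hy : y ∈ MoreMor.relAss g G) (t : Txy f g x y)
    (ht : t ∈ AssSch.Ass (Coh.structureModule (Txy f g x y))) :
    jxy f g x y t ∈ AssSch.Ass (tensS f g F G) := by
  rw [← uxy_apply_fiberι]
  rw [fiberι_mem_ass_tensS_iff f g F G hGfl x (uxy f g x y t)]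
  refine ⟨hx, ?_, (isAssPoint_Txy_iff f g x y t).mp ht⟩
  rw [uxy_apply_fiberι, snd_jxy_apply]
  exact hy

/-- (⊆) -/
theorem exists_of_mem_ass_tensS (hGfl : FlatMod.IsFlatOver g G) (z : ↥(pullback f g))
    (hz : z ∈ AssSch.Ass (tensS f g F G)) :
    pullback.fst f g z ∈ AssSch.Ass F ∧ pullback.snd f g z ∈ MoreMor.relAss g G ∧
      ∃ t : Txy f g (pullback.fst f g z) (pullback.snd f g z),
        t ∈ AssSch.Ass (Coh.structureModule (Txy f g (pullback.fst f g z) (pullback.snd f g z))) ∧
        jxy f g (pullback.fst f g z) (pullback.snd f g z) t = z := by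
  set x := pullback.fst f g z with hx
  set y := pullback.snd f g z with hy
  set z' := (pullback.fst f g).asFiber z with hz'
  have e1 : (pullback.fst f g).fiberι x z' = z := (pullback.fst f g).fiberι_asFiber z
  rw [← e1] at hz
  obtain ⟨h1, h2, h3⟩ := (fiberι_mem_ass_tensS_iff f g F G hGfl x z').mp hz
  rw [e1] at h2
  refine ⟨h1, h2, ?_⟩
  -- the point `t`
  have hne : Nonempty ↥(Spec (Y.residueField y)) := inferInstance
  obtain ⟨l⟩ := hne
  have hl : Y.fromSpecResidueField y l = y := by
    have : Y.fromSpecResidueField y l ∈ Set.range (Y.fromSpecResidueField y) := ⟨l, rfl⟩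
    rw [Scheme.range_fromSpecResidueField] at this
    exact this
  have hq : ((pullback.fst f g).fiberι x ≫ pullback.snd f g) z' = Y.fromSpecResidueField y l := by
    rw [hl, Scheme.Hom.comp_apply, e1]
  obtain ⟨t, ht1, -⟩ := Scheme.exists_preimage_of_isPullback (isPullback_uxy f g x y) z' l hq
  refine ⟨t, ?_, ?_⟩
  · refine (isAssPoint_Txy_iff f g x y t).mpr ?_
    rw [ht1]
    exact h3
  · rw [← uxy_apply_fiberι, ht1, e1]

end master

end Groth.Agent.Lib.Helper24.AssTens
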