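import Groth.Agent.Lib.Helper17.NoethFibre

/-!
# The fibres of a morphism with locally Noetherian source are locally Noetherian (helper24)

* `isLocallyNoetherian_fiber_of_isLocallyNoetherian`
-/

set_option autoImplicit false
universe u

namespace Groth.Agent.Lib.Helper24.NoethFib

open AlgebraicGeometry CategoryTheory CategoryTheory.Limits

theorem essFiniteType_germ_residue {Y : Scheme.{u}} {V : Y.Opens} (hV : IsAffineOpen V) (y : Y)
    (hy : y ∈ V) : (Y.presheaf.germ V y hy ≫ Y.residue y).hom.EssFiniteType := by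
  simp only [CommRingCat.hom_comp]
  refine RingHom.EssFiniteType.comp ?_ ?_
  · letI := Y.presheaf.algebra_section_stalk ⟨y, hy⟩
    haveI := hV.isLocalization_stalk ⟨y, hy⟩
    have : Algebra.EssFiniteType Γ(Y, V) (Y.presheaf.stalk y) :=
      Algebra.EssFiniteType.of_isLocalization _ (hV.primeIdealOf ⟨y, hy⟩).asIdeal.primeCompl
    exact this
  · exact (RingHom.FiniteType.of_surjective _ (IsLocalRing.residue_surjective)).essFiniteType

theorem SpecMap_germ_residue_fromSpec {Y : Scheme.{u}} {V : Y.Opens} (hV : IsAffineOpen V) (y : Y)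
    (hy : y ∈ V) : Spec.map (Y.presheaf.germ V y hy ≫ Y.residue y) ≫ hV.fromSpec =
      Y.fromSpecResidueField y := by
  rw [Spec.map_comp, Category.assoc]
  change _ ≫ hV.fromSpecStalk hy = _
  rw [hV.fromSpecStalk_eq_fromSpecStalk hy]
  rfl

theorem isLocallyNoetherian_fiber_of_isLocallyNoetherian {X Y : Scheme.{u}} (f : X ⟶ Y)
    [IsLocallyNoetherian X] (y : Y) : IsLocallyNoetherian (f.fiber y) := by
  obtain ⟨V, hV, hyV⟩ : ∃ V : Y.Opens, IsAffineOpen V ∧ y ∈ V := by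
    obtain ⟨_, ⟨V, hV : IsAffineOpen V, rfl⟩, hyV, -⟩ :=
      Y.isBasis_affineOpens.exists_subset_of_mem_open (Set.mem_univ y) isOpen_univ
    exact ⟨V, hV, hyV⟩
  set φ : Γ(Y, V) ⟶ Y.residueField y := Y.presheaf.germ V y hyV ≫ Y.residue y with hφ
  have hφ1 : Spec.map φ ≫ hV.fromSpec = Y.fromSpecResidueField y :=
    SpecMap_germ_residue_fromSpec hV y hyV
  have P2 : IsPullback (f ⁻¹ᵁ V).ι (f ∣_ V) f V.ι := (isPullback_morphismRestrict f V).flip
  set c₀ : Spec (Y.residueField y) ⟶ (V : Scheme) := Spec.map φ ≫ hV.isoSpec.inv with hc₀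
  have e2 : c₀ ≫ V.ι = Y.fromSpecResidueField y := by
    rw [hc₀, Category.assoc, hV.isoSpec_inv_ι, hφ1]
  have hcomm : f.fiberι y ≫ f = (f.fiberToSpecResidueField y ≫ c₀) ≫ V.ι := by
    rw [Category.assoc, e2, f.fiber_fac]
  set a : f.fiber y ⟶ (f ⁻¹ᵁ V : Scheme) := P2.lift (f.fiberι y) (f.fiberToSpecResidueField y ≫ c₀)
    hcomm with ha
  have e1 : a ≫ (f ⁻¹ᵁ V).ι = f.fiberι y := P2.lift_fst _ _ _
  have e3 : a ≫ (f ∣_ V) = f.fiberToSpecResidueField y ≫ c₀ := P2.lift_snd _ _ _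
  have P1 : IsPullback (a ≫ (f ⁻¹ᵁ V).ι) (f.fiberToSpecResidueField y) f (c₀ ≫ V.ι) := by
    rw [e1, e2]
    exact IsPullback.of_hasPullback _ _
  have P3 : IsPullback a (f.fiberToSpecResidueField y) (f ∣_ V) c₀ := IsPullback.of_right P1 e3 P2
  have P4 : IsPullback c₀ (𝟙 _) hV.isoSpec.hom (Spec.map φ) :=
    IsPullback.of_vert_isIso ⟨by rw [hc₀, Category.assoc, Iso.inv_hom_id, Category.comp_id,
      Category.id_comp]⟩
  have P5 := P3.paste_vert P4
  rw [Category.comp_id] at P5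
  haveI : IsLocallyNoetherian (f ⁻¹ᵁ V : Scheme) :=
    isLocallyNoetherian_of_isOpenImmersion (f ⁻¹ᵁ V).ι
  exact Groth.Agent.Lib.helper17.NoethFibre.isLocallyNoetherian_of_isPullback_of_essFiniteType P5
    (essFiniteType_germ_residue hV y hyV)

end Groth.Agent.Lib.Helper24.NoethFib
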