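import Groth.Agent.Lib.Helper24.RelAssBC4
import Groth.Agent.Lib.Helper17.NoethFibre

/-!
# Base change of the relative assassin (helper24), part 5: the fibres of `fibMap`

For a scheme `W` locally of finite type over a field `k` (structure map `b : W ⟶ Spec k`), a point
`z` of `W`:
* `resHom b z : k ⟶ κ(z)` with `SpecMap_resHom`, essentially of finite type (`essFiniteType_resHom`).
-/

set_option autoImplicit false
universe u

namespace Groth.Agent.Lib.Helper24.RelAssBC

open AlgebraicGeometry CategoryTheory CategoryTheory.Limits IsLocalRing TensorProduct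

section resHom

variable {W : Scheme.{u}} {k : CommRingCat.{u}} (b : W ⟶ Spec k) (z : W)

/-- the ring map `k → κ(z)` of a `k`-scheme. -/
noncomputable def resHom : k ⟶ W.residueField z :=
  (Scheme.ΓSpecIso k).inv ≫ b.appTop ≫ W.presheaf.germ ⊤ z trivial ≫ W.residue z

theorem SpecMap_resHom : Spec.map (resHom b z) = W.fromSpecResidueField z ≫ b := by
  unfold resHom Scheme.fromSpecResidueField
  rw [Spec.map_comp, Spec.map_comp, Spec.map_comp, ← Scheme.fromSpecStalk_toSpecΓ]
  simp only [Category.assoc]
  rw [← Scheme.toSpecΓ_naturality_assoc, toSpecΓ_SpecMap_ΓSpecIso_inv, Category.comp_id]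

theorem essFiniteType_resHom [LocallyOfFiniteType b] : (resHom b z).hom.EssFiniteType := by
  have h1 : resHom b z = ((Scheme.ΓSpecIso k).inv ≫ (Spec k).presheaf.germ ⊤ (b z) trivial) ≫
      b.stalkMap z ≫ W.residue z := by
    have e := Scheme.Hom.germ_stalkMap_assoc b ⊤ z trivial (W.residue z)
    unfold resHom
    rw [Category.assoc, e]
    rfl
  rw [h1]
  simp only [CommRingCat.hom_comp]
  refine RingHom.EssFiniteType.comp ?_
    (RingHom.EssFiniteType.comp (LocallyOfFiniteType.stalkMap b z) ?_)
  · let p : PrimeSpectrum k := b z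
    have : Algebra.EssFiniteType k ((Spec.structureSheaf k).presheaf.stalk p) :=
      Algebra.EssFiniteType.of_isLocalization _ p.asIdeal.primeCompl
    exact this
  · exact (RingHom.FiniteType.of_surjective _ (IsLocalRing.residue_surjective)).essFiniteType

end resHom

section fibProps

open Groth.Agent.Lib.helper3.FibreField Groth.Agent.Lib.helper16.NoEmb

variable {P X Y Z : Scheme.{u}} {fst : P ⟶ X} {snd : P ⟶ Y} {f : X ⟶ Z} {g : Y ⟶ Z}
  (h : IsPullback fst snd f g) (y : Y) (z : f.fiber (g y))

/-- the fibre of `fibMap` over `z` is `Spec κ(y) ×_{Spec κ(g y)} Spec κ(z)`. -/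
theorem isPullback_fibre_fibMap :
    IsPullback ((fibMap h y).fiberι z ≫ snd.fiberToSpecResidueField y)
      ((fibMap h y).fiberToSpecResidueField z)
      (Spec.map (g.residueFieldMap y))
      (Spec.map (resHom (f.fiberToSpecResidueField (g y)) z)) := by
  rw [SpecMap_resHom]
  exact (IsPullback.of_hasPullback _ _).paste_horiz (isPullback_fibMap h y).flip

variable [LocallyOfFiniteType f]

theorem isLocallyNoetherian_fibre_fibMap : IsLocallyNoetherian ((fibMap h y).fiber z) := by
  haveI := locallyOfFiniteType_fiber f (g y)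
  haveI : IsLocallyNoetherian (Spec (Y.residueField y)) := inferInstance
  exact Groth.Agent.Lib.helper17.NoethFibre.isLocallyNoetherian_of_isPullback_of_essFiniteType
    (isPullback_fibre_fibMap h y z) (essFiniteType_resHom _ z)

theorem noEmbedded_fibre_fibMap :
    AssSch.NoEmbedded (Coh.structureModule ((fibMap h y).fiber z)) := by
  haveI := isLocallyNoetherian_fibre_fibMap h y z
  letI a1 : Algebra (Z.residueField (g y)) (Y.residueField y) :=
    (g.residueFieldMap y).hom.toAlgebra
  letI a2 : Algebra (Z.residueField (g y)) ((f.fiber (g y)).residueField z) :=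
    (resHom (f.fiberToSpecResidueField (g y)) z).hom.toAlgebra
  have hpo := CommRingCat.isPushout_tensorProduct (Z.residueField (g y)) (Y.residueField y)
    ((f.fiber (g y)).residueField z)
  have hpb := isPullback_SpecMap_of_isPushout _ _ _ _ hpo
  let e : (fibMap h y).fiber z ≅
      Spec (CommRingCat.of ((Y.residueField y) ⊗[Z.residueField (g y)]
        ((f.fiber (g y)).residueField z))) :=
    (isPullback_fibre_fibMap h y z).isoIsPullback _ _ hpb
  haveI : IsAffine ((fibMap h y).fiber z) := IsAffine.of_isIso e.hom
  let ψ' : Γ((fibMap h y).fiber z, ⊤) ≅ CommRingCat.of ((Y.residueField y) ⊗[Z.residueField (g y)]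
        ((f.fiber (g y)).residueField z)) :=
    (Scheme.Γ.mapIso e.op).symm ≪≫ Scheme.ΓSpecIso _
  have hne : NoEmbRing Γ((fibMap h y).fiber z, ⊤) :=
    (noEmbRing_tensor (Z.residueField (g y)) (Y.residueField y)
      ((f.fiber (g y)).residueField z)).of_ringEquiv ψ'.commRingCatIsoToRingEquiv
  exact noEmbedded_of_affine_charts (fun x => ⟨⊤, isAffineOpen_top _, trivial, hne⟩)

end fibProps

end Groth.Agent.Lib.Helper24.RelAssBC
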