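import Groth.Agent.Lib.Helper24.AssTens4
import Groth.Agent.Lib.Helper24.NoethFib
import Groth.Agent.Lib.Helper24.RelAssBC5

/-!
# Associated points of `F ⊗_S G` for `G` flat over `S` (helper24), part 5

* `isLocallyNoetherian_Txy`, `noEmbedded_Txy`: `T(x, y)` is locally Noetherian and has no embedded
  associated points.
* `specializes_jxy_iff`.
-/

set_option autoImplicit false
universe u

namespace Groth.Agent.Lib.Helper24.AssTens

open AlgebraicGeometry CategoryTheory CategoryTheory.Limits IsLocalRing TensorProduct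
open Groth.Agent.Lib.Helper24.RelAssBC Groth.Agent.Lib.Helper24.TensFlat
open Groth.Agent.Lib.helper16.NoEmb

theorem isPullback_of_comp_mono {C : Type*} [Category C] {P X Y W Z : C} {fst : P ⟶ X}
    {snd : P ⟶ Y} {f : X ⟶ W} {g : Y ⟶ W} (i : W ⟶ Z) [Mono i]
    (h : IsPullback fst snd (f ≫ i) (g ≫ i)) : IsPullback fst snd f g := by
  have w : fst ≫ f = snd ≫ g := by
    rw [← cancel_mono i, Category.assoc, Category.assoc, h.w]
  refine ⟨⟨w⟩, ⟨PullbackCone.IsLimit.mk w
    (fun s => h.lift s.fst s.snd (by rw [reassoc_of% s.condition]))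
    (fun s => h.lift_fst _ _ _) (fun s => h.lift_snd _ _ _)
    (fun s m h1 h2 => h.hom_ext (by simpa using h1) (by simpa using h2))⟩⟩

section geom

variable {X Y S : Scheme.{u}} (f : X ⟶ S) (g : Y ⟶ S) (x : X) (y : Y)

theorem isLocallyNoetherian_Txy [IsLocallyNoetherian (pullback f g)] :
    IsLocallyNoetherian (Txy f g x y) := by
  haveI : IsLocallyNoetherian ((pullback.fst f g).fiber x) :=
    Groth.Agent.Lib.Helper24.NoethFib.isLocallyNoetherian_fiber_of_isLocallyNoetherian _ x
  haveI : IsLocallyNoetherian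
      (((pullback.fst f g).fiberι x ≫ pullback.snd f g).fiber y) :=
    Groth.Agent.Lib.Helper24.NoethFib.isLocallyNoetherian_fiber_of_isLocallyNoetherian _ y
  exact (Groth.Agent.Lib.helper17.NoethFibre.isLocallyNoetherian_iff_of_iso
    (isPullback_uxy f g x y).isoPullback).mpr ‹_›

theorem isEmbedding_jxy : Topology.IsEmbedding (jxy f g x y) := by
  let e : Txy f g x y ≅ ((pullback.fst f g).fiberι x ≫ pullback.snd f g).fiber y :=
    (isPullback_uxy f g x y).isoPullback
  have he : e.hom ≫ ((pullback.fst f g).fiberι x ≫ pullback.snd f g).fiberι y = uxy f g x y :=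
    (isPullback_uxy f g x y).isoPullback_hom_fst
  have hj : jxy f g x y = (e.hom ≫ ((pullback.fst f g).fiberι x ≫ pullback.snd f g).fiberι y) ≫
      (pullback.fst f g).fiberι x := by
    rw [he, uxy_fiberι]
  rw [hj]
  exact Scheme.Hom.isEmbedding _

theorem specializes_jxy_iff (t' t : Txy f g x y) :
    jxy f g x y t' ⤳ jxy f g x y t ↔ t' ⤳ t :=
  (isEmbedding_jxy f g x y).isInducing.specializes_iff

theorem noEmbedded_Txy [IsLocallyNoetherian (pullback f g)] (hxy : f x = g y) :
    AssSch.NoEmbedded (Coh.structureModule (Txy f g x y)) := by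
  haveI := isLocallyNoetherian_Txy f g x y
  set α : S.residueField (f x) ⟶ X.residueField x := f.residueFieldMap x with hα
  set β : S.residueField (f x) ⟶ Y.residueField y :=
    (S.residueFieldCongr hxy).hom ≫ g.residueFieldMap y with hβ
  have h1 : X.fromSpecResidueField x ≫ f = Spec.map α ≫ S.fromSpecResidueField (f x) :=
    (Scheme.Hom.SpecMap_residueFieldMap_fromSpecResidueField f x).symm
  have h2 : Y.fromSpecResidueField y ≫ g = Spec.map β ≫ S.fromSpecResidueField (f x) := by
    rw [hβ, Spec.map_comp, Category.assoc, Scheme.residueFieldCongr_fromSpecResidueField]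
    exact (Scheme.Hom.SpecMap_residueFieldMap_fromSpecResidueField g y).symm
  have hT : IsPullback (pullback.fst (X.fromSpecResidueField x ≫ f) (Y.fromSpecResidueField y ≫ g))
      (pullback.snd (X.fromSpecResidueField x ≫ f) (Y.fromSpecResidueField y ≫ g))
      (Spec.map α) (Spec.map β) := by
    refine isPullback_of_comp_mono (S.fromSpecResidueField (f x)) ?_
    rw [← h1, ← h2]
    exact IsPullback.of_hasPullback _ _
  letI a1 : Algebra (S.residueField (f x)) (X.residueField x) := α.hom.toAlgebra
  letI a2 : Algebra (S.residueField (f x)) (Y.residueField y) := β.hom.toAlgebra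
  have hpo := CommRingCat.isPushout_tensorProduct (S.residueField (f x)) (X.residueField x)
    (Y.residueField y)
  have hpb := isPullback_SpecMap_of_isPushout _ _ _ _ hpo
  let e : Txy f g x y ≅
      Spec (CommRingCat.of ((X.residueField x) ⊗[S.residueField (f x)] (Y.residueField y))) :=
    hT.isoIsPullback _ _ hpb
  haveI : IsAffine (Txy f g x y) := IsAffine.of_isIso e.hom
  let ψ' : Γ(Txy f g x y, ⊤) ≅
      CommRingCat.of ((X.residueField x) ⊗[S.residueField (f x)] (Y.residueField y)) :=
    (Scheme.Γ.mapIso e.op).symm ≪≫ Scheme.ΓSpecIso _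
  have hne : NoEmbRing Γ(Txy f g x y, ⊤) :=
    (noEmbRing_tensor (S.residueField (f x)) (X.residueField x)
      (Y.residueField y)).of_ringEquiv ψ'.commRingCatIsoToRingEquiv
  exact noEmbedded_of_affine_charts (fun _ => ⟨⊤, isAffineOpen_top _, trivial, hne⟩)

end geom

end Groth.Agent.Lib.Helper24.AssTens
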