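import Groth.Agent.Lib.Helper24.AssTens5

/-!
# Associated points of `F ⊗_S G` for `G` flat over `S` (helper24), part 6

* `eq_of_specializes_of_mem_ass_tensS`: two associated points of `F ⊗_S G` with the same projections
  to `X` and `Y`, one specializing to the other, are equal.
-/

set_option autoImplicit false
universe u

namespace Groth.Agent.Lib.Helper24.AssTens

open AlgebraicGeometry CategoryTheory CategoryTheory.Limits IsLocalRing TensorProduct
open Groth.Agent.Lib.Helper24.RelAssBC Groth.Agent.Lib.Helper24.TensFlat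

section master

variable {X Y S : Scheme.{u}} (f : X ⟶ S) (g : Y ⟶ S) [IsLocallyNoetherian X]
  [IsLocallyNoetherian Y] (F : X.Modules) [F.IsQuasicoherent] (G : Y.Modules) [G.IsQuasicoherent]

theorem exists_of_mem_ass_tensS' (hGfl : FlatMod.IsFlatOver g G) (z : ↥(pullback f g))
    (hz : z ∈ AssSch.Ass (tensS f g F G)) (x : X) (y : Y) (hx : pullback.fst f g z = x)
    (hy : pullback.snd f g z = y) :
    x ∈ AssSch.Ass F ∧ y ∈ MoreMor.relAss g G ∧
      ∃ t : Txy f g x y, t ∈ AssSch.Ass (Coh.structureModule (Txy f g x y)) ∧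
        jxy f g x y t = z := by
  subst hx hy
  exact exists_of_mem_ass_tensS f g F G hGfl z hz

omit [IsLocallyNoetherian X] [IsLocallyNoetherian Y] in
theorem fst_apply_eq_snd_apply (z : ↥(pullback f g)) :
    f (pullback.fst f g z) = g (pullback.snd f g z) := by
  have := congrArg (fun φ : pullback f g ⟶ S => φ z) (pullback.condition (f := f) (g := g))
  simpa using this

theorem eq_of_specializes_of_mem_ass_tensS [IsLocallyNoetherian (pullback f g)]
    (hGfl : FlatMod.IsFlatOver g G) (z z' : ↥(pullback f g))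
    (hz : z ∈ AssSch.Ass (tensS f g F G)) (hz' : z' ∈ AssSch.Ass (tensS f g F G))
    (hsp : z' ⤳ z) (hx : pullback.fst f g z' = pullback.fst f g z)
    (hy : pullback.snd f g z' = pullback.snd f g z) : z = z' := by
  obtain ⟨-, -, t, ht, e1⟩ := exists_of_mem_ass_tensS f g F G hGfl z hz
  obtain ⟨-, -, t', ht', e2⟩ := exists_of_mem_ass_tensS' f g F G hGfl z' hz' _ _ hx hy
  rw [← e1, ← e2, specializes_jxy_iff] at hsp
  have hxy := fst_apply_eq_snd_apply f g z
  rw [← e1, ← e2, noEmbedded_Txy f g _ _ hxy t ht t' ht' hsp]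

end master

end Groth.Agent.Lib.Helper24.AssTens
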