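import Mathlib

/-!
# Annihilators and flat base change (helper24)

* `map_ker_toSpanSingleton_eq_top` : `R₁ → R₂` flat, `n ∈ N` with `1 ⊗ n = 0` in `R₂ ⊗ N`
  ⇒ `Ann(n) R₂ = R₂`.
* `map_ker_eq_top_of_rTensor_eq_zero` : the same relative to a base ring `A`.
* `exists_prime_of_ne_zero` : `B` flat over `A`, `0 ≠ w ∈ B ⊗ A/𝔭` ⇒ there is a prime `𝔮 ⊇ Ann(w)`
  of `B` lying over `𝔭`.
-/

set_option autoImplicit false
open TensorProduct

namespace Groth.Agent.Lib.Helper24.CDesc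

universe u v w

section Z

variable {R₁ : Type u} {R₂ : Type v} [CommRing R₁] [CommRing R₂] [Algebra R₁ R₂]
  [Module.Flat R₁ R₂] {N : Type w} [AddCommGroup N] [Module R₁ N]

theorem map_ker_toSpanSingleton_eq_top (n : N) (h : (1 : R₂) ⊗ₜ[R₁] n = 0) :
    Ideal.map (algebraMap R₁ R₂) (LinearMap.ker (LinearMap.toSpanSingleton R₁ N n)) = ⊤ := by
  set φ := LinearMap.toSpanSingleton R₁ N n with hφ
  set J : Ideal R₁ := LinearMap.ker φ with hJ
  let φb : R₁ ⧸ J →ₗ[R₁] N := Submodule.liftQ J φ le_rfl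
  have hφb : Function.Injective φb := by
    rw [← LinearMap.ker_eq_bot]
    exact Submodule.ker_liftQ_eq_bot _ _ _ le_rfl
  have hinj := Module.Flat.lTensor_preserves_injective_linearMap (M := R₂) φb hφb
  have h1 : (1 : R₂) ⊗ₜ[R₁] (Ideal.Quotient.mk J (1 : R₁)) = 0 := by
    apply hinj
    rw [LinearMap.lTensor_tmul, map_zero]
    have : φb (Ideal.Quotient.mk J (1 : R₁)) = n := by
      show φ 1 = n
      rw [hφ, LinearMap.toSpanSingleton_apply_one]
    rw [this]
    exact h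
  have h2 := congrArg (TensorProduct.tensorQuotEquivQuotSMul R₂ J) h1
  rw [TensorProduct.tensorQuotEquivQuotSMul_tmul_mk, map_zero, one_smul,
    Submodule.Quotient.mk_eq_zero, Ideal.smul_top_eq_map] at h2
  exact (Ideal.eq_top_iff_one _).mpr h2

end Z

section Zrel

variable {A : Type u} [CommRing A] {R₁ R₂ : Type v} [CommRing R₁] [CommRing R₂] [Algebra A R₁]
  [Algebra A R₂] {M : Type w} [AddCommGroup M] [Module A M]

theorem map_ker_eq_top_of_rTensor_eq_zero (ψ : R₁ →ₐ[A] R₂) (hψ : ψ.toRingHom.Flat)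
    (n : R₁ ⊗[A] M) (h : LinearMap.rTensor M ψ.toLinearMap n = 0) :
    Ideal.map ψ (LinearMap.ker (LinearMap.toSpanSingleton R₁ (R₁ ⊗[A] M) n)) = ⊤ := by
  letI : Algebra R₁ R₂ := ψ.toRingHom.toAlgebra
  haveI : IsScalarTower A R₁ R₂ := IsScalarTower.of_algebraMap_eq' ψ.comp_algebraMap.symm
  haveI : Module.Flat R₁ R₂ := hψ
  have key : ∀ n : R₁ ⊗[A] M,
      AlgebraTensorModule.cancelBaseChange A R₁ R₂ R₂ M ((1 : R₂) ⊗ₜ[R₁] n) =
        LinearMap.rTensor M ψ.toLinearMap n := by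
    intro n
    induction n using TensorProduct.induction_on with
    | zero => simp
    | tmul r m =>
      rw [AlgebraTensorModule.cancelBaseChange_tmul, LinearMap.rTensor_tmul, Algebra.smul_def,
        mul_one]
      rfl
    | add x y hx hy => rw [tmul_add, map_add, map_add, hx, hy]
  have h1 : (1 : R₂) ⊗ₜ[R₁] n = 0 := by
    apply (AlgebraTensorModule.cancelBaseChange A R₁ R₂ R₂ M).injective
    rw [key, h, map_zero]
  exact map_ker_toSpanSingleton_eq_top n h1

end Zrel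

section Q

variable {A : Type u} [CommRing A] {B : Type v} [CommRing B] [Algebra A B] [Module.Flat A B]
  (𝔭 : Ideal A) [𝔭.IsPrime]

omit [Module.Flat A B] [𝔭.IsPrime] in
theorem smul_eq_zero_of_mem (a : A) (ha : a ∈ 𝔭) (w : B ⊗[A] (A ⧸ 𝔭)) : a • w = 0 := by
  induction w using TensorProduct.induction_on with
  | zero => simp
  | tmul b q =>
    obtain ⟨q, rfl⟩ := Ideal.Quotient.mk_surjective q
    rw [← tmul_smul, ← Ideal.Quotient.mk_eq_mk, ← Submodule.Quotient.mk_smul, smul_eq_mul,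
      Ideal.Quotient.mk_eq_mk, Ideal.Quotient.eq_zero_iff_mem.mpr (𝔭.mul_mem_right q ha), tmul_zero]
  | add x y hx hy => rw [smul_add, hx, hy, add_zero]

theorem smul_injective_of_not_mem (t : A) (ht : t ∉ 𝔭) :
    Function.Injective (fun w : B ⊗[A] (A ⧸ 𝔭) => t • w) := by
  have h1 : Function.Injective (LinearMap.lsmul A (A ⧸ 𝔭) t) := by
    intro x y hxy
    obtain ⟨x, rfl⟩ := Ideal.Quotient.mk_surjective x
    obtain ⟨y, rfl⟩ := Ideal.Quotient.mk_surjective y
    simp only [LinearMap.lsmul_apply] at hxy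
    rw [← sub_eq_zero, ← smul_sub, ← map_sub, ← Ideal.Quotient.mk_eq_mk,
      ← Submodule.Quotient.mk_smul, Ideal.Quotient.mk_eq_mk, Ideal.Quotient.eq_zero_iff_mem,
      smul_eq_mul] at hxy
    rw [← sub_eq_zero, ← map_sub, Ideal.Quotient.eq_zero_iff_mem]
    exact (Ideal.IsPrime.mem_or_mem inferInstance hxy).resolve_left ht
  have h2 := Module.Flat.lTensor_preserves_injective_linearMap (M := B) _ h1
  intro x y hxy
  apply h2
  have : ∀ z : B ⊗[A] (A ⧸ 𝔭), (LinearMap.lsmul A (A ⧸ 𝔭) t).lTensor B z = t • z := by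
    intro z
    induction z using TensorProduct.induction_on with
    | zero => simp
    | tmul b q => rw [LinearMap.lTensor_tmul, LinearMap.lsmul_apply, tmul_smul]
    | add x y hx hy => rw [map_add, hx, hy, smul_add]
  rw [this, this]
  exact hxy

theorem exists_prime_of_ne_zero (w : B ⊗[A] (A ⧸ 𝔭)) (hw : w ≠ 0) :
    ∃ 𝔮 : Ideal B, 𝔮.IsPrime ∧
      LinearMap.ker (LinearMap.toSpanSingleton B (B ⊗[A] (A ⧸ 𝔭)) w) ≤ 𝔮 ∧
      𝔮.comap (algebraMap A B) = 𝔭 := by
  set J : Ideal B := LinearMap.ker (LinearMap.toSpanSingleton B (B ⊗[A] (A ⧸ 𝔭)) w) with hJ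
  have hdisj : Disjoint (J : Set B) (Submonoid.map (algebraMap A B) 𝔭.primeCompl : Set B) := by
    rw [Set.disjoint_left]
    rintro _ hJx ⟨t, ht, rfl⟩
    have h0 : (algebraMap A B t) • w = 0 := by
      have := LinearMap.mem_ker.mp hJx
      rwa [LinearMap.toSpanSingleton_apply] at this
    rw [algebraMap_smul] at h0
    apply hw
    apply smul_injective_of_not_mem 𝔭 t ht
    simp only [smul_zero]
    exact h0
  obtain ⟨𝔮, h𝔮, hle, hd⟩ := Ideal.exists_le_prime_disjoint J _ hdisj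
  refine ⟨𝔮, h𝔮, hle, ?_⟩
  ext a
  rw [Ideal.mem_comap]
  constructor
  · intro ha
    by_contra hna
    exact Set.disjoint_left.mp hd ha ⟨a, hna, rfl⟩
  · intro ha
    apply hle
    show LinearMap.toSpanSingleton B (B ⊗[A] (A ⧸ 𝔭)) w (algebraMap A B a) = 0
    rw [LinearMap.toSpanSingleton_apply, algebraMap_smul]
    exact smul_eq_zero_of_mem 𝔭 a ha w

end Q

end Groth.Agent.Lib.Helper24.CDesc
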