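import Groth.Agent.Lib.Helper24.CDesc1
import Groth.Agent.Lib.Helper24.CplFlat

/-!
# Complete Noetherian local flat algebras over a Noetherian ring (helper24)

Objects `Obj A`, the completions `cplObj`, `baseObj A 𝔭 = (A_𝔭)^`, `locObj O 𝔮 = (O_𝔮)^` and the
canonical maps between them.
-/

set_option autoImplicit false
open IsLocalRing TensorProduct

namespace Groth.Agent.Lib.Helper24.CDesc

universe u

/-- A complete Noetherian local ring, flat over `A`. -/
structure Obj (A : Type u) [CommRing A] where
  carrier : Type u
  [commRing : CommRing carrier]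
  [algebra : Algebra A carrier]
  [noeth : IsNoetherianRing carrier]
  [isLocal : IsLocalRing carrier]
  complete : IsAdicComplete (maximalIdeal carrier) carrier
  flat : Module.Flat A carrier

attribute [instance] Obj.commRing Obj.algebra Obj.noeth Obj.isLocal

variable {A : Type u} [CommRing A]

section cpl

variable (A) (S : Type u) [CommRing S] [Algebra A S] [IsNoetherianRing S] [IsLocalRing S]

instance isNoetherianRing_cpl : IsNoetherianRing (AdicCompletion (maximalIdeal S) S) :=
  Groth.Agent.S0542.result S _ (maximalIdeal S).fg_of_isNoetherianRing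

instance isScalarTower_cpl : IsScalarTower A S (AdicCompletion (maximalIdeal S) S) :=
  IsScalarTower.of_algebraMap_eq' rfl

/-- The completion of a Noetherian local flat `A`-algebra. -/
noncomputable abbrev cplObj (hS : Module.Flat A S) : Obj A where
  carrier := AdicCompletion (maximalIdeal S) S
  noeth := inferInstance
  complete := inferInstance
  flat := by
    haveI := hS
    exact Module.Flat.trans A S _

theorem cplObj_carrier (hS : Module.Flat A S) :
    (cplObj A S hS).carrier = AdicCompletion (maximalIdeal S) S := rfl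

/-- The map `S → Ŝ` is flat. -/
theorem flat_algebraMap_cpl : (algebraMap S (AdicCompletion (maximalIdeal S) S)).Flat := by
  rw [RingHom.flat_algebraMap_iff]
  infer_instance

/-- The contraction of the maximal ideal of `Ŝ` to `S` is the maximal ideal. -/
theorem comap_maximalIdeal_cpl :
    (maximalIdeal (AdicCompletion (maximalIdeal S) S)).comap
      (algebraMap S (AdicCompletion (maximalIdeal S) S)) = maximalIdeal S :=
  ((IsLocalRing.local_hom_TFAE (algebraMap S (AdicCompletion (maximalIdeal S) S))).out 0 4).mp
    (inferInstance : IsLocalHom (algebraMap S (AdicCompletion (maximalIdeal S) S)))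

end cpl

section loc

variable (O : Obj A) (𝔮 : Ideal O.carrier) [𝔮.IsPrime]

/-- The completion of the localisation of `O` at a prime `𝔮`. -/
noncomputable abbrev locObj : Obj A :=
  haveI := O.flat
  cplObj A (Localization.AtPrime 𝔮) inferInstance

/-- The canonical map `O → (O_𝔮)^`. -/
noncomputable def locMap : O.carrier →ₐ[A] (locObj O 𝔮).carrier :=
  IsScalarTower.toAlgHom A O.carrier (AdicCompletion (maximalIdeal (Localization.AtPrime 𝔮))
    (Localization.AtPrime 𝔮))

theorem locMap_eq : (locMap O 𝔮).toRingHom =
    (algebraMap (Localization.AtPrime 𝔮) (AdicCompletion (maximalIdeal (Localization.AtPrime 𝔮))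
      (Localization.AtPrime 𝔮))).comp (algebraMap O.carrier (Localization.AtPrime 𝔮)) := rfl

theorem flat_locMap : (locMap O 𝔮).toRingHom.Flat := by
  rw [locMap_eq]
  refine RingHom.Flat.comp ?_ (flat_algebraMap_cpl _)
  exact RingHom.flat_algebraMap_iff.mpr (IsLocalization.flat _ 𝔮.primeCompl)

theorem comap_locMap : (maximalIdeal (locObj O 𝔮).carrier).comap (locMap O 𝔮).toRingHom = 𝔮 := by
  rw [locMap_eq, ← Ideal.comap_comap]
  erw [comap_maximalIdeal_cpl (Localization.AtPrime 𝔮)]
  exact IsLocalization.AtPrime.under_maximalIdeal (Localization.AtPrime 𝔮) 𝔮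

theorem map_locMap_le : 𝔮.map (locMap O 𝔮).toRingHom ≤ maximalIdeal (locObj O 𝔮).carrier := by
  rw [Ideal.map_le_iff_le_comap, comap_locMap]

theorem comap_algebraMap_locObj :
    (maximalIdeal (locObj O 𝔮).carrier).comap (algebraMap A (locObj O 𝔮).carrier) =
      𝔮.comap (algebraMap A O.carrier) := by
  rw [← (locMap O 𝔮).comp_algebraMap, ← Ideal.comap_comap]
  congr 1
  exact comap_locMap O 𝔮

end loc

section base

variable (A) [IsNoetherianRing A] (𝔭 : Ideal A) [𝔭.IsPrime]

/-- The completion of `A_𝔭`. -/
noncomputable abbrev baseObj : Obj A := cplObj A (Localization.AtPrime 𝔭) inferInstance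

theorem comap_algebraMap_baseObj :
    (maximalIdeal (baseObj A 𝔭).carrier).comap (algebraMap A (baseObj A 𝔭).carrier) = 𝔭 := by
  have : algebraMap A (baseObj A 𝔭).carrier =
      (algebraMap (Localization.AtPrime 𝔭) (AdicCompletion (maximalIdeal (Localization.AtPrime 𝔭))
        (Localization.AtPrime 𝔭))).comp (algebraMap A (Localization.AtPrime 𝔭)) := rfl
  rw [this, ← Ideal.comap_comap]
  erw [comap_maximalIdeal_cpl (Localization.AtPrime 𝔭)]
  exact IsLocalization.AtPrime.under_maximalIdeal (Localization.AtPrime 𝔭) 𝔭

/-- Any object whose maximal ideal lies over `𝔭` receives a flat local map from `(A_𝔭)^`. -/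
theorem exists_lift (O : Obj A)
    (h : (maximalIdeal O.carrier).comap (algebraMap A O.carrier) = 𝔭) :
    ∃ ψ : (baseObj A 𝔭).carrier →ₐ[A] O.carrier, ψ.toRingHom.Flat ∧ IsLocalHom ψ.toRingHom := by
  have hunit : ∀ y : 𝔭.primeCompl, IsUnit (algebraMap A O.carrier y) := by
    intro y
    by_contra hy
    have h1 : (y : A) ∈ (maximalIdeal O.carrier).comap (algebraMap A O.carrier) :=
      Ideal.mem_comap.mpr ((mem_maximalIdeal _).mpr hy)
    rw [h] at h1
    exact y.2 h1
  letI algL : Algebra (Localization.AtPrime 𝔭) O.carrier := (IsLocalization.lift hunit).toAlgebra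
  haveI : IsScalarTower A (Localization.AtPrime 𝔭) O.carrier :=
    IsScalarTower.of_algebraMap_eq (fun a => (IsLocalization.lift_eq hunit a).symm)
  haveI : IsLocalHom (algebraMap (Localization.AtPrime 𝔭) O.carrier) := by
    apply ((IsLocalRing.local_hom_TFAE _).out 0 2).mpr
    rw [← Localization.AtPrime.map_eq_maximalIdeal, Ideal.map_map,
      ← IsScalarTower.algebraMap_eq, ← h]
    exact Ideal.map_comap_le
  haveI : Module.Flat (Localization.AtPrime 𝔭) O.carrier :=
    (Module.flat_iff_of_isLocalization (Localization.AtPrime 𝔭) 𝔭.primeCompl O.carrier).mpr O.flat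
  haveI := O.complete
  let c := CplFlat.cplMap (Localization.AtPrime 𝔭) O.carrier
  let e := (AdicCompletion.ofAlgEquiv (maximalIdeal O.carrier)).symm
  let ψr : AdicCompletion (maximalIdeal (Localization.AtPrime 𝔭)) (Localization.AtPrime 𝔭) →+*
      O.carrier := (e : AdicCompletion (maximalIdeal O.carrier) O.carrier →+* O.carrier).comp c
  have hψr : ∀ z : Localization.AtPrime 𝔭,
      ψr (AdicCompletion.of _ _ z) = algebraMap (Localization.AtPrime 𝔭) O.carrier z := by
    intro z
    show e (c (AdicCompletion.of _ _ z)) = _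
    rw [CplFlat.cplMap_of]
    exact AdicCompletion.ofAlgEquiv_symm_of _ _
  let ψ : (baseObj A 𝔭).carrier →ₐ[A] O.carrier :=
    { ψr with
      commutes' := fun a => by
        show ψr (AdicCompletion.of _ _ (algebraMap A (Localization.AtPrime 𝔭) a)) = _
        rw [hψr, ← IsScalarTower.algebraMap_apply] }
  refine ⟨ψ, ?_, ?_⟩
  · show ψr.Flat
    exact RingHom.Flat.comp (CplFlat.flat_cplMap _ _) (RingHom.Flat.of_bijective e.bijective)
  · show IsLocalHom ψr
    haveI := CplFlat.isLocalHom_cplMap (Localization.AtPrime 𝔭) O.carrier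
    haveI : IsLocalHom (e : AdicCompletion (maximalIdeal O.carrier) O.carrier →+* O.carrier) :=
      ⟨fun a ha => by
        have : IsUnit (e.symm (e a)) := ha.map e.symm
        rwa [AlgEquiv.symm_apply_apply] at this⟩
    exact RingHom.isLocalHom_comp _ _

end base

end Groth.Agent.Lib.Helper24.CDesc
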