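import Groth.Agent.Lib.Helper24.CDesc2

/-!
# Compatible families over complete local flat algebras (helper24)

* `eq_zero_of_flat_local` : injectivity along flat local maps.
* `eq_zero_of_forall_base` : `m ∈ M` vanishing in all `(A_𝔪)^ ⊗ M` is zero.
* `Compat.eq_zero_of_base` : a compatible family vanishing on all `(A_𝔪)^` vanishes.
* `exists_of_quotient_prime` : compatible families for `A ⧸ 𝔭` come from `A ⧸ 𝔭`.
-/

set_option autoImplicit false
open IsLocalRing TensorProduct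

namespace Groth.Agent.Lib.Helper24.CDesc

universe u

section general

variable {A : Type u} [CommRing A]

/-- Injectivity of `R₁ ⊗ M → R₂ ⊗ M` for a flat local map of local rings. -/
theorem eq_zero_of_flat_local {R₁ R₂ : Type u} [CommRing R₁] [CommRing R₂] [Algebra A R₁]
    [Algebra A R₂] [IsLocalRing R₁] [IsLocalRing R₂] {M : Type u} [AddCommGroup M] [Module A M]
    (ψ : R₁ →ₐ[A] R₂) (hψ : ψ.toRingHom.Flat) (hloc : IsLocalHom ψ.toRingHom)
    (n : R₁ ⊗[A] M) (h : LinearMap.rTensor M ψ.toLinearMap n = 0) : n = 0 := by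
  have h2 := map_ker_eq_top_of_rTensor_eq_zero ψ hψ n h
  set J : Ideal R₁ := LinearMap.ker (LinearMap.toSpanSingleton R₁ (R₁ ⊗[A] M) n) with hJ
  by_cases hJt : J = ⊤
  · have h1 : (1 : R₁) ∈ J := hJt ▸ Submodule.mem_top
    have := LinearMap.mem_ker.mp h1
    rwa [LinearMap.toSpanSingleton_apply, one_smul] at this
  · exfalso
    have hle : J ≤ maximalIdeal R₁ := IsLocalRing.le_maximalIdeal hJt
    have hm : (maximalIdeal R₁).map ψ.toRingHom ≤ maximalIdeal R₂ :=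
      ((IsLocalRing.local_hom_TFAE ψ.toRingHom).out 0 2).mp hloc
    have : (⊤ : Ideal R₂) ≤ maximalIdeal R₂ := by
      rw [← h2]
      exact (Ideal.map_mono hle).trans hm
    exact (IsLocalRing.maximalIdeal.isMaximal R₂).ne_top (top_le_iff.mp this)

variable [IsNoetherianRing A]

theorem map_le_maximalIdeal_baseObj (𝔪 : Ideal A) [𝔪.IsPrime] (J : Ideal A) (hJ : J ≤ 𝔪) :
    J.map (algebraMap A (baseObj A 𝔪).carrier) ≤ maximalIdeal (baseObj A 𝔪).carrier := by
  rw [Ideal.map_le_iff_le_comap, comap_algebraMap_baseObj]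
  exact hJ

/-- An element of a module vanishing in every `(A_𝔪)^ ⊗ M` is zero. -/
theorem eq_zero_of_forall_base {M : Type u} [AddCommGroup M] [Module A M] (m : M)
    (h : ∀ (𝔪 : Ideal A) [𝔪.IsMaximal], (1 : (baseObj A 𝔪).carrier) ⊗ₜ[A] m = 0) : m = 0 := by
  by_contra hm
  set J : Ideal A := LinearMap.ker (LinearMap.toSpanSingleton A M m) with hJ
  have hJt : J ≠ ⊤ := by
    intro hJt
    have h1 : (1 : A) ∈ J := hJt ▸ Submodule.mem_top
    have := LinearMap.mem_ker.mp h1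
    rw [LinearMap.toSpanSingleton_apply, one_smul] at this
    exact hm this
  obtain ⟨𝔪, h𝔪, hle⟩ := Ideal.exists_le_maximal J hJt
  haveI := h𝔪
  haveI : Module.Flat A (baseObj A 𝔪).carrier := (baseObj A 𝔪).flat
  have h2 := map_ker_toSpanSingleton_eq_top (R₂ := (baseObj A 𝔪).carrier) m (h 𝔪)
  have : (⊤ : Ideal (baseObj A 𝔪).carrier) ≤ maximalIdeal (baseObj A 𝔪).carrier := by
    rw [← h2]
    exact map_le_maximalIdeal_baseObj 𝔪 J hle
  exact (IsLocalRing.maximalIdeal.isMaximal _).ne_top (top_le_iff.mp this)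

end general

section families

variable (A : Type u) [CommRing A] (M : Type u) [AddCommGroup M] [Module A M]

/-- Families of elements of `B ⊗ M`, one for each object `B`. -/
abbrev Fam := ∀ O : Obj A, O.carrier ⊗[A] M

variable {A M}

/-- Compatibility of a family with all `A`-algebra maps. -/
def Compat (x : Fam A M) : Prop :=
  ∀ (O O' : Obj A) (g : O.carrier →ₐ[A] O'.carrier),
    LinearMap.rTensor M g.toLinearMap (x O) = x O'

variable [IsNoetherianRing A]

theorem one_tmul_ne_zero (𝔭 𝔪 : Ideal A) [𝔭.IsPrime] [𝔪.IsPrime] (h : 𝔭 ≤ 𝔪) :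
    (1 : (baseObj A 𝔪).carrier) ⊗ₜ[A] (1 : A ⧸ 𝔭) ≠ 0 := by
  intro h0
  haveI : Module.Flat A (baseObj A 𝔪).carrier := (baseObj A 𝔪).flat
  have h2 := map_ker_toSpanSingleton_eq_top (R₂ := (baseObj A 𝔪).carrier) (1 : A ⧸ 𝔭) h0
  have hker : LinearMap.ker (LinearMap.toSpanSingleton A (A ⧸ 𝔭) 1) ≤ 𝔭 := by
    intro a ha
    have := LinearMap.mem_ker.mp ha
    rw [LinearMap.toSpanSingleton_apply, ← Algebra.algebraMap_eq_smul_one,
      Ideal.Quotient.algebraMap_eq, Ideal.Quotient.eq_zero_iff_mem] at this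
    exact this
  have : (⊤ : Ideal (baseObj A 𝔪).carrier) ≤ maximalIdeal (baseObj A 𝔪).carrier := by
    rw [← h2]
    exact map_le_maximalIdeal_baseObj 𝔪 _ (hker.trans h)
  exact (IsLocalRing.maximalIdeal.isMaximal _).ne_top (top_le_iff.mp this)

/-- A compatible family vanishing on all `(A_𝔪)^`, `𝔪` maximal, vanishes everywhere. -/
theorem Compat.eq_zero_of_base {y : Fam A M} (hy : Compat y)
    (h0 : ∀ (𝔪 : Ideal A) [𝔪.IsMaximal], y (baseObj A 𝔪) = 0) (O : Obj A) : y O = 0 := by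
  set 𝔭' := (maximalIdeal O.carrier).comap (algebraMap A O.carrier) with h𝔭'
  obtain ⟨ψ₁, -, -⟩ := exists_lift A 𝔭' O rfl
  rw [← hy (baseObj A 𝔭') O ψ₁]
  suffices h : y (baseObj A 𝔭') = 0 by rw [h, map_zero]
  obtain ⟨𝔪, h𝔪, hle⟩ := Ideal.exists_le_maximal 𝔭' (Ideal.IsPrime.ne_top inferInstance)
  haveI := h𝔪
  haveI : Module.Flat A (baseObj A 𝔪).carrier := (baseObj A 𝔪).flat
  obtain ⟨𝔮, h𝔮, -, hcomap⟩ := exists_prime_of_ne_zero (B := (baseObj A 𝔪).carrier) 𝔭'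
    ((1 : (baseObj A 𝔪).carrier) ⊗ₜ[A] (1 : A ⧸ 𝔭')) (one_tmul_ne_zero 𝔭' 𝔪 hle)
  haveI := h𝔮
  obtain ⟨ψ₂, hflat, hloc⟩ := exists_lift A 𝔭' (locObj (baseObj A 𝔪) 𝔮)
    ((comap_algebraMap_locObj (baseObj A 𝔪) 𝔮).trans hcomap)
  apply eq_zero_of_flat_local ψ₂ hflat hloc
  rw [hy, ← hy (baseObj A 𝔪) _ (locMap (baseObj A 𝔪) 𝔮), h0 𝔪, map_zero]

end families

end Groth.Agent.Lib.Helper24.CDesc
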