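import Groth.Agent.Lib.Helper24.CDesc3

/-!
# Compatible families for `A ⧸ 𝔭` (helper24)
-/

set_option autoImplicit false
open IsLocalRing TensorProduct

namespace Groth.Agent.Lib.Helper24.CDesc

universe u

variable {A : Type u} [CommRing A] [IsNoetherianRing A] (𝔭 : Ideal A) [𝔭.IsPrime]

omit [IsNoetherianRing A] [𝔭.IsPrime] in
/-- Elements of the ideal generated by `𝔭` die in `R ⊗ A/𝔭`. -/
theorem tmul_one_eq_zero_of_mem {R : Type u} [CommRing R] [Algebra A R] (r : R)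
    (hr : r ∈ 𝔭.map (algebraMap A R)) : r ⊗ₜ[A] (1 : A ⧸ 𝔭) = 0 := by
  have hle : 𝔭.map (algebraMap A R) ≤
      LinearMap.ker (LinearMap.toSpanSingleton R (R ⊗[A] (A ⧸ 𝔭)) (1 ⊗ₜ 1)) := by
    rw [Ideal.map_le_iff_le_comap]
    intro a ha
    rw [Ideal.mem_comap]
    show LinearMap.toSpanSingleton R (R ⊗[A] (A ⧸ 𝔭)) (1 ⊗ₜ 1) (algebraMap A R a) = 0
    rw [LinearMap.toSpanSingleton_apply, algebraMap_smul]
    exact smul_eq_zero_of_mem 𝔭 a ha _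
  have := LinearMap.mem_ker.mp (hle hr)
  rwa [LinearMap.toSpanSingleton_apply, smul_tmul', smul_eq_mul, mul_one] at this

/-- Every element of `(A_𝔭)^ ⊗ A/𝔭` is a "fraction". -/
theorem exists_smul_eq_one_tmul (z : (baseObj A 𝔭).carrier ⊗[A] (A ⧸ 𝔭)) :
    ∃ t : A, t ∉ 𝔭 ∧ ∃ b : A, t • z = 1 ⊗ₜ[A] (Ideal.Quotient.mk 𝔭 b) := by
  -- `z = r ⊗ 1`
  obtain ⟨r, rfl⟩ : ∃ r : (baseObj A 𝔭).carrier, z = r ⊗ₜ[A] (1 : A ⧸ 𝔭) := by
    induction z using TensorProduct.induction_on with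
    | zero => exact ⟨0, (zero_tmul _ _).symm⟩
    | tmul r q =>
      obtain ⟨a, rfl⟩ := Ideal.Quotient.mk_surjective q
      refine ⟨a • r, ?_⟩
      rw [smul_tmul, ← Algebra.algebraMap_eq_smul_one, Ideal.Quotient.algebraMap_eq]
    | add x y hx hy =>
      obtain ⟨r₁, rfl⟩ := hx
      obtain ⟨r₂, rfl⟩ := hy
      exact ⟨r₁ + r₂, (add_tmul _ _ _).symm⟩
  obtain ⟨c, hc⟩ := CplFlat.exists_sub_mem (maximalIdeal (Localization.AtPrime 𝔭))
    (maximalIdeal (Localization.AtPrime 𝔭)).fg_of_isNoetherianRing 1 r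
  obtain ⟨⟨b, t⟩, hbt⟩ := IsLocalization.surj 𝔭.primeCompl c
  refine ⟨t, t.2, b, ?_⟩
  have hc' : r - algebraMap (Localization.AtPrime 𝔭) (baseObj A 𝔭).carrier c ∈
      𝔭.map (algebraMap A (baseObj A 𝔭).carrier) := by
    have hmax : (maximalIdeal (Localization.AtPrime 𝔭) ^ 1).map
        (algebraMap (Localization.AtPrime 𝔭) (AdicCompletion (maximalIdeal (Localization.AtPrime 𝔭))
          (Localization.AtPrime 𝔭))) = 𝔭.map (algebraMap A (baseObj A 𝔭).carrier) := by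
      rw [pow_one]
      exact (congrArg (Ideal.map _)
        (Localization.AtPrime.map_eq_maximalIdeal (I := 𝔭)).symm).trans (Ideal.map_map _ _)
    rw [← hmax]
    exact hc
  have h1 := tmul_one_eq_zero_of_mem 𝔭 _ hc'
  have h2 : (t : A) • algebraMap (Localization.AtPrime 𝔭) (baseObj A 𝔭).carrier c =
      algebraMap A (baseObj A 𝔭).carrier b := by
    rw [IsScalarTower.algebraMap_apply A (Localization.AtPrime 𝔭) (baseObj A 𝔭).carrier b, ← hbt,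
      map_mul, ← IsScalarTower.algebraMap_apply, Algebra.smul_def, mul_comm]
  have h3 : r = (r - algebraMap (Localization.AtPrime 𝔭) (baseObj A 𝔭).carrier c) +
      algebraMap (Localization.AtPrime 𝔭) (baseObj A 𝔭).carrier c := by ring
  rw [h3, add_tmul, h1, zero_add, smul_tmul', h2, Algebra.algebraMap_eq_smul_one, smul_tmul,
    ← Algebra.algebraMap_eq_smul_one, Ideal.Quotient.algebraMap_eq]

theorem exists_of_quotient_prime (x : Fam A (A ⧸ 𝔭)) (hx : Compat x) :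
    ∃ m : A ⧸ 𝔭, ∀ O : Obj A, x O = (1 : O.carrier) ⊗ₜ[A] m := by
  obtain ⟨t, ht, b, hb⟩ := exists_smul_eq_one_tmul 𝔭 (x (baseObj A 𝔭))
  -- Step b
  have hstepb : ∀ (𝔪 : Ideal A) [𝔪.IsMaximal],
      t • x (baseObj A 𝔪) = 1 ⊗ₜ[A] (Ideal.Quotient.mk 𝔭 b) := by
    intro 𝔪 _
    rw [← sub_eq_zero]
    by_contra hw
    haveI : Module.Flat A (baseObj A 𝔪).carrier := (baseObj A 𝔪).flat
    obtain ⟨𝔮, h𝔮, hle, hcomap⟩ := exists_prime_of_ne_zero (B := (baseObj A 𝔪).carrier) 𝔭 _ hw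
    haveI := h𝔮
    obtain ⟨ψ₂, -, -⟩ := exists_lift A 𝔭 (locObj (baseObj A 𝔪) 𝔮)
      ((comap_algebraMap_locObj (baseObj A 𝔪) 𝔮).trans hcomap)
    have h1 : LinearMap.rTensor (A ⧸ 𝔭) (locMap (baseObj A 𝔪) 𝔮).toLinearMap
        (t • x (baseObj A 𝔪) - 1 ⊗ₜ[A] (Ideal.Quotient.mk 𝔭 b)) = 0 := by
      rw [map_sub, map_smul, hx, LinearMap.rTensor_tmul, AlgHom.toLinearMap_apply, map_one,
        ← hx (baseObj A 𝔭) _ ψ₂, ← map_smul, hb, LinearMap.rTensor_tmul, AlgHom.toLinearMap_apply,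
        map_one, sub_self]
    have h2 := map_ker_eq_top_of_rTensor_eq_zero (locMap (baseObj A 𝔪) 𝔮)
      (flat_locMap (baseObj A 𝔪) 𝔮) _ h1
    have : (⊤ : Ideal (locObj (baseObj A 𝔪) 𝔮).carrier) ≤
        maximalIdeal (locObj (baseObj A 𝔪) 𝔮).carrier := by
      rw [← h2]
      exact (Ideal.map_mono hle).trans (map_locMap_le (baseObj A 𝔪) 𝔮)
    exact (IsLocalRing.maximalIdeal.isMaximal _).ne_top (top_le_iff.mp this)
  -- Step c
  have hmem : b ∈ 𝔭 ⊔ Ideal.span {t} := by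
    set 𝔞 := 𝔭 ⊔ Ideal.span {t} with h𝔞
    rw [← Ideal.Quotient.eq_zero_iff_mem]
    apply eq_zero_of_forall_base (A := A)
    intro 𝔪 _
    let π : A ⧸ 𝔭 →ₗ[A] A ⧸ 𝔞 := (Ideal.Quotient.factorₐ A (le_sup_left : 𝔭 ≤ 𝔞)).toLinearMap
    have h1 := congrArg (LinearMap.lTensor (baseObj A 𝔪).carrier π) (hstepb 𝔪)
    rw [map_smul, LinearMap.lTensor_tmul] at h1
    have h2 : π (Ideal.Quotient.mk 𝔭 b) = Ideal.Quotient.mk 𝔞 b := rfl
    rw [h2] at h1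
    rw [← h1]
    exact smul_eq_zero_of_mem 𝔞 t (Ideal.mem_sup_right (Ideal.mem_span_singleton_self t)) _
  obtain ⟨p, hp, q, hq, hpq⟩ := Submodule.mem_sup.mp hmem
  obtain ⟨d, rfl⟩ := Ideal.mem_span_singleton'.mp hq
  refine ⟨Ideal.Quotient.mk 𝔭 d, ?_⟩
  -- Step d
  have hstepd : ∀ (𝔪 : Ideal A) [𝔪.IsMaximal],
      x (baseObj A 𝔪) = 1 ⊗ₜ[A] (Ideal.Quotient.mk 𝔭 d) := by
    intro 𝔪 _
    haveI : Module.Flat A (baseObj A 𝔪).carrier := (baseObj A 𝔪).flat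
    apply smul_injective_of_not_mem (B := (baseObj A 𝔪).carrier) 𝔭 t ht
    show t • x (baseObj A 𝔪) = t • ((1 : (baseObj A 𝔪).carrier) ⊗ₜ[A] (Ideal.Quotient.mk 𝔭 d))
    have hbd : Ideal.Quotient.mk 𝔭 b = t • Ideal.Quotient.mk 𝔭 d := by
      rw [Algebra.smul_def, Ideal.Quotient.algebraMap_eq, ← map_mul, Ideal.Quotient.eq, ← hpq]
      have : p + d * t - t * d = p := by ring
      rw [this]
      exact hp
    rw [hstepb 𝔪, ← tmul_smul, hbd]
  -- Step e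
  intro O
  have hy : Compat (fun O : Obj A => x O - (1 : O.carrier) ⊗ₜ[A] (Ideal.Quotient.mk 𝔭 d)) := by
    intro O O' g
    show LinearMap.rTensor _ g.toLinearMap (x O - 1 ⊗ₜ[A] (Ideal.Quotient.mk 𝔭 d)) = _
    rw [map_sub, hx O O' g, LinearMap.rTensor_tmul, AlgHom.toLinearMap_apply, map_one]
  have := hy.eq_zero_of_base (fun 𝔪 _ => by
    show x (baseObj A 𝔪) - _ = 0
    rw [hstepd 𝔪, sub_self]) O
  exact sub_eq_zero.mp this

end Groth.Agent.Lib.Helper24.CDesc
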