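import Groth.Agent.Lib.Helper24.CDesc4

/-!
# Descent of elements along complete local flat algebras: dévissage (helper24)
-/

set_option autoImplicit false
open IsLocalRing TensorProduct

namespace Groth.Agent.Lib.Helper24.CDesc

universe u

variable {A : Type u} [CommRing A]

/-- Every compatible family for `M` comes from an element of `M`. -/
def Desc (A : Type u) [CommRing A] (M : Type u) [AddCommGroup M] [Module A M] : Prop :=
  ∀ x : Fam A M, Compat x → ∃ m : M, ∀ O : Obj A, x O = (1 : O.carrier) ⊗ₜ[A] m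

theorem desc_of_subsingleton (M : Type u) [AddCommGroup M] [Module A M] [Subsingleton M] :
    Desc A M := by
  intro x _
  refine ⟨0, fun O => ?_⟩
  rw [tmul_zero]
  induction x O using TensorProduct.induction_on with
  | zero => rfl
  | tmul b m => rw [Subsingleton.elim m 0, tmul_zero]
  | add y z hy hz => rw [hy, hz, add_zero]

theorem desc_of_exact {N₁ N₂ N₃ : Type u} [AddCommGroup N₁] [Module A N₁] [AddCommGroup N₂]
    [Module A N₂] [AddCommGroup N₃] [Module A N₃] (f : N₁ →ₗ[A] N₂) (g : N₂ →ₗ[A] N₃)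
    (hf : Function.Injective f) (hg : Function.Surjective g) (hfg : Function.Exact f g)
    (h₁ : Desc A N₁) (h₃ : Desc A N₃) : Desc A N₂ := by
  intro x hx
  have hx₃ : Compat (fun O : Obj A => LinearMap.lTensor O.carrier g (x O)) := by
    intro O O' φ
    show LinearMap.rTensor N₃ φ.toLinearMap (LinearMap.lTensor O.carrier g (x O)) =
      LinearMap.lTensor O'.carrier g (x O')
    rw [← hx O O' φ, ← LinearMap.comp_apply, ← LinearMap.comp_apply,
      LinearMap.rTensor_comp_lTensor, LinearMap.lTensor_comp_rTensor]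
  obtain ⟨m₃, hm₃⟩ := h₃ _ hx₃
  obtain ⟨m₂, rfl⟩ := hg m₃
  have hy : ∀ O : Obj A, ∃ z : O.carrier ⊗[A] N₁,
      LinearMap.lTensor O.carrier f z = x O - 1 ⊗ₜ m₂ := by
    intro O
    apply (lTensor_exact O.carrier hfg hg _).mp
    rw [map_sub, LinearMap.lTensor_tmul, ← hm₃ O]
    exact sub_self _
  choose z hz using hy
  have hinj : ∀ O : Obj A, Function.Injective (LinearMap.lTensor O.carrier f) := fun O => by
    haveI := O.flat
    exact Module.Flat.lTensor_preserves_injective_linearMap f hf
  have hz' : Compat z := by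
    intro O O' φ
    apply hinj O'
    rw [hz O', ← hx O O' φ, ← LinearMap.comp_apply, LinearMap.lTensor_comp_rTensor,
      ← LinearMap.rTensor_comp_lTensor, LinearMap.comp_apply, hz O, map_sub,
      LinearMap.rTensor_tmul, AlgHom.toLinearMap_apply, map_one]
  obtain ⟨m₁, hm₁⟩ := h₁ z hz'
  refine ⟨m₂ + f m₁, fun O => ?_⟩
  have := hz O
  rw [hm₁ O, LinearMap.lTensor_tmul] at this
  rw [tmul_add, this]
  abel

variable [IsNoetherianRing A]

theorem desc_of_finite (M : Type u) [AddCommGroup M] [Module A M] [Module.Finite A M] :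
    Desc A M := by
  apply IsNoetherianRing.induction_on_isQuotientEquivQuotientPrime A (M := M) inferInstance
    (motive := fun N _ _ _ => Desc A N)
  · intro N _ _ _ _
    exact desc_of_subsingleton N
  · intro N _ _ _ p e
    have h3 : Desc A (A ⧸ p.asIdeal) := fun x hx => exists_of_quotient_prime p.asIdeal x hx
    exact desc_of_exact (0 : PUnit.{u + 1} →ₗ[A] N) e.toLinearMap
      (Function.injective_of_subsingleton _) e.surjective
      ((LinearMap.exact_zero_iff_injective _ _).mpr e.injective)
      (desc_of_subsingleton PUnit.{u + 1}) h3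
  · intro N₁ _ _ _ N₂ _ _ _ N₃ _ _ _ f g hf hg hfg h₁ h₃
    exact desc_of_exact f g hf hg hfg h₁ h₃

/-- Bijectivity of `M → lim (B ⊗ M)`. -/
theorem existsUnique_of_finite (M : Type u) [AddCommGroup M] [Module A M] [Module.Finite A M]
    (x : Fam A M) (hx : Compat x) :
    ∃! m : M, ∀ O : Obj A, x O = (1 : O.carrier) ⊗ₜ[A] m := by
  obtain ⟨m, hm⟩ := desc_of_finite M x hx
  refine ⟨m, hm, fun m' hm' => ?_⟩
  rw [← sub_eq_zero]
  apply eq_zero_of_forall_base (A := A)
  intro 𝔪 _
  rw [tmul_sub, ← hm' (baseObj A 𝔪), ← hm (baseObj A 𝔪), sub_self]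

end Groth.Agent.Lib.Helper24.CDesc
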