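import Mathlib
import Groth.Prelude.Def_EGA4b
import Groth.Agent.Lib.Helper24.CMFib1

/-!
# Regular sequences in Cohen–Macaulay fibres (helper24), part 2

* `dim_fibLocRing_quot`: `dim (F_q / I F_q) = dim F'_{q/I}` where `F_q`, `F'` are the fibre local rings
  of `S` and `S/I`.
* `isRegular_iff_of_CM`: in a CM local ring a sequence in the maximal ideal is regular iff it cuts
  the dimension down by its length.
* `exists_fibre_prime`: the prime of the fibre ring over a prime of `S`.
-/

set_option autoImplicit false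
universe u

namespace Groth.Agent.Lib.Helper24.CMFib

open Groth.Agent.Lib.helper3.DimIneq Groth.Agent.Lib.helper3.FibreParam Function
  Groth.Agent.Lib.Helper24.FibCod Groth.Agent.Lib.Helper24.FibRd Groth.Agent.Lib.Helper24.FibMd
  Algebra TensorProduct LocCoh IsLocalRing Groth.Agent.Lib.helper26.Depth

attribute [local instance] Groth.Agent.Lib.helper26.SkFlat.isLocalRing_fibLocRing

section quot

variable (R S : Type u) [CommRing R] [CommRing S] [Algebra R S] [Algebra.FiniteType R S]
  (I : Ideal S) (Q : Ideal (S ⧸ I)) [Q.IsPrime]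

/-- the fibre local ring of `S/I` is the quotient of the fibre local ring of `S` by `I`
(dimensions). -/
theorem dim_fibLocRing_quot :
    ringKrullDim (EGA4.FibLocRing R S (Q.comap (algebraMap S (S ⧸ I))) ⧸
        I.map (algebraMap S (EGA4.FibLocRing R S (Q.comap (algebraMap S (S ⧸ I)))))) =
      ringKrullDim (EGA4.FibLocRing R (S ⧸ I) Q) := by
  have hs : Surjective (algebraMap S (S ⧸ I)) := Ideal.Quotient.mk_surjective
  have h1 := (depth_supportDim_fibLocMod_comap' R hs (S ⧸ I) Q).2
  rw [supportDim_fibLocMod_self] at h1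
  rw [← h1, ← Module.supportDim_quotient_eq_ringKrullDim]
  haveI : IsNoetherianRing (EGA4.FibLocRing R S (Q.comap (algebraMap S (S ⧸ I)))) :=
    isNoetherianRing_fibLocRing R S _
  let e : (EGA4.FibLocRing R S (Q.comap (algebraMap S (S ⧸ I)))) ⊗[S] (S ⧸ I)
      ≃ₗ[EGA4.FibLocRing R S (Q.comap (algebraMap S (S ⧸ I)))]
      (EGA4.FibLocRing R S (Q.comap (algebraMap S (S ⧸ I))) ⧸
        I.map (algebraMap S (EGA4.FibLocRing R S (Q.comap (algebraMap S (S ⧸ I)))))) :=
    (Algebra.TensorProduct.quotIdealMapEquivTensorQuot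
      (EGA4.FibLocRing R S (Q.comap (algebraMap S (S ⧸ I)))) I).symm.toLinearEquiv
  let g' : (S ⧸ I) →ₗ[S] (EGA4.FibLocRing R S (Q.comap (algebraMap S (S ⧸ I))) ⧸
        I.map (algebraMap S (EGA4.FibLocRing R S (Q.comap (algebraMap S (S ⧸ I)))))) :=
    (e.toLinearMap.restrictScalars S).comp
      (TensorProduct.mk S (EGA4.FibLocRing R S (Q.comap (algebraMap S (S ⧸ I)))) (S ⧸ I) 1)
  have hg' : IsBaseChange (EGA4.FibLocRing R S (Q.comap (algebraMap S (S ⧸ I)))) g' :=
    IsBaseChange.of_equiv e (fun x => rfl)
  exact (depth_supportDim_eq_of_isBaseChange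
    (AlgEquiv.refl : EGA4.FibLocRing R S (Q.comap (algebraMap S (S ⧸ I))) ≃ₐ[S]
      EGA4.FibLocRing R S (Q.comap (algebraMap S (S ⧸ I)))) hg'
    (isBaseChange_fibLocModMap R S (Q.comap (algebraMap S (S ⧸ I))) (S ⧸ I))).2

end quot

section regular

variable {F : Type u} [CommRing F] [IsLocalRing F] [IsNoetherianRing F]

/-- in a Cohen–Macaulay local ring, a sequence in the maximal ideal is regular iff it cuts the
dimension down by its length. -/
theorem isRegular_iff_of_CM (hCM : IsCohenMacaulayModule F F) (xs : List F)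
    (hmem : ∀ x ∈ xs, x ∈ maximalIdeal F) :
    RingTheory.Sequence.IsRegular F xs ↔
      ringKrullDim (F ⧸ Ideal.ofList xs) + (xs.length : WithBot ℕ∞) ≤ ringKrullDim F := by
  have hsm : (Ideal.ofList xs • ⊤ : Submodule F F) = Ideal.ofList xs := by
    simp
  have hle := supportDim_le_supportDim_quot_ofList_add_length xs F hmem
  have hq : Module.supportDim F (F ⧸ (Ideal.ofList xs • ⊤ : Submodule F F)) =
      ringKrullDim (F ⧸ Ideal.ofList xs) := by
    rw [hsm]
    exact Module.supportDim_quotient_eq_ringKrullDim _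
  constructor
  · intro hreg
    have := Module.supportDim_add_length_eq_supportDim_of_isRegular xs hreg
    rw [hq, Module.supportDim_self_eq_ringKrullDim] at this
    exact this.le
  · intro h
    have heq : Module.supportDim F (F ⧸ (Ideal.ofList xs • ⊤ : Submodule F F)) +
        (xs.length : WithBot ℕ∞) = Module.supportDim F F := by
      refine le_antisymm ?_ hle
      rw [hq, Module.supportDim_self_eq_ringKrullDim]
      exact h
    have hw := isWeaklyRegular_of_supportDim_quot_ofList xs F hCM hmem heq
    exact isRegular_of_mem (I := maximalIdeal F) (maximalIdeal_smul_top_ne_top F) hw hmem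

end regular

section point

variable (R S : Type u) [CommRing R] [CommRing S] [Algebra R S]

/-- the prime of the fibre ring over a prime of `S`. -/
theorem exists_fibre_prime (q : Ideal S) [q.IsPrime] :
    ∃ 𝔮 : Ideal ((q.comap (algebraMap R S)).Fiber S), 𝔮.IsPrime ∧
      𝔮.comap (includeRight : S →ₐ[R] (q.comap (algebraMap R S)).Fiber S) = q := by
  let q' : PrimeSpectrum S := ⟨q, inferInstance⟩
  let P := PrimeSpectrum.preimageHomeomorphFiber R S (PrimeSpectrum.comap (algebraMap R S) q')
    ⟨q', rfl⟩
  refine ⟨P.asIdeal, P.isPrime, ?_⟩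
  have h := (PrimeSpectrum.preimageHomeomorphFiber R S
    (PrimeSpectrum.comap (algebraMap R S) q')).symm_apply_apply ⟨q', rfl⟩
  have h2 := congrArg (fun z => z.1.asIdeal) h
  exact h2

/-- elements of `q` map into the maximal ideal of the fibre local ring. -/
theorem algebraMap_mem_maximalIdeal_fibLocRing (q : Ideal S) [q.IsPrime] (x : S) (hx : x ∈ q) :
    algebraMap S (EGA4.FibLocRing R S q) x ∈ maximalIdeal (EGA4.FibLocRing R S q) := by
  have h1 : algebraMap S (Localization.AtPrime q) x ∈ maximalIdeal (Localization.AtPrime q) :=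
    (IsLocalization.AtPrime.to_map_mem_maximal_iff (Localization.AtPrime q) q x).mpr hx
  have hsurj : Surjective (Ideal.Quotient.mk ((q.comap (algebraMap R S)).map
      (algebraMap R (Localization.AtPrime q)))) := Ideal.Quotient.mk_surjective
  haveI := IsLocalHom.of_surjective _ hsurj
  rw [mem_maximalIdeal, mem_nonunits_iff] at h1 ⊢
  intro hu
  have h2 : algebraMap S (EGA4.FibLocRing R S q) x = Ideal.Quotient.mk ((q.comap (algebraMap R S)).map
      (algebraMap R (Localization.AtPrime q))) (algebraMap S (Localization.AtPrime q) x) := rfl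
  rw [h2] at hu
  exact h1 (isUnit_of_map_unit _ _ hu)

end point

end Groth.Agent.Lib.Helper24.CMFib
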