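import Mathlib
import Groth.Prelude.Def_EGA4b
import Groth.Agent.Lib.Helper24.CMFib2

/-!
# Regular sequences in Cohen–Macaulay fibres (helper24), part 3

`R → S` of finite type with Cohen–Macaulay fibres, equidimensional of dimension `d`; `f` a list in `S`.
* `isRegular_fibLocRing_iff`: for a prime `Q` of `S/(f)` with preimage `q`, `f` is a regular sequence in
  `S_q / p S_q` iff `|f| ≤ d` and the local dimension of the fibre of `S/(f)` at `Q` is at most `d - |f|`.
* `exists_isOpen_isRegular_fibLocRing`: the locus in `V(f)` is open.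
-/

set_option autoImplicit false
universe u

namespace Groth.Agent.Lib.Helper24.CMFib

open Groth.Agent.Lib.helper3.DimIneq Groth.Agent.Lib.helper3.FibreParam Function
  Groth.Agent.Lib.Helper24.FibCod Groth.Agent.Lib.Helper24.FibRd Groth.Agent.Lib.Helper24.FibMd
  Algebra TensorProduct LocCoh IsLocalRing Groth.Agent.Lib.helper26.Depth

attribute [local instance] Groth.Agent.Lib.helper26.SkFlat.isLocalRing_fibLocRing

variable (R S : Type u) [CommRing R] [CommRing S] [Algebra R S] [Algebra.FiniteType R S] (d : ℕ)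
  (hCM : ∀ p : PrimeSpectrum R, LocCoh.IsCohenMacaulayRing (p.asIdeal.Fiber S))
  (heq : ∀ p : PrimeSpectrum R, ∀ P ∈ minimalPrimes (p.asIdeal.Fiber S),
    ringKrullDim (p.asIdeal.Fiber S ⧸ P) = (d : WithBot ℕ∞))
  (f : List S)

include hCM heq in
theorem isRegular_fibLocRing_iff (Q : Ideal (S ⧸ Ideal.ofList f)) [Q.IsPrime] :
    RingTheory.Sequence.IsRegular
        (EGA4.FibLocRing R S (Q.comap (algebraMap S (S ⧸ Ideal.ofList f))))
        (f.map (algebraMap S
          (EGA4.FibLocRing R S (Q.comap (algebraMap S (S ⧸ Ideal.ofList f)))))) ↔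
      f.length ≤ d ∧
      ringKrullDim (EGA4.FibLocRing R (S ⧸ Ideal.ofList f) Q) + ((tdN R Q : ℕ) : WithBot ℕ∞) ≤
        ((d - f.length : ℕ) : WithBot ℕ∞) := by
  haveI : Algebra.FiniteType R (S ⧸ Ideal.ofList f) :=
    Algebra.FiniteType.of_surjective (Ideal.Quotient.mkₐ R (Ideal.ofList f))
      Ideal.Quotient.mk_surjective
  obtain ⟨𝔮, h𝔮p, h𝔮⟩ := exists_fibre_prime R S (Q.comap (algebraMap S (S ⧸ Ideal.ofList f)))
  haveI := h𝔮p
  have hB := dim_fibLocRing_add_tdN_eq R S ((Q.comap (algebraMap S (S ⧸ Ideal.ofList f))).comap (algebraMap R S)) 𝔮 (Q.comap (algebraMap S (S ⧸ Ideal.ofList f))) h𝔮 d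
    (heq ⟨(Q.comap (algebraMap S (S ⧸ Ideal.ofList f))).comap (algebraMap R S), inferInstance⟩)
  have hC := isCohenMacaulayModule_fibLocRing R S ((Q.comap (algebraMap S (S ⧸ Ideal.ofList f))).comap (algebraMap R S)) 𝔮 (Q.comap (algebraMap S (S ⧸ Ideal.ofList f))) h𝔮
    (hCM ⟨(Q.comap (algebraMap S (S ⧸ Ideal.ofList f))).comap (algebraMap R S), inferInstance⟩)
  haveI : IsNoetherianRing (EGA4.FibLocRing R S (Q.comap (algebraMap S (S ⧸ Ideal.ofList f)))) := isNoetherianRing_fibLocRing R S _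
  have hIq : Ideal.ofList f ≤ (Q.comap (algebraMap S (S ⧸ Ideal.ofList f))) := by
    intro x hx
    show algebraMap S (S ⧸ Ideal.ofList f) x ∈ Q
    rw [Ideal.Quotient.algebraMap_eq, Ideal.Quotient.eq_zero_iff_mem.mpr hx]
    exact zero_mem _
  have hmem : ∀ x ∈ f.map (algebraMap S (EGA4.FibLocRing R S (Q.comap (algebraMap S (S ⧸ Ideal.ofList f))))),
      x ∈ maximalIdeal (EGA4.FibLocRing R S (Q.comap (algebraMap S (S ⧸ Ideal.ofList f)))) := by
    intro x hx
    obtain ⟨y, hy, rfl⟩ := List.mem_map.mp hx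
    exact algebraMap_mem_maximalIdeal_fibLocRing R S (Q.comap (algebraMap S (S ⧸ Ideal.ofList f))) y (hIq (Ideal.subset_span hy))
  rw [isRegular_iff_of_CM hC _ hmem, List.length_map, ← Ideal.map_ofList,
    dim_fibLocRing_quot R S (Ideal.ofList f) Q]
  have htd : tdN R (Q.comap (algebraMap S (S ⧸ Ideal.ofList f))) = tdN R Q := tdN_comap_mk R (Ideal.ofList f) Q
  obtain ⟨κ, hκ⟩ := exists_nat_dim_fibLocRing' R Q
  obtain ⟨δ, hδ⟩ := exists_nat_dim_fibLocRing' R (Q.comap (algebraMap S (S ⧸ Ideal.ofList f)))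
  rw [hδ, htd] at hB
  rw [hκ, hδ]
  have hB' : δ + tdN R Q = d := by exact_mod_cast hB
  constructor
  · intro h
    have h1 : κ + f.length ≤ δ := by exact_mod_cast h
    refine ⟨by omega, ?_⟩
    have h2 : κ + tdN R Q ≤ d - f.length := by omega
    exact_mod_cast h2
  · rintro ⟨h0, h⟩
    have h1 : κ + tdN R Q ≤ d - f.length := by exact_mod_cast h
    have h2 : κ + f.length ≤ δ := by omega
    exact_mod_cast h2

include hCM heq in
/-- the locus in `V(f)` where `f` is a regular sequence on the fibre local ring is open in `V(f)`. -/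
theorem exists_isOpen_isRegular_fibLocRing :
    ∃ U : Set (PrimeSpectrum S), IsOpen U ∧ ∀ q : PrimeSpectrum S, Ideal.ofList f ≤ q.asIdeal →
      (q ∈ U ↔ RingTheory.Sequence.IsRegular (EGA4.FibLocRing R S q.asIdeal)
        (f.map (algebraMap S (EGA4.FibLocRing R S q.asIdeal)))) := by
  haveI : Algebra.FiniteType R (S ⧸ Ideal.ofList f) :=
    Algebra.FiniteType.of_surjective (Ideal.Quotient.mkₐ R (Ideal.ofList f))
      Ideal.Quotient.mk_surjective
  have hsurj : Surjective (Ideal.Quotient.mk (Ideal.ofList f)) := Ideal.Quotient.mk_surjective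
  have hrange : ∀ q : PrimeSpectrum S, Ideal.ofList f ≤ q.asIdeal →
      ∃ Q : PrimeSpectrum (S ⧸ Ideal.ofList f),
        PrimeSpectrum.comap (Ideal.Quotient.mk (Ideal.ofList f)) Q = q := by
    intro q hq
    have : q ∈ Set.range (PrimeSpectrum.comap (Ideal.Quotient.mk (Ideal.ofList f))) := by
      rw [range_comap_of_surjective _ _ hsurj, Ideal.mk_ker]
      exact hq
    exact this
  by_cases hid : f.length ≤ d
  · let W : Set (PrimeSpectrum (S ⧸ Ideal.ofList f)) :=
      {Q | ringKrullDim (EGA4.FibLocRing R (S ⧸ Ideal.ofList f) Q.asIdeal) +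
        ((tdN R Q.asIdeal : ℕ) : WithBot ℕ∞) ≤ ((d - f.length : ℕ) : WithBot ℕ∞)}
    have hW : IsOpen W := isOpen_setOf_dim_fibLocRing_add_tdN_le R (S ⧸ Ideal.ofList f) (d - f.length)
    have hemb := PrimeSpectrum.isClosedEmbedding_comap_of_surjective (S ⧸ Ideal.ofList f)
      (Ideal.Quotient.mk (Ideal.ofList f)) hsurj
    refine ⟨(PrimeSpectrum.comap (Ideal.Quotient.mk (Ideal.ofList f)) '' Wᶜ)ᶜ, ?_, ?_⟩
    · exact (hemb.isClosedMap _ hW.isClosed_compl).isOpen_compl
    · intro q hq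
      obtain ⟨Q, rfl⟩ := hrange q hq
      have key := isRegular_fibLocRing_iff R S d hCM heq f Q.asIdeal
      rw [Set.mem_compl_iff, hemb.injective.mem_set_image, Set.notMem_compl_iff]
      refine Iff.trans ?_ key.symm
      exact ⟨fun h => ⟨hid, h⟩, fun h => h.2⟩
  · refine ⟨∅, isOpen_empty, ?_⟩
    intro q hq
    obtain ⟨Q, rfl⟩ := hrange q hq
    have key := isRegular_fibLocRing_iff R S d hCM heq f Q.asIdeal
    simp only [Set.mem_empty_iff_false, false_iff]
    intro hreg
    exact hid (key.mp hreg).1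

end Groth.Agent.Lib.Helper24.CMFib
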