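import Groth.Agent.Lib.Helper24.CohenIso
import Groth.Agent.Lib.Helper24.FlatNilSmooth

/-!
# Homomorphisms of flat complete local algebras inducing isomorphisms on closed fibres (helper24)

`bijective_of_flat`: `B`, `B'` complete local `A`-algebras with `𝔞 B = 𝔪_B`, `𝔞 B' = 𝔪_B'`, `B`
Noetherian, `B'` flat over `A`.  An `A`-algebra map `B → B'` which is surjective on residue fields
is bijective.  (EGA 0_IV 19.7.1.5-style.)
-/

set_option autoImplicit false
universe u

namespace Groth.Agent.Lib.Helper24.CohenAlgIso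

open IsLocalRing

theorem bijective_of_flat {A B B' : Type*} [CommRing A] [CommRing B] [IsLocalRing B]
    [IsNoetherianRing B] [IsAdicComplete (maximalIdeal B) B] [CommRing B'] [IsLocalRing B']
    [IsAdicComplete (maximalIdeal B') B'] [Algebra A B] [Algebra A B'] [Module.Flat A B']
    (𝔞 : Ideal A) (hm : 𝔞.map (algebraMap A B) = maximalIdeal B)
    (hm' : 𝔞.map (algebraMap A B') = maximalIdeal B') (φ : B →ₐ[A] B')
    (hres : Function.Surjective ((residue B').comp φ.toRingHom)) : Function.Bijective φ := by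
  have hmap : (maximalIdeal B).map φ.toRingHom = maximalIdeal B' := by
    rw [← hm, Ideal.map_map, ← hm']
    congr 1
    exact φ.comp_algebraMap
  have hsurj : Function.Surjective φ :=
    Groth.Agent.Lib.Helper24.CohenIso.surjective_of_residue φ.toRingHom hmap hres
  refine ⟨?_, hsurj⟩
  have hNm : RingHom.ker φ.toRingHom ≤ maximalIdeal B :=
    IsLocalRing.le_maximalIdeal (RingHom.ker_ne_top _)
  have hN : RingHom.ker φ.toRingHom ≤ maximalIdeal B * RingHom.ker φ.toRingHom := by
    intro x hx
    have hx0 : φ x = 0 := (RingHom.mem_ker).1 hx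
    have h1 : x ∈ LinearMap.ker φ.toLinearMap ⊓ 𝔞 • (⊤ : Submodule A B) := by
      rw [Submodule.mem_inf]
      refine ⟨LinearMap.mem_ker.2 hx0, ?_⟩
      rw [Ideal.smul_top_eq_map]
      show x ∈ 𝔞.map (algebraMap A B)
      rw [hm]
      exact hNm hx
    have h2 := Groth.Agent.Lib.Helper24.FlatNilSmooth.ker_inf_smul_top_le 𝔞 φ.toLinearMap hsurj h1
    have h3 : 𝔞 • LinearMap.ker φ.toLinearMap ≤
        (maximalIdeal B * RingHom.ker φ.toRingHom).restrictScalars A := by
      rw [Submodule.smul_le]
      intro a ha n hn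
      have hn0 : φ n = 0 := LinearMap.mem_ker.1 hn
      have hn' : n ∈ RingHom.ker φ.toRingHom := (RingHom.mem_ker).2 hn0
      show a • n ∈ maximalIdeal B * RingHom.ker φ.toRingHom
      rw [Algebra.smul_def]
      refine Ideal.mul_mem_mul ?_ hn'
      rw [← hm]
      exact Ideal.mem_map_of_mem _ ha
    exact h3 h2
  have hbot : RingHom.ker φ.toRingHom = ⊥ :=
    Submodule.eq_bot_of_le_smul_of_le_jacobson_bot (maximalIdeal B) _
      (IsNoetherian.noetherian _) (by rw [Ideal.smul_eq_mul]; exact hN)
      (IsLocalRing.maximalIdeal_le_jacobson _)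
  exact (RingHom.injective_iff_ker_eq_bot φ.toRingHom).2 hbot

end Groth.Agent.Lib.Helper24.CohenAlgIso
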