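import Mathlib
import Groth.Agent.Lib.Helper24.CohenFlat5
import Groth.Agent.S0542

/-!
# Flat lifts of complete regular local rings, final form (helper24)

`exists_flat_lift_noeth`: for a Noetherian local ring `A` with residue field `k` and a complete
regular local `k`-algebra `B₀` there is a complete Noetherian local flat `A`-algebra `B` with
`k ⊗_A B ≃ B₀` (EGA 0_IV 19.7.1.5 in the regular case).
-/

set_option autoImplicit false
universe u

open TensorProduct IsLocalRing

namespace Groth.Agent.Lib.Helper24.CohenFlat

theorem exists_flat_lift' {A : Type u} [CommRing A] [IsLocalRing A]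
    (Ah : Type u) [CommRing Ah] [IsLocalRing Ah] [IsNoetherianRing Ah]
    [IsAdicComplete (maximalIdeal Ah) Ah] [Algebra A Ah] [Module.Flat A Ah]
    [IsLocalHom (algebraMap A Ah)]
    (hmA : (maximalIdeal A).map (algebraMap A Ah) = maximalIdeal Ah)
    (hbij : Function.Bijective (IsLocalRing.ResidueField.map (algebraMap A Ah)))
    (B₀ : Type u) [CommRing B₀] [IsRegularLocalRing B₀] [IsAdicComplete (maximalIdeal B₀) B₀]
    [Algebra (ResidueField A) B₀] :
    ∃ (B : Type u) (_ : CommRing B) (_ : IsLocalRing B) (_ : IsNoetherianRing B)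
      (_ : Algebra A B) (_ : IsLocalHom (algebraMap A B)),
      IsAdicComplete (maximalIdeal B) B ∧ Module.Flat A B ∧
        Nonempty (ResidueField A ⊗[A] B ≃ₐ[ResidueField A] B₀) := by
  let eκ : ResidueField A ≃+* ResidueField Ah := RingEquiv.ofBijective _ hbij
  refine exists_flat_lift Ah hmA B₀
    ((algebraMap (ResidueField A) B₀).comp (eκ.symm : ResidueField Ah →+* ResidueField A)) ?_
  intro a
  have h1 : residue Ah (algebraMap A Ah a) = eκ (residue A a) :=
    (IsLocalRing.ResidueField.map_residue (algebraMap A Ah) a).symm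
  rw [h1]
  show algebraMap (ResidueField A) B₀ (eκ.symm (eκ (residue A a))) = _
  rw [RingEquiv.symm_apply_apply]

theorem exists_flat_lift_noeth {A : Type u} [CommRing A] [IsLocalRing A] [IsNoetherianRing A]
    (B₀ : Type u) [CommRing B₀] [IsRegularLocalRing B₀] [IsAdicComplete (maximalIdeal B₀) B₀]
    [Algebra (ResidueField A) B₀] :
    ∃ (B : Type u) (_ : CommRing B) (_ : IsLocalRing B) (_ : IsNoetherianRing B)
      (_ : Algebra A B) (_ : IsLocalHom (algebraMap A B)),
      IsAdicComplete (maximalIdeal B) B ∧ Module.Flat A B ∧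
        Nonempty (ResidueField A ⊗[A] B ≃ₐ[ResidueField A] B₀) := by
  have fg : (maximalIdeal A).FG := (maximalIdeal A).fg_of_isNoetherianRing
  haveI : IsNoetherianRing (AdicCompletion (maximalIdeal A) A) :=
    Groth.Agent.S0542.result A (maximalIdeal A) fg
  exact exists_flat_lift' (AdicCompletion (maximalIdeal A) A)
    (AdicCompletion.maximalIdeal_eq_map (R := A)).symm
    (AdicCompletion.residueField_map_bijective_of_fg fg) B₀

end Groth.Agent.Lib.Helper24.CohenFlat
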