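import Mathlib
import Groth.Agent.Lib.Helper24.CohenFlat5
import Groth.Agent.S0564

/-!
# Flat Cohen presentations of local homomorphisms (EGA 0_IV 19.8.x), helper24

* `ps_hom_ext`: ring maps `W⟦X₁..Xₙ⟧ → R` into an `I`-adically separated ring agreeing on constants
  and on the variables (sent into `I`) are equal.
* `exists_presentation`: for a local hom `A → B` of complete Noetherian local rings there are
  `R = Λ⟦T₁..Tₙ⟧ ↠ A`, `S = Λ'⟦Y₁..Y_m⟧ ↠ B`, `τ : R → S` flat with `S/𝔪_R S` regular, commuting square.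
-/

set_option autoImplicit false
universe u

open TensorProduct IsLocalRing

namespace Groth.Agent.Lib.Helper24.CohenFlat

theorem ps_hom_ext {W R : Type u} [CommRing W] [CommRing R] (I : Ideal R) [IsHausdorff I R]
    (n : ℕ) (f g : MvPowerSeries (Fin n) W →+* R)
    (hC : f.comp MvPowerSeries.C = g.comp MvPowerSeries.C)
    (hX : ∀ i, f (MvPowerSeries.X i) = g (MvPowerSeries.X i))
    (hI : ∀ i, f (MvPowerSeries.X i) ∈ I) : f = g := by
  classical
  ext p
  rw [← sub_eq_zero]
  apply IsHausdorff.haus' (I := I)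
  intro k
  rw [SModEq.zero, smul_eq_mul, Ideal.mul_top]
  let q : R →+* R ⧸ I ^ k := Ideal.Quotient.mk (I ^ k)
  letI : Algebra W (R ⧸ I ^ k) := (q.comp (f.comp MvPowerSeries.C)).toAlgebra
  let F : MvPowerSeries (Fin n) W →ₐ[W] (R ⧸ I ^ k) :=
    { q.comp f with
      commutes' := fun w => by
        show q (f (algebraMap W (MvPowerSeries (Fin n) W) w)) = q (f (MvPowerSeries.C w))
        rw [MvPowerSeries.algebraMap_apply, Algebra.algebraMap_self, RingHom.id_apply] }
  let G : MvPowerSeries (Fin n) W →ₐ[W] (R ⧸ I ^ k) :=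
    { q.comp g with
      commutes' := fun w => by
        show q (g (algebraMap W (MvPowerSeries (Fin n) W) w)) = q (f (MvPowerSeries.C w))
        rw [MvPowerSeries.algebraMap_apply, Algebra.algebraMap_self, RingHom.id_apply]
        have := congrArg (fun h : W →+* R => h w) hC
        simp only [RingHom.comp_apply] at this
        rw [this] }
  let z : Fin n → R ⧸ I ^ k := fun i => q (f (MvPowerSeries.X i))
  have hz : ∀ i, z i ^ (k + 1) = 0 := by
    intro i
    show q (f (MvPowerSeries.X i)) ^ (k + 1) = 0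
    rw [← map_pow, Ideal.Quotient.eq_zero_iff_mem, pow_succ]
    exact Ideal.mul_mem_right _ _ (Ideal.pow_mem_pow (hI i) k)
  have hF : F = Groth.Agent.LibPS29.ev z k hz :=
    Groth.Agent.LibPS29.algHom_eq_ev z k hz F (fun i => rfl)
  have hG : G = Groth.Agent.LibPS29.ev z k hz :=
    Groth.Agent.LibPS29.algHom_eq_ev z k hz G (fun i => by
      show q (g (MvPowerSeries.X i)) = q (f (MvPowerSeries.X i))
      rw [hX])
  have hFG : F p = G p := by rw [hF, hG]
  have : q (f p) = q (g p) := hFG
  rw [← sub_eq_zero, ← map_sub, Ideal.Quotient.eq_zero_iff_mem] at this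
  exact this

theorem exists_presentation {A B : Type u} [CommRing A] [CommRing B]
    [IsLocalRing A] [IsLocalRing B] [IsNoetherianRing A] [IsNoetherianRing B]
    [IsAdicComplete (maximalIdeal A) A] [IsAdicComplete (maximalIdeal B) B]
    [Algebra A B] [IsLocalHom (algebraMap A B)] :
    ∃ (Λ Λ' : Type u) (_ : CommRing Λ) (_ : CommRing Λ') (_ : IsLocalRing Λ) (n m : ℕ)
      (ρ : MvPowerSeries (Fin n) Λ →+* A) (σ : MvPowerSeries (Fin m) Λ' →+* B)
      (τ : MvPowerSeries (Fin n) Λ →+* MvPowerSeries (Fin m) Λ'),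
      ((CharZero (ResidueField A) ∧ IsField Λ ∧ IsField Λ') ∨
        (¬ CharZero (ResidueField A) ∧ CAlg.IsCohenRing Λ ∧ CAlg.IsCohenRing Λ')) ∧
        Function.Surjective ρ ∧ Function.Surjective σ ∧ σ.comp τ = (algebraMap A B).comp ρ ∧
        τ.Flat ∧ IsRegularRing (MvPowerSeries (Fin m) Λ' ⧸
          (maximalIdeal (MvPowerSeries (Fin n) Λ)).map τ) := by
  classical
  obtain ⟨WA, _, _, hWA, hWAn, hWAc, vA, eA, hvAloc, hvA⟩ :=
    Groth.Agent.Lib.Helper24.CohenCoeff.exists_coeff_ring A
  obtain ⟨WB, _, _, hWB, hWBn, hWBc, vB, eB, hvBloc, hvB⟩ :=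
    Groth.Agent.Lib.Helper24.CohenCoeff.exists_coeff_ring B
  haveI := hWAn; haveI := hWAc; haveI := hWBn; haveI := hWBc; haveI := hvAloc; haveI := hvBloc
  -- generators
  obtain ⟨x, hx⟩ := exists_gens (maximalIdeal A) (IsNoetherian.noetherian _)
  obtain ⟨y, hy⟩ := exists_gens (maximalIdeal B) (IsNoetherian.noetherian _)
  generalize Submodule.spanFinrank (maximalIdeal A) = n at x hx
  generalize Submodule.spanFinrank (maximalIdeal B) = d at y hy
  -- the presentation of `A`
  have hresA : Function.Surjective ((residue A).comp vA) := by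
    intro z
    obtain ⟨w, hw⟩ := IsLocalRing.residue_surjective (eA.symm z)
    refine ⟨w, ?_⟩
    rw [RingHom.comp_apply, hvA, hw, RingEquiv.apply_symm_apply]
  have hxA : maximalIdeal A = (maximalIdeal WA).map vA ⊔ Ideal.span (Set.range x) := by
    apply le_antisymm
    · rw [hx]; exact le_sup_right
    · refine sup_le ?_ (le_of_eq hx)
      exact ((IsLocalRing.local_hom_TFAE vA).out 0 2).1 hvAloc
  obtain ⟨ρ, hρC, hρX, hρsurj, hρm⟩ :=
    Groth.Agent.Lib.Helper24.CohenPS.exists_ps_surjective vA hresA n x hxA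
  -- the presentation of `B`
  have hresB : Function.Surjective ((residue B).comp vB) := by
    intro z
    obtain ⟨w, hw⟩ := IsLocalRing.residue_surjective (eB.symm z)
    refine ⟨w, ?_⟩
    rw [RingHom.comp_apply, hvB, hw, RingEquiv.apply_symm_apply]
  let y' : Fin (d + n) → B :=
    Fin.addCases (motive := fun _ => B) y (fun j => algebraMap A B (x j))
  have hy'l : ∀ i : Fin d, y' (Fin.castAdd n i) = y i := fun i =>
    Fin.addCases_left (motive := fun _ => B) i
  have hy'r : ∀ j : Fin n, y' (Fin.natAdd d j) = algebraMap A B (x j) := fun j =>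
    Fin.addCases_right (motive := fun _ => B) j
  have hxm : ∀ j, x j ∈ maximalIdeal A := fun j => by
    rw [← hx]; exact Ideal.subset_span ⟨j, rfl⟩
  have hmapAB : (maximalIdeal A).map (algebraMap A B) ≤ maximalIdeal B :=
    ((IsLocalRing.local_hom_TFAE (algebraMap A B)).out 0 2).1 ‹IsLocalHom (algebraMap A B)›
  have hy'mem : ∀ i, y' i ∈ maximalIdeal B := by
    intro i
    refine Fin.addCases (fun i => ?_) (fun j => ?_) i
    · rw [hy'l, ← hy]
      exact Ideal.subset_span ⟨i, rfl⟩
    · rw [hy'r]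
      exact hmapAB (Ideal.mem_map_of_mem _ (hxm j))
  have hyB : maximalIdeal B = (maximalIdeal WB).map vB ⊔ Ideal.span (Set.range y') := by
    apply le_antisymm
    · rw [← hy]
      refine le_trans ?_ le_sup_right
      rw [Ideal.span_le]
      rintro _ ⟨i, rfl⟩
      exact Ideal.subset_span ⟨Fin.castAdd n i, hy'l i⟩
    · refine sup_le ?_ ?_
      · exact ((IsLocalRing.local_hom_TFAE vB).out 0 2).1 hvBloc
      · rw [Ideal.span_le]
        rintro _ ⟨i, rfl⟩
        exact hy'mem i
  obtain ⟨σ, hσC, hσX, hσsurj, hσm⟩ :=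
    Groth.Agent.Lib.Helper24.CohenPS.exists_ps_surjective vB hresB (d + n) y' hyB
  -- instances on `S`
  haveI hSreg : IsRegularLocalRing (MvPowerSeries (Fin (d + n)) WB) :=
    isRegularLocalRing_ps WB hWB (d + n)
  haveI hScpl : IsAdicComplete (maximalIdeal (MvPowerSeries (Fin (d + n)) WB))
      (MvPowerSeries (Fin (d + n)) WB) :=
    Groth.Agent.LibCR29.isAdicComplete_mvPowerSeries (d + n) WB
  -- the map `WA → B`
  let θ : WA →+* B := (algebraMap A B).comp vA
  haveI hθloc : IsLocalHom θ := RingHom.isLocalHom_comp _ _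
  -- lift along `σ`
  have hJ : RingHom.ker σ ≠ ⊤ := RingHom.ker_ne_top σ
  haveI hlocQ : IsLocalRing (MvPowerSeries (Fin (d + n)) WB ⧸ RingHom.ker σ) :=
    Groth.Agent.Lib.helper15.isLocalRing_quotient _ hJ
  let eσ : (MvPowerSeries (Fin (d + n)) WB ⧸ RingHom.ker σ) ≃+* B :=
    RingHom.quotientKerEquivOfSurjective hσsurj
  have heσ : ∀ s, eσ (Ideal.Quotient.mk _ s) = σ s := fun s => rfl
  let u : WA →+* (MvPowerSeries (Fin (d + n)) WB ⧸ RingHom.ker σ) :=
    (eσ.symm : B →+* _).comp θ
  haveI huloc : IsLocalHom u := by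
    haveI : IsLocalHom (eσ.symm : B →+* (MvPowerSeries (Fin (d + n)) WB ⧸ RingHom.ker σ)) :=
      ⟨fun a ha => by
        have := ha.map (eσ : _ →+* B)
        simpa using this⟩
    exact RingHom.isLocalHom_comp _ _
  obtain ⟨φ, hφloc, hφ⟩ := Groth.Agent.S2456.result hWA (RingHom.ker σ) hJ u
  have hσφ : ∀ w : WA, σ (φ w) = θ w := by
    intro w
    have h1 : Ideal.Quotient.mk (RingHom.ker σ) (φ w) = u w := by
      rw [← hφ]; rfl
    have h2 := congrArg eσ h1
    rw [heσ] at h2
    rw [h2]
    show eσ (eσ.symm (θ w)) = θ w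
    exact eσ.apply_symm_apply _
  -- `τ`
  obtain ⟨τ, hτC, hτX⟩ := exists_ps_hom φ n
    (fun j => (MvPowerSeries.X (Fin.natAdd d j) : MvPowerSeries (Fin (d + n)) WB))
    (fun j => Groth.Agent.LibCR29.X_mem_maximalIdeal_ps _)
  -- characteristics
  set c : ℕ := ringChar (ResidueField WA) with hc
  have hcA : ringChar (ResidueField WA) = c := rfl
  haveI hcharWA : CharP (ResidueField WA) c := ringChar.charP _
  haveI hcharA : CharP (ResidueField A) c :=
    (RingHom.charP_iff (eA : ResidueField WA →+* ResidueField A) eA.injective c).1 inferInstance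
  have hcB : ringChar (ResidueField WB) = c := by
    let f : ResidueField WA →+* ResidueField WB :=
      ((eB.symm : ResidueField B →+* ResidueField WB).comp
        (IsLocalRing.ResidueField.map (algebraMap A B))).comp
        (eA : ResidueField WA →+* ResidueField A)
    haveI : CharP (ResidueField WB) c := (RingHom.charP_iff f f.injective c).1 inferInstance
    exact ringChar.eq _ c
  have hmap : (maximalIdeal (MvPowerSeries (Fin n) WA)).map τ = aIdeal WB c n d :=
    map_maximalIdeal WA WB hWA c hcA n d τ hτX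
  -- `τ` is local
  haveI hτloc : IsLocalHom τ := by
    refine ⟨fun p hp => ?_⟩
    by_contra hnp
    have hpm : p ∈ maximalIdeal (MvPowerSeries (Fin n) WA) := (IsLocalRing.mem_maximalIdeal p).2 hnp
    have h1 : τ p ∈ aIdeal WB c n d := by
      rw [← hmap]; exact Ideal.mem_map_of_mem _ hpm
    have h2 : aIdeal WB c n d ≤ maximalIdeal (MvPowerSeries (Fin (d + n)) WB) := by
      rw [maximalIdeal_S WB hWB c hcB n d]; exact le_sup_left
    exact (IsLocalRing.mem_maximalIdeal _).1 (h2 h1) hp
  have hτflat : τ.Flat := flat_tau WA WB hWA hWB c hcA hcB n d τ hτX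
  -- regularity of the fibre
  have hregq : IsRegularRing (MvPowerSeries (Fin (d + n)) WB ⧸
      (maximalIdeal (MvPowerSeries (Fin n) WA)).map τ) := by
    rw [hmap]
    obtain ⟨hreg, -, -⟩ := quotient_regular WB hWB c hcB n d
    haveI := hreg
    exact { isRegularLocalRing_localization := fun p _ => Groth.Agent.S0564.result _ p }
  -- commutativity
  have hcomm : σ.comp τ = (algebraMap A B).comp ρ := by
    refine ps_hom_ext (maximalIdeal B) n _ _ ?_ ?_ ?_
    · ext w
      show σ (τ (MvPowerSeries.C w)) = algebraMap A B (ρ (MvPowerSeries.C w))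
      have hC1 : τ (MvPowerSeries.C w) = φ w := by rw [← hτC]; rfl
      have hC2 : ρ (MvPowerSeries.C w) = vA w := by rw [← hρC]; rfl
      rw [hC1, hC2, hσφ]
      rfl
    · intro j
      show σ (τ (MvPowerSeries.X j)) = algebraMap A B (ρ (MvPowerSeries.X j))
      rw [hτX, hσX, hy'r, hρX]
    · intro j
      show σ (τ (MvPowerSeries.X j)) ∈ _
      rw [hτX, hσX]
      exact hy'mem _
  -- the characteristic cases
  obtain ⟨-, hA0, hA1⟩ := cohen_cases WA hWA
  obtain ⟨-, hB0, hB1⟩ := cohen_cases WB hWB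
  refine ⟨WA, WB, inferInstance, inferInstance, inferInstance, n, d + n, ρ, σ, τ, ?_, hρsurj,
    hσsurj, hcomm, hτflat, hregq⟩
  by_cases hc0 : c = 0
  · left
    refine ⟨?_, hA0 (hcA.trans hc0), hB0 (hcB.trans hc0)⟩
    rw [hc0] at hcharA
    exact CharP.charP_to_charZero _
  · right
    refine ⟨?_, hA1 (by rw [hcA]; exact hc0), hB1 (by rw [hcB]; exact hc0)⟩
    intro h0
    haveI := h0
    exact hc0 (CharP.eq (ResidueField A) hcharA (CharP.ofCharZero _))

end Groth.Agent.Lib.Helper24.CohenFlat
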