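import Mathlib
import Groth.Agent.S0542
import Groth.Agent.S0547
import Groth.Agent.S0548
import Groth.Agent.Lib.Helper24.CohenIso
import Groth.Agent.Lib.Helper15.Regular

/-!
# Completion maps that are bijective (helper24)

* `injective_of_surjective_of_dim`: a surjection from a Noetherian local domain onto a ring of the
  same Krull dimension is injective.
* `complMap_bijective`: `φ : A → B` local, `A` regular, residue fields equal, `dim B = dim A`,
  `𝔪_B = 𝔪_A B + 𝔪_B²`  ⇒ any compatible `Â → B̂` is bijective.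
-/

set_option autoImplicit false
universe u

open IsLocalRing

namespace Groth.Agent.Lib.Helper24.CplBij

theorem exists_nat_dim (R : Type u) [CommRing R] [IsLocalRing R] [IsNoetherianRing R] :
    ∃ d : ℕ, ringKrullDim R = (d : WithBot ℕ∞) := by
  have h1 := ringKrullDim_le_spanFinrank_maximalIdeal R
  have h0 : (0 : WithBot ℕ∞) ≤ ringKrullDim R := ringKrullDim_nonneg_of_nontrivial
  generalize ringKrullDim R = x at h0 h1
  induction x using WithBot.recBotCoe with
  | bot => simp at h0
  | coe y =>
    induction y using ENat.recTopCoe with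
    | top =>
      exfalso
      have h2 : ((⊤ : ℕ∞) : WithBot ℕ∞) ≤ (((maximalIdeal R).spanFinrank : ℕ∞) : WithBot ℕ∞) := h1
      rw [WithBot.coe_le_coe] at h2
      exact absurd h2 (by simp)
    | coe m => exact ⟨m, rfl⟩

theorem injective_of_surjective_of_dim {R S : Type u} [CommRing R] [IsDomain R] [IsLocalRing R]
    [IsNoetherianRing R] [CommRing S] (f : R →+* S) (hf : Function.Surjective f)
    (hdim : ringKrullDim S = ringKrullDim R) : Function.Injective f := by
  obtain ⟨d, hd⟩ := exists_nat_dim R
  rw [injective_iff_map_eq_zero]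
  intro x hx
  by_contra hx0
  have hnzd : x ∈ nonZeroDivisors R := mem_nonZeroDivisors_of_ne_zero hx0
  have h1 := ringKrullDim_quotient_succ_le_of_nonZeroDivisor hnzd
  let fc : (R ⧸ Ideal.span {x}) →+* S :=
    Ideal.Quotient.lift (Ideal.span {x}) f (fun a ha => by
      obtain ⟨y, rfl⟩ := Ideal.mem_span_singleton'.1 ha
      rw [map_mul, hx, mul_zero])
  have hfc : Function.Surjective fc := by
    intro b
    obtain ⟨s, rfl⟩ := hf b
    exact ⟨Ideal.Quotient.mk _ s, rfl⟩
  have h2 : ringKrullDim S ≤ ringKrullDim (R ⧸ Ideal.span {x}) :=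
    ringKrullDim_le_of_surjective fc hfc
  rw [hdim, hd] at h2
  rw [hd] at h1
  have h3 : ((d : WithBot ℕ∞) + 1) ≤ (d : WithBot ℕ∞) := (add_le_add_left h2 1).trans h1
  have h4 : ((d + 1 : ℕ) : WithBot ℕ∞) ≤ ((d : ℕ) : WithBot ℕ∞) := by exact_mod_cast h3
  have h5 : d + 1 ≤ d := by exact_mod_cast h4
  omega

theorem complMap_bijective (A B : Type u) [CommRing A]
    [CommRing B] [IsRegularLocalRing A] [IsLocalRing B] [IsNoetherianRing B] (φ : A →+* B)
    [IsLocalHom φ]
    (hk : Function.Bijective (IsLocalRing.ResidueField.map φ))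
    (hdim : ringKrullDim B = ringKrullDim A)
    (hcot : IsLocalRing.maximalIdeal B ≤
      Ideal.map φ (IsLocalRing.maximalIdeal A) ⊔ IsLocalRing.maximalIdeal B ^ 2)
    (ψ : AdicCompletion (IsLocalRing.maximalIdeal A) A →+*
      AdicCompletion (IsLocalRing.maximalIdeal B) B)
    (hψ : ψ.comp (algebraMap A (AdicCompletion (IsLocalRing.maximalIdeal A) A)) =
      (algebraMap B (AdicCompletion (IsLocalRing.maximalIdeal B) B)).comp φ) :
    Function.Bijective ψ := by
  classical
  have fgA : (maximalIdeal A).FG := (maximalIdeal A).fg_of_isNoetherianRing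
  have fgB : (maximalIdeal B).FG := (maximalIdeal B).fg_of_isNoetherianRing
  haveI : IsNoetherianRing (AdicCompletion (maximalIdeal A) A) :=
    Groth.Agent.S0542.result A (maximalIdeal A) fgA
  haveI : IsNoetherianRing (AdicCompletion (maximalIdeal B) B) :=
    Groth.Agent.S0542.result B (maximalIdeal B) fgB
  -- `𝔪_B = 𝔪_A B`
  have hmB : maximalIdeal B = (maximalIdeal A).map φ := by
    apply le_antisymm
    · have h1 : maximalIdeal B ≤ (maximalIdeal A).map φ ⊔ maximalIdeal B • maximalIdeal B := by
        rw [smul_eq_mul, ← pow_two]; exact hcot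
      exact Submodule.le_of_le_smul_of_le_jacobson_bot fgB
        (by rw [IsLocalRing.jacobson_eq_maximalIdeal ⊥ bot_ne_top]) h1
    · exact ((IsLocalRing.local_hom_TFAE φ).out 0 2).1 ‹IsLocalHom φ›
  -- `𝔪_Â ↦ 𝔪_B̂`
  have hmap : (maximalIdeal (AdicCompletion (maximalIdeal A) A)).map ψ =
      maximalIdeal (AdicCompletion (maximalIdeal B) B) := by
    rw [AdicCompletion.maximalIdeal_eq_map (R := A), Ideal.map_map, hψ, ← Ideal.map_map, ← hmB,
      ← AdicCompletion.maximalIdeal_eq_map (R := B)]
  -- residue fields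
  have hres : Function.Surjective ((residue (AdicCompletion (maximalIdeal B) B)).comp ψ) := by
    intro z
    obtain ⟨z1, rfl⟩ := (AdicCompletion.residueField_map_bijective_of_fg fgB).2 z
    obtain ⟨b, rfl⟩ := IsLocalRing.residue_surjective z1
    obtain ⟨a1, ha1⟩ := hk.2 (residue B b)
    obtain ⟨a, rfl⟩ := IsLocalRing.residue_surjective a1
    refine ⟨algebraMap A _ a, ?_⟩
    rw [IsLocalRing.ResidueField.map_residue] at ha1
    have h2 : ψ (algebraMap A (AdicCompletion (maximalIdeal A) A) a) =
        algebraMap B (AdicCompletion (maximalIdeal B) B) (φ a) := by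
      have := congrArg (fun h : A →+* _ => h a) hψ
      simpa only [RingHom.comp_apply] using this
    rw [RingHom.comp_apply, h2, ← ha1, IsLocalRing.ResidueField.map_residue]
  have hsurj : Function.Surjective ψ :=
    Groth.Agent.Lib.Helper24.CohenIso.surjective_of_residue ψ hmap hres
  -- injectivity
  haveI : IsRegularLocalRing (AdicCompletion (maximalIdeal A) A) :=
    (Groth.Agent.S0548.result A).1 inferInstance
  haveI : IsDomain (AdicCompletion (maximalIdeal A) A) :=
    Groth.Agent.Lib.helper15.isDomain_of_isRegularLocalRing _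
  refine ⟨injective_of_surjective_of_dim ψ hsurj ?_, hsurj⟩
  rw [Groth.Agent.S0547.result, Groth.Agent.S0547.result, hdim]

end Groth.Agent.Lib.Helper24.CplBij
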