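import Mathlib
import Groth.Agent.S16981

/-!
# Finiteness of the completion of a module with finite reduction (helper24)

* `finite_adicCompletion_of_finite_quotient`: `A` Noetherian and `I`-adically complete, `M` any
  `A`-module with `M/IM` finite. Then the `I`-adic completion of `M` is a finite `A`-module.
* `finite_completedKaehler`: `A` a complete Noetherian local `k`-algebra with residue field
  essentially of finite type over `k`: the completed module of differentials is finite.
-/

set_option autoImplicit false
universe u
open IsLocalRing TensorProduct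

namespace Groth.Agent.Lib.Helper24.CplFinite

section general

variable {A : Type u} [CommRing A] [IsNoetherianRing A] (I : Ideal A) [IsAdicComplete I A]
  (M : Type u) [AddCommGroup M] [Module A M]

theorem finite_adicCompletion_of_finite_quotient
    [Module.Finite A (M ⧸ (I • ⊤ : Submodule A M))] :
    Module.Finite A (AdicCompletion I M) := by
  classical
  obtain ⟨n, s, hs⟩ := Module.Finite.exists_fin (R := A) (M := M ⧸ (I • ⊤ : Submodule A M))
  choose ω hω using fun i => Submodule.mkQ_surjective (I • ⊤ : Submodule A M) (s i)
  have hspan : ∀ x : M, ∃ a : Fin n → A, x - ∑ i, a i • ω i ∈ (I • ⊤ : Submodule A M) := by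
    intro x
    have hx : (I • ⊤ : Submodule A M).mkQ x ∈ Submodule.span A (Set.range s) := by
      rw [hs]; exact Submodule.mem_top
    rw [Submodule.mem_span_range_iff_exists_fun] at hx
    obtain ⟨a, ha⟩ := hx
    refine ⟨a, ?_⟩
    rw [← Submodule.Quotient.mk_eq_zero, Submodule.Quotient.mk_sub, sub_eq_zero]
    show (I • ⊤ : Submodule A M).mkQ x = (I • ⊤ : Submodule A M).mkQ (∑ i, a i • ω i)
    rw [← ha, map_sum]
    refine Finset.sum_congr rfl fun i _ => ?_
    rw [map_smul, hω]
  haveI : IsAdicComplete I (Fin n → A) := Groth.Agent.S16981.isAdicComplete_of_finite I _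
  let φ : (Fin n → A) →ₗ[A] AdicCompletion I M :=
    (AdicCompletion.of I M).comp (Fintype.linearCombination A ω)
  have hφ : ∀ a, φ a = AdicCompletion.of I M (∑ i, a i • ω i) := by
    intro a
    show AdicCompletion.of I M (Fintype.linearCombination A ω a) = _
    rw [Fintype.linearCombination_apply]
  have hfg : I.FG := IsNoetherian.noetherian I
  have hsurj : Function.Surjective φ := by
    apply surjective_of_mkQ_comp_surjective (I := I)
    intro y
    obtain ⟨y, rfl⟩ := Submodule.mkQ_surjective _ y
    obtain ⟨x, hx⟩ := Submodule.mkQ_surjective _ (AdicCompletion.eval I M 1 y)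
    obtain ⟨a, ha⟩ := hspan x
    refine ⟨a, ?_⟩
    show Submodule.Quotient.mk (φ a) = Submodule.Quotient.mk y
    rw [Submodule.Quotient.eq]
    have h1 : (I • ⊤ : Submodule A (AdicCompletion I M)) = I ^ 1 • ⊤ := by rw [pow_one]
    rw [h1, AdicCompletion.pow_smul_top_eq_ker_eval hfg, LinearMap.mem_ker, map_sub, hφ,
      AdicCompletion.eval_of, ← hx, sub_eq_zero]
    show Submodule.Quotient.mk _ = Submodule.Quotient.mk _
    rw [Submodule.Quotient.eq, pow_one]
    have := (I • ⊤ : Submodule A M).neg_mem ha
    rwa [neg_sub] at this
  exact Module.Finite.of_surjective φ hsurj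

end general

section kaehler

variable (k A : Type u) [Field k] [CommRing A] [IsLocalRing A] [IsNoetherianRing A] [Algebra k A]
  [Algebra.EssFiniteType k (ResidueField A)]

theorem finite_residue_tensor : Module.Finite A (ResidueField A ⊗[A] Ω[A⁄k]) := by
  have hsurj : Function.Surjective (algebraMap A (ResidueField A)) :=
    IsLocalRing.residue_surjective
  have hex := KaehlerDifferential.exact_kerCotangentToTensor_mapBaseChange k A (ResidueField A)
    hsurj
  haveI : Module.Finite A (ResidueField A) :=
    Module.Finite.of_surjective (Algebra.linearMap A (ResidueField A)) hsurj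
  haveI : Module.Finite A (Ω[ResidueField A⁄k]) := Module.Finite.trans (ResidueField A) _
  haveI : IsNoetherian A (Ω[ResidueField A⁄k]) := isNoetherian_of_isNoetherianRing_of_finite A _
  haveI : Module.Finite A (RingHom.ker (algebraMap A (ResidueField A))).Cotangent :=
    Module.Finite.of_surjective (RingHom.ker (algebraMap A (ResidueField A))).toCotangent
      (Ideal.toCotangent_surjective _)
  haveI : IsNoetherian A (RingHom.ker (algebraMap A (ResidueField A))).Cotangent :=
    isNoetherian_of_isNoetherianRing_of_finite A _
  haveI : IsNoetherian A (ResidueField A ⊗[A] Ω[A⁄k]) :=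
    isNoetherian_of_range_eq_ker (KaehlerDifferential.kerCotangentToTensor k A (ResidueField A))
      ((KaehlerDifferential.mapBaseChange k A (ResidueField A)).restrictScalars A)
      (by
        ext x
        rw [LinearMap.mem_ker, LinearMap.mem_range]
        exact (hex x).symm)
  infer_instance

theorem finite_quotient :
    Module.Finite A (Ω[A⁄k] ⧸ (maximalIdeal A • ⊤ : Submodule A (Ω[A⁄k]))) := by
  haveI : Module.Finite A ((A ⧸ maximalIdeal A) ⊗[A] Ω[A⁄k]) := finite_residue_tensor k A
  exact Module.Finite.equiv (TensorProduct.quotTensorEquivQuotSMul (Ω[A⁄k]) (maximalIdeal A))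

theorem finite_completedKaehler [IsAdicComplete (maximalIdeal A) A] :
    Module.Finite A (AdicCompletion (maximalIdeal A) (Ω[A⁄k])) := by
  haveI := finite_quotient k A
  exact finite_adicCompletion_of_finite_quotient (maximalIdeal A) (Ω[A⁄k])

end kaehler

end Groth.Agent.Lib.Helper24.CplFinite
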