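import Mathlib
import Groth.Agent.Lib.Helper24.CplFinite

/-!
# Right exactness of completion when the middle completion is finite (helper24)

* `range_map_eq_ker_map`: `S` Noetherian local, `M₁ → M₂ → M₃ → 0` exact sequence of arbitrary
  `S`-modules such that the completion of `M₂` is a finite `S`-module; then the completed sequence
  is exact in the middle.
* `finite_residue_tensor'`, `finite_completedKaehler'`: versions of the `CplFinite` lemmas assuming
  only that `Ω_{κ/k}` is finite-dimensional.
-/

set_option autoImplicit false
universe u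
open IsLocalRing TensorProduct

namespace Groth.Agent.Lib.Helper24.CplExact

section general

variable {S : Type u} [CommRing S] [IsNoetherianRing S] [IsLocalRing S]
  {M₁ M₂ M₃ : Type u} [AddCommGroup M₁] [Module S M₁] [AddCommGroup M₂] [Module S M₂]
  [AddCommGroup M₃] [Module S M₃] (f : M₁ →ₗ[S] M₂) (g : M₂ →ₗ[S] M₃)

theorem range_map_eq_ker_map (hfg : Function.Exact f g) (hg : Function.Surjective g)
    [Module.Finite S (AdicCompletion (maximalIdeal S) M₂)] :
    LinearMap.range (AdicCompletion.map (maximalIdeal S) f) =
      LinearMap.ker (AdicCompletion.map (maximalIdeal S) g) := by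
  classical
  have hmfg : (maximalIdeal S).FG := IsNoetherian.noetherian _
  apply le_antisymm
  · rintro _ ⟨x, rfl⟩
    rw [LinearMap.mem_ker, AdicCompletion.map_comp_apply]
    have h0 : g.comp f = 0 := by
      ext y
      exact hfg.apply_apply_eq_zero y
    rw [h0, AdicCompletion.map_zero, LinearMap.zero_apply]
  · intro x hx
    rw [LinearMap.mem_ker] at hx
    -- the quotient by the range, as an `S`-module
    set N : Submodule S (AdicCompletion (maximalIdeal S) M₂) :=
      (LinearMap.range (AdicCompletion.map (maximalIdeal S) f)).restrictScalars S with hN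
    have key : ∀ n : ℕ, ∃ y : M₁, x - AdicCompletion.map (maximalIdeal S) f
        (AdicCompletion.of (maximalIdeal S) M₁ y) ∈
        ((maximalIdeal S) ^ n • ⊤ : Submodule S (AdicCompletion (maximalIdeal S) M₂)) := by
      intro n
      obtain ⟨a, rfl⟩ := AdicCompletion.mk_surjective (maximalIdeal S) M₂ x
      rw [AdicCompletion.map_mk] at hx
      have h1 : AdicCompletion.eval (maximalIdeal S) M₃ n
          (AdicCompletion.mk (maximalIdeal S) M₃
            (AdicCompletion.AdicCauchySequence.map (maximalIdeal S) g a)) = 0 := by
        rw [hx, map_zero]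
      have h2 : g (a n) ∈ ((maximalIdeal S) ^ n • ⊤ : Submodule S M₃) := by
        rw [← Submodule.Quotient.mk_eq_zero]
        exact h1
      have h3 : ((maximalIdeal S) ^ n • ⊤ : Submodule S M₃) =
          ((maximalIdeal S) ^ n • ⊤ : Submodule S M₂).map g := by
        rw [Submodule.map_smul'', Submodule.map_top, LinearMap.range_eq_top.mpr hg]
      rw [h3] at h2
      obtain ⟨m', hm', hgm'⟩ := h2
      have h4 : a n - m' ∈ LinearMap.ker g := by
        rw [LinearMap.mem_ker, map_sub, hgm', sub_self]
      rw [hfg.linearMap_ker_eq] at h4
      obtain ⟨y, hy⟩ := h4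
      refine ⟨y, ?_⟩
      rw [AdicCompletion.pow_smul_top_eq_ker_eval hmfg, LinearMap.mem_ker, map_sub,
        AdicCompletion.map_of, AdicCompletion.eval_of, hy, sub_eq_zero]
      show Submodule.Quotient.mk (a n) = Submodule.Quotient.mk (a n - m')
      rw [Submodule.Quotient.eq]
      simpa using hm'
    have hzero : N.mkQ x = 0 := by
      have hH : IsHausdorff (maximalIdeal S) (AdicCompletion (maximalIdeal S) M₂ ⧸ N) :=
        inferInstance
      apply hH.haus'
      intro n
      rw [SModEq.zero]
      obtain ⟨y, hy⟩ := key n
      have h5 : N.mkQ x = N.mkQ (x - AdicCompletion.map (maximalIdeal S) f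
          (AdicCompletion.of (maximalIdeal S) M₁ y)) := by
        rw [map_sub, sub_eq_self.mpr]
        rw [Submodule.mkQ_apply, Submodule.Quotient.mk_eq_zero]
        exact ⟨_, rfl⟩
      rw [h5]
      have h6 : ((maximalIdeal S) ^ n • ⊤ : Submodule S (AdicCompletion (maximalIdeal S) M₂)).map
          N.mkQ ≤ ((maximalIdeal S) ^ n • ⊤ :
            Submodule S (AdicCompletion (maximalIdeal S) M₂ ⧸ N)) := by
        rw [Submodule.map_smul'']
        exact Submodule.smul_mono le_rfl le_top
      exact h6 (Submodule.mem_map_of_mem hy)
    rw [Submodule.mkQ_apply, Submodule.Quotient.mk_eq_zero] at hzero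
    exact hzero

end general

section kaehler

variable (k A : Type u) [Field k] [CommRing A] [IsLocalRing A] [IsNoetherianRing A] [Algebra k A]
  [Module.Finite (ResidueField A) (Ω[ResidueField A⁄k])]

theorem finite_residue_tensor' : Module.Finite A (ResidueField A ⊗[A] Ω[A⁄k]) := by
  have hsurj : Function.Surjective (algebraMap A (ResidueField A)) :=
    IsLocalRing.residue_surjective
  have hex := KaehlerDifferential.exact_kerCotangentToTensor_mapBaseChange k A (ResidueField A)
    hsurj
  haveI : Module.Finite A (ResidueField A) :=
    Module.Finite.of_surjective (Algebra.linearMap A (ResidueField A)) hsurj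
  haveI : Module.Finite A (Ω[ResidueField A⁄k]) := Module.Finite.trans (ResidueField A) _
  haveI : IsNoetherian A (Ω[ResidueField A⁄k]) := isNoetherian_of_isNoetherianRing_of_finite A _
  haveI : Module.Finite A (RingHom.ker (algebraMap A (ResidueField A))).Cotangent :=
    Module.Finite.of_surjective (RingHom.ker (algebraMap A (ResidueField A))).toCotangent
      (Ideal.toCotangent_surjective _)
  haveI : IsNoetherian A (RingHom.ker (algebraMap A (ResidueField A))).Cotangent :=
    isNoetherian_of_isNoetherianRing_of_finite A _
  haveI : IsNoetherian A (ResidueField A ⊗[A] Ω[A⁄k]) :=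
    isNoetherian_of_range_eq_ker (KaehlerDifferential.kerCotangentToTensor k A (ResidueField A))
      ((KaehlerDifferential.mapBaseChange k A (ResidueField A)).restrictScalars A)
      (by
        ext x
        rw [LinearMap.mem_ker, LinearMap.mem_range]
        exact (hex x).symm)
  infer_instance

theorem finite_quotient' :
    Module.Finite A (Ω[A⁄k] ⧸ (maximalIdeal A • ⊤ : Submodule A (Ω[A⁄k]))) := by
  haveI : Module.Finite A ((A ⧸ maximalIdeal A) ⊗[A] Ω[A⁄k]) := finite_residue_tensor' k A
  exact Module.Finite.equiv (TensorProduct.quotTensorEquivQuotSMul (Ω[A⁄k]) (maximalIdeal A))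

theorem finite_completedKaehler' [IsAdicComplete (maximalIdeal A) A] :
    Module.Finite A (AdicCompletion (maximalIdeal A) (Ω[A⁄k])) := by
  haveI := finite_quotient' k A
  exact Groth.Agent.Lib.Helper24.CplFinite.finite_adicCompletion_of_finite_quotient
    (maximalIdeal A) (Ω[A⁄k])

end kaehler

section finiteExt

variable (k R S : Type u) [Field k] [CommRing R] [Algebra k R]
  [CommRing S] [IsNoetherianRing S] [IsLocalRing S] [Algebra k S]
  [IsAdicComplete (maximalIdeal S) S] [Algebra R S] [IsScalarTower k R S]
  [Module.Finite R S] [Module.Finite (ResidueField S) (Ω[ResidueField S⁄k])]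

theorem completedKaehler_exact :
    IsAdicComplete (maximalIdeal S) (Ω[S⁄R]) ∧
      Function.Surjective (AdicCompletion.map (maximalIdeal S) (KaehlerDifferential.map k R S S)) ∧
      LinearMap.range (AdicCompletion.map (maximalIdeal S)
          (KaehlerDifferential.mapBaseChange k R S)) =
        LinearMap.ker (AdicCompletion.map (maximalIdeal S) (KaehlerDifferential.map k R S S)) := by
  haveI : Module.Finite S (AdicCompletion (maximalIdeal S) (Ω[S⁄k])) :=
    finite_completedKaehler' k S
  refine ⟨Groth.Agent.S16981.isAdicComplete_of_finite (maximalIdeal S) _,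
    AdicCompletion.map_surjective _ (KaehlerDifferential.map_surjective k R S), ?_⟩
  exact range_map_eq_ker_map (KaehlerDifferential.mapBaseChange k R S)
    (KaehlerDifferential.map k R S S) (KaehlerDifferential.exact_mapBaseChange_map k R S)
    (KaehlerDifferential.map_surjective k R S)

end finiteExt

end Groth.Agent.Lib.Helper24.CplExact
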