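import Mathlib
import Groth.Agent.S5078

/-!
# Finiteness of completed differentials without Noetherian hypotheses (helper24)

* `fg_of_cotangent_finite`: `B` complete for `𝔫` with `𝔫/𝔫²` finite ⇒ `𝔫` finitely generated.
* `finite_adicCompletion_of_finite_quotient'`: `B` complete for a f.g. ideal `I`, `M/IM` finite ⇒
  the completion of `M` is finite.
* `finite_completedKaehler_adic`: EGA 0_IV 20.7.15-type statement.
-/

set_option autoImplicit false
universe u
open TensorProduct

namespace Groth.Agent.Lib.Helper24.CplFiniteGen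

section fg

variable {B : Type u} [CommRing B] (𝔫 : Ideal B) [IsAdicComplete 𝔫 B]

theorem isHausdorff_self : IsHausdorff 𝔫 (↥𝔫) := by
  refine ⟨fun x hx => ?_⟩
  have h0 : (x : B) = 0 := by
    apply IsHausdorff.haus' (I := 𝔫) (x : B)
    intro n
    rw [SModEq.zero]
    have h1 := hx n
    rw [SModEq.zero] at h1
    have h2 : ((𝔫 ^ n • ⊤ : Submodule B ↥𝔫)).map 𝔫.subtype ≤ (𝔫 ^ n • ⊤ : Submodule B B) := by
      rw [Submodule.map_smul'']
      exact Submodule.smul_mono le_rfl le_top
    exact h2 (Submodule.mem_map_of_mem h1)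
  exact Subtype.ext h0

theorem fg_of_cotangent_finite [Module.Finite (B ⧸ 𝔫) 𝔫.Cotangent] : 𝔫.FG := by
  classical
  haveI : Module.Finite B 𝔫.Cotangent := Module.Finite.trans (B ⧸ 𝔫) _
  obtain ⟨m, s, hs⟩ := Module.Finite.exists_fin (R := B) (M := 𝔫.Cotangent)
  choose x hx using fun i => Ideal.toCotangent_surjective 𝔫 (s i)
  let f : (Fin m → B) →ₗ[B] ↥𝔫 := Fintype.linearCombination B x
  haveI : IsAdicComplete 𝔫 (Fin m → B) := Groth.Agent.S5078.isAdicComplete_pi 𝔫 (Fin m)
  haveI : IsHausdorff 𝔫 (↥𝔫) := isHausdorff_self 𝔫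
  have hsurj : Function.Surjective f := by
    apply surjective_of_mkQ_comp_surjective (I := 𝔫)
    intro y
    obtain ⟨y', rfl⟩ := Submodule.mkQ_surjective _ y
    have hy : 𝔫.toCotangent y' ∈ Submodule.span B (Set.range s) := by
      rw [hs]; exact Submodule.mem_top
    rw [Submodule.mem_span_range_iff_exists_fun] at hy
    obtain ⟨a, ha⟩ := hy
    refine ⟨a, ?_⟩
    show 𝔫.toCotangent (Fintype.linearCombination B x a) = 𝔫.toCotangent y'
    rw [Fintype.linearCombination_apply, map_sum, ← ha]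
    refine Finset.sum_congr rfl fun i _ => ?_
    rw [map_smul, hx]
  haveI : Module.Finite B ↥𝔫 := Module.Finite.of_surjective f hsurj
  exact (Submodule.fg_top 𝔫).mp Module.Finite.fg_top

end fg

section general

variable {B : Type u} [CommRing B] (I : Ideal B) [IsAdicComplete I B]
  (M : Type u) [AddCommGroup M] [Module B M]

theorem finite_adicCompletion_of_finite_quotient' (hfg : I.FG)
    [Module.Finite B (M ⧸ (I • ⊤ : Submodule B M))] :
    Module.Finite B (AdicCompletion I M) := by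
  classical
  obtain ⟨n, s, hs⟩ := Module.Finite.exists_fin (R := B) (M := M ⧸ (I • ⊤ : Submodule B M))
  choose ω hω using fun i => Submodule.mkQ_surjective (I • ⊤ : Submodule B M) (s i)
  have hspan : ∀ x : M, ∃ a : Fin n → B, x - ∑ i, a i • ω i ∈ (I • ⊤ : Submodule B M) := by
    intro x
    have hx : (I • ⊤ : Submodule B M).mkQ x ∈ Submodule.span B (Set.range s) := by
      rw [hs]; exact Submodule.mem_top
    rw [Submodule.mem_span_range_iff_exists_fun] at hx
    obtain ⟨a, ha⟩ := hx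
    refine ⟨a, ?_⟩
    rw [← Submodule.Quotient.mk_eq_zero, Submodule.Quotient.mk_sub, sub_eq_zero]
    show (I • ⊤ : Submodule B M).mkQ x = (I • ⊤ : Submodule B M).mkQ (∑ i, a i • ω i)
    rw [← ha, map_sum]
    refine Finset.sum_congr rfl fun i _ => ?_
    rw [map_smul, hω]
  haveI : IsAdicComplete I (Fin n → B) := Groth.Agent.S5078.isAdicComplete_pi I (Fin n)
  let φ : (Fin n → B) →ₗ[B] AdicCompletion I M :=
    (AdicCompletion.of I M).comp (Fintype.linearCombination B ω)
  have hφ : ∀ a, φ a = AdicCompletion.of I M (∑ i, a i • ω i) := by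
    intro a
    show AdicCompletion.of I M (Fintype.linearCombination B ω a) = _
    rw [Fintype.linearCombination_apply]
  have hsurj : Function.Surjective φ := by
    apply surjective_of_mkQ_comp_surjective (I := I)
    intro y
    obtain ⟨y, rfl⟩ := Submodule.mkQ_surjective _ y
    obtain ⟨x, hx⟩ := Submodule.mkQ_surjective _ (AdicCompletion.eval I M 1 y)
    obtain ⟨a, ha⟩ := hspan x
    refine ⟨a, ?_⟩
    show Submodule.Quotient.mk (φ a) = Submodule.Quotient.mk y
    rw [Submodule.Quotient.eq]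
    have h1 : (I • ⊤ : Submodule B (AdicCompletion I M)) = I ^ 1 • ⊤ := by rw [pow_one]
    rw [h1, AdicCompletion.pow_smul_top_eq_ker_eval hfg, LinearMap.mem_ker, map_sub, hφ,
      AdicCompletion.eval_of, ← hx, sub_eq_zero]
    show Submodule.Quotient.mk _ = Submodule.Quotient.mk _
    rw [Submodule.Quotient.eq, pow_one]
    have := (I • ⊤ : Submodule B M).neg_mem ha
    rwa [neg_sub] at this
  exact Module.Finite.of_surjective φ hsurj

end general

section kaehler

variable {A B : Type u} [CommRing A] [CommRing B] [Algebra A B] (𝔫 : Ideal B)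
  [IsAdicComplete 𝔫 B] [Module.Finite (B ⧸ 𝔫) (Ω[B ⧸ 𝔫⁄A])] [Module.Finite (B ⧸ 𝔫) 𝔫.Cotangent]

theorem finite_quotient_tensor : Module.Finite B ((B ⧸ 𝔫) ⊗[B] Ω[B⁄A]) := by
  have hsurj : Function.Surjective (algebraMap B (B ⧸ 𝔫)) := Ideal.Quotient.mk_surjective
  have hex := KaehlerDifferential.exact_kerCotangentToTensor_mapBaseChange A B (B ⧸ 𝔫) hsurj
  have hker : RingHom.ker (algebraMap B (B ⧸ 𝔫)) = 𝔫 := Ideal.mk_ker
  haveI : Module.Finite B 𝔫.Cotangent := Module.Finite.trans (B ⧸ 𝔫) _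
  haveI : Module.Finite B (RingHom.ker (algebraMap B (B ⧸ 𝔫))).Cotangent := by
    rw [hker]; infer_instance
  haveI : Module.Finite B (Ω[B ⧸ 𝔫⁄A]) := Module.Finite.trans (B ⧸ 𝔫) _
  exact Module.Finite.of_exact (f := KaehlerDifferential.kerCotangentToTensor A B (B ⧸ 𝔫))
    (g := (KaehlerDifferential.mapBaseChange A B (B ⧸ 𝔫)).restrictScalars B) hex
    (KaehlerDifferential.mapBaseChange_surjective A B (B ⧸ 𝔫) hsurj)

theorem finite_completedKaehler_adic : Module.Finite B (AdicCompletion 𝔫 (Ω[B⁄A])) := by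
  haveI := finite_quotient_tensor (A := A) 𝔫
  haveI : Module.Finite B (Ω[B⁄A] ⧸ (𝔫 • ⊤ : Submodule B (Ω[B⁄A]))) :=
    Module.Finite.equiv (TensorProduct.quotTensorEquivQuotSMul (Ω[B⁄A]) 𝔫)
  exact finite_adicCompletion_of_finite_quotient' 𝔫 (Ω[B⁄A]) (fg_of_cotangent_finite 𝔫)

end kaehler

end Groth.Agent.Lib.Helper24.CplFiniteGen
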