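import Mathlib
import Groth.Agent.S0550

/-!
# The completion of a free module over a complete Noetherian ring (helper24)

`R` Noetherian and `I`-adically complete, `F = α →₀ R`.  The coordinates
`coord a : F̂ → R`, and the key decomposition lemma `exists_decomp`: if for every `a` the vector of
`a`-th coordinates of `x₁, …, xₙ ∈ F̂` lies in the row space of a matrix `b`, then
`x = b · y` for some `y ∈ F̂ᵐ`.
-/

set_option autoImplicit false
open TensorProduct

namespace Groth.Agent.Lib.Helper24.CplFree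

universe u

open Groth.Agent.S0550 in
section

variable {R : Type u} [CommRing R] (I : Ideal R) [IsAdicComplete I R] (α : Type u)

/-- The `a`-th coordinate of an element of the completion of `α →₀ R`. -/
noncomputable def coord (a : α) : AdicCompletion I (α →₀ R) →ₗ[R] R :=
  ((AdicCompletion.ofAlgEquiv I).symm.toLinearMap) ∘ₗ
    ((AdicCompletion.map I (Finsupp.lapply a)).restrictScalars R)

theorem coord_mk_sub_mem (ξ : AdicCompletion.AdicCauchySequence I (α →₀ R)) (a : α) (n : ℕ) :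
    coord I α a (AdicCompletion.mk I _ ξ) - ξ n a ∈ I ^ n := by
  rw [← Ideal.Quotient.eq]
  show Ideal.Quotient.mk (I ^ n) ((AdicCompletion.ofAlgEquiv I).symm
    (AdicCompletion.map I (Finsupp.lapply a) (AdicCompletion.mk I _ ξ))) = _
  rw [AdicCompletion.mk_ofAlgEquiv_symm, AdicCompletion.map_mk, AdicCompletion.evalₐ_mk]
  rfl

variable [IsNoetherianRing R]

theorem exists_decomp {n m : ℕ} (b : Fin m → Fin n → R)
    (x : Fin n → AdicCompletion I (α →₀ R))
    (h : ∀ a : α, ∃ u : Fin m → R, ∀ j, ∑ l, u l * b l j = coord I α a (x j)) :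
    ∃ y : Fin m → AdicCompletion I (α →₀ R), ∀ j, x j = ∑ l, b l j • y l := by
  classical
  have hrep : ∀ j, ∃ ξ : AdicCompletion.AdicCauchySequence I (α →₀ R),
      AdicCompletion.mk I (α →₀ R) ξ = x j := fun j => AdicCompletion.mk_surjective I _ (x j)
  choose ξ hξ using hrep
  obtain ⟨v, hv⟩ : ∃ v : α → Fin n → R, ∀ a j, v a j = coord I α a (x j) :=
    ⟨fun a j => coord I α a (x j), fun _ _ => rfl⟩
  have hvK : ∀ a : α, ∃ u : Fin m → R, ∀ j, ∑ l, u l * b l j = v a j := by
    intro a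
    obtain ⟨u, hu⟩ := h a
    exact ⟨u, fun j => by rw [hu, hv]⟩
  have hvξ : ∀ a j k, v a j - ξ j k a ∈ I ^ k := by
    intro a j k
    rw [hv, ← hξ j]
    exact coord_mk_sub_mem I α (ξ j) a k
  obtain ⟨c, hc⟩ := ar_lift I b
  -- supports
  obtain ⟨T, hT⟩ : ∃ T : ℕ → Finset α, ∀ k, T k =
      (Finset.range (k + 1)).biUnion fun k' => Finset.univ.biUnion fun j => (ξ j k').support :=
    ⟨_, fun _ => rfl⟩
  have hTmono : ∀ k, T k ⊆ T (k + 1) := by
    intro k a ha
    rw [hT] at ha ⊢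
    obtain ⟨k', hk', ha'⟩ := Finset.mem_biUnion.mp ha
    exact Finset.mem_biUnion.mpr ⟨k', Finset.mem_range.mpr
      (Nat.lt_succ_of_lt (Finset.mem_range.mp hk')), ha'⟩
  have hTsupp : ∀ k j a, a ∉ T k → ξ j k a = 0 := by
    intro k j a ha
    by_contra hne
    apply ha
    rw [hT]
    exact Finset.mem_biUnion.mpr ⟨k, Finset.mem_range.mpr (Nat.lt_succ_self k),
      Finset.mem_biUnion.mpr ⟨j, Finset.mem_univ _, Finsupp.mem_support_iff.mpr hne⟩⟩
  -- the truncations of `v`
  obtain ⟨η, hη⟩ : ∃ η : ℕ → Fin n → (α →₀ R), ∀ k j, η k j =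
      ∑ a ∈ T k, Finsupp.single a (v a j) := ⟨_, fun _ _ => rfl⟩
  have hηc : ∀ k j a, η k j a = if a ∈ T k then v a j else 0 := by
    intro k j a
    rw [hη, Finsupp.finsetSum_apply]
    simp only [Finsupp.single_apply]
    rw [Finset.sum_ite_eq' (T k) a]
  have hηK : ∀ k a, ∃ u : Fin m → R, ∀ j, ∑ l, u l * b l j = η k j a := by
    intro k a
    by_cases ha : a ∈ T k
    · obtain ⟨u, hu⟩ := hvK a
      exact ⟨u, fun j => by rw [hηc, if_pos ha, hu]⟩
    · exact ⟨0, fun j => by rw [hηc, if_neg ha]; simp⟩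
  have hξη : ∀ k j, ξ j k - η k j ∈ (I ^ k • ⊤ : Submodule R (α →₀ R)) := by
    intro k j
    rw [mem_smul_top_finsupp]
    intro a
    rw [Finsupp.sub_apply, hηc]
    by_cases ha : a ∈ T k
    · rw [if_pos ha, ← neg_sub]
      exact (I ^ k).neg_mem (hvξ a j k)
    · rw [if_neg ha, hTsupp k j a ha, sub_zero]
      exact (I ^ k).zero_mem
  have hδ : ∀ k j a, (η (k + 1) j - η k j) a ∈ I ^ k := by
    intro k j a
    rw [Finsupp.sub_apply, hηc, hηc]
    by_cases ha : a ∈ T k
    · rw [if_pos ha, if_pos (hTmono k ha), sub_self]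
      exact (I ^ k).zero_mem
    · rw [if_neg ha, sub_zero]
      by_cases ha' : a ∈ T (k + 1)
      · rw [if_pos ha']
        have := hvξ a j k
        rwa [hTsupp k j a ha, sub_zero] at this
      · rw [if_neg ha']
        exact (I ^ k).zero_mem
  -- lift the differences
  have hu : ∀ k, ∃ u : Fin m → (α →₀ R), (∀ l, u l ∈ (I ^ k • ⊤ : Submodule R (α →₀ R))) ∧
      ∀ j, η (k + c + 1) j - η (k + c) j = ∑ l, b l j • u l := by
    intro k
    obtain ⟨w, hwP, hw⟩ := lift_coordwise b (I ^ k • ⊤ : Submodule R (Fin m → R))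
      (fun j => η (k + c + 1) j - η (k + c) j) (fun a => by
        refine hc k (fun j => (η (k + c + 1) j - η (k + c) j) a) (fun j => hδ (k + c) j a) ?_
        obtain ⟨u₁, hu₁⟩ := hηK (k + c + 1) a
        obtain ⟨u₂, hu₂⟩ := hηK (k + c) a
        refine ⟨u₁ - u₂, fun j => ?_⟩
        rw [Finsupp.sub_apply, ← hu₁, ← hu₂, ← Finset.sum_sub_distrib]
        exact Finset.sum_congr rfl (fun l _ => by rw [Pi.sub_apply, sub_mul]))
    refine ⟨w, fun l => ?_, hw⟩
    rw [mem_smul_top_finsupp]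
    intro a
    exact apply_mem_of_mem_smul_top_pi _ _ (hwP a) l
  choose u humem hueq using hu
  obtain ⟨w₀, -, hw₀⟩ := lift_coordwise b (⊤ : Submodule R (Fin m → R)) (η c) (fun a => by
    obtain ⟨u', hu'⟩ := hηK c a
    exact ⟨u', Submodule.mem_top, hu'⟩)
  obtain ⟨ω, hω⟩ : ∃ ω : Fin m → ℕ → (α →₀ R), ∀ l k, ω l k = w₀ l + ∑ t ∈ Finset.range k, u t l :=
    ⟨fun l k => w₀ l + ∑ t ∈ Finset.range k, u t l, fun _ _ => rfl⟩
  have hωη : ∀ k j, ∑ l, b l j • ω l k = η (k + c) j := by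
    intro k
    induction k with
    | zero =>
      intro j
      simp only [hω, Finset.range_zero, Finset.sum_empty, add_zero, Nat.zero_add]
      exact (hw₀ j).symm
    | succ k ih =>
      intro j
      have e1 : ∀ l, ω l (k + 1) = ω l k + u k l := by
        intro l
        rw [hω, hω, Finset.sum_range_succ, add_assoc]
      simp only [e1, smul_add, Finset.sum_add_distrib]
      rw [ih j, ← hueq k j]
      have e2 : k + 1 + c = k + c + 1 := by omega
      rw [e2]
      abel
  have hωc : ∀ l k, ω l k ≡ ω l (k + 1) [SMOD (I ^ k • ⊤ : Submodule R (α →₀ R))] := by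
    intro l k
    rw [SModEq.sub_mem]
    have e1 : ω l k - ω l (k + 1) = - u k l := by
      rw [hω, hω, Finset.sum_range_succ]; abel
    rw [e1]
    exact Submodule.neg_mem _ (humem k l)
  have hpow_le : ∀ {k k' : ℕ}, k ≤ k' → (I ^ k' • ⊤ : Submodule R (α →₀ R)) ≤ I ^ k • ⊤ :=
    fun h => Submodule.smul_mono_left (Ideal.pow_le_pow_right h)
  refine ⟨fun l => AdicCompletion.mk I (α →₀ R)
    (AdicCompletion.AdicCauchySequence.mk I (α →₀ R) (ω l) (hωc l)), fun j => ?_⟩
  refine AdicCompletion.ext (fun k => ?_)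
  have e1 : (x j).val k = Submodule.mkQ (I ^ k • ⊤ : Submodule R (α →₀ R)) ((ξ j) k) := by
    rw [← hξ j]; rfl
  have e2 : (∑ l, b l j • AdicCompletion.mk I (α →₀ R)
      (AdicCompletion.AdicCauchySequence.mk I (α →₀ R) (ω l) (hωc l))).val k =
      Submodule.mkQ (I ^ k • ⊤ : Submodule R (α →₀ R)) (∑ l, b l j • ω l k) := by
    rw [← AdicCompletion.eval_apply, map_sum, map_sum]
    exact Finset.sum_congr rfl (fun l _ => rfl)
  rw [e1, e2, hωη k j, Submodule.mkQ_apply, Submodule.mkQ_apply, Submodule.Quotient.eq]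
  have e3 : (ξ j) k - η (k + c) j = ((ξ j) k - (ξ j) (k + c)) + ((ξ j) (k + c) - η (k + c) j) := by
    abel
  rw [e3]
  refine Submodule.add_mem _ ?_ (hpow_le (by omega) (hξη (k + c) j))
  have h1 : (ξ j) k ≡ (ξ j) (k + c) [SMOD (I ^ k • ⊤ : Submodule R (α →₀ R))] :=
    (ξ j).property (by omega)
  exact SModEq.sub_mem.mp h1

end

end Groth.Agent.Lib.Helper24.CplFree
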