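import Mathlib
import Groth.Agent.Lib.Helper24.CplFinite

/-!
# Generating the localized completed differentials by `d(u x)` with `u` a unit (helper24)
-/

set_option autoImplicit false
universe u
open IsLocalRing TensorProduct

namespace Groth.Agent.Lib.Helper24.CplKaehlerGen

section abstract

variable {K V U : Type*} [Field K] [AddCommGroup V] [Module K V] [FiniteDimensional K V]

theorem exists_choice_span_top (M : ℕ) (hM : Module.finrank K V ≤ M) (σ : U → K) (d : U → V)
    (δ₀ : Fin M → V) (c : Fin M → K) (hc : ∀ i, c i ≠ 0) (u₀ : U) (hσ₀ : σ u₀ = 1)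
    (hd₀ : d u₀ = 0) (hspan : Submodule.span K (Set.range d) = ⊤) :
    ∃ u : Fin M → U,
      Submodule.span K (Set.range fun i => σ (u i) • δ₀ i + c i • d (u i)) = ⊤ := by
  classical
  set v : (Fin M → U) → Fin M → V := fun u i => σ (u i) • δ₀ i + c i • d (u i) with hv
  have key : ∀ T : Finset (Fin M), ∃ u : Fin M → U,
      Submodule.span K (v u '' (T : Set (Fin M))) = ⊤ ∨
        T.card ≤ Module.finrank K (Submodule.span K (v u '' (T : Set (Fin M)))) := by
    intro T
    induction T using Finset.induction_on with
    | empty => exact ⟨fun _ => u₀, Or.inr (by simp)⟩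
    | insert a T ha ih =>
      obtain ⟨u, hu⟩ := ih
      by_cases htop : Submodule.span K (v u '' (T : Set (Fin M))) = ⊤
      · refine ⟨u, Or.inl ?_⟩
        rw [eq_top_iff, ← htop]
        apply Submodule.span_mono
        apply Set.image_mono
        exact_mod_cast Finset.subset_insert a T
      · have hcard : T.card ≤ Module.finrank K (Submodule.span K (v u '' (T : Set (Fin M)))) :=
          hu.resolve_left htop
        set W := Submodule.span K (v u '' (T : Set (Fin M))) with hW
        have hex : ∃ u' : U, σ u' • δ₀ a + c a • d u' ∉ W := by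
          by_contra hcon
          push Not at hcon
          have h1 : δ₀ a ∈ W := by
            have := hcon u₀
            rwa [hσ₀, hd₀, one_smul, smul_zero, add_zero] at this
          have h2 : ∀ u', d u' ∈ W := by
            intro u'
            have h3 := hcon u'
            have h4 : c a • d u' ∈ W := by
              have := W.sub_mem h3 (W.smul_mem (σ u') h1)
              rwa [add_sub_cancel_left] at this
            exact (Submodule.smul_mem_iff W (hc a)).mp h4
          apply htop
          rw [eq_top_iff, ← hspan, Submodule.span_le]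
          rintro _ ⟨u', rfl⟩
          exact h2 u'
        obtain ⟨u', hu'⟩ := hex
        refine ⟨Function.update u a u', Or.inr ?_⟩
        have himg : v (Function.update u a u') '' (T : Set (Fin M)) = v u '' (T : Set (Fin M)) := by
          apply Set.image_congr
          intro j hj
          have hja : j ≠ a := fun h => ha (h ▸ (Finset.mem_coe.mp hj))
          simp only [hv, Function.update_of_ne hja]
        have hva : v (Function.update u a u') a = σ u' • δ₀ a + c a • d u' := by
          simp only [hv, Function.update_self]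
        have hlt : W < Submodule.span K
            (v (Function.update u a u') '' ((insert a T : Finset (Fin M)) : Set (Fin M))) := by
          rw [Finset.coe_insert, Set.image_insert_eq, himg, hva]
          refine lt_of_le_of_ne (Submodule.span_mono (Set.subset_insert _ _)) ?_
          intro heq
          apply hu'
          rw [heq]
          exact Submodule.subset_span (Set.mem_insert _ _)
        have h5 := Submodule.finrank_lt_finrank_of_lt hlt
        rw [Finset.card_insert_of_notMem ha]
        omega
  obtain ⟨u, hu⟩ := key Finset.univ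
  refine ⟨u, ?_⟩
  show Submodule.span K (Set.range (v u)) = ⊤
  rw [Finset.coe_univ, Set.image_univ] at hu
  rcases hu with hu | hu
  · exact hu
  · apply Submodule.eq_top_of_finrank_eq
    rw [Finset.card_univ, Fintype.card_fin] at hu
    have := Submodule.finrank_le (Submodule.span K (Set.range (v u)))
    omega

end abstract

section quotientSpan

variable {R : Type*} {M : Type*} [CommRing R] [AddCommGroup M] [Module R M] (I : Ideal R)

theorem span_quotient_eq_top (S : Set M) (h : Submodule.span R S = ⊤) :
    Submodule.span (R ⧸ I) ((I • ⊤ : Submodule R M).mkQ '' S) = ⊤ := by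
  rw [eq_top_iff]
  rintro v -
  obtain ⟨l, rfl⟩ := Submodule.mkQ_surjective _ v
  have hl : l ∈ Submodule.span R S := by rw [h]; exact Submodule.mem_top
  induction hl using Submodule.span_induction with
  | mem x hx => exact Submodule.subset_span ⟨x, hx, rfl⟩
  | zero => rw [map_zero]; exact Submodule.zero_mem _
  | add x y _ _ hx hy => rw [map_add]; exact Submodule.add_mem _ hx hy
  | smul r x _ hx =>
    have h1 : (I • ⊤ : Submodule R M).mkQ (r • x) =
        Ideal.Quotient.mk I r • (I • ⊤ : Submodule R M).mkQ x := rfl
    rw [h1]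
    exact Submodule.smul_mem _ _ hx

theorem sup_smul_top_eq_top_of_span_quotient (S : Set M)
    (h : Submodule.span (R ⧸ I) ((I • ⊤ : Submodule R M).mkQ '' S) = ⊤) :
    Submodule.span R S ⊔ (I • ⊤ : Submodule R M) = ⊤ := by
  have key : ∀ v ∈ Submodule.span (R ⧸ I) ((I • ⊤ : Submodule R M).mkQ '' S),
      ∃ l ∈ Submodule.span R S, (I • ⊤ : Submodule R M).mkQ l = v := by
    intro v hv
    induction hv using Submodule.span_induction with
    | mem x hx =>
      obtain ⟨s, hs, rfl⟩ := hx
      exact ⟨s, Submodule.subset_span hs, rfl⟩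
    | zero => exact ⟨0, Submodule.zero_mem _, map_zero _⟩
    | add x y _ _ hx hy =>
      obtain ⟨a, ha, rfl⟩ := hx
      obtain ⟨b, hb, rfl⟩ := hy
      exact ⟨a + b, Submodule.add_mem _ ha hb, map_add _ _ _⟩
    | smul c x _ hx =>
      obtain ⟨a, ha, rfl⟩ := hx
      obtain ⟨r, rfl⟩ := Ideal.Quotient.mk_surjective c
      exact ⟨r • a, Submodule.smul_mem _ _ ha, rfl⟩
  rw [eq_top_iff]
  intro l _
  obtain ⟨l', hl', hll'⟩ := key ((I • ⊤ : Submodule R M).mkQ l) (by rw [h]; exact Submodule.mem_top)
  have h2 : l - l' ∈ (I • ⊤ : Submodule R M) := by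
    rw [← Submodule.Quotient.mk_eq_zero, Submodule.Quotient.mk_sub, sub_eq_zero]
    exact hll'.symm
  have h3 : l = l' + (l - l') := by abel
  rw [h3]
  exact Submodule.add_mem _ (Submodule.mem_sup_left hl') (Submodule.mem_sup_right h2)

theorem span_eq_top_of_span_quotient [IsLocalRing R] [Module.Finite R M] (S : Set M)
    (h : Submodule.span (R ⧸ maximalIdeal R)
      ((maximalIdeal R • ⊤ : Submodule R M).mkQ '' S) = ⊤) :
    Submodule.span R S = ⊤ := by
  have h1 := sup_smul_top_eq_top_of_span_quotient (maximalIdeal R) S h
  rw [eq_top_iff]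
  exact Submodule.le_of_le_smul_of_le_jacobson_bot Module.Finite.fg_top
    (IsLocalRing.maximalIdeal_le_jacobson ⊥) (by rw [h1])

end quotientSpan

section concrete

variable (k A : Type u) [Field k] [CommRing A] [IsLocalRing A] [IsNoetherianRing A] [Algebra k A]
  [IsAdicComplete (maximalIdeal A) A] [Module.Finite k (ResidueField A)]

instance finite_completedKaehler :
    Module.Finite A (AdicCompletion (maximalIdeal A) (Ω[A⁄k])) :=
  Groth.Agent.Lib.Helper24.CplFinite.finite_completedKaehler k A

theorem span_of_D_eq_top :
    Submodule.span A (Set.range fun a : A =>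
      AdicCompletion.of (maximalIdeal A) (Ω[A⁄k]) (KaehlerDifferential.D k A a)) = ⊤ := by
  have hfg : (maximalIdeal A).FG := IsNoetherian.noetherian _
  set N := Submodule.span A (Set.range fun a : A =>
      AdicCompletion.of (maximalIdeal A) (Ω[A⁄k]) (KaehlerDifferential.D k A a)) with hN
  rw [eq_top_iff]
  refine Submodule.le_of_le_smul_of_le_jacobson_bot Module.Finite.fg_top
    (IsLocalRing.maximalIdeal_le_jacobson ⊥) ?_
  have hallN : ∀ x : Ω[A⁄k], AdicCompletion.of (maximalIdeal A) (Ω[A⁄k]) x ∈ N := by
    intro x
    have hx' : x ∈ Submodule.span A (Set.range (KaehlerDifferential.D k A)) := by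
      rw [KaehlerDifferential.span_range_derivation]; exact Submodule.mem_top
    induction hx' using Submodule.span_induction with
    | mem x hx =>
      obtain ⟨a, rfl⟩ := hx
      exact Submodule.subset_span ⟨a, rfl⟩
    | zero => rw [map_zero]; exact Submodule.zero_mem _
    | add x y _ _ hx hy => rw [map_add]; exact Submodule.add_mem _ hx hy
    | smul r x _ hx => rw [map_smul]; exact Submodule.smul_mem _ _ hx
  rintro y -
  obtain ⟨x, hx⟩ := Submodule.mkQ_surjective _ (AdicCompletion.eval (maximalIdeal A) (Ω[A⁄k]) 1 y)
  have hxN := hallN x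
  have hy : y - AdicCompletion.of (maximalIdeal A) (Ω[A⁄k]) x ∈
      (maximalIdeal A • ⊤ : Submodule A (AdicCompletion (maximalIdeal A) (Ω[A⁄k]))) := by
    have h1 : (maximalIdeal A • ⊤ : Submodule A (AdicCompletion (maximalIdeal A) (Ω[A⁄k]))) =
        maximalIdeal A ^ 1 • ⊤ := by rw [pow_one]
    rw [h1, AdicCompletion.pow_smul_top_eq_ker_eval hfg, LinearMap.mem_ker, map_sub,
      AdicCompletion.eval_of, hx, sub_self]
  have h3 : y = AdicCompletion.of (maximalIdeal A) (Ω[A⁄k]) x +
      (y - AdicCompletion.of (maximalIdeal A) (Ω[A⁄k]) x) := by abel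
  rw [h3]
  exact Submodule.add_mem _ (Submodule.mem_sup_left hxN) (Submodule.mem_sup_right hy)

end concrete

section main

variable (k A : Type u) [Field k] [CommRing A] [IsLocalRing A] [IsNoetherianRing A] [Algebra k A]
  [IsAdicComplete (maximalIdeal A) A] [Module.Finite k (ResidueField A)]
  (p : Ideal A) [p.IsPrime]

/-- the derivation into the fibre of the localized completed differentials -/
noncomputable def δ (a : A) :
    LocalizedModule p.primeCompl (AdicCompletion (maximalIdeal A) (Ω[A⁄k])) ⧸
      (maximalIdeal (Localization.AtPrime p) • ⊤ : Submodule (Localization.AtPrime p)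
        (LocalizedModule p.primeCompl (AdicCompletion (maximalIdeal A) (Ω[A⁄k])))) :=
  Submodule.Quotient.mk (LocalizedModule.mkLinearMap p.primeCompl
    (AdicCompletion (maximalIdeal A) (Ω[A⁄k]))
    (AdicCompletion.of (maximalIdeal A) (Ω[A⁄k]) (KaehlerDifferential.D k A a)))

theorem δ_one : δ k A p 1 = 0 := by
  rw [δ, Derivation.map_one_eq_zero, map_zero, map_zero, Submodule.Quotient.mk_zero]

theorem δ_sub (a b : A) : δ k A p (a - b) = δ k A p a - δ k A p b := by
  rw [δ, map_sub, map_sub, map_sub, Submodule.Quotient.mk_sub]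
  rfl

theorem δ_mul (a b : A) :
    δ k A p (a * b) =
      Ideal.Quotient.mk (maximalIdeal (Localization.AtPrime p))
          (algebraMap A (Localization.AtPrime p) a) • δ k A p b +
        Ideal.Quotient.mk (maximalIdeal (Localization.AtPrime p))
          (algebraMap A (Localization.AtPrime p) b) • δ k A p a := by
  rw [δ, Derivation.leibniz, map_add, map_add, map_smul, map_smul, map_smul, map_smul,
    Submodule.Quotient.mk_add, ← algebraMap_smul (Localization.AtPrime p) a,
    ← algebraMap_smul (Localization.AtPrime p) b]
  rfl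

set_option maxHeartbeats 2000000 in
theorem exists_units_span (hp : p ≠ maximalIdeal A) (M : ℕ)
    (hgen : ∃ s : Fin M → (LocalizedModule p.primeCompl
      (AdicCompletion (maximalIdeal A) (Ω[A⁄k]))),
      Submodule.span (Localization.AtPrime p) (Set.range s) = ⊤)
    (x : Fin M → A) (hx : ∀ i, x i ∉ p) :
    ∃ u : Fin M → Aˣ, Submodule.span (Localization.AtPrime p)
      (Set.range (fun i => LocalizedModule.mkLinearMap p.primeCompl
        (AdicCompletion (maximalIdeal A) (Ω[A⁄k]))
        (AdicCompletion.of (maximalIdeal A) (Ω[A⁄k])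
          (KaehlerDifferential.D k A ((u i : A) * x i))))) = ⊤ := by
  classical
  obtain ⟨s, hs⟩ := hgen
  letI : Field (Localization.AtPrime p ⧸ maximalIdeal (Localization.AtPrime p)) :=
    Ideal.Quotient.field _
  -- the fibre is spanned by the images of `s`
  have hsK := span_quotient_eq_top (maximalIdeal (Localization.AtPrime p)) (Set.range s) hs
  haveI : Module.Finite (Localization.AtPrime p ⧸ maximalIdeal (Localization.AtPrime p))
      (LocalizedModule p.primeCompl (AdicCompletion (maximalIdeal A) (Ω[A⁄k])) ⧸
      (maximalIdeal (Localization.AtPrime p) • ⊤ : Submodule (Localization.AtPrime p)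
        (LocalizedModule p.primeCompl (AdicCompletion (maximalIdeal A) (Ω[A⁄k]))))) :=
    ⟨(Submodule.fg_def).2 ⟨_, (Set.finite_range s).image _, hsK⟩⟩
  have hM : Module.finrank (Localization.AtPrime p ⧸ maximalIdeal (Localization.AtPrime p))
      (LocalizedModule p.primeCompl (AdicCompletion (maximalIdeal A) (Ω[A⁄k])) ⧸
      (maximalIdeal (Localization.AtPrime p) • ⊤ : Submodule (Localization.AtPrime p)
        (LocalizedModule p.primeCompl (AdicCompletion (maximalIdeal A) (Ω[A⁄k]))))) ≤ M := by
    rw [← finrank_top, ← hsK, ← Set.range_comp]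
    exact (finrank_range_le_card _).trans (by simp)
  -- the `δ a` span the fibre
  have hδspan : Submodule.span (Localization.AtPrime p ⧸ maximalIdeal (Localization.AtPrime p))
      (Set.range (δ k A p)) = ⊤ := by
    have h1 := span_of_D_eq_top k A
    have h2 := span_eq_top_of_isLocalizedModule (Localization.AtPrime p) p.primeCompl
      (LocalizedModule.mkLinearMap p.primeCompl (AdicCompletion (maximalIdeal A) (Ω[A⁄k]))) h1
    have h3 := span_quotient_eq_top (maximalIdeal (Localization.AtPrime p)) _ h2
    rw [← Set.range_comp, ← Set.range_comp] at h3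
    exact h3
  -- already the `δ u`, `u` a unit, span
  have hδunits : Submodule.span (Localization.AtPrime p ⧸ maximalIdeal (Localization.AtPrime p))
      (Set.range fun u : Aˣ => δ k A p (u : A)) = ⊤ := by
    rw [eq_top_iff, ← hδspan, Submodule.span_le]
    rintro _ ⟨a, rfl⟩
    rcases IsLocalRing.isUnit_or_isUnit_one_sub_self a with ha | ha
    · exact Submodule.subset_span ⟨ha.unit, rfl⟩
    · have h4 : δ k A p a = - δ k A p (1 - a) := by
        rw [δ_sub, δ_one, zero_sub, neg_neg]
      rw [SetLike.mem_coe, h4]
      exact Submodule.neg_mem _ (Submodule.subset_span ⟨ha.unit, rfl⟩)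
  have hc : ∀ i, Ideal.Quotient.mk (maximalIdeal (Localization.AtPrime p))
      (algebraMap A (Localization.AtPrime p) (x i)) ≠ 0 := by
    intro i h
    rw [Ideal.Quotient.eq_zero_iff_mem] at h
    have hu : IsUnit (algebraMap A (Localization.AtPrime p) (x i)) :=
      IsLocalization.map_units (Localization.AtPrime p) (⟨x i, hx i⟩ : p.primeCompl)
    exact (IsLocalRing.mem_maximalIdeal _).mp h hu
  obtain ⟨u, hu⟩ := exists_choice_span_top M hM
    (fun u : Aˣ => Ideal.Quotient.mk (maximalIdeal (Localization.AtPrime p))
      (algebraMap A (Localization.AtPrime p) (u : A)))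
    (fun u : Aˣ => δ k A p (u : A)) (fun i => δ k A p (x i))
    (fun i => Ideal.Quotient.mk (maximalIdeal (Localization.AtPrime p))
      (algebraMap A (Localization.AtPrime p) (x i))) hc (1 : Aˣ)
    (by rw [Units.val_one, map_one, map_one]) (by rw [Units.val_one]; exact δ_one k A p) hδunits
  refine ⟨u, ?_⟩
  haveI : Module.Finite (Localization.AtPrime p)
      (LocalizedModule p.primeCompl (AdicCompletion (maximalIdeal A) (Ω[A⁄k]))) :=
    Module.Finite.of_isLocalizedModule p.primeCompl
      (LocalizedModule.mkLinearMap p.primeCompl (AdicCompletion (maximalIdeal A) (Ω[A⁄k])))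
  apply span_eq_top_of_span_quotient
  rw [← Set.range_comp]
  rw [← hu]
  congr 1
  ext v
  constructor
  · rintro ⟨i, rfl⟩
    exact ⟨i, (δ_mul k A p (u i : A) (x i)).symm⟩
  · rintro ⟨i, rfl⟩
    exact ⟨i, δ_mul k A p (u i : A) (x i)⟩

end main

end Groth.Agent.Lib.Helper24.CplKaehlerGen
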