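import Mathlib
import Groth.Agent.S16981
import Groth.Agent.LibCR29f

/-!
# The completed module of differentials of a power series ring over a field (helper24)

* `exists_linearEquiv_of_dual_basis`: `A` Noetherian, complete for a (finitely generated) ideal `I`;
  `Ω` an `A`-module with elements `ω_i` spanning `Ω/IΩ` and linear forms `∂_j : Ω → A` with
  `∂_j ω_i = δ_ij`. Then the `I`-adic completion of `Ω` is free with basis the `ω_i`.
* `completedKaehler_equiv`: for `A = k[[T_1..T_r]]`, `Ω̂_{A/k} ≃ A^r`.
-/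

set_option autoImplicit false
universe u
open IsLocalRing

namespace Groth.Agent.Lib.Helper24.CplKaehlerPS

section general

variable {A : Type u} [CommRing A] [IsNoetherianRing A] (I : Ideal A) [IsAdicComplete I A]
  {Ω : Type u} [AddCommGroup Ω] [Module A Ω] {n : ℕ} (ω : Fin n → Ω) (d : Fin n → (Ω →ₗ[A] A))

theorem exists_linearEquiv_of_dual_basis
    (hd : ∀ i j, d j (ω i) = if i = j then 1 else 0)
    (hspan : ∀ x : Ω, ∃ a : Fin n → A, x - ∑ i, a i • ω i ∈ (I • ⊤ : Submodule A Ω)) :
    Nonempty ((Fin n → A) ≃ₗ[A] AdicCompletion I Ω) := by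
  classical
  haveI : IsAdicComplete I (Fin n → A) := Groth.Agent.S16981.isAdicComplete_of_finite I _
  let φ : (Fin n → A) →ₗ[A] AdicCompletion I Ω :=
    (AdicCompletion.of I Ω).comp (Fintype.linearCombination A ω)
  have hφ : ∀ a, φ a = AdicCompletion.of I Ω (∑ i, a i • ω i) := by
    intro a
    show AdicCompletion.of I Ω (Fintype.linearCombination A ω a) = _
    rw [Fintype.linearCombination_apply]
  let ψ : AdicCompletion I Ω →ₗ[A] (Fin n → A) :=
    (AdicCompletion.ofLinearEquiv I (Fin n → A)).symm.toLinearMap.comp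
      ((AdicCompletion.map I (LinearMap.pi d)).restrictScalars A)
  have hψφ : ∀ a, ψ (φ a) = a := by
    intro a
    show (AdicCompletion.ofLinearEquiv I (Fin n → A)).symm
      (AdicCompletion.map I (LinearMap.pi d) (φ a)) = a
    rw [hφ, AdicCompletion.map_of, AdicCompletion.ofLinearEquiv_symm_of]
    ext j
    rw [LinearMap.pi_apply, map_sum]
    simp only [map_smul, hd, smul_eq_mul, mul_ite, mul_one, mul_zero]
    rw [Finset.sum_ite_eq' Finset.univ j]
    simp
  have hinj : Function.Injective φ := Function.LeftInverse.injective hψφ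
  have hfg : I.FG := IsNoetherian.noetherian I
  have hsurj : Function.Surjective φ := by
    apply surjective_of_mkQ_comp_surjective (I := I)
    intro y
    obtain ⟨y, rfl⟩ := Submodule.mkQ_surjective _ y
    obtain ⟨x, hx⟩ := Submodule.mkQ_surjective _ (AdicCompletion.eval I Ω 1 y)
    obtain ⟨a, ha⟩ := hspan x
    refine ⟨a, ?_⟩
    show Submodule.Quotient.mk (φ a) = Submodule.Quotient.mk y
    rw [Submodule.Quotient.eq]
    have h1 : (I • ⊤ : Submodule A (AdicCompletion I Ω)) = I ^ 1 • ⊤ := by rw [pow_one]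
    rw [h1, AdicCompletion.pow_smul_top_eq_ker_eval hfg, LinearMap.mem_ker, map_sub, hφ,
      AdicCompletion.eval_of, ← hx, sub_eq_zero]
    show Submodule.Quotient.mk _ = Submodule.Quotient.mk _
    rw [Submodule.Quotient.eq, pow_one]
    have := (I • ⊤ : Submodule A Ω).neg_mem ha
    rwa [neg_sub] at this
  exact ⟨LinearEquiv.ofBijective φ ⟨hinj, hsurj⟩⟩

end general

section ps

variable (k : Type u) [Field k] (r : ℕ)

theorem maximalIdeal_eq_span_X :
    maximalIdeal (MvPowerSeries (Fin r) k) =
      Ideal.span (Set.range (MvPowerSeries.X : Fin r → MvPowerSeries (Fin r) k)) := by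
  rw [Groth.Agent.LibCR29.maximalIdeal_ps, IsLocalRing.maximalIdeal_eq_bot, Ideal.map_bot,
    bot_sup_eq]

instance isAdicComplete_ps :
    IsAdicComplete (maximalIdeal (MvPowerSeries (Fin r) k)) (MvPowerSeries (Fin r) k) := by
  rw [maximalIdeal_eq_span_X]
  infer_instance

theorem D_mem (f : MvPowerSeries (Fin r) k) :
    KaehlerDifferential.D k (MvPowerSeries (Fin r) k) f ∈
      Submodule.span (MvPowerSeries (Fin r) k) (Set.range fun i : Fin r =>
        KaehlerDifferential.D k (MvPowerSeries (Fin r) k) (MvPowerSeries.X i)) ⊔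
      (maximalIdeal (MvPowerSeries (Fin r) k) • ⊤ :
        Submodule (MvPowerSeries (Fin r) k) (Ω[MvPowerSeries (Fin r) k⁄k])) := by
  have h1 := Groth.Agent.LibCR29.sub_C_mem_span_X f
  rw [Ideal.mem_span_range_iff_exists_fun] at h1
  obtain ⟨u, hu⟩ := h1
  have h2 : f = MvPowerSeries.C (MvPowerSeries.constantCoeff f) +
      ∑ i, u i * MvPowerSeries.X i := by
    rw [hu]; ring
  have h3 : KaehlerDifferential.D k (MvPowerSeries (Fin r) k)
      (MvPowerSeries.C (MvPowerSeries.constantCoeff f)) = 0 :=
    (KaehlerDifferential.D k (MvPowerSeries (Fin r) k)).map_algebraMap _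
  rw [h2, map_add, h3, zero_add, map_sum]
  refine Submodule.sum_mem _ fun i _ => ?_
  rw [Derivation.leibniz]
  refine Submodule.add_mem _ (Submodule.mem_sup_left ?_) (Submodule.mem_sup_right ?_)
  · exact Submodule.smul_mem _ _ (Submodule.subset_span ⟨i, rfl⟩)
  · exact Submodule.smul_mem_smul (Groth.Agent.LibCR29.X_mem_maximalIdeal_ps i) Submodule.mem_top

theorem completedKaehler_equiv :
    Nonempty ((Fin r → MvPowerSeries (Fin r) k) ≃ₗ[MvPowerSeries (Fin r) k]
      AdicCompletion (maximalIdeal (MvPowerSeries (Fin r) k)) (Ω[MvPowerSeries (Fin r) k⁄k])) := by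
  classical
  apply exists_linearEquiv_of_dual_basis (maximalIdeal (MvPowerSeries (Fin r) k))
    (fun i : Fin r => KaehlerDifferential.D k (MvPowerSeries (Fin r) k) (MvPowerSeries.X i))
    (fun j : Fin r => (MvPowerSeries.pderiv k j).liftKaehlerDifferential)
  · intro i j
    rw [Derivation.liftKaehlerDifferential_comp_D, MvPowerSeries.pderiv_X]
    by_cases h : i = j
    · subst h; simp
    · rw [if_neg h, Pi.single_eq_of_ne h]
  · intro x
    have htop : Submodule.span (MvPowerSeries (Fin r) k) (Set.range fun i : Fin r =>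
        KaehlerDifferential.D k (MvPowerSeries (Fin r) k) (MvPowerSeries.X i)) ⊔
        (maximalIdeal (MvPowerSeries (Fin r) k) • ⊤ :
          Submodule (MvPowerSeries (Fin r) k) (Ω[MvPowerSeries (Fin r) k⁄k])) = ⊤ := by
      rw [eq_top_iff]
      intro x _
      have hx : x ∈ Submodule.span (MvPowerSeries (Fin r) k)
          (Set.range (KaehlerDifferential.D k (MvPowerSeries (Fin r) k))) := by
        rw [KaehlerDifferential.span_range_derivation]
        exact Submodule.mem_top
      refine (Submodule.span_le.mpr ?_) hx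
      rintro _ ⟨f, rfl⟩
      exact D_mem k r f
    have hx : x ∈ (⊤ : Submodule (MvPowerSeries (Fin r) k) (Ω[MvPowerSeries (Fin r) k⁄k])) :=
      Submodule.mem_top
    rw [← htop] at hx
    obtain ⟨y, hy, z, hz, rfl⟩ := Submodule.mem_sup.mp hx
    rw [Submodule.mem_span_range_iff_exists_fun] at hy
    obtain ⟨a, rfl⟩ := hy
    refine ⟨a, ?_⟩
    rw [add_sub_cancel_left]
    exact hz

end ps

end Groth.Agent.Lib.Helper24.CplKaehlerPS
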