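import Mathlib
import Groth.Agent.Lib.Helper24.CplKaehlerGen
import Groth.Agent.Lib.Helper24.CplKaehlerPS

/-!
# Completed differentials of a finite extension of a power series ring (helper24), part 1

`A₀ = k[[T_1..T_r]]`, `A` a complete Noetherian local ring, finite over `A₀`.
* `finite_residueField`: the residue field of `A` is finite over `k`.
* `D_sub_sum_mem`: in `Ω_{A₀/k}`, `d f - Σ ∂_j f · dT_j ∈ 𝔪ⁿ Ω` for all `n`.
* `of_D_algebraMap`: in `Ω̂_{A/k}`, `d f = Σ ∂_j f · dT_j` for `f ∈ A₀`.
-/

set_option autoImplicit false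
universe u
open IsLocalRing TensorProduct

namespace Groth.Agent.Lib.Helper24.CplKaehlerFinExt

section residue

variable (k : Type u) [Field k] (r : ℕ) (A : Type u) [CommRing A] [IsLocalRing A]
  [Algebra (MvPowerSeries (Fin r) k) A] [Algebra k A] [IsScalarTower k (MvPowerSeries (Fin r) k) A]
  [Module.Finite (MvPowerSeries (Fin r) k) A]

theorem comap_maximalIdeal :
    (maximalIdeal A).comap (algebraMap (MvPowerSeries (Fin r) k) A) =
      maximalIdeal (MvPowerSeries (Fin r) k) := by
  haveI : Algebra.IsIntegral (MvPowerSeries (Fin r) k) A := inferInstance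
  have h := Ideal.isMaximal_comap_of_isIntegral_of_isMaximal (R := MvPowerSeries (Fin r) k)
    (maximalIdeal A)
  exact IsLocalRing.eq_maximalIdeal h

theorem algebraMap_mem_maximalIdeal (f : MvPowerSeries (Fin r) k)
    (hf : f ∈ maximalIdeal (MvPowerSeries (Fin r) k)) :
    algebraMap (MvPowerSeries (Fin r) k) A f ∈ maximalIdeal A := by
  rw [← comap_maximalIdeal k r A] at hf
  exact hf

theorem map_maximalIdeal_le :
    (maximalIdeal (MvPowerSeries (Fin r) k)).map (algebraMap (MvPowerSeries (Fin r) k) A) ≤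
      maximalIdeal A := by
  rw [Ideal.map_le_iff_le_comap, comap_maximalIdeal]

include r in
theorem finite_residueField : Module.Finite k (ResidueField A) := by
  classical
  haveI : Module.Finite A (ResidueField A) :=
    Module.Finite.of_surjective (Algebra.linearMap A (ResidueField A))
      IsLocalRing.residue_surjective
  haveI : Module.Finite (MvPowerSeries (Fin r) k) (ResidueField A) := Module.Finite.trans A _
  obtain ⟨n, y, hy⟩ := Module.Finite.exists_fin (R := MvPowerSeries (Fin r) k)
    (M := ResidueField A)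
  refine ⟨(Submodule.fg_def).2 ⟨Set.range y, Set.finite_range y, ?_⟩⟩
  rw [eq_top_iff]
  rintro v -
  have hv : v ∈ Submodule.span (MvPowerSeries (Fin r) k) (Set.range y) := by
    rw [hy]; exact Submodule.mem_top
  rw [Submodule.mem_span_range_iff_exists_fun] at hv ⊢
  obtain ⟨f, rfl⟩ := hv
  refine ⟨fun i => MvPowerSeries.constantCoeff (f i), ?_⟩
  refine Finset.sum_congr rfl fun i _ => ?_
  have h1 : f i - MvPowerSeries.C (MvPowerSeries.constantCoeff (f i)) ∈
      maximalIdeal (MvPowerSeries (Fin r) k) := by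
    rw [Groth.Agent.Lib.Helper24.CplKaehlerPS.maximalIdeal_eq_span_X]
    exact Groth.Agent.LibCR29.sub_C_mem_span_X (f i)
  have h2 := algebraMap_mem_maximalIdeal k r A _ h1
  rw [← IsLocalRing.residue_eq_zero_iff, map_sub, map_sub, sub_eq_zero] at h2
  rw [Algebra.smul_def, Algebra.smul_def]
  congr 1
  show residue A (algebraMap k A _) = residue A (algebraMap (MvPowerSeries (Fin r) k) A (f i))
  rw [h2, IsScalarTower.algebraMap_apply k (MvPowerSeries (Fin r) k) A]
  rfl

end residue

section powerSeries

variable (k : Type u) [Field k] (r : ℕ)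

/-- `E = d - Σ ∂_i (·) dT_i`, a derivation of `A₀ = k[[T]]` into `Ω_{A₀/k}` -/
noncomputable def errDer : Derivation k (MvPowerSeries (Fin r) k) (Ω[MvPowerSeries (Fin r) k⁄k]) :=
  KaehlerDifferential.D k (MvPowerSeries (Fin r) k) -
    ∑ i : Fin r, (LinearMap.toSpanSingleton (MvPowerSeries (Fin r) k) (Ω[MvPowerSeries (Fin r) k⁄k])
      (KaehlerDifferential.D k (MvPowerSeries (Fin r) k) (MvPowerSeries.X i))).compDer
        (MvPowerSeries.pderiv k i)

theorem errDer_apply (f : MvPowerSeries (Fin r) k) :
    errDer k r f = KaehlerDifferential.D k (MvPowerSeries (Fin r) k) f -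
      ∑ i : Fin r, MvPowerSeries.pderiv k i f •
        KaehlerDifferential.D k (MvPowerSeries (Fin r) k) (MvPowerSeries.X i) := by
  rw [errDer, Derivation.sub_apply]
  congr 1
  rw [← Derivation.coeFnAddMonoidHom_apply, map_sum, Finset.sum_apply]
  rfl

theorem errDer_X (j : Fin r) : errDer k r (MvPowerSeries.X j) = 0 := by
  classical
  rw [errDer_apply, sub_eq_zero]
  simp_rw [MvPowerSeries.pderiv_X]
  rw [Finset.sum_eq_single j]
  · rw [Pi.single_eq_same, one_smul]
  · intro i _ hij
    rw [Pi.single_eq_of_ne (Ne.symm hij), zero_smul]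
  · intro h
    exact absurd (Finset.mem_univ j) h

theorem errDer_mem (n : ℕ) : ∀ f : MvPowerSeries (Fin r) k,
    errDer k r f ∈ (maximalIdeal (MvPowerSeries (Fin r) k) ^ n • ⊤ :
      Submodule (MvPowerSeries (Fin r) k) (Ω[MvPowerSeries (Fin r) k⁄k])) := by
  induction n with
  | zero =>
    intro f
    rw [pow_zero, Ideal.one_eq_top, Submodule.top_smul]
    exact Submodule.mem_top
  | succ n ih =>
    intro f
    have h1 := Groth.Agent.LibCR29.sub_C_mem_span_X f
    rw [Ideal.mem_span_range_iff_exists_fun] at h1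
    obtain ⟨u, hu⟩ := h1
    have h2 : f = MvPowerSeries.C (MvPowerSeries.constantCoeff f) +
        ∑ i, u i * MvPowerSeries.X i := by
      rw [hu]; ring
    have h3 : errDer k r (MvPowerSeries.C (MvPowerSeries.constantCoeff f)) = 0 :=
      (errDer k r).map_algebraMap _
    rw [h2, map_add, h3, zero_add, map_sum]
    refine Submodule.sum_mem _ fun i _ => ?_
    rw [Derivation.leibniz, errDer_X, smul_zero, zero_add, pow_succ', mul_smul]
    exact Submodule.smul_mem_smul (Groth.Agent.LibCR29.X_mem_maximalIdeal_ps i) (ih (u i))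

end powerSeries

section transfer

variable (k : Type u) [Field k] (r : ℕ) (A : Type u) [CommRing A] [IsLocalRing A]
  [Algebra (MvPowerSeries (Fin r) k) A] [Algebra k A] [IsScalarTower k (MvPowerSeries (Fin r) k) A]
  [Module.Finite (MvPowerSeries (Fin r) k) A]

theorem map_mem_pow_smul (n : ℕ) (ω : Ω[MvPowerSeries (Fin r) k⁄k])
    (hω : ω ∈ (maximalIdeal (MvPowerSeries (Fin r) k) ^ n • ⊤ :
      Submodule (MvPowerSeries (Fin r) k) (Ω[MvPowerSeries (Fin r) k⁄k]))) :
    KaehlerDifferential.map k k (MvPowerSeries (Fin r) k) A ω ∈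
      (maximalIdeal A ^ n • ⊤ : Submodule A (Ω[A⁄k])) := by
  refine Submodule.smul_induction_on hω ?_ ?_
  · intro a ha x _
    rw [map_smul, ← algebraMap_smul A a]
    refine Submodule.smul_mem_smul ?_ Submodule.mem_top
    have h1 : algebraMap (MvPowerSeries (Fin r) k) A a ∈
        (maximalIdeal (MvPowerSeries (Fin r) k) ^ n).map
          (algebraMap (MvPowerSeries (Fin r) k) A) := Ideal.mem_map_of_mem _ ha
    rw [Ideal.map_pow] at h1
    exact Ideal.pow_right_mono (map_maximalIdeal_le k r A) n h1
  · intro x y hx hy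
    rw [map_add]
    exact Submodule.add_mem _ hx hy

theorem of_D_algebraMap (f : MvPowerSeries (Fin r) k) :
    AdicCompletion.of (maximalIdeal A) (Ω[A⁄k])
        (KaehlerDifferential.D k A (algebraMap (MvPowerSeries (Fin r) k) A f)) =
      ∑ j : Fin r, algebraMap (MvPowerSeries (Fin r) k) A (MvPowerSeries.pderiv k j f) •
        AdicCompletion.of (maximalIdeal A) (Ω[A⁄k])
          (KaehlerDifferential.D k A (algebraMap (MvPowerSeries (Fin r) k) A
            (MvPowerSeries.X j))) := by
  have hz : KaehlerDifferential.map k k (MvPowerSeries (Fin r) k) A (errDer k r f) =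
      KaehlerDifferential.D k A (algebraMap (MvPowerSeries (Fin r) k) A f) -
        ∑ j : Fin r, algebraMap (MvPowerSeries (Fin r) k) A (MvPowerSeries.pderiv k j f) •
          KaehlerDifferential.D k A (algebraMap (MvPowerSeries (Fin r) k) A
            (MvPowerSeries.X j)) := by
    rw [errDer_apply, map_sub, KaehlerDifferential.map_D, map_sum]
    congr 1
    refine Finset.sum_congr rfl fun j _ => ?_
    rw [map_smul, KaehlerDifferential.map_D, algebraMap_smul]
  have h0 : AdicCompletion.of (maximalIdeal A) (Ω[A⁄k])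
      (KaehlerDifferential.map k k (MvPowerSeries (Fin r) k) A (errDer k r f)) = 0 := by
    have hH : IsHausdorff (maximalIdeal A) (AdicCompletion (maximalIdeal A) (Ω[A⁄k])) :=
      inferInstance
    apply hH.haus'
    intro n
    rw [SModEq.zero]
    have h1 := map_mem_pow_smul k r A n _ (errDer_mem k r n f)
    have h2 : ((maximalIdeal A) ^ n • ⊤ : Submodule A (Ω[A⁄k])).map
        (AdicCompletion.of (maximalIdeal A) (Ω[A⁄k])) ≤
        ((maximalIdeal A) ^ n • ⊤ : Submodule A (AdicCompletion (maximalIdeal A) (Ω[A⁄k]))) := by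
      rw [Submodule.map_smul'']
      exact Submodule.smul_mono le_rfl le_top
    exact h2 (Submodule.mem_map_of_mem h1)
  rw [hz, map_sub, sub_eq_zero, map_sum] at h0
  rw [h0]
  refine Finset.sum_congr rfl fun j _ => ?_
  rw [map_smul]

end transfer

end Groth.Agent.Lib.Helper24.CplKaehlerFinExt
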