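import Mathlib
import Groth.Agent.Lib.Helper24.CplKaehlerFinExt1

/-!
# Completed differentials of a finite extension of a power series ring (helper24), part 2

`A₀ = k[[T_1..T_r]]`, `A` a complete Noetherian local domain, finite over `A₀`, with fraction field
`E` formally étale over `A₀`.  Then `E ⊗_A Ω̂_{A/k}` has the basis `1 ⊗ dT_j`.
-/

set_option autoImplicit false
universe u
open IsLocalRing TensorProduct

namespace Groth.Agent.Lib.Helper24.CplKaehlerFinExt

section upper

variable (k : Type u) [Field k] (r : ℕ) (A : Type u) [CommRing A] [IsDomain A] [IsLocalRing A]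
  [IsNoetherianRing A] [IsAdicComplete (maximalIdeal A) A]
  [Algebra (MvPowerSeries (Fin r) k) A] [Algebra k A] [IsScalarTower k (MvPowerSeries (Fin r) k) A]
  [Module.Finite (MvPowerSeries (Fin r) k) A]
  [Algebra.FormallyEtale (MvPowerSeries (Fin r) k) (FractionRing A)]

/-- the candidate basis `1 ⊗ dT_j` -/
noncomputable def tvec (j : Fin r) :
    FractionRing A ⊗[A] AdicCompletion (maximalIdeal A) (Ω[A⁄k]) :=
  (1 : FractionRing A) ⊗ₜ[A] AdicCompletion.of (maximalIdeal A) (Ω[A⁄k])
    (KaehlerDifferential.D k A (algebraMap (MvPowerSeries (Fin r) k) A (MvPowerSeries.X j)))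

omit [IsLocalRing A] [IsNoetherianRing A] [IsAdicComplete (maximalIdeal A) A]
  [Module.Finite (MvPowerSeries (Fin r) k) A] in
theorem span_D_algebraMap_eq_top :
    Submodule.span (FractionRing A) (Set.range fun f : MvPowerSeries (Fin r) k =>
      KaehlerDifferential.D k (FractionRing A)
        (algebraMap (MvPowerSeries (Fin r) k) (FractionRing A) f)) = ⊤ := by
  rw [eq_top_iff]
  rintro ω -
  obtain ⟨x, rfl⟩ := (KaehlerDifferential.tensorKaehlerEquivOfFormallyEtale k
    (MvPowerSeries (Fin r) k) (FractionRing A)).surjective ω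
  induction x using TensorProduct.induction_on with
  | zero => rw [map_zero]; exact Submodule.zero_mem _
  | add x y hx hy => rw [map_add]; exact Submodule.add_mem _ hx hy
  | tmul e ω₀ =>
    rw [KaehlerDifferential.tensorKaehlerEquivOfFormallyEtale_apply,
      KaehlerDifferential.mapBaseChange_tmul]
    apply Submodule.smul_mem
    have hω₀ : ω₀ ∈ Submodule.span (MvPowerSeries (Fin r) k)
        (Set.range (KaehlerDifferential.D k (MvPowerSeries (Fin r) k))) := by
      rw [KaehlerDifferential.span_range_derivation]; exact Submodule.mem_top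
    induction hω₀ using Submodule.span_induction with
    | mem x hx =>
      obtain ⟨f, rfl⟩ := hx
      rw [KaehlerDifferential.map_D]
      exact Submodule.subset_span ⟨f, rfl⟩
    | zero => rw [map_zero]; exact Submodule.zero_mem _
    | add x y _ _ hx hy => rw [map_add]; exact Submodule.add_mem _ hx hy
    | smul a x _ hx =>
      rw [map_smul, ← algebraMap_smul (FractionRing A) a]
      exact Submodule.smul_mem _ _ hx

/-- `Ω_{E/k} ≅ E ⊗_A Ω_{A/k} → E ⊗_A Ω̂_{A/k}` -/
noncomputable def PhiMap :
    Ω[FractionRing A⁄k] →ₗ[FractionRing A]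
      FractionRing A ⊗[A] AdicCompletion (maximalIdeal A) (Ω[A⁄k]) :=
  (LinearMap.baseChange (FractionRing A) (AdicCompletion.of (maximalIdeal A) (Ω[A⁄k]))).comp
    (KaehlerDifferential.tensorKaehlerEquivOfFormallyEtale k A (FractionRing A)).symm.toLinearMap

theorem PhiMap_D (a : A) :
    PhiMap k A (KaehlerDifferential.D k (FractionRing A) (algebraMap A (FractionRing A) a)) =
      (1 : FractionRing A) ⊗ₜ[A] AdicCompletion.of (maximalIdeal A) (Ω[A⁄k])
        (KaehlerDifferential.D k A a) := by
  rw [PhiMap, LinearMap.comp_apply, LinearEquiv.coe_coe,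
    KaehlerDifferential.tensorKaehlerEquivOfFormallyEtale_symm_D_algebraMap,
    LinearMap.baseChange_tmul]

theorem PhiMap_mem (ω : Ω[FractionRing A⁄k]) :
    PhiMap k A ω ∈ Submodule.span (FractionRing A) (Set.range (tvec k r A)) := by
  have h1 : ω ∈ Submodule.span (FractionRing A) (Set.range fun f : MvPowerSeries (Fin r) k =>
        KaehlerDifferential.D k (FractionRing A)
          (algebraMap (MvPowerSeries (Fin r) k) (FractionRing A) f)) := by
    rw [span_D_algebraMap_eq_top]; exact Submodule.mem_top
  induction h1 using Submodule.span_induction with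
  | mem x hx =>
    obtain ⟨f, rfl⟩ := hx
    show PhiMap k A (KaehlerDifferential.D k (FractionRing A)
      (algebraMap (MvPowerSeries (Fin r) k) (FractionRing A) f)) ∈ _
    rw [IsScalarTower.algebraMap_apply (MvPowerSeries (Fin r) k) A (FractionRing A), PhiMap_D,
      of_D_algebraMap, TensorProduct.tmul_sum]
    refine Submodule.sum_mem _ fun j _ => ?_
    rw [TensorProduct.tmul_smul, ← algebraMap_smul (FractionRing A)
      (algebraMap (MvPowerSeries (Fin r) k) A (MvPowerSeries.pderiv k j f))]
    exact Submodule.smul_mem _ _ (Submodule.subset_span ⟨j, rfl⟩)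
  | zero => rw [map_zero]; exact Submodule.zero_mem _
  | add x y _ _ hx hy => rw [map_add]; exact Submodule.add_mem _ hx hy
  | smul e x _ hx => rw [map_smul]; exact Submodule.smul_mem _ _ hx

theorem one_tmul_of_D_mem (a : A) :
    (1 : FractionRing A) ⊗ₜ[A] AdicCompletion.of (maximalIdeal A) (Ω[A⁄k])
        (KaehlerDifferential.D k A a) ∈
      Submodule.span (FractionRing A) (Set.range (tvec k r A)) := by
  rw [← PhiMap_D]
  exact PhiMap_mem k r A _

theorem span_tvec_eq_top :
    Submodule.span (FractionRing A) (Set.range (tvec k r A)) = ⊤ := by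
  haveI : Module.Finite k (ResidueField A) := finite_residueField k r A
  have hall : ∀ y : AdicCompletion (maximalIdeal A) (Ω[A⁄k]),
      (1 : FractionRing A) ⊗ₜ[A] y ∈ Submodule.span (FractionRing A) (Set.range (tvec k r A)) := by
    intro y
    have hy : y ∈ Submodule.span A (Set.range fun a : A =>
        AdicCompletion.of (maximalIdeal A) (Ω[A⁄k]) (KaehlerDifferential.D k A a)) := by
      rw [Groth.Agent.Lib.Helper24.CplKaehlerGen.span_of_D_eq_top]; exact Submodule.mem_top
    induction hy using Submodule.span_induction with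
    | mem x hx =>
      obtain ⟨a, rfl⟩ := hx
      exact one_tmul_of_D_mem k r A a
    | zero => rw [TensorProduct.tmul_zero]; exact Submodule.zero_mem _
    | add x y _ _ hx hy => rw [TensorProduct.tmul_add]; exact Submodule.add_mem _ hx hy
    | smul a x _ hx =>
      rw [TensorProduct.tmul_smul, ← algebraMap_smul (FractionRing A) a]
      exact Submodule.smul_mem _ _ hx
  rw [eq_top_iff]
  rintro x -
  induction x using TensorProduct.induction_on with
  | zero => exact Submodule.zero_mem _
  | add x y hx hy => exact Submodule.add_mem _ hx hy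
  | tmul e y =>
    have h1 : e ⊗ₜ[A] y = e • ((1 : FractionRing A) ⊗ₜ[A] y) := by
      rw [TensorProduct.smul_tmul', smul_eq_mul, mul_one]
    rw [h1]
    exact Submodule.smul_mem _ _ (hall y)

end upper

section lower

variable (k : Type u) [Field k] (r : ℕ) (A : Type u) [CommRing A] [IsDomain A] [IsLocalRing A]
  [IsNoetherianRing A] [IsAdicComplete (maximalIdeal A) A]
  [Algebra (MvPowerSeries (Fin r) k) A] [Algebra k A] [IsScalarTower k (MvPowerSeries (Fin r) k) A]
  [Module.Finite (MvPowerSeries (Fin r) k) A]
  [Algebra.FormallyEtale (MvPowerSeries (Fin r) k) (FractionRing A)]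

/-- `∂_i` as a linear form `Ω_{A₀/k} → E` -/
noncomputable def pdE (i : Fin r) :
    Ω[MvPowerSeries (Fin r) k⁄k] →ₗ[MvPowerSeries (Fin r) k] FractionRing A :=
  (Algebra.linearMap (MvPowerSeries (Fin r) k) (FractionRing A)).comp
    (MvPowerSeries.pderiv k i).liftKaehlerDifferential

/-- the extension of `∂_i` to a derivation of `E` -/
noncomputable def DE (i : Fin r) : Derivation k (FractionRing A) (FractionRing A) :=
  ((LinearMap.liftBaseChange (FractionRing A) (pdE k r A i)).comp
    (KaehlerDifferential.tensorKaehlerEquivOfFormallyEtale k (MvPowerSeries (Fin r) k)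
      (FractionRing A)).symm.toLinearMap).compDer (KaehlerDifferential.D k (FractionRing A))

theorem DE_algebraMap (i : Fin r) (f : MvPowerSeries (Fin r) k) :
    DE k r A i (algebraMap (MvPowerSeries (Fin r) k) (FractionRing A) f) =
      algebraMap (MvPowerSeries (Fin r) k) (FractionRing A) (MvPowerSeries.pderiv k i f) := by
  show (LinearMap.liftBaseChange (FractionRing A) (pdE k r A i))
    ((KaehlerDifferential.tensorKaehlerEquivOfFormallyEtale k (MvPowerSeries (Fin r) k)
      (FractionRing A)).symm (KaehlerDifferential.D k (FractionRing A)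
        (algebraMap (MvPowerSeries (Fin r) k) (FractionRing A) f))) = _
  rw [KaehlerDifferential.tensorKaehlerEquivOfFormallyEtale_symm_D_algebraMap,
    LinearMap.liftBaseChange_tmul, one_smul]
  show algebraMap (MvPowerSeries (Fin r) k) (FractionRing A)
    ((MvPowerSeries.pderiv k i).liftKaehlerDifferential
      (KaehlerDifferential.D k (MvPowerSeries (Fin r) k) f)) = _
  rw [Derivation.liftKaehlerDifferential_comp_D]

/-- the linear form `Ω_{A/k} → E` induced by `DE i` -/
noncomputable def psi (i : Fin r) : Ω[A⁄k] →ₗ[A] FractionRing A :=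
  ((DE k r A i).compAlgebraMap A).liftKaehlerDifferential

theorem psi_D (i : Fin r) (a : A) :
    psi k r A i (KaehlerDifferential.D k A a) = DE k r A i (algebraMap A (FractionRing A) a) := by
  rw [psi, Derivation.liftKaehlerDifferential_comp_D]
  rfl

theorem exists_finite_submodule (i : Fin r) :
    ∃ N : Submodule A (FractionRing A), N.FG ∧ LinearMap.range (psi k r A i) ≤ N := by
  classical
  obtain ⟨m, b, hb⟩ := Module.Finite.exists_fin (R := MvPowerSeries (Fin r) k) (M := A)
  refine ⟨Submodule.span A (insert (1 : FractionRing A)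
    (Set.range fun l : Fin m => DE k r A i (algebraMap A (FractionRing A) (b l)))),
    Submodule.fg_span ((Set.finite_range _).insert _), ?_⟩
  set N := Submodule.span A (insert (1 : FractionRing A)
    (Set.range fun l : Fin m => DE k r A i (algebraMap A (FractionRing A) (b l)))) with hN
  have h1N : (1 : FractionRing A) ∈ N := Submodule.subset_span (Set.mem_insert _ _)
  have hbN : ∀ l, DE k r A i (algebraMap A (FractionRing A) (b l)) ∈ N := fun l =>
    Submodule.subset_span (Set.mem_insert_of_mem _ ⟨l, rfl⟩)
  have halg : ∀ a : A, algebraMap A (FractionRing A) a ∈ N := by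
    intro a
    have : algebraMap A (FractionRing A) a = a • (1 : FractionRing A) := by
      rw [Algebra.smul_def, mul_one]
    rw [this]
    exact N.smul_mem a h1N
  have hD : ∀ a : A, DE k r A i (algebraMap A (FractionRing A) a) ∈ N := by
    intro a
    have ha : a ∈ Submodule.span (MvPowerSeries (Fin r) k) (Set.range b) := by
      rw [hb]; exact Submodule.mem_top
    rw [Submodule.mem_span_range_iff_exists_fun] at ha
    obtain ⟨f, rfl⟩ := ha
    rw [map_sum, map_sum]
    refine Submodule.sum_mem _ fun l _ => ?_
    rw [Algebra.smul_def, map_mul, Derivation.leibniz,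
      ← IsScalarTower.algebraMap_apply (MvPowerSeries (Fin r) k) A (FractionRing A),
      DE_algebraMap]
    refine Submodule.add_mem _ ?_ ?_
    · rw [IsScalarTower.algebraMap_apply (MvPowerSeries (Fin r) k) A (FractionRing A),
        algebraMap_smul]
      exact N.smul_mem _ (hbN l)
    · rw [IsScalarTower.algebraMap_apply (MvPowerSeries (Fin r) k) A (FractionRing A),
        algebraMap_smul]
      exact N.smul_mem _ (halg _)
  rintro _ ⟨ω, rfl⟩
  have hω : ω ∈ Submodule.span A (Set.range (KaehlerDifferential.D k A)) := by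
    rw [KaehlerDifferential.span_range_derivation]; exact Submodule.mem_top
  induction hω using Submodule.span_induction with
  | mem x hx =>
    obtain ⟨a, rfl⟩ := hx
    rw [psi_D]
    exact hD a
  | zero => rw [map_zero]; exact Submodule.zero_mem _
  | add x y _ _ hx hy => rw [map_add]; exact Submodule.add_mem _ hx hy
  | smul a x _ hx => rw [map_smul]; exact Submodule.smul_mem _ _ hx

theorem exists_extension (i : Fin r) :
    ∃ Ψ : AdicCompletion (maximalIdeal A) (Ω[A⁄k]) →ₗ[A] FractionRing A,
      ∀ ω, Ψ (AdicCompletion.of (maximalIdeal A) (Ω[A⁄k]) ω) = psi k r A i ω := by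
  obtain ⟨N, hNfg, hN⟩ := exists_finite_submodule k r A i
  haveI : Module.Finite A N := Module.Finite.iff_fg.mpr hNfg
  haveI : IsAdicComplete (maximalIdeal A) N :=
    Groth.Agent.S16981.isAdicComplete_of_finite (maximalIdeal A) _
  let ψ' : Ω[A⁄k] →ₗ[A] N := (psi k r A i).codRestrict N (fun ω => hN ⟨ω, rfl⟩)
  refine ⟨N.subtype.comp ((AdicCompletion.ofLinearEquiv (maximalIdeal A) N).symm.toLinearMap.comp
    ((AdicCompletion.map (maximalIdeal A) ψ').restrictScalars A)), ?_⟩
  intro ω
  show N.subtype ((AdicCompletion.ofLinearEquiv (maximalIdeal A) N).symm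
    (AdicCompletion.map (maximalIdeal A) ψ' (AdicCompletion.of (maximalIdeal A) (Ω[A⁄k]) ω))) = _
  rw [AdicCompletion.map_of, AdicCompletion.ofLinearEquiv_symm_of]
  rfl

theorem linearIndependent_tvec : LinearIndependent (FractionRing A) (tvec k r A) := by
  classical
  choose Ψ hΨ using exists_extension k r A
  have hval : ∀ i j, LinearMap.liftBaseChange (FractionRing A) (Ψ i) (tvec k r A j) =
      if i = j then 1 else 0 := by
    intro i j
    rw [tvec, LinearMap.liftBaseChange_tmul, one_smul, hΨ, psi_D,
      ← IsScalarTower.algebraMap_apply (MvPowerSeries (Fin r) k) A (FractionRing A),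
      DE_algebraMap, MvPowerSeries.pderiv_X]
    by_cases h : i = j
    · subst h; simp
    · rw [if_neg h, Pi.single_eq_of_ne (Ne.symm h), map_zero]
  rw [linearIndependent_iff']
  intro s g hg i hi
  have h1 := congrArg (LinearMap.liftBaseChange (FractionRing A) (Ψ i)) hg
  rw [map_sum, map_zero] at h1
  simp_rw [map_smul, hval, smul_eq_mul, mul_ite, mul_one, mul_zero] at h1
  rw [Finset.sum_ite_eq s i, if_pos hi] at h1
  exact h1

theorem finrank_eq :
    Module.finrank (FractionRing A)
      (FractionRing A ⊗[A] AdicCompletion (maximalIdeal A) (Ω[A⁄k])) = r := by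
  have b := Module.Basis.mk (linearIndependent_tvec k r A) (span_tvec_eq_top k r A).ge
  rw [Module.finrank_eq_card_basis b, Fintype.card_fin]

end lower

section separable

variable (k : Type u) [Field k] (r : ℕ) (A : Type u) [CommRing A] [IsDomain A]
  [Algebra (MvPowerSeries (Fin r) k) A]

theorem formallyEtale_of_separable
    (hinj : Function.Injective (algebraMap (MvPowerSeries (Fin r) k) A))
    (hsep : ∀ a : A, ∃ P : Polynomial (MvPowerSeries (Fin r) k), Polynomial.aeval a P = 0 ∧
      (P.map (algebraMap (MvPowerSeries (Fin r) k)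
        (FractionRing (MvPowerSeries (Fin r) k)))).Separable) :
    Algebra.FormallyEtale (MvPowerSeries (Fin r) k) (FractionRing A) := by
  haveI : IsDomain (MvPowerSeries (Fin r) k) := NoZeroDivisors.to_isDomain _
  haveI : FaithfulSMul (MvPowerSeries (Fin r) k) A :=
    (faithfulSMul_iff_algebraMap_injective (MvPowerSeries (Fin r) k) A).mpr hinj
  letI : Algebra (FractionRing (MvPowerSeries (Fin r) k)) (FractionRing A) :=
    FractionRing.liftAlgebra (MvPowerSeries (Fin r) k) (FractionRing A)
  haveI : IsScalarTower (MvPowerSeries (Fin r) k) (FractionRing (MvPowerSeries (Fin r) k))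
      (FractionRing A) := FractionRing.isScalarTower_liftAlgebra _ _
  have hA : ∀ a : A, algebraMap A (FractionRing A) a ∈
      separableClosure (FractionRing (MvPowerSeries (Fin r) k)) (FractionRing A) := by
    intro a
    obtain ⟨P, hP0, hPsep⟩ := hsep a
    rw [mem_separableClosure_iff]
    refine hPsep.of_dvd (minpoly.dvd _ _ ?_)
    rw [Polynomial.aeval_map_algebraMap, Polynomial.aeval_algebraMap_apply, hP0, map_zero]
  haveI : Algebra.IsSeparable (FractionRing (MvPowerSeries (Fin r) k)) (FractionRing A) := by
    rw [Algebra.isSeparable_def]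
    intro e
    obtain ⟨a, b, -, rfl⟩ := IsFractionRing.div_surjective (A := A) e
    rw [← mem_separableClosure_iff]
    exact div_mem (hA a) (hA b)
  haveI : Algebra.FormallyEtale (FractionRing (MvPowerSeries (Fin r) k)) (FractionRing A) :=
    Algebra.FormallyEtale.of_isSeparable _ _
  exact Algebra.FormallyEtale.comp (MvPowerSeries (Fin r) k)
    (FractionRing (MvPowerSeries (Fin r) k)) (FractionRing A)

end separable

end Groth.Agent.Lib.Helper24.CplKaehlerFinExt
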