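import Mathlib
import Groth.Agent.Lib.Helper24.CTens1
import Groth.Agent.Lib.Helper24.N2Reg

/-!
# Extending derivations to adic completions (helper24)

`exists_extension`: `A` a ring, `I` a finitely generated ideal with `Â = AdicCompletion I A`
Noetherian, `N` a finite `Â`-module, `δ : A → N` additive satisfying the Leibniz rule (w.r.t.
`A → Â`). Then `δ` extends to an additive `δ' : Â → N` satisfying the Leibniz rule.

The proof extends the ring map `A → Â ⊕ N ε`, `a ↦ (a, δ a)` to the completion by the universal
property (`CTens.toComplete`).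
-/

set_option autoImplicit false
universe u

namespace Groth.Agent.Lib.Helper24.DerExt

open TrivSqZeroExt

theorem isAdicComplete_of_pow_le {R : Type*} [CommRing R] (I J : Ideal R) (n : ℕ)
    (h1 : I ≤ J) (h2 : J ^ (n + 1) ≤ I) [IsAdicComplete I R] : IsAdicComplete J R := by
  have hpow : ∀ k, J ^ ((n + 1) * k) ≤ I ^ k := fun k => by
    rw [pow_mul]
    exact Ideal.pow_right_mono h2 k
  have hk : ∀ k, k ≤ (n + 1) * k := fun k => Nat.le_mul_of_pos_left k (Nat.succ_pos n)
  refine { haus' := ?_, prec' := ?_ }
  · intro x hx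
    refine IsHausdorff.haus (inferInstance : IsHausdorff I R) x fun k => ?_
    have h := hx ((n + 1) * k)
    rw [SModEq.zero, smul_eq_mul, Ideal.mul_top] at h ⊢
    exact hpow k h
  · intro f hf
    have hg : ∀ {k l : ℕ}, k ≤ l →
        f ((n + 1) * k) ≡ f ((n + 1) * l) [SMOD (I ^ k • ⊤ : Submodule R R)] := by
      intro k l hkl
      have h := hf (Nat.mul_le_mul_left (n + 1) hkl)
      rw [SModEq.sub_mem, smul_eq_mul, Ideal.mul_top] at h ⊢
      exact hpow k h
    obtain ⟨L, hL⟩ := IsPrecomplete.prec (inferInstance : IsPrecomplete I R) hg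
    refine ⟨L, fun k => ?_⟩
    have e1 := hf (hk k)
    have e2 := hL k
    rw [SModEq.sub_mem, smul_eq_mul, Ideal.mul_top] at e1 e2 ⊢
    have e3 : f ((n + 1) * k) - L ∈ J ^ k := Ideal.pow_right_mono h1 k e2
    have e4 : f k - L = (f k - f ((n + 1) * k)) + (f ((n + 1) * k) - L) := by ring
    rw [e4]
    exact Ideal.add_mem _ e1 e3

section uniq

variable {A : Type u} [CommRing A] (I : Ideal A)

theorem sub_mem_pow (hI : I.FG) (a : AdicCompletion.AdicCauchySequence I A) (n : ℕ) :
    AdicCompletion.mk I A a - algebraMap A (AdicCompletion I A) (a.val n) ∈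
      (I.map (algebraMap A (AdicCompletion I A))) ^ n := by
  have h1 : AdicCompletion.mk I A a - algebraMap A (AdicCompletion I A) (a.val n) ∈
      (I ^ n • ⊤ : Submodule A (AdicCompletion I A)) := by
    rw [AdicCompletion.pow_smul_top_eq_ker_eval hI, LinearMap.mem_ker, map_sub, sub_eq_zero]
    rfl
  rw [Ideal.smul_top_eq_map, Submodule.restrictScalars_mem, Ideal.map_pow] at h1
  exact h1

theorem algHom_ext_of_hausdorff (hI : I.FG) {N : Type*} [CommRing N] [Algebra A N]
    [IsHausdorff (I.map (algebraMap A N)) N] (f g : AdicCompletion I A →ₐ[A] N) : f = g := by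
  apply AlgHom.ext
  intro x
  obtain ⟨a, rfl⟩ := AdicCompletion.mk_surjective I A x
  rw [← sub_eq_zero]
  refine IsHausdorff.haus (inferInstance : IsHausdorff (I.map (algebraMap A N)) N) _ fun n => ?_
  rw [SModEq.zero, smul_eq_mul, Ideal.mul_top]
  have key : ∀ h : AdicCompletion I A →ₐ[A] N,
      h (AdicCompletion.mk I A a) - algebraMap A N (a.val n) ∈ (I.map (algebraMap A N)) ^ n := by
    intro h
    have h1 := Ideal.mem_map_of_mem (h : AdicCompletion I A →+* N) (sub_mem_pow I hI a n)
    rw [Ideal.map_pow, Ideal.map_map, AlgHom.comp_algebraMap] at h1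
    have h2 : (h : AdicCompletion I A →+* N) (AdicCompletion.mk I A a -
        algebraMap A (AdicCompletion I A) (a.val n)) =
        h (AdicCompletion.mk I A a) - algebraMap A N (a.val n) := by
      rw [map_sub]
      congr 1
      exact h.commutes _
    rw [h2] at h1
    exact h1
  have e : f (AdicCompletion.mk I A a) - g (AdicCompletion.mk I A a) =
      (f (AdicCompletion.mk I A a) - algebraMap A N (a.val n)) -
        (g (AdicCompletion.mk I A a) - algebraMap A N (a.val n)) := by ring
  rw [e]
  exact sub_mem (key f) (key g)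

end uniq

section main

variable {A : Type u} [CommRing A] (I : Ideal A)

theorem exists_extension (hI : I.FG) [IsNoetherianRing (AdicCompletion I A)]
    (N : Type u) [AddCommGroup N] [Module (AdicCompletion I A) N]
    [Module (AdicCompletion I A)ᵐᵒᵖ N] [IsCentralScalar (AdicCompletion I A) N]
    [Module.Finite (AdicCompletion I A) N] (δ : A →+ N)
    (hδ : ∀ a b, δ (a * b) = algebraMap A (AdicCompletion I A) a • δ b +
      algebraMap A (AdicCompletion I A) b • δ a) :
    ∃ δ' : AdicCompletion I A →+ N, (∀ x y, δ' (x * y) = x • δ' y + y • δ' x) ∧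
      ∀ a, δ' (algebraMap A (AdicCompletion I A) a) = δ a := by
  classical
  have hδ1 : δ 1 = 0 := by
    have h := hδ 1 1
    rw [mul_one, (algebraMap A (AdicCompletion I A)).map_one, one_smul] at h
    have h2 : δ 1 + 0 = δ 1 + δ 1 := by rw [add_zero]; exact h
    exact (add_left_cancel h2).symm
  -- the ring map `A → Â[N]`
  let τ : A →+* TrivSqZeroExt (AdicCompletion I A) N :=
    { toFun := fun a => inl (algebraMap A (AdicCompletion I A) a) + inr (δ a)
      map_one' := by
        apply TrivSqZeroExt.ext
        · simp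
        · simp [hδ1]
      map_mul' := fun a b => by
        apply TrivSqZeroExt.ext
        · simp
        · simp [hδ a b, add_comm]
      map_zero' := by
        apply TrivSqZeroExt.ext
        · simp
        · simp
      map_add' := fun a b => by
        apply TrivSqZeroExt.ext
        · simp
        · simp }
  have hτ1 : ∀ a, (τ a).fst = algebraMap A (AdicCompletion I A) a := fun a => by
    show (inl (algebraMap A (AdicCompletion I A) a) + inr (δ a) :
      TrivSqZeroExt (AdicCompletion I A) N).fst = _
    simp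
  have hτ2 : ∀ a, (τ a).snd = δ a := fun a => by
    show (inl (algebraMap A (AdicCompletion I A) a) + inr (δ a) :
      TrivSqZeroExt (AdicCompletion I A) N).snd = _
    simp
  letI algE : Algebra A (TrivSqZeroExt (AdicCompletion I A) N) := τ.toAlgebra
  have halgE : ∀ a, algebraMap A (TrivSqZeroExt (AdicCompletion I A) N) a = τ a := fun a => rfl
  -- completeness of `E`
  haveI hAh : IsAdicComplete (I.map (algebraMap A (AdicCompletion I A))) (AdicCompletion I A) :=
    AdicCompletion.isAdicComplete_self I hI
  haveI hfin : Module.Finite (AdicCompletion I A) (TrivSqZeroExt (AdicCompletion I A) N) :=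
    (inferInstance : Module.Finite (AdicCompletion I A) (AdicCompletion I A × N))
  haveI hnoeth : IsNoetherianRing (TrivSqZeroExt (AdicCompletion I A) N) :=
    IsNoetherianRing.of_finite (AdicCompletion I A) _
  have hc1 : IsAdicComplete (I.map (algebraMap A (AdicCompletion I A)))
      (TrivSqZeroExt (AdicCompletion I A) N) :=
    Groth.Agent.S16981.isAdicComplete_of_finite _ _
  haveI hc2 : IsAdicComplete ((I.map (algebraMap A (AdicCompletion I A))).map
      (algebraMap (AdicCompletion I A) (TrivSqZeroExt (AdicCompletion I A) N)))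
      (TrivSqZeroExt (AdicCompletion I A) N) :=
    (IsAdicComplete.map_algebraMap_iff (S := TrivSqZeroExt (AdicCompletion I A) N)
      (I.map (algebraMap A (AdicCompletion I A))) (TrivSqZeroExt (AdicCompletion I A) N)).2 hc1
  have hsq : (I.map (algebraMap A (TrivSqZeroExt (AdicCompletion I A) N))) ^ 2 ≤
      (I.map (algebraMap A (AdicCompletion I A))).map
      (algebraMap (AdicCompletion I A) (TrivSqZeroExt (AdicCompletion I A) N)) := by
    rw [pow_two, ← Ideal.map_mul, Ideal.map_le_iff_le_comap, Ideal.mul_le]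
    intro a ha b hb
    rw [Ideal.mem_comap, halgE, map_mul]
    have e : τ a * τ b = algebraMap (AdicCompletion I A) (TrivSqZeroExt (AdicCompletion I A) N)
        (algebraMap A (AdicCompletion I A) a) * τ b +
        algebraMap (AdicCompletion I A) (TrivSqZeroExt (AdicCompletion I A) N)
        (algebraMap A (AdicCompletion I A) b) * inr (δ a) := by
      apply TrivSqZeroExt.ext
      · simp [hτ1, TrivSqZeroExt.algebraMap_eq_inl]
      · simp [hτ1, hτ2, TrivSqZeroExt.algebraMap_eq_inl]
    rw [e]
    exact Ideal.add_mem _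
      (Ideal.mul_mem_right _ _ (Ideal.mem_map_of_mem _ (Ideal.mem_map_of_mem _ ha)))
      (Ideal.mul_mem_right _ _ (Ideal.mem_map_of_mem _ (Ideal.mem_map_of_mem _ hb)))
  haveI hb : IsAdicComplete ((I.map (algebraMap A (AdicCompletion I A))).map
      (algebraMap (AdicCompletion I A) (TrivSqZeroExt (AdicCompletion I A) N)) ⊔
      I.map (algebraMap A (TrivSqZeroExt (AdicCompletion I A) N)))
      (TrivSqZeroExt (AdicCompletion I A) N) := by
    refine isAdicComplete_of_pow_le _ _ 1 le_sup_left ?_
    rw [pow_two, Ideal.mul_le]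
    intro x hx y hy
    obtain ⟨x₁, hx₁, x₂, hx₂, rfl⟩ := Submodule.mem_sup.1 hx
    obtain ⟨y₁, hy₁, y₂, hy₂, rfl⟩ := Submodule.mem_sup.1 hy
    have e : (x₁ + x₂) * (y₁ + y₂) = x₁ * (y₁ + y₂) + y₁ * x₂ + x₂ * y₂ := by ring
    rw [e]
    refine Ideal.add_mem _ (Ideal.add_mem _ (Ideal.mul_mem_right _ _ hx₁)
      (Ideal.mul_mem_right _ _ hy₁)) (hsq ?_)
    rw [pow_two]
    exact Ideal.mul_mem_mul hx₂ hy₂
  haveI hτc : IsAdicComplete (I.map (algebraMap A (TrivSqZeroExt (AdicCompletion I A) N)))
      (TrivSqZeroExt (AdicCompletion I A) N) :=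
    Groth.Agent.Lib.helper8.FF.isAdicComplete_of_le
      ((I.map (algebraMap A (AdicCompletion I A))).map
      (algebraMap (AdicCompletion I A) (TrivSqZeroExt (AdicCompletion I A) N)) ⊔
      I.map (algebraMap A (TrivSqZeroExt (AdicCompletion I A) N))) _ le_sup_right
  -- the extension
  let τh : AdicCompletion I A →ₐ[A] TrivSqZeroExt (AdicCompletion I A) N :=
    Groth.Agent.Lib.Helper24.CTens.toComplete I (TrivSqZeroExt (AdicCompletion I A) N)
  let πA : TrivSqZeroExt (AdicCompletion I A) N →ₐ[A] AdicCompletion I A :=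
    { toRingHom := (TrivSqZeroExt.fstHom (AdicCompletion I A) (AdicCompletion I A) N).toRingHom
      commutes' := fun a => hτ1 a }
  have hπ : ∀ e, πA e = e.fst := fun e => rfl
  have hid : πA.comp τh = AlgHom.id A (AdicCompletion I A) :=
    algHom_ext_of_hausdorff I hI _ _
  have hfst : ∀ x, (τh x).fst = x := fun x => by
    have h := AlgHom.congr_fun hid x
    rwa [AlgHom.comp_apply, hπ] at h
  refine ⟨((TrivSqZeroExt.sndHom (AdicCompletion I A) N).toAddMonoidHom).comp
    τh.toRingHom.toAddMonoidHom, ?_, ?_⟩
  · intro x y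
    show (τh (x * y)).snd = x • (τh y).snd + y • (τh x).snd
    rw [map_mul, TrivSqZeroExt.snd_mul, hfst, hfst, op_smul_eq_smul]
  · intro a
    show (τh (algebraMap A (AdicCompletion I A) a)).snd = δ a
    rw [τh.commutes, halgE, hτ2]

end main

end Groth.Agent.Lib.Helper24.DerExt
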