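import Mathlib
import Groth.Agent.Lib.Helper24.QuasiFiniteLocal
import Groth.Agent.Lib.Helper24.DerExt
import Groth.Agent.S16981

/-!
# Semilocal rings complete along an ideal with Artinian quotient (helper24)

`D` a ring which is `J`-adically complete, with `D/J` finite over a field `K`.

* `exists_idempotent_lift`: idempotents lift along `D → D/J`.
* `surjective_algebraMap_atPrime`: for every maximal ideal `M`, `D → D_M` is surjective.
* `isAdicComplete_atPrime`: if moreover `D` is Noetherian, `D_M` is a complete local ring.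
* `exists_pow_maximalIdeal_le`: a power of the maximal ideal of `D_M` lies in `J D_M`.
* `ringKrullDim_quotient_atPrime`: `D_M / J D_M` has dimension `0`.
-/

set_option autoImplicit false
universe u
open IsLocalRing Polynomial

namespace Groth.Agent.Lib.Helper24.CplSemilocal

theorem exists_idempotent_lift {D : Type*} [CommRing D] (J : Ideal D) [IsAdicComplete J D]
    (ε : D ⧸ J) (hε : IsIdempotentElem ε) :
    ∃ e : D, IsIdempotentElem e ∧ Ideal.Quotient.mk J e = ε := by
  obtain ⟨a₀, rfl⟩ := Ideal.Quotient.mk_surjective ε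
  have hH : HenselianRing D J := inferInstance
  have hmonic : (X ^ 2 - X : D[X]).Monic := by
    have h0 : (X ^ 2 - X : D[X]) = X * (X - C 1) := by rw [C_1]; ring
    rw [h0]
    exact monic_X.mul (monic_X_sub_C 1)
  have h1 : (X ^ 2 - X : D[X]).eval a₀ ∈ J := by
    rw [eval_sub, eval_pow, eval_X, ← Ideal.Quotient.eq_zero_iff_mem, map_sub, map_pow, pow_two,
      hε.eq, sub_self]
  have h2 : IsUnit (Ideal.Quotient.mk J ((derivative (X ^ 2 - X : D[X])).eval a₀)) := by
    have hd : (derivative (X ^ 2 - X : D[X])).eval a₀ = 2 * a₀ - 1 := by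
      simp
      ring
    rw [hd]
    refine IsUnit.of_mul_eq_one (Ideal.Quotient.mk J (2 * a₀ - 1)) ?_
    have h3 : Ideal.Quotient.mk J a₀ * Ideal.Quotient.mk J a₀ = Ideal.Quotient.mk J a₀ := hε.eq
    rw [map_sub, map_mul, map_one, map_ofNat]
    linear_combination 4 * h3
  obtain ⟨a, ha, haJ⟩ := hH.is_henselian _ hmonic a₀ h1 h2
  refine ⟨a, ?_, ?_⟩
  · rw [IsRoot.def, eval_sub, eval_pow, eval_X, sub_eq_zero, pow_two] at ha
    exact ha
  · rw [Ideal.Quotient.eq]
    exact haJ

section semilocal

variable (K D : Type u) [Field K] [CommRing D] (J : Ideal D) [IsAdicComplete J D]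
  [Algebra K (D ⧸ J)] [Module.Finite K (D ⧸ J)] (M : Ideal D) [hM : M.IsMaximal]

omit [Algebra K (D ⧸ J)] [Module.Finite K (D ⧸ J)] in
theorem le_of_isMaximal : J ≤ M :=
  (IsAdicComplete.le_jacobson_bot J).trans (sInf_le ⟨bot_le, hM⟩)

include K J in
theorem exists_idempotent_local :
    ∃ e : D, IsIdempotentElem e ∧ e ∉ M ∧ ∀ s : D, s ∉ M → ∃ d : D, s * d = e := by
  have hJM : J ≤ M := le_of_isMaximal D J M
  have hker : RingHom.ker (Ideal.Quotient.mk J) ≤ M := by rw [Ideal.mk_ker]; exact hJM
  haveI hmax : (M.map (Ideal.Quotient.mk J)).IsMaximal :=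
    Ideal.IsMaximal.map_of_surjective_of_ker_le Ideal.Quotient.mk_surjective hker
  have hcomap : (M.map (Ideal.Quotient.mk J)).comap (Ideal.Quotient.mk J) = M := by
    rw [Ideal.comap_map_of_surjective' _ Ideal.Quotient.mk_surjective, sup_eq_left]
    exact hker
  have hmem : ∀ x : D, Ideal.Quotient.mk J x ∈ M.map (Ideal.Quotient.mk J) ↔ x ∈ M := by
    intro x
    rw [← Ideal.mem_comap, hcomap]
  obtain ⟨ε, hε, hεn, hdiv⟩ :=
    Groth.Agent.Lib.Helper24.QuasiFiniteLocal.exists_idempotent_local K (D ⧸ J)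
      (M.map (Ideal.Quotient.mk J))
  obtain ⟨e, he, hee⟩ := exists_idempotent_lift J ε hε
  refine ⟨e, he, ?_, ?_⟩
  · intro heM
    apply hεn
    rw [← hee, hmem]
    exact heM
  · intro s hs
    obtain ⟨d', hd'⟩ := hdiv (Ideal.Quotient.mk J s) (by rw [hmem]; exact hs)
    obtain ⟨d, rfl⟩ := Ideal.Quotient.mk_surjective d'
    have hj : s * d - e ∈ J := by
      rw [← Ideal.Quotient.eq, map_mul, hd', hee]
    have hjac : s * d - e ∈ Ideal.jacobson (⊥ : Ideal D) := IsAdicComplete.le_jacobson_bot J hj
    have hu : IsUnit ((s * d - e) * 1 + 1) := (Ideal.mem_jacobson_bot.mp hjac) 1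
    obtain ⟨u, hu'⟩ := hu
    refine ⟨d * e * ↑u⁻¹, ?_⟩
    have h3 : s * (d * e) = e * ↑u := by
      rw [hu']
      have := he.eq
      linear_combination (1 : D) * this
    calc s * (d * e * ↑u⁻¹) = s * (d * e) * ↑u⁻¹ := by ring
      _ = e * ↑u * ↑u⁻¹ := by rw [h3]
      _ = e := by rw [mul_assoc, Units.mul_inv, mul_one]

include K J in
theorem surjective_algebraMap_atPrime :
    Function.Surjective (algebraMap D (Localization.AtPrime M)) := by
  obtain ⟨ε, hε, hεn, hdiv⟩ := exists_idempotent_local K D J M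
  intro y
  obtain ⟨x, s, rfl⟩ := IsLocalization.exists_mk'_eq M.primeCompl y
  obtain ⟨d, hd⟩ := hdiv s s.2
  refine ⟨x * d, ?_⟩
  rw [eq_comm, IsLocalization.mk'_eq_iff_eq_mul, ← map_mul, mul_assoc, mul_comm d, hd, map_mul,
    Groth.Agent.Lib.Helper24.QuasiFiniteLocal.algebraMap_idempotent_eq_one M ε hε hεn, mul_one]

end semilocal

section noeth

variable (K D : Type u) [Field K] [CommRing D] [IsNoetherianRing D] (J : Ideal D)
  [IsAdicComplete J D]
  [Algebra K (D ⧸ J)] [Module.Finite K (D ⧸ J)] (M : Ideal D) [hM : M.IsMaximal]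

omit [IsNoetherianRing D] [Algebra K (D ⧸ J)] [Module.Finite K (D ⧸ J)] in
theorem map_le_maximalIdeal :
    J.map (algebraMap D (Localization.AtPrime M)) ≤ maximalIdeal (Localization.AtPrime M) := by
  rw [← Localization.AtPrime.map_eq_maximalIdeal]
  exact Ideal.map_mono (le_of_isMaximal D J M)

include K in
omit [IsNoetherianRing D] in
theorem isArtinianRing_quotient_atPrime :
    IsArtinianRing (Localization.AtPrime M ⧸ J.map (algebraMap D (Localization.AtPrime M))) := by
  haveI : IsArtinianRing (D ⧸ J) := IsArtinianRing.of_finite K (D ⧸ J)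
  have hs := surjective_algebraMap_atPrime K D J M
  have h2 : Function.Surjective (Ideal.quotientMap (J.map (algebraMap D (Localization.AtPrime M)))
      (algebraMap D (Localization.AtPrime M)) Ideal.le_comap_map) :=
    Ideal.quotientMap_surjective hs
  exact h2.isArtinianRing

omit [IsNoetherianRing D] [Algebra K (D ⧸ J)] [Module.Finite K (D ⧸ J)] in
theorem nontrivial_quotient_atPrime :
    Nontrivial (Localization.AtPrime M ⧸ J.map (algebraMap D (Localization.AtPrime M))) :=
  Ideal.Quotient.nontrivial_iff.mpr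
    (ne_top_of_le_ne_top (maximalIdeal.isMaximal _).ne_top (map_le_maximalIdeal D J M))

include K in
omit [IsNoetherianRing D] in
theorem ringKrullDim_quotient_atPrime :
    ringKrullDim (Localization.AtPrime M ⧸ J.map (algebraMap D (Localization.AtPrime M))) = 0 := by
  haveI := isArtinianRing_quotient_atPrime K D J M
  haveI := nontrivial_quotient_atPrime D J M
  rw [← ringKrullDimZero_iff_ringKrullDim_eq_zero]
  infer_instance

include K in
omit [IsNoetherianRing D] in
theorem exists_pow_maximalIdeal_le :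
    ∃ n : ℕ, maximalIdeal (Localization.AtPrime M) ^ (n + 1) ≤
      J.map (algebraMap D (Localization.AtPrime M)) := by
  haveI := isArtinianRing_quotient_atPrime K D J M
  haveI := nontrivial_quotient_atPrime D J M
  set S := Localization.AtPrime M
  set JS := J.map (algebraMap D S) with hJS
  haveI : IsLocalRing (S ⧸ JS) := .of_surjective' _ Ideal.Quotient.mk_surjective
  obtain ⟨n, hn⟩ := IsArtinianRing.isNilpotent_jacobson_bot (R := S ⧸ JS)
  refine ⟨n, ?_⟩
  rw [IsLocalRing.jacobson_eq_maximalIdeal ⊥ bot_ne_top] at hn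
  have h1 : (maximalIdeal S).map (Ideal.Quotient.mk JS) ≤ maximalIdeal (S ⧸ JS) := by
    refine le_of_eq (IsLocalRing.eq_maximalIdeal
      (Ideal.IsMaximal.map_of_surjective_of_ker_le Ideal.Quotient.mk_surjective ?_))
    rw [Ideal.mk_ker]
    exact map_le_maximalIdeal D J M
  have h2 : (maximalIdeal S ^ (n + 1)).map (Ideal.Quotient.mk JS) ≤ ⊥ := by
    rw [Ideal.map_pow]
    calc _ ≤ maximalIdeal (S ⧸ JS) ^ (n + 1) := Ideal.pow_right_mono h1 _
      _ ≤ maximalIdeal (S ⧸ JS) ^ n := Ideal.pow_le_pow_right (Nat.le_succ n)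
      _ = ⊥ := hn
  rw [Ideal.map_le_iff_le_comap, ← RingHom.ker_eq_comap_bot, Ideal.mk_ker] at h2
  exact h2

include K J in
theorem isAdicComplete_atPrime :
    IsAdicComplete (maximalIdeal (Localization.AtPrime M)) (Localization.AtPrime M) := by
  have hs := surjective_algebraMap_atPrime K D J M
  haveI : Module.Finite D (Localization.AtPrime M) :=
    Module.Finite.of_surjective (Algebra.linearMap D (Localization.AtPrime M)) hs
  haveI h1 : IsAdicComplete J (Localization.AtPrime M) :=
    Groth.Agent.S16981.isAdicComplete_of_finite J (Localization.AtPrime M)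
  haveI h2 : IsAdicComplete (J.map (algebraMap D (Localization.AtPrime M)))
      (Localization.AtPrime M) :=
    (IsAdicComplete.map_algebraMap_iff (R := D) (S := Localization.AtPrime M) (I := J)
      (M := Localization.AtPrime M)).mpr h1
  obtain ⟨n, hn⟩ := exists_pow_maximalIdeal_le K D J M
  exact Groth.Agent.Lib.Helper24.DerExt.isAdicComplete_of_pow_le _ _ n
    (map_le_maximalIdeal D J M) hn

end noeth

end Groth.Agent.Lib.Helper24.CplSemilocal
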