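import Mathlib
import Groth.Agent.Lib.Helper3.CplProj1
import Groth.Agent.Lib.Helper15.NilFlat

/-! Completion of a short exact sequence with flat cokernel whose reduction is projective is
split exact (helper24).  Uses helper3's Eilenberg swindle + `CplIsoFlat.map_bijective`
(`exists_free_cover` is extracted from helper3's `CplProj.exists_retract`) and helper15's
`NilFlat.mem_smul_ker_of_flat`. -/

set_option autoImplicit false
set_option linter.style.haveILetI false
set_option linter.unusedSectionVars false
universe u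

open TensorProduct

namespace Groth.Agent.Lib.helper24.CplSplit1

open Groth.Agent.Lib.helper3 Groth.Agent.Lib.helper3.CplProj Groth.Agent.Lib.helper15

section cover

variable (R : Type u) [CommRing R] (I : Ideal R)
    (M : Type u) [AddCommGroup M] [Module R M] [Module.Flat R M]
    [Module.Projective (R ⧸ I) (M ⧸ (I • ⊤ : Submodule R M))]

/-- (helper3, extracted from `CplProj.exists_retract`) a free module `F` and a map `F → M × F`
inducing a bijection on completions. -/
theorem exists_free_cover : ∃ (β : Type u) (f : (β →₀ R) →ₗ[R] M × (β →₀ R)),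
    Function.Bijective (AdicCompletion.map I f) := by
  classical
  obtain ⟨β, ⟨e⟩⟩ := Swindle.exists_prod_free_equiv_free (A := R ⧸ I)
    (M ⧸ (I • ⊤ : Submodule R M))
  let ρF : (β →₀ R) →ₗ[R] (β →₀ R ⧸ I) := Finsupp.mapRange.linearMap (Algebra.linearMap R (R ⧸ I))
  let ρ : (M × (β →₀ R)) →ₗ[R] ((M ⧸ (I • ⊤ : Submodule R M)) × (β →₀ R ⧸ I)) :=
    LinearMap.prodMap (Submodule.mkQ _) ρF
  have hρF_surj : Function.Surjective ρF :=
    Finsupp.mapRange_surjective _ (map_zero _) Ideal.Quotient.mk_surjective
  have hρ_surj : Function.Surjective ρ :=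
    Function.Surjective.prodMap (Submodule.mkQ_surjective _) hρF_surj
  have hkerF : ∀ x : β →₀ R, ρF x = 0 → x ∈ I • (⊤ : Submodule R (β →₀ R)) := by
    intro x hx
    refine mem_smul_top_finsupp I x (fun b => ?_)
    have := DFunLike.congr_fun hx b
    simpa [ρF, Ideal.Quotient.eq_zero_iff_mem] using this
  have hker1 : ∀ z : M × (β →₀ R), ρ z = 0 → z ∈ I • (⊤ : Submodule R (M × (β →₀ R))) := by
    intro z hz
    have h1 : Submodule.mkQ (I • ⊤ : Submodule R M) z.1 = 0 := congrArg Prod.fst hz
    have h2 : ρF z.2 = 0 := congrArg Prod.snd hz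
    refine mem_smul_top_prod I z ?_ (hkerF _ h2)
    simpa using h1
  have htors : ∀ a ∈ I, ∀ t : (M ⧸ (I • ⊤ : Submodule R M)) × (β →₀ R ⧸ I), a • t = 0 := by
    intro a ha t
    rw [← algebraMap_smul (R ⧸ I) a t, Ideal.Quotient.algebraMap_eq,
      Ideal.Quotient.eq_zero_iff_mem.mpr ha, zero_smul]
  have hker2 : ∀ z : M × (β →₀ R), z ∈ I • (⊤ : Submodule R (M × (β →₀ R))) → ρ z = 0 :=
    fun z hz => map_eq_zero_of_mem_smul_top I htors ρ z hz
  choose m' hm' using fun b : β => hρ_surj (e.symm (Finsupp.single b 1))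
  let f : (β →₀ R) →ₗ[R] M × (β →₀ R) := Finsupp.linearCombination R m'
  have hf : ∀ x, ρ (f x) = e.symm (ρF x) := by
    have : ρ ∘ₗ f = (e.symm.restrictScalars R).toLinearMap ∘ₗ ρF := by
      refine Finsupp.lhom_ext' (fun b => LinearMap.ext_ring ?_)
      simp [f, Finsupp.linearCombination_single, hm', ρF]
    intro x
    exact LinearMap.congr_fun this x
  have ha : ∀ z : M × (β →₀ R), ∃ x : β →₀ R,
      z - f x ∈ I • (⊤ : Submodule R (M × (β →₀ R))) := by
    intro z
    obtain ⟨x, hx⟩ := hρF_surj (e (ρ z))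
    refine ⟨x, hker1 _ ?_⟩
    rw [map_sub, hf, hx, e.symm_apply_apply, sub_self]
  have hb : ∀ x : β →₀ R, f x ∈ I • (⊤ : Submodule R (M × (β →₀ R))) →
      x ∈ I • (⊤ : Submodule R (β →₀ R)) := by
    intro x hx
    have := hker2 _ hx
    rw [hf] at this
    exact hkerF x (e.symm.map_eq_zero_iff.mp this)
  haveI : Module.Flat R (M × (β →₀ R)) := flat_prod
  exact ⟨β, f, CplIsoFlat.map_bijective I f ha hb⟩

/-- the completed map `P̂ → M̂` has an `R̂`-linear section -/
theorem exists_section {P : Type u} [AddCommGroup P] [Module R P] (g : P →ₗ[R] M)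
    (hg : Function.Surjective g) :
    ∃ s : AdicCompletion I M →ₗ[AdicCompletion I R] AdicCompletion I P,
      AdicCompletion.map I g ∘ₗ s = LinearMap.id := by
  obtain ⟨β, f, hbij⟩ := exists_free_cover R I M
  have hsurj : Function.Surjective
      (g.prodMap (LinearMap.id : (β →₀ R) →ₗ[R] (β →₀ R))) :=
    Function.Surjective.prodMap hg Function.surjective_id
  obtain ⟨ft, hft⟩ := Module.projective_lifting_property
    (g.prodMap (LinearMap.id : (β →₀ R) →ₗ[R] (β →₀ R))) f hsurj
  let E := LinearEquiv.ofBijective (AdicCompletion.map I f) hbij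
  refine ⟨AdicCompletion.map I (LinearMap.fst R P (β →₀ R)) ∘ₗ AdicCompletion.map I ft ∘ₗ
    E.symm.toLinearMap ∘ₗ AdicCompletion.map I (LinearMap.inl R M (β →₀ R)), ?_⟩
  refine LinearMap.ext (fun x => ?_)
  simp only [LinearMap.comp_apply, LinearEquiv.coe_coe, LinearMap.id_apply]
  rw [AdicCompletion.map_comp_apply, AdicCompletion.map_comp_apply]
  have h1 : (g ∘ₗ LinearMap.fst R P (β →₀ R)) ∘ₗ ft = LinearMap.fst R M (β →₀ R) ∘ₗ f := by
    rw [← hft]
    ext y
    simp
  rw [h1, ← AdicCompletion.map_comp_apply]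
  have h2 : AdicCompletion.map I f
      (E.symm (AdicCompletion.map I (LinearMap.inl R M (β →₀ R)) x)) =
      AdicCompletion.map I (LinearMap.inl R M (β →₀ R)) x := E.apply_symm_apply _
  rw [h2, AdicCompletion.map_comp_apply, LinearMap.fst_comp_inl, AdicCompletion.map_id]
  rfl

end cover

section exact

variable {R : Type u} [CommRing R] (I : Ideal R)
    {K P M : Type u} [AddCommGroup K] [Module R K] [AddCommGroup P] [Module R P]
    [AddCommGroup M] [Module R M] (f : K →ₗ[R] P) (g : P →ₗ[R] M)

/-- `K ∩ J P = J K` when `P / K` is flat -/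
theorem mem_smul_top_of_map_mem [Module.Flat R M] (hf : Function.Injective f)
    (hg : Function.Surjective g) (hfg : Function.Exact f g) (J : Ideal R) (k : K)
    (hk : f k ∈ J • (⊤ : Submodule R P)) : k ∈ J • (⊤ : Submodule R K) := by
  have h1 := NilFlat.mem_smul_ker_of_flat J g hg (f k) (hfg.apply_apply_eq_zero k) hk
  have h2 : LinearMap.ker g = LinearMap.range f := hfg.linearMap_ker_eq
  rw [h2, ← Submodule.map_top, ← Submodule.map_smul''] at h1
  obtain ⟨k', hk', hkk'⟩ := h1
  rw [← hf hkk']
  exact hk'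

theorem map_injective [Module.Flat R M] (hf : Function.Injective f)
    (hg : Function.Surjective g) (hfg : Function.Exact f g) :
    Function.Injective (AdicCompletion.map I f) := by
  rw [injective_iff_map_eq_zero]
  intro x hx
  refine AdicCompletion.ext (fun n => ?_)
  obtain ⟨k, hk⟩ := Submodule.Quotient.mk_surjective _ (x.val n)
  have h1 : (AdicCompletion.map I f x).val n = 0 := by rw [hx]; rfl
  rw [AdicCompletion.map_val_apply, ← hk, LinearMap.reduceModIdeal_apply,
    Submodule.Quotient.mk_eq_zero] at h1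
  rw [← hk]
  exact (Submodule.Quotient.mk_eq_zero _).mpr (mem_smul_top_of_map_mem f g hf hg hfg _ k h1)

theorem map_exact [Module.Flat R M] (hf : Function.Injective f)
    (hg : Function.Surjective g) (hfg : Function.Exact f g) :
    Function.Exact (AdicCompletion.map I f) (AdicCompletion.map I g) := by
  intro y
  constructor
  · intro hy
    obtain ⟨a, rfl⟩ := AdicCompletion.mk_surjective I P y
    -- `g (a n) ∈ I^n M`
    have h1 : ∀ n, g (a n) ∈ (I ^ n • ⊤ : Submodule R M) := by
      intro n
      have h2 := congrArg (fun z => z.val n) hy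
      simp only [AdicCompletion.map_mk, AdicCompletion.mk_apply_coe, AdicCompletion.val_zero,
        Submodule.mkQ_apply] at h2
      exact (Submodule.Quotient.mk_eq_zero _).1 h2
    have h3 : ∀ n, ∃ k : K, a n - f k ∈ (I ^ n • ⊤ : Submodule R P) := by
      intro n
      have h4 : g (a n) ∈ Submodule.map g (I ^ n • ⊤ : Submodule R P) := by
        rw [Submodule.map_smul'', Submodule.map_top, LinearMap.range_eq_top.2 hg]
        exact h1 n
      obtain ⟨p', hp', hpp'⟩ := h4
      have h5 : g (a n - p') = 0 := by rw [map_sub, hpp', sub_self]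
      obtain ⟨k, hk⟩ := (hfg _).1 h5
      refine ⟨k, ?_⟩
      rw [hk, sub_sub_cancel]
      exact hp'
    choose k hk using h3
    have hcau : ∀ n, k n ≡ k (n + 1) [SMOD (I ^ n • ⊤ : Submodule R K)] := by
      intro n
      rw [SModEq.sub_mem]
      apply mem_smul_top_of_map_mem f g hf hg hfg
      have h6 : a n - a (n + 1) ∈ (I ^ n • ⊤ : Submodule R P) := by
        rw [← SModEq.sub_mem]
        exact a.property (Nat.le_succ n)
      have h7 : a (n + 1) - f (k (n + 1)) ∈ (I ^ n • ⊤ : Submodule R P) :=
        Submodule.smul_mono_left (Ideal.pow_le_pow_right (Nat.le_succ n)) (hk (n + 1))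
      have e1 : f (k n - k (n + 1)) = (a (n + 1) - f (k (n + 1))) + (a n - a (n + 1))
          - (a n - f (k n)) := by
        rw [map_sub]; abel
      rw [e1]
      exact Submodule.sub_mem _ (Submodule.add_mem _ h7 h6) (hk n)
    refine ⟨AdicCompletion.mk I K (AdicCompletion.AdicCauchySequence.mk I K k hcau), ?_⟩
    rw [AdicCompletion.map_mk]
    refine AdicCompletion.ext (fun n => ?_)
    simp only [AdicCompletion.mk_apply_coe, Submodule.mkQ_apply]
    rw [Submodule.Quotient.eq]
    have := hk n
    rw [← Submodule.neg_mem_iff, neg_sub] at this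
    exact this
  · rintro ⟨x, rfl⟩
    rw [AdicCompletion.map_comp_apply, hfg.linearMap_comp_eq_zero, AdicCompletion.map_zero]
    rfl

end exact

end Groth.Agent.Lib.helper24.CplSplit1
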