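import Mathlib
import Groth.Agent.Lib.Helper24.CplKaehlerGen

/-!
# Completed differentials at a prime: brackets and systems of parameters (helper24)

`A` a complete Noetherian local `k`-algebra with residue field finite over `k`, `p` a prime,
`V = κ(p) ⊗_A Ω̂_{A/k}`.  `br a = 1 ⊗ d̂a ∈ V`.

* `br_mul`: Leibniz rule; `span_br`: the `br a` span `V`; `span_br_maximalIdeal`: if `p ≠ 𝔪`,
  already the `br a`, `a ∈ 𝔪`, span `V`.
* `exists_modify`: a family `y` generating an `𝔪`-primary ideal can be modified in one place
  (without changing the ideal) so that the bracket of the modified element avoids a given proper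
  subspace.
* `exists_sop_linearIndependent`: if `n ≤ dim V`, any `n` elements of `𝔪` generating an
  `𝔪`-primary ideal can be replaced by `n` elements generating the same ideal with linearly
  independent brackets.
-/

set_option autoImplicit false
universe u
open IsLocalRing TensorProduct

namespace Groth.Agent.Lib.Helper24.CplUnram

section bracket

variable (k A : Type u) [Field k] [CommRing A] [IsLocalRing A] [IsNoetherianRing A] [Algebra k A]
  [IsAdicComplete (maximalIdeal A) A] [Module.Finite k (ResidueField A)]
  (p : Ideal A) [p.IsPrime]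

/-- `1 ⊗ d̂a` in the fibre of `Ω̂` at `p` -/
noncomputable def br (a : A) :
    p.ResidueField ⊗[A] AdicCompletion (maximalIdeal A) (Ω[A⁄k]) :=
  (1 : p.ResidueField) ⊗ₜ[A]
    AdicCompletion.of (maximalIdeal A) (Ω[A⁄k]) (KaehlerDifferential.D k A a)

omit [IsNoetherianRing A] [IsAdicComplete (maximalIdeal A) A]
  [Module.Finite k (ResidueField A)] in
theorem br_add (a b : A) : br k A p (a + b) = br k A p a + br k A p b := by
  unfold br
  rw [map_add, map_add, tmul_add]

omit [IsNoetherianRing A] [IsAdicComplete (maximalIdeal A) A]
  [Module.Finite k (ResidueField A)] in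
theorem br_zero : br k A p 0 = 0 := by
  unfold br
  rw [map_zero, map_zero, tmul_zero]

omit [IsNoetherianRing A] [IsAdicComplete (maximalIdeal A) A]
  [Module.Finite k (ResidueField A)] in
theorem br_mul (a b : A) :
    br k A p (a * b) = algebraMap A p.ResidueField a • br k A p b +
      algebraMap A p.ResidueField b • br k A p a := by
  unfold br
  rw [Derivation.leibniz, map_add, map_smul, map_smul, tmul_add, tmul_smul, tmul_smul,
    algebraMap_smul, algebraMap_smul]

theorem span_br : Submodule.span p.ResidueField (Set.range (br k A p)) = ⊤ := by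
  rw [eq_top_iff]
  rintro x -
  induction x using TensorProduct.induction_on with
  | zero => exact zero_mem _
  | add x y hx hy => exact add_mem hx hy
  | tmul c ω =>
    have hω : ω ∈ Submodule.span A (Set.range fun a : A =>
        AdicCompletion.of (maximalIdeal A) (Ω[A⁄k]) (KaehlerDifferential.D k A a)) := by
      rw [Groth.Agent.Lib.Helper24.CplKaehlerGen.span_of_D_eq_top]
      exact Submodule.mem_top
    induction hω using Submodule.span_induction with
    | mem y hy =>
      obtain ⟨a, rfl⟩ := hy
      have : c ⊗ₜ[A] AdicCompletion.of (maximalIdeal A) (Ω[A⁄k]) (KaehlerDifferential.D k A a) =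
          c • br k A p a := by
        unfold br
        rw [TensorProduct.smul_tmul', smul_eq_mul, mul_one]
      rw [this]
      exact Submodule.smul_mem _ _ (Submodule.subset_span ⟨a, rfl⟩)
    | zero => rw [tmul_zero]; exact zero_mem _
    | add x y _ _ hx hy => rw [tmul_add]; exact add_mem hx hy
    | smul a x _ hx =>
      have : c ⊗ₜ[A] (a • x) = algebraMap A p.ResidueField a • (c ⊗ₜ[A] x) := by
        rw [tmul_smul, algebraMap_smul]
      rw [this]
      exact Submodule.smul_mem _ _ hx

omit [IsNoetherianRing A] [IsAdicComplete (maximalIdeal A) A]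
  [Module.Finite k (ResidueField A)] in
theorem exists_mem_maximalIdeal_notMem (hp : p ≠ maximalIdeal A) :
    ∃ t ∈ maximalIdeal A, t ∉ p := by
  by_contra h
  push Not at h
  exact hp (le_antisymm (IsLocalRing.le_maximalIdeal (Ideal.IsPrime.ne_top inferInstance)) h)

theorem span_br_maximalIdeal (hp : p ≠ maximalIdeal A) :
    Submodule.span p.ResidueField (br k A p '' (maximalIdeal A : Set A)) = ⊤ := by
  obtain ⟨t, htm, htp⟩ := exists_mem_maximalIdeal_notMem A p hp
  have ht0 : algebraMap A p.ResidueField t ≠ 0 := by
    rw [Ne, Ideal.algebraMap_residueField_eq_zero]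
    exact htp
  rw [eq_top_iff, ← span_br k A p, Submodule.span_le]
  rintro _ ⟨a, rfl⟩
  have h1 := br_mul k A p t a
  have h2 : br k A p a = (algebraMap A p.ResidueField t)⁻¹ •
      (br k A p (t * a) - algebraMap A p.ResidueField a • br k A p t) := by
    rw [h1, add_sub_cancel_right, smul_smul, inv_mul_cancel₀ ht0, one_smul]
  rw [SetLike.mem_coe, h2]
  refine Submodule.smul_mem _ _ (Submodule.sub_mem _ ?_ (Submodule.smul_mem _ _ ?_))
  · exact Submodule.subset_span ⟨t * a, Ideal.mul_mem_right _ _ htm, rfl⟩
  · exact Submodule.subset_span ⟨t, htm, rfl⟩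

end bracket

section modify

variable (k A : Type u) [Field k] [CommRing A] [IsLocalRing A] [IsNoetherianRing A] [Algebra k A]
  [IsAdicComplete (maximalIdeal A) A] [Module.Finite k (ResidueField A)]
  (p : Ideal A) [p.IsPrime]

omit [IsNoetherianRing A] [Algebra k A] [IsAdicComplete (maximalIdeal A) A]
  [Module.Finite k (ResidueField A)] in
theorem exists_notMem_of_primary (hp : p ≠ maximalIdeal A) {n : ℕ} (y : Fin n → A) (N : ℕ)
    (hN : maximalIdeal A ^ N ≤ Ideal.span (Set.range y)) : ∃ l, y l ∉ p := by
  by_contra h
  push Not at h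
  have h1 : Ideal.span (Set.range y) ≤ p := by
    rw [Ideal.span_le]
    rintro _ ⟨l, rfl⟩
    exact h l
  have h2 : maximalIdeal A ≤ p := Ideal.IsPrime.le_of_pow_le (hN.trans h1)
  exact hp (le_antisymm (IsLocalRing.le_maximalIdeal (Ideal.IsPrime.ne_top inferInstance)) h2)

theorem exists_modify (hp : p ≠ maximalIdeal A) {n : ℕ} (y : Fin n → A)
    (hy : ∀ l, y l ∈ maximalIdeal A) (N : ℕ)
    (hN : maximalIdeal A ^ N ≤ Ideal.span (Set.range y))
    (W : Submodule p.ResidueField
      (p.ResidueField ⊗[A] AdicCompletion (maximalIdeal A) (Ω[A⁄k])))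
    (hW : W ≠ ⊤) (i : Fin n) :
    ∃ c : Fin n → A, (∀ l, c l ∈ maximalIdeal A) ∧ br k A p (y i + ∑ l, c l * y l) ∉ W := by
  classical
  by_contra hcon
  push Not at hcon
  have h0 : br k A p (y i) ∈ W := by
    have := hcon (fun _ => 0) (fun _ => zero_mem _)
    simpa using this
  have h1 : ∀ l, ∀ e ∈ maximalIdeal A, br k A p (e * y l) ∈ W := by
    intro l e he
    have h2 := hcon (Pi.single l e) (fun l' => by
      by_cases hl : l' = l
      · subst hl; rw [Pi.single_eq_same]; exact he
      · rw [Pi.single_eq_of_ne hl]; exact zero_mem _)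
    have h3 : ∑ l', (Pi.single l e : Fin n → A) l' * y l' = e * y l := by
      rw [Finset.sum_eq_single l]
      · rw [Pi.single_eq_same]
      · intro l' _ hl'
        rw [Pi.single_eq_of_ne hl', zero_mul]
      · intro hl
        exact absurd (Finset.mem_univ l) hl
    rw [h3, br_add] at h2
    have := W.sub_mem h2 h0
    rwa [add_sub_cancel_left] at this
  obtain ⟨l, hl⟩ := exists_notMem_of_primary A p hp y N hN
  set z := y l with hz
  have hzm : z ∈ maximalIdeal A := hy l
  have hz0 : algebraMap A p.ResidueField z ≠ 0 := by
    rw [Ne, Ideal.algebraMap_residueField_eq_zero]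
    exact hl
  -- `[z] ∈ W`
  have hzW : br k A p z ∈ W := by
    have e1 := h1 l z hzm
    have e2 := h1 l (z * z) (Ideal.mul_mem_left _ _ hzm)
    rw [br_mul k A p (z * z) z, map_mul] at e2
    have e3 : (algebraMap A p.ResidueField z * algebraMap A p.ResidueField z) • br k A p z ∈ W := by
      have := W.sub_mem e2 (W.smul_mem (algebraMap A p.ResidueField z) e1)
      rwa [add_sub_cancel_right] at this
    have e4 := W.smul_mem (algebraMap A p.ResidueField z * algebraMap A p.ResidueField z)⁻¹ e3
    rwa [smul_smul, inv_mul_cancel₀ (mul_ne_zero hz0 hz0), one_smul] at e4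
  -- every `[e]`, `e ∈ 𝔪`, lies in `W`
  have hall : ∀ e ∈ maximalIdeal A, br k A p e ∈ W := by
    intro e he
    have e1 := h1 l e he
    rw [br_mul] at e1
    have e2 : algebraMap A p.ResidueField z • br k A p e ∈ W := by
      have := W.sub_mem e1 (W.smul_mem (algebraMap A p.ResidueField e) hzW)
      rwa [add_sub_cancel_left] at this
    have e3 := W.smul_mem (algebraMap A p.ResidueField z)⁻¹ e2
    rwa [smul_smul, inv_mul_cancel₀ hz0, one_smul] at e3
  apply hW
  rw [eq_top_iff, ← span_br_maximalIdeal k A p hp, Submodule.span_le]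
  rintro _ ⟨e, he, rfl⟩
  exact hall e he

omit [IsNoetherianRing A] [Algebra k A] [IsAdicComplete (maximalIdeal A) A]
  [Module.Finite k (ResidueField A)] in
theorem span_update {n : ℕ} (y : Fin n → A) (i : Fin n) (c : Fin n → A)
    (hc : ∀ l, c l ∈ maximalIdeal A) :
    Ideal.span (Set.range (Function.update y i (y i + ∑ l, c l * y l))) =
      Ideal.span (Set.range y) := by
  classical
  set y' := Function.update y i (y i + ∑ l, c l * y l) with hy'
  have hne : ∀ l, l ≠ i → y' l = y l := fun l hl => Function.update_of_ne hl _ _
  have hi : y' i = y i + ∑ l, c l * y l := Function.update_self _ _ _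
  apply le_antisymm
  · rw [Ideal.span_le]
    rintro _ ⟨l, rfl⟩
    by_cases hl : l = i
    · subst hl
      rw [SetLike.mem_coe, hi]
      refine Ideal.add_mem _ (Ideal.subset_span ⟨l, rfl⟩) (Ideal.sum_mem _ fun l' _ => ?_)
      exact Ideal.mul_mem_left _ _ (Ideal.subset_span ⟨l', rfl⟩)
    · rw [hne l hl]
      exact Ideal.subset_span ⟨l, rfl⟩
  · rw [Ideal.span_le]
    rintro _ ⟨l, rfl⟩
    by_cases hl : l = i
    · subst hl
      have hu : IsUnit (1 + c l) := by
        by_contra hnu
        have h1 : 1 + c l ∈ maximalIdeal A := (IsLocalRing.mem_maximalIdeal _).2 hnu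
        have h2 : (1 : A) ∈ maximalIdeal A := by
          have := Ideal.sub_mem _ h1 (hc l)
          rwa [add_sub_cancel_right] at this
        exact (Ideal.ne_top_iff_one _).mp (IsLocalRing.maximalIdeal.isMaximal A).ne_top h2
      have h3 : (1 + c l) * y l = y' l - ∑ l' ∈ Finset.univ.erase l, c l' * y' l' := by
        rw [hi, ← Finset.add_sum_erase Finset.univ (fun l' => c l' * y l') (Finset.mem_univ l)]
        have h4 : ∑ l' ∈ Finset.univ.erase l, c l' * y' l' =
            ∑ l' ∈ Finset.univ.erase l, c l' * y l' := by
          refine Finset.sum_congr rfl fun l' hl' => ?_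
          rw [hne l' (Finset.ne_of_mem_erase hl')]
        rw [h4]
        ring
      have h5 : (1 + c l) * y l ∈ Ideal.span (Set.range y') := by
        rw [h3]
        refine Ideal.sub_mem _ (Ideal.subset_span ⟨l, rfl⟩) (Ideal.sum_mem _ fun l' _ => ?_)
        exact Ideal.mul_mem_left _ _ (Ideal.subset_span ⟨l', rfl⟩)
      obtain ⟨u, hu'⟩ := hu
      have h6 : y l = ↑u⁻¹ * ((1 + c l) * y l) := by
        rw [← hu', ← mul_assoc, Units.inv_mul, one_mul]
      rw [SetLike.mem_coe, h6]
      exact Ideal.mul_mem_left _ _ h5
    · rw [← hne l hl]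
      exact Ideal.subset_span ⟨l, rfl⟩

theorem exists_sop_linearIndependent (hp : p ≠ maximalIdeal A) {n : ℕ} (x : Fin n → A)
    (hx : ∀ l, x l ∈ maximalIdeal A) (N : ℕ)
    (hN : maximalIdeal A ^ N ≤ Ideal.span (Set.range x))
    (hn : n ≤ Module.finrank p.ResidueField
      (p.ResidueField ⊗[A] AdicCompletion (maximalIdeal A) (Ω[A⁄k]))) :
    ∃ y : Fin n → A, (∀ l, y l ∈ maximalIdeal A) ∧
      Ideal.span (Set.range y) = Ideal.span (Set.range x) ∧
      LinearIndependent p.ResidueField (fun l => br k A p (y l)) := by
  classical
  have key : ∀ j : ℕ, j ≤ n → ∃ y : Fin n → A, (∀ l, y l ∈ maximalIdeal A) ∧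
      Ideal.span (Set.range y) = Ideal.span (Set.range x) ∧
      LinearIndepOn p.ResidueField (fun l => br k A p (y l)) {l : Fin n | l.val < j} := by
    intro j
    induction j with
    | zero =>
      intro _
      refine ⟨x, hx, rfl, ?_⟩
      have : {l : Fin n | l.val < 0} = ∅ := by ext l; simp
      rw [this]
      exact linearIndepOn_empty _ _
    | succ j ih =>
      intro hj
      obtain ⟨y, hym, hyspan, hyli⟩ := ih (Nat.le_of_succ_le hj)
      set i : Fin n := ⟨j, hj⟩ with hi
      set W := Submodule.span p.ResidueField
        ((fun l => br k A p (y l)) '' {l : Fin n | l.val < j}) with hW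
      have hWne : W ≠ ⊤ := by
        intro htop
        have h1 : Module.finrank p.ResidueField W ≤ j := by
          have hfin : ({l : Fin n | l.val < j} : Set (Fin n)).Finite := Set.toFinite _
          have h2 := finrank_span_finset_le_card (R := p.ResidueField)
            ((hfin.toFinset).image (fun l => br k A p (y l)))
          have h3 : (((hfin.toFinset).image (fun l => br k A p (y l)) : Finset _) : Set _) =
              (fun l => br k A p (y l)) '' {l : Fin n | l.val < j} := by
            rw [Finset.coe_image, Set.Finite.coe_toFinset]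
          rw [h3] at h2
          refine h2.trans (Finset.card_image_le.trans ?_)
          have h4 : hfin.toFinset.card ≤ (Finset.range j).card := by
            refine Finset.card_le_card_of_injOn (fun l => l.val) ?_ ?_
            · intro l hl
              rw [Set.Finite.coe_toFinset] at hl
              exact Finset.mem_coe.mpr (Finset.mem_range.mpr hl)
            · intro l _ l' _ hll
              exact Fin.ext hll
          rwa [Finset.card_range] at h4
        rw [htop, finrank_top] at h1
        omega
      have hN' : maximalIdeal A ^ N ≤ Ideal.span (Set.range y) := by rw [hyspan]; exact hN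
      obtain ⟨c, hc, hcW⟩ := exists_modify k A p hp y hym N hN' W hWne i
      set y' := Function.update y i (y i + ∑ l, c l * y l) with hy'
      have hne : ∀ l, l ≠ i → y' l = y l := fun l hl => Function.update_of_ne hl _ _
      have hi' : y' i = y i + ∑ l, c l * y l := Function.update_self _ _ _
      have hlt : ∀ l : Fin n, l.val < j → l ≠ i := by
        intro l hl h
        rw [h, hi] at hl
        exact lt_irrefl _ hl
      refine ⟨y', fun l => ?_, (span_update A y i c hc).trans hyspan, ?_⟩
      · by_cases hl : l = i
        · subst hl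
          rw [hi']
          exact Ideal.add_mem _ (hym _) (Ideal.sum_mem _ fun l' _ => Ideal.mul_mem_left _ _ (hym _))
        · rw [hne l hl]; exact hym l
      · have hset : {l : Fin n | l.val < j + 1} = insert i {l : Fin n | l.val < j} := by
          ext l
          simp only [Set.mem_ofPred_eq, Set.mem_insert_iff]
          constructor
          · intro hl
            rcases Nat.lt_succ_iff_lt_or_eq.mp hl with h | h
            · exact Or.inr h
            · exact Or.inl (Fin.ext h)
          · rintro (h | h)
            · rw [h, hi]; exact Nat.lt_succ_self j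
            · exact Nat.lt_succ_of_lt h
        have hEq : Set.EqOn (fun l => br k A p (y l)) (fun l => br k A p (y' l))
            {l : Fin n | l.val < j} := by
          intro l hl
          show br k A p (y l) = br k A p (y' l)
          rw [hne l (hlt l hl)]
        rw [hset, linearIndepOn_insert (fun h => lt_irrefl j (by simpa [hi] using h))]
        refine ⟨hyli.congr hEq, ?_⟩
        have himg : (fun l => br k A p (y' l)) '' {l : Fin n | l.val < j} =
            (fun l => br k A p (y l)) '' {l : Fin n | l.val < j} :=
          (Set.EqOn.image_eq hEq).symm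
        rw [himg, ← hW]
        show br k A p (y' i) ∉ W
        rw [hi']
        exact hcW
  obtain ⟨y, hym, hyspan, hyli⟩ := key n le_rfl
  refine ⟨y, hym, hyspan, ?_⟩
  have : {l : Fin n | l.val < n} = Set.univ := by ext l; simp
  rw [this, linearIndepOn_univ_iff] at hyli
  exact hyli

end modify

end Groth.Agent.Lib.Helper24.CplUnram
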