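import Mathlib

/-!
# Generators of a localized module and the fibre (helper24)

`A` a ring, `p` a prime, `M` an `A`-module.

* `finrank_fibre_le_of_span`: if `M_p` is generated by `m` elements then
  `dim_{κ(p)} κ(p) ⊗_A M ≤ m`.
* `span_mkLinearMap_eq_top`: if every element of `M` has a multiple by an element outside `p`
  in the span of the `ω_j`, then the images of the `ω_j` generate `M_p`.
-/

set_option autoImplicit false
universe u
open TensorProduct

namespace Groth.Agent.Lib.Helper24.CplUnram

section loc

variable (A : Type u) [CommRing A] (p : Ideal A) [p.IsPrime]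
  (M : Type u) [AddCommGroup M] [Module A M]

theorem finrank_fibre_le_of_span (m : ℕ)
    (s : Fin m → LocalizedModule p.primeCompl M)
    (hs : Submodule.span (Localization.AtPrime p) (Set.range s) = ⊤) :
    Module.finrank p.ResidueField (p.ResidueField ⊗[A] M) ≤ m := by
  classical
  -- the fibre of the localized module
  have hspan : Submodule.span p.ResidueField
      (Set.range fun j => (1 : p.ResidueField) ⊗ₜ[Localization.AtPrime p] s j) = ⊤ := by
    rw [eq_top_iff]
    rintro x -
    induction x using TensorProduct.induction_on with
    | zero => exact zero_mem _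
    | add x y hx hy => exact add_mem hx hy
    | tmul c z =>
      have hz : z ∈ Submodule.span (Localization.AtPrime p) (Set.range s) := by
        rw [hs]; exact Submodule.mem_top
      induction hz using Submodule.span_induction with
      | mem y hy =>
        obtain ⟨j, rfl⟩ := hy
        have : c ⊗ₜ[Localization.AtPrime p] s j =
            c • ((1 : p.ResidueField) ⊗ₜ[Localization.AtPrime p] s j) := by
          rw [TensorProduct.smul_tmul', smul_eq_mul, mul_one]
        rw [this]
        exact Submodule.smul_mem _ _ (Submodule.subset_span ⟨j, rfl⟩)
      | zero => rw [tmul_zero]; exact zero_mem _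
      | add x y _ _ hx hy => rw [tmul_add]; exact add_mem hx hy
      | smul a x _ hx =>
        have : c ⊗ₜ[Localization.AtPrime p] (a • x) =
            algebraMap (Localization.AtPrime p) p.ResidueField a •
              (c ⊗ₜ[Localization.AtPrime p] x) := by
          rw [tmul_smul, algebraMap_smul]
        rw [this]
        exact Submodule.smul_mem _ _ hx
  have h1 : Module.finrank p.ResidueField
      (p.ResidueField ⊗[Localization.AtPrime p] LocalizedModule p.primeCompl M) ≤ m := by
    have h2 := finrank_range_le_card (R := p.ResidueField)
      (fun j : Fin m => (1 : p.ResidueField) ⊗ₜ[Localization.AtPrime p] s j)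
    rw [Set.finrank, hspan, finrank_top, Fintype.card_fin] at h2
    exact h2
  let e1 := (AlgebraTensorModule.cancelBaseChange A (Localization.AtPrime p) p.ResidueField
    p.ResidueField M).symm
  let e2 : p.ResidueField ⊗[Localization.AtPrime p] (Localization.AtPrime p ⊗[A] M) ≃ₗ[p.ResidueField]
      p.ResidueField ⊗[Localization.AtPrime p] LocalizedModule p.primeCompl M :=
    AlgebraTensorModule.congr (LinearEquiv.refl p.ResidueField p.ResidueField)
      (LocalizedModule.equivTensorProduct p.primeCompl M).symm
  rw [(e1.trans e2).finrank_eq]
  exact h1

theorem span_mkLinearMap_eq_top (m : ℕ) (ω : Fin m → M)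
    (h : ∀ x : M, ∃ r : A, r ∉ p ∧ r • x ∈ Submodule.span A (Set.range ω)) :
    Submodule.span (Localization.AtPrime p)
      (Set.range fun j => LocalizedModule.mkLinearMap p.primeCompl M (ω j)) = ⊤ := by
  have key : ∀ w ∈ Submodule.span A (Set.range ω),
      LocalizedModule.mkLinearMap p.primeCompl M w ∈ Submodule.span (Localization.AtPrime p)
        (Set.range fun j => LocalizedModule.mkLinearMap p.primeCompl M (ω j)) := by
    intro w hw
    induction hw using Submodule.span_induction with
    | mem y hy =>
      obtain ⟨j, rfl⟩ := hy
      exact Submodule.subset_span ⟨j, rfl⟩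
    | zero => rw [map_zero]; exact zero_mem _
    | add x y _ _ hx hy => rw [map_add]; exact add_mem hx hy
    | smul a x _ hx =>
      rw [map_smul, ← algebraMap_smul (Localization.AtPrime p) a]
      exact Submodule.smul_mem _ _ hx
  rw [eq_top_iff]
  rintro z -
  induction z using LocalizedModule.induction_on with
  | h x t =>
    obtain ⟨r, hr, hrx⟩ := h x
    have h1 : LocalizedModule.mk x t =
        Localization.mk 1 (⟨r, hr⟩ * t : p.primeCompl) •
          LocalizedModule.mkLinearMap p.primeCompl M (r • x) := by
      rw [LocalizedModule.mkLinearMap_apply, LocalizedModule.mk_smul_mk, one_smul, mul_one]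
      exact (LocalizedModule.mk_cancel_common_left (⟨r, hr⟩ : p.primeCompl) t x).symm
    rw [h1]
    exact Submodule.smul_mem _ _ (key _ hrx)

end loc

end Groth.Agent.Lib.Helper24.CplUnram
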