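import Mathlib

/-!
# Towers of derivations into a field (helper24), part 1

`B` a `k`-algebra, `K` a field which is a `B`-algebra.  For a `k`-algebra `C` mapping to `B` we
consider `k`-derivations `δ : C → K` (as plain functions, `IsDer`) whose values lie in a finitely
generated `B`-submodule of `K` (`Bounded`).  `Good n C`: there are `n` such derivations, linearly
independent over `K`.

This file: closure properties, the ring map `C → K[ε]` attached to a derivation, and the extension
of a derivation to `AdjoinRoot f` (`exists_extension`).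
-/

set_option autoImplicit false
universe u
open Polynomial TrivSqZeroExt

namespace Groth.Agent.Lib.Helper24.DerTower

section defs

variable (k : Type u) [CommRing k] (B : Type u) [CommRing B]
  (K : Type u) [Field K] [Algebra B K]
  (C : Type u) [CommRing C] [Algebra k C] [Algebra C B]

/-- the structure map `C → K` -/
def iota : C →+* K := (algebraMap B K).comp (algebraMap C B)

omit [Algebra k C] in
theorem iota_apply (c : C) : iota B K C c = algebraMap B K (algebraMap C B c) := rfl

/-- `δ : C → K` is a `k`-derivation -/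
structure IsDer (δ : C → K) : Prop where
  add : ∀ c c', δ (c + c') = δ c + δ c'
  mul : ∀ c c', δ (c * c') = iota B K C c * δ c' + iota B K C c' * δ c
  alg : ∀ a : k, δ (algebraMap k C a) = 0

/-- `δ` has values in a finitely generated `B`-submodule of `K` -/
def Bounded (δ : C → K) : Prop := ∃ N : Submodule B K, N.FG ∧ ∀ c, δ c ∈ N

/-- there are `n` linearly independent bounded derivations `C → K` -/
def Good (n : ℕ) : Prop :=
  ∃ D : Fin n → (C → K), LinearIndependent K D ∧ ∀ i, IsDer k B K C (D i) ∧ Bounded B K C (D i)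

end defs

section basic

variable {k : Type u} [CommRing k] {B : Type u} [CommRing B]
  {K : Type u} [Field K] [Algebra B K]
  {C : Type u} [CommRing C] [Algebra k C] [Algebra C B]

theorem IsDer.one {δ : C → K} (h : IsDer k B K C δ) : δ 1 = 0 := by
  have := h.alg 1
  rwa [map_one] at this

theorem IsDer.zero {δ : C → K} (h : IsDer k B K C δ) : δ 0 = 0 := by
  have := h.alg 0
  rwa [map_zero] at this

theorem IsDer.sum_smul {n : ℕ} (v : Fin n → K) (D : Fin n → (C → K))
    (h : ∀ i, IsDer k B K C (D i)) : IsDer k B K C (∑ i, v i • D i) := by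
  refine ⟨fun c c' => ?_, fun c c' => ?_, fun a => ?_⟩
  · simp only [Finset.sum_apply, Pi.smul_apply, smul_eq_mul, (h _).add, mul_add,
      Finset.sum_add_distrib]
  · simp only [Finset.sum_apply, Pi.smul_apply, smul_eq_mul, (h _).mul, Finset.mul_sum]
    rw [← Finset.sum_add_distrib]
    refine Finset.sum_congr rfl fun i _ => ?_
    ring
  · simp only [Finset.sum_apply, Pi.smul_apply, smul_eq_mul, (h _).alg, mul_zero,
      Finset.sum_const_zero]

omit [CommRing C] [Algebra C B] [Algebra k C] in
theorem Bounded.sum_smul {n : ℕ} (v : Fin n → K) (D : Fin n → (C → K))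
    (h : ∀ i, Bounded B K C (D i)) : Bounded B K C (∑ i, v i • D i) := by
  choose N hNfg hN using h
  refine ⟨⨆ i, (N i).map (LinearMap.mulLeft B (v i)), Submodule.fg_iSup _ fun i => (hNfg i).map _,
    fun c => ?_⟩
  simp only [Finset.sum_apply, Pi.smul_apply, smul_eq_mul]
  refine Submodule.sum_mem _ fun i _ => ?_
  refine Submodule.mem_iSup_of_mem i ?_
  exact ⟨D i c, hN i c, rfl⟩

end basic

section dual

variable {k : Type u} [CommRing k] {B : Type u} [CommRing B]
  {K : Type u} [Field K] [Algebra B K]
  {C : Type u} [CommRing C] [Algebra k C] [Algebra C B]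

/-- the ring map `C → K[ε]`, `c ↦ c + δ(c) ε` -/
noncomputable def phi (δ : C → K) (hδ : IsDer k B K C δ) : C →+* TrivSqZeroExt K K where
  toFun c := inl (iota B K C c) + inr (δ c)
  map_one' := by
    apply TrivSqZeroExt.ext
    · simp
    · simp [hδ.one]
  map_mul' a b := by
    apply TrivSqZeroExt.ext
    · simp
    · simp [hδ.mul a b, add_comm, mul_comm]
  map_zero' := by
    apply TrivSqZeroExt.ext
    · simp
    · simp [hδ.zero]
  map_add' a b := by
    apply TrivSqZeroExt.ext
    · simp
    · simp [hδ.add a b]

theorem fst_phi (δ : C → K) (hδ : IsDer k B K C δ) (c : C) :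
    (phi δ hδ c).fst = iota B K C c := by
  show (inl (iota B K C c) + inr (δ c) : TrivSqZeroExt K K).fst = _
  simp

theorem snd_phi (δ : C → K) (hδ : IsDer k B K C δ) (c : C) :
    (phi δ hδ c).snd = δ c := by
  show (inl (iota B K C c) + inr (δ c) : TrivSqZeroExt K K).snd = _
  simp

theorem pow_dual (a t : K) (j : ℕ) :
    (inl a + inr t : TrivSqZeroExt K K) ^ j = inl (a ^ j) + inr ((j : K) * a ^ (j - 1) * t) := by
  induction j with
  | zero =>
    apply TrivSqZeroExt.ext
    · simp
    · simp
  | succ j ih =>
    rw [pow_succ, ih]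
    apply TrivSqZeroExt.ext
    · simp [pow_succ]
    · simp only [snd_mul, fst_add, fst_inl, fst_inr, add_zero, snd_add, snd_inl, snd_inr, zero_add,
        smul_eq_mul, MulOpposite.smul_eq_mul_unop, MulOpposite.unop_op, Nat.add_sub_cancel,
        Nat.cast_succ]
      rcases j with _ | j
      · simp
      · simp only [Nat.add_sub_cancel, Nat.cast_succ]
        ring

theorem fst_eval₂_phi (δ : C → K) (hδ : IsDer k B K C δ) (g : C[X]) (a t : K) :
    (g.eval₂ (phi δ hδ) (inl a + inr t)).fst = g.eval₂ (iota B K C) a := by
  have h := Polynomial.hom_eval₂ g (phi δ hδ) (fstHom K K K).toRingHom (inl a + inr t)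
  have h1 : (fstHom K K K).toRingHom.comp (phi δ hδ) = iota B K C := by
    ext c
    exact fst_phi δ hδ c
  have h2 : (fstHom K K K).toRingHom (inl a + inr t) = a := by
    show (inl a + inr t : TrivSqZeroExt K K).fst = a
    simp
  rw [h1, h2] at h
  exact h

theorem snd_eval₂_phi (δ : C → K) (hδ : IsDer k B K C δ) (g : C[X]) (a t : K) :
    (g.eval₂ (phi δ hδ) (inl a + inr t)).snd =
      g.sum (fun j c => iota B K C c * ((j : K) * a ^ (j - 1) * t) + a ^ j * δ c) := by
  rw [Polynomial.eval₂_eq_sum, Polynomial.sum_def, Polynomial.sum_def]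
  have h : ∀ s : Finset ℕ, ∀ F : ℕ → TrivSqZeroExt K K,
      (∑ j ∈ s, F j).snd = ∑ j ∈ s, (F j).snd := by
    intro s F
    exact map_sum (sndHom K K) F s
  rw [h]
  refine Finset.sum_congr rfl fun j _ => ?_
  rw [pow_dual, snd_mul, fst_phi, snd_phi]
  simp only [fst_add, fst_inl, fst_inr, add_zero, snd_add, snd_inl, snd_inr, zero_add,
    smul_eq_mul, MulOpposite.smul_eq_mul_unop, MulOpposite.unop_op]
  ring

end dual

end Groth.Agent.Lib.Helper24.DerTower
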