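import Mathlib
import Groth.Agent.Lib.Helper24.DerTower1

/-!
# Towers of derivations into a field (helper24), part 2: simple extensions

`C → B → K` as in part 1, `f ∈ C[X]` monic with a root `y ∈ B`, minimal in the sense that no nonzero
polynomial of smaller degree kills `y`.  Then `AdjoinRoot f → B` is injective, and `Good n C`
implies `Good n (AdjoinRoot f)`.
-/

set_option autoImplicit false
universe u
open Polynomial TrivSqZeroExt

namespace Groth.Agent.Lib.Helper24.DerTower

section adjoin

variable {k : Type u} [CommRing k] {B : Type u} [CommRing B] [Algebra k B]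
  {K : Type u} [Field K] [Algebra B K]
  {C : Type u} [CommRing C] [Algebra k C] [Algebra C B] [IsScalarTower k C B]
  (f : C[X]) (y : B) (hy : f.eval₂ (algebraMap C B) y = 0)

/-- the map `AdjoinRoot f → B`, `root ↦ y` -/
noncomputable def toB : AdjoinRoot f →+* B := AdjoinRoot.lift (algebraMap C B) y hy

/-- the induced algebra structure -/
@[reducible] noncomputable def algAR : Algebra (AdjoinRoot f) B := (toB f y hy).toAlgebra

omit [Algebra k B] [Algebra k C] [IsScalarTower k C B] in
theorem toB_mk (g : C[X]) : toB f y hy (AdjoinRoot.mk f g) = g.eval₂ (algebraMap C B) y :=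
  AdjoinRoot.lift_mk hy g

omit [Algebra k B] [Algebra k C] [IsScalarTower k C B] in
theorem toB_of (c : C) : toB f y hy (AdjoinRoot.of f c) = algebraMap C B c :=
  AdjoinRoot.lift_of hy

omit [Algebra k B] [Algebra k C] [IsScalarTower k C B] in
theorem toB_root : toB f y hy (AdjoinRoot.root f) = y :=
  AdjoinRoot.lift_root hy

theorem isScalarTower_AR :
    letI := algAR f y hy
    IsScalarTower k (AdjoinRoot f) B := by
  letI := algAR f y hy
  refine IsScalarTower.of_algebraMap_eq fun a => ?_
  show algebraMap k B a = toB f y hy (algebraMap k (AdjoinRoot f) a)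
  rw [AdjoinRoot.algebraMap_eq', RingHom.comp_apply, toB_of, ← IsScalarTower.algebraMap_apply]

omit [Algebra k B] [Algebra k C] [IsScalarTower k C B] in
theorem toB_injective [IsDomain B] (hf : f.Monic)
    (hmin : ∀ r : C[X], r.degree < f.degree → r.eval₂ (algebraMap C B) y = 0 → r = 0) :
    Function.Injective (toB f y hy) := by
  haveI : Nontrivial C := RingHom.domain_nontrivial (algebraMap C B)
  rw [injective_iff_map_eq_zero]
  intro u hu
  obtain ⟨g, rfl⟩ := AdjoinRoot.mk_surjective u
  rw [toB_mk] at hu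
  have h1 := Polynomial.modByMonic_add_div g f
  have h2 : (g %ₘ f).eval₂ (algebraMap C B) y = 0 := by
    have h3 := congrArg (Polynomial.eval₂ (algebraMap C B) y) h1
    rw [eval₂_add, eval₂_mul, hy, zero_mul, add_zero, hu] at h3
    exact h3
  have h4 := hmin _ (Polynomial.degree_modByMonic_lt g hf) h2
  rw [h4, zero_add] at h1
  rw [AdjoinRoot.mk_eq_zero]
  exact ⟨_, h1.symm⟩

/-- the linear condition on `(δ, t)` for the extension to exist -/
noncomputable def cond (δ : C → K) (t : K) : K :=
  f.sum (fun j c => iota B K C c * ((j : K) * (algebraMap B K y) ^ (j - 1) * t) +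
    (algebraMap B K y) ^ j * δ c)

include hy in
omit [Algebra k B] [IsScalarTower k C B] in
theorem eval₂_phi_eq_zero (δ : C → K) (hδ : IsDer k B K C δ) (t : K) (ht : cond f y δ t = 0) :
    f.eval₂ (phi δ hδ) (inl (algebraMap B K y) + inr t) = 0 := by
  apply TrivSqZeroExt.ext
  · rw [fst_eval₂_phi, fst_zero]
    have h := Polynomial.hom_eval₂ f (algebraMap C B) (algebraMap B K) y
    rw [hy, map_zero] at h
    exact h.symm
  · rw [snd_eval₂_phi, snd_zero]
    exact ht

omit [Algebra k B] [IsScalarTower k C B] in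
theorem exists_extension (δ : C → K) (hδ : IsDer k B K C δ) (t : K) (ht : cond f y δ t = 0) :
    letI := algAR f y hy
    ∃ δ' : AdjoinRoot f → K, IsDer k B K (AdjoinRoot f) δ' ∧
      (∀ c, δ' (AdjoinRoot.of f c) = δ c) ∧ δ' (AdjoinRoot.root f) = t ∧
      (Bounded B K C δ → Bounded B K (AdjoinRoot f) δ') := by
  letI := algAR f y hy
  have hx := eval₂_phi_eq_zero f y hy δ hδ t ht
  set Φ : AdjoinRoot f →+* TrivSqZeroExt K K :=
    AdjoinRoot.lift (phi δ hδ) (inl (algebraMap B K y) + inr t) hx with hΦ
  have hΦmk : ∀ g : C[X], Φ (AdjoinRoot.mk f g) =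
      g.eval₂ (phi δ hδ) (inl (algebraMap B K y) + inr t) := fun g => AdjoinRoot.lift_mk hx g
  have hfst : ∀ u, (Φ u).fst = iota B K (AdjoinRoot f) u := by
    intro u
    obtain ⟨g, rfl⟩ := AdjoinRoot.mk_surjective u
    rw [hΦmk, fst_eval₂_phi, iota_apply]
    show _ = algebraMap B K (toB f y hy (AdjoinRoot.mk f g))
    rw [toB_mk, Polynomial.hom_eval₂]
    rfl
  refine ⟨fun u => (Φ u).snd, ⟨fun u u' => ?_, fun u u' => ?_, fun a => ?_⟩, fun c => ?_, ?_,
    ?_⟩
  · show (Φ (u + u')).snd = _
    rw [map_add, snd_add]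
  · show (Φ (u * u')).snd = _
    rw [map_mul, snd_mul, hfst, hfst]
    simp only [smul_eq_mul, MulOpposite.smul_eq_mul_unop, MulOpposite.unop_op]
    ring
  · show (Φ (algebraMap k (AdjoinRoot f) a)).snd = 0
    rw [AdjoinRoot.algebraMap_eq', RingHom.comp_apply, hΦ, AdjoinRoot.lift_of, snd_phi]
    exact hδ.alg a
  · show (Φ (AdjoinRoot.of f c)).snd = δ c
    rw [hΦ, AdjoinRoot.lift_of, snd_phi]
  · show (Φ (AdjoinRoot.root f)).snd = t
    rw [hΦ, AdjoinRoot.lift_root]
    simp
  · rintro ⟨N, hNfg, hN⟩
    refine ⟨N ⊔ Submodule.span B {t}, hNfg.sup (Submodule.fg_span_singleton t), fun u => ?_⟩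
    obtain ⟨g, rfl⟩ := AdjoinRoot.mk_surjective u
    show (Φ (AdjoinRoot.mk f g)).snd ∈ _
    rw [hΦmk, snd_eval₂_phi, Polynomial.sum_def]
    refine Submodule.sum_mem _ fun j _ => Submodule.add_mem _ ?_ ?_
    · have h1 : iota B K C (g.coeff j) * ((j : K) * (algebraMap B K y) ^ (j - 1) * t) =
          (algebraMap C B (g.coeff j) * (j : B) * y ^ (j - 1)) • t := by
        rw [Algebra.smul_def, map_mul, map_mul, map_pow, map_natCast, iota_apply]
        ring
      rw [h1]
      exact Submodule.mem_sup_right (Submodule.smul_mem _ _ (Submodule.mem_span_singleton_self t))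
    · have h2 : (algebraMap B K y) ^ j * δ (g.coeff j) = (y ^ j) • δ (g.coeff j) := by
        rw [Algebra.smul_def, map_pow]
      rw [h2]
      exact Submodule.mem_sup_left (Submodule.smul_mem _ _ (hN _))

omit [Algebra k B] [Algebra k C] [IsScalarTower k C B] in
theorem cond_sum_smul {n : ℕ} (v : Fin n → K) (D : Fin n → (C → K)) (t : K) :
    cond f y (∑ i, v i • D i) t =
      ∑ i, v i * (f.sum fun j c => (algebraMap B K y) ^ j * D i c) +
        (f.sum fun j c => iota B K C c * ((j : K) * (algebraMap B K y) ^ (j - 1))) * t := by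
  unfold cond
  simp only [Polynomial.sum_def, Finset.sum_apply, Pi.smul_apply, smul_eq_mul, Finset.mul_sum,
    Finset.sum_mul, Finset.sum_add_distrib]
  rw [add_comm, Finset.sum_comm]
  congr 1
  · refine Finset.sum_congr rfl fun i _ => Finset.sum_congr rfl fun j _ => ?_
    ring
  · refine Finset.sum_congr rfl fun j _ => ?_
    ring

omit [Algebra k B] [IsScalarTower k C B] in
theorem good_adjoinRoot (n : ℕ) (hG : Good k B K C n) :
    letI := algAR f y hy
    Good k B K (AdjoinRoot f) n := by
  classical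
  letI := algAR f y hy
  obtain ⟨D, hind, hD⟩ := hG
  set E' : Fin n → K := fun i => f.sum fun j c => (algebraMap B K y) ^ j * D i c with hE'
  set E'' : K := f.sum fun j c => iota B K C c * ((j : K) * (algebraMap B K y) ^ (j - 1))
    with hE''
  let ψ : ((Fin n → K) × K) →ₗ[K] K :=
    { toFun := fun w => ∑ i, w.1 i * E' i + E'' * w.2
      map_add' := fun w w' => by
        simp only [Prod.fst_add, Prod.snd_add, Pi.add_apply, add_mul, mul_add,
          Finset.sum_add_distrib]
        ring
      map_smul' := fun c w => by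
        simp only [Prod.smul_fst, Prod.smul_snd, Pi.smul_apply, smul_eq_mul, RingHom.id_apply,
          mul_add, Finset.mul_sum]
        congr 1
        · refine Finset.sum_congr rfl fun i _ => ?_
          ring
        · ring }
  have hψ : ∀ w, ψ w = cond f y (∑ i, w.1 i • D i) w.2 := fun w =>
    (cond_sum_smul f y w.1 D w.2).symm
  have hker : n ≤ Module.finrank K (LinearMap.ker ψ) := by
    have h1 := LinearMap.finrank_range_add_finrank_ker ψ
    have h2 : Module.finrank K ((Fin n → K) × K) = n + 1 := by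
      rw [Module.finrank_prod, Module.finrank_fin_fun, Module.finrank_self]
    have h3 : Module.finrank K (LinearMap.range ψ) ≤ 1 := by
      have := Submodule.finrank_le (LinearMap.range ψ)
      rwa [Module.finrank_self] at this
    omega
  obtain ⟨w, hw⟩ := exists_linearIndependent_of_le_finrank hker
  have hext : ∀ l, ∃ δ' : AdjoinRoot f → K, IsDer k B K (AdjoinRoot f) δ' ∧
      (∀ c, δ' (AdjoinRoot.of f c) = (∑ i, (w l).1.1 i • D i) c) ∧
      δ' (AdjoinRoot.root f) = (w l).1.2 ∧ Bounded B K (AdjoinRoot f) δ' := by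
    intro l
    have hδ := IsDer.sum_smul (w l).1.1 D (fun i => (hD i).1)
    have hb := Bounded.sum_smul (w l).1.1 D (fun i => (hD i).2)
    have hc : cond f y (∑ i, (w l).1.1 i • D i) (w l).1.2 = 0 := by
      rw [← hψ]
      exact (w l).2
    obtain ⟨δ', h1, h2, h3, h4⟩ := exists_extension f y hy _ hδ _ hc
    exact ⟨δ', h1, h2, h3, h4 hb⟩
  choose D' hD'1 hD'2 hD'3 hD'4 using hext
  refine ⟨D', ?_, fun l => ⟨hD'1 l, hD'4 l⟩⟩
  rw [Fintype.linearIndependent_iff]
  intro g hg
  have hfst : ∀ i, ∑ l, g l * (w l).1.1 i = 0 := by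
    have h1 : ∑ i, (∑ l, g l * (w l).1.1 i) • D i = 0 := by
      funext c
      have h2 := congrFun hg (AdjoinRoot.of f c)
      simp only [Finset.sum_apply, Pi.smul_apply, smul_eq_mul, hD'2, Pi.zero_apply,
        Finset.mul_sum] at h2 ⊢
      rw [Finset.sum_comm] at h2
      rw [← h2]
      refine Finset.sum_congr rfl fun i _ => ?_
      rw [Finset.sum_mul]
      refine Finset.sum_congr rfl fun l _ => ?_
      ring
    exact Fintype.linearIndependent_iff.mp hind _ h1
  have hsnd : ∑ l, g l * (w l).1.2 = 0 := by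
    have h2 := congrFun hg (AdjoinRoot.root f)
    simp only [Finset.sum_apply, Pi.smul_apply, smul_eq_mul, hD'3, Pi.zero_apply] at h2
    exact h2
  have hw0 : ∑ l, g l • w l = 0 := by
    apply Subtype.ext
    rw [Submodule.coe_sum, Submodule.coe_zero]
    simp only [Submodule.coe_smul]
    apply Prod.ext
    · funext i
      simp only [Prod.fst_sum, Prod.smul_fst, Finset.sum_apply, Pi.smul_apply, smul_eq_mul,
        Prod.fst_zero, Pi.zero_apply]
      exact hfst i
    · simp only [Prod.snd_sum, Prod.smul_snd, smul_eq_mul, Prod.snd_zero]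
      exact hsnd
  exact Fintype.linearIndependent_iff.mp hw g hw0

end adjoin

end Groth.Agent.Lib.Helper24.DerTower
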