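import Mathlib
import Groth.Agent.Lib.Helper24.DerTower2

/-!
# Towers of derivations into a field (helper24), part 3: the tower

* `exists_step`: for `b ∈ B` integral over `C`, a ring `C'` between `C` and `B` containing a
  nonzero `C`-multiple of `b`, with `Good n C → Good n C'`.
* `good_of_birational`: if `s B ⊆ C` for some nonzero `s ∈ C`, then `Good n C → Good n B`.
* `good_of_tower`: if `B` is integral over `C` and generated as a `C`-module by finitely many
  elements, then `Good n C → Good n B`.
-/

set_option autoImplicit false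
universe u
open Polynomial

namespace Groth.Agent.Lib.Helper24.DerTower

section minimal

variable {B : Type u} [CommRing B] [IsDomain B]
  {C : Type u} [CommRing C] [Algebra C B]

theorem exists_minimal_poly (b : B)
    (hb : ∃ p : C[X], p.Monic ∧ p.eval₂ (algebraMap C B) b = 0) :
    ∃ r : C[X], r ≠ 0 ∧ r.eval₂ (algebraMap C B) b = 0 ∧
      ∀ r' : C[X], r' ≠ 0 → r'.eval₂ (algebraMap C B) b = 0 → r.natDegree ≤ r'.natDegree := by
  classical
  haveI : Nontrivial C := RingHom.domain_nontrivial (algebraMap C B)
  obtain ⟨p, hp, hpb⟩ := hb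
  have hex : ∃ d : ℕ, ∃ r : C[X], r ≠ 0 ∧ r.eval₂ (algebraMap C B) b = 0 ∧ r.natDegree = d :=
    ⟨p.natDegree, p, hp.ne_zero, hpb, rfl⟩
  obtain ⟨r, hr0, hrb, hrd⟩ := Nat.find_spec hex
  refine ⟨r, hr0, hrb, fun r' hr'0 hr'b => ?_⟩
  rw [hrd]
  exact Nat.find_min' hex ⟨r', hr'0, hr'b, rfl⟩

/-- scaling `b` by the leading coefficient of a minimal polynomial gives an element with a monic
minimal polynomial over `C` -/
theorem exists_monic_minimal (hinj : Function.Injective (algebraMap C B)) (b : B)
    (hb : ∃ p : C[X], p.Monic ∧ p.eval₂ (algebraMap C B) b = 0) :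
    ∃ (a : C) (f : C[X]), a ≠ 0 ∧ f.Monic ∧
      f.eval₂ (algebraMap C B) (algebraMap C B a * b) = 0 ∧
      ∀ r : C[X], r.degree < f.degree → r.eval₂ (algebraMap C B) (algebraMap C B a * b) = 0 →
        r = 0 := by
  haveI : IsDomain C := hinj.isDomain (algebraMap C B)
  obtain ⟨r, hr0, hrb, hmin⟩ := exists_minimal_poly b hb
  have ha : r.leadingCoeff ≠ 0 := leadingCoeff_ne_zero.mpr hr0
  refine ⟨r.leadingCoeff, integralNormalization r, ha, monic_integralNormalization hr0, ?_, ?_⟩
  · exact integralNormalization_eval₂_eq_zero (algebraMap C B) hrb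
      (fun x hx => hinj (hx.trans (map_zero _).symm))
  · intro h hdeg hh
    by_contra h0
    have hnat : h.natDegree < r.natDegree := by
      have := Polynomial.natDegree_lt_natDegree h0 hdeg
      rwa [natDegree_integralNormalization] at this
    set h' := h.comp (Polynomial.C r.leadingCoeff * X) with hh'
    have hcoeff : h'.coeff h.natDegree = h.leadingCoeff * r.leadingCoeff ^ h.natDegree := by
      rw [hh', Polynomial.comp_C_mul_X_coeff]
      rfl
    have h'0 : h' ≠ 0 := by
      intro h'z
      rw [h'z, coeff_zero] at hcoeff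
      exact mul_ne_zero (leadingCoeff_ne_zero.mpr h0) (pow_ne_zero _ ha) hcoeff.symm
    have h'b : h'.eval₂ (algebraMap C B) b = 0 := by
      rw [hh', Polynomial.eval₂_comp, eval₂_mul, eval₂_C, eval₂_X]
      exact hh
    have hle := hmin h' h'0 h'b
    have hdeg' : h'.natDegree ≤ h.natDegree := by
      refine (Polynomial.natDegree_comp_le).trans ?_
      rw [Polynomial.natDegree_C_mul_X _ ha, mul_one]
    omega

end minimal

section step

variable {k : Type u} [CommRing k] {B : Type u} [CommRing B] [Algebra k B] [IsDomain B]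
  {K : Type u} [Field K] [Algebra B K]
  {C : Type u} [CommRing C] [Algebra k C] [Algebra C B] [IsScalarTower k C B]

theorem exists_step (hinj : Function.Injective (algebraMap C B)) (n : ℕ)
    (hG : Good k B K C n) (b : B)
    (hb : ∃ p : C[X], p.Monic ∧ p.eval₂ (algebraMap C B) b = 0) :
    ∃ (C' : Type u) (_ : CommRing C') (_ : Algebra k C') (_ : Algebra C' B)
      (_ : IsScalarTower k C' B) (j : C →+* C') (a : C) (y' : C'),
      Function.Injective (algebraMap C' B) ∧ Good k B K C' n ∧ a ≠ 0 ∧
        (∀ c, algebraMap C' B (j c) = algebraMap C B c) ∧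
        algebraMap C' B y' = algebraMap C B a * b := by
  obtain ⟨a, f, ha, hf, hy, hmin⟩ := exists_monic_minimal hinj b hb
  letI := algAR f (algebraMap C B a * b) hy
  refine ⟨AdjoinRoot f, inferInstance, inferInstance, algAR f (algebraMap C B a * b) hy,
    isScalarTower_AR f (algebraMap C B a * b) hy, AdjoinRoot.of f, a, AdjoinRoot.root f,
    toB_injective f _ hy hf hmin, good_adjoinRoot f _ hy n hG, ha, fun c => ?_, ?_⟩
  · exact toB_of f _ hy c
  · exact toB_root f _ hy

end step

section birational

variable {k : Type u} [CommRing k] {B : Type u} [CommRing B] [Algebra k B] [IsDomain B]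
  {K : Type u} [Field K] [Algebra B K]
  {C : Type u} [CommRing C] [Algebra k C] [Algebra C B] [IsScalarTower k C B]

omit [IsDomain B] in
theorem exists_extension_birational (hBK : Function.Injective (algebraMap B K))
    (hinj : Function.Injective (algebraMap C B)) (s : C) (hs : s ≠ 0)
    (hsB : ∀ x : B, ∃ c : C, algebraMap C B c = algebraMap C B s * x)
    (δ : C → K) (hδ : IsDer k B K C δ) (hb : Bounded B K C δ) :
    ∃ δ' : B → K, IsDer k B K B δ' ∧ Bounded B K B δ' ∧
      ∀ c, δ' (algebraMap C B c) = δ c := by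
  choose cf hcf using hsB
  set σ : K := iota B K C s with hσ
  have hσ0 : σ ≠ 0 := by
    rw [hσ, iota_apply]
    intro h
    exact hs (hinj (hBK (h.trans (map_zero _).symm) |>.trans (map_zero _).symm))
  have hι : ∀ x : B, iota B K C (cf x) = σ * algebraMap B K x := by
    intro x
    rw [iota_apply, hcf, map_mul]
    rfl
  have hcf_add : ∀ x x', cf (x + x') = cf x + cf x' := by
    intro x x'
    apply hinj
    rw [map_add, hcf, hcf, hcf, mul_add]
  have hcf_mul : ∀ x x', s * cf (x * x') = cf x * cf x' := by
    intro x x'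
    apply hinj
    rw [map_mul, map_mul, hcf, hcf, hcf]
    ring
  have hcf_alg : ∀ c : C, cf (algebraMap C B c) = s * c := by
    intro c
    apply hinj
    rw [hcf, map_mul]
  have hiB : ∀ x : B, iota B K B x = algebraMap B K x := fun x => rfl
  refine ⟨fun x => (δ (cf x) - algebraMap B K x * δ s) / σ, ⟨fun x x' => ?_, fun x x' => ?_,
    fun a => ?_⟩, ?_, fun c => ?_⟩
  · show (δ (cf (x + x')) - algebraMap B K (x + x') * δ s) / σ = _
    rw [hcf_add, hδ.add, map_add]
    field_simp
    ring
  · show (δ (cf (x * x')) - algebraMap B K (x * x') * δ s) / σ = _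
    have h1 := hδ.mul s (cf (x * x'))
    rw [hcf_mul, hδ.mul, hι, hι, hι] at h1
    have h2 : δ (cf (x * x')) = algebraMap B K x * δ (cf x') + algebraMap B K x' * δ (cf x) -
        algebraMap B K x * algebraMap B K x' * δ s := by
      have h3 : σ * δ (cf (x * x')) = σ * (algebraMap B K x * δ (cf x') +
          algebraMap B K x' * δ (cf x) - algebraMap B K x * algebraMap B K x' * δ s) := by
        rw [map_mul] at h1
        linear_combination (-1 : K) * h1
      exact mul_left_cancel₀ hσ0 h3
    rw [h2, hiB, hiB, map_mul]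
    field_simp
    ring
  · show (δ (cf (algebraMap k B a)) - algebraMap B K (algebraMap k B a) * δ s) / σ = 0
    rw [IsScalarTower.algebraMap_apply k C B, hcf_alg, hδ.mul, hδ.alg, mul_zero, zero_add,
      iota_apply, sub_self, zero_div]
  · obtain ⟨N, hNfg, hN⟩ := hb
    refine ⟨(N ⊔ Submodule.span B {δ s}).map (LinearMap.mulLeft B σ⁻¹),
      (hNfg.sup (Submodule.fg_span_singleton _)).map _, fun x => ?_⟩
    refine ⟨δ (cf x) - algebraMap B K x * δ s, ?_, ?_⟩
    · refine Submodule.sub_mem _ (Submodule.mem_sup_left (hN _)) (Submodule.mem_sup_right ?_)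
      have : algebraMap B K x * δ s = x • δ s := by rw [Algebra.smul_def]
      rw [this]
      exact Submodule.smul_mem _ _ (Submodule.mem_span_singleton_self _)
    · show σ⁻¹ * (δ (cf x) - algebraMap B K x * δ s) =
        (δ (cf x) - algebraMap B K x * δ s) / σ
      rw [div_eq_inv_mul]
  · show (δ (cf (algebraMap C B c)) - algebraMap B K (algebraMap C B c) * δ s) / σ = δ c
    rw [hcf_alg, hδ.mul, ← iota_apply, ← hσ]
    field_simp
    ring

omit [IsDomain B] in
theorem good_of_birational (hBK : Function.Injective (algebraMap B K))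
    (hinj : Function.Injective (algebraMap C B)) (s : C) (hs : s ≠ 0)
    (hsB : ∀ x : B, ∃ c : C, algebraMap C B c = algebraMap C B s * x) (n : ℕ)
    (hG : Good k B K C n) : Good k B K B n := by
  obtain ⟨D, hind, hD⟩ := hG
  have hext := fun i => exists_extension_birational hBK hinj s hs hsB (D i) (hD i).1 (hD i).2
  choose D' hD'1 hD'2 hD'3 using hext
  refine ⟨D', ?_, fun i => ⟨hD'1 i, hD'2 i⟩⟩
  rw [Fintype.linearIndependent_iff]
  intro g hg
  refine Fintype.linearIndependent_iff.mp hind g ?_
  funext c
  have h2 := congrFun hg (algebraMap C B c)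
  simp only [Finset.sum_apply, Pi.smul_apply, smul_eq_mul, hD'3, Pi.zero_apply] at h2 ⊢
  exact h2

end birational

section tower

variable {k : Type u} [CommRing k] {B : Type u} [CommRing B] [Algebra k B] [IsDomain B]
  {K : Type u} [Field K] [Algebra B K]

theorem good_of_tower (hBK : Function.Injective (algebraMap B K)) (n : ℕ) :
    ∀ (m : ℕ) (C : Type u) [CommRing C] [Algebra k C] [Algebra C B] [IsScalarTower k C B],
      Function.Injective (algebraMap C B) →
      (∀ b : B, ∃ p : C[X], p.Monic ∧ p.eval₂ (algebraMap C B) b = 0) →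
      Good k B K C n → ∀ (β : Fin m → B) (s : C), s ≠ 0 →
      (∀ x : B, ∃ c₀ : C, ∃ c : Fin m → C,
        algebraMap C B s * x = algebraMap C B c₀ + ∑ l, algebraMap C B (c l) * β l) →
      Good k B K B n := by
  intro m
  induction m with
  | zero =>
    intro C _ _ _ _ hinj _ hG β s hs hsB
    refine good_of_birational hBK hinj s hs (fun x => ?_) n hG
    obtain ⟨c₀, c, hc⟩ := hsB x
    refine ⟨c₀, ?_⟩
    rw [hc, Finset.univ_eq_empty, Finset.sum_empty, add_zero]
  | succ m ih =>
    intro C _ _ _ _ hinj hint hG β s hs hsB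
    obtain ⟨C', i1, i2, i3, i4, j, a, y', hinj', hG', ha, hj, hy'⟩ :=
      exists_step hinj n hG (β (Fin.last m)) (hint _)
    haveI : IsDomain C := hinj.isDomain (algebraMap C B)
    have hjinj : Function.Injective j := by
      intro c c' hcc
      apply hinj
      rw [← hj, ← hj, hcc]
    have hint' : ∀ b : B, ∃ p : C'[X], p.Monic ∧ p.eval₂ (algebraMap C' B) b = 0 := by
      intro b
      obtain ⟨p, hp, hpb⟩ := hint b
      refine ⟨p.map j, hp.map j, ?_⟩
      rw [Polynomial.eval₂_map]
      have : (algebraMap C' B).comp j = algebraMap C B := RingHom.ext hj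
      rw [this]
      exact hpb
    refine ih C' hinj' hint' hG' (fun l => β (Fin.castSucc l)) (j (s * a))
      (fun h => mul_ne_zero hs ha (hjinj (h.trans (map_zero j).symm))) (fun x => ?_)
    obtain ⟨c₀, c, hc⟩ := hsB x
    refine ⟨j (a * c₀) + j (c (Fin.last m)) * y', fun l => j (a * c (Fin.castSucc l)), ?_⟩
    rw [Fin.sum_univ_castSucc] at hc
    simp only [map_add, map_mul, hj, hy']
    have h1 : ∑ l : Fin m, algebraMap C B a * algebraMap C B (c (Fin.castSucc l)) *
          β (Fin.castSucc l) =
        algebraMap C B a * ∑ l : Fin m, algebraMap C B (c (Fin.castSucc l)) *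
          β (Fin.castSucc l) := by
      rw [Finset.mul_sum]
      refine Finset.sum_congr rfl fun l _ => ?_
      ring
    rw [h1]
    linear_combination (algebraMap C B a) * hc

end tower

end Groth.Agent.Lib.Helper24.DerTower
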