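import Mathlib
import Groth.Agent.Lib.Helper24.DerTower3
import Groth.Agent.S16981

/-!
# Towers of derivations into a field (helper24), part 4

* `good_mvPowerSeries`: the partial derivatives give `Good n k[[X_1..X_n]]`.
* `good_of_finite`: if `B` is a domain, finite over `P = k[[X_1..X_n]]` (injective), then
  `Good n B`.
* `exists_lift_of_bounded`: a linear map from `M` to a finitely generated submodule of `K` extends
  to the completion of `M` (over a complete Noetherian local ring).
* `rank_tensor_le`: upper semicontinuity of the fibre rank of a finite module.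
-/

set_option autoImplicit false
universe u
open Polynomial IsLocalRing TensorProduct

namespace Groth.Agent.Lib.Helper24.DerTower

section base

variable (k : Type u) [Field k] (n : ℕ) (B : Type u) [CommRing B]
  (K : Type u) [Field K] [Algebra B K] [Algebra (MvPowerSeries (Fin n) k) B]

theorem good_mvPowerSeries : Good k B K (MvPowerSeries (Fin n) k) n := by
  classical
  refine ⟨fun i g => iota B K (MvPowerSeries (Fin n) k) (MvPowerSeries.pderiv k i g), ?_,
    fun i => ⟨⟨fun g g' => ?_, fun g g' => ?_, fun a => ?_⟩, ?_⟩⟩
  · rw [Fintype.linearIndependent_iff]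
    intro c hc j
    have h := congrFun hc (MvPowerSeries.X j)
    simp only [Finset.sum_apply, Pi.smul_apply, smul_eq_mul, Pi.zero_apply,
      MvPowerSeries.pderiv_X] at h
    rw [Finset.sum_eq_single j] at h
    · rw [Pi.single_eq_same, map_one, mul_one] at h
      exact h
    · intro i _ hij
      rw [Pi.single_eq_of_ne (Ne.symm hij), map_zero, mul_zero]
    · intro hj
      exact absurd (Finset.mem_univ j) hj
  · show iota B K _ (MvPowerSeries.pderiv k i (g + g')) = _
    rw [map_add, map_add]
  · show iota B K _ (MvPowerSeries.pderiv k i (g * g')) = _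
    rw [Derivation.leibniz, map_add, smul_eq_mul, smul_eq_mul, map_mul, map_mul]
  · show iota B K _ (MvPowerSeries.pderiv k i (algebraMap k _ a)) = 0
    rw [Derivation.map_algebraMap, map_zero]
  · refine ⟨Submodule.span B {1}, Submodule.fg_span_singleton _, fun g => ?_⟩
    show iota B K _ (MvPowerSeries.pderiv k i g) ∈ _
    rw [iota_apply, Algebra.algebraMap_eq_smul_one]
    exact Submodule.smul_mem _ _ (Submodule.mem_span_singleton_self _)

end base

section finite

variable (k : Type u) [Field k] (n : ℕ) (B : Type u) [CommRing B] [IsDomain B] [Algebra k B]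
  (K : Type u) [Field K] [Algebra B K] [Algebra (MvPowerSeries (Fin n) k) B]
  [IsScalarTower k (MvPowerSeries (Fin n) k) B] [Module.Finite (MvPowerSeries (Fin n) k) B]

theorem good_of_finite (hBK : Function.Injective (algebraMap B K))
    (hinj : Function.Injective (algebraMap (MvPowerSeries (Fin n) k) B)) :
    Good k B K B n := by
  obtain ⟨m, β, hβ⟩ := Module.Finite.exists_fin (R := MvPowerSeries (Fin n) k) (M := B)
  have hint : ∀ b : B, ∃ p : (MvPowerSeries (Fin n) k)[X],
      p.Monic ∧ p.eval₂ (algebraMap (MvPowerSeries (Fin n) k) B) b = 0 := by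
    intro b
    exact Algebra.IsIntegral.isIntegral (R := MvPowerSeries (Fin n) k) b
  refine good_of_tower hBK n m (MvPowerSeries (Fin n) k) hinj hint
    (good_mvPowerSeries k n B K) β 1 one_ne_zero (fun x => ?_)
  have hx : x ∈ Submodule.span (MvPowerSeries (Fin n) k) (Set.range β) := by
    rw [hβ]; exact Submodule.mem_top
  rw [Submodule.mem_span_range_iff_exists_fun] at hx
  obtain ⟨c, hc⟩ := hx
  refine ⟨0, c, ?_⟩
  rw [map_one, one_mul, map_zero, zero_add, ← hc]
  refine Finset.sum_congr rfl fun l _ => ?_
  rw [Algebra.smul_def]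

end finite

section lift

variable {A : Type u} [CommRing A] [IsLocalRing A] [IsNoetherianRing A]
  [IsAdicComplete (maximalIdeal A) A]
  {M : Type u} [AddCommGroup M] [Module A M] {K : Type u} [AddCommGroup K] [Module A K]

theorem exists_lift_of_bounded (φ : M →ₗ[A] K) (N : Submodule A K) (hNfg : N.FG)
    (hN : LinearMap.range φ ≤ N) :
    ∃ Ψ : AdicCompletion (maximalIdeal A) M →ₗ[A] K,
      ∀ ω, Ψ (AdicCompletion.of (maximalIdeal A) M ω) = φ ω := by
  haveI : Module.Finite A N := Module.Finite.iff_fg.mpr hNfg
  haveI : IsAdicComplete (maximalIdeal A) N :=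
    Groth.Agent.S16981.isAdicComplete_of_finite (maximalIdeal A) _
  let ψ' : M →ₗ[A] N := φ.codRestrict N (fun ω => hN ⟨ω, rfl⟩)
  refine ⟨N.subtype.comp ((AdicCompletion.ofLinearEquiv (maximalIdeal A) N).symm.toLinearMap.comp
    ((AdicCompletion.map (maximalIdeal A) ψ').restrictScalars A)), ?_⟩
  intro ω
  show N.subtype ((AdicCompletion.ofLinearEquiv (maximalIdeal A) N).symm
    (AdicCompletion.map (maximalIdeal A) ψ' (AdicCompletion.of (maximalIdeal A) M ω))) = _
  rw [AdicCompletion.map_of, AdicCompletion.ofLinearEquiv_symm_of]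
  rfl

end lift

end Groth.Agent.Lib.Helper24.DerTower
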