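import Mathlib
import Groth.Agent.Lib.Helper24.DerTower4

/-!
# Towers of derivations into a field (helper24), part 5: rank bounds

* `rank_tensor_le`: upper semicontinuity of the fibre rank of a finite module.
* `le_rank_of_good`: `Good n B` for a quotient `B` of a complete Noetherian local `k`-algebra `A`
  gives `n ≤ rank_K (K ⊗_A Ω̂_{A/k})`.
-/

set_option autoImplicit false
universe u
open IsLocalRing TensorProduct Cardinal

namespace Groth.Agent.Lib.Helper24.DerTower

section semicont

variable (A : Type u) [CommRing A] (M : Type u) [AddCommGroup M] [Module A M] [Module.Finite A M]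
  (p : Ideal A) [p.IsPrime] (K : Type u) [Field K] [Algebra A K]

theorem rank_tensor_le (hK : ∀ a : A, a ∉ p → algebraMap A K a ≠ 0) :
    Module.rank K (K ⊗[A] M) ≤ Module.rank p.ResidueField (p.ResidueField ⊗[A] M) := by
  classical
  have hspan : Submodule.span p.ResidueField
      (Set.range fun m : M => (1 : p.ResidueField) ⊗ₜ[A] m) = ⊤ := by
    rw [eq_top_iff]
    rintro x -
    induction x using TensorProduct.induction_on with
    | zero => exact zero_mem _
    | tmul c m =>
      have : c ⊗ₜ[A] m = c • ((1 : p.ResidueField) ⊗ₜ[A] m) := by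
        rw [TensorProduct.smul_tmul', smul_eq_mul, mul_one]
      rw [this]
      exact Submodule.smul_mem _ _ (Submodule.subset_span ⟨m, rfl⟩)
    | add x y hx hy => exact add_mem hx hy
  obtain ⟨b, hbS, hbspan, hbli⟩ := exists_linearIndependent p.ResidueField
    (Set.range fun m : M => (1 : p.ResidueField) ⊗ₜ[A] m)
  rw [hspan] at hbspan
  have hpre : ∀ v : b, ∃ m : M, (1 : p.ResidueField) ⊗ₜ[A] m = v.1 := fun v => hbS v.2
  choose mv hmv using hpre
  set N : Submodule A M := Submodule.span A (Set.range mv) with hN
  have hsub : Subsingleton (p.ResidueField ⊗[A] (M ⧸ N)) := by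
    set π := LinearMap.baseChange p.ResidueField N.mkQ with hπ
    have hπs : Function.Surjective π :=
      LinearMap.lTensor_surjective _ N.mkQ_surjective
    have hπ0 : ∀ x, π x = 0 := by
      intro x
      have hx : x ∈ Submodule.span p.ResidueField b := by rw [hbspan]; exact Submodule.mem_top
      induction hx using Submodule.span_induction with
      | mem v hv =>
        have hv' : v = (1 : p.ResidueField) ⊗ₜ[A] mv ⟨v, hv⟩ := (hmv ⟨v, hv⟩).symm
        rw [show π v = π ((1 : p.ResidueField) ⊗ₜ[A] mv ⟨v, hv⟩) from congrArg π hv',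
          hπ, LinearMap.baseChange_tmul, Submodule.mkQ_apply,
          (Submodule.Quotient.mk_eq_zero N).mpr (Submodule.subset_span ⟨_, rfl⟩), tmul_zero]
      | zero => exact map_zero _
      | add x y _ _ hx hy => rw [map_add, hx, hy, add_zero]
      | smul c x _ hx => rw [map_smul, hx, smul_zero]
    refine ⟨fun z z' => ?_⟩
    obtain ⟨x, rfl⟩ := hπs z
    obtain ⟨x', rfl⟩ := hπs z'
    rw [hπ0, hπ0]
  have hsupp : (⟨p, inferInstance⟩ : PrimeSpectrum A) ∉ Module.support A (M ⧸ N) := by
    rw [Module.mem_support_iff_nontrivial_residueField_tensorProduct]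
    exact not_nontrivial_iff_subsingleton.mpr hsub
  rw [Module.notMem_support_iff'] at hsupp
  have hN1 : ∀ x ∈ N, (1 : K) ⊗ₜ[A] x ∈
      Submodule.span K (Set.range fun v : b => (1 : K) ⊗ₜ[A] mv v) := by
    intro x hx
    induction hx using Submodule.span_induction with
    | mem y hy =>
      obtain ⟨v, rfl⟩ := hy
      exact Submodule.subset_span ⟨v, rfl⟩
    | zero => rw [tmul_zero]; exact zero_mem _
    | add x y _ _ hx hy => rw [tmul_add]; exact add_mem hx hy
    | smul a x _ hx =>
      have : (1 : K) ⊗ₜ[A] (a • x) = algebraMap A K a • ((1 : K) ⊗ₜ[A] x) := by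
        rw [TensorProduct.tmul_smul, algebraMap_smul]
      rw [this]
      exact Submodule.smul_mem _ _ hx
  have hspanK : Submodule.span K (Set.range fun v : b => (1 : K) ⊗ₜ[A] mv v) = ⊤ := by
    rw [eq_top_iff]
    rintro x -
    induction x using TensorProduct.induction_on with
    | zero => exact zero_mem _
    | add x y hx hy => exact add_mem hx hy
    | tmul c m =>
      obtain ⟨r, hr, hrm⟩ := hsupp (N.mkQ m)
      have hrmN : r • m ∈ N := by
        rw [← Submodule.Quotient.mk_eq_zero N, Submodule.Quotient.mk_smul]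
        exact hrm
      have hr0 := hK r hr
      have h1 : c ⊗ₜ[A] m = (c * (algebraMap A K r)⁻¹) • ((1 : K) ⊗ₜ[A] (r • m)) := by
        rw [TensorProduct.smul_tmul', smul_eq_mul, mul_one, ← TensorProduct.smul_tmul,
          Algebra.smul_def]
        congr 1
        field_simp
      rw [h1]
      exact Submodule.smul_mem _ _ (hN1 _ hrmN)
  calc Module.rank K (K ⊗[A] M) = Module.rank K (⊤ : Submodule K (K ⊗[A] M)) := (rank_top K (K ⊗[A] M)).symm
    _ = Module.rank K (Submodule.span K (Set.range fun v : b => (1 : K) ⊗ₜ[A] mv v)) := by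
      rw [hspanK]
    _ ≤ #(Set.range fun v : b => (1 : K) ⊗ₜ[A] mv v) := rank_span_le _
    _ ≤ #b := Cardinal.mk_range_le
    _ = Module.rank p.ResidueField (p.ResidueField ⊗[A] M) := by
      have bas := Module.Basis.mk hbli (by rw [Subtype.range_coe, hbspan])
      exact bas.mk_eq_rank''

end semicont

section main

variable (k : Type u) [Field k] (A : Type u) [CommRing A] [IsLocalRing A] [IsNoetherianRing A]
  [Algebra k A] [IsAdicComplete (maximalIdeal A) A]
  (B : Type u) [CommRing B] [Algebra k B] [Algebra A B] [IsScalarTower k A B]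
  (K : Type u) [Field K] [Algebra B K] [Algebra A K] [IsScalarTower A B K]
  [Algebra k K] [IsScalarTower k A K]

/-- a bounded derivation of a quotient `B` of `A` into `K` gives a linear form on `Ω̂_{A/k}` -/
theorem exists_form_of_isDer (hsurj : Function.Surjective (algebraMap A B))
    (δ : B → K) (hδ : IsDer k B K B δ) (hb : Bounded B K B δ) :
    ∃ Ψ : AdicCompletion (maximalIdeal A) (Ω[A⁄k]) →ₗ[A] K,
      ∀ a : A, Ψ (AdicCompletion.of (maximalIdeal A) (Ω[A⁄k]) (KaehlerDifferential.D k A a)) =
        δ (algebraMap A B a) := by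
  have hι : ∀ x : B, iota B K B x = algebraMap B K x := fun x => rfl
  have hkK : ∀ c : k, algebraMap B K (algebraMap k B c) = algebraMap k K c := by
    intro c
    rw [IsScalarTower.algebraMap_apply k A B, ← IsScalarTower.algebraMap_apply A B K,
      ← IsScalarTower.algebraMap_apply k A K]
  let lin : A →ₗ[k] K :=
    { toFun := fun a => δ (algebraMap A B a)
      map_add' := fun a a' => by rw [map_add, hδ.add]
      map_smul' := fun c a => by
        rw [Algebra.smul_def, map_mul, ← IsScalarTower.algebraMap_apply k A B, hδ.mul, hδ.alg,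
          mul_zero, add_zero, hι, hkK, RingHom.id_apply, Algebra.smul_def] }
  let der : Derivation k A K := Derivation.mk' lin (fun a a' => by
    show δ (algebraMap A B (a * a')) = a • δ (algebraMap A B a') + a' • δ (algebraMap A B a)
    rw [map_mul, hδ.mul, hι, hι, Algebra.smul_def, Algebra.smul_def,
      IsScalarTower.algebraMap_apply A B K, IsScalarTower.algebraMap_apply A B K])
  have hder : ∀ a, der a = δ (algebraMap A B a) := fun a => rfl
  obtain ⟨N, hNfg, hN⟩ := hb
  have hN'fg : (N.restrictScalars A).FG := by
    obtain ⟨S, hS⟩ := hNfg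
    refine ⟨S, ?_⟩
    rw [← hS, Submodule.restrictScalars_span A B hsurj]
  have hrange : LinearMap.range der.liftKaehlerDifferential ≤ N.restrictScalars A := by
    rintro _ ⟨ω, rfl⟩
    have hω : ω ∈ Submodule.span A (Set.range (KaehlerDifferential.D k A)) := by
      rw [KaehlerDifferential.span_range_derivation]; exact Submodule.mem_top
    induction hω using Submodule.span_induction with
    | mem x hx =>
      obtain ⟨a, rfl⟩ := hx
      rw [Derivation.liftKaehlerDifferential_comp_D, hder]
      exact hN _
    | zero => rw [map_zero]; exact Submodule.zero_mem _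
    | add x y _ _ hx hy => rw [map_add]; exact Submodule.add_mem _ hx hy
    | smul a x _ hx => rw [map_smul]; exact Submodule.smul_mem _ _ hx
  obtain ⟨Ψ, hΨ⟩ := exists_lift_of_bounded der.liftKaehlerDifferential _ hN'fg hrange
  refine ⟨Ψ, fun a => ?_⟩
  rw [hΨ, Derivation.liftKaehlerDifferential_comp_D, hder]

theorem le_rank_of_good (hsurj : Function.Surjective (algebraMap A B)) (n : ℕ)
    (hG : Good k B K B n) :
    (n : Cardinal.{u}) ≤
      Module.rank K (K ⊗[A] AdicCompletion (maximalIdeal A) (Ω[A⁄k])) := by
  classical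
  obtain ⟨D, hind, hD⟩ := hG
  have hex := fun i => exists_form_of_isDer k A B K hsurj (D i) (hD i).1 (hD i).2
  choose Ψ hΨ using hex
  set T : K ⊗[A] AdicCompletion (maximalIdeal A) (Ω[A⁄k]) →ₗ[K] (Fin n → K) :=
    LinearMap.pi fun i => LinearMap.liftBaseChange K (Ψ i) with hT
  have hTs : Function.Surjective T := by
    rw [← LinearMap.range_eq_top]
    by_contra hne
    obtain ⟨c, hc0, hc⟩ := Submodule.exists_le_ker_of_lt_top _ (lt_top_iff_ne_top.mpr hne)
    apply hc0
    have hg : ∀ i, c (Pi.single i 1) = 0 := by
      refine Fintype.linearIndependent_iff.mp hind (fun i => c (Pi.single i 1)) ?_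
      funext x
      obtain ⟨a, rfl⟩ := hsurj x
      have h1 : T ((1 : K) ⊗ₜ[A] AdicCompletion.of (maximalIdeal A) (Ω[A⁄k])
          (KaehlerDifferential.D k A a)) ∈ LinearMap.ker c := hc ⟨_, rfl⟩
      rw [LinearMap.mem_ker] at h1
      have h2 : T ((1 : K) ⊗ₜ[A] AdicCompletion.of (maximalIdeal A) (Ω[A⁄k])
          (KaehlerDifferential.D k A a)) = fun i => D i (algebraMap A B a) := by
        funext i
        rw [hT, LinearMap.pi_apply, LinearMap.liftBaseChange_tmul, one_smul, hΨ]
      rw [h2] at h1
      have h3 : (fun i => D i (algebraMap A B a)) =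
          ∑ i, D i (algebraMap A B a) • (Pi.single i (1 : K) : Fin n → K) := by
        funext j
        simp only [Finset.sum_apply, Pi.smul_apply, smul_eq_mul, Pi.single_apply, mul_ite, mul_one,
          mul_zero, Finset.sum_ite_eq, Finset.mem_univ, if_true]
      rw [h3, map_sum] at h1
      simp only [map_smul, smul_eq_mul] at h1
      simp only [Finset.sum_apply, Pi.smul_apply, smul_eq_mul, Pi.zero_apply]
      rw [← h1]
      refine Finset.sum_congr rfl fun i _ => mul_comm _ _
    apply LinearMap.pi_ext
    intro i x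
    have : (Pi.single i x : Fin n → K) = x • Pi.single i (1 : K) := by
      rw [← Pi.single_smul, smul_eq_mul, mul_one]
    rw [this, map_smul, hg, smul_zero, LinearMap.zero_apply]
  have h := LinearMap.rank_le_of_surjective T hTs
  rwa [rank_fin_fun] at h

end main

end Groth.Agent.Lib.Helper24.DerTower
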