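import Mathlib
import Groth.Agent.Lib.Helper24.DerTower5
import Groth.Agent.Lib.Helper24.CplKaehlerGen
import Groth.Agent.Lib.Helper24.SopFinite
import Groth.Agent.S2460

/-!
# Towers of derivations into a field (helper24), part 6: the completed differentials of a complete
local algebra have generic rank at least the dimension

`k` a field, `A` a complete Noetherian local `k`-algebra with residue field finite over `k`,
`q` a prime of `A`, `K = Frac (A/q)`.  Then `dim A/q ≤ rank_K (K ⊗_A Ω̂_{A/k})`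
(`dim_quotient_le_rank`), and the same bound holds for the fibre at every prime `p ⊇ q`
(`dim_quotient_le_rank_fibre`).
-/

set_option autoImplicit false
universe u
open IsLocalRing TensorProduct Cardinal

namespace Groth.Agent.Lib.Helper24.DerTower

section main

variable (k A : Type u) [Field k] [CommRing A] [IsLocalRing A] [IsNoetherianRing A] [Algebra k A]
  [IsAdicComplete (maximalIdeal A) A] [Module.Finite k (ResidueField A)]

theorem dim_quotient_le_rank (q : Ideal A) [q.IsPrime] :
    ∃ n : ℕ, ringKrullDim (A ⧸ q) ≤ n ∧ (n : Cardinal.{u}) ≤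
      Module.rank (FractionRing (A ⧸ q))
        (FractionRing (A ⧸ q) ⊗[A] AdicCompletion (maximalIdeal A) (Ω[A⁄k])) := by
  classical
  haveI : Nontrivial (A ⧸ q) := Ideal.Quotient.nontrivial_iff.mpr (Ideal.IsPrime.ne_top inferInstance)
  haveI : IsLocalRing (A ⧸ q) := .of_surjective' _ Ideal.Quotient.mk_surjective
  haveI : IsAdicComplete (maximalIdeal (A ⧸ q)) (A ⧸ q) := by
    rw [← IsLocalRing.map_maximalIdeal_of_surjective (Ideal.Quotient.mk q)
      Ideal.Quotient.mk_surjective]
    have h1 : IsAdicComplete (maximalIdeal A) (A ⧸ q) :=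
      Groth.Agent.S16981.isAdicComplete_of_finite (maximalIdeal A) (A ⧸ q)
    exact (IsAdicComplete.map_algebraMap_iff (S := A ⧸ q) (maximalIdeal A) (A ⧸ q)).mpr h1
  haveI : Module.Finite k (ResidueField (A ⧸ q)) := by
    have hle : maximalIdeal A ≤ (maximalIdeal (A ⧸ q)).comap (Ideal.Quotient.mkₐ k q) := by
      rw [← Ideal.map_le_iff_le_comap]
      exact le_of_eq (IsLocalRing.map_maximalIdeal_of_surjective (Ideal.Quotient.mk q)
        Ideal.Quotient.mk_surjective)
    let g : (A ⧸ maximalIdeal A) →ₐ[k] (A ⧸ q) ⧸ maximalIdeal (A ⧸ q) :=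
      Ideal.quotientMapₐ (maximalIdeal (A ⧸ q)) (Ideal.Quotient.mkₐ k q) hle
    have hg : Function.Surjective g := by
      intro z
      obtain ⟨z', rfl⟩ := Ideal.Quotient.mk_surjective z
      obtain ⟨a, rfl⟩ := Ideal.Quotient.mk_surjective z'
      exact ⟨Ideal.Quotient.mk _ a, rfl⟩
    haveI : Module.Finite k (A ⧸ maximalIdeal A) :=
      inferInstanceAs (Module.Finite k (ResidueField A))
    exact (Module.Finite.of_surjective g.toLinearMap hg :
      Module.Finite k ((A ⧸ q) ⧸ maximalIdeal (A ⧸ q)))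
  obtain ⟨n, w, hwinj, hwloc, hwfin⟩ := Groth.Agent.S2460.result (k₀ := k) (A := A ⧸ q)
  letI : Algebra (MvPowerSeries (Fin n) k) (A ⧸ q) := w.toRingHom.toAlgebra
  haveI : IsScalarTower k (MvPowerSeries (Fin n) k) (A ⧸ q) :=
    IsScalarTower.of_algebraMap_eq fun c => (w.commutes c).symm
  haveI : Module.Finite (MvPowerSeries (Fin n) k) (A ⧸ q) := hwfin
  have hBK : Function.Injective (algebraMap (A ⧸ q) (FractionRing (A ⧸ q))) :=
    IsFractionRing.injective _ _
  have hG := good_of_finite k n (A ⧸ q) (FractionRing (A ⧸ q)) hBK hwinj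
  refine ⟨n, ?_, le_rank_of_good k A (A ⧸ q) (FractionRing (A ⧸ q))
    Ideal.Quotient.mk_surjective n hG⟩
  refine (Groth.Agent.Lib.Helper24.SopFinite.ringKrullDim_le_of_isIntegral w.toRingHom
    hwfin.to_isIntegral).trans ?_
  exact Groth.Agent.Lib.Helper24.PSDim.ringKrullDim_mvPowerSeries_field_le k n

theorem dim_quotient_le_rank_fibre (p q : Ideal A) [p.IsPrime] [q.IsPrime] (hqp : q ≤ p) :
    ringKrullDim (A ⧸ q) ≤
      (Cardinal.toENat (Module.rank p.ResidueField
        (p.ResidueField ⊗[A] AdicCompletion (maximalIdeal A) (Ω[A⁄k]))) : WithBot ℕ∞) := by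
  obtain ⟨n, hn1, hn2⟩ := dim_quotient_le_rank k A q
  have hK : ∀ a : A, a ∉ p → algebraMap A (FractionRing (A ⧸ q)) a ≠ 0 := by
    intro a ha h0
    rw [IsScalarTower.algebraMap_apply A (A ⧸ q) (FractionRing (A ⧸ q))] at h0
    have h1 := IsFractionRing.injective (A ⧸ q) (FractionRing (A ⧸ q))
      (h0.trans (map_zero _).symm)
    rw [Ideal.Quotient.algebraMap_eq, Ideal.Quotient.eq_zero_iff_mem] at h1
    exact ha (hqp h1)
  have h3 := rank_tensor_le A (AdicCompletion (maximalIdeal A) (Ω[A⁄k])) p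
    (FractionRing (A ⧸ q)) hK
  have h4 : (n : ℕ∞) ≤ Cardinal.toENat (Module.rank p.ResidueField
      (p.ResidueField ⊗[A] AdicCompletion (maximalIdeal A) (Ω[A⁄k]))) :=
    Cardinal.natCast_le_toENat.mpr (hn2.trans h3)
  refine hn1.trans ?_
  exact_mod_cast h4

end main

end Groth.Agent.Lib.Helper24.DerTower
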