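import Mathlib
import Groth.Agent.Lib.Helper24.CplUnram1
import Groth.Agent.Lib.Helper24.CplUnram2
import Groth.Agent.Lib.Helper24.DerTower6
import Groth.Agent.Lib.Helper24.SopPS2
import Groth.Agent.Lib.Helper26.Sop1

/-!
# Finite unramified power series parametrizations (helper24), EGA 0_IV 22.7.3

`A` a complete Noetherian local `k`-algebra, residue field finite over `k`, `p ≠ 𝔪` a prime
containing a minimal prime `q` with `dim A/q = dim A`.  If the fibre of `Ω̂_{A/k}` at `p` has
dimension `≤ m`, there is a local finite `k`-homomorphism `k[[T_1..T_m]] → A` unramified at `p`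
(`exists_finite_unramified`).
-/

set_option autoImplicit false
universe u
open IsLocalRing TensorProduct

namespace Groth.Agent.Lib.Helper24.CplUnram

theorem exists_fin_family {α : Type*} [Zero α] (S : Finset α) (m : ℕ) (h : S.card ≤ m) :
    ∃ a : Fin m → α, (∀ x ∈ S, ∃ i, a i = x) ∧ ∀ i, a i ∈ S ∨ a i = 0 := by
  classical
  refine ⟨fun i => if hi : i.val < S.card then ((S.equivFin.symm ⟨i.val, hi⟩ : S) : α) else 0,
    fun x hx => ?_, fun i => ?_⟩
  · refine ⟨⟨(S.equivFin ⟨x, hx⟩).val, lt_of_lt_of_le (S.equivFin ⟨x, hx⟩).isLt h⟩, ?_⟩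
    simp
  · by_cases hi : i.val < S.card
    · left
      simp only [hi, dif_pos]
      exact (S.equivFin.symm ⟨i.val, hi⟩).2
    · right
      simp only [hi, dif_neg, not_false_eq_true]

section forward

variable (k A : Type u) [Field k] [CommRing A] [IsLocalRing A] [IsNoetherianRing A] [Algebra k A]
  [IsAdicComplete (maximalIdeal A) A] [Module.Finite k (ResidueField A)]
  (p : Ideal A) [p.IsPrime]

omit [IsAdicComplete (maximalIdeal A) A] in
/-- a system of parameters -/
theorem exists_sop :
    ∃ (n : ℕ) (x : Fin n → A) (N : ℕ), (∀ l, x l ∈ maximalIdeal A) ∧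
      maximalIdeal A ^ N ≤ Ideal.span (Set.range x) ∧ ringKrullDim A = n := by
  classical
  obtain ⟨s, hs, hcard⟩ :=
    Ideal.exists_finset_card_eq_height_of_isNoetherianRing (maximalIdeal A)
  let x : Fin s.card → A := fun i => ((s.equivFin.symm i : s) : A)
  have hrange : Set.range x = (s : Set A) := by
    ext a
    constructor
    · rintro ⟨i, rfl⟩
      exact (s.equivFin.symm i).2
    · intro ha
      exact ⟨s.equivFin ⟨a, ha⟩, by simp [x]⟩
  have hrad : (Ideal.span (s : Set A)).radical = maximalIdeal A :=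
    Groth.Agent.Lib.helper26.Sop.radical_eq_of_mem_minimalPrimes hs
  have hxm : ∀ i, x i ∈ maximalIdeal A := by
    intro i
    rw [← hrad]
    exact Ideal.le_radical (Ideal.subset_span (s.equivFin.symm i).2)
  obtain ⟨N, hN⟩ := Ideal.exists_pow_le_of_le_radical_of_fg (le_of_eq hrad.symm)
    ((isNoetherianRing_iff_ideal_fg A).1 inferInstance (maximalIdeal A))
  refine ⟨s.card, x, N, hxm, by rw [hrange]; exact hN, ?_⟩
  rw [← IsLocalRing.maximalIdeal_height_eq_ringKrullDim, ← hcard]
  rfl

theorem exists_finite_unramified (hp : p ≠ maximalIdeal A)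
    (hq : ∃ q ∈ minimalPrimes A, q ≤ p ∧ ringKrullDim (A ⧸ q) = ringKrullDim A) (m : ℕ)
    (hm : Module.finrank p.ResidueField
      (p.ResidueField ⊗[A] AdicCompletion (maximalIdeal A) (Ω[A⁄k])) ≤ m) :
    ∃ (_ : Algebra (MvPowerSeries (Fin m) k) A)
      (_ : IsScalarTower k (MvPowerSeries (Fin m) k) A),
      IsLocalHom (algebraMap (MvPowerSeries (Fin m) k) A) ∧
        Module.Finite (MvPowerSeries (Fin m) k) A ∧
        Algebra.IsUnramifiedAt (MvPowerSeries (Fin m) k) p := by
  classical
  obtain ⟨q, hqmin, hqp, hqdim⟩ := hq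
  haveI : q.IsPrime := hqmin.1.1
  obtain ⟨n, x, N, hxm, hN, hdim⟩ := exists_sop A
  -- `n ≤ dim V`
  have hnV : n ≤ Module.finrank p.ResidueField
      (p.ResidueField ⊗[A] AdicCompletion (maximalIdeal A) (Ω[A⁄k])) := by
    have h1 := Groth.Agent.Lib.Helper24.DerTower.dim_quotient_le_rank_fibre k A p q hqp
    rw [hqdim, hdim] at h1
    have h2 : (n : ℕ∞) ≤ Cardinal.toENat (Module.rank p.ResidueField
        (p.ResidueField ⊗[A] AdicCompletion (maximalIdeal A) (Ω[A⁄k]))) := by
      exact_mod_cast h1
    rw [Cardinal.natCast_le_toENat, ← Module.finrank_eq_rank] at h2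
    exact_mod_cast h2
  obtain ⟨y, hym, hyspan, hyli⟩ := exists_sop_linearIndependent k A p hp x hxm N hN hnV
  have hyinj : Function.Injective y := by
    have h1 : Function.Injective ((br k A p) ∘ y) := hyli.injective
    exact Function.Injective.of_comp h1
  have hyon : LinearIndepOn p.ResidueField (br k A p) (Set.range y) :=
    (linearIndepOn_range_iff hyinj (br k A p)).mpr hyli
  have hsub : Set.range y ⊆ (maximalIdeal A : Set A) := by
    rintro _ ⟨l, rfl⟩
    exact hym l
  obtain ⟨b, hbm, hyb, hbspan, hbli⟩ := exists_linearIndepOn_extension hyon hsub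
  haveI hbfin : Finite b := hbli.finite
  letI : Fintype b := Fintype.ofFinite b
  have hbcard : Fintype.card b ≤ m := (hbli.fintype_card_le_finrank).trans hm
  set S : Finset A := b.toFinset with hS
  have hScard : S.card ≤ m := by rw [hS, Set.toFinset_card]; exact hbcard
  obtain ⟨a, ha1, ha2⟩ := exists_fin_family S m hScard
  have ham : ∀ i, a i ∈ maximalIdeal A := by
    intro i
    rcases ha2 i with h | h
    · exact hbm (Set.mem_toFinset.mp h)
    · rw [h]; exact zero_mem _
  -- residue field generators
  haveI : IsAdicComplete (maximalIdeal k) k := by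
    rw [IsLocalRing.maximalIdeal_eq_bot]; infer_instance
  obtain ⟨t, ebar, hebar⟩ := Module.Finite.exists_fin (R := k) (M := ResidueField A)
  choose e he using fun j => IsLocalRing.residue_surjective (ebar j)
  have hfin : ∀ z : A, ∃ c : Fin t → k,
      z - ∑ j, (algebraMap k A) (c j) * e j ∈ maximalIdeal A := by
    intro z
    have hz : residue A z ∈ Submodule.span k (Set.range ebar) := by rw [hebar]; trivial
    rw [Submodule.mem_span_range_iff_exists_fun] at hz
    obtain ⟨c, hc⟩ := hz
    refine ⟨c, ?_⟩
    rw [← IsLocalRing.residue_eq_zero_iff, map_sub, ← hc, map_sum, sub_eq_zero]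
    refine Finset.sum_congr rfl fun j _ => ?_
    rw [map_mul, he j, Algebra.smul_def]
    rfl
  have hN' : maximalIdeal A ^ N ≤
      (maximalIdeal k).map (algebraMap k A) ⊔ Ideal.span (Set.range a) := by
    refine hN.trans (le_trans ?_ le_sup_right)
    rw [← hyspan, Ideal.span_le]
    rintro _ ⟨l, rfl⟩
    obtain ⟨i, hi⟩ := ha1 (y l) (Set.mem_toFinset.mpr (hyb ⟨l, rfl⟩))
    rw [← hi]
    exact Ideal.subset_span ⟨i, rfl⟩
  obtain ⟨f, hfC, hfX, hloc, hffin⟩ :=
    Groth.Agent.Lib.Helper24.SopPS2.ps_finite (algebraMap k A) t e hfin m a ham N hN'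
  letI alg : Algebra (MvPowerSeries (Fin m) k) A := f.toAlgebra
  have htower : IsScalarTower k (MvPowerSeries (Fin m) k) A := by
    refine IsScalarTower.of_algebraMap_eq fun c => ?_
    have h1 := RingHom.congr_fun hfC c
    rw [MvPowerSeries.algebraMap_apply, Algebra.algebraMap_self, RingHom.id_apply]
    exact h1.symm
  haveI := htower
  haveI hfinPA : Module.Finite (MvPowerSeries (Fin m) k) A := hffin
  refine ⟨alg, htower, hloc, hfinPA, ?_⟩
  -- unramified at `p`
  have hmem : (⟨p, inferInstance⟩ : PrimeSpectrum A) ∈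
      Algebra.unramifiedLocus (MvPowerSeries (Fin m) k) A := by
    rw [Algebra.unramifiedLocus_eq_compl_support, Set.mem_compl_iff,
      Module.mem_support_iff_nontrivial_residueField_tensorProduct,
      not_nontrivial_iff_subsingleton]
    -- the surjection `Ω̂_{A/k} → Ω_{A/P}`
    set g := KaehlerDifferential.map k (MvPowerSeries (Fin m) k) A A with hg
    have hgs : Function.Surjective g := KaehlerDifferential.map_surjective k _ A
    obtain ⟨ghat, hghat⟩ := Groth.Agent.Lib.Helper24.DerTower.exists_lift_of_bounded g ⊤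
      (Module.Finite.fg_top) le_top
    have hghats : Function.Surjective ghat := by
      intro η
      obtain ⟨ω, rfl⟩ := hgs η
      exact ⟨_, hghat ω⟩
    set G := LinearMap.baseChange p.ResidueField ghat with hG
    have hGs : Function.Surjective G := LinearMap.lTensor_surjective _ hghats
    have hGbr : ∀ i, G (br k A p (a i)) = 0 := by
      intro i
      rw [hG, br, LinearMap.baseChange_tmul, hghat, hg, KaehlerDifferential.map_D,
        Algebra.algebraMap_self, RingHom.id_apply]
      have h1 : a i = algebraMap (MvPowerSeries (Fin m) k) A (MvPowerSeries.X i) := (hfX i).symm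
      rw [h1, Derivation.map_algebraMap, tmul_zero]
    have hG1 : ∀ v ∈ Submodule.span p.ResidueField (br k A p '' b), G v = 0 := by
      intro v hv'
      induction hv' using Submodule.span_induction with
      | mem w hw =>
        obtain ⟨z, hzb, rfl⟩ := hw
        obtain ⟨i, hi⟩ := ha1 z (Set.mem_toFinset.mpr hzb)
        rw [← hi]
        exact hGbr i
      | zero => exact map_zero _
      | add x₁ x₂ _ _ hx₁ hx₂ => rw [map_add, hx₁, hx₂, add_zero]
      | smul c x₁ _ hx₁ => rw [map_smul, hx₁, smul_zero]
    have hG0 : ∀ v, G v = 0 := by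
      intro v
      have hv : v ∈ Submodule.span p.ResidueField (br k A p '' (maximalIdeal A : Set A)) := by
        rw [span_br_maximalIdeal k A p hp]; exact Submodule.mem_top
      exact hG1 v (Submodule.span_le.mpr hbspan hv)
    refine ⟨fun z z' => ?_⟩
    obtain ⟨v, rfl⟩ := hGs z
    obtain ⟨v', rfl⟩ := hGs z'
    rw [hG0, hG0]
  exact hmem

end forward

end Groth.Agent.Lib.Helper24.CplUnram
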