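import Mathlib
import Groth.Agent.Lib.Helper24.CplUnram2
import Groth.Agent.Lib.Helper24.CplKaehlerGen
import Groth.Agent.Lib.Helper24.CplKaehlerFinExt1

/-!
# Finite unramified power series parametrizations (helper24), converse direction

`A` a complete Noetherian local `k`-algebra, finite over `P = k[[T_1..T_m]]` and unramified over
`P` at the prime `p`.  Then `(Ω̂_{A/k})_p` is generated by the images of `d̂T_1, …, d̂T_m`.
-/

set_option autoImplicit false
universe u
open IsLocalRing TensorProduct

namespace Groth.Agent.Lib.Helper24.CplUnram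

section converse

variable (k A : Type u) [Field k] [CommRing A] [IsLocalRing A] [IsNoetherianRing A] [Algebra k A]
  [IsAdicComplete (maximalIdeal A) A] [Module.Finite k (ResidueField A)]
  (p : Ideal A) [p.IsPrime] (m : ℕ)
  [Algebra (MvPowerSeries (Fin m) k) A] [IsScalarTower k (MvPowerSeries (Fin m) k) A]
  [Module.Finite (MvPowerSeries (Fin m) k) A]

/-- `d̂(T_j)` -/
noncomputable def omegaT (j : Fin m) : AdicCompletion (maximalIdeal A) (Ω[A⁄k]) :=
  AdicCompletion.of (maximalIdeal A) (Ω[A⁄k])
    (KaehlerDifferential.D k A (algebraMap (MvPowerSeries (Fin m) k) A (MvPowerSeries.X j)))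

omit [IsNoetherianRing A] [IsAdicComplete (maximalIdeal A) A]
  [Module.Finite k (ResidueField A)] in
theorem of_mapBaseChange_mem (z : A ⊗[MvPowerSeries (Fin m) k] Ω[MvPowerSeries (Fin m) k⁄k]) :
    AdicCompletion.of (maximalIdeal A) (Ω[A⁄k])
        (KaehlerDifferential.mapBaseChange k (MvPowerSeries (Fin m) k) A z) ∈
      Submodule.span A (Set.range (omegaT k A m)) := by
  induction z using TensorProduct.induction_on with
  | zero => rw [map_zero, map_zero]; exact zero_mem _
  | add x y hx hy => rw [map_add, map_add]; exact add_mem hx hy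
  | tmul a η =>
    rw [KaehlerDifferential.mapBaseChange_tmul, map_smul]
    refine Submodule.smul_mem _ _ ?_
    have hη : η ∈ Submodule.span (MvPowerSeries (Fin m) k)
        (Set.range (KaehlerDifferential.D k (MvPowerSeries (Fin m) k))) := by
      rw [KaehlerDifferential.span_range_derivation]; exact Submodule.mem_top
    induction hη using Submodule.span_induction with
    | mem x hx =>
      obtain ⟨f, rfl⟩ := hx
      rw [KaehlerDifferential.map_D,
        Groth.Agent.Lib.Helper24.CplKaehlerFinExt.of_D_algebraMap k m A f]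
      refine Submodule.sum_mem _ fun j _ => Submodule.smul_mem _ _ ?_
      exact Submodule.subset_span ⟨j, rfl⟩
    | zero => rw [map_zero, map_zero]; exact zero_mem _
    | add x y _ _ hx hy => rw [map_add, map_add]; exact add_mem hx hy
    | smul g x _ hx =>
      rw [map_smul, ← algebraMap_smul A g, map_smul]
      exact Submodule.smul_mem _ _ hx

theorem exists_smul_mem_span (hunr : Algebra.IsUnramifiedAt (MvPowerSeries (Fin m) k) p) :
    ∀ x : AdicCompletion (maximalIdeal A) (Ω[A⁄k]),
      ∃ r : A, r ∉ p ∧ r • x ∈ Submodule.span A (Set.range (omegaT k A m)) := by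
  have hsupp : (⟨p, inferInstance⟩ : PrimeSpectrum A) ∉
      Module.support A (Ω[A⁄MvPowerSeries (Fin m) k]) := by
    have h1 : (⟨p, inferInstance⟩ : PrimeSpectrum A) ∈
        Algebra.unramifiedLocus (MvPowerSeries (Fin m) k) A := hunr
    rw [Algebra.unramifiedLocus_eq_compl_support] at h1
    exact h1
  rw [Module.notMem_support_iff'] at hsupp
  have key : ∀ x ∈ Submodule.span A (Set.range fun a : A =>
      AdicCompletion.of (maximalIdeal A) (Ω[A⁄k]) (KaehlerDifferential.D k A a)),
      ∃ r : A, r ∉ p ∧ r • x ∈ Submodule.span A (Set.range (omegaT k A m)) := by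
    intro x hx
    induction hx using Submodule.span_induction with
    | mem y hy =>
      obtain ⟨a, rfl⟩ := hy
      obtain ⟨r, hr, hra⟩ := hsupp (KaehlerDifferential.D (MvPowerSeries (Fin m) k) A a)
      refine ⟨r, hr, ?_⟩
      have h2 : KaehlerDifferential.map k (MvPowerSeries (Fin m) k) A A
          (r • KaehlerDifferential.D k A a) = 0 := by
        rw [map_smul, KaehlerDifferential.map_D, Algebra.algebraMap_self, RingHom.id_apply]
        exact hra
      obtain ⟨z, hz⟩ := (KaehlerDifferential.exact_mapBaseChange_map k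
        (MvPowerSeries (Fin m) k) A _).mp h2
      rw [← map_smul, ← hz]
      exact of_mapBaseChange_mem k A m z
    | zero => exact ⟨1, fun h => (Ideal.IsPrime.ne_top inferInstance)
        ((Ideal.eq_top_iff_one p).mpr h), by rw [smul_zero]; exact zero_mem _⟩
    | add x y _ _ hx hy =>
      obtain ⟨r, hr, hrx⟩ := hx
      obtain ⟨r', hr', hry⟩ := hy
      refine ⟨r * r', fun h => (Ideal.IsPrime.mem_or_mem inferInstance h).elim hr hr', ?_⟩
      rw [smul_add]
      refine add_mem ?_ ?_
      · rw [mul_comm, mul_smul]; exact Submodule.smul_mem _ _ hrx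
      · rw [mul_smul]; exact Submodule.smul_mem _ _ hry
    | smul c x _ hx =>
      obtain ⟨r, hr, hrx⟩ := hx
      refine ⟨r, hr, ?_⟩
      rw [smul_comm]
      exact Submodule.smul_mem _ _ hrx
  intro x
  exact key x (by rw [Groth.Agent.Lib.Helper24.CplKaehlerGen.span_of_D_eq_top]; exact Submodule.mem_top)

theorem exists_span_of_unramified (hunr : Algebra.IsUnramifiedAt (MvPowerSeries (Fin m) k) p) :
    ∃ s : Fin m → LocalizedModule p.primeCompl (AdicCompletion (maximalIdeal A) (Ω[A⁄k])),
      Submodule.span (Localization.AtPrime p) (Set.range s) = ⊤ :=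
  ⟨_, span_mkLinearMap_eq_top A p _ m (omegaT k A m) (exists_smul_mem_span k A p m hunr)⟩

end converse

end Groth.Agent.Lib.Helper24.CplUnram
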