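import Mathlib

/-! Curvilinear clusters: quotients of a 2-dimensional regular local ring by an ideal containing a
regular parameter are truncated polynomial rings (helper24). -/

set_option autoImplicit false

namespace Groth.Agent.Lib.helper24.Curvilinear

open IsLocalRing Polynomial

/-- a regular parameter of a 2-dimensional regular local ring extends to a generating pair -/
lemma exists_span_pair {A : Type*} [CommRing A] [IsRegularLocalRing A] (hdim : ringKrullDim A = 2)
    (g : A) (hgM : g ∈ maximalIdeal A) (hg : g ∉ maximalIdeal A ^ 2) :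
    ∃ h ∈ maximalIdeal A, maximalIdeal A = Ideal.span {g, h} := by
  have hfr : Module.finrank (ResidueField A) (CotangentSpace A) = 2 := by
    have := (IsRegularLocalRing.iff_finrank_cotangentSpace A).1 inferInstance
    rw [hdim] at this
    exact_mod_cast this
  set gb := (maximalIdeal A).toCotangent ⟨g, hgM⟩ with hgb
  have hgb0 : gb ≠ 0 := by
    rw [hgb, Ne, Ideal.toCotangent_eq_zero]
    exact hg
  have hne : Submodule.span (ResidueField A) {gb} ≠ ⊤ := by
    intro htop
    have h1 : Module.finrank (ResidueField A) (Submodule.span (ResidueField A) {gb}) = 1 :=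
      finrank_span_singleton hgb0
    rw [htop, finrank_top, hfr] at h1
    omega
  obtain ⟨v, hv⟩ : ∃ v, v ∉ Submodule.span (ResidueField A) {gb} := by
    by_contra hcon
    push Not at hcon
    exact hne (Submodule.eq_top_iff'.2 hcon)
  obtain ⟨⟨h, hhM⟩, rfl⟩ := Ideal.toCotangent_surjective _ v
  refine ⟨h, hhM, ?_⟩
  have hli : LinearIndependent (ResidueField A)
      ![(maximalIdeal A).toCotangent ⟨h, hhM⟩, gb] := by
    rw [linearIndependent_fin2]
    refine ⟨by simpa using hgb0, fun a ha => hv ?_⟩
    rw [Submodule.mem_span_singleton]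
    exact ⟨a, by simpa using ha⟩
  have hsp := hli.span_eq_top_of_card_eq_finrank' (by simp [hfr])
  have h1 : Submodule.span (ResidueField A)
      ((maximalIdeal A).toCotangent '' {⟨h, hhM⟩, ⟨g, hgM⟩}) = ⊤ := by
    rw [← hsp]
    congr 1
    rw [Set.image_pair]
    simp [hgb, Set.pair_comm]
  rw [CotangentSpace.span_image_eq_top_iff] at h1
  have h2 := congrArg (Submodule.map (maximalIdeal A).subtype) h1
  rw [Submodule.map_span, Submodule.map_top, Submodule.range_subtype, Set.image_pair] at h2
  rw [← h2, Set.pair_comm]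
  rfl

/-- a finite-dimensional algebra which is `k + (t)` with `t` nilpotent is generated by `t` -/
lemma aeval_surjective {k B : Type*} [Field k] [CommRing B] [Algebra k B] (t : B)
    (hnil : IsNilpotent t)
    (hdec : ∀ b : B, ∃ c : k, b - algebraMap k B c ∈ Ideal.span {t}) :
    Function.Surjective (aeval (R := k) t) := by
  have key : ∀ j : ℕ, ∀ b : B, ∃ p : k[X], b - aeval t p ∈ Ideal.span {t ^ j} := by
    intro j
    induction j with
    | zero =>
      intro b
      exact ⟨0, by simp⟩
    | succ j ih =>
      intro b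
      obtain ⟨p, hp⟩ := ih b
      obtain ⟨b', hb'⟩ := Ideal.mem_span_singleton'.1 hp
      obtain ⟨c, hc⟩ := hdec b'
      obtain ⟨b'', hb''⟩ := Ideal.mem_span_singleton'.1 hc
      refine ⟨p + C c * X ^ j, ?_⟩
      rw [Ideal.mem_span_singleton']
      refine ⟨b'', ?_⟩
      have e1 : aeval t (p + C c * X ^ j) = aeval t p + algebraMap k B c * t ^ j := by
        simp
      rw [e1, pow_succ]
      have e2 : b = aeval t p + b' * t ^ j := by rw [hb']; ring
      have e3 : b' = algebraMap k B c + b'' * t := by rw [hb'']; ring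
      rw [e2, e3]
      ring
  obtain ⟨N, hN⟩ := hnil
  intro b
  obtain ⟨p, hp⟩ := key N b
  rw [hN, Ideal.span_singleton_zero, Ideal.mem_bot, sub_eq_zero] at hp
  exact ⟨p, hp.symm⟩

/-- the kernel of `k[X] → B`, `X ↦ t` with `t` nilpotent, is generated by a power of `X` -/
lemma ker_aeval_eq {k B : Type*} [Field k] [CommRing B] [Algebra k B] (t : B)
    (hnil : IsNilpotent t) :
    ∃ m : ℕ, RingHom.ker (aeval (R := k) t) = Ideal.span {(X : k[X]) ^ m} := by
  obtain ⟨N, hN⟩ := hnil
  have hprin := IsPrincipalIdealRing.principal (RingHom.ker (aeval (R := k) t))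
  obtain ⟨q, hq⟩ := hprin
  have hXN : (X : k[X]) ^ N ∈ RingHom.ker (aeval (R := k) t) := by
    rw [RingHom.mem_ker]
    simp [hN]
  have hdvd : q ∣ X ^ N := by
    rw [hq] at hXN
    exact Ideal.mem_span_singleton.1 hXN
  obtain ⟨m, -, hm⟩ := (dvd_prime_pow Polynomial.prime_X N).1 hdvd
  refine ⟨m, ?_⟩
  rw [hq]
  exact Ideal.span_singleton_eq_span_singleton.2 hm

end Groth.Agent.Lib.helper24.Curvilinear
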