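import Mathlib
import Groth.Prelude.Def_Found
import Groth.Agent.Lib.Helper24.GeomSep1
import Groth.Agent.Lib.Helper24.FibLoc
import Groth.Agent.Lib.Helper24.HensFibre
import Groth.Agent.Lib.Helper3.GeomRed
import Groth.Agent.S0548
import Groth.Agent.S0542
import Groth.Agent.Lib.Helper24.SmoothRegularIff
import Groth.Agent.Lib.Helper24.HomComp

/-!
# Formal fibres of one-dimensional regular local rings in characteristic zero (helper24)

* `isGeometricallyRegular_of_bijective`: an algebra whose structure map is bijective is
  geometrically regular;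
* `bijective_algebraMap_closedFibre`: the closed fibre of `R → R̂` is the residue field;
* `isGeometricallyRegular_of_charZero`: a regular Noetherian algebra over a field of characteristic
  zero is geometrically regular;
* `isRegularRing_fiber_bot`: the generic fibre of `R → S` (`R` a domain, `S` regular) is regular;
* `isRegularHom_cpl_of_dvr`: for a regular local domain `R` of dimension `≤ 1` whose fraction field
  has characteristic zero, `R → R̂` is a regular homomorphism.
-/

set_option autoImplicit false
universe u

open TensorProduct IsLocalRing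

namespace Groth.Agent.Lib.Helper24.DedekindExc

theorem isGeometricallyRegular_of_bijective (k F : Type u) [Field k] [CommRing F] [Algebra k F]
    (hb : Function.Bijective (algebraMap k F)) : CAlg.IsGeometricallyRegular k F := by
  intro k' _ _ hfin
  let e : k ≃ₐ[k] F := AlgEquiv.ofBijective (Algebra.ofId k F) hb
  let e' : k' ⊗[k] F ≃ₐ[k'] k' :=
    (Algebra.TensorProduct.congr (AlgEquiv.refl : k' ≃ₐ[k'] k') e.symm).trans
      (Algebra.TensorProduct.rid k k' k')
  exact IsRegularRing.of_ringEquiv (R := k') e'.symm.toRingEquiv

section closed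

variable (R : Type u) [CommRing R] [IsLocalRing R] [IsNoetherianRing R]

theorem bijective_algebraMap_closedFibre :
    Function.Bijective (algebraMap (maximalIdeal R).ResidueField
      ((maximalIdeal R).Fiber (AdicCompletion (maximalIdeal R) R))) := by
  haveI : Module.FaithfullyFlat R (AdicCompletion (maximalIdeal R) R) :=
    Module.FaithfullyFlat.of_flat_of_isLocalHom
  haveI : Nontrivial ((maximalIdeal R).Fiber (AdicCompletion (maximalIdeal R) R)) :=
    Module.FaithfullyFlat.rTensor_nontrivial R (AdicCompletion (maximalIdeal R) R)
      (maximalIdeal R).ResidueField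
  refine ⟨RingHom.injective _, ?_⟩
  have hfg : (maximalIdeal R).FG := (maximalIdeal R).fg_of_isNoetherianRing
  -- elements of `m R̂` die in the fibre
  have hzero : ∀ (c : (maximalIdeal R).ResidueField)
      (z : AdicCompletion (maximalIdeal R) R),
      z ∈ (maximalIdeal R).map (algebraMap R (AdicCompletion (maximalIdeal R) R)) →
      (c ⊗ₜ[R] z : (maximalIdeal R).Fiber (AdicCompletion (maximalIdeal R) R)) = 0 := by
    intro c z hz
    induction hz using Submodule.span_induction with
    | mem z hz =>
      obtain ⟨a, ha, rfl⟩ := hz
      rw [Algebra.algebraMap_eq_smul_one, ← TensorProduct.smul_tmul, Algebra.smul_def,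
        Ideal.algebraMap_residueField_eq_zero.2 ha, zero_mul, TensorProduct.zero_tmul]
    | zero => exact TensorProduct.tmul_zero _ _
    | add x y _ _ hx hy => rw [TensorProduct.tmul_add, hx, hy, add_zero]
    | smul b z _ hz =>
      have : (c ⊗ₜ[R] (b • z) : (maximalIdeal R).Fiber (AdicCompletion (maximalIdeal R) R)) =
          (1 ⊗ₜ[R] b) * (c ⊗ₜ[R] z) := by
        rw [Algebra.TensorProduct.tmul_mul_tmul, one_mul, smul_eq_mul]
      rw [this, hz, mul_zero]
  intro x
  induction x using TensorProduct.induction_on with
  | zero => exact ⟨0, map_zero _⟩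
  | add x y hx hy =>
    obtain ⟨a, rfl⟩ := hx
    obtain ⟨b, rfl⟩ := hy
    exact ⟨a + b, map_add _ _ _⟩
  | tmul c y =>
    obtain ⟨r, hr⟩ := Ideal.Quotient.mk_surjective
      (AdicCompletion.evalOneₐ (maximalIdeal R) y)
    have hmem : y - algebraMap R (AdicCompletion (maximalIdeal R) R) r ∈
        (maximalIdeal R).map (algebraMap R (AdicCompletion (maximalIdeal R) R)) := by
      rw [← AdicCompletion.ker_evalOneₐ_eq_map (maximalIdeal R) hfg, RingHom.mem_ker]
      have h1 : (AdicCompletion.evalOneₐ (maximalIdeal R)).toRingHom
          (algebraMap R (AdicCompletion (maximalIdeal R) R) r) = Ideal.Quotient.mk _ r := by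
        have := AdicCompletion.evalOneₐ_comp_algebraMap_eq_mk (maximalIdeal R)
        exact congrArg (fun f => f r) this
      rw [map_sub, h1]
      show AdicCompletion.evalOneₐ (maximalIdeal R) y - _ = 0
      rw [← hr, sub_self]
    refine ⟨algebraMap R _ r * c, ?_⟩
    have hy : y = algebraMap R (AdicCompletion (maximalIdeal R) R) r +
        (y - algebraMap R (AdicCompletion (maximalIdeal R) R) r) := by ring
    rw [Algebra.TensorProduct.algebraMap_apply]
    conv_rhs => rw [hy, TensorProduct.tmul_add, hzero c _ hmem, add_zero,
      Algebra.algebraMap_eq_smul_one, ← TensorProduct.smul_tmul, Algebra.smul_def]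
    rfl

theorem isGeometricallyRegular_closedFibre :
    CAlg.IsGeometricallyRegular (maximalIdeal R).ResidueField
      ((maximalIdeal R).Fiber (AdicCompletion (maximalIdeal R) R)) :=
  isGeometricallyRegular_of_bijective _ _ (bijective_algebraMap_closedFibre R)

end closed

section charzero

theorem isGeometricallyRegular_of_charZero (k F : Type u) [Field k] [CharZero k] [CommRing F]
    [Algebra k F] [IsRegularRing F] : CAlg.IsGeometricallyRegular k F := by
  intro k' _ _ hfin
  haveI := hfin
  haveI : IsNoetherianRing F := IsRegularRing.toIsNoetherian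
  haveI : Algebra.IsGeometricallyReduced k k' :=
    Groth.Agent.Lib.helper3.GeomRed.isGeometricallyReduced_of_perfectField k k'
  haveI : IsNoetherianRing (k' ⊗[k] F) :=
    Groth.Agent.Lib.Helper24.HomComp.isNoetherianRing_tensor_of_finite k k' F
  exact Groth.Agent.Lib.Helper24.GeomSep.isRegularRing_tensor_of_separable k k' F

end charzero

section generic

/-- The generic fibre of an algebra over a domain is a localization. -/
theorem isRegularRing_fiber_bot (R S : Type u) [CommRing R] [IsDomain R] [CommRing S] [Algebra R S]
    [hS : IsRegularRing S] :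
    haveI : (⊥ : Ideal R).IsPrime := Ideal.isPrime_bot
    IsRegularRing ((⊥ : Ideal R).Fiber S) := by
  haveI : (⊥ : Ideal R).IsPrime := Ideal.isPrime_bot
  letI : Algebra S ((⊥ : Ideal R).Fiber S) := Algebra.TensorProduct.rightAlgebra
  have e := (Ideal.Fiber.algEquivAux₁ (R := R) (S := S) (⊥ : Ideal R)).toRingEquiv
  have h0 : Ideal.map (algebraMap S (Localization (Algebra.algebraMapSubmonoid S
      (⊥ : Ideal R).primeCompl))) (Ideal.map (algebraMap R S) ⊥) = ⊥ := by
    rw [Ideal.map_bot, Ideal.map_bot]
  have e2 := e.trans ((Ideal.quotEquivOfEq h0).trans (RingEquiv.quotientBot _))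
  haveI : IsRegularRing (Localization (Algebra.algebraMapSubmonoid S
      (⊥ : Ideal R).primeCompl)) :=
    Groth.Agent.Lib.Helper24.FibLoc.locStable_isRegularRing.loc S _
      (Algebra.algebraMapSubmonoid S (⊥ : Ideal R).primeCompl) hS
  exact IsRegularRing.of_ringEquiv
    (R := Localization (Algebra.algebraMapSubmonoid S (⊥ : Ideal R).primeCompl)) e2.symm

end generic

section main

theorem isRegularHom_cpl (R : Type u) [CommRing R] [IsDomain R] [IsRegularLocalRing R] [CharZero R]
    (hdim : ∀ q : Ideal R, q.IsPrime → q ≠ ⊥ → q = maximalIdeal R) :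
    CAlg.IsRegularHom R (AdicCompletion (maximalIdeal R) R) := by
  haveI hNc : IsNoetherianRing (AdicCompletion (maximalIdeal R) R) :=
    Groth.Agent.S0542.result R (maximalIdeal R) (IsNoetherian.noetherian _)
  refine ⟨inferInstance, fun q hq => ?_⟩
  haveI hF : IsNoetherianRing (q.Fiber (AdicCompletion (maximalIdeal R) R)) :=
    Groth.Agent.Lib.Helper24.HensFibre.isNoetherianRing_fibre R _ q
  refine ⟨hF, ?_⟩
  by_cases h0 : q = ⊥
  · subst h0
    haveI : IsRegularLocalRing (AdicCompletion (maximalIdeal R) R) :=
      (Groth.Agent.S0548.result R).1 inferInstance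
    haveI : IsRegularRing (AdicCompletion (maximalIdeal R) R) :=
      Groth.Agent.Lib.Helper24.SmoothRegularIff.isRegularRing_of_isRegularLocalRing _
    haveI : IsRegularRing ((⊥ : Ideal R).Fiber (AdicCompletion (maximalIdeal R) R)) :=
      isRegularRing_fiber_bot R (AdicCompletion (maximalIdeal R) R)
    haveI : CharZero (⊥ : Ideal R).ResidueField := by
      refine charZero_of_injective_algebraMap (R := R) ?_
      rw [RingHom.injective_iff_ker_eq_bot, Ideal.ker_algebraMap_residueField]
    exact isGeometricallyRegular_of_charZero _ _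
  · have h1 := hdim q hq h0
    subst h1
    exact isGeometricallyRegular_closedFibre R

end main

end Groth.Agent.Lib.Helper24.DedekindExc
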