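import Mathlib

/-!
# Derivations with `∂_i x_j = δ_ij` force `x_1, …, x_n` to be a regular sequence (helper24)

Characteristic-zero type hypothesis: all positive integers are units.
-/

set_option autoImplicit false
universe u

namespace Groth.Agent.Lib.Helper24.DerReg1

open IsLocalRing

section A

variable {S R : Type*} [CommRing S] [CommRing R] [Algebra S R]

/-- Step 1: if `x^j * w ∈ I` then `w ∈ I ⊔ (x)`. -/
theorem mem_sup_of_pow_mul_mem
    (hunit : ∀ j : ℕ, j ≠ 0 → IsUnit ((j : ℕ) : R))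
    (I : Ideal R) (x : R) (D : Derivation S R R)
    (hDx : D x = 1) (hDI : ∀ a ∈ I, D a ∈ I) :
    ∀ (j : ℕ) (w : R), x ^ j * w ∈ I → w ∈ I ⊔ Ideal.span {x} := by
  intro j
  induction j with
  | zero =>
    intro w hw
    rw [pow_zero, one_mul] at hw
    exact Ideal.mem_sup_left hw
  | succ j ih =>
    intro w hw
    have h1 := hDI _ hw
    have h2 : D (x ^ (j + 1) * w) = x ^ j * (((j + 1 : ℕ) : R) * w + x * D w) := by
      rw [Derivation.leibniz, Derivation.leibniz_pow, hDx]
      simp only [smul_eq_mul, Nat.add_sub_cancel, nsmul_eq_mul, mul_one]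
      ring
    rw [h2] at h1
    have h3 := ih _ h1
    have h4 : ((j + 1 : ℕ) : R) * w ∈ I ⊔ Ideal.span {x} := by
      have : ((j + 1 : ℕ) : R) * w = (((j + 1 : ℕ) : R) * w + x * D w) - x * D w := by ring
      rw [this]
      exact Ideal.sub_mem _ h3 (Ideal.mem_sup_right (Ideal.mul_mem_right _ _
        (Ideal.mem_span_singleton_self x)))
    obtain ⟨u, hu⟩ := hunit (j + 1) (Nat.succ_ne_zero j)
    have : w = (↑(u⁻¹) : R) * (((j + 1 : ℕ) : R) * w) := by
      rw [← mul_assoc, ← hu, Units.inv_mul, one_mul]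
    rw [this]
    exact Ideal.mul_mem_left _ _ h4

/-- Lemma A: `x` is a nonzerodivisor modulo a `D`-stable ideal `I` when `D x = 1`. -/
theorem mem_of_mul_mem [IsNoetherianRing R]
    (hunit : ∀ j : ℕ, j ≠ 0 → IsUnit ((j : ℕ) : R))
    (I : Ideal R) (x : R) (hx : x ∈ (⊥ : Ideal R).jacobson) (D : Derivation S R R)
    (hDx : D x = 1) (hDI : ∀ a ∈ I, D a ∈ I) {y : R} (hy : x * y ∈ I) : y ∈ I := by
  -- the colon ideals
  let N : ℕ →o Submodule R R :=
    { toFun := fun j => Submodule.comap (LinearMap.mulLeft R (x ^ j)) I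
      monotone' := by
        refine monotone_nat_of_le_succ fun j w hw => ?_
        simp only [Submodule.mem_comap, LinearMap.mulLeft_apply] at hw ⊢
        rw [pow_succ', mul_assoc]
        exact Ideal.mul_mem_left _ _ hw }
  have hN : ∀ j w, w ∈ N j ↔ x ^ j * w ∈ I := fun j w => by
    simp only [N, OrderHom.coe_mk, Submodule.mem_comap, LinearMap.mulLeft_apply]
  obtain ⟨J, hJ⟩ := monotone_stabilizes_iff_noetherian.mpr (inferInstance : IsNoetherian R R) N
  have hstep : N J ≤ I ⊔ Ideal.span {x} • N J := by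
    intro w hw
    have hw' := (hN J w).mp hw
    obtain ⟨a, ha, b, hb, hab⟩ := Submodule.mem_sup.mp
      (mem_sup_of_pow_mul_mem hunit I x D hDx hDI J w hw')
    obtain ⟨w', rfl⟩ := Ideal.mem_span_singleton'.mp hb
    have hw'' : w' ∈ N J := by
      rw [hJ (J + 1) (Nat.le_succ J), hN]
      have : x ^ (J + 1) * w' = x ^ J * w - x ^ J * a := by
        rw [← hab]; ring
      rw [this]
      exact Ideal.sub_mem _ hw' (Ideal.mul_mem_left _ _ ha)
    rw [← hab]
    refine Submodule.add_mem_sup ha ?_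
    rw [mul_comm]
    exact Submodule.smul_mem_smul (Ideal.mem_span_singleton_self x) hw''
  have hle : N J ≤ I :=
    Submodule.le_of_le_smul_of_le_jacobson_bot (IsNoetherian.noetherian _)
      ((Ideal.span_singleton_le_iff_mem _).mpr hx) hstep
  have h1 : y ∈ N 1 := by rw [hN, pow_one]; exact hy
  by_cases hJ1 : 1 ≤ J
  · exact hle (N.monotone hJ1 h1)
  · have : J = 0 := by omega
    subst this
    rw [hJ 1 (Nat.zero_le 1)] at hle
    exact hle h1

end A

section B

variable {S R : Type*} [CommRing S] [CommRing R] [Algebra S R] [IsLocalRing R] [IsNoetherianRing R]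

/-- Lemma B: derivations `∂_i` with `∂_i x_j = δ_ij` make `x_1, …, x_n` a regular sequence. -/
theorem isRegular_ofFn
    (hunit : ∀ j : ℕ, j ≠ 0 → IsUnit ((j : ℕ) : R))
    {n : ℕ} (x : Fin n → R) (hx : ∀ i, x i ∈ maximalIdeal R)
    (D : Fin n → Derivation S R R)
    (hD : ∀ i j, D i (x j) = if i = j then 1 else 0) :
    RingTheory.Sequence.IsRegular R (List.ofFn x) := by
  refine ⟨⟨fun i hi => ?_⟩, ?_⟩
  · rw [List.length_ofFn] at hi
    rw [isSMulRegular_iff_right_eq_zero_of_smul]
    intro m hm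
    obtain ⟨y, rfl⟩ := Submodule.Quotient.mk_surjective _ m
    rw [← Submodule.Quotient.mk_smul, Submodule.Quotient.mk_eq_zero] at hm
    rw [Submodule.Quotient.mk_eq_zero]
    rw [smul_eq_mul, Ideal.mul_top] at hm ⊢
    have hget : (List.ofFn x)[i]'(by rw [List.length_ofFn]; exact hi) = x ⟨i, hi⟩ := by
      rw [List.getElem_ofFn]
    rw [hget, smul_eq_mul] at hm
    refine mem_of_mul_mem hunit _ (x ⟨i, hi⟩) ?_ (D ⟨i, hi⟩) ?_ ?_ hm
    · rw [IsLocalRing.jacobson_eq_maximalIdeal _ bot_ne_top]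
      exact hx _
    · rw [hD]; simp
    · intro a ha
      refine Submodule.span_induction ?_ ?_ ?_ ?_ ha
      · intro r hr
        obtain ⟨j, hj, rfl⟩ := List.mem_take_iff_getElem.mp hr
        rw [List.getElem_ofFn, hD]
        have : (⟨i, hi⟩ : Fin n) ≠ ⟨j, by
            have := hj; rw [List.length_ofFn] at this; omega⟩ := by
          intro h
          have := Fin.mk.inj_iff.mp h
          omega
        rw [if_neg this]
        exact Ideal.zero_mem _
      · rw [map_zero]; exact Ideal.zero_mem _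
      · intro a b _ _ ha hb
        rw [map_add]; exact Ideal.add_mem _ ha hb
      · intro r a ha' hDa
        rw [smul_eq_mul, Derivation.leibniz]
        exact Ideal.add_mem _ (Ideal.mul_mem_left _ _ hDa) (Ideal.mul_mem_right _ _ ha')
  · rw [smul_eq_mul, Ideal.mul_top]
    intro h
    have hle : Ideal.ofList (List.ofFn x) ≤ maximalIdeal R := by
      rw [Ideal.span_le]
      intro r hr
      obtain ⟨i, rfl⟩ := (List.mem_ofFn' x r).mp hr
      exact hx i
    exact (maximalIdeal.isMaximal R).ne_top (top_le_iff.mp (h ▸ hle))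

/-- Consequence: `n ≤ dim R`. -/
theorem le_ringKrullDim
    (hunit : ∀ j : ℕ, j ≠ 0 → IsUnit ((j : ℕ) : R))
    {n : ℕ} (x : Fin n → R) (hx : ∀ i, x i ∈ maximalIdeal R)
    (D : Fin n → Derivation S R R)
    (hD : ∀ i j, D i (x j) = if i = j then 1 else 0) :
    (n : WithBot ℕ∞) ≤ ringKrullDim R := by
  have hreg := isRegular_ofFn hunit x hx D hD
  have h := ringKrullDim_add_length_eq_ringKrullDim_of_isRegular (List.ofFn x) hreg
  rw [List.length_ofFn] at h
  rw [← h]
  have hnt : Nontrivial (R ⧸ Ideal.ofList (List.ofFn x)) := by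
    apply Ideal.Quotient.nontrivial_iff.mpr
    intro h'
    have hle : Ideal.ofList (List.ofFn x) ≤ maximalIdeal R := by
      rw [Ideal.span_le]
      intro r hr
      obtain ⟨i, rfl⟩ := (List.mem_ofFn' x r).mp hr
      exact hx i
    exact (maximalIdeal.isMaximal R).ne_top (top_le_iff.mp (h' ▸ hle))
  have h0 : (0 : WithBot ℕ∞) ≤ ringKrullDim (R ⧸ Ideal.ofList (List.ofFn x)) :=
    ringKrullDim_nonneg_of_nontrivial
  calc (n : WithBot ℕ∞) = 0 + n := by rw [zero_add]
    _ ≤ ringKrullDim (R ⧸ Ideal.ofList (List.ofFn x)) + n := by gcongr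

end B

end Groth.Agent.Lib.Helper24.DerReg1
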