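import Groth.Agent.Lib.Helper24.DerReg1

/-!
# Free Kähler differentials in characteristic zero force regularity (helper24)
-/

set_option autoImplicit false
universe u

namespace Groth.Agent.Lib.Helper24.DerReg2

open IsLocalRing TensorProduct

variable {k R : Type u} [Field k] [CommRing R] [Algebra k R] [IsLocalRing R]

section C

variable (hres : Function.Surjective (algebraMap k (ResidueField R)))
include hres

/-- the augmentation `R → k`. -/
noncomputable def aug : R →+* k :=
  ((RingEquiv.ofBijective (algebraMap k (ResidueField R))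
    ⟨(algebraMap k (ResidueField R)).injective, hres⟩).symm : ResidueField R →+* k).comp
    (residue R)

theorem aug_algebraMap (t : k) : aug hres (algebraMap k R t) = t := by
  unfold aug
  rw [RingHom.comp_apply]
  have : residue R (algebraMap k R t) = RingEquiv.ofBijective (algebraMap k (ResidueField R))
    ⟨(algebraMap k (ResidueField R)).injective, hres⟩ t := rfl
  rw [this]
  exact RingEquiv.symm_apply_apply _ t

theorem sub_aug_mem (r : R) : r - algebraMap k R (aug hres r) ∈ maximalIdeal R := by
  rw [← residue_eq_zero_iff, map_sub, sub_eq_zero]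
  have : residue R (algebraMap k R (aug hres r)) =
      RingEquiv.ofBijective (algebraMap k (ResidueField R))
    ⟨(algebraMap k (ResidueField R)).injective, hres⟩ (aug hres r) := rfl
  rw [this]
  unfold aug
  rw [RingHom.comp_apply]
  exact (RingEquiv.apply_symm_apply _ _).symm

theorem aug_eq_zero {y : R} (hy : y ∈ maximalIdeal R) : aug hres y = 0 := by
  unfold aug
  rw [RingHom.comp_apply, (residue_eq_zero_iff y).mpr hy, map_zero]

theorem span_D_image_eq_top :
    Submodule.span R ((KaehlerDifferential.D k R) '' (maximalIdeal R : Set R)) = ⊤ := by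
  rw [eq_top_iff, ← KaehlerDifferential.span_range_derivation, Submodule.span_le]
  rintro _ ⟨r, rfl⟩
  refine Submodule.subset_span ⟨r - algebraMap k R (aug hres r), sub_aug_mem hres r, ?_⟩
  rw [map_sub, Derivation.map_algebraMap, sub_zero]

end C

section D

variable [IsNoetherianRing R]
variable (hres : Function.Surjective (algebraMap k (ResidueField R)))
include hres

/-- There are `y_1, …, y_n ∈ 𝔪` with `d y_i` a basis of `Ω`. -/
theorem exists_basis (n : ℕ) (e : Ω[R⁄k] ≃ₗ[R] (Fin n → R)) :
    ∃ (y : Fin n → R) (b : Module.Basis (Fin n) R Ω[R⁄k]), (∀ i, y i ∈ maximalIdeal R) ∧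
      ∀ i, b i = KaehlerDifferential.D k R (y i) := by
  haveI : Module.Finite R Ω[R⁄k] := Module.Finite.equiv e.symm
  haveI : Module.Free R Ω[R⁄k] := Module.Free.of_equiv e.symm
  have hrank : Module.finrank R Ω[R⁄k] = n := by
    rw [e.finrank_eq, Module.finrank_fin_fun]
  set s : Set (ResidueField R ⊗[R] Ω[R⁄k]) :=
    (TensorProduct.mk R (ResidueField R) Ω[R⁄k] 1) ''
      ((KaehlerDifferential.D k R) '' (maximalIdeal R : Set R)) with hs
  have hspan : Submodule.span (ResidueField R) s = ⊤ := by
    refine (Submodule.restrictScalars_eq_top_iff R (ResidueField R) _).mp ?_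
    rw [Submodule.restrictScalars_span R (ResidueField R) Ideal.Quotient.mk_surjective, hs,
      ← Submodule.map_span, span_D_image_eq_top hres, Submodule.map_top, LinearMap.range_eq_top]
    exact TensorProduct.mk_surjective R Ω[R⁄k] (ResidueField R) Ideal.Quotient.mk_surjective
  have hfr : Module.finrank (ResidueField R) (Submodule.span (ResidueField R) s) = n := by
    rw [hspan, finrank_top, Module.finrank_baseChange, hrank]
  have hex := Submodule.exists_fun_fin_finrank_span_eq (ResidueField R) s
  rw [hfr] at hex
  obtain ⟨f, hfs, hfspan, hfli⟩ := hex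
  have hfs' : ∀ i, ∃ y, y ∈ maximalIdeal R ∧
      (1 : ResidueField R) ⊗ₜ[R] (KaehlerDifferential.D k R y) = f i := by
    intro i
    obtain ⟨_, ⟨y, hy, rfl⟩, h⟩ := hfs i
    exact ⟨y, hy, h⟩
  choose y hy hyf using hfs'
  let b' : Module.Basis (Fin n) (ResidueField R) (ResidueField R ⊗[R] Ω[R⁄k]) :=
    Module.Basis.mk hfli (by rw [hfspan, hspan])
  have hb' : ∀ i, (1 : ResidueField R) ⊗ₜ[R] (KaehlerDifferential.D k R (y i)) = b' i := by
    intro i
    rw [Module.Basis.mk_apply, hyf i]
  have htop := IsLocalRing.span_eq_top_of_tmul_eq_basis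
    (fun i => KaehlerDifferential.D k R (y i)) b' hb'
  refine ⟨y, basisOfTopLeSpanOfCardEqFinrank (fun i => KaehlerDifferential.D k R (y i))
    htop.ge (by rw [Fintype.card_fin, hrank]), hy, fun i => ?_⟩
  rw [coe_basisOfTopLeSpanOfCardEqFinrank]

end D

section E

variable (hres : Function.Surjective (algebraMap k (ResidueField R)))
include hres

/-- The derivation `R → 𝔪/𝔪²`, `r ↦ class of r - r(0)`. -/
noncomputable def delta : Derivation k R (CotangentSpace R) where
  toFun r := (maximalIdeal R).toCotangent ⟨r - algebraMap k R (aug hres r), sub_aug_mem hres r⟩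
  map_add' r s := by
    rw [← map_add]
    congr 1
    ext
    simp only [map_add, Submodule.coe_add]
    ring
  map_smul' t r := by
    rw [RingHom.id_apply, ← LinearMap.map_smul_of_tower]
    congr 1
    ext
    show t • r - algebraMap k R (aug hres (t • r)) = t • (r - algebraMap k R (aug hres r))
    rw [Algebra.smul_def, map_mul, aug_algebraMap, map_mul, Algebra.smul_def]
    ring
  map_one_eq_zero' := by
    show (maximalIdeal R).toCotangent ⟨1 - algebraMap k R (aug hres 1), _⟩ = 0
    rw [Ideal.toCotangent_eq_zero]
    simp only [map_one, sub_self]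
    exact Ideal.zero_mem _
  leibniz' r s := by
    show (maximalIdeal R).toCotangent ⟨r * s - algebraMap k R (aug hres (r * s)), _⟩ =
      r • (maximalIdeal R).toCotangent ⟨s - algebraMap k R (aug hres s), sub_aug_mem hres s⟩ +
      s • (maximalIdeal R).toCotangent ⟨r - algebraMap k R (aug hres r), sub_aug_mem hres r⟩
    rw [← map_smul, ← map_smul, ← map_add, Ideal.toCotangent_eq]
    have : ((⟨r * s - algebraMap k R (aug hres (r * s)), sub_aug_mem hres (r * s)⟩ :
        maximalIdeal R) : R) -
        ((r • (⟨s - algebraMap k R (aug hres s), sub_aug_mem hres s⟩ : maximalIdeal R) +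
          s • (⟨r - algebraMap k R (aug hres r), sub_aug_mem hres r⟩ : maximalIdeal R) :
          maximalIdeal R) : R) =
        -((r - algebraMap k R (aug hres r)) * (s - algebraMap k R (aug hres s))) := by
      simp only [Submodule.coe_add, Submodule.coe_smul, smul_eq_mul, map_mul]
      ring
    rw [this, sq]
    exact Ideal.neg_mem_iff _ |>.mpr (Ideal.mul_mem_mul (sub_aug_mem hres r) (sub_aug_mem hres s))

theorem delta_apply_of_mem {y : R} (hy : y ∈ maximalIdeal R) :
    delta hres y = (maximalIdeal R).toCotangent ⟨y, hy⟩ := by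
  show (maximalIdeal R).toCotangent ⟨y - algebraMap k R (aug hres y), _⟩ = _
  congr 1
  ext
  simp only [aug_eq_zero hres hy, map_zero, sub_zero]

variable [IsNoetherianRing R]

/-- `dim_κ 𝔪/𝔪² ≤ n` when `Ω` has a basis `d y_i` with `y_i ∈ 𝔪`. -/
theorem finrank_cotangentSpace_le {n : ℕ} (y : Fin n → R) (hy : ∀ i, y i ∈ maximalIdeal R)
    (b : Module.Basis (Fin n) R Ω[R⁄k]) (hb : ∀ i, b i = KaehlerDifferential.D k R (y i)) :
    Module.finrank (ResidueField R) (CotangentSpace R) ≤ n := by
  have hspan : Submodule.span (ResidueField R)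
      (Set.range fun i => (maximalIdeal R).toCotangent ⟨y i, hy i⟩) = ⊤ := by
    rw [eq_top_iff]
    rintro v -
    obtain ⟨⟨z, hz⟩, rfl⟩ := Ideal.toCotangent_surjective _ v
    rw [← delta_apply_of_mem hres hz, ← Derivation.liftKaehlerDifferential_comp_D,
      ← b.sum_repr (KaehlerDifferential.D k R z), map_sum]
    refine Submodule.sum_mem _ fun i _ => ?_
    rw [map_smul, hb i, Derivation.liftKaehlerDifferential_comp_D, delta_apply_of_mem hres (hy i)]
    have : (b.repr (KaehlerDifferential.D k R z) i) •
        (maximalIdeal R).toCotangent ⟨y i, hy i⟩ =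
        residue R (b.repr (KaehlerDifferential.D k R z) i) •
        (maximalIdeal R).toCotangent ⟨y i, hy i⟩ := rfl
    rw [this]
    exact Submodule.smul_mem _ _ (Submodule.subset_span ⟨i, rfl⟩)
  have h1 := finrank_range_le_card (R := ResidueField R)
    (fun i => (maximalIdeal R).toCotangent ⟨y i, hy i⟩)
  rw [Set.finrank, hspan, finrank_top, Fintype.card_fin] at h1
  exact h1

end E

section F

variable [IsNoetherianRing R] [CharZero k]

/-- **Main theorem**: free differentials of rank `n` in characteristic zero force
regularity of dimension `n`. -/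
theorem main (hres : Function.Surjective (algebraMap k (ResidueField R)))
    (n : ℕ) (e : Ω[R⁄k] ≃ₗ[R] (Fin n → R)) :
    IsRegularLocalRing R ∧ ringKrullDim R = n := by
  obtain ⟨y, b, hy, hb⟩ := exists_basis hres n e
  have hunit : ∀ j : ℕ, j ≠ 0 → IsUnit ((j : ℕ) : R) := by
    intro j hj
    have : ((j : ℕ) : R) = algebraMap k R (j : k) := by rw [map_natCast]
    rw [this]
    exact (IsUnit.mk0 (j : k) (Nat.cast_ne_zero.mpr hj)).map _
  have hD : ∀ i j, ((b.coord i).compDer (KaehlerDifferential.D k R)) (y j) =
      if i = j then 1 else 0 := by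
    intro i j
    show b.coord i (KaehlerDifferential.D k R (y j)) = _
    rw [← hb j, Module.Basis.coord_apply, Module.Basis.repr_self, Finsupp.single_apply]
    simp only [eq_comm]
  have h1 : (n : WithBot ℕ∞) ≤ ringKrullDim R :=
    DerReg1.le_ringKrullDim hunit y hy
      (fun i => (b.coord i).compDer (KaehlerDifferential.D k R)) hD
  have h2 := finrank_cotangentSpace_le hres y hy b hb
  have h3 : ((maximalIdeal R).spanFinrank : WithBot ℕ∞) ≤ n := by
    rw [IsLocalRing.spanFinrank_maximalIdeal_eq_finrank_cotangentSpace]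
    exact_mod_cast h2
  have h4 := ringKrullDim_le_spanFinrank_maximalIdeal R
  refine ⟨IsRegularLocalRing.of_spanFinrank_maximalIdeal_le R (h3.trans h1), ?_⟩
  exact le_antisymm (h4.trans h3) h1

end F

end Groth.Agent.Lib.Helper24.DerReg2
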