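import Mathlib

/-!
# Decomposition by fibre dimension (helper24), part 1: idempotents from locally constant functions
-/

set_option autoImplicit false
universe u

namespace Groth.Agent.Lib.Helper24.DimDec

open PrimeSpectrum

/-- a locally constant `ℕ`-valued function on a prime spectrum is cut out by a complete family of
orthogonal idempotents. -/
theorem exists_idempotents_of_isOpen_fibers {S : Type u} [CommRing S] (δ : PrimeSpectrum S → ℕ)
    (hδ : ∀ d, IsOpen {Q | δ Q = d}) :
    ∃ (N : ℕ) (e : Fin (N + 1) → S), CompleteOrthogonalIdempotents e ∧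
      ∀ (d : Fin (N + 1)) (Q : PrimeSpectrum S), e d ∉ Q.asIdeal ↔ δ Q = (d : ℕ) := by
  classical
  -- boundedness
  obtain ⟨t, ht⟩ := isCompact_univ.elim_finite_subcover (fun d => {Q | δ Q = d}) hδ
    (fun Q _ => Set.mem_iUnion.mpr ⟨δ Q, rfl⟩)
  set N := t.sup id with hN
  have hbd : ∀ Q, δ Q ≤ N := by
    intro Q
    have hQ := ht (Set.mem_univ Q)
    simp only [Set.mem_iUnion] at hQ
    obtain ⟨d, hd, hQd⟩ := hQ
    have h1 : δ Q = d := hQd
    rw [h1]
    exact Finset.le_sup (f := id) hd
  -- clopen fibres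
  have hclopen : ∀ d, IsClopen {Q | δ Q = d} := by
    intro d
    refine ⟨?_, hδ d⟩
    rw [← isOpen_compl_iff]
    have : {Q | δ Q = d}ᶜ = ⋃ d' ∈ {d' : ℕ | d' ≠ d}, {Q | δ Q = d'} := by
      ext Q
      simp only [Set.mem_compl_iff, Set.mem_ofPred_eq, Set.mem_iUnion, exists_prop, exists_eq_right']
    rw [this]
    exact isOpen_biUnion (fun d' _ => hδ d')
  choose e' he'idem he'eq using fun d => exists_idempotent_basicOpen_eq_of_isClopen (hclopen d)
  have hmem : ∀ (d : ℕ) (Q : PrimeSpectrum S), e' d ∉ Q.asIdeal ↔ δ Q = d := by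
    intro d Q
    have h1 : Q ∈ {Q | δ Q = d} ↔ Q ∈ (basicOpen (e' d) : Set (PrimeSpectrum S)) := by
      rw [he'eq d]
    rw [← PrimeSpectrum.mem_basicOpen, ← SetLike.mem_coe, ← h1]
    rfl
  refine ⟨N, fun d => e' d, ?_, fun d Q => hmem d Q⟩
  have hortho : OrthogonalIdempotents (fun d : Fin (N + 1) => e' d) := by
    refine ⟨fun d => he'idem d, ?_⟩
    intro i j hij
    have hidem : IsIdempotentElem (e' i * e' j) := (he'idem i).mul (he'idem j)
    refine basicOpen_injOn_isIdempotentElem hidem IsIdempotentElem.zero ?_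
    ext Q
    simp only [PrimeSpectrum.basicOpen_mul, PrimeSpectrum.basicOpen_zero]
    constructor
    · rintro ⟨h1, h2⟩
      exfalso
      have h1' : δ Q = i := (hmem i Q).mp ((PrimeSpectrum.mem_basicOpen _ _).mp h1)
      have h2' : δ Q = j := (hmem j Q).mp ((PrimeSpectrum.mem_basicOpen _ _).mp h2)
      exact hij (Fin.ext (h1'.symm.trans h2'))
    · intro h
      exact absurd h (by simp)
  refine ⟨hortho, ?_⟩
  have hidem : IsIdempotentElem (∑ d : Fin (N + 1), e' d) := hortho.isIdempotentElem_sum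
  refine basicOpen_injOn_isIdempotentElem hidem IsIdempotentElem.one ?_
  ext Q
  simp only [PrimeSpectrum.basicOpen_one]
  constructor
  · intro _; trivial
  · intro _
    rw [SetLike.mem_coe, PrimeSpectrum.mem_basicOpen]
    intro hsum
    let d0 : Fin (N + 1) := ⟨δ Q, Nat.lt_succ_of_le (hbd Q)⟩
    have h0 : e' d0 ∉ Q.asIdeal := (hmem d0 Q).mpr rfl
    have hrest : ∀ d ∈ (Finset.univ : Finset (Fin (N + 1))).erase d0, e' d ∈ Q.asIdeal := by
      intro d hd
      by_contra hnot
      have h1 : δ Q = d := (hmem d Q).mp hnot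
      have : d = d0 := Fin.ext h1.symm
      exact (Finset.ne_of_mem_erase hd) this
    have hsplit : ∑ d : Fin (N + 1), e' d = e' d0 + ∑ d ∈ (Finset.univ : Finset (Fin (N + 1))).erase d0, e' d :=
      (Finset.add_sum_erase _ _ (Finset.mem_univ d0)).symm
    rw [hsplit] at hsum
    have h2 : ∑ d ∈ (Finset.univ : Finset (Fin (N + 1))).erase d0, e' (d : ℕ) ∈ Q.asIdeal :=
      Ideal.sum_mem _ hrest
    exact h0 ((Ideal.add_mem_iff_left _ h2).mp hsum)

/-- the product decomposition attached to a complete family of orthogonal idempotents, as an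
algebra isomorphism. -/
noncomputable def piEquiv (R : Type u) {S : Type u} [CommRing R] [CommRing S] [Algebra R S]
    {ι : Type} [Fintype ι] (e : ι → S) (he : CompleteOrthogonalIdempotents e) :
    S ≃ₐ[R] ((i : ι) → S ⧸ Ideal.span {1 - e i}) :=
  AlgEquiv.ofBijective (AlgHom.pi (fun i => Ideal.Quotient.mkₐ R (Ideal.span {1 - e i})))
    he.bijective_pi

end Groth.Agent.Lib.Helper24.DimDec
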