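import Mathlib
import Groth.Prelude.Def_EGA4b
import Groth.Agent.Lib.Helper24.CMFib2
import Groth.Agent.Lib.Helper24.FibRd4
import Groth.Agent.Lib.Helper24.FibCod6
import Groth.Agent.Lib.Helper24.DimDec1

/-!
# Decomposition by fibre dimension (helper24), part 2: the local fibre dimension function

`fdim R Q = dim (S_Q / p S_Q) + trdeg (κ(Q)/κ(p))` for a finite type `R`-algebra `S`.  It is upper
semicontinuous (Chevalley); when `S` is flat of finite presentation with Cohen–Macaulay fibres it is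
also lower semicontinuous, hence locally constant.
-/

set_option autoImplicit false
universe u

namespace Groth.Agent.Lib.Helper24.DimDec

open Groth.Agent.Lib.helper3.DimIneq Groth.Agent.Lib.helper3.FibreParam Function
  Groth.Agent.Lib.Helper24.FibCod Groth.Agent.Lib.Helper24.FibRd Groth.Agent.Lib.Helper24.FibMd
  Groth.Agent.Lib.Helper24.CMFib
  Algebra TensorProduct LocCoh IsLocalRing

attribute [local instance] Groth.Agent.Lib.helper26.SkFlat.isLocalRing_fibLocRing

section fdim

variable (R : Type u) {S : Type u} [CommRing R] [CommRing S] [Algebra R S] [Algebra.FiniteType R S]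

/-- the local dimension of the fibre at `Q`. -/
noncomputable def fdim (Q : PrimeSpectrum S) : ℕ :=
  (exists_nat_dim_fibLocRing' R Q.asIdeal).choose + tdN R Q.asIdeal

theorem fdim_spec (Q : PrimeSpectrum S) :
    ringKrullDim (EGA4.FibLocRing R S Q.asIdeal) + ((tdN R Q.asIdeal : ℕ) : WithBot ℕ∞) =
      ((fdim R Q : ℕ) : WithBot ℕ∞) := by
  have h := (exists_nat_dim_fibLocRing' R Q.asIdeal).choose_spec
  unfold fdim
  generalize (exists_nat_dim_fibLocRing' R Q.asIdeal).choose = c at h ⊢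
  rw [h]
  push_cast
  rfl

theorem fdim_eq_of_eq (Q : PrimeSpectrum S) (d : ℕ)
    (h : ringKrullDim (EGA4.FibLocRing R S Q.asIdeal) + ((tdN R Q.asIdeal : ℕ) : WithBot ℕ∞) =
      ((d : ℕ) : WithBot ℕ∞)) : fdim R Q = d := by
  rw [fdim_spec] at h
  exact_mod_cast h

/-- Chevalley: `{fdim ≤ e}` is open. -/
theorem isOpen_fdim_le (e : ℕ) : IsOpen {Q : PrimeSpectrum S | fdim R Q ≤ e} := by
  have h := isOpen_setOf_dim_fibLocRing_add_tdN_le R S e
  have : {Q : PrimeSpectrum S | fdim R Q ≤ e} =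
      {Q : PrimeSpectrum S | ringKrullDim (EGA4.FibLocRing R S Q.asIdeal) +
        ((tdN R Q.asIdeal : ℕ) : WithBot ℕ∞) ≤ ((e : ℕ) : WithBot ℕ∞)} := by
    ext Q
    simp only [Set.mem_ofPred_eq]
    rw [fdim_spec R Q]
    exact_mod_cast Iff.rfl
  rw [this]
  exact h

end fdim

section CM

variable (R S : Type u) [CommRing R] [CommRing S] [Algebra R S] [Module.Flat R S]
  [Algebra.FinitePresentation R S]
  (hCM : ∀ p : PrimeSpectrum R, LocCoh.IsCohenMacaulayRing (p.asIdeal.Fiber S))

omit [Module.Flat R S] in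
include hCM in
theorem mem_rdepthLocus_iff (Q : PrimeSpectrum S) (n : ℕ) :
    Q ∈ rdepthLocus R S S n ↔ n ≤ fdim R Q := by
  obtain ⟨𝔮, h𝔮, hq⟩ := exists_fibre_prime R S Q.asIdeal
  haveI := h𝔮
  have hcm := isCohenMacaulayModule_fibLocRing R S (Q.asIdeal.comap (algebraMap R S)) 𝔮 Q.asIdeal hq
    (hCM ⟨Q.asIdeal.comap (algebraMap R S), inferInstance⟩)
  unfold IsCohenMacaulayModule at hcm
  rw [Module.supportDim_self_eq_ringKrullDim] at hcm
  have hspec := fdim_spec R Q
  rw [hcm] at hspec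
  have h2 : depth (EGA4.FibLocRing R S Q.asIdeal) (EGA4.FibLocRing R S Q.asIdeal) +
      (tdN R Q.asIdeal : ℕ∞) = (fdim R Q : ℕ∞) := by
    exact_mod_cast hspec
  unfold rdepthLocus
  rw [Set.mem_ofPred_eq, depth_fibLocMod_self, h2]
  exact_mod_cast Iff.rfl

include hCM in
/-- with Cohen–Macaulay fibres, `{n ≤ fdim}` is open. -/
theorem isOpen_le_fdim (n : ℕ) : IsOpen {Q : PrimeSpectrum S | n ≤ fdim R Q} := by
  have h := isOpen_rdepthLocus R S S n
  have : {Q : PrimeSpectrum S | n ≤ fdim R Q} = rdepthLocus R S S n := by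
    ext Q
    exact (mem_rdepthLocus_iff R S hCM Q n).symm
  rw [this]
  exact h

include hCM in
/-- with Cohen–Macaulay fibres, the local fibre dimension is locally constant. -/
theorem isOpen_fdim_eq (d : ℕ) : IsOpen {Q : PrimeSpectrum S | fdim R Q = d} := by
  have : {Q : PrimeSpectrum S | fdim R Q = d} =
      {Q : PrimeSpectrum S | fdim R Q ≤ d} ∩ {Q : PrimeSpectrum S | d ≤ fdim R Q} := by
    ext Q
    simp only [Set.mem_ofPred_eq, Set.mem_inter_iff]
    exact ⟨fun h => ⟨h.le, h.ge⟩, fun h => le_antisymm h.1 h.2⟩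
  rw [this]
  exact (isOpen_fdim_le R d).inter (isOpen_le_fdim R S hCM d)

end CM

end Groth.Agent.Lib.Helper24.DimDec
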