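import Mathlib
import Groth.Prelude.Def_EGA4b
import Groth.Agent.Lib.Helper24.DimDec2
import Groth.Agent.Lib.Helper17.FieldCM

/-!
# Decomposition by fibre dimension (helper24), part 3: the factor `S ⧸ (1 - e)` of an idempotent
-/

set_option autoImplicit false
universe u

namespace Groth.Agent.Lib.Helper24.DimDec

open Groth.Agent.Lib.helper3.DimIneq Groth.Agent.Lib.helper3.FibreParam Function
  Groth.Agent.Lib.Helper24.FibCod Groth.Agent.Lib.Helper24.FibRd Groth.Agent.Lib.Helper24.FibMd
  Groth.Agent.Lib.Helper24.CMFib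
  Algebra TensorProduct LocCoh IsLocalRing

attribute [local instance] Groth.Agent.Lib.helper26.SkFlat.isLocalRing_fibLocRing

/-- an idempotent in the maximal ideal of a local ring vanishes. -/
theorem eq_zero_of_isIdempotentElem_of_mem {F : Type u} [CommRing F] [IsLocalRing F] (x : F)
    (hx : IsIdempotentElem x) (hm : x ∈ maximalIdeal F) : x = 0 := by
  have hu : IsUnit (1 - x) := IsLocalRing.isUnit_one_sub_self_of_mem_nonunits x hm
  have h0 : x * (1 - x) = 0 := by rw [mul_sub, mul_one, hx.eq, sub_self]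
  exact (hu.mul_left_eq_zero).mp h0

section quot

variable (R : Type u) {S : Type u} [CommRing R] [CommRing S] [Algebra R S]
  [Algebra.FiniteType R S] (e : S) (he : IsIdempotentElem e)

include he in
/-- the local fibre dimension of `S ⧸ (1 - e)` agrees with that of `S`. -/
theorem fdim_comap_mk (I : Ideal S) (hI : I = Ideal.span {1 - e}) (Q' : PrimeSpectrum (S ⧸ I)) :
    fdim R Q' = fdim R (PrimeSpectrum.comap (Ideal.Quotient.mk I) Q') := by
  apply fdim_eq_of_eq
  rw [← fdim_spec R (PrimeSpectrum.comap (Ideal.Quotient.mk I) Q')]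
  have hQ : (PrimeSpectrum.comap (Ideal.Quotient.mk I) Q').asIdeal =
      Q'.asIdeal.comap (algebraMap S (S ⧸ I)) := rfl
  have htd : tdN R (Q'.asIdeal.comap (algebraMap S (S ⧸ I))) = tdN R Q'.asIdeal :=
    tdN_comap_mk R I Q'.asIdeal
  have hdim := dim_fibLocRing_quot R S I Q'.asIdeal
  -- the image of `I` in the fibre local ring vanishes
  have hmem : (1 - e) ∈ Q'.asIdeal.comap (algebraMap S (S ⧸ I)) := by
    rw [Ideal.mem_comap]
    have : algebraMap S (S ⧸ I) (1 - e) = 0 :=
      Ideal.Quotient.eq_zero_iff_mem.mpr (by rw [hI]; exact Ideal.mem_span_singleton_self _)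
    rw [this]
    exact zero_mem _
  have hx0 : algebraMap S (EGA4.FibLocRing R S (Q'.asIdeal.comap (algebraMap S (S ⧸ I)))) (1 - e) = 0 := by
    apply eq_zero_of_isIdempotentElem_of_mem
    · exact he.one_sub.map _
    · exact algebraMap_mem_maximalIdeal_fibLocRing R S _ _ hmem
  have hbot : I.map (algebraMap S (EGA4.FibLocRing R S (Q'.asIdeal.comap (algebraMap S (S ⧸ I))))) = ⊥ := by
    rw [eq_bot_iff, Ideal.map_le_iff_le_comap]
    intro x hx
    rw [hI] at hx
    obtain ⟨c, rfl⟩ := Ideal.mem_span_singleton'.mp hx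
    rw [Ideal.mem_comap, map_mul, hx0, mul_zero]
    exact Submodule.mem_bot _ |>.mpr rfl
  have hdim' : ringKrullDim (EGA4.FibLocRing R S (Q'.asIdeal.comap (algebraMap S (S ⧸ I)))) =
      ringKrullDim (EGA4.FibLocRing R (S ⧸ I) Q'.asIdeal) := by
    rw [← hdim]
    exact ringKrullDim_eq_of_ringEquiv
      ((RingEquiv.quotientBot _).symm.trans (Ideal.quotEquivOfEq hbot.symm))
  show ringKrullDim (EGA4.FibLocRing R (S ⧸ I) Q'.asIdeal) + ((tdN R Q'.asIdeal : ℕ) : WithBot ℕ∞) =
    ringKrullDim (EGA4.FibLocRing R S (Q'.asIdeal.comap (algebraMap S (S ⧸ I)))) +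
      ((tdN R (Q'.asIdeal.comap (algebraMap S (S ⧸ I))) : ℕ) : WithBot ℕ∞)
  rw [htd, hdim']

end quot

section minimal

attribute [local instance] Algebra.TensorProduct.rightAlgebra

variable (R S : Type u) [CommRing R] [CommRing S] [Algebra R S] [Algebra.FiniteType R S]
  (p : Ideal R) [p.IsPrime]

/-- the dimension of an irreducible component of a fibre is the local fibre dimension at its
generic point. -/
theorem dim_quotient_eq_fdim (P : Ideal (p.Fiber S)) [P.IsPrime]
    (hP : P ∈ minimalPrimes (p.Fiber S)) :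
    ringKrullDim (p.Fiber S ⧸ P) =
      ((fdim R (⟨P.comap (includeRight : S →ₐ[R] p.Fiber S), inferInstance⟩ :
        PrimeSpectrum S) : ℕ) : WithBot ℕ∞) := by
  rw [← fdim_spec]
  show ringKrullDim (p.Fiber S ⧸ P) =
    ringKrullDim (EGA4.FibLocRing R S (P.comap (includeRight : S →ₐ[R] p.Fiber S))) +
      ((tdN R (P.comap (includeRight : S →ₐ[R] p.Fiber S)) : ℕ) : WithBot ℕ∞)
  let σ := fiberLocAlgEquivFibLocRing R S p P
  have h1 : ringKrullDim (Localization.AtPrime P) =
      ringKrullDim (EGA4.FibLocRing R S (P.comap (includeRight : S →ₐ[R] p.Fiber S))) :=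
    ringKrullDim_eq_of_ringEquiv σ.toRingEquiv
  have h2 : ringKrullDim (Localization.AtPrime P) = P.height :=
    IsLocalization.AtPrime.ringKrullDim_eq_height P (Localization.AtPrime P)
  have h3 : P.height = 0 := Ideal.height_eq_zero_iff.mpr hP
  haveI : IsDomain (p.Fiber S ⧸ P) := Ideal.Quotient.isDomain P
  obtain ⟨n, hn, hdn⟩ := Groth.Agent.Lib.helper26.DimFormula.exists_nat_trdeg_eq_ringKrullDim
    p.ResidueField (p.Fiber S ⧸ P)
  have h4 := trdeg_fiber_quotient p P
  have h5 : contr p P = P.comap (includeRight : S →ₐ[R] p.Fiber S) := rfl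
  have h6 : tdN R (P.comap (includeRight : S →ₐ[R] p.Fiber S)) = n := by
    have h7 := tdN_spec (A := R) (P.comap (includeRight : S →ₐ[R] p.Fiber S))
    have h8 : td (Ideal.quotientMap (P.comap (includeRight : S →ₐ[R] p.Fiber S))
        (algebraMap R S) le_rfl) = (n : Cardinal.{u}) := by
      rw [← hn, h4]
      exact (td_quotientMap_congr_prime (algebraMap R S) _ _ h5).symm
    rw [h8] at h7
    exact_mod_cast h7
  rw [← h1, h2, h3, h6, hdn]
  simp

end minimal

section factor

variable (R S : Type u) [CommRing R] [CommRing S] [Algebra R S]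
  (e : S) (he : IsIdempotentElem e)

include he in
theorem flat_quotient [Module.Flat R S] : Module.Flat R (S ⧸ Ideal.span {1 - e}) := by
  haveI : IsLocalization.Away e (S ⧸ Ideal.span {1 - e}) :=
    IsLocalization.Away.quotient_of_isIdempotentElem he
  haveI : Module.Flat S (S ⧸ Ideal.span {1 - e}) :=
    IsLocalization.flat (S ⧸ Ideal.span {1 - e}) (Submonoid.powers e)
  exact Module.Flat.trans R S (S ⧸ Ideal.span {1 - e})

theorem finitePresentation_quotient [Algebra.FinitePresentation R S] :
    Algebra.FinitePresentation R (S ⧸ Ideal.span {1 - e}) :=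
  Algebra.FinitePresentation.quotient (Submodule.fg_span_singleton _)

include he in
/-- the fibres of `S ⧸ (1 - e)` are localizations of the fibres of `S`, hence Cohen–Macaulay. -/
theorem isCohenMacaulayRing_fiber_quotient (p : Ideal R) [p.IsPrime]
    (hCM : LocCoh.IsCohenMacaulayRing (p.Fiber S)) :
    LocCoh.IsCohenMacaulayRing (p.Fiber (S ⧸ Ideal.span {1 - e})) := by
  haveI : IsLocalization.Away e (S ⧸ Ideal.span {1 - e}) :=
    IsLocalization.Away.quotient_of_isIdempotentElem he
  letI : Algebra (p.ResidueField ⊗[R] S) (p.ResidueField ⊗[R] (S ⧸ Ideal.span {1 - e})) :=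
    (Algebra.TensorProduct.map (AlgHom.id R p.ResidueField)
      (IsScalarTower.toAlgHom R S (S ⧸ Ideal.span {1 - e}))).toAlgebra
  haveI : IsScalarTower p.ResidueField (p.ResidueField ⊗[R] S)
      (p.ResidueField ⊗[R] (S ⧸ Ideal.span {1 - e})) :=
    .of_algebraMap_eq <| by intro; simp [RingHom.algebraMap_toAlgebra]
  haveI := IsLocalization.tensorProduct_tensorProduct_right R p.ResidueField (Submonoid.powers e)
    (S ⧸ Ideal.span {1 - e}) (by ext; simp [RingHom.algebraMap_toAlgebra])
  haveI := hCM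
  exact Groth.Agent.Lib.helper17.FieldCM.isCohenMacaulayRing_of_isLocalization
    (A := p.ResidueField ⊗[R] S) (B := p.ResidueField ⊗[R] (S ⧸ Ideal.span {1 - e}))
    ((Submonoid.powers e).map (Algebra.TensorProduct.includeRight (R := R) (A := p.ResidueField)))

end factor

end Groth.Agent.Lib.Helper24.DimDec
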