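import Mathlib
import Groth.Prelude.Def_EGA4b
import Groth.Agent.Lib.Helper24.DimDec3

/-!
# Decomposition by fibre dimension (helper24), part 4: the decomposition theorem
-/

set_option autoImplicit false
universe u

namespace Groth.Agent.Lib.Helper24.DimDec

open Groth.Agent.Lib.Helper24.FibCod Algebra TensorProduct LocCoh IsLocalRing

section equidim

variable (R S : Type u) [CommRing R] [CommRing S] [Algebra R S] [Algebra.FiniteType R S]
  (e : S) (he : IsIdempotentElem e)

theorem not_mem_comap_mk (Q' : PrimeSpectrum (S ⧸ Ideal.span {1 - e})) :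
    e ∉ (PrimeSpectrum.comap (Ideal.Quotient.mk (Ideal.span {1 - e})) Q').asIdeal := by
  intro hmem
  have h1 : (1 - e) ∈ (PrimeSpectrum.comap (Ideal.Quotient.mk (Ideal.span {1 - e})) Q').asIdeal := by
    show Ideal.Quotient.mk (Ideal.span {1 - e}) (1 - e) ∈ Q'.asIdeal
    rw [Ideal.Quotient.eq_zero_iff_mem.mpr (Ideal.mem_span_singleton_self _)]
    exact zero_mem _
  have h2 : (1 : S) ∈ (PrimeSpectrum.comap (Ideal.Quotient.mk (Ideal.span {1 - e})) Q').asIdeal := by
    have := Ideal.add_mem _ h1 hmem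
    rwa [sub_add_cancel] at this
  exact (PrimeSpectrum.comap (Ideal.Quotient.mk (Ideal.span {1 - e})) Q').isPrime.ne_top
    ((Ideal.eq_top_iff_one _).mpr h2)

include he in
/-- the irreducible components of the fibres of `S ⧸ (1 - e)` have dimension `d` if the local fibre
dimension is `d` on `D(e)`. -/
theorem dim_fiber_quotient_eq (d : ℕ)
    (hd : ∀ Q : PrimeSpectrum S, e ∉ Q.asIdeal → fdim R Q = d) (p : Ideal R) [p.IsPrime]
    (P : Ideal (p.Fiber (S ⧸ Ideal.span {1 - e})))
    (hP : P ∈ minimalPrimes (p.Fiber (S ⧸ Ideal.span {1 - e}))) :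
    ringKrullDim (p.Fiber (S ⧸ Ideal.span {1 - e}) ⧸ P) = ((d : ℕ) : WithBot ℕ∞) := by
  haveI : P.IsPrime := hP.1.1
  rw [dim_quotient_eq_fdim R (S ⧸ Ideal.span {1 - e}) p P hP,
    fdim_comap_mk R e he (Ideal.span {1 - e}) rfl,
    hd _ (not_mem_comap_mk S e _)]

end equidim

section main

variable (R S : Type u) [CommRing R] [CommRing S] [Algebra R S] [Module.Flat R S]
  [Algebra.FinitePresentation R S]

/-- **Decomposition by fibre dimension**: a flat finitely presented algebra with Cohen–Macaulay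
fibres is a finite product of such algebras with equidimensional fibres. -/
theorem exists_pi_decomposition
    (hCM : ∀ p : PrimeSpectrum R, LocCoh.IsCohenMacaulayRing (p.asIdeal.Fiber S)) :
    ∃ (N : ℕ) (T : Fin (N + 1) → Type u) (_ : ∀ d, CommRing (T d)) (_ : ∀ d, Algebra R (T d)),
      Nonempty (S ≃ₐ[R] ((d : Fin (N + 1)) → T d)) ∧
        ∀ d : Fin (N + 1), Module.Flat R (T d) ∧ Algebra.FinitePresentation R (T d) ∧
          (∀ p : PrimeSpectrum R, LocCoh.IsCohenMacaulayRing (p.asIdeal.Fiber (T d))) ∧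
          ∀ (p : PrimeSpectrum R), ∀ P ∈ minimalPrimes (p.asIdeal.Fiber (T d)),
            ringKrullDim (p.asIdeal.Fiber (T d) ⧸ P) = ((d : ℕ) : WithBot ℕ∞) := by
  obtain ⟨N, e, he, hmem⟩ := exists_idempotents_of_isOpen_fibers (fdim R (S := S))
    (isOpen_fdim_eq R S hCM)
  refine ⟨N, fun d => S ⧸ Ideal.span {1 - e d}, fun d => inferInstance, fun d => inferInstance,
    ⟨piEquiv R e he⟩, ?_⟩
  intro d
  refine ⟨flat_quotient R S (e d) (he.idem d), finitePresentation_quotient R S (e d), ?_, ?_⟩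
  · intro p
    exact isCohenMacaulayRing_fiber_quotient R S (e d) (he.idem d) p.asIdeal (hCM p)
  · intro p P hP
    exact dim_fiber_quotient_eq R S (e d) (he.idem d) d (fun Q hQ => (hmem d Q).mp hQ)
      p.asIdeal P hP

end main

end Groth.Agent.Lib.Helper24.DimDec
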