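import Mathlib
import Groth.Prelude.Def_EGA4b
import Groth.Agent.Lib.Helper24.DimDec4

/-!
# Decomposition by fibre dimension (helper24), part 5: the case of a base field
-/

set_option autoImplicit false
universe u

namespace Groth.Agent.Lib.Helper24.DimDec

open Groth.Agent.Lib.helper3.DimIneq Groth.Agent.Lib.Helper24.FibCod Algebra TensorProduct LocCoh
  IsLocalRing Function

section field

variable (k : Type u) {T : Type u} [Field k] [CommRing T] [Algebra k T] [Algebra.FiniteType k T]

/-- a maximal ideal of a finite type algebra over a field has `td = 0`. -/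
theorem tdN_eq_zero_of_isMaximal (m : Ideal T) [hm : m.IsMaximal] : tdN k m = 0 := by
  have h0 : td (Ideal.quotientMap m (algebraMap k T) le_rfl) = 0 := by
    letI : Field (T ⧸ m) := Ideal.Quotient.field m
    haveI : Module.Finite k (T ⧸ m) := finite_of_finite_type_of_isJacobsonRing k (T ⧸ m)
    haveI : Algebra.IsAlgebraic k (T ⧸ m) := Algebra.IsAlgebraic.of_finite k (T ⧸ m)
    letI := (Ideal.quotientMap m (algebraMap k T) le_rfl).toAlgebra
    haveI : IsScalarTower k (k ⧸ m.comap (algebraMap k T)) (T ⧸ m) :=
      IsScalarTower.of_algebraMap_eq (fun x => rfl)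
    haveI : IsDomain (k ⧸ m.comap (algebraMap k T)) := Ideal.Quotient.isDomain _
    haveI : Algebra.IsAlgebraic (k ⧸ m.comap (algebraMap k T)) (T ⧸ m) :=
      Algebra.IsAlgebraic.extendScalars (R := k) (S := k ⧸ m.comap (algebraMap k T))
        (A := T ⧸ m) (algebraMap k (k ⧸ m.comap (algebraMap k T))).injective
    exact _root_.trdeg_eq_zero
  rw [tdN, h0]
  simp

/-- over a field, the local fibre dimension at a maximal ideal is its height. -/
theorem fdim_eq_height_of_isMaximal (m : Ideal T) [hm : m.IsMaximal] :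
    ((fdim k (⟨m, inferInstance⟩ : PrimeSpectrum T) : ℕ) : ℕ∞) = m.height := by
  have hspec := fdim_spec k (⟨m, inferInstance⟩ : PrimeSpectrum T)
  have hbot : (m.comap (algebraMap k T)).map (algebraMap k (Localization.AtPrime m)) = ⊥ := by
    have h1 : m.comap (algebraMap k T) = ⊥ :=
      (Ideal.eq_bot_or_top _).resolve_right (Ideal.IsPrime.ne_top inferInstance)
    rw [h1, Ideal.map_bot]
  have hdim : ringKrullDim (EGA4.FibLocRing k T m) = ringKrullDim (Localization.AtPrime m) :=
    ringKrullDim_eq_of_ringEquiv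
      ((Ideal.quotEquivOfEq hbot).trans (RingEquiv.quotientBot _))
  have h2 : ringKrullDim (Localization.AtPrime m) = m.height :=
    IsLocalization.AtPrime.ringKrullDim_eq_height m (Localization.AtPrime m)
  have h3 : tdN k m = 0 := tdN_eq_zero_of_isMaximal k m
  change ringKrullDim (EGA4.FibLocRing k T m) + ((tdN k m : ℕ) : WithBot ℕ∞) = _ at hspec
  rw [hdim, h2, h3] at hspec
  simp only [Nat.cast_zero, add_zero] at hspec
  exact_mod_cast hspec.symm

end field

section main

variable (k S : Type u) [Field k] [CommRing S] [Algebra k S] [Algebra.FiniteType k S]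
  [LocCoh.IsCohenMacaulayRing S]

omit [Algebra.FiniteType k S] in
/-- the fibre ring over the unique prime of a field is the algebra itself. -/
theorem isCohenMacaulayRing_fiber_field (p : PrimeSpectrum k) :
    LocCoh.IsCohenMacaulayRing (p.asIdeal.Fiber S) := by
  have hbij : Bijective (algebraMap k p.asIdeal.ResidueField) := by
    refine ⟨(algebraMap k p.asIdeal.ResidueField).injective, ?_⟩
    haveI : p.asIdeal.IsMaximal := by
      have h1 : p.asIdeal = ⊥ :=
        (Ideal.eq_bot_or_top _).resolve_right (Ideal.IsPrime.ne_top inferInstance)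
      rw [h1]
      exact Ideal.bot_isMaximal
    rw [IsScalarTower.algebraMap_eq k (k ⧸ p.asIdeal) p.asIdeal.ResidueField]
    exact (Ideal.bijective_algebraMap_quotient_residueField p.asIdeal).surjective.comp
      Ideal.Quotient.mk_surjective
  let e0 : k ≃ₐ[k] p.asIdeal.ResidueField := AlgEquiv.ofBijective (Algebra.ofId k _) hbij
  let e1 : S ≃ₐ[k] p.asIdeal.ResidueField ⊗[k] S :=
    (Algebra.TensorProduct.lid k S).symm.trans (Algebra.TensorProduct.congr e0 AlgEquiv.refl)
  letI : Algebra S (p.asIdeal.ResidueField ⊗[k] S) := e1.toRingEquiv.toRingHom.toAlgebra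
  haveI : IsLocalization (⊥ : Submonoid S) (p.asIdeal.ResidueField ⊗[k] S) := by
    refine IsLocalization.of_le_isUnit_of_bijective ?_ e1.bijective
    rintro _ ⟨x, hx, rfl⟩
    obtain rfl : x = 1 := Submonoid.mem_bot.mp hx
    rw [map_one]
    exact isUnit_one
  exact Groth.Agent.Lib.helper17.FieldCM.isCohenMacaulayRing_of_isLocalization
    (A := S) (B := p.asIdeal.ResidueField ⊗[k] S) (⊥ : Submonoid S)

/-- **Decomposition by height** of a Cohen–Macaulay finite type algebra over a field. -/
theorem exists_pi_decomposition_field :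
    ∃ (N : ℕ) (T : Fin (N + 1) → Type u) (_ : ∀ d, CommRing (T d)) (_ : ∀ d, Algebra k (T d)),
      Nonempty (S ≃ₐ[k] ((d : Fin (N + 1)) → T d)) ∧
        ∀ (d : Fin (N + 1)) (m : Ideal (T d)), m.IsMaximal → m.height = (d : ℕ) := by
  haveI : Algebra.FinitePresentation k S :=
    (Algebra.FinitePresentation.of_finiteType).mp inferInstance
  obtain ⟨N, e, he, hmem⟩ := exists_idempotents_of_isOpen_fibers (fdim k (S := S))
    (isOpen_fdim_eq k S (isCohenMacaulayRing_fiber_field k S))
  refine ⟨N, fun d => S ⧸ Ideal.span {1 - e d}, fun d => inferInstance, fun d => inferInstance,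
    ⟨piEquiv k e he⟩, ?_⟩
  intro d m hm
  haveI := hm
  rw [← fdim_eq_height_of_isMaximal k m,
    fdim_comap_mk k (e d) (he.idem d) (Ideal.span {1 - e d}) rfl,
    (hmem d _).mp (not_mem_comap_mk S (e d) _)]

end main

end Groth.Agent.Lib.Helper24.DimDec
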