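import Mathlib

/-!
# A Noetherian local domain is dominated by a one-dimensional local ring essentially of finite type
(helper24)

* `exists_chart` : a chart `A = R[y/a : y ∈ 𝔪] ⊆ Frac R` of the blow-up of `𝔪` on which `𝔪A = aA`
  is a proper principal ideal (found with a valuation ring dominating `R`).
-/

set_option autoImplicit false
universe u
open IsLocalRing

namespace Groth.Agent.Lib.Helper24.DomDimOne

variable (R : Type u) [CommRing R] [IsDomain R] [IsNoetherianRing R] [IsLocalRing R]

theorem exists_chart (hR : ¬ IsField R) :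
    ∃ (a : R) (A : Subalgebra R (FractionRing R)), a ≠ 0 ∧ a ∈ maximalIdeal R ∧
      Algebra.FiniteType R A ∧
      (∀ y ∈ maximalIdeal R, ∃ z ∈ A,
        algebraMap R (FractionRing R) y = z * algebraMap R (FractionRing R) a) ∧
      (algebraMap R (FractionRing R) a)⁻¹ ∉ A := by
  classical
  set K := FractionRing R with hK
  have hinj : Function.Injective (algebraMap R K) := IsFractionRing.injective R K
  obtain ⟨s, hs⟩ := (isNoetherianRing_iff_ideal_fg R).mp inferInstance (maximalIdeal R)
  obtain ⟨V, hV, hloc⟩ := IsLocalRing.exists_factor_valuationRing (algebraMap R K)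
  have hmne : maximalIdeal R ≠ ⊥ := fun h => hR (IsLocalRing.isField_iff_maximalIdeal_eq.mpr h)
  have hne : (s.filter (fun y => y ≠ 0)).Nonempty := by
    by_contra hcon
    rw [Finset.not_nonempty_iff_eq_empty, Finset.filter_eq_empty_iff] at hcon
    apply hmne
    rw [← hs, Ideal.span_eq_bot]
    intro y hy
    by_contra hy0
    exact hcon hy hy0
  obtain ⟨a, has', hamax⟩ := Finset.exists_max_image (s.filter (fun y => y ≠ 0))
    (fun y => V.valuation (algebraMap R K y)) hne
  have has : a ∈ s := (Finset.mem_filter.mp has').1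
  have ha0 : a ≠ 0 := (Finset.mem_filter.mp has').2
  have ham : a ∈ maximalIdeal R := by
    rw [← hs]; exact Ideal.subset_span has
  have hKa : algebraMap R K a ≠ 0 := fun h => ha0 (hinj (by rw [h, map_zero]))
  have hdiv : ∀ y ∈ s, algebraMap R K y / algebraMap R K a ∈ V := by
    intro y hy
    by_cases hy0 : y = 0
    · rw [hy0, map_zero, zero_div]; exact V.zero_mem
    · have h1 := hamax y (Finset.mem_filter.mpr ⟨hy, hy0⟩)
      rw [← V.valuation_le_one_iff, map_div₀]
      have hva : V.valuation (algebraMap R K a) ≠ 0 := (V.valuation.ne_zero_iff).mpr hKa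
      exact div_le_one_of_le₀ h1 zero_le
  set A : Subalgebra R K :=
    Algebra.adjoin R ((fun y => algebraMap R K y / algebraMap R K a) '' (s : Set R)) with hA
  have hAV : ∀ z ∈ A, z ∈ V := by
    intro z hz
    induction hz using Algebra.adjoin_induction with
    | mem z hz =>
      obtain ⟨y, hy, rfl⟩ := hz
      exact hdiv y hy
    | algebraMap r => exact hV r
    | add z w _ _ hz hw => exact V.add_mem _ _ hz hw
    | mul z w _ _ hz hw => exact V.mul_mem _ _ hz hw
  refine ⟨a, A, ha0, ham, ?_, ?_, ?_⟩
  · exact (Subalgebra.fg_iff_finiteType _).mp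
      (Subalgebra.fg_def.mpr ⟨_, s.finite_toSet.image _, rfl⟩)
  · intro y hy
    rw [← hs] at hy
    induction hy using Submodule.span_induction with
    | mem y hy =>
      exact ⟨algebraMap R K y / algebraMap R K a, Algebra.subset_adjoin ⟨y, hy, rfl⟩,
        (div_mul_cancel₀ _ hKa).symm⟩
    | zero => exact ⟨0, A.zero_mem, by simp⟩
    | add y w _ _ hy hw =>
      obtain ⟨z1, hz1, e1⟩ := hy
      obtain ⟨z2, hz2, e2⟩ := hw
      exact ⟨z1 + z2, A.add_mem hz1 hz2, by rw [map_add, e1, e2, add_mul]⟩
    | smul r y _ hy =>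
      obtain ⟨z1, hz1, e1⟩ := hy
      exact ⟨algebraMap R K r * z1, A.mul_mem (A.algebraMap_mem r) hz1,
        by rw [smul_eq_mul, map_mul, e1, mul_assoc]⟩
  · intro hinv
    have h1 : (algebraMap R K a)⁻¹ ∈ V := hAV _ hinv
    have hu : IsUnit ((algebraMap R K).codRestrict V.toSubring hV a) := by
      refine IsUnit.of_mul_eq_one (⟨(algebraMap R K a)⁻¹, h1⟩ : V.toSubring) ?_
      apply Subtype.ext
      exact mul_inv_cancel₀ hKa
    have := hloc.map_nonunit a hu
    exact (IsLocalRing.mem_maximalIdeal a).mp ham this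

theorem main (hR : ¬ IsField R) :
    ∃ R' : Subalgebra R (FractionRing R), ∃ _ : IsLocalRing R',
      IsNoetherianRing R' ∧ ringKrullDim R' = 1 ∧ IsLocalHom (algebraMap R R') ∧
        Algebra.EssFiniteType R R' := by
  classical
  obtain ⟨a, A, ha0, ham, hft, hm, hinv⟩ := exists_chart R hR
  set K := FractionRing R with hK
  have hinj : Function.Injective (algebraMap R K) := IsFractionRing.injective R K
  have hKa : algebraMap R K a ≠ 0 := fun h => ha0 (hinj (by rw [h, map_zero]))
  haveI : IsNoetherianRing A := Algebra.FiniteType.isNoetherianRing R A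
  set x : A := algebraMap R A a with hx
  have hxK : (x : K) = algebraMap R K a := rfl
  have hx0 : x ≠ 0 := fun h => hKa (by rw [← hxK, h]; rfl)
  have hxtop : Ideal.span {x} ≠ ⊤ := by
    intro htop
    rw [Ideal.span_singleton_eq_top] at htop
    obtain ⟨w, hw⟩ := htop.exists_right_inv
    apply hinv
    have h1 : (x : K) * (w : K) = 1 := by
      have := congrArg (fun z : A => (z : K)) hw
      simpa using this
    have h2 : (w : K) = (algebraMap R K a)⁻¹ := by
      rw [hxK] at h1
      exact eq_inv_of_mul_eq_one_right h1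
    rw [← h2]
    exact w.2
  obtain ⟨⟨q, hq⟩⟩ := Ideal.nonempty_minimalPrimes hxtop
  haveI : q.IsPrime := hq.1.1
  have hxq : x ∈ q := hq.1.2 (Ideal.mem_span_singleton_self x)
  have hqht : q.height = 1 := by
    refine le_antisymm (Ideal.height_le_one_of_isPrincipal_of_mem_minimalPrimes _ q hq) ?_
    rw [Order.one_le_iff_ne_zero]
    intro h0
    rw [Ideal.height_eq_zero_iff_eq_bot] at h0
    rw [h0, Ideal.mem_bot] at hxq
    exact hx0 hxq
  have hS : q.primeCompl ≤ nonZeroDivisors A := q.primeCompl_le_nonZeroDivisors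
  set R'' : Subalgebra A K := Localization.subalgebra.ofField K q.primeCompl hS with hR''
  haveI : IsLocalization.AtPrime R'' q := Localization.subalgebra.isLocalization_ofField K _ hS
  haveI hloc'' : IsLocalRing R'' := IsLocalization.AtPrime.isLocalRing R'' q
  haveI : IsNoetherianRing R'' := IsLocalization.isNoetherianRing q.primeCompl R'' inferInstance
  have hdim : ringKrullDim R'' = 1 := by
    rw [IsLocalization.AtPrime.ringKrullDim_eq_height q R'', hqht]; rfl
  -- the identity equivalence
  let e : R'' ≃+* (R''.restrictScalars R) :=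
    { toFun := fun z => ⟨z.1, z.2⟩
      invFun := fun z => ⟨z.1, z.2⟩
      left_inv := fun z => rfl
      right_inv := fun z => rfl
      map_mul' := fun z w => rfl
      map_add' := fun z w => rfl }
  refine ⟨R''.restrictScalars R, e.isLocalRing, isNoetherianRing_of_ringEquiv R'' e,
    (ringKrullDim_eq_of_ringEquiv e).symm.trans hdim, ?_, ?_⟩
  · refine ⟨fun r hr => ?_⟩
    by_contra hnu
    have hrm : r ∈ maximalIdeal R := (IsLocalRing.mem_maximalIdeal r).mpr hnu
    obtain ⟨z, hz, hzr⟩ := hm r hrm
    have h1 : algebraMap A R'' ((⟨z, hz⟩ : A) * x) ∈ maximalIdeal R'' := by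
      rw [IsLocalization.AtPrime.to_map_mem_maximal_iff R'' q]
      exact Ideal.mul_mem_left _ _ hxq
    have h2 : e (algebraMap A R'' ((⟨z, hz⟩ : A) * x)) = algebraMap R (R''.restrictScalars R) r := by
      apply Subtype.ext
      show z * (x : K) = algebraMap R K r
      rw [hzr, hxK]
    rw [← h2] at hr
    have h3 : IsUnit (algebraMap A R'' ((⟨z, hz⟩ : A) * x)) := by
      have := hr.map e.symm
      simpa using this
    exact (IsLocalRing.mem_maximalIdeal _).mp h1 h3
  · haveI : Algebra.EssFiniteType A R'' := Algebra.EssFiniteType.of_isLocalization R'' q.primeCompl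
    haveI : Algebra.EssFiniteType R A := inferInstance
    have h1 : Algebra.EssFiniteType R R'' := Algebra.EssFiniteType.comp R A R''
    exact h1

end Groth.Agent.Lib.Helper24.DomDimOne
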