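import Mathlib

/-!
# Algebra and topology for torsion-freeness of duals (helper24)
-/

set_option autoImplicit false
universe u

namespace Groth.Agent.Lib.Helper24.DualTF

open IsLocalRing

section alg

variable {R : Type*} [CommRing R] [IsNoetherianRing R] [IsLocalRing R]

theorem isAssociatedPrime_of_hom {M N : Type*} [AddCommGroup M] [Module R M] [AddCommGroup N]
    [Module R N] (h : IsAssociatedPrime (maximalIdeal R) (M →ₗ[R] N)) :
    IsAssociatedPrime (maximalIdeal R) N := by
  rw [isAssociatedPrime_iff] at h ⊢
  obtain ⟨hp, φ, hφ⟩ := h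
  have hne : φ ≠ 0 := by
    rintro rfl
    have : (1 : R) ∈ maximalIdeal R := by
      rw [hφ, Submodule.mem_colon_singleton]
      simp
    exact (maximalIdeal.isMaximal R).ne_top ((Ideal.eq_top_iff_one _).mpr this)
  obtain ⟨v, hv⟩ : ∃ v, φ v ≠ 0 := by
    by_contra hcon
    refine hne (LinearMap.ext fun v => ?_)
    by_contra hv
    exact hcon ⟨v, hv⟩
  refine ⟨hp, φ v, ?_⟩
  have hle : maximalIdeal R ≤ (⊥ : Submodule R N).colon {φ v} := by
    intro a ha
    rw [hφ, Submodule.mem_colon_singleton, Submodule.mem_bot] at ha
    rw [Submodule.mem_colon_singleton, Submodule.mem_bot]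
    have := congrArg (fun ψ : M →ₗ[R] N => ψ v) ha
    simpa using this
  have hne' : (⊥ : Submodule R N).colon {φ v} ≠ ⊤ := by
    intro htop
    have : (1 : R) ∈ (⊥ : Submodule R N).colon {φ v} := htop ▸ Submodule.mem_top
    rw [Submodule.mem_colon_singleton, Submodule.mem_bot, one_smul] at this
    exact hv this
  exact ((maximalIdeal.isMaximal R).eq_of_le hne' hle)

theorem eq_maximalIdeal_of_isAssociatedPrime_of_isReduced [IsReduced R]
    (h : IsAssociatedPrime (maximalIdeal R) R) (q : Ideal R) [hq : q.IsPrime] :
    q = maximalIdeal R := by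
  rw [isAssociatedPrime_iff] at h
  obtain ⟨-, r, hr⟩ := h
  have hr0 : r ≠ 0 := by
    rintro rfl
    have : (1 : R) ∈ maximalIdeal R := by
      rw [hr, Submodule.mem_colon_singleton]
      simp
    exact (maximalIdeal.isMaximal R).ne_top ((Ideal.eq_top_iff_one _).mpr this)
  -- `r` avoids some minimal prime below `q`
  obtain ⟨p, hpmin, hpq⟩ := Ideal.exists_minimalPrimes_le (bot_le : (⊥ : Ideal R) ≤ q)
  -- it suffices to show every minimal prime is the maximal ideal
  have key : ∀ p ∈ minimalPrimes R, r ∉ p → p = maximalIdeal R := by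
    intro p hp hrp
    haveI : p.IsPrime := hp.1.1
    refine le_antisymm (le_maximalIdeal this.ne_top) ?_
    intro a ha
    rw [hr, Submodule.mem_colon_singleton, Submodule.mem_bot] at ha
    have : a * r ∈ p := by
      have : a * r = 0 := by simpa using ha
      rw [this]
      exact p.zero_mem
    exact (Ideal.IsPrime.mem_or_mem ‹p.IsPrime› this).resolve_right hrp
  -- some minimal prime avoids `r`
  have hex : ∃ p ∈ minimalPrimes R, r ∉ p := by
    by_contra hcon
    have : r ∈ sInf (minimalPrimes R) := by
      rw [Ideal.mem_sInf]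
      intro p hp
      by_contra hrp
      exact hcon ⟨p, hp, hrp⟩
    rw [show minimalPrimes R = (⊥ : Ideal R).minimalPrimes from rfl, Ideal.sInf_minimalPrimes] at this
    have h2 : r ∈ nilradical R := this
    rw [nilradical_eq_zero] at h2
    exact hr0 (by simpa using h2)
  obtain ⟨p', hp', hrp'⟩ := hex
  have hp'max := key p' hp' hrp'
  -- so the maximal ideal is a minimal prime; `q ≤ m` hence `q = m`
  have hmmin : maximalIdeal R ∈ minimalPrimes R := hp'max ▸ hp'
  have hqle : q ≤ maximalIdeal R := le_maximalIdeal hq.ne_top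
  exact le_antisymm hqle (hmmin.2 ⟨hq, bot_le⟩ hqle)

end alg

section top

open TopologicalSpace

theorem isOpen_singleton_of_isClosed_of_forall_specializes {X : Type*} [TopologicalSpace X]
    [NoetherianSpace X] [QuasiSober X] {x : X} (hx : IsClosed ({x} : Set X))
    (h : ∀ y : X, y ⤳ x → y = x) : IsOpen ({x} : Set X) := by
  have hfin : (irreducibleComponents X).Finite := NoetherianSpace.finite_irreducibleComponents
  set S : Set (Set X) := irreducibleComponents X \ {{x}} with hS
  have hSfin : S.Finite := hfin.subset Set.sdiff_subset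
  have hTclosed : IsClosed (⋃₀ S) := by
    rw [Set.sUnion_eq_biUnion]
    exact Set.Finite.isClosed_biUnion hSfin
      fun Z hZ => isClosed_of_mem_irreducibleComponents Z hZ.1
  have heq : ({x} : Set X) = (⋃₀ S)ᶜ := by
    ext y
    simp only [Set.mem_singleton_iff, Set.mem_compl_iff, Set.mem_sUnion, not_exists, not_and]
    constructor
    · rintro rfl Z hZ hxZ
      have hZirr : IsIrreducible Z := hZ.1.1
      have hZcl : IsClosed Z := isClosed_of_mem_irreducibleComponents Z hZ.1
      obtain ⟨η, hη⟩ := QuasiSober.sober hZirr hZcl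
      have hsp : η ⤳ y := by
        rw [specializes_iff_mem_closure, hη.def]
        exact hxZ
      have := h η hsp
      subst this
      apply hZ.2
      rw [Set.mem_singleton_iff, ← hη.def, hx.closure_eq]
    · intro hy
      have h1 : irreducibleComponent y ∈ irreducibleComponents X :=
        irreducibleComponent_mem_irreducibleComponents y
      have h2 : y ∈ irreducibleComponent y := mem_irreducibleComponent
      by_contra hne
      have h3 : irreducibleComponent y ∉ S := fun h3 => hy _ h3 h2
      have h4 : irreducibleComponent y = {x} := by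
        by_contra h4
        exact h3 ⟨h1, h4⟩
      rw [h4] at h2
      exact hne h2
  rw [heq]
  exact hTclosed.isOpen_compl

theorem isOpen_singleton_of_open_nhd {X : Type*} [TopologicalSpace X] (U : Set X) (hU : IsOpen U)
    [NoetherianSpace U] [QuasiSober U] (x : X) (hxU : x ∈ U) (hx : IsClosed ({x} : Set X))
    (h : ∀ y : X, y ⤳ x → y = x) : IsOpen ({x} : Set X) := by
  have h1 : IsClosed ({⟨x, hxU⟩} : Set U) := by
    have : ({⟨x, hxU⟩} : Set U) = Subtype.val ⁻¹' ({x} : Set X) := by
      ext y
      rw [Set.mem_singleton_iff, Set.mem_preimage, Set.mem_singleton_iff, Subtype.ext_iff]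
    rw [this]
    exact hx.preimage continuous_subtype_val
  have h2 : ∀ y : U, y ⤳ (⟨x, hxU⟩ : U) → y = ⟨x, hxU⟩ := by
    intro y hy
    apply Subtype.ext
    exact h y.1 (hy.map continuous_subtype_val)
  have h3 := isOpen_singleton_of_isClosed_of_forall_specializes h1 h2
  have h4 := hU.isOpenMap_subtype_val _ h3
  rw [Set.image_singleton] at h4
  exact h4

end top

end Groth.Agent.Lib.Helper24.DualTF
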