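import Groth.Agent.Lib.Helper24.DualTF1
import Groth.Agent.Lib.Lead.RefHull5

/-!
# Torsion-freeness of duals on reduced schemes (helper24)

* `isOpen_singleton_of_isClosed_of_forall_specializes_sch`
* `not_isAssPoint_dual_of_isClosed`
-/

set_option autoImplicit false
universe u

namespace Groth.Agent.Lib.Helper24.DualTF

open AlgebraicGeometry CategoryTheory IsLocalRing TopologicalSpace

theorem isOpen_singleton_sch {X : Scheme.{u}} [IsLocallyNoetherian X] (x : X)
    (hx : IsClosed ({x} : Set X)) (h : ∀ y : X, y ⤳ x → y = x) : IsOpen ({x} : Set X) := by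
  obtain ⟨U, hU, hxU⟩ : ∃ U : X.Opens, IsAffineOpen U ∧ x ∈ U := by
    obtain ⟨_, ⟨V, hV : IsAffineOpen V, rfl⟩, hyV, -⟩ :=
      X.isBasis_affineOpens.exists_subset_of_mem_open (Set.mem_univ x) isOpen_univ
    exact ⟨V, hV, hyV⟩
  haveI : IsNoetherianRing Γ(X, U) := IsLocallyNoetherian.component_noetherian ⟨U, hU⟩
  have i1 : NoetherianSpace U := noetherianSpace_of_isAffineOpen U hU
  have i2 : QuasiSober U := inferInstanceAs (QuasiSober (U : Scheme.{u}))
  exact @isOpen_singleton_of_open_nhd X _ (U : Set X) U.2 i1 i2 x hxU hx h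

theorem not_isAssPoint_dual_of_isClosed {X : Scheme.{u}} [IsLocallyNoetherian X]
    [AlgebraicGeometry.IsReduced X] (F : X.Modules) (hF : Coh.IsCoh F) (x : X)
    (hx : IsClosed ({x} : Set X)) (hno : ¬ IsOpen ({x} : Set X)) :
    ¬ Curv2.IsAssPoint (RefHull.dual F) x := by
  intro hass
  have hFP : CohB1.IsFP F := Groth.Agent.Lib.helper16.CohFinite.isFinitePresentation_of_isCoh F hF
  have hbij := Groth.Agent.Lib.Lead.RH.evalStalk_bijective F (Coh.structureModule X) hFP x
  let E := LinearEquiv.ofBijective (RefHull.evalStalk F (Coh.structureModule X) x) hbij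
  have h1 : IsAssociatedPrime (maximalIdeal (X.presheaf.stalk x))
      (RefHull.StalkHom F (Coh.structureModule X) x) := E.isAssociatedPrime_iff.mp hass
  have h2 := isAssociatedPrime_of_hom h1
  obtain ⟨e⟩ := Groth.Agent.Lib.Lead.RH.exists_stalkUnitEquiv (X := X) x
  have h3 : IsAssociatedPrime (maximalIdeal (X.presheaf.stalk x)) (X.presheaf.stalk x) :=
    e.isAssociatedPrime_iff.mp h2
  apply hno
  refine isOpen_singleton_sch x hx fun y hy => ?_
  have hr : y ∈ Set.range (X.fromSpecStalk x) := by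
    rw [Scheme.range_fromSpecStalk]
    exact hy
  obtain ⟨q, rfl⟩ := hr
  have hq : q.asIdeal = maximalIdeal (X.presheaf.stalk x) :=
    eq_maximalIdeal_of_isAssociatedPrime_of_isReduced h3 q.asIdeal
  have hq' : q = closedPoint (X.presheaf.stalk x) := PrimeSpectrum.ext hq
  rw [hq', Scheme.fromSpecStalk_closedPoint]

end Groth.Agent.Lib.Helper24.DualTF
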