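import Mathlib

/-!
# Essentially finite type local rings as localizations at maximal ideals over a bigger field (helper24)
-/

set_option autoImplicit false
universe u

namespace Groth.Agent.Lib.Helper24.EssFT1

open IsLocalRing

section Step2

variable (k : Type u) [Field k] (S : Type u) [CommRing S] [IsDomain S] [IsLocalRing S] [Algebra k S]
variable (K : Type u) [Field K] [Algebra k K] [Algebra K S] [IsScalarTower k K S]

theorem main_of_field [Algebra.EssFiniteType k S] [Algebra.IsAlgebraic K (ResidueField S)] :
    ∃ (A : Type u) (_ : CommRing A) (_ : Algebra K A) (_ : Algebra k A)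
      (_ : IsScalarTower k K A) (_ : Algebra.FiniteType K A) (m : Ideal A) (_ : m.IsMaximal),
      Nonempty (S ≃ₐ[k] Localization.AtPrime m) := by
  haveI : Algebra.EssFiniteType K S := Algebra.EssFiniteType.of_comp k K S
  let B := Algebra.EssFiniteType.subalgebra K S
  let f : B →ₐ[K] ResidueField S := (IsScalarTower.toAlgHom K S (ResidueField S)).comp B.val
  let m : Ideal B := RingHom.ker (f : B →+* ResidueField S)
  have hmem : ∀ b : B, b ∈ m ↔ (b : S) ∈ maximalIdeal S := by
    intro b
    rw [RingHom.mem_ker, ← residue_eq_zero_iff]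
    rfl
  haveI hprime : m.IsPrime := RingHom.ker_isPrime _
  have hsub : m.primeCompl = Algebra.EssFiniteType.submonoid K S := by
    ext b
    rw [Ideal.mem_primeCompl_iff, hmem, IsLocalRing.mem_maximalIdeal, mem_nonunits_iff, not_not]
    rfl
  haveI hloc : IsLocalization m.primeCompl S := by
    rw [hsub]; exact Algebra.EssFiniteType.isLocalization K S
  have hinj : Function.Injective (Ideal.kerLiftAlg f) := Ideal.kerLiftAlg_injective f
  haveI : Algebra.IsIntegral K (B ⧸ m) := by
    refine ⟨fun x => ?_⟩
    rw [← isAlgebraic_iff_isIntegral]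
    exact (isAlgebraic_algHom_iff (Ideal.kerLiftAlg f) hinj).mp
      (Algebra.IsAlgebraic.isAlgebraic _)
  have hfield : IsField (B ⧸ m) :=
    isField_of_isIntegral_of_isField' (Field.toIsField K)
  have hmax : m.IsMaximal := Ideal.Quotient.maximal_of_isField m hfield
  refine ⟨B, inferInstance, inferInstance, inferInstance, inferInstance, inferInstance, m, hmax,
    ⟨?_⟩⟩
  exact ((IsLocalization.algEquiv m.primeCompl (Localization.AtPrime m) S).restrictScalars k).symm

end Step2

section Step1

variable (k : Type u) [Field k] (S : Type u) [CommRing S] [IsLocalRing S] [Algebra k S]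

theorem exists_field :
    ∃ (K : Type u) (_ : Field K) (_ : Algebra k K) (_ : Algebra K S) (_ : IsScalarTower k K S),
      Algebra.IsAlgebraic K (ResidueField S) := by
  obtain ⟨ι, tb, htb⟩ := exists_isTranscendenceBasis' k (ResidueField S)
  choose t ht using fun i => residue_surjective (tb i)
  let φ₀ : MvPolynomial ι k →ₐ[k] S := MvPolynomial.aeval t
  have hφ₀ : ∀ p, residue S (φ₀ p) = MvPolynomial.aeval tb p := by
    intro p
    have : (IsScalarTower.toAlgHom k S (ResidueField S)).comp φ₀ = MvPolynomial.aeval tb := by
      apply MvPolynomial.algHom_ext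
      intro i
      simp only [φ₀, AlgHom.comp_apply, MvPolynomial.aeval_X]
      exact ht i
    exact DFunLike.congr_fun this p
  have hunit : ∀ p : nonZeroDivisors (MvPolynomial ι k), IsUnit (φ₀.toRingHom p) := by
    intro p
    have hp : (p : MvPolynomial ι k) ≠ 0 := nonZeroDivisors.ne_zero p.2
    have h1 : MvPolynomial.aeval tb (p : MvPolynomial ι k) ≠ 0 := by
      intro h
      exact hp (algebraicIndependent_iff_injective_aeval.mp htb.1 (by rw [h, map_zero]))
    by_contra hnu
    have : φ₀ (p : MvPolynomial ι k) ∈ maximalIdeal S := (IsLocalRing.mem_maximalIdeal _).mpr hnu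
    rw [← residue_eq_zero_iff, hφ₀] at this
    exact h1 this
  let φ : FractionRing (MvPolynomial ι k) →+* S :=
    IsLocalization.lift (M := nonZeroDivisors (MvPolynomial ι k)) (g := φ₀.toRingHom) hunit
  letI : Algebra (FractionRing (MvPolynomial ι k)) S := φ.toAlgebra
  have hφ : ∀ p, φ (algebraMap (MvPolynomial ι k) (FractionRing (MvPolynomial ι k)) p) = φ₀ p :=
    fun p => IsLocalization.lift_eq _ p
  haveI : IsScalarTower k (FractionRing (MvPolynomial ι k)) S := by
    refine IsScalarTower.of_algebraMap_eq fun c => ?_
    rw [IsScalarTower.algebraMap_apply k (MvPolynomial ι k) (FractionRing (MvPolynomial ι k))]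
    show _ = φ _
    rw [hφ, AlgHom.commutes]
  refine ⟨FractionRing (MvPolynomial ι k), inferInstance, inferInstance, inferInstance,
    inferInstance, ?_⟩
  haveI := htb.isAlgebraic
  let e := htb.1.aevalEquiv
  let f : (Algebra.adjoin k (Set.range tb)) →+* FractionRing (MvPolynomial ι k) :=
    (algebraMap (MvPolynomial ι k) (FractionRing (MvPolynomial ι k))).comp
      (e.symm : _ →+* MvPolynomial ι k)
  refine Algebra.IsAlgebraic.ringHom_of_comp_eq (R := Algebra.adjoin k (Set.range tb))
    (A := ResidueField S) f (RingHom.id (ResidueField S)) ?_ Function.surjective_id ?_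
  · exact (IsFractionRing.injective _ _).comp e.symm.injective
  · ext x
    obtain ⟨p, rfl⟩ := e.surjective x
    simp only [f, RingHom.comp_apply, RingHom.coe_coe, AlgEquiv.symm_apply_apply, RingHom.id_apply]
    show residue S (φ _) = _
    rw [hφ, hφ₀]
    rfl

end Step1

section Final

variable (k : Type u) [Field k] (S : Type u) [CommRing S] [IsDomain S] [IsLocalRing S] [Algebra k S]

theorem main [Algebra.EssFiniteType k S] :
    ∃ (K : Type u) (_ : Field K) (_ : Algebra k K) (A : Type u) (_ : CommRing A) (_ : Algebra K A)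
      (_ : Algebra k A) (_ : IsScalarTower k K A) (_ : Algebra.FiniteType K A) (m : Ideal A)
      (_ : m.IsMaximal), Nonempty (S ≃ₐ[k] Localization.AtPrime m) := by
  obtain ⟨K, _, _, _, _, _⟩ := exists_field k S
  obtain ⟨A, i1, i2, i3, i4, i5, m, hm, h⟩ := main_of_field k S K
  exact ⟨K, inferInstance, inferInstance, A, i1, i2, i3, i4, i5, m, hm, h⟩

end Final

end Groth.Agent.Lib.Helper24.EssFT1
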