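import Mathlib

/-!
# Étale charts `k[x₁,…,x_d] → R[1/g]` inducing an isomorphism of residue fields
(finite residue field case).
-/

set_option autoImplicit false
open TensorProduct KaehlerDifferential

universe u

namespace Groth.Agent.Lib.Helper24.EtaleChart

section LemmaA

variable (k : Type u) [CommRing k] (R : Type u) [CommRing R] [Algebra k R] (m : Ideal R)

/-- If `Ω[(R/m)/k] = 0`, every element of `(R/m) ⊗ Ω[R/k]` is `1 ⊗ D a` with `a ∈ m`. -/
theorem exists_mem_tmul_D_eq [Subsingleton Ω[(R ⧸ m)⁄k]] (v : (R ⧸ m) ⊗[R] Ω[R⁄k]) :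
    ∃ a ∈ m, (1 : R ⧸ m) ⊗ₜ[R] D k R a = v := by
  have hex := KaehlerDifferential.exact_kerCotangentToTensor_mapBaseChange k R (R ⧸ m)
    Ideal.Quotient.mk_surjective
  obtain ⟨c, hc⟩ := (hex v).1 (Subsingleton.elim _ _)
  obtain ⟨x, rfl⟩ := Ideal.toCotangent_surjective _ c
  refine ⟨x.1, ?_, ?_⟩
  · have h2 : (x : R) ∈ RingHom.ker (algebraMap R (R ⧸ m)) := x.2
    rw [RingHom.mem_ker] at h2
    exact Ideal.Quotient.eq_zero_iff_mem.1 h2
  · rw [← hc, KaehlerDifferential.kerCotangentToTensor_toCotangent]

end LemmaA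

section LemmaB

variable (k : Type u) [CommRing k] [IsLocalRing k] [Finite (IsLocalRing.ResidueField k)]
  (R : Type u) [CommRing R] [Algebra k R] [Algebra.FiniteType k R]
  (m : Ideal R) [m.IsMaximal]

include k in
theorem finite_quotient (hm : m.comap (algebraMap k R) = IsLocalRing.maximalIdeal k) :
    Finite (R ⧸ m) := by
  haveI : m.LiesOver (IsLocalRing.maximalIdeal k) := ⟨hm.symm⟩
  letI : Field (R ⧸ m) := Ideal.Quotient.field m
  haveI : Algebra.FiniteType k (R ⧸ m) :=
    Algebra.FiniteType.of_surjective (Ideal.Quotient.mkₐ k m) (Ideal.Quotient.mkₐ_surjective k m)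
  haveI : Algebra.FiniteType (k ⧸ IsLocalRing.maximalIdeal k) (R ⧸ m) :=
    Algebra.FiniteType.of_restrictScalars_finiteType k _ _
  haveI : Finite (k ⧸ IsLocalRing.maximalIdeal k) := ‹Finite (IsLocalRing.ResidueField k)›
  haveI : Module.Finite (k ⧸ IsLocalRing.maximalIdeal k) (R ⧸ m) :=
    finite_of_finite_type_of_isJacobsonRing _ _
  exact Module.finite_of_finite (k ⧸ IsLocalRing.maximalIdeal k)

include k in
theorem subsingleton_kaehler_quotient
    (hm : m.comap (algebraMap k R) = IsLocalRing.maximalIdeal k) :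
    Subsingleton Ω[(R ⧸ m)⁄k] := by
  haveI : m.LiesOver (IsLocalRing.maximalIdeal k) := ⟨hm.symm⟩
  letI : Field (R ⧸ m) := Ideal.Quotient.field m
  letI : Field (k ⧸ IsLocalRing.maximalIdeal k) :=
    Ideal.Quotient.field (IsLocalRing.maximalIdeal k)
  haveI : Finite (R ⧸ m) := finite_quotient k R m hm
  haveI : Finite (k ⧸ IsLocalRing.maximalIdeal k) := ‹Finite (IsLocalRing.ResidueField k)›
  haveI : Algebra.FormallyUnramified k (k ⧸ IsLocalRing.maximalIdeal k) :=
    Algebra.FormallyUnramified.of_surjective (Algebra.ofId k _) Ideal.Quotient.mk_surjective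
  haveI : Algebra.FormallyUnramified (k ⧸ IsLocalRing.maximalIdeal k) (R ⧸ m) :=
    Algebra.FormallyUnramified.of_isSeparable _ _
  haveI : Algebra.FormallyUnramified k (R ⧸ m) :=
    Algebra.FormallyUnramified.comp k (k ⧸ IsLocalRing.maximalIdeal k) (R ⧸ m)
  infer_instance

include k in
theorem exists_chart_elements
    (hm : m.comap (algebraMap k R) = IsLocalRing.maximalIdeal k) (d : ℕ) (hd : 0 < d)
    (hdim : Module.finrank (R ⧸ m) ((R ⧸ m) ⊗[R] Ω[R⁄k]) = d) :
    ∃ f : Fin d → R,
      Function.Bijective (Finsupp.linearCombination (R ⧸ m)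
        (fun i => (1 : R ⧸ m) ⊗ₜ[R] D k R (f i))) ∧
      ∀ r : R, r ∈ m ∨ ∃ j : ℕ, r - (f ⟨0, hd⟩) ^ j ∈ m := by
  classical
  letI : Field (R ⧸ m) := Ideal.Quotient.field m
  haveI : Finite (R ⧸ m) := finite_quotient k R m hm
  haveI : Subsingleton Ω[(R ⧸ m)⁄k] := subsingleton_kaehler_quotient k R m hm
  letI : Fintype (R ⧸ m) := Fintype.ofFinite _
  haveI : Module.Finite (R ⧸ m) ((R ⧸ m) ⊗[R] Ω[R⁄k]) :=
    Module.finite_of_finrank_pos (hdim ▸ hd)
  let b : Module.Basis (Fin d) (R ⧸ m) ((R ⧸ m) ⊗[R] Ω[R⁄k]) := Module.finBasisOfFinrankEq _ _ hdim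
  choose a ha hab using fun i => exists_mem_tmul_D_eq k R m (b i)
  obtain ⟨θ, hθ⟩ := IsCyclic.exists_monoid_generator (α := (R ⧸ m)ˣ)
  obtain ⟨c, hc⟩ := Ideal.Quotient.mk_surjective (θ : R ⧸ m)
  set q := Fintype.card (R ⧸ m) with hq
  set i0 : Fin d := ⟨0, hd⟩ with hi0
  set f : Fin d → R := Function.update a i0 (a i0 + c ^ q) with hf
  have hqK : ((q : ℕ) : R ⧸ m) = 0 := Nat.cast_card_eq_zero (R ⧸ m)
  have hfb : ∀ i, (1 : R ⧸ m) ⊗ₜ[R] D k R (f i) = b i := by
    intro i
    by_cases hi : i = i0
    · subst hi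
      rw [hf, Function.update_self, map_add, TensorProduct.tmul_add, hab,
        Derivation.leibniz_pow, add_eq_left]
      rw [← Nat.cast_smul_eq_nsmul R, TensorProduct.tmul_smul, TensorProduct.smul_tmul',
        ← Algebra.algebraMap_eq_smul_one, map_natCast, hqK, TensorProduct.zero_tmul]
    · rw [hf, Function.update_of_ne hi, hab]
  have hfθ : Ideal.Quotient.mk m (f i0) = θ := by
    rw [hf, Function.update_self, map_add, map_pow, hc, Ideal.Quotient.eq_zero_iff_mem.2 (ha i0),
      zero_add, hq, FiniteField.pow_card]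
  refine ⟨f, ?_, ?_⟩
  · have : (fun i => (1 : R ⧸ m) ⊗ₜ[R] D k R (f i)) = b := funext hfb
    rw [this, ← Module.Basis.coe_repr_symm]
    exact b.repr.symm.bijective
  · intro r
    by_cases hr : r ∈ m
    · exact Or.inl hr
    · right
      have hr0 : Ideal.Quotient.mk m r ≠ 0 := fun h => hr (Ideal.Quotient.eq_zero_iff_mem.1 h)
      obtain ⟨j, hj⟩ := hθ (Units.mk0 _ hr0)
      refine ⟨j, ?_⟩
      rw [← Ideal.Quotient.eq_zero_iff_mem, map_sub, map_pow, hfθ, sub_eq_zero]
      have := congrArg Units.val hj
      simpa using this.symm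

end LemmaB

section LemmaD

variable (k : Type u) [CommRing k] (R : Type u) [CommRing R] [Algebra k R]
  (m : Ideal R) [m.IsMaximal]

/-- The `R`-linear equivalence `R/m ≃ κ(R_m)`. -/
noncomputable def resEquiv : (R ⧸ m) ≃ₗ[R] IsLocalRing.ResidueField (Localization.AtPrime m) :=
  LinearEquiv.ofBijective
    (IsScalarTower.toAlgHom R (R ⧸ m) m.ResidueField).toLinearMap
    (Ideal.bijective_algebraMap_quotient_residueField m)

theorem resEquiv_one : resEquiv R m 1 = 1 :=
  map_one (algebraMap (R ⧸ m) m.ResidueField)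

theorem resEquiv_mk (r : R) :
    resEquiv R m (Ideal.Quotient.mk m r) =
      algebraMap R (IsLocalRing.ResidueField (Localization.AtPrime m)) r :=
  Ideal.algebraMap_quotient_residueField_mk m r

/-- The fibre of `Ω[R/k]` at `m` agrees with the fibre of `Ω[R_m/k]` at the closed point. -/
noncomputable def fibreEquiv :
    (R ⧸ m) ⊗[R] Ω[R⁄k] ≃ₗ[R]
      IsLocalRing.ResidueField (Localization.AtPrime m) ⊗[Localization.AtPrime m]
        Ω[Localization.AtPrime m⁄k] :=
  haveI : Algebra.FormallyEtale R (Localization.AtPrime m) :=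
    Algebra.FormallyEtale.of_isLocalization m.primeCompl
  (TensorProduct.congr (resEquiv R m) (LinearEquiv.refl R Ω[R⁄k])) ≪≫ₗ
    (((KaehlerDifferential.isBaseChange_of_formallyEtale k R
      (Localization.AtPrime m)).tensorEquiv
        (IsLocalRing.ResidueField (Localization.AtPrime m))).symm.restrictScalars R)

theorem fibreEquiv_tmul_D (a : R) :
    fibreEquiv k R m ((1 : R ⧸ m) ⊗ₜ[R] D k R a) =
      (1 : IsLocalRing.ResidueField (Localization.AtPrime m)) ⊗ₜ[Localization.AtPrime m]
        D k (Localization.AtPrime m) (algebraMap R (Localization.AtPrime m) a) := by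
  haveI : Algebra.FormallyEtale R (Localization.AtPrime m) :=
    Algebra.FormallyEtale.of_isLocalization m.primeCompl
  simp only [fibreEquiv, LinearEquiv.trans_apply, TensorProduct.congr_tmul, resEquiv_one,
    LinearEquiv.refl_apply, LinearEquiv.restrictScalars_apply, IsBaseChange.tensorEquiv,
    LinearEquiv.trans_symm, LinearEquiv.trans_apply,
    TensorProduct.AlgebraTensorModule.cancelBaseChange_symm_tmul]
  simp [IsBaseChange.equiv_tmul]

theorem linearCombination_fibre (d : ℕ) (f : Fin d → R) (r : Fin d → R) :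
    Finsupp.linearCombination (IsLocalRing.ResidueField (Localization.AtPrime m))
      (TensorProduct.mk (Localization.AtPrime m)
        (IsLocalRing.ResidueField (Localization.AtPrime m)) Ω[Localization.AtPrime m⁄k] 1 ∘
          fun i => D k (Localization.AtPrime m) (algebraMap R (Localization.AtPrime m) (f i)))
      ((Finsupp.linearEquivFunOnFinite (IsLocalRing.ResidueField (Localization.AtPrime m))
        (IsLocalRing.ResidueField (Localization.AtPrime m)) (Fin d)).symm fun i =>
        algebraMap R (IsLocalRing.ResidueField (Localization.AtPrime m)) (r i)) =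
    fibreEquiv k R m (Finsupp.linearCombination (R ⧸ m)
      (fun i => (1 : R ⧸ m) ⊗ₜ[R] D k R (f i))
      ((Finsupp.linearEquivFunOnFinite (R ⧸ m) (R ⧸ m) (Fin d)).symm
        fun i => Ideal.Quotient.mk m (r i))) := by
  rw [Finsupp.linearCombination_eq_fintype_linearCombination_apply,
    Finsupp.linearCombination_eq_fintype_linearCombination_apply,
    Fintype.linearCombination_apply, Fintype.linearCombination_apply, map_sum]
  refine Finset.sum_congr rfl fun i _ => ?_
  rw [algebraMap_smul, ← Ideal.Quotient.algebraMap_eq, algebraMap_smul, map_smul,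
    fibreEquiv_tmul_D]
  rfl

theorem bijective_linearCombination_localization (d : ℕ) (f : Fin d → R)
    (hb : Function.Bijective (Finsupp.linearCombination (R ⧸ m)
      (fun i => (1 : R ⧸ m) ⊗ₜ[R] D k R (f i)))) :
    Function.Bijective
      (Finsupp.linearCombination (IsLocalRing.ResidueField (Localization.AtPrime m))
        (TensorProduct.mk (Localization.AtPrime m)
          (IsLocalRing.ResidueField (Localization.AtPrime m)) Ω[Localization.AtPrime m⁄k] 1 ∘
            fun i => D k (Localization.AtPrime m) (algebraMap R (Localization.AtPrime m) (f i)))) := by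
  constructor
  · rw [← LinearMap.ker_eq_bot, LinearMap.ker_eq_bot']
    intro c hc
    choose r hr using fun i => Ideal.algebraMap_residueField_surjective m (c i)
    have hc' : c = (Finsupp.linearEquivFunOnFinite (IsLocalRing.ResidueField (Localization.AtPrime m))
        (IsLocalRing.ResidueField (Localization.AtPrime m)) (Fin d)).symm fun i =>
        algebraMap R (IsLocalRing.ResidueField (Localization.AtPrime m)) (r i) := by
      ext i; simp [hr]
    rw [hc', linearCombination_fibre, LinearEquiv.map_eq_zero_iff] at hc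
    have h0 := (injective_iff_map_eq_zero _).1 hb.1 _ hc
    ext i
    have h1 : Ideal.Quotient.mk m (r i) = 0 := by
      have := DFunLike.congr_fun h0 i
      simpa using this
    rw [← hr i, ← resEquiv_mk, h1, map_zero]
    rfl
  · intro y
    obtain ⟨c', hc'⟩ := hb.2 ((fibreEquiv k R m).symm y)
    choose r hr using fun i => Ideal.Quotient.mk_surjective (c' i)
    refine ⟨(Finsupp.linearEquivFunOnFinite (IsLocalRing.ResidueField (Localization.AtPrime m))
        (IsLocalRing.ResidueField (Localization.AtPrime m)) (Fin d)).symm fun i =>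
        algebraMap R (IsLocalRing.ResidueField (Localization.AtPrime m)) (r i), ?_⟩
    rw [linearCombination_fibre]
    have : ((Finsupp.linearEquivFunOnFinite (R ⧸ m) (R ⧸ m) (Fin d)).symm
        fun i => Ideal.Quotient.mk m (r i)) = c' := by
      ext i; simp [hr]
    rw [this, hc', LinearEquiv.apply_symm_apply]

end LemmaD

section LemmaE

variable (k : Type u) [CommRing k] (P : Type u) [CommRing P] [Algebra k P]
  (S : Type u) [CommRing S] [Algebra k S] [Algebra P S] [IsScalarTower k P S]

/-- Jacobian criterion: if `S` is formally smooth over `k` and `S ⊗[P] Ω[P/k] → Ω[S/k]` is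
bijective, then `S` is formally étale over `P`. -/
theorem formallyEtale_of_mapBaseChange_bijective [Algebra.FormallySmooth k S]
    (h : Function.Bijective (KaehlerDifferential.mapBaseChange k P S)) :
    Algebra.FormallyEtale P S := by
  refine ⟨?_, ?_⟩
  · -- `Ω[S/P] = 0`
    refine ⟨fun x y => ?_⟩
    have hx : ∀ z : Ω[S⁄P], z = 0 := by
      intro z
      obtain ⟨w, rfl⟩ := KaehlerDifferential.map_surjective k P S z
      obtain ⟨t, rfl⟩ := h.2 w
      exact (KaehlerDifferential.exact_mapBaseChange_map k P S _).2 ⟨t, rfl⟩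
    rw [hx x, hx y]
  · refine ⟨fun x y => ?_⟩
    have hx : ∀ z : Algebra.H1Cotangent P S, z = 0 := by
      intro z
      have h1 : Algebra.H1Cotangent.δ k P S z = 0 := by
        apply h.1
        rw [map_zero]
        exact (Algebra.H1Cotangent.exact_δ_mapBaseChange k P S _).2 ⟨z, rfl⟩
      obtain ⟨y, rfl⟩ := (Algebra.H1Cotangent.exact_map_δ k P S z).1 h1
      rw [Subsingleton.elim y 0, map_zero]
    rw [hx x, hx y]

end LemmaE

section LemmaF

variable (k : Type u) [CommRing k] (d : ℕ)
  (S : Type u) [CommRing S] [Algebra k S] [Algebra (MvPolynomial (Fin d) k) S]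
  [IsScalarTower k (MvPolynomial (Fin d) k) S]

theorem mapBaseChange_bijective_of_basis
    (h : Function.Bijective (Finsupp.linearCombination S fun i : Fin d =>
      D k S (algebraMap (MvPolynomial (Fin d) k) S (MvPolynomial.X i)))) :
    Function.Bijective (KaehlerDifferential.mapBaseChange k (MvPolynomial (Fin d) k) S) := by
  let B : Module.Basis (Fin d) S (S ⊗[MvPolynomial (Fin d) k] Ω[MvPolynomial (Fin d) k⁄k]) :=
    (KaehlerDifferential.mvPolynomialBasis k (Fin d)).baseChange S
  have key : KaehlerDifferential.mapBaseChange k (MvPolynomial (Fin d) k) S =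
      (Finsupp.linearCombination S fun i : Fin d =>
        D k S (algebraMap (MvPolynomial (Fin d) k) S (MvPolynomial.X i))) ∘ₗ
        B.repr.toLinearMap := by
    apply B.ext
    intro i
    rw [LinearMap.comp_apply, LinearEquiv.coe_coe, Module.Basis.repr_self,
      Finsupp.linearCombination_single, one_smul]
    simp [B, Module.Basis.baseChange_apply]
  rw [key]
  exact h.comp B.repr.bijective

end LemmaF

section Main

variable (k : Type u) [CommRing k] (R : Type u) [CommRing R] [Algebra k R]
  [Algebra.FiniteType k R] (m : Ideal R) [m.IsMaximal]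

theorem isEtaleAt_of_basis (d : ℕ) [Algebra (MvPolynomial (Fin d) k) R]
    [IsScalarTower k (MvPolynomial (Fin d) k) R] [Algebra.IsSmoothAt k m]
    (hb : Function.Bijective (Finsupp.linearCombination (R ⧸ m)
      (fun i => (1 : R ⧸ m) ⊗ₜ[R]
        D k R (algebraMap (MvPolynomial (Fin d) k) R (MvPolynomial.X i))))) :
    Algebra.IsEtaleAt (MvPolynomial (Fin d) k) m := by
  haveI : IsScalarTower k (MvPolynomial (Fin d) k) (Localization.AtPrime m) :=
    IsScalarTower.of_algebraMap_eq' (by
      rw [IsScalarTower.algebraMap_eq k R (Localization.AtPrime m),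
        IsScalarTower.algebraMap_eq (MvPolynomial (Fin d) k) R (Localization.AtPrime m),
        RingHom.comp_assoc, ← IsScalarTower.algebraMap_eq k (MvPolynomial (Fin d) k) R])
  haveI : Algebra.FormallySmooth k (Localization.AtPrime m) := ‹Algebra.IsSmoothAt k m›
  haveI : Algebra.EssFiniteType R (Localization.AtPrime m) :=
    Algebra.EssFiniteType.of_isLocalization _ m.primeCompl
  haveI : Algebra.EssFiniteType k (Localization.AtPrime m) :=
    Algebra.EssFiniteType.comp k R _
  have h1 := bijective_linearCombination_localization k R m d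
    (fun i => algebraMap (MvPolynomial (Fin d) k) R (MvPolynomial.X i)) hb
  have h2 := Module.IsLocalRing.linearCombination_bijective_of_flat _ h1
  show Algebra.FormallyEtale (MvPolynomial (Fin d) k) (Localization.AtPrime m)
  apply formallyEtale_of_mapBaseChange_bijective k
  apply mapBaseChange_bijective_of_basis
  have : (fun i : Fin d => D k (Localization.AtPrime m)
      (algebraMap (MvPolynomial (Fin d) k) (Localization.AtPrime m) (MvPolynomial.X i))) =
      fun i => D k (Localization.AtPrime m) (algebraMap R (Localization.AtPrime m)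
        (algebraMap (MvPolynomial (Fin d) k) R (MvPolynomial.X i))) := by
    funext i
    rw [← IsScalarTower.algebraMap_apply]
  rw [this]
  exact h2

end Main

section Final

theorem exists_etale_chart
    (k : Type u) [CommRing k] [IsLocalRing k] [Finite (IsLocalRing.ResidueField k)]
    (R : Type u) [CommRing R] [Algebra k R] [Algebra.FinitePresentation k R]
    (m : Ideal R) [m.IsMaximal] (hm : m.comap (algebraMap k R) = IsLocalRing.maximalIdeal k)
    [Algebra.IsSmoothAt k m] (d : ℕ) (hd : 0 < d)
    (hdim : Module.finrank (R ⧸ m) ((R ⧸ m) ⊗[R] Ω[R⁄k]) = d) :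
    ∃ g : R, g ∉ m ∧ ∃ φ : MvPolynomial (Fin d) k →ₐ[k] Localization.Away g,
      φ.toRingHom.Etale ∧
      Function.Surjective
        ((Ideal.Quotient.mk (m.map (algebraMap R (Localization.Away g)))).comp φ.toRingHom) := by
  obtain ⟨f, hfb, hfr⟩ := exists_chart_elements k R m hm d hd hdim
  letI : Algebra (MvPolynomial (Fin d) k) R :=
    (MvPolynomial.aeval f : MvPolynomial (Fin d) k →ₐ[k] R).toRingHom.toAlgebra
  haveI : IsScalarTower k (MvPolynomial (Fin d) k) R :=
    IsScalarTower.of_algebraMap_eq'
      (MvPolynomial.aeval f : MvPolynomial (Fin d) k →ₐ[k] R).comp_algebraMap.symm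
  have hX : ∀ i, algebraMap (MvPolynomial (Fin d) k) R (MvPolynomial.X i) = f i :=
    fun i => MvPolynomial.aeval_X f i
  haveI : Algebra.IsEtaleAt (MvPolynomial (Fin d) k) m :=
    isEtaleAt_of_basis k R m d (by simpa only [hX] using hfb)
  haveI : Algebra.FinitePresentation (MvPolynomial (Fin d) k) R :=
    Algebra.FinitePresentation.of_restrict_scalars_finitePresentation k _ _
  obtain ⟨g, hg, hge⟩ := Algebra.exists_etale_of_isEtaleAt (R := MvPolynomial (Fin d) k) m
  haveI : IsScalarTower k (MvPolynomial (Fin d) k) (Localization.Away g) :=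
    IsScalarTower.of_algebraMap_eq' (by
      rw [IsScalarTower.algebraMap_eq k R (Localization.Away g),
        IsScalarTower.algebraMap_eq (MvPolynomial (Fin d) k) R (Localization.Away g),
        RingHom.comp_assoc, ← IsScalarTower.algebraMap_eq k (MvPolynomial (Fin d) k) R])
  refine ⟨g, hg, IsScalarTower.toAlgHom k (MvPolynomial (Fin d) k) (Localization.Away g), ?_, ?_⟩
  · exact RingHom.etale_algebraMap.2 hge
  · intro y
    have hdisj : Disjoint (Submonoid.powers g : Set R) (m : Set R) :=
      (Ideal.disjoint_powers_iff_notMem_of_isPrime _).mpr hg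
    haveI : (m.map (algebraMap R (Localization.Away g))).IsPrime :=
      IsLocalization.isPrime_of_isPrime_disjoint (.powers g) _ _ inferInstance hdisj
    have hunder : (m.map (algebraMap R (Localization.Away g))).under R = m :=
      IsLocalization.under_map_of_isPrime_disjoint (.powers g) _ inferInstance hdisj
    have hsurj := IsLocalization.surjective_quotientMap_of_maximal_of_localization
      (M := .powers g) (S := Localization.Away g)
      (I := m.map (algebraMap R (Localization.Away g))) (J := m) (H := hunder.ge)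
      (by rw [hunder]; infer_instance)
    obtain ⟨x, hx⟩ := hsurj y
    obtain ⟨r, rfl⟩ := Ideal.Quotient.mk_surjective x
    rw [Ideal.quotientMap_mk] at hx
    rcases hfr r with hr | ⟨j, hj⟩
    · refine ⟨0, ?_⟩
      rw [map_zero, ← hx]
      exact (Ideal.Quotient.eq_zero_iff_mem.2 (Ideal.mem_map_of_mem _ hr)).symm
    · refine ⟨MvPolynomial.X ⟨0, hd⟩ ^ j, ?_⟩
      rw [← hx]
      show Ideal.Quotient.mk _ (algebraMap (MvPolynomial (Fin d) k) (Localization.Away g)
        (MvPolynomial.X ⟨0, hd⟩ ^ j)) = _
      rw [IsScalarTower.algebraMap_apply (MvPolynomial (Fin d) k) R (Localization.Away g),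
        map_pow, hX]
      symm
      rw [Ideal.Quotient.eq, ← map_sub]
      exact Ideal.mem_map_of_mem _ hj

end Final

end Groth.Agent.Lib.Helper24.EtaleChart
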