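import Mathlib
import Groth.Agent.Lib.Helper24.EtaleHomLift

/-!
# Maps between finite étale algebras over a henselian local ring and their special fibres
-/

open IsLocalRing TensorProduct

namespace Groth.Agent.Lib.Helper24.EtaleHomLift

universe u

section BaseChange

variable (R : Type*) [CommRing R] [IsLocalRing R] (S : Type*) [CommRing S] [Algebra R S]

/-- `S/mS ≃ κ ⊗ S`. -/
noncomputable def quotEquivTensor :
    (S ⧸ Ideal.map (algebraMap R S) (maximalIdeal R)) ≃ₐ[R] ResidueField R ⊗[R] S :=
  (Algebra.TensorProduct.quotIdealMapEquivQuotTensor S (maximalIdeal R)).restrictScalars R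

theorem quotEquivTensor_mk (y : S) :
    quotEquivTensor R S (Ideal.Quotient.mk _ y) = 1 ⊗ₜ y := rfl

end BaseChange

theorem bijective_baseChange (R : Type u) [CommRing R]
    [HenselianLocalRing R] (S₁ S₂ : Type u) [CommRing S₁] [CommRing S₂] [Algebra R S₁]
    [Algebra R S₂] [Algebra.Etale R S₁] [Module.Finite R S₂] :
    Function.Bijective (fun φ : S₁ →ₐ[R] S₂ =>
      Algebra.TensorProduct.map (AlgHom.id (ResidueField R) (ResidueField R)) φ) := by
  have hbij := bijective_comp_mk (A := R) S₂ S₁
  constructor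
  · intro φ₁ φ₂ h
    apply hbij.1
    apply AlgHom.ext
    intro x
    have h1 := congrArg (fun g => g (1 ⊗ₜ x)) h
    simp only [Algebra.TensorProduct.map_tmul, AlgHom.id_apply] at h1
    apply (quotEquivTensor R S₂).injective
    simp only [AlgHom.comp_apply, Ideal.Quotient.mkₐ_eq_mk, quotEquivTensor_mk]
    exact h1
  · intro g
    let ψ : S₁ →ₐ[R] S₂ ⧸ Ideal.map (algebraMap R S₂) (maximalIdeal R) :=
      (quotEquivTensor R S₂).symm.toAlgHom.comp
        ((g.restrictScalars R).comp Algebra.TensorProduct.includeRight)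
    obtain ⟨φ, hφ⟩ := hbij.2 ψ
    refine ⟨φ, ?_⟩
    apply Algebra.TensorProduct.ext
    · ext
    · apply AlgHom.ext
      intro x
      have h1 := congrArg (fun f => quotEquivTensor R S₂ (f x)) hφ
      simp only [AlgHom.comp_apply, Ideal.Quotient.mkₐ_eq_mk, quotEquivTensor_mk, ψ] at h1
      simpa using h1

end Groth.Agent.Lib.Helper24.EtaleHomLift
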