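import Mathlib
import Groth.Prelude.Def_ProEtW
import Groth.Agent.Lib.Helper24.Henselization
import Groth.Agent.Lib.Helper24.FiniteEtaleLift

/-!
# Rings over which faithfully flat étale algebras have retractions have strictly henselian
local rings at maximal ideals
-/

open Polynomial IsLocalRing

namespace Groth.Agent.Lib.Helper24.EtaleRetractions

universe u

section Prod

variable {A : Type*} [CommRing A] (X Y : Type u) [CommRing X] [CommRing Y] [Algebra A X]
  [Algebra A Y]

/-- two-element family of types -/
def Fam : Bool → Type u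
  | true => X
  | false => Y

instance famCommRing : ∀ b, CommRing (Fam X Y b)
  | true => (inferInstance : CommRing X)
  | false => (inferInstance : CommRing Y)

instance famAlgebra : ∀ b, Algebra A (Fam X Y b)
  | true => (inferInstance : Algebra A X)
  | false => (inferInstance : Algebra A Y)

instance famEtale [Algebra.Etale A X] [Algebra.Etale A Y] : ∀ b, Algebra.Etale A (Fam X Y b)
  | true => (inferInstance : Algebra.Etale A X)
  | false => (inferInstance : Algebra.Etale A Y)

/-- the product as a Pi type -/
def famEquiv : (Π b, Fam X Y b) ≃ₐ[A] X × Y where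
  toFun f := (f true, f false)
  invFun p := fun b => match b with
    | true => p.1
    | false => p.2
  left_inv f := by
    funext b
    cases b <;> rfl
  right_inv p := rfl
  map_mul' f g := rfl
  map_add' f g := rfl
  commutes' a := rfl

theorem etale_prod [Algebra.Etale A X] [Algebra.Etale A Y] : Algebra.Etale A (X × Y) :=
  Algebra.Etale.of_equiv (famEquiv (A := A) X Y)

end Prod

section Core

variable (A : Type u) [CommRing A] (h : ProEtW.HasEtaleRetractions A) (m : Ideal A) [hm : m.IsMaximal]

theorem idempotent_local {R : Type*} [CommRing R] [IsLocalRing R] (e : R)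
    (he : IsIdempotentElem e) : e = 0 ∨ e = 1 := by
  have h0 : e * (1 - e) = 0 := by rw [mul_sub, mul_one, he.eq, sub_self]
  rcases IsLocalRing.isUnit_or_isUnit_one_sub_self e with hu | hu
  · right
    have := (hu.mul_right_eq_zero).1 h0
    exact (sub_eq_zero.1 this).symm
  · left
    exact (hu.mul_left_eq_zero).1 h0

include h in
/-- Core lemma: an étale algebra with a point over `m` maps to the local ring at `m`. -/
theorem exists_algHom_localization (B₁ : Type u) [CommRing B₁] [Algebra A B₁]
    [Algebra.Etale A B₁] (q : Ideal B₁) [hq : q.IsPrime]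
    (hqm : q.comap (algebraMap A B₁) = m) :
    Nonempty (B₁ →ₐ[A] Localization.AtPrime m) := by
  classical
  -- the image of `Spec B₁` is open
  have hopen : IsOpen (Set.range (PrimeSpectrum.comap (algebraMap A B₁))) :=
    (PrimeSpectrum.isOpenMap_comap_of_hasGoingDown_of_finitePresentation
      (R := A) (S := B₁)).isOpen_range
  set U : Set (PrimeSpectrum A) := Set.range (PrimeSpectrum.comap (algebraMap A B₁)) with hU
  have hmU : (⟨m, hm.isPrime⟩ : PrimeSpectrum A) ∈ U :=
    ⟨⟨q, hq⟩, PrimeSpectrum.ext hqm⟩
  have hclosed : IsClosed Uᶜ := hopen.isClosed_compl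
  have hzl : PrimeSpectrum.zeroLocus (PrimeSpectrum.vanishingIdeal Uᶜ : Set A) = Uᶜ := by
    rw [PrimeSpectrum.zeroLocus_vanishingIdeal_eq_closure, hclosed.closure_eq]
  have hnle : ¬ (PrimeSpectrum.vanishingIdeal Uᶜ ≤ m) := by
    intro hle
    have : (⟨m, hm.isPrime⟩ : PrimeSpectrum A) ∈ Uᶜ := by
      rw [← hzl, PrimeSpectrum.mem_zeroLocus]
      exact hle
    exact this hmU
  obtain ⟨j, hjJ, hjm⟩ := Set.not_subset.1 hnle
  obtain ⟨a, μ, hμ, haj⟩ := hm.exists_inv hjm
  -- the covering algebra
  have hcover : ∀ p : PrimeSpectrum A, p ∉ U → μ ∉ p.asIdeal := by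
    intro p hp hμp
    have hjp : j ∈ p.asIdeal := by
      have : p ∈ PrimeSpectrum.zeroLocus (PrimeSpectrum.vanishingIdeal Uᶜ : Set A) := by
        rw [hzl]
        exact hp
      exact (PrimeSpectrum.mem_zeroLocus _ _).1 this hjJ
    have : (1 : A) ∈ p.asIdeal := by
      rw [← haj]
      exact p.asIdeal.add_mem (p.asIdeal.mul_mem_left _ hjp) hμp
    exact p.isPrime.ne_top ((Ideal.eq_top_iff_one _).2 this)
  have hEt : Algebra.Etale A (B₁ × Localization.Away μ) := etale_prod B₁ (Localization.Away μ)
  have hflat : Module.Flat A (B₁ × Localization.Away μ) := inferInstance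
  have hff : Module.FaithfullyFlat A (B₁ × Localization.Away μ) := by
    apply Module.FaithfullyFlat.of_comap_surjective
    intro p
    by_cases hp : p ∈ U
    · obtain ⟨q', rfl⟩ := hp
      refine ⟨⟨q'.asIdeal.comap (RingHom.fst B₁ (Localization.Away μ)), inferInstance⟩, ?_⟩
      apply PrimeSpectrum.ext
      show Ideal.comap (algebraMap A (B₁ × Localization.Away μ))
        (Ideal.comap (RingHom.fst B₁ (Localization.Away μ)) q'.asIdeal) = _
      rw [Ideal.comap_comap]
      rfl
    · have hμp := hcover p hp
      have hdisj : Disjoint (Submonoid.powers μ : Set A) (p.asIdeal : Set A) := by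
        rw [Set.disjoint_left]
        rintro x ⟨n, rfl⟩ hx
        exact hμp (p.isPrime.mem_of_pow_mem n hx)
      have hprime := IsLocalization.isPrime_of_isPrime_disjoint (Submonoid.powers μ)
        (Localization.Away μ) p.asIdeal p.isPrime hdisj
      have hcomap := IsLocalization.under_map_of_isPrime_disjoint (Submonoid.powers μ)
        (Localization.Away μ) p.isPrime hdisj
      refine ⟨⟨(Ideal.map (algebraMap A (Localization.Away μ)) p.asIdeal).comap
        (RingHom.snd B₁ (Localization.Away μ)), ?_⟩, ?_⟩
      · have := hprime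
        exact Ideal.comap_isPrime _ _
      · apply PrimeSpectrum.ext
        show Ideal.comap (algebraMap A (B₁ × Localization.Away μ))
          (Ideal.comap (RingHom.snd B₁ (Localization.Away μ)) _) = _
        rw [Ideal.comap_comap]
        exact hcomap
  obtain ⟨ρ⟩ := h (B₁ × Localization.Away μ) hff hEt
  let ρm : B₁ × Localization.Away μ →ₐ[A] Localization.AtPrime m :=
    (Algebra.ofId A (Localization.AtPrime m)).comp ρ
  have he : IsIdempotentElem (ρm (1, 0)) := by
    have : IsIdempotentElem ((1, 0) : B₁ × Localization.Away μ) := by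
      show ((1, 0) : B₁ × Localization.Away μ) * (1, 0) = (1, 0)
      simp
    exact this.map ρm
  have hsum : ρm (1, 0) + ρm (0, 1) = 1 := by
    rw [← map_add, Prod.mk_add_mk, add_zero, zero_add, ← Prod.one_eq_mk, map_one]
  have he1 : ρm (1, 0) = 1 := by
    rcases idempotent_local _ he with h0 | h1
    · exfalso
      rw [h0, zero_add] at hsum
      -- `μ` becomes a unit
      obtain ⟨v, hv⟩ := (IsLocalization.Away.algebraMap_isUnit (S := Localization.Away μ) μ).exists_right_inv
      have h1 : ρm (0, algebraMap A (Localization.Away μ) μ) * ρm (0, v) = 1 := by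
        rw [← map_mul, Prod.mk_mul_mk, zero_mul, hv, hsum]
      have h2 : ρm (0, algebraMap A (Localization.Away μ) μ) =
          algebraMap A (Localization.AtPrime m) μ := by
        have : ((0, algebraMap A (Localization.Away μ) μ) : B₁ × Localization.Away μ) =
            μ • ((0, 1) : B₁ × Localization.Away μ) := by
          rw [Prod.smul_mk, smul_zero, Algebra.smul_def, mul_one]
        rw [this, map_smul, hsum, Algebra.smul_def, mul_one]
      rw [h2] at h1
      have h3 : IsUnit (algebraMap A (Localization.AtPrime m) μ) := IsUnit.of_mul_eq_one _ h1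
      rw [IsLocalization.AtPrime.isUnit_to_map_iff (Localization.AtPrime m) m] at h3
      exact h3 hμ
    · exact h1
  let L : B₁ →ₗ[A] Localization.AtPrime m :=
    ρm.toLinearMap ∘ₗ LinearMap.inl A B₁ (Localization.Away μ)
  refine ⟨AlgHom.ofLinearMap L ?_ ?_⟩
  · show ρm (1, 0) = 1
    exact he1
  · intro x y
    show ρm (x * y, 0) = ρm (x, 0) * ρm (y, 0)
    rw [← map_mul, Prod.mk_mul_mk, mul_zero]

end Core

section Main

open Groth.Agent.Lib.helper24.Henselization

variable (A : Type u) [CommRing A] (h : ProEtW.HasEtaleRetractions A) (m : Ideal A) [hm : m.IsMaximal]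

theorem exists_sub_mem (r : Localization.AtPrime m) :
    ∃ x : A, r - algebraMap A (Localization.AtPrime m) x ∈ maximalIdeal (Localization.AtPrime m) := by
  let e := IsLocalization.AtPrime.equivQuotMaximalIdeal m (Localization.AtPrime m)
  obtain ⟨x, hx⟩ := Ideal.Quotient.mk_surjective (e.symm (Ideal.Quotient.mk _ r))
  refine ⟨x, ?_⟩
  have h1 : e (Ideal.Quotient.mk _ x) = Ideal.Quotient.mk _ r := by
    rw [hx, RingEquiv.apply_symm_apply]
  rw [IsLocalization.AtPrime.equivQuotMaximalIdeal_apply_mk] at h1
  exact Ideal.Quotient.eq.1 h1.symm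

theorem eval_mem_of_sub_mem {R : Type*} [CommRing R] (I : Ideal R) (p : R[X]) (x y : R)
    (hxy : x - y ∈ I) (hx : p.eval x ∈ I) : p.eval y ∈ I := by
  obtain ⟨w, hw⟩ := Polynomial.sub_dvd_eval_sub x y p
  have : p.eval y = p.eval x - (x - y) * w := by rw [← hw]; ring
  rw [this]
  exact I.sub_mem hx (I.mul_mem_right _ hxy)

theorem isUnit_eval_of_sub_mem {R : Type*} [CommRing R] [IsLocalRing R] (p : R[X]) (x y : R)
    (hxy : x - y ∈ maximalIdeal R) (hx : IsUnit (p.eval x)) : IsUnit (p.eval y) := by
  by_contra hy
  have hy' : p.eval y ∈ maximalIdeal R := hy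
  have hyx : y - x ∈ maximalIdeal R := by
    rw [← neg_sub]
    exact neg_mem hxy
  exact eval_mem_of_sub_mem _ p y x hyx hy' hx

include h in
theorem henselian_localization : HenselianLocalRing (Localization.AtPrime m) := by
  refine ⟨fun f hf a₀ h0 h1 => ?_⟩
  obtain ⟨s, -, hcoef⟩ := exists_common_denom (R := A) (S := Localization.AtPrime m)
    m.primeCompl f a₀
  set σ : Localization.AtPrime m := algebraMap A (Localization.AtPrime m) s with hσdef
  have hσ : IsUnit σ := IsLocalization.map_units (Localization.AtPrime m) s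
  have hlift := scaleRoots_mem_lifts (algebraMap A (Localization.AtPrime m)) f hf (s : A) hcoef
  have hsm : (scaleRoots f σ).Monic := (Polynomial.monic_scaleRoots_iff σ).2 hf
  obtain ⟨F, hFq, -, hF⟩ := Polynomial.lifts_and_natDegree_eq_and_monic hlift hsm
  obtain ⟨hs0, hs1⟩ := scaled_conditions f σ a₀ hσ h0 h1
  obtain ⟨α, hα⟩ := exists_sub_mem A m (σ * a₀)
  have hq0 : (scaleRoots f σ).eval (algebraMap A (Localization.AtPrime m) α) ∈
      maximalIdeal (Localization.AtPrime m) := eval_mem_of_sub_mem _ _ _ _ hα hs0
  have hq1 : IsUnit ((scaleRoots f σ).derivative.eval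
      (algebraMap A (Localization.AtPrime m) α)) := isUnit_eval_of_sub_mem _ _ _ hα hs1
  obtain ⟨hev0, hev1⟩ := eval_lift_eq (algebraMap A (Localization.AtPrime m)) F _ hFq α
  have hFα : F.eval α ∈ m := by
    rw [← IsLocalization.AtPrime.to_map_mem_maximal_iff (Localization.AtPrime m) m, hev0]
    exact hq0
  have hF'α : F.derivative.eval α ∉ m := by
    have hu : IsUnit (algebraMap A (Localization.AtPrime m) (F.derivative.eval α)) := by
      rw [hev1]
      exact hq1
    exact (IsLocalization.AtPrime.isUnit_to_map_iff (Localization.AtPrime m) m _).1 hu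
  -- division by `X - α`
  set G : A[X] := F /ₘ (X - C α) with hG
  have hdiv : F = C (F.eval α) + (X - C α) * G := by
    have := Polynomial.modByMonic_add_div F (X - C α)
    rw [Polynomial.modByMonic_X_sub_C_eq_C_eval] at this
    exact this.symm
  have hGα : G.eval α = F.derivative.eval α := by
    have := congrArg (fun p => (derivative p).eval α) hdiv
    simp only [derivative_add, derivative_C, zero_add, derivative_mul, derivative_sub,
      derivative_X, sub_zero, one_mul, eval_add, eval_mul, eval_sub, eval_X, eval_C, sub_self,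
      zero_mul, add_zero] at this
    exact this.symm
  let P : StandardEtalePair A :=
    { f := F
      monic_f := hF
      g := derivative F * G
      cond := ⟨G, 0, 1, by ring⟩ }
  let _ : Field (A ⧸ m) := Ideal.Quotient.field m
  have hP : P.HasMap (Ideal.Quotient.mk m α) := by
    constructor
    · show aeval (Ideal.Quotient.mk m α) F = 0
      rw [← Ideal.Quotient.mkₐ_eq_mk A, Polynomial.aeval_algHom_apply,
        Polynomial.coe_aeval_eq_eval, Ideal.Quotient.mkₐ_eq_mk, Ideal.Quotient.eq_zero_iff_mem]
      exact hFα
    · show IsUnit (aeval (Ideal.Quotient.mk m α) (derivative F * G))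
      rw [← Ideal.Quotient.mkₐ_eq_mk A, Polynomial.aeval_algHom_apply,
        Polynomial.coe_aeval_eq_eval, Ideal.Quotient.mkₐ_eq_mk, eval_mul, hGα, isUnit_iff_ne_zero,
        Ne, Ideal.Quotient.eq_zero_iff_mem]
      intro hmem
      rcases hm.isPrime.mem_or_mem hmem with h' | h' <;> exact hF'α h'
  let χ : P.Ring →ₐ[A] A ⧸ m := P.lift _ hP
  have hqm : (RingHom.ker χ.toRingHom).comap (algebraMap A P.Ring) = m := by
    ext x
    rw [Ideal.mem_comap, RingHom.mem_ker]
    show χ (algebraMap A P.Ring x) = 0 ↔ _
    rw [χ.commutes, Ideal.Quotient.algebraMap_eq, Ideal.Quotient.eq_zero_iff_mem]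
  have hprime : (RingHom.ker χ.toRingHom).IsPrime := RingHom.ker_isPrime _
  obtain ⟨φ⟩ := exists_algHom_localization A h m P.Ring (RingHom.ker χ.toRingHom) hqm
  have hroot : P.HasMap (φ P.X) := StandardEtalePair.hasMap_X.map φ
  obtain ⟨hr0, hr1⟩ := hroot
  have hr0' : (scaleRoots f σ).eval (φ P.X) = 0 := by
    have : aeval (φ P.X) F = 0 := hr0
    rw [← hFq, Polynomial.eval_map_algebraMap]
    exact this
  have hGu : IsUnit (aeval (φ P.X) G) := by
    have : IsUnit (aeval (φ P.X) (derivative F * G)) := hr1
    rw [map_mul] at this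
    exact isUnit_of_mul_isUnit_right this
  have hclose : φ P.X - algebraMap A (Localization.AtPrime m) α ∈
      maximalIdeal (Localization.AtPrime m) := by
    have h2 := congrArg (fun p => aeval (φ P.X) p) hdiv
    simp only [map_add, map_mul, map_sub, aeval_X, aeval_C] at h2
    have h3 : aeval (φ P.X) F = 0 := hr0
    rw [h3] at h2
    have h4 : (φ P.X - algebraMap A (Localization.AtPrime m) α) * aeval (φ P.X) G =
        -algebraMap A (Localization.AtPrime m) (F.eval α) := by
      linear_combination -h2
    have h5 : (φ P.X - algebraMap A (Localization.AtPrime m) α) * aeval (φ P.X) G ∈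
        maximalIdeal (Localization.AtPrime m) := by
      rw [h4]
      apply neg_mem
      rw [IsLocalization.AtPrime.to_map_mem_maximal_iff (Localization.AtPrime m) m]
      exact hFα
    rcases (Ideal.IsPrime.mem_or_mem inferInstance h5) with h6 | h6
    · exact h6
    · exact absurd hGu ((mem_maximalIdeal _).1 h6)
  have hβm : φ P.X - (RingHom.id _) (σ * a₀) ∈ maximalIdeal (Localization.AtPrime m) := by
    have : φ P.X - σ * a₀ = (φ P.X - algebraMap A (Localization.AtPrime m) α) -
        (σ * a₀ - algebraMap A (Localization.AtPrime m) α) := by ring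
    rw [RingHom.id_apply, this]
    exact Ideal.sub_mem _ hclose hα
  obtain ⟨y, hy0, hym⟩ := root_of_scaled (RingHom.id (Localization.AtPrime m)) f σ a₀ hσ (φ P.X)
    (by rw [Polynomial.map_id]; exact hr0') hβm
  rw [Polynomial.map_id] at hy0
  exact ⟨y, hy0, hym⟩

include h in
theorem isSepClosed_residueField_localization :
    IsSepClosed (ResidueField (Localization.AtPrime m)) := by
  apply IsSepClosed.of_exists_root
  intro p hp hirr hsep
  have hψsurj : Function.Surjective (algebraMap A (ResidueField (Localization.AtPrime m))) := by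
    intro z
    obtain ⟨r, rfl⟩ := residue_surjective z
    obtain ⟨x, hx⟩ := exists_sub_mem A m r
    refine ⟨x, ?_⟩
    rw [IsScalarTower.algebraMap_apply A (Localization.AtPrime m), eq_comm, ← sub_eq_zero,
      IsLocalRing.ResidueField.algebraMap_eq, ← map_sub, residue_eq_zero_iff]
    exact hx
  obtain ⟨F, hFp, -, hF⟩ := Polynomial.lifts_and_natDegree_eq_and_monic
    (Polynomial.mem_lifts_of_surjective
      (f := algebraMap A (ResidueField (Localization.AtPrime m))) hψsurj p) hp
  let P : StandardEtalePair A :=
    { f := F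
      monic_f := hF
      g := derivative F
      cond := ⟨1, 0, 1, by ring⟩ }
  have := Fact.mk hirr
  have hroot0 : aeval (AdjoinRoot.root p) F = 0 := by
    rw [Polynomial.aeval_def]
    exact Groth.Agent.Lib.Helper24.FiniteEtaleLift.eval₂_root_of_map F p hFp
  have hroot1 : aeval (AdjoinRoot.root p) (derivative F) ≠ 0 := by
    have h1 : aeval (AdjoinRoot.root p) p = 0 := by
      rw [AdjoinRoot.aeval_eq, AdjoinRoot.mk_self]
    have h2 := hsep.aeval_derivative_ne_zero h1
    have hder : derivative p = (derivative F).map
        (algebraMap A (ResidueField (Localization.AtPrime m))) := by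
      rw [← hFp, Polynomial.derivative_map]
    rw [hder, Polynomial.aeval_map_algebraMap] at h2
    exact h2
  have hP : P.HasMap (AdjoinRoot.root p) := ⟨hroot0, isUnit_iff_ne_zero.2 hroot1⟩
  let χ : P.Ring →ₐ[A] AdjoinRoot p := P.lift _ hP
  have hqm : (RingHom.ker χ.toRingHom).comap (algebraMap A P.Ring) = m := by
    ext x
    rw [Ideal.mem_comap, RingHom.mem_ker]
    show χ (algebraMap A P.Ring x) = 0 ↔ _
    rw [χ.commutes, IsScalarTower.algebraMap_apply A (ResidueField (Localization.AtPrime m))
      (AdjoinRoot p), map_eq_zero_iff _ (algebraMap (ResidueField (Localization.AtPrime m))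
      (AdjoinRoot p)).injective, IsScalarTower.algebraMap_apply A (Localization.AtPrime m),
      IsLocalRing.ResidueField.algebraMap_eq, residue_eq_zero_iff,
      IsLocalization.AtPrime.to_map_mem_maximal_iff (Localization.AtPrime m) m]
  have hprime : (RingHom.ker χ.toRingHom).IsPrime := RingHom.ker_isPrime _
  obtain ⟨φ⟩ := exists_algHom_localization A h m P.Ring (RingHom.ker χ.toRingHom) hqm
  have hroot : P.HasMap (φ P.X) := StandardEtalePair.hasMap_X.map φ
  have hr0 : aeval (φ P.X) F = 0 := hroot.1
  refine ⟨residue _ (φ P.X), ?_⟩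
  have h3 := congrArg (residue (Localization.AtPrime m)) hr0
  rw [map_zero, Polynomial.aeval_def, Polynomial.hom_eval₂] at h3
  rw [← hFp, Polynomial.eval_map]
  exact h3

include h in
theorem isStrictlyHenselian_localization :
    EtCoh.IsStrictlyHenselianLocalRing (Localization.AtPrime m) :=
  ⟨henselian_localization A h m, isSepClosed_residueField_localization A h m⟩

end Main

end Groth.Agent.Lib.Helper24.EtaleRetractions
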