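import Mathlib
import Groth.Prelude.Def_CAlgX
import Groth.Agent.Lib.Helper24.FSFlat1
import Groth.Agent.Lib.Helper24.FSLift
import Groth.Agent.Lib.Helper24.AdicLiftAlg

/-!
# Core step of EGA 0_IV 19.7.1 (helper24)

`core`: `B` flat Noetherian over `A`, `B̄ = B/𝔪B` adically formally smooth over `k = A/𝔪`; then maps
`ψ : B → D'` killing a power of `𝔫` lift along surjections `g : D → D'` whose kernel is square-zero and
killed by `𝔪`.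
-/

set_option autoImplicit false
universe u

namespace Groth.Agent.Lib.Helper24.FSFlat

open Ideal Quotient Groth.Agent.Lib.Helper24.AdicLift Groth.Agent.Lib.Helper24.AdicLiftAlg

theorem exists_artinRees {B : Type u} [CommRing B] [IsNoetherianRing B] (I J : Ideal B) (r : ℕ) :
    ∃ r' : ℕ, r ≤ r' ∧ I ^ r' ⊓ J ≤ J * I ^ r := by
  obtain ⟨k, hk⟩ := Ideal.exists_pow_inf_eq_pow_smul I (J : Submodule B B)
  refine ⟨k + r, Nat.le_add_left _ _, ?_⟩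
  have h1 := hk (k + r) (Nat.le_add_right _ _)
  rw [Nat.add_sub_cancel_left] at h1
  have h2 : (I ^ (k + r) • (⊤ : Submodule B B)) = I ^ (k + r) := by
    rw [smul_eq_mul, Ideal.mul_top]
  rw [h2] at h1
  rw [h1, smul_eq_mul, mul_comm]
  exact Ideal.mul_mono_left inf_le_right

section core

variable {A B k Bbar : Type u} [CommRing A] [CommRing B] [Algebra A B] [CommRing k] [CommRing Bbar]
  [Algebra k Bbar] (𝔪 : Ideal A) (𝔫 : Ideal B) (π : A →+* k) (ρ : B →+* Bbar)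
  {D D' : Type u} [CommRing D] [CommRing D'] [Algebra A D] [Algebra A D'] (g : D →ₐ[A] D')
  (ψ : B →ₐ[A] D') {E : Type u} [CommRing E] [Algebra A E] (P₁ : E →ₐ[A] B) (P₂ : E →ₐ[A] D)

/-- The ideal `(𝔫^s × 0) ∩ E` of the pullback. -/
def Is (s : ℕ) : Ideal E :=
  (𝔫 ^ s).comap (P₁ : E →+* B) ⊓ RingHom.ker (P₂ : E →+* D)

theorem mem_Is {s : ℕ} {e : E} : e ∈ Is 𝔫 P₁ P₂ s ↔ P₁ e ∈ 𝔫 ^ s ∧ P₂ e = 0 := Iff.rfl

theorem map_map_p₁ : (𝔪.map (algebraMap A E)).map (P₁ : E →+* B) =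
    𝔪.map (algebraMap A B) := by
  rw [Ideal.map_map, AlgHom.comp_algebraMap]

theorem inf_eq_bot (hsurj : Function.Surjective P₁)
    (hext : ∀ e e' : E, P₁ e = P₁ e' → P₂ e = P₂ e' → e = e')
    (hex : ∀ b, ψ b = 0 → ∃ e, P₁ e = b ∧ P₂ e = 0)
    (hflat : ∀ e ∈ 𝔪.map (algebraMap A E), P₁ e = 0 → e = 0) (r r' : ℕ)
    (hψ : ∀ x ∈ 𝔫 ^ r, ψ x = 0)
    (hAR : 𝔫 ^ r' ⊓ 𝔪.map (algebraMap A B) ≤ 𝔪.map (algebraMap A B) * 𝔫 ^ r) :
    RingHom.ker (P₁ : E →+* B) ⊓ (𝔪.map (algebraMap A E) ⊔ Is 𝔫 P₁ P₂ r') = ⊥ := by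
  rw [eq_bot_iff]
  intro e he
  have he1 : P₁ e = 0 := (Submodule.mem_inf.1 he).1
  obtain ⟨x, hx, y, hy, hxy⟩ := Submodule.mem_sup.1 (Submodule.mem_inf.1 he).2
  have hp1x : P₁ x ∈ 𝔪.map (algebraMap A B) := by
    rw [← map_map_p₁ 𝔪 P₁]
    exact Ideal.mem_map_of_mem (P₁ : E →+* B) hx
  have hy1 : P₁ y ∈ 𝔫 ^ r' ⊓ 𝔪.map (algebraMap A B) := by
    refine Submodule.mem_inf.2 ⟨((mem_Is 𝔫 P₁ P₂).1 hy).1, ?_⟩
    have h0 : P₁ x + P₁ y = 0 := by rw [← map_add, hxy]; exact he1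
    have h1 : P₁ y = - P₁ x := by linear_combination h0
    rw [h1]
    exact neg_mem hp1x
  have hy2 := hAR hy1
  have hmapI : (Is 𝔫 P₁ P₂ r).map (P₁ : E →+* B) = 𝔫 ^ r := by
    apply le_antisymm
    · rw [Ideal.map_le_iff_le_comap]
      exact inf_le_left
    · intro β hβ
      obtain ⟨e, he1, he2⟩ := hex β (hψ β hβ)
      rw [← he1]
      exact Ideal.mem_map_of_mem (P₁ : E →+* B)
        ((mem_Is 𝔫 P₁ P₂).2 ⟨by rw [he1]; exact hβ, he2⟩)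
  rw [← map_map_p₁ 𝔪 P₁, ← hmapI, ← Ideal.map_mul] at hy2
  obtain ⟨y', hy', hyy'⟩ :=
    (Ideal.mem_map_iff_of_surjective (P₁ : E →+* B) hsurj).1 hy2
  have hle1 : 𝔪.map (algebraMap A E) * Is 𝔫 P₁ P₂ r ≤ 𝔪.map (algebraMap A E) := Ideal.mul_le_left
  have hle2 : 𝔪.map (algebraMap A E) * Is 𝔫 P₁ P₂ r ≤ Is 𝔫 P₁ P₂ r := Ideal.mul_le_right
  have hy'1 : y' ∈ 𝔪.map (algebraMap A E) := hle1 hy'
  have hy'3 : y' ∈ Is 𝔫 P₁ P₂ r := hle2 hy'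
  have hy'2 : P₂ y' = 0 := ((mem_Is 𝔫 P₁ P₂).1 hy'3).2
  have hyeq : y = y' := hext _ _ hyy'.symm (((mem_Is 𝔫 P₁ P₂).1 hy).2.trans hy'2.symm)
  have h3 : e ∈ 𝔪.map (algebraMap A E) := by
    rw [← hxy, hyeq]
    exact add_mem hx hy'1
  rw [hflat e h3 he1]
  exact Submodule.zero_mem _

theorem mem_sup_of_map_mem (hsurj : Function.Surjective P₁)
    (hex : ∀ b, ψ b = 0 → ∃ e, P₁ e = b ∧ P₂ e = 0)
    (hρ : Function.Surjective ρ)
    (hker : RingHom.ker ρ = 𝔪.map (algebraMap A B)) (r r' : ℕ) (hrr' : r ≤ r')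
    (hψ : ∀ x ∈ 𝔫 ^ r, ψ x = 0) (e : E) (he : ρ (P₁ e) ∈ (𝔫.map ρ) ^ r') :
    e ∈ RingHom.ker (P₁ : E →+* B) ⊔ (𝔪.map (algebraMap A E) ⊔ Is 𝔫 P₁ P₂ r') := by
  rw [← Ideal.map_pow] at he
  obtain ⟨β, hβ, hβe⟩ := (Ideal.mem_map_iff_of_surjective ρ hρ).1 he
  have h1 : P₁ e - β ∈ 𝔪.map (algebraMap A B) := by
    rw [← hker, RingHom.mem_ker, map_sub, hβe, sub_self]
  rw [← map_map_p₁ 𝔪 P₁] at h1
  obtain ⟨x, hx, hxe⟩ :=
    (Ideal.mem_map_iff_of_surjective (P₁ : E →+* B) hsurj).1 h1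
  obtain ⟨y, hy1, hy2⟩ := hex β (hψ β (Ideal.pow_le_pow_right hrr' hβ))
  have hy : y ∈ Is 𝔫 P₁ P₂ r' := (mem_Is 𝔫 P₁ P₂).2 ⟨by rw [hy1]; exact hβ, hy2⟩
  have hsplit : e = (e - x - y) + (x + y) := by ring
  rw [hsplit]
  refine Submodule.add_mem_sup ?_ (Submodule.add_mem_sup hx hy)
  rw [RingHom.mem_ker]
  show P₁ (e - x - y) = 0
  have hxe' : P₁ x = P₁ e - β := hxe
  rw [map_sub, map_sub, hxe', hy1]
  ring

theorem core_abstract [IsNoetherianRing B]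
    (hπ : Function.Surjective π) (hπk : RingHom.ker π ≤ 𝔪)
    (hρ : Function.Surjective ρ) (hker : RingHom.ker ρ = 𝔪.map (algebraMap A B))
    (hρπ : ρ.comp (algebraMap A B) = (algebraMap k Bbar).comp π)
    (hfs : CAlgX.IsAdicFormallySmooth k Bbar (𝔫.map ρ))
    (hsurj : Function.Surjective P₁)
    (hext : ∀ e e' : E, P₁ e = P₁ e' → P₂ e = P₂ e' → e = e')
    (hex : ∀ b, ψ b = 0 → ∃ e, P₁ e = b ∧ P₂ e = 0)
    (hflat : ∀ e ∈ 𝔪.map (algebraMap A E), P₁ e = 0 → e = 0)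
    (hmul : ∀ e e' : E, P₁ e = 0 → P₁ e' = 0 → e * e' = 0)
    (hgp : ∀ e, g (P₂ e) = ψ (P₁ e))
    (hψ : ∃ r : ℕ, ∀ x ∈ 𝔫 ^ r, ψ x = 0) : ∃ χ : B →ₐ[A] D, g.comp χ = ψ := by
  classical
  obtain ⟨r, hψ⟩ := hψ
  obtain ⟨r', hrr', hAR⟩ := exists_artinRees 𝔫 (𝔪.map (algebraMap A B)) r
  have hbot := inf_eq_bot 𝔪 𝔫 ψ P₁ P₂ hsurj hext hex hflat r r' hψ hAR
  generalize h𝔞 : 𝔪.map (algebraMap A E) ⊔ Is 𝔫 P₁ P₂ r' = 𝔞 at hbot
  generalize hN : RingHom.ker (P₁ : E →+* B) = N' at hbot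
  have hN' : ∀ e, e ∈ N' ↔ P₁ e = 0 := fun e => by rw [← hN]; rfl
  -- the map `q : E/𝔞 → B̄/𝔫̄^r'`
  have hq0 : ∀ e ∈ 𝔞,
      ((Ideal.Quotient.mk ((𝔫.map ρ) ^ r')).comp (ρ.comp (P₁ : E →+* B))) e = 0 := by
    intro e he
    rw [← h𝔞] at he
    obtain ⟨x, hx, y, hy, rfl⟩ := Submodule.mem_sup.1 he
    show Ideal.Quotient.mk ((𝔫.map ρ) ^ r') (ρ (P₁ (x + y))) = 0
    rw [Ideal.Quotient.eq_zero_iff_mem, map_add, map_add]
    refine add_mem ?_ ?_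
    · have h1 : P₁ x ∈ 𝔪.map (algebraMap A B) := by
        rw [← map_map_p₁ 𝔪 P₁]
        exact Ideal.mem_map_of_mem (P₁ : E →+* B) hx
      rw [← hker, RingHom.mem_ker] at h1
      rw [h1]
      exact Submodule.zero_mem _
    · rw [← Ideal.map_pow]
      exact Ideal.mem_map_of_mem ρ ((mem_Is 𝔫 P₁ P₂).1 hy).1
  let q : E ⧸ 𝔞 →+* Bbar ⧸ (𝔫.map ρ) ^ r' := Ideal.Quotient.lift _ _ hq0
  have hq : ∀ e : E, q (Ideal.Quotient.mk _ e) = Ideal.Quotient.mk _ (ρ (P₁ e)) :=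
    fun e => rfl
  have hqsurj : Function.Surjective q := by
    intro z
    obtain ⟨b', rfl⟩ := Ideal.Quotient.mk_surjective z
    obtain ⟨b, rfl⟩ := hρ b'
    obtain ⟨e, rfl⟩ := hsurj b
    exact ⟨Ideal.Quotient.mk _ e, rfl⟩
  have hqker : ∀ e : E, q (Ideal.Quotient.mk _ e) = 0 →
      ∃ n : E, P₁ n = 0 ∧ Ideal.Quotient.mk 𝔞 e = Ideal.Quotient.mk _ n := by
    intro e he
    rw [hq, Ideal.Quotient.eq_zero_iff_mem] at he
    have h1 := mem_sup_of_map_mem 𝔪 𝔫 ρ ψ P₁ P₂ hsurj hex hρ hker r r' hrr' hψ e he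
    rw [h𝔞] at h1
    obtain ⟨n, hn, a, ha, rfl⟩ := Submodule.mem_sup.1 h1
    exact ⟨n, hn, by rw [map_add, Ideal.Quotient.eq_zero_iff_mem.2 ha, add_zero]⟩
  have hqsq : RingHom.ker q ^ 2 = ⊥ := by
    rw [eq_bot_iff, pow_two, Ideal.mul_le]
    intro z hz w hw
    obtain ⟨e, rfl⟩ := Ideal.Quotient.mk_surjective z
    obtain ⟨e', rfl⟩ := Ideal.Quotient.mk_surjective w
    obtain ⟨n, hn, h1⟩ := hqker e hz
    obtain ⟨n', hn', h2⟩ := hqker e' hw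
    rw [h1, h2, ← map_mul, hmul n n' hn hn', map_zero]
    exact Submodule.zero_mem _
  -- the structure map `κ : k → E/𝔞`
  have hκ0 : RingHom.ker π ≤ RingHom.ker (algebraMap A (E ⧸ 𝔞)) := by
    intro a ha
    rw [RingHom.mem_ker]
    show Ideal.Quotient.mk _ (algebraMap A E a) = 0
    rw [Ideal.Quotient.eq_zero_iff_mem, ← h𝔞]
    exact Ideal.mem_sup_left (Ideal.mem_map_of_mem _ (hπk ha))
  let κ : k →+* E ⧸ 𝔞 := RingHom.liftOfSurjective π hπ ⟨_, hκ0⟩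
  have hκ : ∀ a : A, κ (π a) = Ideal.Quotient.mk _ (algebraMap A E a) := fun a =>
    RingHom.liftOfSurjective_comp_apply π hπ ⟨_, hκ0⟩ a
  have hf : (Ideal.Quotient.mk ((𝔫.map ρ) ^ r')).comp (algebraMap k Bbar) = q.comp κ := by
    apply RingHom.ext
    intro c
    obtain ⟨a, rfl⟩ := hπ c
    show Ideal.Quotient.mk ((𝔫.map ρ) ^ r') (algebraMap k Bbar (π a)) = q (κ (π a))
    rw [hκ, hq]
    have h1 : ρ (algebraMap A B a) = algebraMap k Bbar (π a) := RingHom.congr_fun hρπ a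
    rw [← h1, AlgHom.commutes]
  obtain ⟨f', hf'1, hf'2⟩ := FSLift.exists_lift_surj hfs κ q hqsurj hqsq
    (Ideal.Quotient.mk ((𝔫.map ρ) ^ r')) hf
    ⟨r', fun x hx => Ideal.Quotient.eq_zero_iff_mem.2 hx⟩
  have hf'2' : ∀ x, q (f' x) = Ideal.Quotient.mk _ x := fun x => RingHom.congr_fun hf'2 x
  have hf'1' : ∀ c, f' (algebraMap k Bbar c) = κ c := fun c => RingHom.congr_fun hf'1 c
  -- the map `a₁ : B → E/N'`
  have ha₁ex : ∃ a₁ : B →+* E ⧸ N', ∀ e : E, a₁ (P₁ e) = Ideal.Quotient.mk _ e := by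
    let e₁ : (E ⧸ RingHom.ker (P₁ : E →+* B)) ≃+* B :=
      RingHom.quotientKerEquivOfSurjective (f := (P₁ : E →+* B)) hsurj
    have he₁ : ∀ e : E, e₁ (Ideal.Quotient.mk _ e) = P₁ e := fun e => rfl
    refine ⟨((Ideal.quotEquivOfEq hN : _ ≃+* E ⧸ N').toRingHom).comp
      e₁.symm.toRingHom, fun e => ?_⟩
    show Ideal.quotEquivOfEq hN (e₁.symm (P₁ e)) = _
    have : e₁.symm (P₁ e) = Ideal.Quotient.mk _ e := by
      rw [RingEquiv.symm_apply_eq, he₁]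
    rw [this, Ideal.quotEquivOfEq_mk]
  obtain ⟨a₁, ha₁⟩ := ha₁ex
  have hcompat : (factor (le_sup_left : N' ≤ N' ⊔ 𝔞)).comp a₁ =
      (factor (le_sup_right : 𝔞 ≤ N' ⊔ 𝔞)).comp (f'.comp ρ) := by
    apply RingHom.ext
    intro b
    obtain ⟨e, rfl⟩ := hsurj b
    show factor (le_sup_left : N' ≤ N' ⊔ 𝔞) (a₁ (P₁ e)) =
      factor (le_sup_right : 𝔞 ≤ N' ⊔ 𝔞) (f' (ρ (P₁ e)))
    rw [ha₁, factor_mk]
    obtain ⟨e'', he''⟩ := Ideal.Quotient.mk_surjective (f' (ρ (P₁ e)))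
    rw [← he'', factor_mk, Ideal.Quotient.eq]
    have h0 : q (Ideal.Quotient.mk _ (e - e'')) = 0 := by
      rw [map_sub, map_sub, he'', hf'2', hq, sub_self]
    obtain ⟨n, hn, h1⟩ := hqker _ h0
    rw [Ideal.Quotient.eq] at h1
    have hsplit : e - e'' = n + (e - e'' - n) := by ring
    rw [hsplit]
    exact Submodule.add_mem_sup ((hN' n).2 hn) h1
  let ebot : E ⧸ (N' ⊓ 𝔞) ≃+* E := (Ideal.quotEquivOfEq hbot).trans (RingEquiv.quotientBot _)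
  have hebot : ∀ e : E, ebot (Ideal.Quotient.mk _ e) = e := fun e => rfl
  let σ : B →+* E := (ebot : _ →+* E).comp (glue N' 𝔞 a₁ (f'.comp ρ) hcompat)
  have hσmk : ∀ b : B, Ideal.Quotient.mk _ (σ b) = glue N' 𝔞 a₁ (f'.comp ρ) hcompat b := by
    intro b
    obtain ⟨e, he⟩ := Ideal.Quotient.mk_surjective (glue N' 𝔞 a₁ (f'.comp ρ) hcompat b)
    show Ideal.Quotient.mk _ (ebot (glue N' 𝔞 a₁ (f'.comp ρ) hcompat b)) = _
    rw [← he, hebot]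
  have hσ1 : ∀ b : B, P₁ (σ b) = b := by
    intro b
    have h1 := RingHom.congr_fun (factor_left_comp_glue N' 𝔞 a₁ (f'.comp ρ) hcompat) b
    rw [RingHom.comp_apply, ← hσmk, factor_mk] at h1
    obtain ⟨e, rfl⟩ := hsurj b
    rw [ha₁, Ideal.Quotient.eq, hN', map_sub, sub_eq_zero] at h1
    exact h1
  have hσ2 : ∀ a : A, σ (algebraMap A B a) = algebraMap A E a := by
    intro a
    have h1 := glue_comp (algebraMap A B) (algebraMap A E) N' 𝔞 a₁ (f'.comp ρ) hcompat ?_ ?_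
    · have h2 := RingHom.congr_fun h1 a
      rw [RingHom.comp_apply, RingHom.comp_apply] at h2
      show ebot (glue N' 𝔞 a₁ (f'.comp ρ) hcompat (algebraMap A B a)) = _
      rw [h2, hebot]
    · apply RingHom.ext
      intro a
      show a₁ (algebraMap A B a) = Ideal.Quotient.mk _ (algebraMap A E a)
      rw [← ha₁, AlgHom.commutes]
    · apply RingHom.ext
      intro a
      show f' (ρ (algebraMap A B a)) = Ideal.Quotient.mk _ (algebraMap A E a)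
      have h1 : ρ (algebraMap A B a) = algebraMap k Bbar (π a) := RingHom.congr_fun hρπ a
      rw [h1, hf'1', hκ]
  refine ⟨{ toRingHom := (P₂ : E →+* D).comp σ
            commutes' := fun a => ?_ }, ?_⟩
  · show P₂ (σ (algebraMap A B a)) = algebraMap A D a
    rw [hσ2, AlgHom.commutes]
  · apply AlgHom.ext
    intro b
    show g (P₂ (σ b)) = ψ b
    rw [hgp, hσ1]

theorem core [IsNoetherianRing B] [Module.Flat A B]
    (hπ : Function.Surjective π) (hπk : RingHom.ker π ≤ 𝔪)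
    (hρ : Function.Surjective ρ) (hker : RingHom.ker ρ = 𝔪.map (algebraMap A B))
    (hρπ : ρ.comp (algebraMap A B) = (algebraMap k Bbar).comp π)
    (hfs : CAlgX.IsAdicFormallySmooth k Bbar (𝔫.map ρ))
    (hg : Function.Surjective g) (hsq : RingHom.ker (g : D →+* D') ^ 2 = ⊥)
    (hm : 𝔪.map (algebraMap A D) * RingHom.ker (g : D →+* D') = ⊥)
    (hψ : ∃ r : ℕ, ∀ x ∈ 𝔫 ^ r, ψ x = 0) : ∃ χ : B →ₐ[A] D, g.comp χ = ψ :=
  core_abstract 𝔪 𝔫 π ρ g ψ (p₁ g ψ) (p₂ g ψ) hπ hπk hρ hker hρπ hfs (p₁_surjective g ψ hg)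
    (fun _ _ h1 h2 => pb_ext g ψ h1 h2) (exists_of_ker g ψ)
    (fun e he hpe => eq_zero_of_mem_map g ψ hg 𝔪 hm e he hpe)
    (fun _ _ he he' => ker_mul g ψ hsq he he') (g_p₂ g ψ) hψ

end core

end Groth.Agent.Lib.Helper24.FSFlat
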