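import Mathlib
import Groth.Prelude.Def_CAlgX
import Groth.Agent.Lib.Helper24.FSFlat2

/-!
# EGA 0_IV 19.7.1: flat + formally smooth closed fibre ⇒ formally smooth (helper24)

`isAdicFormallySmooth_of_flat`: `B` a flat Noetherian `A`-algebra, `𝔪 ⊆ A` an ideal with `𝔪B ⊆ 𝔫`,
`B̄ = B/𝔪B` adically formally smooth over `k = A/𝔪` for `𝔫B̄`. Then `B` is adically formally smooth
over `A` for `𝔫`.
-/

set_option autoImplicit false
universe u

namespace Groth.Agent.Lib.Helper24.FSFlat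

open Ideal Quotient

section main

variable {A B k Bbar : Type u} [CommRing A] [CommRing B] [Algebra A B] [CommRing k] [CommRing Bbar]
  [Algebra k Bbar] (𝔪 : Ideal A) (𝔫 : Ideal B) (π : A →+* k) (ρ : B →+* Bbar)

theorem lift_of_pow [IsNoetherianRing B] [Module.Flat A B]
    (hπ : Function.Surjective π) (hπk : RingHom.ker π ≤ 𝔪)
    (hρ : Function.Surjective ρ) (hker : RingHom.ker ρ = 𝔪.map (algebraMap A B))
    (hρπ : ρ.comp (algebraMap A B) = (algebraMap k Bbar).comp π)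
    (hfs : CAlgX.IsAdicFormallySmooth k Bbar (𝔫.map ρ)) (n : ℕ) :
    ∀ (D D' : Type u) [CommRing D] [CommRing D'] [Algebra A D] [Algebra A D'] (g : D →ₐ[A] D'),
      Function.Surjective g → RingHom.ker (g : D →+* D') ^ 2 = ⊥ →
      (𝔪 ^ n).map (algebraMap A D) * RingHom.ker (g : D →+* D') = ⊥ →
      ∀ ψ : B →ₐ[A] D', (∃ r : ℕ, ∀ x ∈ 𝔫 ^ r, ψ x = 0) → ∃ χ : B →ₐ[A] D, g.comp χ = ψ := by
  induction n with
  | zero =>
    intro D D' _ _ _ _ g hg _ hm ψ _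
    rw [pow_zero, Ideal.one_eq_top, Ideal.map_top, Ideal.top_mul] at hm
    have hinj : Function.Injective g := (RingHom.injective_iff_ker_eq_bot (g : D →+* D')).2 hm
    let e : D ≃ₐ[A] D' := AlgEquiv.ofBijective g ⟨hinj, hg⟩
    refine ⟨(e.symm : D' →ₐ[A] D).comp ψ, ?_⟩
    apply AlgHom.ext
    intro b
    show g (e.symm (ψ b)) = ψ b
    exact e.apply_symm_apply (ψ b)
  | succ n ih =>
    intro D D' _ _ _ _ g hg hsq hm ψ hψ
    obtain ⟨r, hr⟩ := hψ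
    generalize hK : RingHom.ker (g : D →+* D') = K at hsq hm
    have hKmem : ∀ d, d ∈ K ↔ g d = 0 := fun d => by rw [← hK]; rfl
    have hK₁le : 𝔪.map (algebraMap A D) * K ≤ K := Ideal.mul_le_right
    have hg0 : ∀ a ∈ 𝔪.map (algebraMap A D) * K, g a = 0 := fun a ha => (hKmem a).1 (hK₁le ha)
    let g₁ : D ⧸ (𝔪.map (algebraMap A D) * K) →ₐ[A] D' := Ideal.Quotient.liftₐ _ g hg0
    have hg₁ : ∀ d, g₁ (Ideal.Quotient.mk _ d) = g d := fun d => rfl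
    have hg₁surj : Function.Surjective g₁ := by
      intro z
      obtain ⟨d, rfl⟩ := hg z
      exact ⟨Ideal.Quotient.mk _ d, rfl⟩
    have hg₁ker : ∀ z, g₁ z = 0 → ∃ d ∈ K, Ideal.Quotient.mk _ d = z := by
      intro z hz
      obtain ⟨d, rfl⟩ := Ideal.Quotient.mk_surjective z
      exact ⟨d, (hKmem d).2 hz, rfl⟩
    have hmulK : ∀ d ∈ K, ∀ d' ∈ K, d * d' = 0 := by
      intro d hd d' hd'
      have h1 : d * d' ∈ K ^ 2 := by rw [pow_two]; exact Ideal.mul_mem_mul hd hd'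
      rw [hsq] at h1
      exact h1
    have hg₁sq : RingHom.ker (g₁ : D ⧸ (𝔪.map (algebraMap A D) * K) →+* D') ^ 2 = ⊥ := by
      rw [eq_bot_iff, pow_two, Ideal.mul_le]
      intro z hz w hw
      obtain ⟨d, hd, rfl⟩ := hg₁ker z hz
      obtain ⟨d', hd', rfl⟩ := hg₁ker w hw
      rw [← map_mul, hmulK d hd d' hd', map_zero]
      exact Submodule.zero_mem _
    have hg₁m : 𝔪.map (algebraMap A (D ⧸ (𝔪.map (algebraMap A D) * K))) *
        RingHom.ker (g₁ : D ⧸ (𝔪.map (algebraMap A D) * K) →+* D') = ⊥ := by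
      rw [eq_bot_iff, Ideal.mul_le]
      intro x hx w hw
      have h1 : 𝔪.map (algebraMap A (D ⧸ (𝔪.map (algebraMap A D) * K))) =
          (𝔪.map (algebraMap A D)).map (Ideal.Quotient.mk _) := by
        rw [Ideal.map_map]
        rfl
      rw [h1] at hx
      obtain ⟨d₀, hd₀, rfl⟩ :=
        (Ideal.mem_map_iff_of_surjective _ Ideal.Quotient.mk_surjective).1 hx
      obtain ⟨d, hd, rfl⟩ := hg₁ker w hw
      rw [← map_mul, Ideal.Quotient.eq_zero_iff_mem.2 (Ideal.mul_mem_mul hd₀ hd)]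
      exact Submodule.zero_mem _
    obtain ⟨χ₁, hχ₁⟩ := core 𝔪 𝔫 π ρ g₁ ψ hπ hπk hρ hker hρπ hfs hg₁surj hg₁sq hg₁m ⟨r, hr⟩
    have hχ₁' : ∀ b, g₁ (χ₁ b) = ψ b := fun b => AlgHom.congr_fun hχ₁ b
    -- `χ₁` kills `𝔫^(2r)`
    have hχ₁kill : ∀ x ∈ 𝔫 ^ (r + r), χ₁ x = 0 := by
      have h1 : 𝔫 ^ (r + r) ≤ RingHom.ker (χ₁ : B →+* D ⧸ (𝔪.map (algebraMap A D) * K)) := by
        rw [pow_add, Ideal.mul_le]
        intro y hy z hz
        rw [RingHom.mem_ker]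
        show χ₁ (y * z) = 0
        obtain ⟨d, hd, hdy⟩ := hg₁ker (χ₁ y) (by rw [hχ₁', hr y hy])
        obtain ⟨d', hd', hdz⟩ := hg₁ker (χ₁ z) (by rw [hχ₁', hr z hz])
        rw [map_mul, ← hdy, ← hdz, ← map_mul, hmulK d hd d' hd', map_zero]
      exact fun x hx => h1 hx
    -- second step
    have hg₂ker : RingHom.ker ((Ideal.Quotient.mkₐ A (𝔪.map (algebraMap A D) * K) :
        D →ₐ[A] D ⧸ (𝔪.map (algebraMap A D) * K)) :
        D →+* D ⧸ (𝔪.map (algebraMap A D) * K)) = 𝔪.map (algebraMap A D) * K :=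
      Ideal.Quotient.mkₐ_ker A _
    have hsq₂ : (𝔪.map (algebraMap A D) * K) ^ 2 = ⊥ := by
      rw [eq_bot_iff, ← hsq]
      exact Ideal.pow_right_mono hK₁le 2
    have hm₂ : (𝔪 ^ n).map (algebraMap A D) * (𝔪.map (algebraMap A D) * K) = ⊥ := by
      rw [← mul_assoc, ← Ideal.map_mul, ← pow_succ]
      exact hm
    obtain ⟨χ, hχ⟩ := ih D (D ⧸ (𝔪.map (algebraMap A D) * K)) (Ideal.Quotient.mkₐ A _)
      (Ideal.Quotient.mkₐ_surjective A _) (by rw [hg₂ker]; exact hsq₂) (by rw [hg₂ker]; exact hm₂)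
      χ₁ ⟨r + r, hχ₁kill⟩
    refine ⟨χ, ?_⟩
    apply AlgHom.ext
    intro b
    have h1 : Ideal.Quotient.mk _ (χ b) = χ₁ b := AlgHom.congr_fun hχ b
    show g (χ b) = ψ b
    rw [← hg₁, h1, hχ₁']

theorem isAdicFormallySmooth_of_flat [IsNoetherianRing B] [Module.Flat A B]
    (h𝔪𝔫 : 𝔪.map (algebraMap A B) ≤ 𝔫)
    (hπ : Function.Surjective π) (hπk : RingHom.ker π ≤ 𝔪)
    (hρ : Function.Surjective ρ) (hker : RingHom.ker ρ = 𝔪.map (algebraMap A B))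
    (hρπ : ρ.comp (algebraMap A B) = (algebraMap k Bbar).comp π)
    (hfs : CAlgX.IsAdicFormallySmooth k Bbar (𝔫.map ρ)) :
    CAlgX.IsAdicFormallySmooth A B 𝔫 := by
  intro D _ _ J hJ ψ hψ
  obtain ⟨r, hr⟩ := hψ
  have h1 : (𝔪 ^ r).map (algebraMap A D) ≤ J := by
    rw [Ideal.map_le_iff_le_comap]
    intro a ha
    rw [Ideal.mem_comap, ← Ideal.Quotient.eq_zero_iff_mem]
    have h2 : Ideal.Quotient.mk J (algebraMap A D a) = ψ (algebraMap A B a) :=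
      (ψ.commutes a).symm
    rw [h2]
    apply hr
    refine Ideal.pow_right_mono h𝔪𝔫 r ?_
    rw [← Ideal.map_pow]
    exact Ideal.mem_map_of_mem _ ha
  have hker₂ : RingHom.ker ((Ideal.Quotient.mkₐ A J : D →ₐ[A] D ⧸ J) : D →+* D ⧸ J) = J :=
    Ideal.Quotient.mkₐ_ker A J
  obtain ⟨χ, hχ⟩ := lift_of_pow 𝔪 𝔫 π ρ hπ hπk hρ hker hρπ hfs r D (D ⧸ J)
    (Ideal.Quotient.mkₐ A J) (Ideal.Quotient.mkₐ_surjective A _) (by rw [hker₂]; exact hJ)
    (by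
      rw [hker₂, eq_bot_iff, ← hJ, pow_two]
      exact Ideal.mul_mono_left h1) ψ ⟨r, hr⟩
  exact ⟨χ, hχ⟩

end main

end Groth.Agent.Lib.Helper24.FSFlat
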