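import Mathlib
import Groth.Prelude.Def_CAlgX
import Groth.Agent.Lib.Helper24.FSFlat3
import Groth.Agent.Lib.Helper24.FSConv
import Groth.Agent.Lib.Helper24.FSTwoWay
import Groth.Agent.Lib.Helper24.FSReg
import Groth.Agent.Lib.Helper24.CohenFlat6
import Groth.Agent.Lib.Helper24.N2Reg

/-!
# Existence of flat formally smooth lifts (EGA 0_IV 19.7.2, existence) (helper24)

`exists_flat_lift_fs`: `A` Noetherian local, `J ⊆ 𝔪_A`, `B₀` a complete Noetherian local
`A/J`-algebra (local homomorphism), adically formally smooth over `A/J`. Then there is a complete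
Noetherian local flat `A`-algebra `C` (local homomorphism) with `C/JC ≅ B₀` over `A/J`.
-/

set_option autoImplicit false
universe u

namespace Groth.Agent.Lib.Helper24.FSExist

open IsLocalRing TensorProduct

section incl

variable (A C : Type u) [CommRing A] [IsLocalRing A] [CommRing C] [Algebra A C]

/-- `C → κ(A) ⊗ C`. -/
noncomputable def incl : C →+* ResidueField A ⊗[A] C :=
  (Algebra.TensorProduct.includeRight : C →ₐ[A] ResidueField A ⊗[A] C).toRingHom

theorem incl_apply (c : C) : incl A C c = (1 : ResidueField A) ⊗ₜ[A] c := rfl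

theorem incl_surjective : Function.Surjective (incl A C) := by
  intro y
  induction y using TensorProduct.induction_on with
  | zero => exact ⟨0, map_zero _⟩
  | tmul a s =>
    obtain ⟨r, rfl⟩ := IsLocalRing.residue_surjective a
    refine ⟨r • s, ?_⟩
    rw [incl_apply, TensorProduct.tmul_smul, TensorProduct.smul_tmul', Algebra.smul_def,
      mul_one]
    rfl
  | add x y hx hy =>
    obtain ⟨a, rfl⟩ := hx
    obtain ⟨b, rfl⟩ := hy
    exact ⟨a + b, map_add _ _ _⟩

theorem ker_incl : RingHom.ker (incl A C) = (maximalIdeal A).map (algebraMap A C) := by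
  ext c
  rw [RingHom.mem_ker, incl_apply]
  constructor
  · intro h
    have h2 : (Algebra.TensorProduct.quotIdealMapEquivQuotTensor C (maximalIdeal A))
        (Ideal.Quotient.mk _ c) = 0 := h
    rw [map_eq_zero_iff _
      (Algebra.TensorProduct.quotIdealMapEquivQuotTensor C (maximalIdeal A)).injective] at h2
    exact Ideal.Quotient.eq_zero_iff_mem.1 h2
  · intro h
    have h1 : Ideal.Quotient.mk ((maximalIdeal A).map (algebraMap A C)) c = 0 :=
      Ideal.Quotient.eq_zero_iff_mem.2 h
    have h2 : (Algebra.TensorProduct.quotIdealMapEquivQuotTensor C (maximalIdeal A))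
        (Ideal.Quotient.mk _ c) = 0 := by rw [h1, map_zero]
    exact h2

theorem incl_algebraMap (a : A) : incl A C (algebraMap A C a) =
    algebraMap (ResidueField A) (ResidueField A ⊗[A] C) (residue A a) := by
  rw [incl_apply, Algebra.TensorProduct.algebraMap_apply, Algebra.algebraMap_self_apply,
    Algebra.algebraMap_eq_smul_one (A := C), TensorProduct.tmul_smul, TensorProduct.smul_tmul',
    Algebra.smul_def, mul_one]
  rfl

end incl

theorem exists_flat_lift_fs {A : Type u} [CommRing A] [IsLocalRing A] [IsNoetherianRing A]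
    (J : Ideal A) (hJ : J ≤ maximalIdeal A) (B₀ : Type u) [CommRing B₀] [IsLocalRing B₀]
    [IsNoetherianRing B₀] [IsAdicComplete (maximalIdeal B₀) B₀] [Algebra (A ⧸ J) B₀]
    (hloc : ((maximalIdeal A).map (Ideal.Quotient.mk J)).map (algebraMap (A ⧸ J) B₀) ≤
      maximalIdeal B₀)
    (hB₀ : CAlgX.IsAdicFormallySmooth (A ⧸ J) B₀ (maximalIdeal B₀)) :
    ∃ (C : Type u) (_ : CommRing C) (_ : IsLocalRing C) (_ : IsNoetherianRing C)
      (_ : Algebra A C) (_ : IsLocalHom (algebraMap A C)),
      IsAdicComplete (maximalIdeal C) C ∧ Module.Flat A C ∧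
        Nonempty ((C ⧸ J.map (algebraMap A C)) ≃ₐ[A ⧸ J] B₀) := by
  classical
  have hK₀ne : ((maximalIdeal A).map (Ideal.Quotient.mk J)).map (algebraMap (A ⧸ J) B₀) ≠ ⊤ :=
    fun h => (IsLocalRing.maximalIdeal.isMaximal B₀).ne_top (top_le_iff.1 (h ▸ hloc))
  haveI : IsLocalRing (B₀ ⧸ ((maximalIdeal A).map (Ideal.Quotient.mk J)).map
      (algebraMap (A ⧸ J) B₀)) := Groth.Agent.Lib.helper15.isLocalRing_quotient _ hK₀ne
  haveI : IsAdicComplete (maximalIdeal (B₀ ⧸ ((maximalIdeal A).map (Ideal.Quotient.mk J)).map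
      (algebraMap (A ⧸ J) B₀))) (B₀ ⧸ ((maximalIdeal A).map (Ideal.Quotient.mk J)).map
      (algebraMap (A ⧸ J) B₀)) := Groth.Agent.Lib.Helper24.N2Reg.isAdicComplete_quotient B₀ _
  -- the `κ(A)`-algebra structure on `B̄`
  have hφ₀ : ∀ a ∈ maximalIdeal A, ((Ideal.Quotient.mk (((maximalIdeal A).map
      (Ideal.Quotient.mk J)).map (algebraMap (A ⧸ J) B₀))).comp
      ((algebraMap (A ⧸ J) B₀).comp (Ideal.Quotient.mk J))) a = 0 := by
    intro a ha
    show Ideal.Quotient.mk _ (algebraMap (A ⧸ J) B₀ (Ideal.Quotient.mk J a)) = 0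
    rw [Ideal.Quotient.eq_zero_iff_mem]
    exact Ideal.mem_map_of_mem _ (Ideal.mem_map_of_mem _ ha)
  let φ₀ : ResidueField A →+* (B₀ ⧸ ((maximalIdeal A).map (Ideal.Quotient.mk J)).map
      (algebraMap (A ⧸ J) B₀)) := Ideal.Quotient.lift (maximalIdeal A) _ hφ₀
  letI algk : Algebra (ResidueField A) (B₀ ⧸ ((maximalIdeal A).map (Ideal.Quotient.mk J)).map
      (algebraMap (A ⧸ J) B₀)) := φ₀.toAlgebra
  have halgk : ∀ a : A, algebraMap (ResidueField A) (B₀ ⧸ ((maximalIdeal A).map
      (Ideal.Quotient.mk J)).map (algebraMap (A ⧸ J) B₀)) (residue A a) =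
      Ideal.Quotient.mk _ (algebraMap (A ⧸ J) B₀ (Ideal.Quotient.mk J a)) := fun a => rfl
  -- formal smoothness of `B̄` over `κ(A)`
  let π₀ : A ⧸ J →+* ResidueField A := Ideal.Quotient.factor hJ
  have hπ₀ : ∀ a, π₀ (Ideal.Quotient.mk J a) = residue A a := fun a => rfl
  have hπ₀surj : Function.Surjective π₀ := Ideal.Quotient.factor_surjective hJ
  have hBbar : CAlgX.IsAdicFormallySmooth (ResidueField A)
      (B₀ ⧸ ((maximalIdeal A).map (Ideal.Quotient.mk J)).map (algebraMap (A ⧸ J) B₀))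
      (maximalIdeal _) := by
    have h1 := Groth.Agent.Lib.Helper24.FSConv.fs_of_surjective (maximalIdeal B₀) π₀
      (Ideal.Quotient.mk (((maximalIdeal A).map (Ideal.Quotient.mk J)).map
        (algebraMap (A ⧸ J) B₀))) hπ₀surj Ideal.Quotient.mk_surjective (by
        rw [Ideal.mk_ker]
        refine Ideal.map_mono ?_
        rw [Ideal.map_le_iff_le_comap]
        intro a ha
        rw [Ideal.mem_comap, RingHom.mem_ker, hπ₀]
        exact (IsLocalRing.residue_eq_zero_iff a).2 ha) (by
        apply RingHom.ext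
        intro x
        obtain ⟨a, rfl⟩ := Ideal.Quotient.mk_surjective x
        rfl) hB₀
    rwa [IsLocalRing.map_maximalIdeal_of_surjective (Ideal.Quotient.mk (((maximalIdeal A).map
      (Ideal.Quotient.mk J)).map (algebraMap (A ⧸ J) B₀))) Ideal.Quotient.mk_surjective] at h1
  haveI hreg : IsRegularLocalRing (B₀ ⧸ ((maximalIdeal A).map (Ideal.Quotient.mk J)).map
      (algebraMap (A ⧸ J) B₀)) :=
    Groth.Agent.Lib.Helper24.FSReg.isRegularLocalRing_of_fs _ _ hBbar
  obtain ⟨C, _, _, _, _, _, hcompl, hflat, ⟨e⟩⟩ :=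
    Groth.Agent.Lib.Helper24.CohenFlat.exists_flat_lift_noeth (A := A)
      (B₀ ⧸ ((maximalIdeal A).map (Ideal.Quotient.mk J)).map (algebraMap (A ⧸ J) B₀))
  -- `ρ_C : C → B̄`
  let ρC : C →+* (B₀ ⧸ ((maximalIdeal A).map (Ideal.Quotient.mk J)).map
      (algebraMap (A ⧸ J) B₀)) := e.toRingEquiv.toRingHom.comp (incl A C)
  have hρCa : ∀ c, ρC c = e (incl A C c) := fun c => rfl
  have hρC : Function.Surjective ρC := e.surjective.comp (incl_surjective A C)
  have hρCker : RingHom.ker ρC = (maximalIdeal A).map (algebraMap A C) := by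
    rw [← ker_incl A C]
    exact RingHom.ker_equiv_comp _ e.toRingEquiv
  have hρCπ : ρC.comp (algebraMap A C) = (algebraMap (ResidueField A) _).comp (residue A) := by
    apply RingHom.ext
    intro a
    show e (incl A C (algebraMap A C a)) = algebraMap (ResidueField A) _ (residue A a)
    rw [incl_algebraMap, e.commutes]
  have hmC : (maximalIdeal A).map (algebraMap A C) ≤ maximalIdeal C :=
    ((IsLocalRing.local_hom_TFAE (algebraMap A C)).out 0 2).1 ‹IsLocalHom (algebraMap A C)›
  have hC : CAlgX.IsAdicFormallySmooth A C (maximalIdeal C) := by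
    refine Groth.Agent.Lib.Helper24.FSFlat.isAdicFormallySmooth_of_flat (maximalIdeal A)
      (maximalIdeal C) (residue A) ρC hmC IsLocalRing.residue_surjective ?_ hρC hρCker hρCπ ?_
    · rw [IsLocalRing.ker_residue]
    · rw [IsLocalRing.map_maximalIdeal_of_surjective ρC hρC]
      exact hBbar
  -- `C₀ = C / JC`
  have hJC : J.map (algebraMap A C) ≤ maximalIdeal C := (Ideal.map_mono hJ).trans hmC
  have hJCne : J.map (algebraMap A C) ≠ ⊤ := fun h =>
    (IsLocalRing.maximalIdeal.isMaximal C).ne_top (top_le_iff.1 (h ▸ hJC))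
  haveI : IsLocalRing (C ⧸ J.map (algebraMap A C)) :=
    Groth.Agent.Lib.helper15.isLocalRing_quotient _ hJCne
  haveI : IsAdicComplete (maximalIdeal (C ⧸ J.map (algebraMap A C))) (C ⧸ J.map (algebraMap A C)) :=
    Groth.Agent.Lib.Helper24.N2Reg.isAdicComplete_quotient C _
  have hC₀ : CAlgX.IsAdicFormallySmooth (A ⧸ J) (C ⧸ J.map (algebraMap A C)) (maximalIdeal _) := by
    have h1 := Groth.Agent.Lib.Helper24.FSConv.fs_of_surjective (maximalIdeal C)
      (Ideal.Quotient.mk J) (Ideal.Quotient.mk (J.map (algebraMap A C)))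
      Ideal.Quotient.mk_surjective Ideal.Quotient.mk_surjective
      (by rw [Ideal.mk_ker, Ideal.mk_ker]) (by apply RingHom.ext; intro a; rfl) hC
    rwa [IsLocalRing.map_maximalIdeal_of_surjective (Ideal.Quotient.mk (J.map (algebraMap A C)))
      Ideal.Quotient.mk_surjective] at h1
  -- the map on fibres
  have hρ0 : ∀ c ∈ J.map (algebraMap A C), ρC c = 0 := by
    intro c hc
    have h1 : c ∈ RingHom.ker ρC := by rw [hρCker]; exact Ideal.map_mono hJ hc
    exact (RingHom.mem_ker).1 h1
  let ρ : (C ⧸ J.map (algebraMap A C)) →+* (B₀ ⧸ ((maximalIdeal A).map (Ideal.Quotient.mk J)).map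
      (algebraMap (A ⧸ J) B₀)) := Ideal.Quotient.lift _ ρC hρ0
  have hρa : ∀ c, ρ (Ideal.Quotient.mk _ c) = ρC c := fun c => rfl
  have hρ : Function.Surjective ρ := by
    intro y
    obtain ⟨c, rfl⟩ := hρC y
    exact ⟨Ideal.Quotient.mk _ c, rfl⟩
  have hmm : ((maximalIdeal A).map (Ideal.Quotient.mk J)).map
      (algebraMap (A ⧸ J) (C ⧸ J.map (algebraMap A C))) =
      ((maximalIdeal A).map (algebraMap A C)).map (Ideal.Quotient.mk _) := by
    rw [Ideal.map_map, Ideal.map_map]
    rfl
  have hker : RingHom.ker ρ = ((maximalIdeal A).map (Ideal.Quotient.mk J)).map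
      (algebraMap (A ⧸ J) (C ⧸ J.map (algebraMap A C))) := by
    rw [hmm]
    ext x
    obtain ⟨c, rfl⟩ := Ideal.Quotient.mk_surjective x
    rw [RingHom.mem_ker, hρa]
    constructor
    · intro h
      have h1 : c ∈ RingHom.ker ρC := (RingHom.mem_ker).2 h
      rw [hρCker] at h1
      exact Ideal.mem_map_of_mem _ h1
    · intro h
      obtain ⟨c', hc', hcc'⟩ :=
        (Ideal.mem_map_iff_of_surjective _ Ideal.Quotient.mk_surjective).1 h
      have h1 : c' - c ∈ J.map (algebraMap A C) := (Ideal.Quotient.eq).1 hcc'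
      have h2 : c ∈ RingHom.ker ρC := by
        rw [hρCker]
        have h3 : c = c' - (c' - c) := by ring
        rw [h3]
        exact sub_mem hc' (Ideal.map_mono hJ h1)
      exact (RingHom.mem_ker).1 h2
  have hI : ((maximalIdeal A).map (Ideal.Quotient.mk J)).map
      (algebraMap (A ⧸ J) (C ⧸ J.map (algebraMap A C))) ≤ maximalIdeal _ := by
    rw [hmm, ← IsLocalRing.map_maximalIdeal_of_surjective
      (Ideal.Quotient.mk (J.map (algebraMap A C))) Ideal.Quotient.mk_surjective]
    exact Ideal.map_mono hmC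
  have hρA : ρ.comp (algebraMap (A ⧸ J) (C ⧸ J.map (algebraMap A C))) =
      (Ideal.Quotient.mk _).comp (algebraMap (A ⧸ J) B₀) := by
    apply RingHom.ext
    intro x
    obtain ⟨a, rfl⟩ := Ideal.Quotient.mk_surjective x
    show ρC (algebraMap A C a) = Ideal.Quotient.mk _ (algebraMap (A ⧸ J) B₀ (Ideal.Quotient.mk J a))
    have h1 : ρC (algebraMap A C a) = algebraMap (ResidueField A) _ (residue A a) :=
      RingHom.congr_fun hρCπ a
    rw [h1, halgk]
  obtain ⟨w, _⟩ := Groth.Agent.Lib.Helper24.FSTwoWay.exists_algEquiv_of_fibre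
    ((maximalIdeal A).map (Ideal.Quotient.mk J)) hI hloc hC₀ hB₀ ρ hρ hker hρA
  exact ⟨C, inferInstance, inferInstance, inferInstance, inferInstance, inferInstance, hcompl, hflat,
    ⟨w⟩⟩

end Groth.Agent.Lib.Helper24.FSExist
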