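import Mathlib
import Groth.Prelude.Def_CAlgX
import Groth.Agent.Lib.Helper24.FSFlat3
import Groth.Agent.Lib.Helper24.FSConv
import Groth.Agent.Lib.Helper24.FSTwoWay

/-!
# Flat lifts of formally smooth algebras: formal smoothness and uniqueness (helper24)

* `fs_of_flat_lift`: `B` flat Noetherian over `A`, `B/JB ≅ B₀` adically formally smooth over `A/J`
  ⇒ `B` adically formally smooth over `A`.
* `exists_algEquiv_lift`: two complete flat lifts `B`, `B'` of `B₀` over `A` are isomorphic,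
  compatibly with the identifications `B/JB ≅ B₀ ≅ B'/JB'` (EGA 0_IV 19.7.2, uniqueness).
-/

set_option autoImplicit false
universe u

namespace Groth.Agent.Lib.Helper24.FSUniq

open IsLocalRing

theorem fs_of_flat_lift {A B B₀ : Type u} [CommRing A] [CommRing B] [Algebra A B]
    [IsNoetherianRing B] [Module.Flat A B] (J 𝔪 : Ideal A) (hJ𝔪 : J ≤ 𝔪) [CommRing B₀]
    [Algebra (A ⧸ J) B₀] (𝔫 : Ideal B) (h𝔪𝔫 : 𝔪.map (algebraMap A B) ≤ 𝔫) (g : B →+* B₀)
    (hg : Function.Surjective g) (hgker : RingHom.ker g = J.map (algebraMap A B))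
    (hgA : g.comp (algebraMap A B) = (algebraMap (A ⧸ J) B₀).comp (Ideal.Quotient.mk J))
    (hB₀ : CAlgX.IsAdicFormallySmooth (A ⧸ J) B₀ (𝔫.map g)) :
    CAlgX.IsAdicFormallySmooth A B 𝔫 := by
  have hgA' : ∀ a, g (algebraMap A B a) = algebraMap (A ⧸ J) B₀ (Ideal.Quotient.mk J a) :=
    fun a => RingHom.congr_fun hgA a
  -- `𝔪₀ B₀ = g(𝔪 B)`
  have hmm : ((𝔪.map (Ideal.Quotient.mk J)).map (algebraMap (A ⧸ J) B₀)) =
      (𝔪.map (algebraMap A B)).map g := by
    rw [Ideal.map_map, Ideal.map_map, hgA]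
  have hπ : Function.Surjective ((Ideal.Quotient.mk (𝔪.map (Ideal.Quotient.mk J))).comp
      (Ideal.Quotient.mk J)) :=
    Ideal.Quotient.mk_surjective.comp Ideal.Quotient.mk_surjective
  have hπk : RingHom.ker ((Ideal.Quotient.mk (𝔪.map (Ideal.Quotient.mk J))).comp
      (Ideal.Quotient.mk J)) ≤ 𝔪 := by
    intro a ha
    rw [RingHom.mem_ker, RingHom.comp_apply, Ideal.Quotient.eq_zero_iff_mem] at ha
    obtain ⟨a', ha', haa'⟩ :=
      (Ideal.mem_map_iff_of_surjective _ Ideal.Quotient.mk_surjective).1 ha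
    have h1 : a' - a ∈ J := (Ideal.Quotient.eq).1 haa'
    have h2 : a = a' - (a' - a) := by ring
    rw [h2]
    exact sub_mem ha' (hJ𝔪 h1)
  have hρ : Function.Surjective ((Ideal.Quotient.mk ((𝔪.map (Ideal.Quotient.mk J)).map
      (algebraMap (A ⧸ J) B₀))).comp g) := Ideal.Quotient.mk_surjective.comp hg
  have hker : RingHom.ker ((Ideal.Quotient.mk ((𝔪.map (Ideal.Quotient.mk J)).map
      (algebraMap (A ⧸ J) B₀))).comp g) = 𝔪.map (algebraMap A B) := by
    apply le_antisymm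
    · intro b hb
      rw [RingHom.mem_ker, RingHom.comp_apply, Ideal.Quotient.eq_zero_iff_mem, hmm] at hb
      obtain ⟨b', hb', hbb'⟩ := (Ideal.mem_map_iff_of_surjective g hg).1 hb
      have h1 : b' - b ∈ RingHom.ker g := by rw [RingHom.mem_ker, map_sub, hbb', sub_self]
      rw [hgker] at h1
      have h2 : b = b' - (b' - b) := by ring
      rw [h2]
      exact sub_mem hb' (Ideal.map_mono hJ𝔪 h1)
    · rw [Ideal.map_le_iff_le_comap]
      intro a ha
      rw [Ideal.mem_comap, RingHom.mem_ker, RingHom.comp_apply, Ideal.Quotient.eq_zero_iff_mem,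
        hgA']
      exact Ideal.mem_map_of_mem _ (Ideal.mem_map_of_mem _ ha)
  have hρπ : ((Ideal.Quotient.mk ((𝔪.map (Ideal.Quotient.mk J)).map
      (algebraMap (A ⧸ J) B₀))).comp g).comp (algebraMap A B) =
      (algebraMap ((A ⧸ J) ⧸ 𝔪.map (Ideal.Quotient.mk J))
        (B₀ ⧸ (𝔪.map (Ideal.Quotient.mk J)).map (algebraMap (A ⧸ J) B₀))).comp
        ((Ideal.Quotient.mk (𝔪.map (Ideal.Quotient.mk J))).comp (Ideal.Quotient.mk J)) := by
    apply RingHom.ext
    intro a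
    show Ideal.Quotient.mk _ (g (algebraMap A B a)) = _
    rw [hgA']
    rfl
  have hfs₀ := Groth.Agent.Lib.Helper24.FSConv.fs_of_surjective (𝔫.map g)
    (Ideal.Quotient.mk (𝔪.map (Ideal.Quotient.mk J)))
    (Ideal.Quotient.mk ((𝔪.map (Ideal.Quotient.mk J)).map (algebraMap (A ⧸ J) B₀)))
    Ideal.Quotient.mk_surjective Ideal.Quotient.mk_surjective
    (by rw [Ideal.mk_ker, Ideal.mk_ker]) (by apply RingHom.ext; intro a; rfl) hB₀
  have hmapmap : (𝔫.map g).map (Ideal.Quotient.mk ((𝔪.map (Ideal.Quotient.mk J)).map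
      (algebraMap (A ⧸ J) B₀))) = 𝔫.map ((Ideal.Quotient.mk ((𝔪.map (Ideal.Quotient.mk J)).map
      (algebraMap (A ⧸ J) B₀))).comp g) := Ideal.map_map _ _
  rw [hmapmap] at hfs₀
  exact Groth.Agent.Lib.Helper24.FSFlat.isAdicFormallySmooth_of_flat 𝔪 𝔫 _ _ h𝔪𝔫 hπ hπk hρ hker
    hρπ hfs₀

theorem exists_algEquiv_lift {A B B' B₀ : Type u} [CommRing A] (J 𝔪 : Ideal A) (hJ𝔪 : J ≤ 𝔪)
    [CommRing B] [IsLocalRing B] [IsNoetherianRing B] [IsAdicComplete (maximalIdeal B) B]
    [Algebra A B] [Module.Flat A B] (h𝔪B : 𝔪.map (algebraMap A B) ≤ maximalIdeal B)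
    [CommRing B'] [IsLocalRing B'] [IsNoetherianRing B'] [IsAdicComplete (maximalIdeal B') B']
    [Algebra A B'] [Module.Flat A B'] (h𝔪B' : 𝔪.map (algebraMap A B') ≤ maximalIdeal B')
    [CommRing B₀] [IsLocalRing B₀] [Algebra (A ⧸ J) B₀]
    (hB₀ : CAlgX.IsAdicFormallySmooth (A ⧸ J) B₀ (maximalIdeal B₀))
    (u : (B ⧸ J.map (algebraMap A B)) ≃ₐ[A ⧸ J] B₀)
    (u' : (B' ⧸ J.map (algebraMap A B')) ≃ₐ[A ⧸ J] B₀) :
    ∃ v : B ≃ₐ[A] B', ∀ b, u' (Ideal.Quotient.mk _ (v b)) = u (Ideal.Quotient.mk _ b) := by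
  classical
  have hJB : J.map (algebraMap A B) ≤ maximalIdeal B := (Ideal.map_mono hJ𝔪).trans h𝔪B
  have hJB' : J.map (algebraMap A B') ≤ maximalIdeal B' := (Ideal.map_mono hJ𝔪).trans h𝔪B'
  have hK'ne : J.map (algebraMap A B') ≠ ⊤ := fun h =>
    (IsLocalRing.maximalIdeal.isMaximal B').ne_top (top_le_iff.1 (h ▸ hJB'))
  let g : B →+* B₀ := u.toRingEquiv.toRingHom.comp (Ideal.Quotient.mk _)
  have hga : ∀ b, g b = u (Ideal.Quotient.mk _ b) := fun b => rfl
  have hg : Function.Surjective g := u.surjective.comp Ideal.Quotient.mk_surjective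
  have hgker : RingHom.ker g = J.map (algebraMap A B) := by
    have h1 : RingHom.ker g = RingHom.ker (Ideal.Quotient.mk (J.map (algebraMap A B))) :=
      RingHom.ker_equiv_comp _ u.toRingEquiv
    rw [h1, Ideal.mk_ker]
  have hgA : g.comp (algebraMap A B) = (algebraMap (A ⧸ J) B₀).comp (Ideal.Quotient.mk J) := by
    apply RingHom.ext
    intro a
    show u (Ideal.Quotient.mk _ (algebraMap A B a)) = algebraMap (A ⧸ J) B₀ (Ideal.Quotient.mk J a)
    rw [← u.commutes]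
    rfl
  have hmap : (maximalIdeal B).map g = maximalIdeal B₀ :=
    IsLocalRing.map_maximalIdeal_of_surjective g hg
  have hB : CAlgX.IsAdicFormallySmooth A B (maximalIdeal B) :=
    fs_of_flat_lift J 𝔪 hJ𝔪 (maximalIdeal B) h𝔪B g hg hgker hgA (by rw [hmap]; exact hB₀)
  -- the map to lift
  let ut : B →+* B' ⧸ J.map (algebraMap A B') := u'.symm.toRingEquiv.toRingHom.comp g
  have huta : ∀ b, ut b = u'.symm (g b) := fun b => rfl
  have hut : Function.Surjective ut := u'.symm.surjective.comp hg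
  have hutA : ut.comp (algebraMap A B) = (Ideal.Quotient.mk _).comp (algebraMap A B') := by
    apply RingHom.ext
    intro a
    show u'.symm (g (algebraMap A B a)) = Ideal.Quotient.mk _ (algebraMap A B' a)
    have h1 : g (algebraMap A B a) = algebraMap (A ⧸ J) B₀ (Ideal.Quotient.mk J a) :=
      RingHom.congr_fun hgA a
    rw [h1, AlgEquiv.symm_apply_eq, ← u'.commutes]
    rfl
  obtain ⟨v₀, hv₀1, hv₀2⟩ := Groth.Agent.Lib.Helper24.FSLift.exists_lift_complete hB
    (algebraMap A B') (maximalIdeal B') (J.map (algebraMap A B')) hJB'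
    (Groth.Agent.Lib.Helper24.FSReg.sep_of_local _ hK'ne) ut hutA
    (Groth.Agent.Lib.Helper24.FSTwoWay.map_mem_of_surjective _ hK'ne ut hut)
  have hv₀2' : ∀ b, Ideal.Quotient.mk _ (v₀ b) = ut b := fun b => RingHom.congr_fun hv₀2 b
  let V : B →ₐ[A] B' := { toRingHom := v₀, commutes' := fun a => RingHom.congr_fun hv₀1 a }
  have hVbij : Function.Bijective V := by
    refine Groth.Agent.Lib.Helper24.FSEnd.bijective_of_flat_of_mod J hJB hJB' V ?_ ?_
    · intro y
      obtain ⟨x, hx⟩ := hut (Ideal.Quotient.mk _ y)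
      refine ⟨x, ?_⟩
      rw [← Ideal.Quotient.eq]
      show Ideal.Quotient.mk _ (v₀ x) = _
      rw [hv₀2', hx]
    · intro x hx
      have hx0 : v₀ x = 0 := (RingHom.mem_ker).1 hx
      have h1 : ut x = 0 := by rw [← hv₀2', hx0, map_zero]
      rw [huta, AlgEquiv.symm_apply_eq, map_zero] at h1
      rw [← hgker]
      exact (RingHom.mem_ker).2 h1
  refine ⟨AlgEquiv.ofBijective V hVbij, fun b => ?_⟩
  show u' (Ideal.Quotient.mk _ (v₀ b)) = _
  rw [hv₀2', huta, AlgEquiv.apply_symm_apply, hga]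

end Groth.Agent.Lib.Helper24.FSUniq
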