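import Groth.Agent.Lib.Helper24.HenselLocal

/-!
Lifting of factorizations of non-monic polynomials over henselian local rings (helper24).
-/

set_option autoImplicit false

noncomputable section

namespace Groth.Agent.Lib.helper24.FactorLift

open IsLocalRing Polynomial Matrix Groth.Agent.Lib.helper24.HenselLocal

universe u

section Generic

variable {R : Type u} [CommRing R] (r s : ℕ)

theorem sum_fin_ite {m : ℕ} (c : Fin m → R) (a : ℕ) :
    ∑ j : Fin m, (if a = (j : ℕ) then c j else 0) = if h : a < m then c ⟨a, h⟩ else 0 := by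
  split_ifs with h
  · rw [Finset.sum_eq_single (⟨a, h⟩ : Fin m)]
    · simp
    · intro b _ hb
      rw [if_neg]
      intro hab
      exact hb (Fin.ext hab.symm)
    · intro h'
      exact absurd (Finset.mem_univ _) h'
  · apply Finset.sum_eq_zero
    intro j _
    rw [if_neg]
    intro haj
    exact h (haj ▸ j.2)

/-- coefficient polynomials of the generic monic factor -/
def Gc (a : ℕ) : MvPolynomial (Fin (r + (s + 1))) R :=
  if h : a < r then MvPolynomial.X (Fin.castAdd (s + 1) ⟨a, h⟩) else if a = r then 1 else 0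

/-- coefficient polynomials of the generic cofactor -/
def Hc (b : ℕ) : MvPolynomial (Fin (r + (s + 1))) R :=
  if h : b < s + 1 then MvPolynomial.X (Fin.natAdd r ⟨b, h⟩) else 0

/-- the tangent part of g -/
def dg (δ : Fin (r + (s + 1)) → R) : R[X] :=
  ∑ j : Fin r, C (δ (Fin.castAdd (s + 1) j)) * X ^ (j : ℕ)

/-- the monic factor attached to a point -/
def gpoly (x : Fin (r + (s + 1)) → R) : R[X] := X ^ r + dg r s x

/-- the cofactor attached to a point -/
def hpoly (x : Fin (r + (s + 1)) → R) : R[X] :=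
  ∑ j : Fin (s + 1), C (x (Fin.natAdd r j)) * X ^ (j : ℕ)

theorem coeff_dg (δ : Fin (r + (s + 1)) → R) (a : ℕ) :
    (dg r s δ).coeff a = if h : a < r then δ (Fin.castAdd (s + 1) ⟨a, h⟩) else 0 := by
  rw [dg, finsetSum_coeff]
  simp_rw [coeff_C_mul_X_pow]
  exact sum_fin_ite (fun j => δ (Fin.castAdd (s + 1) j)) a

theorem coeff_hpoly (x : Fin (r + (s + 1)) → R) (b : ℕ) :
    (hpoly r s x).coeff b = if h : b < s + 1 then x (Fin.natAdd r ⟨b, h⟩) else 0 := by
  rw [hpoly, finsetSum_coeff]
  simp_rw [coeff_C_mul_X_pow]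
  exact sum_fin_ite (fun j => x (Fin.natAdd r j)) b

theorem coeff_gpoly (x : Fin (r + (s + 1)) → R) (a : ℕ) :
    (gpoly r s x).coeff a =
      if h : a < r then x (Fin.castAdd (s + 1) ⟨a, h⟩) else if a = r then 1 else 0 := by
  rw [gpoly, coeff_add, coeff_X_pow, coeff_dg]
  by_cases h : a < r
  · rw [dif_pos h, dif_pos h, if_neg (ne_of_lt h), zero_add]
  · rw [dif_neg h, dif_neg h, add_zero]

theorem degree_dg_lt (δ : Fin (r + (s + 1)) → R) : (dg r s δ).degree < r := by
  rw [degree_lt_iff_coeff_zero]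
  intro m hm
  rw [coeff_dg, dif_neg (not_lt.2 hm)]

theorem monic_gpoly (x : Fin (r + (s + 1)) → R) : (gpoly r s x).Monic :=
  monic_X_pow_add (degree_dg_lt r s x)

theorem natDegree_hpoly_le (x : Fin (r + (s + 1)) → R) : (hpoly r s x).natDegree ≤ s := by
  rw [natDegree_le_iff_coeff_eq_zero]
  intro m hm
  rw [coeff_hpoly, dif_neg (by omega)]

theorem eval_Gc (x : Fin (r + (s + 1)) → R) (a : ℕ) :
    MvPolynomial.eval x (Gc (R := R) r s a) = (gpoly r s x).coeff a := by
  rw [coeff_gpoly, Gc]
  split_ifs <;> simp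

theorem eval_Hc (x : Fin (r + (s + 1)) → R) (b : ℕ) :
    MvPolynomial.eval x (Hc (R := R) r s b) = (hpoly r s x).coeff b := by
  rw [coeff_hpoly, Hc]
  split_ifs <;> simp

/-- the system of equations -/
def Psys (f : R[X]) (k : Fin (r + (s + 1))) : MvPolynomial (Fin (r + (s + 1))) R :=
  ∑ p ∈ Finset.HasAntidiagonal.antidiagonal (k : ℕ), Gc r s p.1 * Hc r s p.2 - MvPolynomial.C (f.coeff k)

theorem eval_Psys (f : R[X]) (x : Fin (r + (s + 1)) → R) (k : Fin (r + (s + 1))) :
    MvPolynomial.eval x (Psys r s f k) = (gpoly r s x * hpoly r s x).coeff k - f.coeff k := by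
  rw [Psys, map_sub, map_sum, MvPolynomial.eval_C, coeff_mul]
  congr 1
  apply Finset.sum_congr rfl
  intro p _
  rw [map_mul, eval_Gc, eval_Hc]

/-- directional derivative -/
def Dδ (δ : Fin (r + (s + 1)) → R) :
    Derivation R (MvPolynomial (Fin (r + (s + 1))) R) (MvPolynomial (Fin (r + (s + 1))) R) :=
  ∑ j, δ j • MvPolynomial.pderiv j

theorem Dδ_apply (δ : Fin (r + (s + 1)) → R) (p : MvPolynomial (Fin (r + (s + 1))) R) :
    Dδ r s δ p = ∑ j, δ j • MvPolynomial.pderiv j p := by
  have key : ∀ t : Finset (Fin (r + (s + 1))),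
      (∑ j ∈ t, δ j • MvPolynomial.pderiv (R := R) j) p = ∑ j ∈ t, δ j • MvPolynomial.pderiv j p := by
    intro t
    classical
    induction t using Finset.induction_on with
    | empty => simp
    | insert a t ha ih =>
      rw [Finset.sum_insert ha, Finset.sum_insert ha, Derivation.add_apply, ih,
        Derivation.smul_apply]
  exact key Finset.univ

theorem Dδ_X (δ : Fin (r + (s + 1)) → R) (i : Fin (r + (s + 1))) :
    Dδ r s δ (MvPolynomial.X i) = MvPolynomial.C (δ i) := by
  classical
  rw [Dδ_apply, Finset.sum_eq_single i]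
  · rw [MvPolynomial.pderiv_X_self, MvPolynomial.smul_eq_C_mul, mul_one]
  · intro j _ hj
    rw [MvPolynomial.pderiv_X_of_ne (Ne.symm hj), smul_zero]
  · intro h
    exact absurd (Finset.mem_univ _) h

theorem Dδ_Gc (δ : Fin (r + (s + 1)) → R) (a : ℕ) :
    Dδ r s δ (Gc r s a) = MvPolynomial.C ((dg r s δ).coeff a) := by
  rw [coeff_dg, Gc]
  by_cases h : a < r
  · rw [dif_pos h, dif_pos h, Dδ_X]
  · rw [dif_neg h, dif_neg h]
    by_cases h' : a = r
    · rw [if_pos h', map_zero]
      exact Derivation.map_one_eq_zero _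
    · rw [if_neg h', map_zero, map_zero]

theorem Dδ_Hc (δ : Fin (r + (s + 1)) → R) (b : ℕ) :
    Dδ r s δ (Hc r s b) = MvPolynomial.C ((hpoly r s δ).coeff b) := by
  rw [coeff_hpoly, Hc]
  by_cases h : b < s + 1
  · rw [dif_pos h, dif_pos h, Dδ_X]
  · rw [dif_neg h, dif_neg h, map_zero, map_zero]

theorem eval_Dδ_Psys (f : R[X]) (x δ : Fin (r + (s + 1)) → R) (k : Fin (r + (s + 1))) :
    MvPolynomial.eval x (Dδ r s δ (Psys r s f k)) =
      (dg r s δ * hpoly r s x + gpoly r s x * hpoly r s δ).coeff k := by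
  have hC : Dδ r s δ (MvPolynomial.C (f.coeff k)) = 0 := by
    rw [← MvPolynomial.algebraMap_eq]
    exact Derivation.map_algebraMap _ _
  rw [Psys, map_sub, map_sum, hC, sub_zero, map_sum, coeff_add, coeff_mul, coeff_mul,
    ← Finset.sum_add_distrib]
  apply Finset.sum_congr rfl
  intro p _
  rw [Derivation.leibniz, Dδ_Gc, Dδ_Hc, smul_eq_mul, smul_eq_mul, map_add, map_mul, map_mul,
    MvPolynomial.eval_C, MvPolynomial.eval_C, eval_Gc, eval_Hc]
  ring

/-- The Jacobian matrix applied to a vector. -/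
theorem jacobian_mulVec (f : R[X]) (x δ : Fin (r + (s + 1)) → R) (k : Fin (r + (s + 1))) :
    (Matrix.of (fun i j => MvPolynomial.eval x (MvPolynomial.pderiv j (Psys r s f i))) *ᵥ δ) k =
      (dg r s δ * hpoly r s x + gpoly r s x * hpoly r s δ).coeff k := by
  rw [← eval_Dδ_Psys, Dδ_apply, map_sum]
  show ∑ j, MvPolynomial.eval x (MvPolynomial.pderiv j (Psys r s f k)) * δ j = _
  apply Finset.sum_congr rfl
  intro j _
  rw [MvPolynomial.smul_eq_C_mul, map_mul, MvPolynomial.eval_C, mul_comm]

end Generic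

section Field

variable {K : Type u} [Field K] (r s : ℕ)

theorem natDegree_gpoly_le {R : Type u} [CommRing R] (x : Fin (r + (s + 1)) → R) :
    (gpoly r s x).natDegree ≤ r := by
  rw [natDegree_le_iff_coeff_eq_zero]
  intro m hm
  rw [coeff_gpoly, dif_neg (by omega), if_neg (by omega)]

theorem natDegree_dg_le {R : Type u} [CommRing R] (x : Fin (r + (s + 1)) → R) :
    (dg r s x).natDegree ≤ r := by
  rw [natDegree_le_iff_coeff_eq_zero]
  intro m hm
  rw [coeff_dg, dif_neg (by omega)]

theorem kernel_trivial (g₀ h₀ : K[X]) (hg : g₀.Monic) (hr : g₀.natDegree = r)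
    (hs : h₀.natDegree ≤ s) (hc : IsCoprime g₀ h₀) (δ : Fin (r + (s + 1)) → K)
    (hδ : ∀ k : Fin (r + (s + 1)), (dg r s δ * h₀ + g₀ * hpoly r s δ).coeff k = 0) : δ = 0 := by
  have hW : dg r s δ * h₀ + g₀ * hpoly r s δ = 0 := by
    ext m
    rw [coeff_zero]
    by_cases hm : m < r + (s + 1)
    · exact hδ ⟨m, hm⟩
    · apply coeff_eq_zero_of_natDegree_lt
      have h1 : (dg r s δ * h₀).natDegree ≤ r + s :=
        natDegree_mul_le.trans (add_le_add (natDegree_dg_le r s δ) hs)
      have h2 : (g₀ * hpoly r s δ).natDegree ≤ r + s :=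
        natDegree_mul_le.trans (add_le_add hr.le (natDegree_hpoly_le r s δ))
      have h3 := natDegree_add_le_of_degree_le h1 h2
      omega
  have hdvd : g₀ ∣ dg r s δ * h₀ := by
    refine ⟨-hpoly r s δ, ?_⟩
    rw [mul_neg]
    exact eq_neg_of_add_eq_zero_left hW
  have hdvd' : g₀ ∣ dg r s δ := hc.dvd_of_dvd_mul_right hdvd
  have hdg : dg r s δ = 0 := by
    apply eq_zero_of_dvd_of_degree_lt hdvd'
    rw [degree_eq_natDegree hg.ne_zero, hr]
    exact degree_dg_lt r s δ
  have hh : hpoly r s δ = 0 := by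
    rw [hdg, zero_mul, zero_add] at hW
    rcases mul_eq_zero.1 hW with h | h
    · exact absurd h hg.ne_zero
    · exact h
  funext i
  refine Fin.addCases (fun j => ?_) (fun j => ?_) i
  · have := congrArg (fun p : K[X] => p.coeff j) hdg
    simp only [coeff_dg, coeff_zero, dif_pos j.2] at this
    exact this
  · have := congrArg (fun p : K[X] => p.coeff j) hh
    simp only [coeff_hpoly, coeff_zero, dif_pos j.2] at this
    exact this

end Field

section Map

variable {R S : Type u} [CommRing R] [CommRing S] (φ : R →+* S) (r s : ℕ)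

theorem map_dg (δ : Fin (r + (s + 1)) → R) : (dg r s δ).map φ = dg r s (φ ∘ δ) := by
  ext a
  rw [coeff_map, coeff_dg, coeff_dg]
  split_ifs
  · rfl
  · exact map_zero φ

theorem map_hpoly (δ : Fin (r + (s + 1)) → R) : (hpoly r s δ).map φ = hpoly r s (φ ∘ δ) := by
  ext a
  rw [coeff_map, coeff_hpoly, coeff_hpoly]
  split_ifs
  · rfl
  · exact map_zero φ

theorem map_gpoly (δ : Fin (r + (s + 1)) → R) : (gpoly r s δ).map φ = gpoly r s (φ ∘ δ) := by
  rw [gpoly, gpoly, Polynomial.map_add, Polynomial.map_pow, map_X, map_dg]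

end Map

/-- S0497: lifting of factorizations, not necessarily monic. -/
theorem factor_lift (R : Type u) [CommRing R] [HenselianLocalRing R]
    (f : R[X]) (g₀ h₀ : (ResidueField R)[X]) (hg : g₀.Monic)
    (hc : IsCoprime g₀ h₀) (hf : f.map (residue R) = g₀ * h₀) :
    ∃ g h : R[X], f = g * h ∧ g.Monic ∧ g.map (residue R) = g₀ ∧ h.map (residue R) = h₀ := by
  classical
  set r := g₀.natDegree with hr
  set s := f.natDegree with hs
  have hh₀deg : h₀.natDegree ≤ s := by
    by_cases h0 : h₀ = 0
    · rw [h0, natDegree_zero]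
      exact Nat.zero_le _
    · have h1 : (g₀ * h₀).natDegree = g₀.natDegree + h₀.natDegree := hg.natDegree_mul' h0
      have h2 : (f.map (residue R)).natDegree ≤ f.natDegree := natDegree_map_le
      rw [hf, h1] at h2
      omega
  have hsurj : Function.Surjective (residue R) := residue_surjective
  -- generic coefficient comparison
  have hg_map : ∀ x : Fin (r + (s + 1)) → ResidueField R,
      (∀ j : Fin r, x (Fin.castAdd (s + 1) j) = g₀.coeff j) → gpoly r s x = g₀ := by
    intro x hx
    ext a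
    rw [coeff_gpoly]
    by_cases h : a < r
    · rw [dif_pos h]
      exact hx ⟨a, h⟩
    · rw [dif_neg h]
      by_cases h' : a = r
      · rw [if_pos h', h', hr]
        exact hg.coeff_natDegree.symm
      · rw [if_neg h']
        exact (coeff_eq_zero_of_natDegree_lt (by omega)).symm
  have hh_map : ∀ x : Fin (r + (s + 1)) → ResidueField R,
      (∀ j : Fin (s + 1), x (Fin.natAdd r j) = h₀.coeff j) → hpoly r s x = h₀ := by
    intro x hx
    ext a
    rw [coeff_hpoly]
    by_cases h : a < s + 1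
    · rw [dif_pos h]
      exact hx ⟨a, h⟩
    · rw [dif_neg h]
      exact (coeff_eq_zero_of_natDegree_lt (by omega)).symm
  -- the initial point
  let x₀ : Fin (r + (s + 1)) → R :=
    Fin.addCases (fun j : Fin r => Function.surjInv hsurj (g₀.coeff j))
      (fun j : Fin (s + 1) => Function.surjInv hsurj (h₀.coeff j))
  have hx₀g : ∀ j : Fin r, residue R (x₀ (Fin.castAdd (s + 1) j)) = g₀.coeff j := by
    intro j
    show residue R (Fin.addCases _ _ (Fin.castAdd (s + 1) j)) = _
    rw [Fin.addCases_left]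
    exact Function.surjInv_eq hsurj _
  have hx₀h : ∀ j : Fin (s + 1), residue R (x₀ (Fin.natAdd r j)) = h₀.coeff j := by
    intro j
    show residue R (Fin.addCases _ _ (Fin.natAdd r j)) = _
    rw [Fin.addCases_right]
    exact Function.surjInv_eq hsurj _
  have hg₀ : (gpoly r s x₀).map (residue R) = g₀ := by
    rw [map_gpoly]
    exact hg_map _ hx₀g
  have hh₀ : (hpoly r s x₀).map (residue R) = h₀ := by
    rw [map_hpoly]
    exact hh_map _ hx₀h
  have hcond : ∀ k, MvPolynomial.eval x₀ (Psys r s f k) ∈ maximalIdeal R := by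
    intro k
    rw [eval_Psys, ← residue_eq_zero_iff, map_sub, ← coeff_map, ← coeff_map, Polynomial.map_mul,
      hg₀, hh₀, hf, sub_self]
  have hJ : IsUnit (Matrix.of (fun i j =>
      MvPolynomial.eval x₀ (MvPolynomial.pderiv j (Psys r s f i)))).det := by
    rw [← residue_ne_zero_iff_isUnit, RingHom.map_det]
    intro hdet
    obtain ⟨v, hv0, hv⟩ := Matrix.exists_mulVec_eq_zero_iff.2 hdet
    apply hv0
    let δ : Fin (r + (s + 1)) → R := fun i => Function.surjInv hsurj (v i)
    have hδ : (residue R) ∘ δ = v := by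
      funext i
      exact Function.surjInv_eq hsurj _
    apply kernel_trivial r s g₀ h₀ hg hr.symm hh₀deg hc v
    intro k
    have h1 := RingHom.map_mulVec (residue R) (Matrix.of (fun i j =>
      MvPolynomial.eval x₀ (MvPolynomial.pderiv j (Psys r s f i)))) δ k
    rw [jacobian_mulVec, hδ] at h1
    have h2 := congrFun hv k
    rw [RingHom.mapMatrix_apply] at h2
    have hg₀' : gpoly r s ((residue R) ∘ x₀) = g₀ := hg_map _ hx₀g
    have hh₀' : hpoly r s ((residue R) ∘ x₀) = h₀ := hh_map _ hx₀h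
    rw [h2, Pi.zero_apply, ← coeff_map] at h1
    simp only [Polynomial.map_add, Polynomial.map_mul, map_dg, map_hpoly, map_gpoly, hg₀', hh₀',
      hδ] at h1
    exact h1
  obtain ⟨x, hx0, hxm⟩ := exists_root_mv (r + (s + 1)) (Psys r s f) x₀ hcond hJ
  have hres : ∀ j, residue R (x j) = residue R (x₀ j) := by
    intro j
    rw [← sub_eq_zero, ← map_sub, residue_eq_zero_iff]
    exact hxm j
  refine ⟨gpoly r s x, hpoly r s x, ?_, monic_gpoly r s x, ?_, ?_⟩
  · ext m
    by_cases hm : m < r + (s + 1)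
    · have := hx0 ⟨m, hm⟩
      rw [eval_Psys, sub_eq_zero] at this
      exact this.symm
    · rw [coeff_eq_zero_of_natDegree_lt (by omega), coeff_eq_zero_of_natDegree_lt]
      have h1 : (gpoly r s x * hpoly r s x).natDegree ≤ r + s :=
        natDegree_mul_le.trans (add_le_add (natDegree_gpoly_le r s x) (natDegree_hpoly_le r s x))
      omega
  · rw [map_gpoly]
    apply hg_map
    intro j
    show residue R (x _) = _
    rw [hres, hx₀g]
  · rw [map_hpoly]
    apply hh_map
    intro j
    show residue R (x _) = _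
    rw [hres, hx₀h]

end Groth.Agent.Lib.helper24.FactorLift

end
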