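import Mathlib
import Groth.Prelude.Def_EGA4b
import Groth.Agent.Lib.Helper24.FibCons5

/-!
# Constructibility of fibrewise loci (helper24), part 6: Cohen–Macaulay locus, codepth `= n` locus,
and the base-level Cohen–Macaulay locus (EGA IV 9.9.2–9.9.4)
-/

set_option autoImplicit false
universe u

namespace Groth.Agent.Lib.Helper24.FibCons

open AlgebraicGeometry CategoryTheory IsLocalRing Topology LocCoh Set.Notation
  Groth.Agent.Lib.helper17.FibreStalk Groth.Agent.Lib.Helper24.FibCod

attribute [local instance] Groth.Agent.Lib.helper26.SkFlat.isLocalRing_fibLocRing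

/-- the local rings of the fibres of a morphism locally of finite presentation are Noetherian. -/
theorem isNoetherianRing_fibre_stalk {X Y : Scheme.{u}} (f : X ⟶ Y)
    [LocallyOfFinitePresentation f] (x : X) :
    IsNoetherianRing ((f.fiber (f.base x)).presheaf.stalk (f.asFiber x)) := by
  obtain ⟨_, ⟨V, hV : IsAffineOpen V, rfl⟩, hfxV, -⟩ :=
    Y.isBasis_affineOpens.exists_subset_of_mem_open (Set.mem_univ (f x)) isOpen_univ
  obtain ⟨_, ⟨U, hU : IsAffineOpen U, rfl⟩, hxU, hUV'⟩ :=
    X.isBasis_affineOpens.exists_subset_of_mem_open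
      (show x ∈ (f ⁻¹ᵁ V : Set X) from hfxV) (f ⁻¹ᵁ V).isOpen
  have hUV : U ≤ f ⁻¹ᵁ V := hUV'
  have hfp : (f.appLE V U hUV).hom.FinitePresentation := f.finitePresentation_appLE hV hU hUV
  letI := (f.appLE V U hUV).hom.toAlgebra
  haveI : Algebra.FinitePresentation Γ(Y, V) Γ(X, U) := hfp
  obtain ⟨e1⟩ := nonempty_asFiber_stalk_equiv f x
  obtain ⟨e2⟩ := nonempty_fibRing_equiv_fibLocRing f hV hU hUV x hxU
  haveI : IsNoetherianRing (EGA4.FibLocRing Γ(Y, V) Γ(X, U) (hU.primeIdealOf ⟨x, hxU⟩).asIdeal) :=
    isNoetherianRing_fibLocRing _ _ _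
  exact isNoetherianRing_of_ringEquiv _ (e2.symm.trans e1)

section arith

variable (R : Type u) [CommRing R] [IsLocalRing R] [IsNoetherianRing R]

theorem depth_le_ringKrullDim :
    ((depth R R : ℕ∞) : WithBot ℕ∞) ≤ ringKrullDim R := by
  rw [← Module.supportDim_self_eq_ringKrullDim]
  exact Groth.Agent.Lib.helper26.Depth.depth_le_supportDim (A := R) R

theorem isCohenMacaulayLocalRing_iff :
    IsCohenMacaulayLocalRing R ↔ CodepthLE 0 R := by
  unfold CodepthLE
  constructor
  · intro h
    have := h.supportDim_eq_depth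
    rw [Module.supportDim_self_eq_ringKrullDim] at this
    rw [this]
    simp
  · intro h
    refine ⟨?_⟩
    rw [Module.supportDim_self_eq_ringKrullDim]
    refine le_antisymm ?_ (depth_le_ringKrullDim R)
    simpa using h

theorem codepth_eq_zero_iff :
    ringKrullDim R = ((depth R R : ℕ∞) : WithBot ℕ∞) + ((0 : ℕ) : WithBot ℕ∞) ↔
      CodepthLE 0 R := by
  unfold CodepthLE
  constructor
  · intro h
    exact h.le
  · intro h
    refine le_antisymm h ?_
    simpa using depth_le_ringKrullDim R

theorem codepth_eq_succ_iff (n : ℕ) :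
    ringKrullDim R = ((depth R R : ℕ∞) : WithBot ℕ∞) + ((n + 1 : ℕ) : WithBot ℕ∞) ↔
      CodepthLE (n + 1) R ∧ ¬ CodepthLE n R := by
  unfold CodepthLE
  obtain ⟨a, ha⟩ := exists_nat_ringKrullDim R
  obtain ⟨b, hb⟩ := ENat.ne_top_iff_exists.mp
    (Groth.Agent.Lib.helper26.Depth.depth_ne_top (A := R) R)
  rw [ha, ← hb]
  constructor
  · intro h
    have h' : a = b + (n + 1) := by exact_mod_cast h
    constructor
    · have : a ≤ b + (n + 1) := by omega
      exact_mod_cast this
    · intro h2
      have h2' : a ≤ b + n := by exact_mod_cast h2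
      omega
  · rintro ⟨h1, h2⟩
    have h1' : a ≤ b + (n + 1) := by exact_mod_cast h1
    have h2' : ¬ a ≤ b + n := by
      intro h3
      apply h2
      exact_mod_cast h3
    have : a = b + (n + 1) := by omega
    exact_mod_cast this

end arith

section results

variable {X Y : Scheme.{u}} (f : X ⟶ Y) [LocallyOfFinitePresentation f]

/-- **EGA IV 9.9.3/9.9.4**: the Cohen–Macaulay locus of the fibres is locally constructible. -/
theorem isLocallyConstructible_isCohenMacaulay :
    IsLocallyConstructible {x : X |
      IsCohenMacaulayLocalRing ((f.fiber (f.base x)).presheaf.stalk (f.asFiber x))} := by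
  have h := isLocallyConstructible_codepth_le f 0
  have hset : {x : X |
      IsCohenMacaulayLocalRing ((f.fiber (f.base x)).presheaf.stalk (f.asFiber x))} =
      {x : X | ringKrullDim ((f.fiber (f.base x)).presheaf.stalk (f.asFiber x)) ≤
        ((depth ((f.fiber (f.base x)).presheaf.stalk (f.asFiber x))
          ((f.fiber (f.base x)).presheaf.stalk (f.asFiber x)) : ℕ∞) : WithBot ℕ∞) + (0 : ℕ)} := by
    ext x
    haveI := isNoetherianRing_fibre_stalk f x
    exact isCohenMacaulayLocalRing_iff _
  rw [hset]
  exact h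

/-- **EGA IV 9.9.2**: the locus where the fibre has codepth exactly `n` is locally
constructible. -/
theorem isLocallyConstructible_codepth_eq (n : ℕ) :
    IsLocallyConstructible {x : X |
      ringKrullDim ((f.fiber (f.base x)).presheaf.stalk (f.asFiber x)) =
        ((depth ((f.fiber (f.base x)).presheaf.stalk (f.asFiber x))
          ((f.fiber (f.base x)).presheaf.stalk (f.asFiber x)) : ℕ∞) : WithBot ℕ∞) + n} := by
  cases n with
  | zero =>
    have h := isLocallyConstructible_codepth_le f 0
    have hset : {x : X |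
        ringKrullDim ((f.fiber (f.base x)).presheaf.stalk (f.asFiber x)) =
        ((depth ((f.fiber (f.base x)).presheaf.stalk (f.asFiber x))
          ((f.fiber (f.base x)).presheaf.stalk (f.asFiber x)) : ℕ∞) : WithBot ℕ∞) + (0 : ℕ)} =
        {x : X | ringKrullDim ((f.fiber (f.base x)).presheaf.stalk (f.asFiber x)) ≤
          ((depth ((f.fiber (f.base x)).presheaf.stalk (f.asFiber x))
            ((f.fiber (f.base x)).presheaf.stalk (f.asFiber x)) : ℕ∞) : WithBot ℕ∞) + (0 : ℕ)} := by
      ext x
      haveI := isNoetherianRing_fibre_stalk f x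
      exact codepth_eq_zero_iff _
    rw [hset]
    exact h
  | succ n =>
    have h1 := isLocallyConstructible_codepth_le f (n + 1)
    have h2 := isLocallyConstructible_compl (isLocallyConstructible_codepth_le f n)
    have hset : {x : X |
        ringKrullDim ((f.fiber (f.base x)).presheaf.stalk (f.asFiber x)) =
        ((depth ((f.fiber (f.base x)).presheaf.stalk (f.asFiber x))
          ((f.fiber (f.base x)).presheaf.stalk (f.asFiber x)) : ℕ∞) : WithBot ℕ∞) +
            ((n + 1 : ℕ) : WithBot ℕ∞)} =
        {x : X | ringKrullDim ((f.fiber (f.base x)).presheaf.stalk (f.asFiber x)) ≤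
          ((depth ((f.fiber (f.base x)).presheaf.stalk (f.asFiber x))
            ((f.fiber (f.base x)).presheaf.stalk (f.asFiber x)) : ℕ∞) : WithBot ℕ∞) +
              ((n + 1 : ℕ) : WithBot ℕ∞)} ∩
        {x : X | ringKrullDim ((f.fiber (f.base x)).presheaf.stalk (f.asFiber x)) ≤
          ((depth ((f.fiber (f.base x)).presheaf.stalk (f.asFiber x))
            ((f.fiber (f.base x)).presheaf.stalk (f.asFiber x)) : ℕ∞) : WithBot ℕ∞) +
              (n : WithBot ℕ∞)}ᶜ := by
      ext x
      haveI := isNoetherianRing_fibre_stalk f x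
      exact codepth_eq_succ_iff _ n
    rw [hset]
    exact h1.inter h2

/-- **EGA IV 9.9.4**: for `f` of finite presentation the set of points of the base whose fibre is
Cohen–Macaulay is locally constructible. -/
theorem isLocallyConstructible_cohenMacaulay_fibre [QuasiCompact f] :
    IsLocallyConstructible {s : Y |
      ∀ z : ↥(f.fiber s), IsCohenMacaulayLocalRing ((f.fiber s).presheaf.stalk z)} := by
  have h := isLocallyConstructible_compl
    (f.isLocallyConstructible_image
      (isLocallyConstructible_compl (isLocallyConstructible_isCohenMacaulay f)))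
  have hset : {s : Y |
      ∀ z : ↥(f.fiber s), IsCohenMacaulayLocalRing ((f.fiber s).presheaf.stalk z)} =
      (f '' {x : X |
        IsCohenMacaulayLocalRing ((f.fiber (f.base x)).presheaf.stalk (f.asFiber x))}ᶜ)ᶜ := by
    ext s
    rw [Set.mem_compl_iff, Set.mem_image]
    change (∀ z : ↥(f.fiber s), IsCohenMacaulayLocalRing ((f.fiber s).presheaf.stalk z)) ↔
      ¬ ∃ x : X, ¬ IsCohenMacaulayLocalRing
        ((f.fiber (f.base x)).presheaf.stalk (f.asFiber x)) ∧ f x = s
    constructor
    · rintro h ⟨x, hx, rfl⟩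
      exact hx (h (f.asFiber x))
    · intro h z
      by_contra hcon
      apply h
      obtain ⟨x, hx⟩ : ∃ x : f ⁻¹' {s}, x = f.fiberHomeo s z := ⟨_, rfl⟩
      obtain ⟨x, hxs⟩ := x
      have hz : z = (f.fiberHomeo s).symm ⟨x, hxs⟩ := by
        rw [hx]; exact ((f.fiberHomeo s).symm_apply_apply z).symm
      have hxs' : f x = s := hxs
      refine ⟨x, ?_, hxs'⟩
      subst hxs'
      rw [hz] at hcon
      exact hcon
  rw [hset]
  exact h

end results

end Groth.Agent.Lib.Helper24.FibCons
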