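import Mathlib
import Groth.Prelude.Def_EGA4b
import Groth.Prelude.Def_FDesc
import Groth.Prelude.Def_CohB1
import Groth.Prelude.Def_FlatMod2
import Groth.Prelude.Def_CInt
import Groth.Agent.Lib.Helper24.AssFib3

/-!
# Depth of fibre modules along a closed subset (helper24): EGA IV 12.3.4-type openness

`f : X ⟶ S` locally of finite presentation, `F` a finitely presented `O_X`-module flat over `S`, `Y`
closed in `X`: the set of `x` such that all generizations `z ∈ Y` of `x` in the fibre through `x` have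
fibre depth `≥ n` is open in `X`.
-/

set_option autoImplicit false
universe u

namespace Groth.Agent.Lib.Helper24.FibDA

open AlgebraicGeometry CategoryTheory IsLocalRing LocCoh
  Groth.Agent.Lib.helper17.FibreStalk Groth.Agent.Lib.helper17.StalkPullback
  Groth.Agent.Lib.helper16.CohStalk Groth.Agent.Lib.helper17.FlatOver1
  Groth.Agent.Lib.helper3.DimIneq Groth.Agent.Lib.helper3.FTField
  Groth.Agent.Lib.helper3.FibreField Groth.Agent.Lib.Helper24.FibCod
  Groth.Agent.Lib.Helper24.FibMd Groth.Agent.Lib.Helper24.FibRd Groth.Agent.Lib.Helper24.AssFib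

attribute [local instance] Groth.Agent.Lib.helper26.SkFlat.isLocalRing_fibLocRing

section ring

variable (A B : Type u) [CommRing A] [CommRing B] [Algebra A B] [Algebra.FinitePresentation A B]
  (M : Type u) [AddCommGroup M] [Module B M] [Module A M] [IsScalarTower A B M]
  [Module.FinitePresentation B M] [Module.Flat A M]

/-- the set of primes having, in their fibre, a generization in `E` of fibre depth `< n`. -/
def lowDepthAlong (A B : Type u) [CommRing A] [CommRing B] [Algebra A B] (M : Type u)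
    [AddCommGroup M] [Module B M] (n : ℕ) (E : Set (PrimeSpectrum B)) : Set (PrimeSpectrum B) :=
  {Q | ∃ z : PrimeSpectrum B, z.asIdeal ≤ Q.asIdeal ∧
    z.asIdeal.comap (algebraMap A B) = Q.asIdeal.comap (algebraMap A B) ∧ z ∈ E ∧
      fdepth A B M z < n}

theorem isClosed_lowDepthAlong (n : ℕ) (E : Set (PrimeSpectrum B)) (hE : IsClosed E) :
    IsClosed (lowDepthAlong A B M n E) := by
  haveI : Algebra.FiniteType A B := Algebra.FiniteType.of_finitePresentation
  obtain ⟨N, hN⟩ := exists_tdN_le A B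
  have hcl : IsClosed (⋃ t ∈ Finset.range (N + 1),
      {Q : PrimeSpectrum B | ∃ q : PrimeSpectrum B, q.asIdeal ≤ Q.asIdeal ∧
        q.asIdeal.comap (algebraMap A B) = Q.asIdeal.comap (algebraMap A B) ∧
        q ∈ E ∩ (rdepthLocus A B M (n + t))ᶜ ∧ t ≤ tdN A q.asIdeal}) :=
    isClosed_biUnion_finset fun t _ =>
      isClosed_setOf_exists_fibGen_tdN_ge A B _
        (hE.inter (isOpen_rdepthLocus A B M (n + t)).isClosed_compl) t
  convert hcl using 1
  ext Q
  simp only [lowDepthAlong, Set.mem_ofPred_eq, Set.mem_iUnion, Finset.mem_range, Set.mem_inter_iff,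
    Set.mem_compl_iff]
  constructor
  · rintro ⟨z, hle, hfib, hzE, hd⟩
    refine ⟨tdN A z.asIdeal, Nat.lt_succ_of_le (hN z), z, hle, hfib, ⟨hzE, ?_⟩, le_rfl⟩
    intro hmem
    have h1 : ((n + tdN A z.asIdeal : ℕ) : ℕ∞) ≤ fdepth A B M z + (tdN A z.asIdeal : ℕ∞) := hmem
    obtain ⟨d, hd'⟩ := ENat.ne_top_iff_exists.mp (ne_top_of_lt hd)
    rw [← hd'] at h1 hd
    have h2 : d < n := by exact_mod_cast hd
    have h3 : n + tdN A z.asIdeal ≤ d + tdN A z.asIdeal := by exact_mod_cast h1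
    omega
  · rintro ⟨t, -, z, hle, hfib, ⟨hzE, hz⟩, htz⟩
    refine ⟨z, hle, hfib, hzE, ?_⟩
    by_contra hcon
    rw [not_lt] at hcon
    apply hz
    show ((n + t : ℕ) : ℕ∞) ≤ fdepth A B M z + (tdN A z.asIdeal : ℕ∞)
    have h1 : ((n + t : ℕ) : ℕ∞) = (n : ℕ∞) + (t : ℕ∞) := by push_cast; rfl
    rw [h1]
    exact add_le_add hcon (by exact_mod_cast htz)

end ring

section charts

variable {X Y : Scheme.{u}} (f : X ⟶ Y) [LocallyOfFinitePresentation f] (F : X.Modules)
  (hF : CohB1.IsFP F) (hflat : FlatMod.IsFlatOver f F)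

include hF hflat in
/-- a generic chart argument for sets of points of `X` defined relative to a closed subset. -/
theorem isOpen_of_charts_closed (P : X → Prop) (Ycl : Set X) (hY : IsClosed Ycl)
    (R : ∀ (A B : Type u) [CommRing A] [CommRing B] [Algebra A B] (M : Type u) [AddCommGroup M]
      [Module B M], Set (PrimeSpectrum B) → Set (PrimeSpectrum B))
    (hR : ∀ (A B : Type u) [CommRing A] [CommRing B] [Algebra A B]
      [Algebra.FinitePresentation A B] (M : Type u) [AddCommGroup M] [Module B M] [Module A M]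
      [IsScalarTower A B M] [Module.FinitePresentation B M] [Module.Flat A M]
      (E : Set (PrimeSpectrum B)), IsClosed E → IsOpen (R A B M E))
    (hPR : ∀ (V : Y.Opens) (_ : IsAffineOpen V) (U : X.Opens) (hU : IsAffineOpen U)
      (e : U ≤ f ⁻¹ᵁ V) (_ : (f.appLE V U e).hom.FiniteType)
      (_ : Module.Finite Γ(X, U) Γ(F, U)) (x : X) (hx : x ∈ U),
      letI := (f.appLE V U e).hom.toAlgebra
      P x ↔ hU.primeIdealOf ⟨x, hx⟩ ∈ R Γ(Y, V) Γ(X, U) Γ(F, U) (hU.fromSpec ⁻¹' Ycl)) :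
    IsOpen {x : X | P x} := by
  haveI hF' : SheafOfModules.IsFinitePresentation (R := X.ringCatSheaf) F := hF
  haveI : F.IsQuasicoherent := SheafOfModules.instIsQuasicoherentOfIsFinitePresentation F
  rw [isOpen_iff_forall_mem_open]
  intro x hx
  obtain ⟨_, ⟨V, hV : IsAffineOpen V, rfl⟩, hfxV, -⟩ :=
    Y.isBasis_affineOpens.exists_subset_of_mem_open (Set.mem_univ (f x)) isOpen_univ
  obtain ⟨_, ⟨U, hU : IsAffineOpen U, rfl⟩, hxU, hUV'⟩ :=
    X.isBasis_affineOpens.exists_subset_of_mem_open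
      (show x ∈ (f ⁻¹ᵁ V : Set X) from hfxV) (f ⁻¹ᵁ V).isOpen
  have hUV : U ≤ f ⁻¹ᵁ V := hUV'
  have hfp : (f.appLE V U hUV).hom.FinitePresentation := f.finitePresentation_appLE hV hU hUV
  letI := (f.appLE V U hUV).hom.toAlgebra
  haveI : Algebra.FinitePresentation Γ(Y, V) Γ(X, U) := hfp
  haveI hMfp : Module.FinitePresentation Γ(X, U) Γ(F, U) :=
    Groth.Agent.Lib.helper16.CohFP.fp_sections_of_isFinitePresentation F hF hU
  letI := modSecBase f F hUV
  haveI := isScalarTower_sections f F hUV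
  haveI : Module.Flat Γ(Y, V) Γ(F, U) :=
    flat_sections_of_isFlatOverAt f F hUV hU hV (fun x _ => hflat x)
  have hEcl : IsClosed (hU.fromSpec ⁻¹' Ycl) := hY.preimage hU.fromSpec.continuous
  have hopen := hR Γ(Y, V) Γ(X, U) Γ(F, U) (hU.fromSpec ⁻¹' Ycl) hEcl
  have hft : (f.appLE V U hUV).hom.FiniteType := RingHom.FiniteType.of_finitePresentation hfp
  have hfin : Module.Finite Γ(X, U) Γ(F, U) := inferInstance
  have key : ∀ (y : X) (hy : y ∈ U), P y ↔
      hU.primeIdealOf ⟨y, hy⟩ ∈ R Γ(Y, V) Γ(X, U) Γ(F, U) (hU.fromSpec ⁻¹' Ycl) :=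
    fun y hy => hPR V hV U hU hUV hft hfin y hy
  refine ⟨hU.fromSpec '' R Γ(Y, V) Γ(X, U) Γ(F, U) (hU.fromSpec ⁻¹' Ycl), ?_,
    hU.fromSpec.isOpenEmbedding.isOpenMap _ hopen, ?_⟩
  · rintro _ ⟨q, hq, rfl⟩
    have hyU : hU.fromSpec q ∈ U := by
      rw [← SetLike.mem_coe, ← hU.range_fromSpec]
      exact Set.mem_range_self q
    have hq' : hU.primeIdealOf ⟨hU.fromSpec q, hyU⟩ = q :=
      hU.fromSpec.isOpenEmbedding.injective (hU.fromSpec_primeIdealOf ⟨hU.fromSpec q, hyU⟩)
    refine (key _ hyU).mpr ?_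
    rw [hq']
    exact hq
  · exact ⟨hU.primeIdealOf ⟨x, hxU⟩, (key x hxU).mp hx, hU.fromSpec_primeIdealOf ⟨x, hxU⟩⟩

end charts

section dict

variable {X Y : Scheme.{u}} (f : X ⟶ Y) (F : X.Modules) [F.IsQuasicoherent] {V : Y.Opens}
  (hV : IsAffineOpen V) {U : X.Opens} (hU : IsAffineOpen U) (e : U ≤ f ⁻¹ᵁ V)
  (hft : (f.appLE V U e).hom.FiniteType) (hfin : Module.Finite Γ(X, U) Γ(F, U))

include hV hft hfin in
/-- the fibre depth at a point of a chart. -/
theorem fiberDepth_eq (z : X) (hz : z ∈ U) :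
    letI := (f.appLE V U e).hom.toAlgebra
    CInt.fiberDepth f F z = fdepth Γ(Y, V) Γ(X, U) Γ(F, U) (hU.primeIdealOf ⟨z, hz⟩) := by
  letI := (f.appLE V U e).hom.toAlgebra
  have hz' : f.fiberι (f.base z) (f.asFiber z) ∈ U := by
    rw [f.fiberι_asFiber]
    exact hz
  have hq : hU.primeIdealOf ⟨f.fiberι (f.base z) (f.asFiber z), hz'⟩ = hU.primeIdealOf ⟨z, hz⟩ := by
    congr 1
    exact Subtype.ext (f.fiberι_asFiber z)
  have h := (depth_supportDim_fibre_stalk f F hV hU e hft hfin (f.base z) (f.asFiber z) hz').1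
  rw [← hq]
  exact h

include hV hft hfin in
/-- the chart for the depth of the fibre module along a subset. -/
theorem forall_fiberDepth_iff (Ycl : Set X) (n : ℕ) (x : X) (hx : x ∈ U) :
    letI := (f.appLE V U e).hom.toAlgebra
    (∀ z : X, z ∈ Ycl → z ⤳ x → f.base z = f.base x → (n : ℕ∞) ≤ CInt.fiberDepth f F z) ↔
      hU.primeIdealOf ⟨x, hx⟩ ∈
        (lowDepthAlong Γ(Y, V) Γ(X, U) Γ(F, U) n (hU.fromSpec ⁻¹' Ycl))ᶜ := by
  letI := (f.appLE V U e).hom.toAlgebra
  constructor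
  · rintro h ⟨q, hle, hfib, hqE, hd⟩
    have hzU : hU.fromSpec q ∈ U := by
      rw [← SetLike.mem_coe, ← hU.range_fromSpec]
      exact Set.mem_range_self q
    have hq' : hU.primeIdealOf ⟨hU.fromSpec q, hzU⟩ = q :=
      hU.fromSpec.isOpenEmbedding.injective (hU.fromSpec_primeIdealOf ⟨hU.fromSpec q, hzU⟩)
    have hsp : hU.fromSpec q ⤳ x := by
      rw [specializes_iff_primeIdealOf_le hU _ _ hzU hx, hq']
      exact hle
    have hfz : f.base (hU.fromSpec q) = f.base x := by
      have h1 := comap_primeIdealOf f hV hU e _ hzU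
      have h2 := comap_primeIdealOf f hV hU e _ hx
      rw [hq'] at h1
      rw [h1, h2] at hfib
      have h3 : hV.primeIdealOf ⟨f (hU.fromSpec q), e hzU⟩ = hV.primeIdealOf ⟨f x, e hx⟩ :=
        PrimeSpectrum.ext hfib
      have h4 := congrArg hV.fromSpec h3
      rw [hV.fromSpec_primeIdealOf, hV.fromSpec_primeIdealOf] at h4
      exact h4
    have h5 := h (hU.fromSpec q) hqE hsp hfz
    rw [fiberDepth_eq f F hV hU e hft hfin _ hzU, hq'] at h5
    exact absurd hd (not_lt.mpr h5)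
  · intro h z hzY hzx hfz
    have hzU : z ∈ U := hzx.mem_open U.isOpen hx
    rw [fiberDepth_eq f F hV hU e hft hfin z hzU]
    by_contra hcon
    rw [not_le] at hcon
    apply h
    refine ⟨hU.primeIdealOf ⟨z, hzU⟩,
      (specializes_iff_primeIdealOf_le hU _ _ hzU hx).mp hzx, ?_, ?_, hcon⟩
    · rw [comap_primeIdealOf f hV hU e _ hzU, comap_primeIdealOf f hV hU e _ hx]
      have h1 : (⟨f z, e hzU⟩ : V) = ⟨f x, e hx⟩ := Subtype.ext hfz
      rw [h1]
    · show hU.fromSpec (hU.primeIdealOf ⟨z, hzU⟩) ∈ Ycl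
      rw [hU.fromSpec_primeIdealOf]
      exact hzY

end dict

section main

variable {X Y : Scheme.{u}} (f : X ⟶ Y) [LocallyOfFinitePresentation f] (F : X.Modules)
  (hF : CohB1.IsFP F) (hflat : FlatMod.IsFlatOver f F)

include hF hflat in
/-- the set of points all of whose generizations in `Ycl`, in their fibre, have fibre depth `≥ n` is
open. -/
theorem isOpen_setOf_forall_fiberDepth_ge (Ycl : Set X) (hY : IsClosed Ycl) (n : ℕ) :
    IsOpen {x : X | ∀ z : X, z ∈ Ycl → z ⤳ x → f.base z = f.base x →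
      (n : ℕ∞) ≤ CInt.fiberDepth f F z} := by
  haveI hF' : SheafOfModules.IsFinitePresentation (R := X.ringCatSheaf) F := hF
  haveI : F.IsQuasicoherent := SheafOfModules.instIsQuasicoherentOfIsFinitePresentation F
  exact isOpen_of_charts_closed f F hF hflat
    (fun x => ∀ z : X, z ∈ Ycl → z ⤳ x → f.base z = f.base x → (n : ℕ∞) ≤ CInt.fiberDepth f F z)
    Ycl hY (fun A B _ _ _ M _ _ E => (lowDepthAlong A B M n E)ᶜ)
    (fun A B _ _ _ _ M _ _ _ _ _ _ E hE => (isClosed_lowDepthAlong A B M n E hE).isOpen_compl)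
    (fun V hV U hU e hft hfin x hx => forall_fiberDepth_iff f F hV hU e hft hfin Ycl n x hx)

include hF hflat in
/-- **Openness of the depth of the fibre module along a closed subset.** -/
theorem exists_open_fiberDepthAlong_ge (Ycl : TopologicalSpace.Closeds ↥X) (n : ℕ) :
    ∃ U : X.Opens, ∀ y : ↥X, y ∈ Ycl →
      (y ∈ U ↔ (n : ℕ∞) ≤ CInt.fiberDepthAlong f F (Ycl : Set ↥X) y) := by
  refine ⟨⟨_, isOpen_setOf_forall_fiberDepth_ge f F hF hflat (Ycl : Set ↥X) Ycl.isClosed n⟩, ?_⟩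
  intro y _
  unfold CInt.fiberDepthAlong
  rw [le_iInf_iff]
  constructor
  · intro h z
    exact h z.1 z.2.1 z.2.2.1 z.2.2.2
  · intro h z hz1 hz2 hz3
    exact h ⟨z, hz1, hz2, hz3⟩

end main

end Groth.Agent.Lib.Helper24.FibDA
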