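import Groth.Agent.Lib.Helper24.FibEq3
import Groth.Agent.Lib.Helper25.ConstrCompact

/-!
# Depth of fibre modules along a closed subset (helper24), part 2: fibre dimension of closed subsets

For `f : X ⟶ S` locally of finite presentation and `E ⊆ X` closed and locally constructible, the set
of points having a generization in `E`, in their fibre, of residue transcendence degree `> m` is
locally constructible (Chevalley's semicontinuity + retrocompactness for a local closed subscheme
structure on `E`).
-/

set_option autoImplicit false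
universe u

namespace Groth.Agent.Lib.Helper24.FibDA

open AlgebraicGeometry CategoryTheory Topology TopologicalSpace
  Groth.Agent.Lib.helper3.DimIneq Groth.Agent.Lib.helper3.FTField
  Groth.Agent.Lib.helper3.FibreField Groth.Agent.Lib.helper3.DimFibre
  Groth.Agent.Lib.helper3.EquidimIrr Groth.Agent.Lib.Helper24.FibEq
  Groth.Agent.Lib.helper5.FibClos

/-- a subset of a scheme is locally constructible if its traces on the affine opens are. -/
theorem isLocallyConstructible_of_forall_affine {X : Scheme.{u}} (s : Set X)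
    (h : ∀ U : X.affineOpens, IsLocallyConstructible (U.2.fromSpec ⁻¹' s)) :
    IsLocallyConstructible s := by
  refine IsLocallyConstructible.of_isOpenCover (U := fun i : X.affineOpens => (i.1 : X.Opens))
    ?_ fun i => ?_
  · rw [TopologicalSpace.IsOpenCover]
    exact iSup_affineOpens_eq_top X
  · have h1 := (h i).preimage_of_isOpenEmbedding i.2.isoSpec.hom.isOpenEmbedding
    have h2 : i.2.isoSpec.hom ⁻¹' (i.2.fromSpec ⁻¹' s) =
        (Subtype.val ⁻¹' s : Set ↥(i.1 : X.Opens)) := by
      ext x
      simp only [Set.mem_preimage]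
      rw [← Scheme.Hom.comp_apply, i.2.isoSpec_hom_fromSpec]
      rfl
    rw [h2] at h1
    exact h1

/-- points having a fibre-generization in `E` of residue transcendence degree `> m`. -/
def genTd {X S : Scheme.{u}} (f : X ⟶ S) (E : Set X) (m : ℕ) : Set X :=
  {y | ∃ z ∈ E, z ⤳ y ∧ f z = f y ∧ (m : Cardinal.{u}) < td (f.residueFieldMap z).hom}

section chart

variable {X S : Scheme.{u}} (f : X ⟶ S) [LocallyOfFinitePresentation f] (E : Set X)
  (hE : IsClosed E) {U : X.Opens} (hU : IsAffineOpen U) (J : Ideal Γ(X, U)) (hJ : J.FG)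
  (hEJ : hU.fromSpec ⁻¹' E = PrimeSpectrum.zeroLocus (J : Set Γ(X, U)))

/-- the local closed subscheme. -/
noncomputable abbrev j₁ : Spec (CommRingCat.of (Γ(X, U) ⧸ J)) ⟶ Spec Γ(X, U) :=
  Spec.map (CommRingCat.ofHom (Ideal.Quotient.mk J))

instance : IsClosedImmersion (j₁ (U := U) J) :=
  IsClosedImmersion.spec_of_surjective _ Ideal.Quotient.mk_surjective

theorem range_j₁ : Set.range (j₁ (U := U) J) = PrimeSpectrum.zeroLocus (J : Set Γ(X, U)) := by
  have h := _root_.range_comap_of_surjective _ (Ideal.Quotient.mk J)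
    Ideal.Quotient.mk_surjective
  rw [Ideal.mk_ker] at h
  exact h

include hJ in
theorem lfp_j₁ : LocallyOfFinitePresentation (j₁ (U := U) J) := by
  rw [HasRingHomProperty.Spec_iff (P := @LocallyOfFinitePresentation)]
  refine RingHom.FinitePresentation.of_surjective _ Ideal.Quotient.mk_surjective ?_
  change (RingHom.ker (Ideal.Quotient.mk J)).FG
  rw [Ideal.mk_ker]
  exact hJ

include hE hJ hEJ in
theorem preimage_genTd_eq (m : ℕ) :
    hU.fromSpec ⁻¹' genTd f E m =
      j₁ (U := U) J '' {z' | ¬ FlatMor.fibreDimAt (j₁ (U := U) J ≫ hU.fromSpec ≫ f) z' ≤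
        (m : WithBot ℕ∞)} := by
  haveI := lfp_j₁ (U := U) J hJ
  set φ := hU.fromSpec with hφ
  set jj := j₁ (U := U) J ≫ φ with hjj
  have hjjapp : ∀ z', jj z' = φ (j₁ (U := U) J z') := fun z' => by
    rw [hjj, Scheme.Hom.comp_apply]
  have hgeq : j₁ (U := U) J ≫ φ ≫ f = jj ≫ f := by rw [hjj, Category.assoc]
  rw [hgeq]
  set g := jj ≫ f with hg
  have hgapp : ∀ z', g z' = f (φ (j₁ (U := U) J z')) := fun z' => by
    rw [hg, Scheme.Hom.comp_apply, hjjapp]
  have htd : ∀ z', td (g.residueFieldMap z').hom =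
      td (f.residueFieldMap (φ (j₁ (U := U) J z'))).hom := fun z' => by
    have h1 := td_comp_of_surjectiveOnStalks jj f z'
    rw [h1]
    rfl
  ext x
  simp only [Set.mem_preimage, Set.mem_image, Set.mem_ofPred_eq]
  constructor
  · rintro ⟨z, hzE, hzx, hfz, hm⟩
    have hzU : z ∈ Set.range φ := by
      rw [hφ, hU.range_fromSpec]
      have : φ x ∈ (U : Set X) := by
        rw [← hU.range_fromSpec]
        exact ⟨x, rfl⟩
      exact hzx.mem_open U.isOpen this
    obtain ⟨x₁, rfl⟩ := hzU
    have hx₁ : x₁ ∈ Set.range (j₁ (U := U) J) := by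
      rw [range_j₁, ← hEJ]
      exact hzE
    obtain ⟨z'', rfl⟩ := hx₁
    have hxE : φ x ∈ E := hE.closure_subset_iff.mpr (Set.singleton_subset_iff.mpr hzE)
      hzx.mem_closure
    have hx : x ∈ Set.range (j₁ (U := U) J) := by
      rw [range_j₁, ← hEJ]
      exact hxE
    obtain ⟨z', rfl⟩ := hx
    refine ⟨z', ?_, rfl⟩
    have hsp : z'' ⤳ z' := by
      have h1 : j₁ (U := U) J z'' ⤳ j₁ (U := U) J z' :=
        φ.isOpenEmbedding.isInducing.specializes_iff.mp hzx
      exact (j₁ (U := U) J).isEmbedding.isInducing.specializes_iff.mp h1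
    have hgz : g z'' = g z' := by rw [hgapp, hgapp, hfz]
    have h1 := fibreDimAt_le_of_specializes g hsp
    obtain ⟨a, b, ha, -, hab⟩ := fibreDimAt_eq_add g z''
    rw [htd z''] at ha
    rw [ha] at hm
    have hma : m < a := by exact_mod_cast hm
    intro hle
    have h2 := le_trans h1 hle
    rw [hab] at h2
    have h3 : a + b ≤ m := by exact_mod_cast h2
    omega
  · rintro ⟨z', hz', rfl⟩
    obtain ⟨z'', N, hsp, hgz, -, htdN, hd⟩ := exists_maximal_fibre_point g z'
    refine ⟨φ (j₁ (U := U) J z''), ?_, ?_, ?_, ?_⟩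
    · have : j₁ (U := U) J z'' ∈ φ ⁻¹' E := by
        rw [hEJ, ← range_j₁]
        exact ⟨z'', rfl⟩
      exact this
    · exact (hsp.map (j₁ (U := U) J).continuous).map φ.continuous
    · rw [← hgapp, ← hgapp, hgz]
    · rw [← htd z'', htdN]
      rw [hd] at hz'
      have : ¬ N ≤ m := fun h => hz' (by exact_mod_cast h)
      exact_mod_cast (not_le.mp this)

end chart

end Groth.Agent.Lib.Helper24.FibDA
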