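import Groth.Agent.Lib.Helper24.FibDA2
import Groth.Agent.Lib.Helper24.FibDA1
import Groth.Agent.Lib.Helper24.FibRc7

/-!
# Depth of fibre modules along a closed subset (helper24), part 3: local constructibility

* `isLocallyConstructible_genTd`
* `isRetrocompact_of_isLocallyConstructible`: on a scheme, locally constructible sets are
  retrocompact.
* `isLocallyConstructible_setOf_fiberDepthAlong_ge` (EGA IV 12.3.x)
-/

set_option autoImplicit false
universe u

namespace Groth.Agent.Lib.Helper24.FibDA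

open AlgebraicGeometry CategoryTheory Topology TopologicalSpace LocCoh
  Groth.Agent.Lib.helper3.DimIneq Groth.Agent.Lib.helper3.FTField
  Groth.Agent.Lib.helper3.FibreField Groth.Agent.Lib.helper3.DimFibre
  Groth.Agent.Lib.helper3.EquidimIrr Groth.Agent.Lib.Helper24.FibEq
  Groth.Agent.Lib.helper5.FibClos

/-- on a scheme, locally constructible sets are retrocompact. -/
theorem isRetrocompact_of_isLocallyConstructible {X : Scheme.{u}} (s : Set X)
    (hs : IsLocallyConstructible s) : IsRetrocompact s := by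
  intro Ω hΩc hΩo
  have hW : ∀ x ∈ Ω, ∃ W : X.Opens, IsAffineOpen W ∧ x ∈ W ∧ (W : Set X) ⊆ Ω := by
    intro x hx
    obtain ⟨_, ⟨W, hW : IsAffineOpen W, rfl⟩, hxW, hWΩ⟩ :=
      X.isBasis_affineOpens.exists_subset_of_mem_open hx hΩo
    exact ⟨W, hW, hxW, hWΩ⟩
  choose W hWa hxW hWΩ using hW
  obtain ⟨t, ht⟩ := hΩc.elim_finite_subcover (fun x : Ω => ((W x.1 x.2 : X.Opens) : Set X))
    (fun x => (W x.1 x.2).isOpen) (fun x hx => Set.mem_iUnion.mpr ⟨⟨x, hx⟩, hxW x hx⟩)
  have hcomp : ∀ x : Ω, IsCompact (s ∩ (W x.1 x.2 : Set X)) := by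
    intro x
    haveI : IsAffine (W x.1 x.2).toScheme := hWa x.1 x.2
    have h1 : IsConstructible ((W x.1 x.2).ι ⁻¹' s) :=
      (hs.preimage_of_isOpenEmbedding (W x.1 x.2).ι.isOpenEmbedding).isConstructible
    have h2 := (Groth.Agent.Lib.helper25.isCompact_of_isConstructible h1).image
      (W x.1 x.2).ι.continuous
    rwa [Set.image_preimage_eq_inter_range, Scheme.Opens.range_ι] at h2
  have heq : s ∩ Ω = ⋃ x ∈ t, s ∩ (W x.1 x.2 : Set X) := by
    ext y
    simp only [Set.mem_inter_iff, Set.mem_iUnion, exists_prop]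
    constructor
    · rintro ⟨hys, hyΩ⟩
      obtain ⟨x, hxt, hyx⟩ := Set.mem_iUnion₂.mp (ht hyΩ)
      exact ⟨x, hxt, hys, hyx⟩
    · rintro ⟨x, -, hys, hyx⟩
      exact ⟨hys, hWΩ x.1 x.2 hyx⟩
  rw [heq]
  exact t.isCompact_biUnion fun x _ => hcomp x

/-- EGA IV 13.1.x + 9.x: fibre dimension of a closed locally constructible subset. -/
theorem isLocallyConstructible_genTd {X S : Scheme.{u}} (f : X ⟶ S)
    [LocallyOfFinitePresentation f] (E : Set X) (hE : IsClosed E)
    (hEc : IsLocallyConstructible E) (m : ℕ) : IsLocallyConstructible (genTd f E m) := by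
  refine isLocallyConstructible_of_forall_affine _ fun U => ?_
  obtain ⟨U, hU'⟩ := U
  have hU : IsAffineOpen U := hU'
  have hC1 : IsConstructible (hU.fromSpec ⁻¹' E) :=
    (hEc.preimage_of_isOpenEmbedding hU.fromSpec.isOpenEmbedding).isConstructible
  have hC2 : IsCompact (hU.fromSpec ⁻¹' E)ᶜ :=
    Groth.Agent.Lib.helper25.isCompact_of_isConstructible hC1.compl
  have hC3 : IsOpen (hU.fromSpec ⁻¹' E)ᶜ := (hE.preimage hU.fromSpec.continuous).isOpen_compl
  obtain ⟨J, hJ, hJE⟩ := PrimeSpectrum.isCompact_isOpen_iff_ideal.mp ⟨hC2, hC3⟩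
  have hEJ : hU.fromSpec ⁻¹' E = PrimeSpectrum.zeroLocus (J : Set Γ(X, U)) :=
    (compl_injective hJE).symm
  change IsLocallyConstructible (hU.fromSpec ⁻¹' genTd f E m)
  rw [preimage_genTd_eq f E hE hU J hJ hEJ m]
  haveI := lfp_j₁ (U := U) J hJ
  refine (j₁ (U := U) J).isLocallyConstructible_image ?_
  exact isLocallyConstructible_compl (isLocallyConstructible_fibreDimAt_le _ m)

end Groth.Agent.Lib.Helper24.FibDA
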