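import Groth.Agent.Lib.Helper24.FibDA3

/-!
# Depth of fibre modules along a closed subset (helper24), part 4: EGA IV 12.3.x

For `f` locally of finite presentation, `Y ⊆ X` closed and locally constructible, `F` finitely
presented and flat over the base: the set of `y ∈ Y` with `prof_{Y ∩ X_{f y}} F_{f y} ≥ n` at `y`
is locally constructible (hence retrocompact).
-/

set_option autoImplicit false
universe u

namespace Groth.Agent.Lib.Helper24.FibDA

open AlgebraicGeometry CategoryTheory Topology TopologicalSpace LocCoh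
  Groth.Agent.Lib.helper3.DimIneq Groth.Agent.Lib.helper3.FTField
  Groth.Agent.Lib.helper3.FibreField Groth.Agent.Lib.helper3.DimFibre
  Groth.Agent.Lib.helper3.EquidimIrr Groth.Agent.Lib.Helper24.FibEq
  Groth.Agent.Lib.helper5.FibClos

variable {X S : Scheme.{u}} (f : X ⟶ S) [LocallyOfFinitePresentation f] (F : X.Modules)

/-- the rectified depth of the fibre module at a point. -/
noncomputable def rho (x : X) : WithBot ℕ∞ :=
  ((depth ((f.fiber (f.base x)).presheaf.stalk (f.asFiber x))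
    (((Scheme.Modules.pullback (f.fiberι (f.base x))).obj F).presheaf.stalk (f.asFiber x)) : ℕ∞) :
      WithBot ℕ∞) +
    topologicalKrullDim ↥(closure ({f.asFiber x} : Set ↥(f.fiber (f.base x))))

/-- the rectified depth is the depth plus the residue transcendence degree. -/
theorem rho_eq (x : X) : ∃ N : ℕ, td (f.residueFieldMap x).hom = (N : Cardinal.{u}) ∧
    rho f F x = (((CInt.fiberDepth f F x + (N : ℕ∞) : ℕ∞)) : WithBot ℕ∞) := by
  obtain ⟨a, b, ha, -, -⟩ := fibreDimAt_eq_add f x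
  refine ⟨a, ha, ?_⟩
  have hιx : f.fiberι (f x) (f.asFiber x) = x := f.fiberι_asFiber x
  have h1 := dim_closure_fibre f (f x) (f.asFiber x) a (by rw [hιx]; exact ha)
  unfold rho
  rw [h1]
  rfl

theorem rho_lt_iff (x : X) (N : ℕ) (hN : td (f.residueFieldMap x).hom = (N : Cardinal.{u}))
    (m : ℕ) : ¬ ((m : ℕ) : WithBot ℕ∞) ≤ rho f F x ↔ CInt.fiberDepth f F x + (N : ℕ∞) < (m : ℕ∞) := by
  obtain ⟨N', hN', h⟩ := rho_eq f F x
  have : N' = N := by
    rw [hN] at hN'
    exact_mod_cast hN'.symm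
  subst this
  rw [h, not_le]
  exact WithBot.coe_lt_coe

section main

variable (hF : CohB1.IsFP F) (hflat : FlatMod.IsFlatOver f F)

include hF hflat in
theorem isOpen_rho_ge (m : ℕ) : IsOpen {x : X | ((m : ℕ) : WithBot ℕ∞) ≤ rho f F x} :=
  Groth.Agent.Lib.Helper24.FibRd.isOpen_setOf_le_fibre_rectifiedDepth f F hF hflat m

include hF in
theorem isLocallyConstructible_rho_eq (j : ℕ∞) :
    IsLocallyConstructible {x : X | rho f F x = ((j : ℕ∞) : WithBot ℕ∞)} :=
  Groth.Agent.Lib.Helper24.FibRc.isLocallyConstructible_setOf_fibre_rectifiedDepth_eq f F hF j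

theorem compl_rho_ge_eq (m : ℕ) :
    {x : X | ((m : ℕ) : WithBot ℕ∞) ≤ rho f F x}ᶜ =
      ⋃ j ∈ (Finset.range m : Set ℕ), {x : X | rho f F x = (((j : ℕ) : ℕ∞) : WithBot ℕ∞)} := by
  ext x
  simp only [Set.mem_compl_iff, Set.mem_ofPred_eq, Set.mem_iUnion, Finset.coe_range, Set.mem_Iio,
    exists_prop]
  obtain ⟨N, hN, hr⟩ := rho_eq f F x
  rw [rho_lt_iff f F x N hN m, hr]
  constructor
  · intro h
    have hne : CInt.fiberDepth f F x + (N : ℕ∞) ≠ ⊤ := ne_top_of_lt h
    obtain ⟨j, hj⟩ := ENat.ne_top_iff_exists.mp hne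
    refine ⟨j, ?_, by rw [← hj]⟩
    rw [← hj] at h
    exact_mod_cast h
  · rintro ⟨j, hjm, hj⟩
    have hj' : CInt.fiberDepth f F x + (N : ℕ∞) = ((j : ℕ) : ℕ∞) := by
      exact_mod_cast hj
    rw [hj']
    exact_mod_cast hjm

include hF in
theorem isLocallyConstructible_rho_lt (m : ℕ) :
    IsLocallyConstructible {x : X | ((m : ℕ) : WithBot ℕ∞) ≤ rho f F x}ᶜ := by
  rw [compl_rho_ge_eq]
  exact IsLocallyConstructible.biUnion (Finset.range m).finite_toSet fun j _ =>
    isLocallyConstructible_rho_eq f F hF _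

/-- the points of low depth along `Y`. -/
def bad (Y : Set X) (n : ℕ) : Set X :=
  {y | ∃ z ∈ Y, z ⤳ y ∧ f z = f y ∧ CInt.fiberDepth f F z < (n : ℕ∞)}

/-- the closed sets of low rectified depth. -/
def Et (Y : Set X) (n t : ℕ) : Set X :=
  Y ∩ {x : X | ((n + t : ℕ) : WithBot ℕ∞) ≤ rho f F x}ᶜ

include hF hflat in
theorem isClosed_Et (Y : Set X) (hY : IsClosed Y) (n t : ℕ) : IsClosed (Et f F Y n t) :=
  hY.inter (isOpen_rho_ge f F hF hflat (n + t)).isClosed_compl

include hF in
theorem isLocallyConstructible_Et (Y : Set X) (hY : IsLocallyConstructible Y) (n t : ℕ) :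
    IsLocallyConstructible (Et f F Y n t) :=
  hY.inter (isLocallyConstructible_rho_lt f F hF (n + t))

theorem mem_Et_iff (Y : Set X) (n t : ℕ) (x : X) (N : ℕ)
    (hN : td (f.residueFieldMap x).hom = (N : Cardinal.{u})) :
    x ∈ Et f F Y n t ↔ x ∈ Y ∧ CInt.fiberDepth f F x + (N : ℕ∞) < ((n + t : ℕ) : ℕ∞) := by
  unfold Et
  rw [Set.mem_inter_iff, Set.mem_compl_iff, Set.mem_ofPred_eq, rho_lt_iff f F x N hN]

include hF hflat in
theorem bad_eq (Y : Set X) (hY : IsClosed Y) (n : ℕ) :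
    bad f F Y n = Et f F Y n 0 ∪ ⋃ m : ℕ, genTd f (Et f F Y n (m + 1)) m := by
  ext y
  simp only [bad, Set.mem_ofPred_eq, Set.mem_union, Set.mem_iUnion, genTd]
  constructor
  · rintro ⟨z, hzY, hzy, hfz, hd⟩
    obtain ⟨N, hN, -⟩ := rho_eq f F z
    have hne : CInt.fiberDepth f F z ≠ ⊤ := ne_top_of_lt hd
    obtain ⟨d, hd'⟩ := ENat.ne_top_iff_exists.mp hne
    rw [← hd'] at hd
    have hdn : d < n := by exact_mod_cast hd
    rcases Nat.eq_zero_or_pos N with h0 | hpos
    · left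
      subst h0
      have hz : z ∈ Et f F Y n 0 := by
        rw [mem_Et_iff f F Y n 0 z 0 hN, ← hd']
        refine ⟨hzY, ?_⟩
        exact_mod_cast (by omega : d + 0 < n + 0)
      exact (isClosed_Et f F hF hflat Y hY n 0).closure_subset_iff.mpr
        (Set.singleton_subset_iff.mpr hz) hzy.mem_closure
    · right
      obtain ⟨m, rfl⟩ : ∃ m, N = m + 1 := ⟨N - 1, by omega⟩
      refine ⟨m, z, ?_, hzy, hfz, ?_⟩
      · rw [mem_Et_iff f F Y n (m + 1) z (m + 1) hN, ← hd']
        refine ⟨hzY, ?_⟩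
        exact_mod_cast (by omega : d + (m + 1) < n + (m + 1))
      · rw [hN]
        exact_mod_cast (by omega : m < m + 1)
  · rintro (hy | ⟨m, z, hz, hzy, hfz, hm⟩)
    · obtain ⟨N, hN, -⟩ := rho_eq f F y
      rw [mem_Et_iff f F Y n 0 y N hN] at hy
      refine ⟨y, hy.1, specializes_rfl, rfl, ?_⟩
      have hne : CInt.fiberDepth f F y + (N : ℕ∞) ≠ ⊤ := ne_top_of_lt hy.2
      have hne' : CInt.fiberDepth f F y ≠ ⊤ := fun h => hne (by rw [h, top_add])
      obtain ⟨d, hd'⟩ := ENat.ne_top_iff_exists.mp hne'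
      have h2 := hy.2
      rw [← hd'] at h2 ⊢
      have h3 : d + N < n + 0 := by exact_mod_cast h2
      exact_mod_cast (by omega : d < n)
    · obtain ⟨N, hN, -⟩ := rho_eq f F z
      rw [mem_Et_iff f F Y n (m + 1) z N hN] at hz
      refine ⟨z, hz.1, hzy, hfz, ?_⟩
      rw [hN] at hm
      have hmN : m < N := by exact_mod_cast hm
      have hne : CInt.fiberDepth f F z + (N : ℕ∞) ≠ ⊤ := ne_top_of_lt hz.2
      have hne' : CInt.fiberDepth f F z ≠ ⊤ := fun h => hne (by rw [h, top_add])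
      obtain ⟨d, hd'⟩ := ENat.ne_top_iff_exists.mp hne'
      have h2 := hz.2
      rw [← hd'] at h2 ⊢
      have h3 : d + N < n + (m + 1) := by exact_mod_cast h2
      exact_mod_cast (by omega : d < n)

theorem genTd_inter_eq_empty (E : Set X) (m K : ℕ) (h : K ≤ m) :
    genTd f E m ∩ {x : X | FlatMor.fibreDimAt f x ≤ (K : WithBot ℕ∞)} = ∅ := by
  rw [Set.eq_empty_iff_forall_notMem]
  rintro y ⟨⟨z, -, hzy, -, hm⟩, hyK⟩
  have h1 := le_trans (fibreDimAt_le_of_specializes f hzy) hyK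
  obtain ⟨a, b, ha, -, hab⟩ := fibreDimAt_eq_add f z
  rw [hab] at h1
  rw [ha] at hm
  have h2 : a + b ≤ K := by exact_mod_cast h1
  have h3 : m < a := by exact_mod_cast hm
  omega

include hF hflat in
theorem isLocallyConstructible_bad (Y : Closeds X) (hY : IsLocallyConstructible (Y : Set X))
    (n : ℕ) : IsLocallyConstructible (bad f F (Y : Set X) n) := by
  refine IsLocallyConstructible.of_isOpenCover'
    (U := fun K : ℕ => (⟨{x : X | FlatMor.fibreDimAt f x ≤ (K : WithBot ℕ∞)},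
      Groth.Agent.S0402.result f K⟩ : Opens X)) ?_ fun K => ?_
  · rw [TopologicalSpace.IsOpenCover, eq_top_iff]
    intro x _
    obtain ⟨K, hK⟩ := exists_nat_fibreDimAt f x
    exact TopologicalSpace.Opens.mem_iSup.mpr ⟨K, hK.le⟩
  · have h1 : bad f F (Y : Set X) n ∩
        ({x : X | FlatMor.fibreDimAt f x ≤ (K : WithBot ℕ∞)} : Set X) =
        (Et f F (Y : Set X) n 0 ∪ ⋃ m ∈ (Finset.range K : Set ℕ),
          genTd f (Et f F (Y : Set X) n (m + 1)) m) ∩
          {x : X | FlatMor.fibreDimAt f x ≤ (K : WithBot ℕ∞)} := by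
      rw [bad_eq f F hF hflat (Y : Set X) Y.isClosed n]
      ext y
      simp only [Set.mem_inter_iff, Set.mem_union, Set.mem_iUnion, Finset.coe_range, Set.mem_Iio,
        exists_prop]
      constructor
      · rintro ⟨h | ⟨m, hm⟩, hyK⟩
        · exact ⟨Or.inl h, hyK⟩
        · refine ⟨Or.inr ⟨m, ?_, hm⟩, hyK⟩
          by_contra hmK
          push Not at hmK
          have := genTd_inter_eq_empty f (Et f F (Y : Set X) n (m + 1)) m K hmK
          exact (Set.eq_empty_iff_forall_notMem.mp this y) ⟨hm, hyK⟩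
      · rintro ⟨h | ⟨m, -, hm⟩, hyK⟩
        · exact ⟨Or.inl h, hyK⟩
        · exact ⟨Or.inr ⟨m, hm⟩, hyK⟩
    change IsLocallyConstructible (bad f F (Y : Set X) n ∩
      ({x : X | FlatMor.fibreDimAt f x ≤ (K : WithBot ℕ∞)} : Set X))
    rw [h1]
    refine IsLocallyConstructible.inter (IsLocallyConstructible.union
      (isLocallyConstructible_Et f F hF (Y : Set X) hY n 0) ?_)
      (isLocallyConstructible_fibreDimAt_le f K)
    refine IsLocallyConstructible.biUnion (Finset.range K).finite_toSet fun m _ => ?_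
    exact isLocallyConstructible_genTd f _ (isClosed_Et f F hF hflat (Y : Set X) Y.isClosed n (m + 1))
      (isLocallyConstructible_Et f F hF (Y : Set X) hY n (m + 1)) m

omit [LocallyOfFinitePresentation f] in
theorem setOf_fiberDepthAlong_ge_eq (Y : Set X) (n : ℕ) :
    {y : X | y ∈ Y ∧ (n : ℕ∞) ≤ CInt.fiberDepthAlong f F Y y} = Y \ bad f F Y n := by
  ext y
  simp only [Set.mem_ofPred_eq, Set.mem_sdiff, bad]
  refine and_congr_right fun _ => ?_
  unfold CInt.fiberDepthAlong
  rw [le_iInf_iff]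
  constructor
  · rintro h ⟨z, hzY, hzy, hfz, hd⟩
    exact absurd (h ⟨z, hzY, hzy, hfz⟩) (not_le.mpr hd)
  · intro h z
    by_contra hlt
    exact h ⟨z.1, z.2.1, z.2.2.1, z.2.2.2, not_le.mp hlt⟩

include hF hflat in
/-- **EGA IV 12.3.x**: local constructibility of the depth along a closed subset. -/
theorem isLocallyConstructible_setOf_fiberDepthAlong_ge (Y : Closeds X)
    (hY : IsLocallyConstructible (Y : Set X)) (n : ℕ) :
    IsLocallyConstructible {y : X | y ∈ Y ∧ (n : ℕ∞) ≤ CInt.fiberDepthAlong f F (Y : Set X) y} := by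
  have h := setOf_fiberDepthAlong_ge_eq f F (Y : Set X) n
  have h' : {y : X | y ∈ Y ∧ (n : ℕ∞) ≤ CInt.fiberDepthAlong f F (Y : Set X) y} =
      (Y : Set X) \ bad f F (Y : Set X) n := h
  rw [h']
  exact isLocallyConstructible_sdiff hY (isLocallyConstructible_bad f F hF hflat Y hY n)

include hF hflat in
theorem isRetrocompact_setOf_fiberDepthAlong_ge (Y : Closeds X)
    (hY : IsLocallyConstructible (Y : Set X)) (n : ℕ) :
    IsRetrocompact {y : X | y ∈ Y ∧ (n : ℕ∞) ≤ CInt.fiberDepthAlong f F (Y : Set X) y} :=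
  isRetrocompact_of_isLocallyConstructible _
    (isLocallyConstructible_setOf_fiberDepthAlong_ge f F hF hflat Y hY n)

end main

end Groth.Agent.Lib.Helper24.FibDA
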