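import Mathlib
import Groth.Prelude.Def_EGA4b
import Groth.Prelude.Def_CohB1
import Groth.Prelude.Def_FlatMod2
import Groth.Agent.Lib.Helper24.FibMd8
import Groth.Agent.Lib.Helper26.Depth5

/-!
# Fibre stalks of modules (helper24), part 9: openness of the Cohen–Macaulay locus of a module

`f : X ⟶ Y` locally of finite presentation, `F` a finitely presented `O_X`-module flat over `Y`.
The set of `x ∈ X` at which the fibre stalk of `F` is zero or Cohen–Macaulay is open
(EGA IV 12.1.1 (iii)/(iv) for modules).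
-/

set_option autoImplicit false
universe u

namespace Groth.Agent.Lib.Helper24.FibMd

open AlgebraicGeometry CategoryTheory IsLocalRing LocCoh
  Groth.Agent.Lib.helper16.CohStalk Groth.Agent.Lib.helper17.FlatOver1

attribute [local instance] Groth.Agent.Lib.helper26.SkFlat.isLocalRing_fibLocRing

/-- bookkeeping. -/
theorem coe_le_of_eq {s s' : WithBot ℕ∞} {d d' : ℕ∞} (hs : s = s') (hd : d = d')
    (h : ((d' : ℕ∞) : WithBot ℕ∞) ≤ s') : ((d : ℕ∞) : WithBot ℕ∞) ≤ s := by
  subst hs hd
  exact h

/-- the depth of a nonzero fibre stalk is at most its dimension. -/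
theorem fibre_depth_le_supportDim {X Y : Scheme.{u}} (f : X ⟶ Y)
    [LocallyOfFinitePresentation f] (F : X.Modules) (hF : CohB1.IsFP F) (x : X)
    (hnt : ¬ Subsingleton
      (((Scheme.Modules.pullback (f.fiberι (f.base x))).obj F).presheaf.stalk (f.asFiber x))) :
    ((depth ((f.fiber (f.base x)).presheaf.stalk (f.asFiber x))
        (((Scheme.Modules.pullback (f.fiberι (f.base x))).obj F).presheaf.stalk (f.asFiber x)) : ℕ∞) :
          WithBot ℕ∞) ≤
      Module.supportDim ((f.fiber (f.base x)).presheaf.stalk (f.asFiber x))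
        (((Scheme.Modules.pullback (f.fiberι (f.base x))).obj F).presheaf.stalk (f.asFiber x)) := by
  haveI hF' : SheafOfModules.IsFinitePresentation (R := X.ringCatSheaf) F := hF
  haveI : F.IsQuasicoherent := SheafOfModules.instIsQuasicoherentOfIsFinitePresentation F
  obtain ⟨_, ⟨V, hV : IsAffineOpen V, rfl⟩, hfxV, -⟩ :=
    Y.isBasis_affineOpens.exists_subset_of_mem_open (Set.mem_univ (f x)) isOpen_univ
  obtain ⟨_, ⟨U, hU : IsAffineOpen U, rfl⟩, hxU, hUV'⟩ :=
    X.isBasis_affineOpens.exists_subset_of_mem_open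
      (show x ∈ (f ⁻¹ᵁ V : Set X) from hfxV) (f ⁻¹ᵁ V).isOpen
  have hUV : U ≤ f ⁻¹ᵁ V := hUV'
  have hfp : (f.appLE V U hUV).hom.FinitePresentation := f.finitePresentation_appLE hV hU hUV
  letI := (f.appLE V U hUV).hom.toAlgebra
  haveI : Algebra.FinitePresentation Γ(Y, V) Γ(X, U) := hfp
  haveI hMfp : Module.FinitePresentation Γ(X, U) Γ(F, U) :=
    Groth.Agent.Lib.helper16.CohFP.fp_sections_of_isFinitePresentation F hF hU
  have hft : (f.appLE V U hUV).hom.FiniteType := RingHom.FiniteType.of_finitePresentation hfp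
  have hfin : Module.Finite Γ(X, U) Γ(F, U) := inferInstance
  haveI : Algebra.FiniteType Γ(Y, V) Γ(X, U) := hft
  have hx' : f.fiberι (f.base x) (f.asFiber x) ∈ U := by
    rw [f.fiberι_asFiber]
    exact hxU
  obtain ⟨hd, hs⟩ := depth_supportDim_fibre_stalk f F hV hU hUV hft hfin (f.base x) (f.asFiber x) hx'
  haveI : IsNoetherianRing (EGA4.FibLocRing Γ(Y, V) Γ(X, U)
      (hU.primeIdealOf ⟨f.fiberι (f.base x) (f.asFiber x), hx'⟩).asIdeal) :=
    Groth.Agent.Lib.Helper24.FibCod.isNoetherianRing_fibLocRing _ _ _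
  haveI : Module.Finite (EGA4.FibLocRing Γ(Y, V) Γ(X, U)
      (hU.primeIdealOf ⟨f.fiberι (f.base x) (f.asFiber x), hx'⟩).asIdeal)
      (EGA4.FibLocMod Γ(Y, V) Γ(X, U)
        (hU.primeIdealOf ⟨f.fiberι (f.base x) (f.asFiber x), hx'⟩).asIdeal Γ(F, U)) :=
    Module.Finite.of_restrictScalars_finite (Localization.AtPrime
      (hU.primeIdealOf ⟨f.fiberι (f.base x) (f.asFiber x), hx'⟩).asIdeal) _ _
  haveI : Nontrivial (EGA4.FibLocMod Γ(Y, V) Γ(X, U)
      (hU.primeIdealOf ⟨f.fiberι (f.base x) (f.asFiber x), hx'⟩).asIdeal Γ(F, U)) := by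
    rw [← Module.supportDim_ne_bot_iff_nontrivial (EGA4.FibLocRing Γ(Y, V) Γ(X, U)
      (hU.primeIdealOf ⟨f.fiberι (f.base x) (f.asFiber x), hx'⟩).asIdeal), ← hs]
    intro hbot
    exact hnt ((Module.supportDim_eq_bot_iff_subsingleton _ _).mp hbot)
  exact coe_le_of_eq hs hd (Groth.Agent.Lib.helper26.Depth.depth_le_supportDim _)

/-- **EGA IV 12.1.1 for modules, Cohen–Macaulay form**: the locus where the fibre stalk of `F` is
zero or Cohen–Macaulay is open. -/
theorem isOpen_setOf_fibre_isCohenMacaulayModule {X Y : Scheme.{u}} (f : X ⟶ Y)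
    [LocallyOfFinitePresentation f] (F : X.Modules) (hF : CohB1.IsFP F)
    (hflat : FlatMod.IsFlatOver f F) :
    IsOpen {x : X |
      Subsingleton
        (((Scheme.Modules.pullback (f.fiberι (f.base x))).obj F).presheaf.stalk (f.asFiber x)) ∨
      LocCoh.IsCohenMacaulayModule ((f.fiber (f.base x)).presheaf.stalk (f.asFiber x))
        (((Scheme.Modules.pullback (f.fiberι (f.base x))).obj F).presheaf.stalk (f.asFiber x))} := by
  have h := isOpen_setOf_fibre_codepth_le f F hF hflat 0
  refine (congrArg IsOpen (Set.ext fun x => ?_)).mpr h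
  constructor
  · rintro (hsub | hcm)
    · show Module.supportDim _ _ ≤ _
      rw [(Module.supportDim_eq_bot_iff_subsingleton _ _).mpr hsub]
      exact bot_le
    · show Module.supportDim _ _ ≤ _
      have hcm' : Module.supportDim ((f.fiber (f.base x)).presheaf.stalk (f.asFiber x))
          (((Scheme.Modules.pullback (f.fiberι (f.base x))).obj F).presheaf.stalk (f.asFiber x)) =
          ((depth ((f.fiber (f.base x)).presheaf.stalk (f.asFiber x))
            (((Scheme.Modules.pullback (f.fiberι (f.base x))).obj F).presheaf.stalk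
              (f.asFiber x)) : ℕ∞) : WithBot ℕ∞) := hcm
      rw [hcm']
      simp
  · intro hle
    by_cases hsub : Subsingleton
        (((Scheme.Modules.pullback (f.fiberι (f.base x))).obj F).presheaf.stalk (f.asFiber x))
    · exact Or.inl hsub
    · refine Or.inr ?_
      have hle' : Module.supportDim ((f.fiber (f.base x)).presheaf.stalk (f.asFiber x))
          (((Scheme.Modules.pullback (f.fiberι (f.base x))).obj F).presheaf.stalk (f.asFiber x)) ≤
          ((depth ((f.fiber (f.base x)).presheaf.stalk (f.asFiber x))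
            (((Scheme.Modules.pullback (f.fiberι (f.base x))).obj F).presheaf.stalk
              (f.asFiber x)) : ℕ∞) : WithBot ℕ∞) := by
        have h0 : Module.supportDim ((f.fiber (f.base x)).presheaf.stalk (f.asFiber x))
          (((Scheme.Modules.pullback (f.fiberι (f.base x))).obj F).presheaf.stalk (f.asFiber x)) ≤
          ((depth ((f.fiber (f.base x)).presheaf.stalk (f.asFiber x))
            (((Scheme.Modules.pullback (f.fiberι (f.base x))).obj F).presheaf.stalk
              (f.asFiber x)) : ℕ∞) : WithBot ℕ∞) + ((0 : ℕ) : WithBot ℕ∞) := hle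
        simpa using h0
      exact le_antisymm hle' (fibre_depth_le_supportDim f F hF x hsub)

end Groth.Agent.Lib.Helper24.FibMd
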