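import Groth.Agent.Lib.Helper24.FibDA4
import Groth.Agent.Lib.Helper24.FibMd9

/-!
# Depth of fibre modules along a closed subset (helper24), part 5: the depth function is locally
constructible on `Y` (EGA IV 12.3.x, function form)
-/

set_option autoImplicit false
universe u

namespace Groth.Agent.Lib.Helper24.FibDA

open AlgebraicGeometry CategoryTheory Topology TopologicalSpace LocCoh
  Groth.Agent.Lib.helper3.DimIneq Groth.Agent.Lib.helper3.FTField
  Groth.Agent.Lib.helper3.FibreField Groth.Agent.Lib.helper3.DimFibre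
  Groth.Agent.Lib.helper3.EquidimIrr Groth.Agent.Lib.Helper24.FibEq
  Groth.Agent.Lib.helper5.FibClos

section top

variable {T : Type*} [TopologicalSpace T]

/-- transfer of constructibility to a locally closed subspace `Y ∩ W`. -/
theorem isConstructible_setOf_mem (Y : Set T) (hY : IsClosed Y) (W : Set T)
    (hc : IsCompact (W \ Y)) (A : Set T)
    (hA : IsConstructible (Subtype.val ⁻¹' A : Set ↥W)) (V : Opens ↥Y)
    (hV : (V : Set ↥Y) = Subtype.val ⁻¹' W) : IsConstructible {v : ↥V | v.1.1 ∈ A} := by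
  have hvW : ∀ v : ↥V, v.1.1 ∈ W := fun v => by
    have : v.1 ∈ (V : Set ↥Y) := v.2
    rw [hV] at this
    exact this
  let g : ↥V → ↥W := fun v => ⟨v.1.1, hvW v⟩
  have hgc : Continuous g :=
    Continuous.subtype_mk (continuous_subtype_val.comp continuous_subtype_val) _
  have hemb : IsEmbedding g := by
    have h0 : IsEmbedding ((Subtype.val : ↥Y → T) ∘ (Subtype.val : ↥V → ↥Y)) :=
      IsEmbedding.subtypeVal.comp IsEmbedding.subtypeVal
    exact IsEmbedding.of_comp hgc continuous_subtype_val h0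
  have hrange : Set.range g = Subtype.val ⁻¹' Y := by
    ext w
    constructor
    · rintro ⟨v, rfl⟩
      exact v.1.2
    · intro hw
      have hw' : (⟨w.1, hw⟩ : ↥Y) ∈ (V : Set ↥Y) := by
        rw [hV]
        exact w.2
      exact ⟨⟨⟨w.1, hw⟩, hw'⟩, rfl⟩
  have hcl : IsClosedEmbedding g :=
    ⟨hemb, by rw [hrange]; exact hY.preimage continuous_subtype_val⟩
  have hcomp : IsCompact (Set.range g)ᶜ := by
    rw [hrange, IsEmbedding.subtypeVal.isCompact_iff]
    convert hc using 1
    ext x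
    constructor
    · rintro ⟨w, hw, rfl⟩
      exact ⟨w.2, hw⟩
    · rintro ⟨hxW, hxY⟩
      exact ⟨⟨x, hxW⟩, hxY, rfl⟩
  have hfin := hA.preimage_of_isClosedEmbedding hcl hcomp
  exact hfin

end top

variable {X S : Scheme.{u}} (f : X ⟶ S) [LocallyOfFinitePresentation f] (F : X.Modules)

/-- the fibre depth is infinite or bounded by the fibre dimension. -/
theorem fiberDepth_le_or_eq_top (hF : CohB1.IsFP F) (x : X) (K : ℕ)
    (hK : FlatMor.fibreDimAt f x ≤ (K : WithBot ℕ∞)) :
    CInt.fiberDepth f F x ≤ (K : ℕ∞) ∨ CInt.fiberDepth f F x = ⊤ := by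
  by_cases hnt : Subsingleton
      (((Scheme.Modules.pullback (f.fiberι (f.base x))).obj F).presheaf.stalk (f.asFiber x))
  · right
    exact Groth.Agent.Lib.helper26.Depth.idealDepth_eq_top_of_smul_top_eq_top _ _
      (Subsingleton.elim _ _)
  · left
    have h1 := Groth.Agent.Lib.Helper24.FibMd.fibre_depth_le_supportDim f F hF x hnt
    have h2 := h1.trans (Module.supportDim_le_ringKrullDim _ _)
    obtain ⟨a, b, -, hb, hab⟩ := fibreDimAt_eq_add f x
    rw [hab] at hK
    have hab' : a + b ≤ K := by exact_mod_cast hK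
    have h3 : ((CInt.fiberDepth f F x : ℕ∞) : WithBot ℕ∞) ≤ ((b : ℕ) : WithBot ℕ∞) := by
      rw [← hb]
      exact h2
    have h4 : CInt.fiberDepth f F x ≤ ((b : ℕ) : ℕ∞) := by exact_mod_cast h3
    exact h4.trans (by exact_mod_cast (by omega : b ≤ K))

/-- the fibre depth along `Y` is infinite or bounded by the fibre dimension. -/
theorem fiberDepthAlong_le_or_eq_top (hF : CohB1.IsFP F) (Y : Set X) (y : X) (K : ℕ)
    (hK : FlatMor.fibreDimAt f y ≤ (K : WithBot ℕ∞)) :
    CInt.fiberDepthAlong f F Y y ≤ (K : ℕ∞) ∨ CInt.fiberDepthAlong f F Y y = ⊤ := by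
  by_cases h : ∃ z : {z : X // z ∈ Y ∧ z ⤳ y ∧ f.base z = f.base y},
      CInt.fiberDepth f F z.1 ≠ ⊤
  · obtain ⟨z, hz⟩ := h
    left
    have hzK : FlatMor.fibreDimAt f z.1 ≤ (K : WithBot ℕ∞) :=
      (fibreDimAt_le_of_specializes f z.2.2.1).trans hK
    rcases fiberDepth_le_or_eq_top f F hF z.1 K hzK with h1 | h1
    · exact (iInf_le _ z).trans h1
    · exact absurd h1 hz
  · right
    push Not at h
    unfold CInt.fiberDepthAlong
    rw [iInf_eq_top]
    exact h

section main

variable (hF : CohB1.IsFP F) (hflat : FlatMod.IsFlatOver f F)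

include hF hflat in
/-- **EGA IV 12.3.x, function form**: the depth along `Y` is a locally constructible function on
`Y`. -/
theorem exists_opens_fiberDepthAlong (Y : Closeds X) (hY : IsLocallyConstructible (Y : Set X))
    (y₀ : ↥(Y : Set X)) :
    ∃ V : Opens ↥(Y : Set X), y₀ ∈ V ∧
      ((fun y : ↥(Y : Set X) => CInt.fiberDepthAlong f F (Y : Set X) y.1) ''
        (V : Set ↥(Y : Set X))).Finite ∧
      ∀ t : ℕ∞, IsConstructible
        {v : ↥V | CInt.fiberDepthAlong f F (Y : Set X) v.1.1 = t} := by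
  obtain ⟨K, hK⟩ := exists_nat_fibreDimAt f y₀.1
  have hO : IsOpen {x : X | FlatMor.fibreDimAt f x ≤ (K : WithBot ℕ∞)} :=
    Groth.Agent.S0402.result f K
  have hexW : ∃ W : X.Opens, IsAffineOpen W ∧ y₀.1 ∈ W ∧
      (W : Set X) ⊆ {x : X | FlatMor.fibreDimAt f x ≤ (K : WithBot ℕ∞)} := by
    obtain ⟨_, ⟨W, hW : IsAffineOpen W, rfl⟩, hxW, hWK⟩ :=
      X.isBasis_affineOpens.exists_subset_of_mem_open
        (show y₀.1 ∈ {x : X | FlatMor.fibreDimAt f x ≤ (K : WithBot ℕ∞)} from hK.le) hO
    exact ⟨W, hW, hxW, hWK⟩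
  obtain ⟨W, hW, hxW, hWK⟩ := hexW
  let V : Opens ↥(Y : Set X) :=
    ⟨Subtype.val ⁻¹' (W : Set X), W.isOpen.preimage continuous_subtype_val⟩
  have hbound : ∀ v : ↥(Y : Set X), v ∈ V →
      CInt.fiberDepthAlong f F (Y : Set X) v.1 ≤ (K : ℕ∞) ∨
        CInt.fiberDepthAlong f F (Y : Set X) v.1 = ⊤ :=
    fun v hv => fiberDepthAlong_le_or_eq_top f F hF (Y : Set X) v.1 K (hWK hv)
  refine ⟨V, hxW, ?_, ?_⟩
  · refine (((Set.finite_Iic K).image (Nat.cast : ℕ → ℕ∞)).union
      (Set.finite_singleton ⊤)).subset ?_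
    rintro _ ⟨v, hv, rfl⟩
    rcases hbound v hv with h | h
    · obtain ⟨m, hm, hmK⟩ := ENat.le_natCast_iff.mp h
      exact Or.inl ⟨m, hmK, hm.symm⟩
    · exact Or.inr h
  · haveI : IsAffine W.toScheme := hW
    have hcW : IsCompact ((W : Set X) \ (Y : Set X)) := by
      have h1 : IsConstructible (W.ι ⁻¹' (Y : Set X)ᶜ) :=
        ((isLocallyConstructible_compl hY).preimage_of_isOpenEmbedding
          W.ι.isOpenEmbedding).isConstructible
      have h2 := (Groth.Agent.Lib.helper25.isCompact_of_isConstructible h1).image W.ι.continuous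
      rwa [Set.image_preimage_eq_inter_range, Scheme.Opens.range_ι, Set.inter_comm] at h2
    have hAn : ∀ n : ℕ, IsConstructible
        {v : ↥V | (n : ℕ∞) ≤ CInt.fiberDepthAlong f F (Y : Set X) v.1.1} := by
      intro n
      have hA := isLocallyConstructible_setOf_fiberDepthAlong_ge f F hF hflat Y hY n
      have h1 : IsConstructible (W.ι ⁻¹'
          {y : X | y ∈ Y ∧ (n : ℕ∞) ≤ CInt.fiberDepthAlong f F (Y : Set X) y}) :=
        (hA.preimage_of_isOpenEmbedding W.ι.isOpenEmbedding).isConstructible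
      have h2 := isConstructible_setOf_mem (Y : Set X) Y.isClosed (W : Set X) hcW _ h1 V rfl
      convert h2 using 1
      ext v
      exact ⟨fun h => ⟨v.1.2, h⟩, fun h => h.2⟩
    intro t
    induction t using ENat.recTopCoe with
    | top =>
      have hset : {v : ↥V | CInt.fiberDepthAlong f F (Y : Set X) v.1.1 = ⊤} =
          {v : ↥V | ((K + 1 : ℕ) : ℕ∞) ≤ CInt.fiberDepthAlong f F (Y : Set X) v.1.1} := by
        ext v
        simp only [Set.mem_ofPred_eq]
        constructor
        · intro h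
          rw [h]
          exact le_top
        · intro h
          rcases hbound v.1 v.2 with h1 | h1
          · exfalso
            have h2 : ((K + 1 : ℕ) : ℕ∞) ≤ (K : ℕ∞) := h.trans h1
            have h3 : K + 1 ≤ K := by exact_mod_cast h2
            omega
          · exact h1
      rw [hset]
      exact hAn (K + 1)
    | coe m =>
      have hset : {v : ↥V | CInt.fiberDepthAlong f F (Y : Set X) v.1.1 = (m : ℕ∞)} =
          {v : ↥V | (m : ℕ∞) ≤ CInt.fiberDepthAlong f F (Y : Set X) v.1.1} \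
            {v : ↥V | ((m + 1 : ℕ) : ℕ∞) ≤ CInt.fiberDepthAlong f F (Y : Set X) v.1.1} := by
        ext v
        simp only [Set.mem_ofPred_eq, Set.mem_sdiff]
        rw [Nat.cast_add, Nat.cast_one, ENat.add_one_le_iff (ENat.natCast_ne_top m), not_lt,
          le_antisymm_iff, and_comm]
      rw [hset]
      exact (hAn m).sdiff (hAn (m + 1))

end main

end Groth.Agent.Lib.Helper24.FibDA
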