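import Mathlib
import Groth.Prelude.Def_EGA4b
import Groth.Agent.Lib.Helper24.FibMd2

/-!
# Fibre stalks of modules (helper24): semilinear models

The stalk at a point `z` of the fibre `X_s` of the restriction of a quasi-coherent module `F` to the
fibre, over the local ring of the fibre at `z`, is *semilinearly isomorphic* to the pair
`(B_q / p B_q, M_q / p M_q)` of a chart.  Hence every property of pairs (ring, module) which is
invariant under semilinear isomorphisms can be read off the chart.
-/

set_option autoImplicit false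
universe u

namespace Groth.Agent.Lib.Helper24.FibSk

open TensorProduct LocCoh IsLocalRing AlgebraicGeometry CategoryTheory
  Groth.Agent.Lib.Helper24.FibMd
  Groth.Agent.Lib.helper17.FibreStalk Groth.Agent.Lib.helper17.StalkPullback
  Groth.Agent.Lib.helper16.CohStalk Groth.Agent.Lib.helper17.FlatOver1

attribute [local instance] Groth.Agent.Lib.helper26.SkFlat.isLocalRing_fibLocRing

/-- the pairs `(R, T)` and `(R', T')` are semilinearly isomorphic. -/
def SemiIso (R R' : Type u) [CommRing R] [CommRing R'] (T T' : Type u) [AddCommGroup T]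
    [AddCommGroup T'] [Module R T] [Module R' T'] : Prop :=
  ∃ (σ : R ≃+* R') (E : T ≃+ T'), ∀ (r : R) (t : T), E (r • t) = σ r • E t

theorem SemiIso.symm {R R' : Type u} [CommRing R] [CommRing R'] {T T' : Type u} [AddCommGroup T]
    [AddCommGroup T'] [Module R T] [Module R' T'] (h : SemiIso R R' T T') : SemiIso R' R T' T := by
  obtain ⟨σ, E, hE⟩ := h
  refine ⟨σ.symm, E.symm, fun r t => ?_⟩
  apply E.injective
  rw [hE, AddEquiv.apply_symm_apply, RingEquiv.apply_symm_apply, AddEquiv.apply_symm_apply]

section transport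

variable {B : Type u} [CommRing B] {R R' : Type u} [CommRing R] [CommRing R']
  [Algebra B R] [Algebra B R'] (σ : R ≃ₐ[B] R')
  {M T T' : Type u} [AddCommGroup M] [Module B M]
  [AddCommGroup T] [Module B T] [Module R T] [IsScalarTower B R T]
  [AddCommGroup T'] [Module B T'] [Module R' T'] [IsScalarTower B R' T']
  {g : M →ₗ[B] T} (hg : IsBaseChange R g) {g' : M →ₗ[B] T'} (hg' : IsBaseChange R' g')

include σ hg hg' in
/-- two base changes of `M` along isomorphic `B`-algebras are semilinearly isomorphic. -/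
theorem semiIso_of_isBaseChange : SemiIso R R' T T' := by
  letI algRR' : Algebra R R' := σ.toRingEquiv.toRingHom.toAlgebra
  letI modRT' : Module R T' := Module.compHom T' σ.toRingEquiv.toRingHom
  haveI : IsScalarTower R R' T' := IsScalarTower.of_algebraMap_smul fun r x => rfl
  haveI : IsScalarTower B R R' := IsScalarTower.of_algebraMap_eq fun b => (σ.commutes b).symm
  haveI : IsScalarTower B R T' := by
    refine IsScalarTower.of_algebraMap_smul fun b x => ?_
    change σ (algebraMap B R b) • x = b • x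
    rw [σ.commutes, algebraMap_smul]
  let σl : R ≃ₗ[R] R' :=
    { σ.toRingEquiv.toAddEquiv with
      map_smul' := fun r x => by
        change σ (r * x) = σ r * σ x
        exact map_mul σ r x }
  let c : R ⊗[B] M ≃ₗ[R] R' ⊗[B] M :=
    TensorProduct.AlgebraTensorModule.congr σl (LinearEquiv.refl B M)
  let E : T ≃ₗ[R] T' := hg.equiv.symm ≪≫ₗ c ≪≫ₗ (hg'.equiv.restrictScalars R)
  refine ⟨σ.toRingEquiv, E.toAddEquiv, fun r t => ?_⟩
  exact E.map_smul r t

end transport

section chart

variable (A B : Type u) [CommRing A] [CommRing B] [Algebra A B]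
  (q : Ideal B) [q.IsPrime] (M : Type u) [AddCommGroup M] [Module B M]
  (S₁ : Type u) [CommRing S₁] [Algebra B S₁] [IsLocalization.AtPrime S₁ q]
  (N : Type u) [AddCommGroup N] [Module B N] [Module S₁ N] [IsScalarTower B S₁ N]
  (g₁ : M →ₗ[B] N) [IsLocalizedModule q.primeCompl g₁]
  (R : Type u) [CommRing R] [Algebra S₁ R]
  (T : Type u) [AddCommGroup T] [Module S₁ T] [Module R T] [IsScalarTower S₁ R T]
  (ψ : N →ₗ[S₁] T)

include g₁ in
/-- **Abstract chart theorem, semilinear form.** -/
theorem semiIso_of_chart (hψ : IsBaseChange R ψ)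
    (hsurj : Function.Surjective (algebraMap S₁ R))
    (hker : RingHom.ker (algebraMap S₁ R) =
      ((q.comap (algebraMap A B)).map (algebraMap A B)).map (algebraMap B S₁)) :
    SemiIso R (EGA4.FibLocRing A B q) T (EGA4.FibLocMod A B q M) := by
  letI algBR : Algebra B R := ((algebraMap S₁ R).comp (algebraMap B S₁)).toAlgebra
  haveI : IsScalarTower B S₁ R := IsScalarTower.of_algebraMap_eq fun _ => rfl
  letI modBT : Module B T := Module.compHom T (algebraMap B R)
  haveI : IsScalarTower B R T := IsScalarTower.of_algebraMap_smul fun _ _ => rfl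
  haveI : IsScalarTower B S₁ T := by
    refine IsScalarTower.of_algebraMap_smul fun b x => ?_
    change algebraMap B S₁ b • x = (algebraMap S₁ R (algebraMap B S₁ b)) • x
    exact (algebraMap_smul R (algebraMap B S₁ b) x).symm
  obtain ⟨σ⟩ := nonempty_algEquiv_fibLocRing A B q S₁ R hsurj hker
  have hg : IsBaseChange R ((ψ.restrictScalars B).comp g₁) :=
    IsBaseChange.comp (IsLocalizedModule.isBaseChange q.primeCompl S₁ g₁) hψ
  exact semiIso_of_isBaseChange σ hg (isBaseChange_fibLocModMap A B q M)

end chart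

/-- **Geometric chart theorem, semilinear form.** -/
theorem semiIso_fibre_stalk {X Y : Scheme.{u}} (f : X ⟶ Y) (F : X.Modules)
    [F.IsQuasicoherent] {V : Y.Opens} (hV : IsAffineOpen V) {U : X.Opens} (hU : IsAffineOpen U)
    (e : U ≤ f ⁻¹ᵁ V) (s : Y) (z : f.fiber s) (hx : f.fiberι s z ∈ U) :
    letI := (f.appLE V U e).hom.toAlgebra
    SemiIso ((f.fiber s).presheaf.stalk z)
      (EGA4.FibLocRing Γ(Y, V) Γ(X, U) (hU.primeIdealOf ⟨f.fiberι s z, hx⟩).asIdeal)
      (((Scheme.Modules.pullback (f.fiberι s)).obj F).presheaf.stalk z)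
      (EGA4.FibLocMod Γ(Y, V) Γ(X, U) (hU.primeIdealOf ⟨f.fiberι s z, hx⟩).asIdeal Γ(F, U)) := by
  letI algAB := (f.appLE V U e).hom.toAlgebra
  set ι := f.fiberι s with hι
  set x := ι z with hxdef
  set q := (hU.primeIdealOf ⟨x, hx⟩).asIdeal with hq
  -- the model of `B_q`
  letI algBS : Algebra Γ(X, U) (X.presheaf.stalk x) :=
    TopCat.Presheaf.algebra_section_stalk X.presheaf (⟨x, hx⟩ : U)
  haveI : IsLocalization.AtPrime (X.presheaf.stalk x) q := hU.isLocalization_stalk ⟨x, hx⟩
  -- the model of `M_q`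
  letI modBN : Module Γ(X, U) (F.presheaf.stalk x) := modStalk F x hx
  haveI : IsScalarTower Γ(X, U) (X.presheaf.stalk x) (F.presheaf.stalk x) :=
    isScalarTower_stalk F x hx
  haveI : IsLocalizedModule q.primeCompl (germLin F x hx) := isLocalizedModule_stalk F hU x hx
  -- the fibre
  letI algSR : Algebra (X.presheaf.stalk x) ((f.fiber s).presheaf.stalk z) :=
    (ι.stalkMap z).hom.toAlgebra
  letI modST : Module (X.presheaf.stalk x)
      (((Scheme.Modules.pullback ι).obj F).presheaf.stalk z) :=
    FlatMod.moduleStalkOver ι ((Scheme.Modules.pullback ι).obj F) z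
  haveI : IsScalarTower (X.presheaf.stalk x) ((f.fiber s).presheaf.stalk z)
      (((Scheme.Modules.pullback ι).obj F).presheaf.stalk z) :=
    isScalarTower_moduleStalkOver ι ((Scheme.Modules.pullback ι).obj F) z
  obtain ⟨ψ, hψ⟩ := exists_isBaseChange_stalk_pullback ι F z
  have hsurj : Function.Surjective
      (algebraMap (X.presheaf.stalk x) ((f.fiber s).presheaf.stalk z)) :=
    ι.stalkMap_surjective z
  have hker : RingHom.ker (algebraMap (X.presheaf.stalk x) ((f.fiber s).presheaf.stalk z)) =
      ((q.comap (algebraMap Γ(Y, V) Γ(X, U))).map (algebraMap Γ(Y, V) Γ(X, U))).map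
        (algebraMap Γ(X, U) (X.presheaf.stalk x)) := by
    have h1 : RingHom.ker (algebraMap (X.presheaf.stalk x) ((f.fiber s).presheaf.stalk z)) =
        (maximalIdeal (Y.presheaf.stalk (f x))).map (f.stalkMap x).hom :=
      ker_fiberι_stalkMap f s z
    rw [h1]
    have hpq : (hV.primeIdealOf ⟨f x, e hx⟩).asIdeal = q.comap (f.appLE V U e).hom :=
      congr($(IsAffineOpen.comap_primeIdealOf_appLE V hV U hU e hx).1).symm
    letI algAO : Algebra Γ(Y, V) (Y.presheaf.stalk (f x)) :=
      TopCat.Presheaf.algebra_section_stalk Y.presheaf (⟨f x, e hx⟩ : V)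
    haveI : IsLocalization.AtPrime (Y.presheaf.stalk (f x))
        (hV.primeIdealOf ⟨f x, e hx⟩).asIdeal := hV.isLocalization_stalk ⟨f x, e hx⟩
    have h2 : maximalIdeal (Y.presheaf.stalk (f x)) =
        (hV.primeIdealOf ⟨f x, e hx⟩).asIdeal.map (algebraMap Γ(Y, V) (Y.presheaf.stalk (f x))) :=
      (IsLocalization.AtPrime.map_eq_maximalIdeal _ _).symm
    rw [h2, Ideal.map_map, Ideal.map_map, hpq]
    congr 1
    ext a
    simp only [RingHom.comp_apply]
    exact (germ_appLE_apply f e x hx a).symm
  exact semiIso_of_chart Γ(Y, V) Γ(X, U) q Γ(F, U) (X.presheaf.stalk x)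
    (F.presheaf.stalk x) (germLin F x hx) ((f.fiber s).presheaf.stalk z)
    (((Scheme.Modules.pullback ι).obj F).presheaf.stalk z) ψ hψ hsurj hker

end Groth.Agent.Lib.Helper24.FibSk
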