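import Mathlib
import Groth.Prelude.Def_EGA4b
import Groth.Agent.Lib.Helper24.FibSk1
import Groth.Agent.Lib.Helper23.SkLoc2

/-!
# Fibre stalks of modules (helper24): invariance of `(S_k)` and equidimensionality under semilinear
isomorphisms
-/

set_option autoImplicit false
universe u

namespace Groth.Agent.Lib.Helper24.FibSk

open LocCoh IsLocalRing

variable {R R' : Type u} [CommRing R] [CommRing R'] {T T' : Type u} [AddCommGroup T]
  [AddCommGroup T'] [Module R T] [Module R' T']

theorem finite_of_semiIso (h : SemiIso R R' T T') [Module.Finite R T] : Module.Finite R' T' := by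
  obtain ⟨σ, E, hE⟩ := h
  letI algRR' : Algebra R R' := (σ : R →+* R').toAlgebra
  letI modRT' : Module R T' := Module.compHom T' (σ : R →+* R')
  haveI : IsScalarTower R R' T' := IsScalarTower.of_algebraMap_smul fun r x => rfl
  let El : T ≃ₗ[R] T' := { E with map_smul' := fun r t => hE r t }
  haveI : Module.Finite R T' := Module.Finite.equiv El
  exact Module.Finite.of_restrictScalars_finite R R' T'

theorem hasSk_of_semiIso [IsLocalRing R'] [IsNoetherianRing R] [Module.Finite R T]
    (h : SemiIso R R' T T') (k : ℕ) (hk : HasSk k R T) : HasSk k R' T' := by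
  obtain ⟨σ, E, hE⟩ := h
  haveI : IsLocalization.AtPrime R' (maximalIdeal R') :=
    IsLocalization.of_le_isUnit (fun s hs => by
      rw [IsUnit.mem_submonoid_iff]
      exact IsLocalRing.notMem_maximalIdeal.mp hs)
  haveI : IsLocalizedModule (maximalIdeal R').primeCompl (LinearMap.id : T' →ₗ[R'] T') :=
    isLocalizedModule_id _ _ R'
  exact Groth.Agent.Lib.helper23.SkLoc.hasSk_of_semilinear_localization T T' σ E hE
    (maximalIdeal R') R' T' LinearMap.id k hk

theorem annihilator_eq_comap_of_semiIso (σ : R ≃+* R') (E : T ≃+ T')
    (hE : ∀ (r : R) (t : T), E (r • t) = σ r • E t) :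
    Module.annihilator R T = (Module.annihilator R' T').comap (σ : R →+* R') := by
  ext r
  rw [Ideal.mem_comap, Module.mem_annihilator, Module.mem_annihilator]
  constructor
  · intro h t'
    obtain ⟨t, rfl⟩ := E.surjective t'
    change σ r • E t = 0
    rw [← hE, h, map_zero]
  · intro h t
    apply E.injective
    rw [hE, map_zero]
    exact h (E t)

theorem isEquidimModule_of_semiIso [Module.Finite R T] (h : SemiIso R R' T T')
    (hEq : EGA4.IsEquidimModule R T) : EGA4.IsEquidimModule R' T' := by
  haveI : Module.Finite R' T' := finite_of_semiIso h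
  obtain ⟨σ, E, hE⟩ := h
  have hann := annihilator_eq_comap_of_semiIso σ E hE
  have hsurj : Function.Surjective (σ : R →+* R') := σ.surjective
  have hmapcomap : ∀ I : Ideal R', (I.comap (σ : R →+* R')).map (σ : R →+* R') = I :=
    fun I => Ideal.map_comap_of_surjective _ hsurj I
  have hsd : Module.supportDim R T = Module.supportDim R' T' := by
    rw [Module.supportDim_eq_ringKrullDim_quotient_annihilator,
      Module.supportDim_eq_ringKrullDim_quotient_annihilator]
    exact ringKrullDim_eq_of_ringEquiv
      (Ideal.quotientEquiv _ _ σ (by rw [hann]; exact (hmapcomap _).symm))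
  intro p' hp'
  have hmin : p'.comap (σ : R →+* R') ∈ (Module.annihilator R T).minimalPrimes := by
    rw [hann]
    exact Ideal.minimalPrimes_comap_of_surjective hsurj hp'
  rw [← hsd, ← hEq _ hmin]
  exact (ringKrullDim_eq_of_ringEquiv
    (Ideal.quotientEquiv _ _ σ (hmapcomap p').symm)).symm

end Groth.Agent.Lib.Helper24.FibSk
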