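import Mathlib
import Groth.Prelude.Def_EGA4b
import Groth.Agent.Lib.Helper24.FibSk2
import Groth.Agent.Lib.Helper24.FibCod8
import Groth.Agent.Lib.Helper24.AssFib4
import Groth.Agent.Lib.Helper24.AssFib2
import Groth.Agent.Lib.Helper26.FibDict2

/-!
# Fibre stalks of modules (helper24): localizations of the fibre stalk

For `A → B`, a prime `Q` of `B` and a finite `B`-module `M`, the localization of the fibre stalk
`(B_Q / p B_Q, M_Q / p M_Q)` at a prime `𝔰` with contraction `r` is the fibre stalk at `r`.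
-/

set_option autoImplicit false
universe u

namespace Groth.Agent.Lib.Helper24.FibSk

open LocCoh IsLocalRing Groth.Agent.Lib.Helper24.FibMd Groth.Agent.Lib.Helper24.FibCod
  Groth.Agent.Lib.Helper24.AssFib

attribute [local instance] Groth.Agent.Lib.helper26.SkFlat.isLocalRing_fibLocRing

section General

variable {B : Type u} [CommRing B] (S : Submonoid B) (I : Ideal B)

theorem nonempty_locQuotAlgEquiv (P : Ideal (Localization S))
    (hP : P = I.map (algebraMap B (Localization S)))
    (𝔔 : Ideal (Localization S ⧸ P)) [𝔔.IsPrime] (r : Ideal B) [r.IsPrime]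
    (hr : r = 𝔔.comap (algebraMap B (Localization S ⧸ P)))
    (P' : Ideal (Localization.AtPrime r))
    (hP' : P' = I.map (algebraMap B (Localization.AtPrime r))) :
    Nonempty (Localization.AtPrime 𝔔 ≃ₐ[B] Localization.AtPrime r ⧸ P') := by
  subst hP hP' hr
  exact ⟨Groth.Agent.Lib.helper26.FibDict.locQuotEquiv S I 𝔔⟩

end General

variable (A : Type u) {B : Type u} [CommRing A] [CommRing B] [Algebra A B]

/-- the localization of the fibre local ring at `Q` at a prime `𝔰` is the fibre local ring at the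
contraction of `𝔰`, `B`-linearly. -/
theorem nonempty_algEquiv_fibLocRing_localization (Q : Ideal B) [Q.IsPrime]
    (𝔰 : Ideal (EGA4.FibLocRing A B Q)) [𝔰.IsPrime]
    (r : Ideal B) [r.IsPrime] (hr : r = 𝔰.comap (algebraMap B (EGA4.FibLocRing A B Q))) :
    Nonempty (Localization.AtPrime 𝔰 ≃ₐ[B] EGA4.FibLocRing A B r) := by
  obtain ⟨-, hcomap⟩ := comap_fibLocRing_le A Q 𝔰
  rw [← hr] at hcomap
  refine nonempty_locQuotAlgEquiv Q.primeCompl ((Q.comap (algebraMap A B)).map (algebraMap A B))
    _ ?_ 𝔰 r hr _ ?_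
  · rw [Ideal.map_map, ← IsScalarTower.algebraMap_eq]
  · rw [hcomap, Ideal.map_map, ← IsScalarTower.algebraMap_eq]

variable [Algebra.FiniteType A B] (M : Type u) [AddCommGroup M] [Module B M] [Module.Finite B M]

/-- **Localizations of the fibre stalk**: depth and dimension. -/
theorem depth_supportDim_localization_fibLocMod (Q : Ideal B) [Q.IsPrime]
    (𝔰 : Ideal (EGA4.FibLocRing A B Q)) [𝔰.IsPrime]
    (r : Ideal B) [r.IsPrime] (hr : r = 𝔰.comap (algebraMap B (EGA4.FibLocRing A B Q))) :
    depth (Localization.AtPrime 𝔰) (LocalizedModule 𝔰.primeCompl (EGA4.FibLocMod A B Q M)) =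
      depth (EGA4.FibLocRing A B r) (EGA4.FibLocMod A B r M) ∧
    Module.supportDim (Localization.AtPrime 𝔰)
        (LocalizedModule 𝔰.primeCompl (EGA4.FibLocMod A B Q M)) =
      Module.supportDim (EGA4.FibLocRing A B r) (EGA4.FibLocMod A B r M) := by
  obtain ⟨σ⟩ := nonempty_algEquiv_fibLocRing_localization A Q 𝔰 r hr
  haveI : IsNoetherianRing (EGA4.FibLocRing A B r) := isNoetherianRing_fibLocRing A B r
  haveI : IsNoetherianRing (Localization.AtPrime 𝔰) :=
    isNoetherianRing_of_ringEquiv _ σ.symm.toRingEquiv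
  have hg : IsBaseChange (Localization.AtPrime 𝔰)
      (((LocalizedModule.mkLinearMap 𝔰.primeCompl (EGA4.FibLocMod A B Q M)).restrictScalars B).comp
        (fibLocModMap A B Q M)) :=
    IsBaseChange.comp (isBaseChange_fibLocModMap A B Q M)
      (IsLocalizedModule.isBaseChange 𝔰.primeCompl (Localization.AtPrime 𝔰)
        (LocalizedModule.mkLinearMap 𝔰.primeCompl (EGA4.FibLocMod A B Q M)))
  exact depth_supportDim_eq_of_isBaseChange σ hg (isBaseChange_fibLocModMap A B r M)

/-- **Dictionary for `(S_k)`**: the `(S_k)` condition for the fibre stalk at `Q` in terms of the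
fibre stalks at the generizations of `Q` in its fibre. -/
theorem hasSk_fibLocMod_iff (k : ℕ) (Q : Ideal B) [Q.IsPrime] :
    HasSk k (EGA4.FibLocRing A B Q) (EGA4.FibLocMod A B Q M) ↔
      ∀ (r : Ideal B) (_ : r.IsPrime), r ≤ Q →
        r.comap (algebraMap A B) = Q.comap (algebraMap A B) →
        min (k : WithBot ℕ∞)
            (Module.supportDim (EGA4.FibLocRing A B r) (EGA4.FibLocMod A B r M)) ≤
          ((depth (EGA4.FibLocRing A B r) (EGA4.FibLocMod A B r M) : ℕ∞) : WithBot ℕ∞) := by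
  constructor
  · intro h r hr hrQ hfib
    haveI := hr
    obtain ⟨𝔰, h𝔰, h𝔰r⟩ := exists_prime_fibLocRing A Q r hrQ hfib
    haveI := h𝔰
    obtain ⟨h1, h2⟩ := depth_supportDim_localization_fibLocMod A M Q 𝔰 r h𝔰r.symm
    rw [← h1, ← h2]
    exact h 𝔰
  · intro h 𝔰 h𝔰
    haveI := h𝔰
    obtain ⟨hle, hfib⟩ := comap_fibLocRing_le A Q 𝔰
    obtain ⟨h1, h2⟩ := depth_supportDim_localization_fibLocMod A M Q 𝔰 _ rfl
    rw [h1, h2]
    exact h _ inferInstance hle hfib

/-- **Dictionary for associated primes** of the fibre stalk. -/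
theorem isAssociatedPrime_fibLocMod_iff (Q : Ideal B) [Q.IsPrime]
    (𝔰 : Ideal (EGA4.FibLocRing A B Q)) [𝔰.IsPrime]
    (r : Ideal B) [r.IsPrime] (hr : r = 𝔰.comap (algebraMap B (EGA4.FibLocRing A B Q))) :
    IsAssociatedPrime 𝔰 (EGA4.FibLocMod A B Q M) ↔
      depth (EGA4.FibLocRing A B r) (EGA4.FibLocMod A B r M) = 0 := by
  haveI : IsNoetherianRing (EGA4.FibLocRing A B Q) := isNoetherianRing_fibLocRing A B Q
  haveI : Module.Finite (EGA4.FibLocRing A B Q) (EGA4.FibLocMod A B Q M) :=
    Module.Finite.equiv (isBaseChange_fibLocModMap A B Q M).equiv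
  rw [← (depth_supportDim_localization_fibLocMod A M Q 𝔰 r hr).1,
    ← isAssociatedPrime_maximalIdeal_iff]
  have h := Module.associatedPrimes.preimage_comap_associatedPrimes_eq_associatedPrimes_of_isLocalizedModule
    𝔰.primeCompl (Localization.AtPrime 𝔰)
    (LocalizedModule.mkLinearMap 𝔰.primeCompl (EGA4.FibLocMod A B Q M))
  have h2 : maximalIdeal (Localization.AtPrime 𝔰) ∈
      (Ideal.comap (algebraMap (EGA4.FibLocRing A B Q) (Localization.AtPrime 𝔰))) ⁻¹'
        (associatedPrimes (EGA4.FibLocRing A B Q) (EGA4.FibLocMod A B Q M)) ↔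
      maximalIdeal (Localization.AtPrime 𝔰) ∈
        associatedPrimes (Localization.AtPrime 𝔰)
          (LocalizedModule 𝔰.primeCompl (EGA4.FibLocMod A B Q M)) := by rw [h]
  rw [Set.mem_preimage] at h2
  have h3 : Ideal.comap (algebraMap (EGA4.FibLocRing A B Q) (Localization.AtPrime 𝔰))
      (maximalIdeal (Localization.AtPrime 𝔰)) = 𝔰 := Localization.AtPrime.under_maximalIdeal
  rw [h3] at h2
  exact h2

end Groth.Agent.Lib.Helper24.FibSk
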