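import Mathlib
import Groth.Prelude.Def_EGA4b
import Groth.Agent.Lib.Helper24.FibSk3
import Groth.Agent.Lib.Helper24.CMFib2
import Groth.Agent.Lib.Helper24.FibMd6
import Groth.Agent.Lib.Helper24.AssFib1

/-!
# Fibre stalks of modules (helper24): dimensions in the fibre stalk

* `dim_quot_add_tdN`: `dim (R / r R) + td(Q) = td(r)` for `R = B_Q / p B_Q` and `r ≤ Q` a prime of the
  same fibre.
* `supportDim_fibLocMod_add_tdN_le_iff`: `dim (M_Q / p M_Q) + td(Q) ≤ e` iff all generizations of `Q`
  in its fibre lying in the support of `M` have `td ≤ e`.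
-/

set_option autoImplicit false
universe u

namespace Groth.Agent.Lib.Helper24.FibSk

open LocCoh IsLocalRing Function Groth.Agent.Lib.Helper24.FibMd Groth.Agent.Lib.Helper24.FibCod
  Groth.Agent.Lib.Helper24.AssFib Groth.Agent.Lib.Helper24.FibRd Groth.Agent.Lib.Helper24.CMFib

attribute [local instance] Groth.Agent.Lib.helper26.SkFlat.isLocalRing_fibLocRing

section quot

variable (A : Type u) {B : Type u} [CommRing A] [CommRing B] [Algebra A B]

/-- every ideal of the fibre local ring is extended from its contraction to `B`. -/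
theorem eq_map_comap_fibLocRing (Q : Ideal B) [Q.IsPrime] (𝔰 : Ideal (EGA4.FibLocRing A B Q)) :
    𝔰 = (𝔰.comap (algebraMap B (EGA4.FibLocRing A B Q))).map
      (algebraMap B (EGA4.FibLocRing A B Q)) := by
  set J := (Q.comap (algebraMap A B)).map (algebraMap A (Localization.AtPrime Q)) with hJ
  have h1 : 𝔰 = (𝔰.comap (Ideal.Quotient.mk J)).map (Ideal.Quotient.mk J) :=
    (Ideal.map_comap_of_surjective _ Ideal.Quotient.mk_surjective 𝔰).symm
  have h2 : 𝔰.comap (Ideal.Quotient.mk J) =
      ((𝔰.comap (Ideal.Quotient.mk J)).comap (algebraMap B (Localization.AtPrime Q))).map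
        (algebraMap B (Localization.AtPrime Q)) :=
    (IsLocalization.map_under Q.primeCompl _ _).symm
  have h3 : algebraMap B (EGA4.FibLocRing A B Q) =
      (Ideal.Quotient.mk J).comp (algebraMap B (Localization.AtPrime Q)) := rfl
  rw [h3, ← Ideal.map_map, ← Ideal.comap_comap, ← h2, ← h1]

theorem dim_quot_congr {q₁ q₂ : Ideal B} [q₁.IsPrime] [q₂.IsPrime] (h : q₁ = q₂) (I : Ideal B) :
    ringKrullDim (EGA4.FibLocRing A B q₁ ⧸ I.map (algebraMap B (EGA4.FibLocRing A B q₁))) =
      ringKrullDim (EGA4.FibLocRing A B q₂ ⧸ I.map (algebraMap B (EGA4.FibLocRing A B q₂))) := by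
  subst h
  rfl

variable [Algebra.FiniteType A B]

/-- `dim (R / r R) + td(Q) = td(r)`. -/
theorem dim_quot_add_tdN (Q : Ideal B) [Q.IsPrime] (r : Ideal B) [r.IsPrime] (hrQ : r ≤ Q)
    (hfib : r.comap (algebraMap A B) = Q.comap (algebraMap A B)) :
    ringKrullDim (EGA4.FibLocRing A B Q ⧸ r.map (algebraMap B (EGA4.FibLocRing A B Q))) +
      ((tdN A Q : ℕ) : WithBot ℕ∞) = ((tdN A r : ℕ) : WithBot ℕ∞) := by
  set Q' : Ideal (B ⧸ r) := Q.map (Ideal.Quotient.mk r) with hQ'
  haveI hQ'p : Q'.IsPrime :=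
    Ideal.map_isPrime_of_surjective Ideal.Quotient.mk_surjective (by rw [Ideal.mk_ker]; exact hrQ)
  have hQ'c : Q'.comap (Ideal.Quotient.mk r) = Q := by
    rw [hQ', Ideal.comap_map_of_surjective _ Ideal.Quotient.mk_surjective,
      ← RingHom.ker_eq_comap_bot, Ideal.mk_ker]
    exact sup_eq_left.mpr hrQ
  haveI : Algebra.FiniteType A (B ⧸ r) :=
    Algebra.FiniteType.of_surjective (Ideal.Quotient.mkₐ A r) Ideal.Quotient.mk_surjective
  have h1 := dim_fibLocRing_quot A B r Q'
  have h1' : ringKrullDim (EGA4.FibLocRing A B Q ⧸ r.map (algebraMap B (EGA4.FibLocRing A B Q))) =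
      ringKrullDim (EGA4.FibLocRing A (B ⧸ r) Q') := by
    rw [← h1]
    exact (dim_quot_congr A hQ'c r).symm
  rw [h1']
  have htQ : tdN A Q' = tdN A Q := by
    rw [← tdN_comap_mk A r Q']
    exact tdN_congr A hQ'c
  obtain ⟨d, hd⟩ := exists_nat_dim_fibLocRing' A Q'
  rw [hd, ← htQ]
  have hcomp : algebraMap A (B ⧸ r) = (Ideal.Quotient.mk r).comp (algebraMap A B) := rfl
  have key : ∀ e : ℕ, d + tdN A Q' ≤ e ↔ tdN A r ≤ e := by
    intro e
    have h2 := dim_fibLocRing_add_tdN_le_iff' A Q' e
    rw [hd] at h2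
    have h3 : ((d : ℕ) : WithBot ℕ∞) + ((tdN A Q' : ℕ) : WithBot ℕ∞) ≤ ((e : ℕ) : WithBot ℕ∞) ↔
        d + tdN A Q' ≤ e := by exact_mod_cast Iff.rfl
    rw [← h3, h2]
    constructor
    · intro h
      haveI : IsDomain (B ⧸ r) := Ideal.Quotient.isDomain r
      have hbot : (⊥ : Ideal (B ⧸ r)).comap (Ideal.Quotient.mk r) = r := by
        rw [← RingHom.ker_eq_comap_bot, Ideal.mk_ker]
      have hb := h ⊥ Ideal.isPrime_bot bot_le (by
        rw [hcomp, ← Ideal.comap_comap, ← Ideal.comap_comap, hbot, hQ'c, hfib])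
      have : tdN A (⊥ : Ideal (B ⧸ r)) = tdN A r := by
        rw [← tdN_comap_mk A r ⊥]
        exact tdN_congr A hbot
      rw [← this]
      exact hb
    · intro h q hq hqQ' hfibq
      haveI := hq
      have hrq : r ≤ q.comap (Ideal.Quotient.mk r) := by
        intro x hx
        rw [Ideal.mem_comap, Ideal.Quotient.eq_zero_iff_mem.mpr hx]
        exact zero_mem _
      have hfib' : r.comap (algebraMap A B) =
          (q.comap (Ideal.Quotient.mk r)).comap (algebraMap A B) := by
        rw [hfib, ← hQ'c, Ideal.comap_comap, Ideal.comap_comap, ← hcomp, hfibq]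
      have h4 := tdN_le_of_fibGen A B r (q.comap (Ideal.Quotient.mk r)) hrq hfib'
      rw [tdN_comap_mk A r q] at h4
      exact h4.trans h
  have : d + tdN A Q' = tdN A r := le_antisymm ((key _).mpr le_rfl) ((key _).mp le_rfl)
  exact_mod_cast this

end quot

section supp

variable (A : Type u) {B : Type u} [CommRing A] [CommRing B] [Algebra A B]
  [Algebra.FiniteType A B] (M : Type u) [AddCommGroup M] [Module B M] [Module.Finite B M]

/-- `dim (M_Q / p M_Q) + td(Q) ≤ e` iff all generizations of `Q` in its fibre lying in the support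
of `M` have `td ≤ e`. -/
theorem supportDim_fibLocMod_add_tdN_le_iff (Q : Ideal B) [Q.IsPrime] (e : ℕ) :
    Module.supportDim (EGA4.FibLocRing A B Q) (EGA4.FibLocMod A B Q M) +
        ((tdN A Q : ℕ) : WithBot ℕ∞) ≤ ((e : ℕ) : WithBot ℕ∞) ↔
      ∀ (q : Ideal B) (_ : q.IsPrime), q ≤ Q →
        q.comap (algebraMap A B) = Q.comap (algebraMap A B) →
          Module.annihilator B M ≤ q → tdN A q ≤ e := by
  by_cases hQ : Module.annihilator B M ≤ Q
  · set I := Module.annihilator B M with hI
    letI modCM : Module (B ⧸ I) M := Module.quotientAnnihilator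
    haveI : IsScalarTower B (B ⧸ I) M := IsScalarTower.of_algebraMap_smul fun b m => rfl
    have hs : Surjective (algebraMap B (B ⧸ I)) := Ideal.Quotient.mk_surjective
    haveI : Module.Finite (B ⧸ I) M := Module.Finite.of_restrictScalars_finite B (B ⧸ I) M
    have hsupp : Module.support (B ⧸ I) M = Set.univ := by
      rw [Module.support_eq_zeroLocus]
      have hann : Module.annihilator (B ⧸ I) M = ⊥ := by
        rw [eq_bot_iff]
        intro x hx
        obtain ⟨b, rfl⟩ := Ideal.Quotient.mk_surjective x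
        rw [Ideal.mem_bot, Ideal.Quotient.eq_zero_iff_mem, Module.mem_annihilator]
        intro m
        exact Module.mem_annihilator.mp hx m
      rw [hann]
      exact PrimeSpectrum.zeroLocus_bot
    haveI : Algebra.FiniteType A (B ⧸ I) :=
      Algebra.FiniteType.of_surjective (Ideal.Quotient.mkₐ A I) Ideal.Quotient.mk_surjective
    set Q' : Ideal (B ⧸ I) := Q.map (Ideal.Quotient.mk I) with hQ'
    haveI hQ'p : Q'.IsPrime :=
      Ideal.map_isPrime_of_surjective Ideal.Quotient.mk_surjective (by rw [Ideal.mk_ker]; exact hQ)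
    have hQ'c : Q'.comap (Ideal.Quotient.mk I) = Q := by
      rw [hQ', Ideal.comap_map_of_surjective _ Ideal.Quotient.mk_surjective,
        ← RingHom.ker_eq_comap_bot, Ideal.mk_ker]
      exact sup_eq_left.mpr hQ
    have h1 := (depth_supportDim_fibLocMod_comap' A hs M Q').2
    have h1' : Module.supportDim (EGA4.FibLocRing A B Q) (EGA4.FibLocMod A B Q M) =
        Module.supportDim (EGA4.FibLocRing A (B ⧸ I) Q') (EGA4.FibLocMod A (B ⧸ I) Q' M) := by
      rw [← h1]
      exact ((depth_supportDim_fibLocMod_congr A B M hQ'c).2).symm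
    rw [h1', supportDim_fibLocMod_of_support_eq_univ A (B ⧸ I) Q' M hsupp]
    have htQ : tdN A Q' = tdN A Q := by
      rw [← tdN_comap_mk A I Q']
      exact tdN_congr A hQ'c
    rw [← htQ, dim_fibLocRing_add_tdN_le_iff' A Q' e]
    have hcomp : algebraMap A (B ⧸ I) = (Ideal.Quotient.mk I).comp (algebraMap A B) := rfl
    constructor
    · intro h q hq hqQ hfib hIq
      haveI := hq
      set q' : Ideal (B ⧸ I) := q.map (Ideal.Quotient.mk I) with hq'
      haveI hq'p : q'.IsPrime :=
        Ideal.map_isPrime_of_surjective Ideal.Quotient.mk_surjective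
          (by rw [Ideal.mk_ker]; exact hIq)
      have hq'c : q'.comap (Ideal.Quotient.mk I) = q := by
        rw [hq', Ideal.comap_map_of_surjective _ Ideal.Quotient.mk_surjective,
          ← RingHom.ker_eq_comap_bot, Ideal.mk_ker]
        exact sup_eq_left.mpr hIq
      have h2 := h q' hq'p (Ideal.map_mono hqQ) (by
        rw [hcomp, ← Ideal.comap_comap, ← Ideal.comap_comap, hq'c, hQ'c, hfib])
      rw [← tdN_comap_mk A I q', tdN_congr A hq'c] at h2
      exact h2
    · intro h q' hq' hq'Q' hfib'
      haveI := hq'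
      have hIq : I ≤ q'.comap (Ideal.Quotient.mk I) := by
        intro x hx
        rw [Ideal.mem_comap, Ideal.Quotient.eq_zero_iff_mem.mpr hx]
        exact zero_mem _
      have h2 := h (q'.comap (Ideal.Quotient.mk I)) inferInstance
        (by rw [← hQ'c]; exact Ideal.comap_mono hq'Q')
        (by rw [← hQ'c, Ideal.comap_comap, Ideal.comap_comap, ← hcomp, hfib']) hIq
      rw [tdN_comap_mk A I q'] at h2
      exact h2
  · have hsub : Subsingleton (EGA4.FibLocMod A B Q M) := by
      by_contra hcon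
      rw [not_subsingleton_iff_nontrivial] at hcon
      have hmem := (nontrivial_fibLocMod_iff A B M ⟨Q, inferInstance⟩).mp hcon
      rw [Module.support_eq_zeroLocus, PrimeSpectrum.mem_zeroLocus, SetLike.coe_subset_coe] at hmem
      exact hQ hmem
    haveI := hsub
    rw [Module.supportDim_eq_bot_of_subsingleton, WithBot.bot_add]
    simp only [bot_le, true_iff]
    intro q _ hqQ _ hIq
    exact absurd (hIq.trans hqQ) hQ

end supp

end Groth.Agent.Lib.Helper24.FibSk
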