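import Mathlib
import Groth.Prelude.Def_EGA4b
import Groth.Agent.Lib.Helper24.FibSk4
import Groth.Agent.Lib.Helper26.SkEmb

/-!
# Fibre stalks of modules (helper24): equidimensionality and `(S_k)` of the fibre stalk, ring level

For `A → B` of finite type, `M` a finite `B`-module, `Q` a prime of `B` and `k ≥ 1`: the fibre stalk
`M_Q / p M_Q` is equidimensional and `(S_k)` iff for some `λ` all associated points of the fibre
module which generize `Q` have dimension `λ` and the rectified depth at every generization `r` of `Q`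
in the fibre is at least `min (k + td r) λ`.
-/

set_option autoImplicit false
universe u

namespace Groth.Agent.Lib.Helper24.FibSk

open LocCoh IsLocalRing Function Groth.Agent.Lib.Helper24.FibMd Groth.Agent.Lib.Helper24.FibCod
  Groth.Agent.Lib.Helper24.AssFib Groth.Agent.Lib.Helper24.FibRd Groth.Agent.Lib.helper26.Depth

attribute [local instance] Groth.Agent.Lib.helper26.SkFlat.isLocalRing_fibLocRing

variable (A : Type u) {B : Type u} [CommRing A] [CommRing B] [Algebra A B]
  [Algebra.FiniteType A B] (M : Type u) [AddCommGroup M] [Module B M] [Module.Finite B M]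

omit [Algebra.FiniteType A B] in
theorem finite_fibLocMod (Q : Ideal B) [Q.IsPrime] :
    Module.Finite (EGA4.FibLocRing A B Q) (EGA4.FibLocMod A B Q M) :=
  Module.Finite.equiv (isBaseChange_fibLocModMap A B Q M).equiv

omit [Algebra.FiniteType A B] in
theorem nontrivial_fibLocMod_iff_le (Q : Ideal B) [Q.IsPrime] :
    Nontrivial (EGA4.FibLocMod A B Q M) ↔ Module.annihilator B M ≤ Q := by
  rw [nontrivial_fibLocMod_iff A B M ⟨Q, inferInstance⟩, Module.support_eq_zeroLocus,
    PrimeSpectrum.mem_zeroLocus, SetLike.coe_subset_coe]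

omit [Module.Finite B M] in
/-- the dimension of a nonzero fibre stalk is a natural number. -/
theorem exists_nat_supportDim_fibLocMod (Q : Ideal B) [Q.IsPrime]
    (hnt : Nontrivial (EGA4.FibLocMod A B Q M)) :
    ∃ d : ℕ, Module.supportDim (EGA4.FibLocRing A B Q) (EGA4.FibLocMod A B Q M) =
      ((d : ℕ) : WithBot ℕ∞) := by
  obtain ⟨n, hn⟩ := exists_nat_dim_fibLocRing' A Q
  have h1 : Module.supportDim (EGA4.FibLocRing A B Q) (EGA4.FibLocMod A B Q M) ≤
      ((n : ℕ) : WithBot ℕ∞) := hn ▸ Module.supportDim_le_ringKrullDim _ _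
  have h2 : Module.supportDim (EGA4.FibLocRing A B Q) (EGA4.FibLocMod A B Q M) ≠ ⊥ :=
    (Module.supportDim_ne_bot_iff_nontrivial _ _).mpr hnt
  generalize Module.supportDim (EGA4.FibLocRing A B Q) (EGA4.FibLocMod A B Q M) = x at h1 h2
  induction x using WithBot.recBotCoe with
  | bot => exact absurd rfl h2
  | coe y =>
    have h3 : y ≤ (n : ℕ∞) := by exact_mod_cast h1
    obtain ⟨m, rfl⟩ := ENat.ne_top_iff_exists.mp (ne_top_of_le_ne_top (ENat.natCast_ne_top n) h3)
    exact ⟨m, rfl⟩

/-- below every prime of the support there is, in the same fibre, an associated point of the fibre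
module. -/
theorem exists_fibGen_depth_zero (r' : Ideal B) [r'.IsPrime]
    (hr' : Module.annihilator B M ≤ r') :
    ∃ (r'' : Ideal B) (_ : r''.IsPrime), r'' ≤ r' ∧
      r''.comap (algebraMap A B) = r'.comap (algebraMap A B) ∧ Module.annihilator B M ≤ r'' ∧
      depth (EGA4.FibLocRing A B r'') (EGA4.FibLocMod A B r'' M) = 0 := by
  set K : Ideal B := Module.annihilator B M ⊔ (r'.comap (algebraMap A B)).map (algebraMap A B)
    with hK
  have hKr' : K ≤ r' := sup_le hr' Ideal.map_comap_le
  obtain ⟨r'', hmin, hle⟩ := Ideal.exists_minimalPrimes_le hKr'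
  haveI hp : r''.IsPrime := hmin.1.1
  have hKr'' : K ≤ r'' := hmin.1.2
  have hann : Module.annihilator B M ≤ r'' := le_sup_left.trans hKr''
  have hfib : r''.comap (algebraMap A B) = r'.comap (algebraMap A B) := by
    refine le_antisymm (Ideal.comap_mono hle) ?_
    rw [← Ideal.map_le_iff_le_comap]
    exact le_sup_right.trans hKr''
  refine ⟨r'', hp, hle, hfib, hann, ?_⟩
  haveI hnt : Nontrivial (EGA4.FibLocMod A B r'' M) := (nontrivial_fibLocMod_iff_le A M r'').mpr hann
  haveI : IsNoetherianRing (EGA4.FibLocRing A B r'') := isNoetherianRing_fibLocRing A B r''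
  haveI := finite_fibLocMod A M r''
  obtain ⟨d, hd⟩ := exists_nat_supportDim_fibLocMod A M r'' hnt
  have h1 : Module.supportDim (EGA4.FibLocRing A B r'') (EGA4.FibLocMod A B r'' M) +
      ((tdN A r'' : ℕ) : WithBot ℕ∞) ≤ ((tdN A r'' : ℕ) : WithBot ℕ∞) := by
    rw [supportDim_fibLocMod_add_tdN_le_iff]
    intro q hq hqr hqfib hqann
    haveI := hq
    have hKq : K ≤ q := by
      refine sup_le hqann ?_
      rw [Ideal.map_le_iff_le_comap, ← hfib, hqfib]
    have : r'' ≤ q := hmin.2 ⟨hq, hKq⟩ hqr
    exact (tdN_congr A (le_antisymm hqr this)).le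
  rw [hd] at h1
  have hd0 : d = 0 := by
    have : d + tdN A r'' ≤ tdN A r'' := by exact_mod_cast h1
    omega
  have h2 := depth_le_supportDim (A := EGA4.FibLocRing A B r'') (EGA4.FibLocMod A B r'' M)
  rw [hd, hd0] at h2
  have h3 : depth (EGA4.FibLocRing A B r'') (EGA4.FibLocMod A B r'' M) ≤ 0 := by
    exact_mod_cast h2
  exact nonpos_iff_eq_zero.mp h3

/-- if all associated points of the fibre module generizing `r` have dimension `λ` then
`dim (M_r / p M_r) + td(r) = λ`. -/
theorem supportDim_add_tdN_eq (r : Ideal B) [r.IsPrime] (hr : Module.annihilator B M ≤ r)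
    (lam : ℕ)
    (h : ∀ (r' : Ideal B) (_ : r'.IsPrime), r' ≤ r →
      r'.comap (algebraMap A B) = r.comap (algebraMap A B) →
      depth (EGA4.FibLocRing A B r') (EGA4.FibLocMod A B r' M) = 0 → tdN A r' = lam) :
    Module.supportDim (EGA4.FibLocRing A B r) (EGA4.FibLocMod A B r M) +
      ((tdN A r : ℕ) : WithBot ℕ∞) = ((lam : ℕ) : WithBot ℕ∞) := by
  refine le_antisymm ?_ ?_
  · rw [supportDim_fibLocMod_add_tdN_le_iff]
    intro q hq hqr hqfib hqann
    haveI := hq
    obtain ⟨r'', hp, hle, hfib, -, hdep⟩ := exists_fibGen_depth_zero A M q hqann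
    haveI := hp
    have h1 := h r'' hp (hle.trans hqr) (hfib.trans hqfib) hdep
    rw [← h1]
    exact tdN_le_of_fibGen A B r'' q hle hfib
  · have hnt : Nontrivial (EGA4.FibLocMod A B r M) := (nontrivial_fibLocMod_iff_le A M r).mpr hr
    obtain ⟨d, hd⟩ := exists_nat_supportDim_fibLocMod A M r hnt
    obtain ⟨r'', hp, hle, hfib, hann, hdep⟩ := exists_fibGen_depth_zero A M r hr
    haveI := hp
    have h1 := h r'' hp hle hfib hdep
    have h2 : Module.supportDim (EGA4.FibLocRing A B r) (EGA4.FibLocMod A B r M) +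
        ((tdN A r : ℕ) : WithBot ℕ∞) ≤ (((d + tdN A r : ℕ)) : WithBot ℕ∞) := by
      rw [hd]; exact_mod_cast le_rfl
    have h3 := (supportDim_fibLocMod_add_tdN_le_iff A M r (d + tdN A r)).mp h2 r'' hp hle hfib hann
    rw [hd, ← h1]
    exact_mod_cast h3

omit [Algebra.FiniteType A B] [Module.Finite B M] in
theorem depth_fibLocMod_eq_top (r : Ideal B) [r.IsPrime]
    [Subsingleton (EGA4.FibLocMod A B r M)] :
    depth (EGA4.FibLocRing A B r) (EGA4.FibLocMod A B r M) = ⊤ :=
  Groth.Agent.Lib.Helper24.FlatDepth.idealDepth_of_subsingleton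
    (EGA4.FibLocRing A B r) (maximalIdeal (EGA4.FibLocRing A B r)) (EGA4.FibLocMod A B r M)

/-- arithmetic: cancelling the transcendence degree. -/
theorem arith_sk (k t m lam : ℕ) (δ : ℕ∞) (hm : m + t = lam) :
    min ((k : ℕ) : WithBot ℕ∞) ((m : ℕ) : WithBot ℕ∞) ≤ ((δ : ℕ∞) : WithBot ℕ∞) ↔
      ((min (k + t) lam : ℕ) : ℕ∞) ≤ δ + (t : ℕ∞) := by
  induction δ using ENat.recTopCoe with
  | top =>
    simp only [top_add, le_top, iff_true]
    exact le_top
  | coe d =>
    have h1 : min ((k : ℕ) : WithBot ℕ∞) ((m : ℕ) : WithBot ℕ∞) ≤ (((d : ℕ) : ℕ∞) : WithBot ℕ∞) ↔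
        min k m ≤ d := by
      rw [show (((d : ℕ) : ℕ∞) : WithBot ℕ∞) = ((d : ℕ) : WithBot ℕ∞) from rfl]
      rcases le_total k m with hkm | hkm
      · rw [min_eq_left (by exact_mod_cast hkm), min_eq_left hkm]
        exact_mod_cast Iff.rfl
      · rw [min_eq_right (by exact_mod_cast hkm), min_eq_right hkm]
        exact_mod_cast Iff.rfl
    have h2 : ((min (k + t) lam : ℕ) : ℕ∞) ≤ ((d : ℕ) : ℕ∞) + (t : ℕ∞) ↔ min (k + t) lam ≤ d + t := by
      exact_mod_cast Iff.rfl
    rw [h1, h2]
    omega

/-- **Equidimensionality and `(S_k)` of the fibre stalk**, ring level. -/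
theorem isEquidimModule_and_hasSk_fibLocMod_iff (k : ℕ) (hk : 1 ≤ k) (Q : Ideal B) [Q.IsPrime] :
    (EGA4.IsEquidimModule (EGA4.FibLocRing A B Q) (EGA4.FibLocMod A B Q M) ∧
      HasSk k (EGA4.FibLocRing A B Q) (EGA4.FibLocMod A B Q M)) ↔
    ∃ lam : ℕ,
      (∀ (r : Ideal B) (_ : r.IsPrime), r ≤ Q →
        r.comap (algebraMap A B) = Q.comap (algebraMap A B) →
        depth (EGA4.FibLocRing A B r) (EGA4.FibLocMod A B r M) = 0 → tdN A r = lam) ∧
      (∀ (r : Ideal B) (_ : r.IsPrime), r ≤ Q →
        r.comap (algebraMap A B) = Q.comap (algebraMap A B) →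
        ((min (k + tdN A r) lam : ℕ) : ℕ∞) ≤
          depth (EGA4.FibLocRing A B r) (EGA4.FibLocMod A B r M) + (tdN A r : ℕ∞)) := by
  haveI : IsNoetherianRing (EGA4.FibLocRing A B Q) := isNoetherianRing_fibLocRing A B Q
  haveI := finite_fibLocMod A M Q
  -- the condition at a prime outside the support
  have htriv : ∀ (r : Ideal B) [r.IsPrime], ¬ Module.annihilator B M ≤ r →
      Subsingleton (EGA4.FibLocMod A B r M) := by
    intro r _ hr
    by_contra hcon
    rw [not_subsingleton_iff_nontrivial] at hcon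
    exact hr ((nontrivial_fibLocMod_iff_le A M r).mp hcon)
  constructor
  · rintro ⟨hEq, hSk⟩
    have hS1 : HasSk 1 (EGA4.FibLocRing A B Q) (EGA4.FibLocMod A B Q M) :=
      hasSk_mono_module hk _ hSk
    have hNoEmb : NoEmb (EGA4.FibLocRing A B Q) (EGA4.FibLocMod A B Q M) :=
      (noEmb_iff_hasSk_one _).mpr hS1
    by_cases hQs : Module.annihilator B M ≤ Q
    · have hnt : Nontrivial (EGA4.FibLocMod A B Q M) := (nontrivial_fibLocMod_iff_le A M Q).mpr hQs
      obtain ⟨d, hd⟩ := exists_nat_supportDim_fibLocMod A M Q hnt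
      have hfirst : ∀ (r : Ideal B) (_ : r.IsPrime), r ≤ Q →
          r.comap (algebraMap A B) = Q.comap (algebraMap A B) →
          depth (EGA4.FibLocRing A B r) (EGA4.FibLocMod A B r M) = 0 →
          tdN A r = d + tdN A Q := by
        intro r hr hrQ hfib hdep
        haveI := hr
        obtain ⟨𝔰, h𝔰, h𝔰r⟩ := exists_prime_fibLocRing A Q r hrQ hfib
        haveI := h𝔰
        have hass : IsAssociatedPrime 𝔰 (EGA4.FibLocMod A B Q M) :=
          (isAssociatedPrime_fibLocMod_iff A M Q 𝔰 r h𝔰r.symm).mpr hdep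
        have hmin : 𝔰 ∈ (Module.annihilator (EGA4.FibLocRing A B Q)
            (EGA4.FibLocMod A B Q M)).minimalPrimes := by
          have hle : Module.annihilator (EGA4.FibLocRing A B Q) (EGA4.FibLocMod A B Q M) ≤ 𝔰 := by
            rw [← Submodule.annihilator_top]
            exact IsAssociatedPrime.annihilator_le hass
          obtain ⟨𝔰', h𝔰'min, h𝔰'le⟩ := Ideal.exists_minimalPrimes_le hle
          have h𝔰'ass : 𝔰' ∈ associatedPrimes (EGA4.FibLocRing A B Q) (EGA4.FibLocMod A B Q M) :=
            Module.associatedPrimes.minimalPrimes_annihilator_subset_associatedPrimes _ _ h𝔰'min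
          rw [← hNoEmb 𝔰' h𝔰'ass 𝔰 hass h𝔰'le]
          exact h𝔰'min
        have hdim := hEq 𝔰 hmin
        have h𝔰eq : 𝔰 = r.map (algebraMap B (EGA4.FibLocRing A B Q)) := by
          rw [← h𝔰r]
          exact eq_map_comap_fibLocRing A Q 𝔰
        have h5 := dim_quot_add_tdN A Q r hrQ hfib
        have h6 : ringKrullDim (EGA4.FibLocRing A B Q ⧸ 𝔰) =
            ringKrullDim (EGA4.FibLocRing A B Q ⧸ r.map (algebraMap B (EGA4.FibLocRing A B Q))) :=
          ringKrullDim_eq_of_ringEquiv (Ideal.quotEquivOfEq h𝔰eq)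
        rw [← h6, hdim, hd] at h5
        exact_mod_cast h5.symm
      refine ⟨d + tdN A Q, hfirst, ?_⟩
      intro r hr hrQ hfib
      haveI := hr
      by_cases hrs : Module.annihilator B M ≤ r
      · have hntr : Nontrivial (EGA4.FibLocMod A B r M) :=
          (nontrivial_fibLocMod_iff_le A M r).mpr hrs
        obtain ⟨m, hm⟩ := exists_nat_supportDim_fibLocMod A M r hntr
        have hL2 := supportDim_add_tdN_eq A M r hrs (d + tdN A Q)
          (fun r' hr' hr'r hfib' hdep' => hfirst r' hr' (hr'r.trans hrQ) (hfib'.trans hfib) hdep')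
        rw [hm] at hL2
        have hmt : m + tdN A r = d + tdN A Q := by exact_mod_cast hL2
        have hsk := (hasSk_fibLocMod_iff A M k Q).mp hSk r hr hrQ hfib
        rw [hm] at hsk
        exact (arith_sk k (tdN A r) m (d + tdN A Q) _ hmt).mp hsk
      · haveI := htriv r hrs
        rw [depth_fibLocMod_eq_top A M r, top_add]
        exact le_top
    · refine ⟨0, ?_, ?_⟩
      · intro r hr hrQ hfib hdep
        haveI := hr
        exfalso
        have hrs : ¬ Module.annihilator B M ≤ r := fun h => hQs (h.trans hrQ)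
        haveI := htriv r hrs
        rw [depth_fibLocMod_eq_top A M r] at hdep
        exact ENat.top_ne_zero hdep
      · intro r hr hrQ hfib
        rw [Nat.min_zero]
        exact zero_le
  · rintro ⟨lam, h1, h2⟩
    by_cases hQs : Module.annihilator B M ≤ Q
    · have hL2Q := supportDim_add_tdN_eq A M Q hQs lam h1
      constructor
      · intro 𝔰 h𝔰min
        haveI : 𝔰.IsPrime := h𝔰min.1.1
        have hass : IsAssociatedPrime 𝔰 (EGA4.FibLocMod A B Q M) :=
          Module.associatedPrimes.minimalPrimes_annihilator_subset_associatedPrimes _ _ h𝔰min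
        obtain ⟨hrQ, hfib⟩ := comap_fibLocRing_le A Q 𝔰
        have hdep := (isAssociatedPrime_fibLocMod_iff A M Q 𝔰 _ rfl).mp hass
        have htd := h1 _ inferInstance hrQ hfib hdep
        have h5 := dim_quot_add_tdN A Q _ hrQ hfib
        have h6 : ringKrullDim (EGA4.FibLocRing A B Q ⧸ 𝔰) =
            ringKrullDim (EGA4.FibLocRing A B Q ⧸
              (𝔰.comap (algebraMap B (EGA4.FibLocRing A B Q))).map
                (algebraMap B (EGA4.FibLocRing A B Q))) :=
          ringKrullDim_eq_of_ringEquiv (Ideal.quotEquivOfEq (eq_map_comap_fibLocRing A Q 𝔰))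
        rw [← h6, htd, ← hL2Q] at h5
        apply withBot_add_left_cancel (tdN A Q)
        rw [add_comm, h5, add_comm]
      · rw [hasSk_fibLocMod_iff]
        intro r hr hrQ hfib
        haveI := hr
        by_cases hrs : Module.annihilator B M ≤ r
        · have hntr : Nontrivial (EGA4.FibLocMod A B r M) :=
            (nontrivial_fibLocMod_iff_le A M r).mpr hrs
          obtain ⟨m, hm⟩ := exists_nat_supportDim_fibLocMod A M r hntr
          have hL2 := supportDim_add_tdN_eq A M r hrs lam
            (fun r' hr' hr'r hfib' hdep' => h1 r' hr' (hr'r.trans hrQ) (hfib'.trans hfib) hdep')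
          rw [hm] at hL2
          have hmt : m + tdN A r = lam := by exact_mod_cast hL2
          rw [hm]
          exact (arith_sk k (tdN A r) m lam _ hmt).mpr (h2 r hr hrQ hfib)
        · haveI := htriv r hrs
          rw [Module.supportDim_eq_bot_of_subsingleton, min_bot_right]
          exact bot_le
    · haveI := htriv Q hQs
      constructor
      · intro 𝔰 h𝔰min
        exfalso
        have htop : Module.annihilator (EGA4.FibLocRing A B Q) (EGA4.FibLocMod A B Q M) = ⊤ := by
          rw [Module.annihilator_eq_top_iff]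
          infer_instance
        rw [htop] at h𝔰min
        exact h𝔰min.1.1.ne_top (top_le_iff.mp h𝔰min.1.2)
      · rw [hasSk_fibLocMod_iff]
        intro r hr hrQ hfib
        haveI := hr
        have hrs : ¬ Module.annihilator B M ≤ r := fun h => hQs (h.trans hrQ)
        haveI := htriv r hrs
        rw [Module.supportDim_eq_bot_of_subsingleton, min_bot_right]
        exact bot_le

end Groth.Agent.Lib.Helper24.FibSk
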