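import Mathlib
import Groth.Prelude.Def_EGA4b
import Groth.Prelude.Def_FDesc
import Groth.Prelude.Def_CohB1
import Groth.Prelude.Def_FlatMod2
import Groth.Agent.Lib.Helper24.FibSk5
import Groth.Agent.Lib.Helper24.AssFib3
import Groth.Agent.Lib.Lead.FibrewiseOpen

/-!
# Equidimensionality and `(S_k)` of fibre modules in families (helper24): EGA IV 12.1.6 (iv)

`f : X ⟶ Y` locally of finite presentation, `F` a finitely presented `O_X`-module flat over `Y`,
`k ≥ 1`: the set of `x` such that the stalk at `x` of the fibre module `F_{f x}` is equidimensional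
and `(S_k)` is open.
-/

set_option autoImplicit false
universe u

namespace Groth.Agent.Lib.Helper24.FibSk

open LocCoh IsLocalRing Function AlgebraicGeometry CategoryTheory
  Groth.Agent.Lib.Helper24.FibMd Groth.Agent.Lib.Helper24.FibCod
  Groth.Agent.Lib.Helper24.AssFib Groth.Agent.Lib.Helper24.FibRd

attribute [local instance] Groth.Agent.Lib.helper26.SkFlat.isLocalRing_fibLocRing

/-- the ring-level locus where the fibre stalk is equidimensional and `(S_k)`. -/
def eqSkLocus (A B : Type u) [CommRing A] [CommRing B] [Algebra A B] (M : Type u)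
    [AddCommGroup M] [Module B M] (k : ℕ) : Set (PrimeSpectrum B) :=
  {Q | ∃ lam : ℕ,
    (∀ q : PrimeSpectrum B, q.asIdeal ≤ Q.asIdeal →
      q.asIdeal.comap (algebraMap A B) = Q.asIdeal.comap (algebraMap A B) →
        fdepth A B M q = 0 → tdN A q.asIdeal ∈ ({lam} : Finset ℕ)) ∧
    (∀ r : PrimeSpectrum B, r.asIdeal ≤ Q.asIdeal →
      r.asIdeal.comap (algebraMap A B) = Q.asIdeal.comap (algebraMap A B) →
        r ∈ rdepthLocus A B M (min (k + tdN A r.asIdeal) lam))}

section ringOpen

variable (A B : Type u) [CommRing A] [CommRing B] [Algebra A B] [Algebra.FinitePresentation A B]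
  (M : Type u) [AddCommGroup M] [Module B M] [Module A M] [IsScalarTower A B M]
  [Module.FinitePresentation B M] [Module.Flat A M]

omit [Algebra.FinitePresentation A B] [Module A M] [IsScalarTower A B M]
  [Module.FinitePresentation B M] [Module.Flat A M] in
theorem rdepthLocus_anti {n₁ n₂ : ℕ} (h : n₁ ≤ n₂) :
    rdepthLocus A B M n₂ ⊆ rdepthLocus A B M n₁ := by
  intro Q hQ
  have h1 : ((n₂ : ℕ) : ℕ∞) ≤ depth (EGA4.FibLocRing A B Q.asIdeal)
      (EGA4.FibLocMod A B Q.asIdeal M) + (tdN A Q.asIdeal : ℕ∞) := hQ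
  show ((n₁ : ℕ) : ℕ∞) ≤ _
  exact le_trans (by exact_mod_cast h) h1

/-- the ring-level locus is open. -/
theorem isOpen_eqSkLocus (k : ℕ) : IsOpen (eqSkLocus A B M k) := by
  haveI : Algebra.FiniteType A B := Algebra.FiniteType.of_finitePresentation
  have hC : ∀ lam : ℕ, IsClosed (⋃ t ∈ Finset.range (lam + 1),
      {Q : PrimeSpectrum B | ∃ q : PrimeSpectrum B, q.asIdeal ≤ Q.asIdeal ∧
        q.asIdeal.comap (algebraMap A B) = Q.asIdeal.comap (algebraMap A B) ∧
        q ∈ (rdepthLocus A B M (min (k + t) lam))ᶜ ∧ t ≤ tdN A q.asIdeal}) := fun lam =>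
    isClosed_biUnion_finset fun t _ =>
      isClosed_setOf_exists_fibGen_tdN_ge A B _ (isOpen_rdepthLocus A B M _).isClosed_compl t
  have hset : eqSkLocus A B M k = ⋃ lam : ℕ,
      ({Q : PrimeSpectrum B | ∀ q : PrimeSpectrum B, q.asIdeal ≤ Q.asIdeal →
        q.asIdeal.comap (algebraMap A B) = Q.asIdeal.comap (algebraMap A B) →
          fdepth A B M q = 0 → tdN A q.asIdeal ∈ ({lam} : Finset ℕ)} ∩
      (⋃ t ∈ Finset.range (lam + 1),
        {Q : PrimeSpectrum B | ∃ q : PrimeSpectrum B, q.asIdeal ≤ Q.asIdeal ∧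
          q.asIdeal.comap (algebraMap A B) = Q.asIdeal.comap (algebraMap A B) ∧
          q ∈ (rdepthLocus A B M (min (k + t) lam))ᶜ ∧ t ≤ tdN A q.asIdeal})ᶜ) := by
    ext Q
    simp only [eqSkLocus, Set.mem_iUnion, Set.mem_inter_iff, Set.mem_compl_iff,
      Set.mem_ofPred_eq, Finset.mem_range]
    constructor
    · rintro ⟨lam, h1, h2⟩
      refine ⟨lam, h1, ?_⟩
      rintro ⟨t, ht, q, hle, hfib, hq, htq⟩
      apply hq
      refine rdepthLocus_anti A B M ?_ (h2 q hle hfib)
      omega
    · rintro ⟨lam, h1, h2⟩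
      refine ⟨lam, h1, ?_⟩
      intro r hle hfib
      by_contra hr
      apply h2
      rcases le_total (tdN A r.asIdeal) lam with ht | ht
      · exact ⟨tdN A r.asIdeal, by omega, r, hle, hfib, hr, le_rfl⟩
      · refine ⟨lam, by omega, r, hle, hfib, ?_, ht⟩
        intro hmem
        apply hr
        refine rdepthLocus_anti A B M ?_ hmem
        omega
  rw [hset]
  exact isOpen_iUnion fun lam =>
    (isOpen_setOf_assDims_mem A B M {lam}).inter (hC lam).isOpen_compl

end ringOpen

section dict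

variable (A : Type u) {B : Type u} [CommRing A] [CommRing B] [Algebra A B]
  [Algebra.FiniteType A B] (M : Type u) [AddCommGroup M] [Module B M] [Module.Finite B M]

/-- membership in the ring-level locus. -/
theorem mem_eqSkLocus_iff (k : ℕ) (hk : 1 ≤ k) (Q : PrimeSpectrum B) :
    Q ∈ eqSkLocus A B M k ↔
      (EGA4.IsEquidimModule (EGA4.FibLocRing A B Q.asIdeal) (EGA4.FibLocMod A B Q.asIdeal M) ∧
        HasSk k (EGA4.FibLocRing A B Q.asIdeal) (EGA4.FibLocMod A B Q.asIdeal M)) := by
  rw [isEquidimModule_and_hasSk_fibLocMod_iff A M k hk Q.asIdeal]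
  constructor
  · rintro ⟨lam, h1, h2⟩
    refine ⟨lam, ?_, ?_⟩
    · intro r hr hrQ hfib hdep
      have := h1 ⟨r, hr⟩ hrQ hfib hdep
      exact Finset.mem_singleton.mp this
    · intro r hr hrQ hfib
      exact h2 ⟨r, hr⟩ hrQ hfib
  · rintro ⟨lam, h1, h2⟩
    refine ⟨lam, ?_, ?_⟩
    · intro q hqQ hfib hdep
      exact Finset.mem_singleton.mpr (h1 q.asIdeal q.isPrime hqQ hfib hdep)
    · intro r hrQ hfib
      exact h2 r.asIdeal r.isPrime hrQ hfib

end dict

section main

variable {X Y : Scheme.{u}} (f : X ⟶ Y) [LocallyOfFinitePresentation f] (F : X.Modules)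
  (hF : CohB1.IsFP F) (hflat : FlatMod.IsFlatOver f F)

omit [LocallyOfFinitePresentation f] in
/-- the chart for EGA IV 12.1.6 (iv). -/
theorem fibre_eqSk_iff [F.IsQuasicoherent] (k : ℕ) (hk : 1 ≤ k) {V : Y.Opens}
    (hV : IsAffineOpen V) {U : X.Opens}
    (hU : IsAffineOpen U) (e : U ≤ f ⁻¹ᵁ V) (hft : (f.appLE V U e).hom.FiniteType)
    (hfin : Module.Finite Γ(X, U) Γ(F, U)) (s : Y) (w : f.fiber s) (hw : f.fiberι s w ∈ U) :
    letI := (f.appLE V U e).hom.toAlgebra
    (EGA4.IsEquidimModule ((f.fiber s).presheaf.stalk w)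
        (((Scheme.Modules.pullback (f.fiberι s)).obj F).presheaf.stalk w) ∧
      HasSk k ((f.fiber s).presheaf.stalk w)
        (((Scheme.Modules.pullback (f.fiberι s)).obj F).presheaf.stalk w)) ↔
    hU.primeIdealOf ⟨f.fiberι s w, hw⟩ ∈ eqSkLocus Γ(Y, V) Γ(X, U) Γ(F, U) k := by
  letI := (f.appLE V U e).hom.toAlgebra
  haveI : Algebra.FiniteType Γ(Y, V) Γ(X, U) := hft
  rw [mem_eqSkLocus_iff Γ(Y, V) Γ(F, U) k hk]
  have hsemi := semiIso_fibre_stalk f F hV hU e s w hw
  set Q := (hU.primeIdealOf ⟨f.fiberι s w, hw⟩).asIdeal with hQ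
  haveI : IsNoetherianRing (EGA4.FibLocRing Γ(Y, V) Γ(X, U) Q) :=
    isNoetherianRing_fibLocRing Γ(Y, V) Γ(X, U) Q
  haveI := finite_fibLocMod Γ(Y, V) Γ(F, U) Q
  have hsemi' := hsemi.symm
  haveI : Module.Finite ((f.fiber s).presheaf.stalk w)
      (((Scheme.Modules.pullback (f.fiberι s)).obj F).presheaf.stalk w) :=
    finite_of_semiIso hsemi'
  haveI : IsNoetherianRing ((f.fiber s).presheaf.stalk w) := by
    obtain ⟨σ, -, -⟩ := hsemi'
    exact isNoetherianRing_of_ringEquiv _ σ
  constructor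
  · rintro ⟨h1, h2⟩
    exact ⟨isEquidimModule_of_semiIso hsemi h1, hasSk_of_semiIso hsemi k h2⟩
  · rintro ⟨h1, h2⟩
    exact ⟨isEquidimModule_of_semiIso hsemi' h1, hasSk_of_semiIso hsemi' k h2⟩

include hF hflat in
/-- **EGA IV 12.1.6 (iv)**: the locus where the fibre module is equidimensional and `(S_k)` at the
point is open (`k ≥ 1`). -/
theorem isOpen_setOf_fibre_isEquidimModule_and_hasSk (k : ℕ) (hk : 1 ≤ k) :
    IsOpen {x : X | EGA4.IsEquidimModule ((f.fiber (f.base x)).presheaf.stalk (f.asFiber x))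
        (((Scheme.Modules.pullback (f.fiberι (f.base x))).obj F).presheaf.stalk (f.asFiber x)) ∧
      LocCoh.HasSk k ((f.fiber (f.base x)).presheaf.stalk (f.asFiber x))
        (((Scheme.Modules.pullback (f.fiberι (f.base x))).obj F).presheaf.stalk
          (f.asFiber x))} := by
  haveI hF' : SheafOfModules.IsFinitePresentation (R := X.ringCatSheaf) F := hF
  haveI : F.IsQuasicoherent := SheafOfModules.instIsQuasicoherentOfIsFinitePresentation F
  exact isOpen_of_charts f F hF hflat
    (fun s w => EGA4.IsEquidimModule ((f.fiber s).presheaf.stalk w)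
        (((Scheme.Modules.pullback (f.fiberι s)).obj F).presheaf.stalk w) ∧
      HasSk k ((f.fiber s).presheaf.stalk w)
        (((Scheme.Modules.pullback (f.fiberι s)).obj F).presheaf.stalk w))
    (fun A B _ _ _ M _ _ => eqSkLocus A B M k)
    (fun A B _ _ _ _ M _ _ _ _ _ _ => isOpen_eqSkLocus A B M k)
    (fun V hV U hU e hft hfin s w hw => fibre_eqSk_iff f F k hk hV hU e hft hfin s w hw)

end main

section proper

variable {X Y : Scheme.{u}} (f : X ⟶ Y) [IsProper f] [LocallyOfFinitePresentation f]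
  (F : X.Modules) (hF : CohB1.IsFP F) (hflat : FlatMod.IsFlatOver f F)

include hF hflat in
/-- **EGA IV 12.2.1 (vi)**: for `f` proper, the set of `y` such that the fibre module `F_y` is
equidimensional and `(S_k)` at every point of the fibre is open (`k ≥ 1`). -/
theorem isOpen_setOf_forall_fibre_isEquidimModule_and_hasSk (k : ℕ) (hk : 1 ≤ k) :
    IsOpen {y : Y | ∀ x : ↥(f.fiber y),
      EGA4.IsEquidimModule ((f.fiber y).presheaf.stalk x)
        (((Scheme.Modules.pullback (f.fiberι y)).obj F).presheaf.stalk x) ∧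
      LocCoh.HasSk k ((f.fiber y).presheaf.stalk x)
        (((Scheme.Modules.pullback (f.fiberι y)).obj F).presheaf.stalk x)} :=
  Groth.Agent.Lib.Lead.FibrewiseOpen.isOpen_setOf_forall_fiber f f.isClosedMap
    (fun y x => EGA4.IsEquidimModule ((f.fiber y).presheaf.stalk x)
        (((Scheme.Modules.pullback (f.fiberι y)).obj F).presheaf.stalk x) ∧
      LocCoh.HasSk k ((f.fiber y).presheaf.stalk x)
        (((Scheme.Modules.pullback (f.fiberι y)).obj F).presheaf.stalk x))
    (isOpen_setOf_fibre_isEquidimModule_and_hasSk f F hF hflat k hk)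

end proper

end Groth.Agent.Lib.Helper24.FibSk
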