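import Mathlib
import Groth.Prelude.Def_EGA4b
import Groth.Agent.Lib.Helper24.FibSk6
import Groth.Agent.Lib.Helper24.FibCod6

/-!
# Geometric `(R_k)` of fibres (helper24), part 4: ring-level openness

For a flat finitely presented algebra `A → B`: the set of primes `Q` such that the fibre local ring at
`Q` is equidimensional without embedded primes, and such that `B` is smooth over `A` at every
generization `q` of `Q` in its fibre whose fibre local ring has dimension `≤ n`, is open.
-/

set_option autoImplicit false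
universe u

namespace Groth.Agent.Lib.Helper24.GRk

open LocCoh IsLocalRing Function Groth.Agent.Lib.Helper24.FibMd Groth.Agent.Lib.Helper24.FibCod
  Groth.Agent.Lib.Helper24.AssFib Groth.Agent.Lib.Helper24.FibRd Groth.Agent.Lib.Helper24.FibSk

attribute [local instance] Groth.Agent.Lib.helper26.SkFlat.isLocalRing_fibLocRing

/-- ring-level `(R_n)`-condition: smoothness at the fibre generizations of fibre codimension `≤ n`. -/
def rkLocus (A B : Type u) [CommRing A] [CommRing B] [Algebra A B] (n : ℕ) :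
    Set (PrimeSpectrum B) :=
  {Q | ∀ q : PrimeSpectrum B, q.asIdeal ≤ Q.asIdeal →
    q.asIdeal.comap (algebraMap A B) = Q.asIdeal.comap (algebraMap A B) →
      ringKrullDim (EGA4.FibLocRing A B q.asIdeal) ≤ n → q ∈ Algebra.smoothLocus A B}

variable (A B : Type u) [CommRing A] [CommRing B] [Algebra A B] [Algebra.FinitePresentation A B]
  [Module.Flat A B]

omit [Module.Flat A B] in
/-- on the part of the equidimensional-`(S_1)` locus where the components have dimension `lam`. -/
theorem dim_fibLocRing_add_tdN_eq (lam : ℕ) (Q : PrimeSpectrum B)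
    (hQ : ∀ q : PrimeSpectrum B, q.asIdeal ≤ Q.asIdeal →
      q.asIdeal.comap (algebraMap A B) = Q.asIdeal.comap (algebraMap A B) →
        fdepth A B B q = 0 → tdN A q.asIdeal ∈ ({lam} : Finset ℕ))
    (q : PrimeSpectrum B) (hle : q.asIdeal ≤ Q.asIdeal)
    (hfib : q.asIdeal.comap (algebraMap A B) = Q.asIdeal.comap (algebraMap A B)) :
    ringKrullDim (EGA4.FibLocRing A B q.asIdeal) + ((tdN A q.asIdeal : ℕ) : WithBot ℕ∞) =
      ((lam : ℕ) : WithBot ℕ∞) := by
  haveI : Algebra.FiniteType A B := Algebra.FiniteType.of_finitePresentation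
  rw [← supportDim_fibLocMod_self A B q.asIdeal]
  refine supportDim_add_tdN_eq A B q.asIdeal
    (by rw [Module.annihilator_eq_bot.mpr inferInstance]; exact bot_le) lam ?_
  intro r' hr' hr'q hr'fib hdep
  exact Finset.mem_singleton.mp
    (hQ ⟨r', hr'⟩ (hr'q.trans hle) (hr'fib.trans hfib) hdep)

theorem isOpen_rkLocus_inter_eqSkLocus (n : ℕ) :
    IsOpen (rkLocus A B n ∩ eqSkLocus A B B 1) := by
  haveI : Algebra.FiniteType A B := Algebra.FiniteType.of_finitePresentation
  have hZ : IsClosed ((Algebra.smoothLocus A B)ᶜ : Set (PrimeSpectrum B)) :=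
    Algebra.isOpen_smoothLocus.isClosed_compl
  have hset : rkLocus A B n ∩ eqSkLocus A B B 1 = ⋃ lam : ℕ,
      (({Q : PrimeSpectrum B | ∀ q : PrimeSpectrum B, q.asIdeal ≤ Q.asIdeal →
        q.asIdeal.comap (algebraMap A B) = Q.asIdeal.comap (algebraMap A B) →
          fdepth A B B q = 0 → tdN A q.asIdeal ∈ ({lam} : Finset ℕ)} ∩ eqSkLocus A B B 1) ∩
      {Q : PrimeSpectrum B | ∃ q : PrimeSpectrum B, q.asIdeal ≤ Q.asIdeal ∧
        q.asIdeal.comap (algebraMap A B) = Q.asIdeal.comap (algebraMap A B) ∧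
        q ∈ ((Algebra.smoothLocus A B)ᶜ : Set (PrimeSpectrum B)) ∧
          lam - n ≤ tdN A q.asIdeal}ᶜ) := by
    ext Q
    simp only [Set.mem_iUnion, Set.mem_inter_iff, Set.mem_compl_iff, Set.mem_ofPred_eq]
    constructor
    · rintro ⟨hrk, hQ⟩
      obtain ⟨lam, h1, h2⟩ := hQ
      refine ⟨lam, ⟨h1, ⟨lam, h1, h2⟩⟩, ?_⟩
      rintro ⟨q, hle, hfib, hqZ, ht⟩
      apply hqZ
      refine hrk q hle hfib ?_
      have hdim := dim_fibLocRing_add_tdN_eq A B lam Q h1 q hle hfib
      obtain ⟨d, hd⟩ := exists_nat_dim_fibLocRing' A q.asIdeal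
      rw [hd] at hdim ⊢
      have : d + tdN A q.asIdeal = lam := by exact_mod_cast hdim
      have : d ≤ n := by omega
      exact_mod_cast this
    · rintro ⟨lam, ⟨h1, hQ⟩, h3⟩
      refine ⟨?_, hQ⟩
      intro q hle hfib hdim
      by_contra hq
      apply h3
      refine ⟨q, hle, hfib, hq, ?_⟩
      have hdim' := dim_fibLocRing_add_tdN_eq A B lam Q h1 q hle hfib
      obtain ⟨d, hd⟩ := exists_nat_dim_fibLocRing' A q.asIdeal
      rw [hd] at hdim' hdim
      have h4 : d + tdN A q.asIdeal = lam := by exact_mod_cast hdim'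
      have h5 : d ≤ n := by exact_mod_cast hdim
      omega
  rw [hset]
  exact isOpen_iUnion fun lam =>
    ((isOpen_setOf_assDims_mem A B B {lam}).inter (isOpen_eqSkLocus A B B 1)).inter
      (isClosed_setOf_exists_fibGen_tdN_ge A B _ hZ (lam - n)).isOpen_compl

end Groth.Agent.Lib.Helper24.GRk
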