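import Groth.Agent.Lib.Helper5.FibClos2
import Groth.Agent.Lib.Helper9.NoethInd
import Groth.Agent.Lib.Helper24.GRk4

/-!
# Geometric `(R_k)` of fibres (helper24), part 12: ring-level constructibility

For `A` Noetherian and `B` an `A`-algebra of finite type, `rkLocus A B k` is constructible in `Spec B`
(no flatness hypothesis).

* `exists_specializes_of_mem_closure_fibre`: in a Noetherian quasi-sober space, a point of the closure
  of the trace on a fibre of a locally closed set is a specialization of a point of that trace.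
* `isConstructible_fibClosure_spec`: helper5's EGA IV 9.5.3 for `Spec B → Spec A`.
* `genSet_inter_open`: the key identity `G_m(C ∩ U) = fibClosure (G_m(C) ∩ U)`.
* `isConstructible_rkLocus`.
-/

set_option autoImplicit false
universe u

namespace Groth.Agent.Lib.Helper24.GRk

open AlgebraicGeometry CategoryTheory Topology TopologicalSpace
  Groth.Agent.Lib.Helper24.FibCod Groth.Agent.Lib.Helper24.FibRd Groth.Agent.Lib.Helper24.AssFib
  Groth.Agent.Lib.Helper24.CMFib

attribute [local instance] Groth.Agent.Lib.helper26.SkFlat.isLocalRing_fibLocRing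

section top

variable {X S : Type*} [TopologicalSpace X] [TopologicalSpace S] [NoetherianSpace X] [QuasiSober X]
  [T0Space S]

/-- auxiliary form with a closed set `K` for the Noetherian induction. -/
theorem exists_specializes_of_mem_closure_fibre_aux (f : X → S) (hf : Continuous f) (G U : Set X)
    (hG : IsClosed G) (hU : IsOpen U) (s : S) (K : Closeds X) :
    ∀ x : X, x ∈ closure (G ∩ U ∩ f ⁻¹' {s} ∩ (K : Set X)) → ∃ t ∈ G ∩ U, f t = s ∧ t ⤳ x := by
  apply wellFounded_lt.induction K; clear K
  intro K H x hx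
  set W : Set X := G ∩ U ∩ f ⁻¹' {s} with hW
  -- reduction step
  have step : ∀ K₁ K₂ : Closeds X, K₁ < K → K₂ < K →
      W ∩ (K : Set X) ⊆ (K₁ : Set X) ∪ (K₂ : Set X) → ∃ t ∈ G ∩ U, f t = s ∧ t ⤳ x := by
    intro K₁ K₂ h₁ h₂ hsub
    have h3 : W ∩ (K : Set X) ⊆ (W ∩ (K₁ : Set X)) ∪ (W ∩ (K₂ : Set X)) := by
      intro y hy
      rcases hsub hy with h | h
      · exact Or.inl ⟨hy.1, h⟩
      · exact Or.inr ⟨hy.1, h⟩
    have h4 := closure_mono h3 hx
    rw [closure_union] at h4
    rcases h4 with h | h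
    · exact H K₁ h₁ x h
    · exact H K₂ h₂ x h
  by_cases h₁ : IsPreirreducible (K : Set X)
  · -- `W ∩ K` is nonempty
    have hne : (W ∩ (K : Set X)).Nonempty := by
      by_contra hcon
      rw [Set.not_nonempty_iff_eq_empty] at hcon
      rw [hcon, closure_empty] at hx
      exact hx
    obtain ⟨w, hwW, hwK⟩ := hne
    have hirr : IsIrreducible (K : Set X) := ⟨⟨w, hwK⟩, h₁⟩
    obtain ⟨t, ht⟩ := QuasiSober.sober hirr K.isClosed
    have htK : t ∈ (K : Set X) := ht.mem
    have htw : t ⤳ w := by
      rw [specializes_iff_mem_closure, ht.def]; exact hwK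
    by_cases htG : t ∈ G
    · have htU : t ∈ U := htw.mem_open hU hwW.1.2
      have h1 : f t ⤳ s := by
        have := htw.map hf
        rwa [show f w = s from hwW.2] at this
      by_cases hts : s ⤳ f t
      · have hfts : f t = s := (h1.antisymm hts).eq
        refine ⟨t, ⟨htG, htU⟩, hfts, ?_⟩
        rw [specializes_iff_mem_closure, ht.def]
        exact closure_minimal Set.inter_subset_right K.isClosed hx
      · -- shrink `K`
        let K' : Closeds X := K ⊓ ⟨f ⁻¹' closure {s}, isClosed_closure.preimage hf⟩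
        have hK' : K' < K := by
          refine lt_of_le_of_ne inf_le_left fun h => ?_
          have : t ∈ (K' : Set X) := by rw [h]; exact htK
          exact hts (specializes_iff_mem_closure.mpr this.2)
        refine step K' K' hK' hK' ?_
        intro y hy
        exact Or.inl ⟨hy.2, subset_closure (show f y ∈ ({s} : Set S) from hy.1.2)⟩
    · let K' : Closeds X := K ⊓ ⟨G, hG⟩
      have hK' : K' < K := by
        refine lt_of_le_of_ne inf_le_left fun h => ?_
        have : t ∈ (K' : Set X) := by rw [h]; exact htK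
        exact htG this.2
      refine step K' K' hK' hK' ?_
      intro y hy
      exact Or.inl ⟨hy.2, hy.1.1.1⟩
  · simp only [isPreirreducible_iff_isClosed_union_isClosed, not_forall, not_or] at h₁
    obtain ⟨z₁, z₂, hz₁, hz₂, h, hz₁', hz₂'⟩ := h₁
    lift z₁ to Closeds X using hz₁
    lift z₂ to Closeds X using hz₂
    refine step (K ⊓ z₁) (K ⊓ z₂) (inf_lt_left.2 hz₁') (inf_lt_left.2 hz₂') ?_
    intro y hy
    rcases h hy.2 with h' | h'
    · exact Or.inl ⟨hy.2, h'⟩
    · exact Or.inr ⟨hy.2, h'⟩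

/-- in a Noetherian quasi-sober space, a point of the closure of the trace on a fibre of a locally
closed set is a specialization of a point of that trace. -/
theorem exists_specializes_of_mem_closure_fibre (f : X → S) (hf : Continuous f) (G U : Set X)
    (hG : IsClosed G) (hU : IsOpen U) (s : S) (x : X)
    (hx : x ∈ closure (G ∩ U ∩ f ⁻¹' {s})) : ∃ t ∈ G ∩ U, f t = s ∧ t ⤳ x := by
  refine exists_specializes_of_mem_closure_fibre_aux f hf G U hG hU s ⊤ x ?_
  simpa using hx

end top

section spec

variable (A B : Type u) [CommRing A] [CommRing B] [Algebra A B] [IsNoetherianRing A]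
  [Algebra.FiniteType A B]

/-- helper5's EGA IV 9.5.3 for `Spec B → Spec A`. -/
theorem isConstructible_fibClosure_spec (Z : Set (PrimeSpectrum B)) (hZ : IsConstructible Z) :
    IsConstructible {x : PrimeSpectrum B | x ∈ closure (Z ∩
      (PrimeSpectrum.comap (algebraMap A B)) ⁻¹' {PrimeSpectrum.comap (algebraMap A B) x})} := by
  haveI : LocallyOfFiniteType (Spec.map (CommRingCat.ofHom (algebraMap A B))) := by
    rw [HasRingHomProperty.Spec_iff (P := @LocallyOfFiniteType)]
    exact (RingHom.finiteType_algebraMap (A := A) (B := B)).mpr inferInstance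
  exact Groth.Agent.Lib.helper5.FibClos.isConstructible_fibClosure
    (Spec.map (CommRingCat.ofHom (algebraMap A B))) Z hZ

/-- the points having a generization in their fibre, inside `L`, of dimension `≥ m`. -/
def genSet (L : Set (PrimeSpectrum B)) (m : ℕ) : Set (PrimeSpectrum B) :=
  {Q | ∃ q : PrimeSpectrum B, q.asIdeal ≤ Q.asIdeal ∧
    q.asIdeal.comap (algebraMap A B) = Q.asIdeal.comap (algebraMap A B) ∧ q ∈ L ∧
      m ≤ tdN A q.asIdeal}

omit [IsNoetherianRing A] in
theorem isClosed_genSet (C : Set (PrimeSpectrum B)) (hC : IsClosed C) (m : ℕ) :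
    IsClosed (genSet A B C m) :=
  isClosed_setOf_exists_fibGen_tdN_ge A B C hC m

omit [IsNoetherianRing A] [Algebra.FiniteType A B] in
theorem comap_eq_iff (q Q : PrimeSpectrum B) :
    PrimeSpectrum.comap (algebraMap A B) q = PrimeSpectrum.comap (algebraMap A B) Q ↔
      q.asIdeal.comap (algebraMap A B) = Q.asIdeal.comap (algebraMap A B) := by
  constructor
  · intro h
    exact congrArg PrimeSpectrum.asIdeal h
  · intro h
    exact PrimeSpectrum.ext h

/-- the key identity: `G_m(C ∩ U)` is the fibrewise closure of `G_m(C) ∩ U`. -/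
theorem genSet_inter_open (C U : Set (PrimeSpectrum B)) (hC : IsClosed C) (hU : IsOpen U) (m : ℕ) :
    genSet A B (C ∩ U) m = {x : PrimeSpectrum B | x ∈ closure ((genSet A B C m ∩ U) ∩
      (PrimeSpectrum.comap (algebraMap A B)) ⁻¹' {PrimeSpectrum.comap (algebraMap A B) x})} := by
  haveI : IsNoetherianRing B := Algebra.FiniteType.isNoetherianRing A B
  ext Q
  constructor
  · rintro ⟨q, hle, hfib, ⟨hqC, hqU⟩, hm⟩
    have hq : q ∈ (genSet A B C m ∩ U) ∩
        (PrimeSpectrum.comap (algebraMap A B)) ⁻¹' {PrimeSpectrum.comap (algebraMap A B) Q} :=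
      ⟨⟨⟨q, le_rfl, rfl, hqC, hm⟩, hqU⟩, (comap_eq_iff A B q Q).mpr hfib⟩
    have hsp : q ⤳ Q := (PrimeSpectrum.le_iff_specializes q Q).mp hle
    exact closure_mono (Set.singleton_subset_iff.mpr hq) (specializes_iff_mem_closure.mp hsp)
  · intro hQ
    obtain ⟨t, ⟨htG, htU⟩, hft, htQ⟩ := exists_specializes_of_mem_closure_fibre
      (PrimeSpectrum.comap (algebraMap A B)) (PrimeSpectrum.continuous_comap (algebraMap A B))
      (genSet A B C m) U (isClosed_genSet A B C hC m) hU _ Q hQ
    obtain ⟨q, hle, hfib, hqC, hm⟩ := htG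
    have hqt : q ⤳ t := (PrimeSpectrum.le_iff_specializes q t).mp hle
    refine ⟨q, hle.trans ((PrimeSpectrum.le_iff_specializes t Q).mpr htQ), ?_,
      ⟨hqC, hqt.mem_open hU htU⟩, hm⟩
    exact hfib.trans ((comap_eq_iff A B t Q).mp hft)

theorem isConstructible_genSet_inter_open (C U : Set (PrimeSpectrum B)) (hC : IsClosed C)
    (hU : IsOpen U) (m : ℕ) : IsConstructible (genSet A B (C ∩ U) m) := by
  haveI : IsNoetherianRing B := Algebra.FiniteType.isNoetherianRing A B
  rw [genSet_inter_open A B C U hC hU m]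
  refine isConstructible_fibClosure_spec A B _ ?_
  exact Groth.Agent.Lib.helper9.isConstructible_of_isLocallyClosed
    ⟨U, genSet A B C m, hU, isClosed_genSet A B C hC m, Set.inter_comm _ _⟩

/-- the local dimension of the fibre at a point, as a natural number. -/
noncomputable def fibDimN (Q : PrimeSpectrum B) : ℕ :=
  (exists_nat_dim_fibLocRing' A Q.asIdeal).choose + tdN A Q.asIdeal

omit [IsNoetherianRing A] in
theorem fibDimN_spec (Q : PrimeSpectrum B) :
    ringKrullDim (EGA4.FibLocRing A B Q.asIdeal) + ((tdN A Q.asIdeal : ℕ) : WithBot ℕ∞) =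
      ((fibDimN A B Q : ℕ) : WithBot ℕ∞) := by
  have h := (exists_nat_dim_fibLocRing' A Q.asIdeal).choose_spec
  rw [h, fibDimN]
  push_cast
  rfl

omit [IsNoetherianRing A] in
theorem isOpen_fibDimN_le (e : ℕ) : IsOpen {Q : PrimeSpectrum B | fibDimN A B Q ≤ e} := by
  convert isOpen_setOf_dim_fibLocRing_add_tdN_le A B e using 1
  ext Q
  rw [Set.mem_ofPred_eq, Set.mem_ofPred_eq, fibDimN_spec]
  exact_mod_cast Iff.rfl

omit [IsNoetherianRing A] in
theorem isClosed_le_fibDimN (e : ℕ) : IsClosed {Q : PrimeSpectrum B | e ≤ fibDimN A B Q} := by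
  rcases Nat.eq_zero_or_pos e with rfl | he
  · simp
  · obtain ⟨e', rfl⟩ : ∃ e', e = e' + 1 := ⟨e - 1, by omega⟩
    convert (isOpen_fibDimN_le A B e').isClosed_compl using 1
    ext Q
    simp only [Set.mem_ofPred_eq, Set.mem_compl_iff, not_le]
    omega

omit [IsNoetherianRing A] in
theorem exists_fibDimN_le : ∃ e₀ : ℕ, ∀ Q : PrimeSpectrum B, fibDimN A B Q ≤ e₀ := by
  obtain ⟨e₀, he₀⟩ := isCompact_univ.elim_directed_cover
    (fun e : ℕ => {Q : PrimeSpectrum B | fibDimN A B Q ≤ e}) (isOpen_fibDimN_le A B)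
    (fun Q _ => Set.mem_iUnion.mpr ⟨fibDimN A B Q, (le_refl (fibDimN A B Q) : _)⟩)
    (directed_of_isDirected_le fun a b hab Q hQ => le_trans hQ hab)
  exact ⟨e₀, fun Q => he₀ (Set.mem_univ Q)⟩

omit [IsNoetherianRing A] in
theorem compl_rkLocus_eq (k e₀ : ℕ) (he₀ : ∀ Q : PrimeSpectrum B, fibDimN A B Q ≤ e₀) :
    (rkLocus A B k)ᶜ = ⋃ e ∈ (Finset.range (e₀ + 1) : Set ℕ),
      genSet A B ((((Algebra.smoothLocus A B)ᶜ : Set (PrimeSpectrum B)) ∩
        {Q | e ≤ fibDimN A B Q}) ∩ {Q | fibDimN A B Q ≤ e}) (e - k) := by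
  ext Q
  simp only [Set.mem_compl_iff, Set.mem_iUnion, Finset.coe_range, Set.mem_Iio, exists_prop]
  constructor
  · intro h
    unfold rkLocus at h
    simp only [Set.mem_ofPred_eq] at h
    push Not at h
    obtain ⟨q, hle, hfib, hdim, hq⟩ := h
    refine ⟨fibDimN A B q, Nat.lt_succ_of_le (he₀ q), q, hle, hfib,
      ⟨⟨hq, (le_refl (fibDimN A B q) : _)⟩, (le_refl (fibDimN A B q) : _)⟩, ?_⟩
    have hspec := fibDimN_spec A B q
    obtain ⟨d, hd⟩ := exists_nat_dim_fibLocRing' A q.asIdeal
    rw [hd] at hspec hdim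
    have h1 : d + tdN A q.asIdeal = fibDimN A B q := by exact_mod_cast hspec
    have h2 : d ≤ k := by exact_mod_cast hdim
    omega
  · rintro ⟨e, -, q, hle, hfib, ⟨⟨hq, h1⟩, h2⟩, hm⟩ hQ
    apply hq
    refine hQ q hle hfib ?_
    have heq : fibDimN A B q = e := le_antisymm h2 h1
    have hspec := fibDimN_spec A B q
    obtain ⟨d, hd⟩ := exists_nat_dim_fibLocRing' A q.asIdeal
    rw [hd] at hspec ⊢
    have h3 : d + tdN A q.asIdeal = fibDimN A B q := by exact_mod_cast hspec
    have h4 : d ≤ k := by omega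
    exact_mod_cast h4

/-- **Constructibility of the `(R_k)`-locus**, ring form: `A` Noetherian, `B` of finite type. -/
theorem isConstructible_rkLocus (k : ℕ) : IsConstructible (rkLocus A B k) := by
  haveI : Algebra.FinitePresentation A B :=
    (Algebra.FinitePresentation.of_finiteType (R := A) (A := B)).mp inferInstance
  obtain ⟨e₀, he₀⟩ := exists_fibDimN_le A B
  rw [← isConstructible_compl, compl_rkLocus_eq A B k e₀ he₀]
  refine IsConstructible.biUnion (Finset.finite_toSet _) fun e _ => ?_
  exact isConstructible_genSet_inter_open A B _ _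
    (Algebra.isOpen_smoothLocus.isClosed_compl.inter (isClosed_le_fibDimN A B e))
    (isOpen_fibDimN_le A B e) (e - k)

end spec

end Groth.Agent.Lib.Helper24.GRk
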