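import Groth.Agent.Lib.Helper3.EquidimIrr
import Groth.Agent.Lib.Helper3.FibreDimRetro
import Groth.Agent.Lib.Helper5.FibClos4
import Groth.Agent.Lib.Helper5.FibreDimLocal
import Groth.Agent.Lib.Helper24.GRk12

/-!
# Equidimensionality of fibres at a point (helper24), part 1: the dictionary

For `f : X ⟶ S` locally of finite type, the fibre through `x` is equidimensional at `x` (all its
irreducible components through `x` have the same dimension) iff the local fibre dimension
`fibreDimAt f` is constant on the generizations of `x` in its fibre.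
-/

set_option autoImplicit false
universe u

namespace Groth.Agent.Lib.Helper24.FibEq

open AlgebraicGeometry CategoryTheory Topology
  Groth.Agent.Lib.helper3.DimIneq Groth.Agent.Lib.helper3.FTField
  Groth.Agent.Lib.helper3.FibreField Groth.Agent.Lib.helper3.DimFibre
  Groth.Agent.Lib.helper3.EquidimAt Groth.Agent.Lib.helper3.EquidimIrr
  Groth.Agent.Lib.helper3.QFinTop

/-- the points at which the local fibre dimension is constant on the fibre-generizations. -/
def eqSet {X S : Scheme.{u}} (f : X ⟶ S) : Set X :=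
  {x | ∀ w : X, w ⤳ x → f w = f x → FlatMor.fibreDimAt f w = FlatMor.fibreDimAt f x}

variable {X S : Scheme.{u}} (f : X ⟶ S) [LocallyOfFiniteType f]

/-- at a point maximal in its fibre the local fibre dimension is the transcendence degree. -/
theorem fibreDimAt_of_maximal (z : X) (hmax : ∀ t' : X, t' ⤳ z → f t' = f z → t' = z) :
    ∃ N : ℕ, td (f.residueFieldMap z).hom = (N : Cardinal.{u}) ∧
      FlatMor.fibreDimAt f z = (N : WithBot ℕ∞) := by
  obtain ⟨z', N, hsp, hf, -, htd, hd⟩ := exists_maximal_fibre_point f z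
  have : z' = z := hmax z' hsp hf
  subst this
  exact ⟨N, htd, hd⟩

/-- the dimension of the closure of a point of a fibre. -/
theorem dim_closure_fibre (s : S) (ζ : f.fiber s) (N : ℕ)
    (hN : td (f.residueFieldMap (f.fiberι s ζ)).hom = (N : Cardinal.{u})) :
    topologicalKrullDim ↥(closure ({ζ} : Set ↥(f.fiber s))) = (N : WithBot ℕ∞) := by
  letI := fiberOver f s
  haveI : LocallyOfFiniteType ((f.fiber s) ↘ Spec (CommRingCat.of (S.residueField s))) :=
    locallyOfFiniteType_fiber f s
  apply dim_closure_eq_trdeg (S.residueField s) (f.fiber s) ζ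
  change td (Curv2.resMap (S.residueField s) (f.fiber s) ζ) = _
  rw [td_resMap_fiber f s ζ]
  exact hN

omit [LocallyOfFiniteType f] in
/-- a point of the fibre whose closure is an irreducible component gives a fibre-maximal point. -/
theorem maximal_of_closure_mem (s : S) (ζ : f.fiber s)
    (hζ : closure ({ζ} : Set ↥(f.fiber s)) ∈ irreducibleComponents ↥(f.fiber s)) :
    ∀ t' : X, t' ⤳ f.fiberι s ζ → f t' = f (f.fiberι s ζ) → t' = f.fiberι s ζ := by
  intro t' hsp hft
  have hmem : t' ∈ Set.range (f.fiberι s) := by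
    rw [f.range_fiberι s]
    exact hft.trans (fiberι_mem f s ζ)
  obtain ⟨ζ', rfl⟩ := hmem
  have hsp' : ζ' ⤳ ζ := (fiberι_specializes_iff f s ζ' ζ).mp hsp
  rw [eq_of_specializes_of_closure_mem_irreducibleComponents ζ hζ ζ' hsp']

omit [LocallyOfFiniteType f] in
/-- a fibre-maximal point gives an irreducible component of the fibre. -/
theorem closure_mem_of_maximal (s : S) (ζ : f.fiber s)
    (hmax : ∀ t' : X, t' ⤳ f.fiberι s ζ → f t' = f (f.fiberι s ζ) → t' = f.fiberι s ζ) :
    closure ({ζ} : Set ↥(f.fiber s)) ∈ irreducibleComponents ↥(f.fiber s) := by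
  refine closure_mem_irreducibleComponents_of_forall_specializes ζ fun ζ' hsp => ?_
  have h1 : f.fiberι s ζ' ⤳ f.fiberι s ζ := (fiberι_specializes_iff f s ζ' ζ).mpr hsp
  have h2 : f (f.fiberι s ζ') = f (f.fiberι s ζ) := by
    rw [fiberι_mem f s ζ', fiberι_mem f s ζ]
  exact fiberι_injective f s (hmax _ h1 h2)

/-- **the dictionary.** -/
theorem mem_eqSet_iff (x : X) :
    x ∈ eqSet f ↔ ∃ e : ℕ,
      ∀ Z ∈ irreducibleComponents (↥(f.fiber (f.base x)) : Type u), f.asFiber x ∈ Z →
        topologicalKrullDim (↥Z : Type u) = e := by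
  have hιx : f.fiberι (f x) (f.asFiber x) = x := f.fiberι_asFiber x
  constructor
  · intro hx
    obtain ⟨e, he⟩ := exists_nat_fibreDimAt f x
    refine ⟨e, fun Z hZ hxZ => ?_⟩
    have hZc : IsClosed Z := isClosed_of_mem_irreducibleComponents Z hZ
    obtain ⟨ζ, hζ⟩ := QuasiSober.sober hZ.1 hZc
    have hcl : closure ({ζ} : Set ↥(f.fiber (f x))) = Z := hζ.def
    subst hcl
    have hmax := maximal_of_closure_mem f (f x) ζ hZ
    obtain ⟨N, htd, hd⟩ := fibreDimAt_of_maximal f _ hmax
    have hsp : f.fiberι (f x) ζ ⤳ x := by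
      have h1 : ζ ⤳ f.asFiber x := specializes_iff_mem_closure.mpr hxZ
      have h2 := h1.map (f.fiberι (f x)).continuous
      rwa [hιx] at h2
    have hfz : f (f.fiberι (f x) ζ) = f x := fiberι_mem f (f x) ζ
    have h3 := hx _ hsp hfz
    rw [hd, he] at h3
    rw [dim_closure_fibre f (f x) ζ N htd, h3]
  · rintro ⟨e, he⟩
    have key : ∀ w : X, w ⤳ x → f w = f x → FlatMor.fibreDimAt f w = (e : WithBot ℕ∞) := by
      intro w hw hfw
      obtain ⟨z, N, hzw, hfz, hmax, htd, hd⟩ := exists_maximal_fibre_point f w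
      have hzx : z ⤳ x := hzw.trans hw
      have hfzx : f z = f x := hfz.trans hfw
      have hmem : z ∈ Set.range (f.fiberι (f x)) := by
        rw [f.range_fiberι (f x)]
        exact hfzx
      obtain ⟨ζ, rfl⟩ := hmem
      have hcomp := closure_mem_of_maximal f (f x) ζ hmax
      have hxZ : f.asFiber x ∈ closure ({ζ} : Set ↥(f.fiber (f x))) := by
        rw [← specializes_iff_mem_closure]
        rw [← fiberι_specializes_iff f (f x), hιx]
        exact hzx
      have h1 := he _ hcomp hxZ
      rw [dim_closure_fibre f (f x) ζ N htd] at h1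
      rw [hd, h1]
    intro w hw hfw
    rw [key w hw hfw, key x specializes_rfl rfl]

end Groth.Agent.Lib.Helper24.FibEq
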