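import Mathlib
import Groth.Prelude.Def_CAlg
import Groth.Agent.Lib.Helper16.DivSum2
import Groth.Agent.Lib.Helper16.RegDim

/-!
# Geometric `(R_k)` of fibres (helper24), part 1: `(R_k)` of a local ring of a scheme via
generizations

`O_{Z,z}` has `(R_k)` iff `O_{Z,w}` is regular for every generization `w` of `z` with
`dim O_{Z,w} ≤ k`.
-/

set_option autoImplicit false
universe u

namespace Groth.Agent.Lib.Helper24.GRk

open AlgebraicGeometry CategoryTheory Groth.Agent.Lib.helper16.OrdGen
  Groth.Agent.Lib.helper16.DivSum Groth.Agent.Lib.helper16.RegDim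

theorem nonempty_stalk_equiv_localization {Z : Scheme.{u}} {z w : Z} (hw : w ⤳ z) :
    Nonempty (Localization.AtPrime (pOf hw) ≃+* Z.presheaf.stalk w) := by
  letI := (Z.presheaf.stalkSpecializes hw).hom.toAlgebra
  haveI := isLocalization_stalkSpecializes hw
  exact ⟨(IsLocalization.algEquiv (pOf hw).primeCompl (Localization.AtPrime (pOf hw))
    (Z.presheaf.stalk w)).toRingEquiv⟩

theorem isRegularLocalRing_of_eq {R : Type u} [CommRing R] (p q : Ideal R) [p.IsPrime] [q.IsPrime]
    (h : p = q) (hp : IsRegularLocalRing (Localization.AtPrime p)) :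
    IsRegularLocalRing (Localization.AtPrime q) := by
  subst h
  exact hp

theorem hasRk_stalk_iff {Z : Scheme.{u}} (z : Z) (k : ℕ) :
    LocCoh.HasRk k (Z.presheaf.stalk z) ↔
      ∀ w : Z, w ⤳ z → ringKrullDim (Z.presheaf.stalk w) ≤ k →
        IsRegularLocalRing (Z.presheaf.stalk w) := by
  constructor
  · intro h w hw hdim
    have hht : (pOf hw).height ≤ k := by
      rw [ringKrullDim_stalk_eq_height_pOf hw] at hdim
      exact_mod_cast hdim
    haveI := h (pOf hw) hht
    obtain ⟨e⟩ := nonempty_stalk_equiv_localization hw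
    exact IsRegularLocalRing.of_ringEquiv e
  · intro h p hp hht
    have hw : Z.fromSpecStalk z ⟨p, hp⟩ ⤳ z := specializes_fromSpecStalk z _
    have hp' : pOf hw = p := pOf_fromSpecStalk z ⟨p, hp⟩ hw
    have hdim : ringKrullDim (Z.presheaf.stalk (Z.fromSpecStalk z ⟨p, hp⟩)) ≤ k := by
      rw [ringKrullDim_stalk_eq_height_pOf hw, hp']
      exact_mod_cast hht
    haveI := h _ hw hdim
    obtain ⟨e⟩ := nonempty_stalk_equiv_localization hw
    exact isRegularLocalRing_of_eq _ _ hp' (IsRegularLocalRing.of_ringEquiv e.symm)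

end Groth.Agent.Lib.Helper24.GRk
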