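import Mathlib
import Groth.Prelude.Def_CAlg
import Groth.Agent.Lib.Helper24.GRk1
import Groth.Agent.Lib.Helper24.IndQuasiFiniteDim
import Groth.Agent.Lib.Helper24.RkDescent

/-!
# Geometric `(R_k)` of fibres (helper24), part 10: generizations along flat morphisms

For a flat morphism `m : Z' ⟶ Z` of locally Noetherian schemes:
* `ringKrullDim_stalk_le_of_flat`: `dim O_{Z,m w'} ≤ dim O_{Z',w'}`;
* `exists_generization_of_flat`: every generization `w` of `m z'` lifts to a generization `w'` of `z'`
  with `dim O_{Z',w'} = dim O_{Z,w}`;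
* `forall_generization_iff_of_flat`: a condition on the generizations of codimension `≤ k` can be
  tested upstairs or downstairs.
-/

set_option autoImplicit false
universe u

namespace Groth.Agent.Lib.Helper24.GRk

open AlgebraicGeometry CategoryTheory Groth.Agent.Lib.helper16.OrdGen
  Groth.Agent.Lib.helper16.DivSum Groth.Agent.Lib.helper16.RegDim

variable {Z' Z : Scheme.{u}} (m : Z' ⟶ Z) [Flat m]

/-- `dim O_{Z,m w'} ≤ dim O_{Z',w'}` for a flat morphism. -/
theorem ringKrullDim_stalk_le_of_flat (w' : Z') :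
    ringKrullDim (Z.presheaf.stalk (m w')) ≤ ringKrullDim (Z'.presheaf.stalk w') := by
  have hflat : (m.stalkMap w').hom.Flat := Flat.stalkMap _ _
  letI := (m.stalkMap w').hom.toAlgebra
  haveI : Module.Flat (Z.presheaf.stalk (m w')) (Z'.presheaf.stalk w') := hflat
  haveI : IsLocalHom (algebraMap (Z.presheaf.stalk (m w')) (Z'.presheaf.stalk w')) :=
    inferInstanceAs (IsLocalHom (m.stalkMap w').hom)
  haveI : Module.FaithfullyFlat (Z.presheaf.stalk (m w')) (Z'.presheaf.stalk w') :=
    Module.FaithfullyFlat.of_flat_of_isLocalHom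
  exact Groth.Agent.Lib.Helper24.IndQuasiFiniteDim.ringKrullDim_le_of_faithfullyFlat _ _

/-- lifting generizations along a flat morphism without increasing the codimension. -/
theorem exists_generization_of_flat [IsLocallyNoetherian Z'] [IsLocallyNoetherian Z] (z' : Z')
    (w : Z) (hw : w ⤳ m z') :
    ∃ w' : Z', w' ⤳ z' ∧ m w' = w ∧
      ringKrullDim (Z'.presheaf.stalk w') = ringKrullDim (Z.presheaf.stalk w) := by
  have hflat : (m.stalkMap z').hom.Flat := Flat.stalkMap _ _
  letI := (m.stalkMap z').hom.toAlgebra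
  haveI : Module.Flat (Z.presheaf.stalk (m z')) (Z'.presheaf.stalk z') := hflat
  haveI : IsLocalHom (algebraMap (Z.presheaf.stalk (m z')) (Z'.presheaf.stalk z')) :=
    inferInstanceAs (IsLocalHom (m.stalkMap z').hom)
  haveI : Module.FaithfullyFlat (Z.presheaf.stalk (m z')) (Z'.presheaf.stalk z') :=
    Module.FaithfullyFlat.of_flat_of_isLocalHom
  obtain ⟨q, hq, hqp⟩ := Groth.Agent.Lib.Helper24.RkDescent.exists_minimalPrimes_comap_eq
    (Z.presheaf.stalk (m z')) (Z'.presheaf.stalk z') (pOf hw)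
  have hht := Groth.Agent.Lib.Helper24.RkDescent.height_eq_of_minimalPrimes
    (Z.presheaf.stalk (m z')) (Z'.presheaf.stalk z') (pOf hw) q hq hqp
  haveI : q.IsPrime := hq.1.1
  set w' : Z' := Z'.fromSpecStalk z' ⟨q, inferInstance⟩ with hw'def
  have hw' : w' ⤳ z' := specializes_fromSpecStalk z' _
  refine ⟨w', hw', ?_, ?_⟩
  · let Q : ↥(Spec (Z'.presheaf.stalk z')) := (⟨q, inferInstance⟩ : PrimeSpectrum _)
    let P : ↥(Spec (Z.presheaf.stalk (m z'))) := (⟨pOf hw, inferInstance⟩ : PrimeSpectrum _)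
    have h1 : (Spec.map (m.stalkMap z') ≫ Z.fromSpecStalk (m z')) Q =
        (Z'.fromSpecStalk z' ≫ m) Q := by
      rw [Scheme.SpecMap_stalkMap_fromSpecStalk]
    rw [Scheme.Hom.comp_apply, Scheme.Hom.comp_apply] at h1
    have h2 : (Spec.map (m.stalkMap z')) Q = P := PrimeSpectrum.ext hqp
    rw [h2] at h1
    have h3 : Z.fromSpecStalk (m z') P = w := fromSpecStalk_pOf hw
    rw [h3] at h1
    exact h1.symm
  · rw [ringKrullDim_stalk_eq_height_pOf hw', ringKrullDim_stalk_eq_height_pOf hw,
      pOf_fromSpecStalk z' ⟨q, inferInstance⟩ hw']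
    exact congrArg _ hht

/-- a condition on generizations of bounded codimension, tested upstairs or downstairs. -/
theorem forall_generization_iff_of_flat [IsLocallyNoetherian Z'] [IsLocallyNoetherian Z]
    (A : Set Z) (k : ℕ) (z' : Z') :
    (∀ w' : Z', w' ⤳ z' → ringKrullDim (Z'.presheaf.stalk w') ≤ k → m w' ∈ A) ↔
    (∀ w : Z, w ⤳ m z' → ringKrullDim (Z.presheaf.stalk w) ≤ k → w ∈ A) := by
  constructor
  · intro h w hw hdim
    obtain ⟨w', hw', rfl, hd⟩ := exists_generization_of_flat m z' w hw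
    exact h w' hw' (hd ▸ hdim)
  · intro h w' hw' hdim
    exact h (m w') (hw'.map m.continuous) (le_trans (ringKrullDim_stalk_le_of_flat m w') hdim)

end Groth.Agent.Lib.Helper24.GRk
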