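import Mathlib

/-!
# Stalk maps at smooth points (helper24)
-/

set_option autoImplicit false

namespace Groth.Agent.Lib.Helper24.SmoothStalk

open AlgebraicGeometry CategoryTheory

universe u

variable {X Y : Scheme.{u}} (f : X ⟶ Y)

/-- Smooth on a neighbourhood of `x` ⇒ the stalk map at `x` is formally smooth. -/
theorem formallySmooth_stalkMap_of_smooth_nhd [LocallyOfFinitePresentation f] (x : X)
    (hx : ∃ U : X.Opens, x ∈ U ∧ Smooth (U.ι ≫ f)) : (f.stalkMap x).hom.FormallySmooth := by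
  obtain ⟨U, hxU, hU⟩ := hx
  have h1 : (U.ι ≫ f).smoothLocus = ⊤ := Scheme.Hom.smoothLocus_eq_top _
  have h2 := Scheme.Hom.preimage_smoothLocus_eq U.ι f
  rw [h1] at h2
  have h3 : (⟨x, hxU⟩ : U.toScheme) ∈ U.ι ⁻¹ᵁ f.smoothLocus := by rw [h2]; trivial
  exact h3

/-- At a smooth point, the stalk map is flat. -/
theorem flat_stalkMap_of_formallySmooth [LocallyOfFinitePresentation f] (x : X)
    (H : (f.stalkMap x).hom.FormallySmooth) : (f.stalkMap x).hom.Flat := by
  obtain ⟨U, hU, V, hV, hVU, hxV, hφ⟩ := exists_smooth_of_formallySmooth_stalk f x H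
  algebraize [(f.appLE U V hVU).hom]
  haveI : Algebra.Smooth Γ(Y, U) Γ(X, V) := inferInstance
  haveI : Module.Flat Γ(Y, U) Γ(X, V) := inferInstance
  let p := (hU.primeIdealOf ⟨f x, hVU hxV⟩).asIdeal
  let q := (hV.primeIdealOf ⟨x, hxV⟩).asIdeal
  haveI : q.LiesOver p :=
    ⟨congr($(IsAffineOpen.comap_primeIdealOf_appLE U hU V hV hVU hxV).1).symm⟩
  letI := Localization.AtPrime.algebraOfLiesOver p q
  have hfl : Module.Flat (Localization.AtPrime p) (Localization.AtPrime q) := inferInstance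
  rw [← RingHom.flat_algebraMap_iff] at hfl
  exact (RingHom.Flat.respectsIso.arrow_mk_iso_iff
    (IsAffineOpen.arrowStalkMapIso f U hU V hV hVU hxV)).mpr hfl

end Groth.Agent.Lib.Helper24.SmoothStalk
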