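import Mathlib
import Groth.Prelude.Def_CAlg
import Groth.Prelude.Def_Curv2
import Groth.Agent.Lib.Helper24.GRk1
import Groth.Agent.Lib.Helper24.IndQuasiFiniteDim
import Groth.Agent.Lib.Helper24.SopFinite
import Groth.Agent.Lib.Helper17.GeomPoint
import Groth.Agent.Lib.Helper17.RegSmoothSch3
import Groth.Agent.Lib.Helper18.SmoothDescentScheme
import Groth.Agent.Lib.Helper7.GrpPerfect
import Groth.Agent.S1562
import Groth.Agent.S7606
import Groth.Agent.S4991

/-!
# Geometric `(R_k)` of fibres (helper24), part 2: schemes locally of finite type over a field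

For `Z` locally of finite presentation over a field `κ` and `z ∈ Z`: all local rings of `Z_K` at points
over `z` have `(R_n)` (for all finite, or for all, extensions `K/κ`) iff `Z → Spec κ` is smooth at every
generization `w` of `z` with `dim O_{Z,w} ≤ n`.
-/

set_option autoImplicit false
set_option linter.style.haveILetI false
universe u

namespace Groth.Agent.Lib.Helper24.GRk

open AlgebraicGeometry CategoryTheory CategoryTheory.Limits TensorProduct

attribute [local instance] Curv2.stalkAlgebra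

variable (κ : Type u) [Field κ] (Z : Scheme.{u}) [Z.Over (Spec (CommRingCat.of κ))]

/-- `dim O_{Z,π w'} ≤ dim O_{Z_K,w'}` (flatness of the projection). -/
theorem ringKrullDim_stalk_le_bc (K : Type u) [Field K] [Algebra κ K] (w' : ↥(Curv2.bc κ Z K)) :
    ringKrullDim (Z.presheaf.stalk (Curv2.bcFst κ Z K w')) ≤
      ringKrullDim ((Curv2.bc κ Z K).presheaf.stalk w') := by
  have hflat : ((Curv2.bcFst κ Z K).stalkMap w').hom.Flat := Flat.stalkMap _ _
  letI := ((Curv2.bcFst κ Z K).stalkMap w').hom.toAlgebra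
  haveI : Module.Flat (Z.presheaf.stalk (Curv2.bcFst κ Z K w'))
      ((Curv2.bc κ Z K).presheaf.stalk w') := hflat
  haveI : IsLocalHom (algebraMap (Z.presheaf.stalk (Curv2.bcFst κ Z K w'))
      ((Curv2.bc κ Z K).presheaf.stalk w')) :=
    inferInstanceAs (IsLocalHom ((Curv2.bcFst κ Z K).stalkMap w').hom)
  haveI : Module.FaithfullyFlat (Z.presheaf.stalk (Curv2.bcFst κ Z K w'))
      ((Curv2.bc κ Z K).presheaf.stalk w') := Module.FaithfullyFlat.of_flat_of_isLocalHom
  exact Groth.Agent.Lib.Helper24.IndQuasiFiniteDim.ringKrullDim_le_of_faithfullyFlat _ _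

/-- `dim O_{Z_K,w'} ≤ dim O_{Z,π w'}` for `K/κ` algebraic. -/
theorem ringKrullDim_stalk_bc_le (K : Type u) [Field K] [Algebra κ K] [Algebra.IsAlgebraic κ K]
    (w : Z) (w' : ↥(Curv2.bc κ Z K)) (hw' : Curv2.bcFst κ Z K w' = w) :
    ringKrullDim ((Curv2.bc κ Z K).presheaf.stalk w') ≤ ringKrullDim (Z.presheaf.stalk w) := by
  obtain ⟨p, ⟨e⟩⟩ := Groth.Agent.Lib.helper17.GeomPoint.exists_prime κ Z w K w' hw'
  haveI := p.isPrime
  rw [ringKrullDim_eq_of_ringEquiv e, IsLocalization.AtPrime.ringKrullDim_eq_height p.asIdeal]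
  refine le_trans (Ideal.height_le_ringKrullDim_of_ne_top
    (Ideal.IsPrime.ne_top inferInstance)) ?_
  haveI : Algebra.IsIntegral κ K := Algebra.IsAlgebraic.isIntegral
  exact Groth.Agent.Lib.Helper24.SopFinite.ringKrullDim_le_of_isIntegral
    (algebraMap (Z.presheaf.stalk w) ((Z.presheaf.stalk w) ⊗[κ] K))
    (algebraMap_isIntegral_iff.mpr inferInstance)

variable [LocallyOfFinitePresentation (Z ↘ Spec (CommRingCat.of κ))]

/-- smooth points of `Z` give regular points of every `Z_K`. -/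
theorem isRegularLocalRing_stalk_bc_of_mem_smoothLocus (K : Type u) [Field K] [Algebra κ K]
    (w' : ↥(Curv2.bc κ Z K))
    (h : Curv2.bcFst κ Z K w' ∈ (Z ↘ Spec (CommRingCat.of κ)).smoothLocus) :
    IsRegularLocalRing ((Curv2.bc κ Z K).presheaf.stalk w') := by
  have h1 : w' ∈ (Curv2.bcSnd κ Z K).smoothLocus :=
    Groth.Agent.Lib.helper7.GrpPerfect.mem_smoothLocus_pullback
      (Z ↘ Spec (CommRingCat.of κ)) _ w' h
  have h2 := (Groth.Agent.Lib.Helper18.SmoothDescent.exists_smooth_nhd_iff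
    (Curv2.bcSnd κ Z K) w').mpr h1
  rw [Groth.Agent.S4991.result (Curv2.bcSnd κ Z K) w' h2]
  exact Groth.Agent.Lib.helper17.RegSmooth.isRegularLocalRing_stalk_spec_field _

/-- `(ii) ⇒ (i)` for all field extensions. -/
theorem hasRk_stalk_bc_of_smooth (z : Z) (n : ℕ)
    (h : ∀ w : Z, w ⤳ z → ringKrullDim (Z.presheaf.stalk w) ≤ n →
      w ∈ (Z ↘ Spec (CommRingCat.of κ)).smoothLocus)
    (K : Type u) [Field K] [Algebra κ K] (z' : ↥(Curv2.bc κ Z K))
    (hz' : Curv2.bcFst κ Z K z' = z) :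
    LocCoh.HasRk n ((Curv2.bc κ Z K).presheaf.stalk z') := by
  rw [hasRk_stalk_iff]
  intro w' hw' hdim
  refine isRegularLocalRing_stalk_bc_of_mem_smoothLocus κ Z K w' (h _ ?_ ?_)
  · rw [← hz']
    exact hw'.map (Curv2.bcFst κ Z K).continuous
  · exact le_trans (ringKrullDim_stalk_le_bc κ Z K w') hdim

/-- `(i) ⇒ (ii)` using finite purely inseparable extensions only. -/
theorem smooth_of_hasRk_stalk_bc (z : Z) (n : ℕ)
    (h : ∀ (K : Type u) [Field K] [Algebra κ K], Module.Finite κ K →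
      ∀ z' : ↥(Curv2.bc κ Z K), Curv2.bcFst κ Z K z' = z →
        LocCoh.HasRk n ((Curv2.bc κ Z K).presheaf.stalk z'))
    (w : Z) (hw : w ⤳ z) (hdim : ringKrullDim (Z.presheaf.stalk w) ≤ n) :
    w ∈ (Z ↘ Spec (CommRingCat.of κ)).smoothLocus := by
  haveI : IsLocallyNoetherian Z :=
    LocallyOfFiniteType.isLocallyNoetherian (Z ↘ Spec (CommRingCat.of κ))
  refine (Groth.Agent.S1562.result κ Z w).mp ((Groth.Agent.S7606.result κ Z w).1.mpr ?_)
  intro K _ _ hfin _ w' hw'
  haveI : Algebra.IsAlgebraic κ K := Algebra.IsAlgebraic.of_finite κ K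
  -- the projection is a closed map
  haveI : IsFinite (Spec.map (CommRingCat.ofHom (algebraMap κ K))) := by
    rw [IsFinite.SpecMap_iff]
    exact (RingHom.finite_algebraMap).mpr hfin
  have hcl : IsClosedMap (Curv2.bcFst κ Z K) := (Curv2.bcFst κ Z K).isClosedMap
  obtain ⟨z', hz'w, hz'⟩ := hcl.specializingMap (show (Curv2.bcFst κ Z K) w' ⤳ z from hw' ▸ hw)
  have hRk := h K hfin z' hz'
  rw [hasRk_stalk_iff] at hRk
  exact hRk w' hz'w (le_trans (ringKrullDim_stalk_bc_le κ Z K w w' hw') hdim)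

/-- the characterization, with finite extensions. -/
theorem geomRk_finite_iff (z : Z) (n : ℕ) :
    (∀ (K : Type u) [Field K] [Algebra κ K], Module.Finite κ K →
      ∀ z' : ↥(Curv2.bc κ Z K), Curv2.bcFst κ Z K z' = z →
        LocCoh.HasRk n ((Curv2.bc κ Z K).presheaf.stalk z')) ↔
    (∀ w : Z, w ⤳ z → ringKrullDim (Z.presheaf.stalk w) ≤ n →
      w ∈ (Z ↘ Spec (CommRingCat.of κ)).smoothLocus) :=
  ⟨fun h w hw hdim => smooth_of_hasRk_stalk_bc κ Z z n h w hw hdim,
    fun h K _ _ _ z' hz' => hasRk_stalk_bc_of_smooth κ Z z n h K z' hz'⟩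

/-- the characterization, with all extensions. -/
theorem geomRk_all_iff (z : Z) (n : ℕ) :
    (∀ (K : Type u) [Field K] [Algebra κ K],
      ∀ z' : ↥(Curv2.bc κ Z K), Curv2.bcFst κ Z K z' = z →
        LocCoh.HasRk n ((Curv2.bc κ Z K).presheaf.stalk z')) ↔
    (∀ w : Z, w ⤳ z → ringKrullDim (Z.presheaf.stalk w) ≤ n →
      w ∈ (Z ↘ Spec (CommRingCat.of κ)).smoothLocus) :=
  ⟨fun h w hw hdim => smooth_of_hasRk_stalk_bc κ Z z n (fun K _ _ _ => h K) w hw hdim,
    fun h K _ _ z' hz' => hasRk_stalk_bc_of_smooth κ Z z n h K z' hz'⟩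

end Groth.Agent.Lib.Helper24.GRk
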