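import Mathlib
import Groth.Prelude.Def_CAlg
import Groth.Prelude.Def_FDesc
import Groth.Agent.Lib.Helper24.GRk2
import Groth.Agent.Lib.Helper18.RelSmoothFiberScheme

/-!
# Geometric `(R_k)` of fibres (helper24), part 3: the fibres of a morphism

For `f : X ⟶ Y` locally of finite presentation and flat at the generizations of `x`: the fibre through `x`
is geometrically `(R_n)` at `x` iff `f` is smooth at every generization `y` of `x` in the fibre
whose fibre local ring has dimension `≤ n`.
-/

set_option autoImplicit false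
set_option linter.style.haveILetI false
universe u

namespace Groth.Agent.Lib.Helper24.GRk

open AlgebraicGeometry CategoryTheory CategoryTheory.Limits

variable {X Y : Scheme.{u}} (f : X ⟶ Y)

/-- transport of the fibre local ring along `f y = s`. -/
theorem nonempty_stalk_fiber_equiv (s : Y) (y : X) (hs : f y = s) (w : f.fiber s)
    (hw : f.fiberι s w = y) :
    Nonempty ((f.fiber s).presheaf.stalk w ≃+* (f.fiber (f y)).presheaf.stalk (f.asFiber y)) := by
  subst hs
  have : w = f.asFiber y :=
    (f.fiberι (f y)).isEmbedding.injective (hw.trans (f.fiberι_asFiber y).symm)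
  subst this
  exact ⟨RingEquiv.refl _⟩

theorem apply_fiberι (s : Y) (w : f.fiber s) : f (f.fiberι s w) = s := by
  have : f.fiberι s w ∈ Set.range (f.fiberι s) := ⟨w, rfl⟩
  rw [f.range_fiberι s] at this
  exact this

variable [LocallyOfFinitePresentation f]

instance locallyOfFinitePresentation_fiberToSpecResidueField (s : Y) :
    LocallyOfFinitePresentation (f.fiberToSpecResidueField s) :=
  inferInstanceAs (LocallyOfFinitePresentation (pullback.snd f (Y.fromSpecResidueField s)))

theorem mem_smoothLocus_fiber_iff (s : Y) (w : f.fiber s)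
    (hflat : (f.stalkMap (f.fiberι s w)).hom.Flat) :
    w ∈ (f.fiberToSpecResidueField s).smoothLocus ↔ f.fiberι s w ∈ f.smoothLocus := by
  constructor
  · intro h
    rw [Scheme.Hom.mem_smoothLocus] at h ⊢
    have H₁ : IsPullback (Y.fromSpecResidueField s) (𝟙 _) (𝟙 Y) (Y.fromSpecResidueField s) :=
      IsPullback.id_vert _
    have H₂ : IsPullback (f.fiberι s) (f.fiberToSpecResidueField s) f
        (Y.fromSpecResidueField s) := IsPullback.of_hasPullback f _
    have hflat' : ((f ≫ 𝟙 Y).stalkMap (f.fiberι s w)).hom.Flat := by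
      have : f ≫ 𝟙 Y = f := Category.comp_id f
      rw [this]
      exact hflat
    exact Groth.Agent.Lib.Helper18.RelSmoothFiber.formallySmooth_stalk_of_isPullback_fiber_rel
      (K := Y.residueField s) H₁ H₂ w hflat' h
  · intro h
    exact Groth.Agent.Lib.helper7.GrpPerfect.mem_smoothLocus_pullback f
      (Y.fromSpecResidueField s) w h

/-- the smoothness condition on the fibre, transported to `X`. -/
theorem fiber_smooth_cond_iff (x : X) (n : ℕ)
    (hflat : ∀ y : X, y ⤳ x → (f.stalkMap y).hom.Flat) :
    (∀ w : f.fiber (f.base x), w ⤳ f.asFiber x →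
      ringKrullDim ((f.fiber (f.base x)).presheaf.stalk w) ≤ n →
        w ∈ (f.fiberToSpecResidueField (f.base x)).smoothLocus) ↔
    (∀ y : X, y ⤳ x → f.base y = f.base x →
      ringKrullDim ((f.fiber (f.base y)).presheaf.stalk (f.asFiber y)) ≤ n →
        y ∈ f.smoothLocus) := by
  have hsp : ∀ w : f.fiber (f.base x), w ⤳ f.asFiber x ↔ f.fiberι (f.base x) w ⤳ x := by
    intro w
    rw [← (f.fiberι (f.base x)).isEmbedding.isInducing.specializes_iff, f.fiberι_asFiber x]
  constructor
  · intro h y hy hfy hdim
    obtain ⟨w, hw⟩ : y ∈ Set.range (f.fiberι (f.base x)) := by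
      rw [f.range_fiberι]
      exact hfy
    have hwx : w ⤳ f.asFiber x := (hsp w).mpr (hw ▸ hy)
    obtain ⟨e⟩ := nonempty_stalk_fiber_equiv f (f.base x) y hfy w hw
    have h1 := h w hwx (by rw [ringKrullDim_eq_of_ringEquiv e]; exact hdim)
    rw [mem_smoothLocus_fiber_iff f _ w (hw ▸ hflat y hy), hw] at h1
    exact h1
  · intro h w hw hdim
    have hy : f.fiberι (f.base x) w ⤳ x := (hsp w).mp hw
    rw [mem_smoothLocus_fiber_iff f _ w (hflat _ hy)]
    have hfy : f.base (f.fiberι (f.base x) w) = f.base x := apply_fiberι f _ w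
    obtain ⟨e⟩ := nonempty_stalk_fiber_equiv f (f.base x) _ hfy w rfl
    exact h _ hy hfy (by rw [← ringKrullDim_eq_of_ringEquiv e]; exact hdim)

/-- **Geometric `(R_n)` of the fibre at a point** (finite extensions), in terms of the smooth locus
of `f`. -/
theorem geomRk_fiber_finite_iff (x : X) (n : ℕ)
    (hflat : ∀ y : X, y ⤳ x → (f.stalkMap y).hom.Flat) :
    (∀ (K : Type u) [Field K]
        [Algebra (IsLocalRing.ResidueField (Y.presheaf.stalk (f.base x))) K],
        Module.Finite (IsLocalRing.ResidueField (Y.presheaf.stalk (f.base x))) K →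
        ∀ x' : ↥(FBase.bc (f.fiberToSpecResidueField (f.base x)) K),
          (FBase.bcπ (f.fiberToSpecResidueField (f.base x)) K).base x' = f.asFiber x →
          LocCoh.HasRk n ((FBase.bc (f.fiberToSpecResidueField (f.base x)) K).presheaf.stalk x')) ↔
    (∀ y : X, y ⤳ x → f.base y = f.base x →
      ringKrullDim ((f.fiber (f.base y)).presheaf.stalk (f.asFiber y)) ≤ n →
        y ∈ f.smoothLocus) := by
  rw [← fiber_smooth_cond_iff f x n hflat]
  letI : (f.fiber (f.base x)).Over
      (Spec (CommRingCat.of (IsLocalRing.ResidueField (Y.presheaf.stalk (f.base x))))) :=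
    ⟨f.fiberToSpecResidueField (f.base x)⟩
  haveI : LocallyOfFinitePresentation ((f.fiber (f.base x)) ↘
      (Spec (CommRingCat.of (IsLocalRing.ResidueField (Y.presheaf.stalk (f.base x)))))) :=
    locallyOfFinitePresentation_fiberToSpecResidueField f (f.base x)
  exact geomRk_finite_iff (IsLocalRing.ResidueField (Y.presheaf.stalk (f.base x)))
    (f.fiber (f.base x)) (f.asFiber x) n

/-- **Geometric `(R_n)` of the fibre at a point** (all extensions), in terms of the smooth locus
of `f`. -/
theorem geomRk_fiber_all_iff (x : X) (n : ℕ)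
    (hflat : ∀ y : X, y ⤳ x → (f.stalkMap y).hom.Flat) :
    (∀ (K : Type u) [Field K]
        [Algebra (IsLocalRing.ResidueField (Y.presheaf.stalk (f.base x))) K]
        (x' : ↥(FBase.bc (f.fiberToSpecResidueField (f.base x)) K)),
          (FBase.bcπ (f.fiberToSpecResidueField (f.base x)) K).base x' = f.asFiber x →
          LocCoh.HasRk n ((FBase.bc (f.fiberToSpecResidueField (f.base x)) K).presheaf.stalk x')) ↔
    (∀ y : X, y ⤳ x → f.base y = f.base x →
      ringKrullDim ((f.fiber (f.base y)).presheaf.stalk (f.asFiber y)) ≤ n →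
        y ∈ f.smoothLocus) := by
  rw [← fiber_smooth_cond_iff f x n hflat]
  letI : (f.fiber (f.base x)).Over
      (Spec (CommRingCat.of (IsLocalRing.ResidueField (Y.presheaf.stalk (f.base x))))) :=
    ⟨f.fiberToSpecResidueField (f.base x)⟩
  haveI : LocallyOfFinitePresentation ((f.fiber (f.base x)) ↘
      (Spec (CommRingCat.of (IsLocalRing.ResidueField (Y.presheaf.stalk (f.base x)))))) :=
    locallyOfFinitePresentation_fiberToSpecResidueField f (f.base x)
  exact geomRk_all_iff (IsLocalRing.ResidueField (Y.presheaf.stalk (f.base x)))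
    (f.fiber (f.base x)) (f.asFiber x) n

end Groth.Agent.Lib.Helper24.GRk
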