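import Groth.Agent.Lib.Helper5.FibLocus2
import Groth.Agent.Lib.Helper24.GRk10
import Groth.Agent.Lib.Helper24.GRk3

/-!
# Geometric `(R_k)` of fibres (helper24), part 11: the locus `fibGRk`, base change and open
compatibility

`fibGRk k f` is the set of `x` such that the fibre of `f` through `x` is smooth over the residue field
at every generization (in the fibre) of codimension `≤ k`.  It is compatible with arbitrary base change
and with open immersions into the source (in the sense of helper5's `FibLocus` framework).
-/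

set_option autoImplicit false
set_option backward.isDefEq.respectTransparency false
universe u
open CategoryTheory CategoryTheory.Limits AlgebraicGeometry Topology TopologicalSpace

namespace Groth.Agent.Lib.Helper24.GRk

open Groth.Agent.Lib.helper5.FibLocus Groth.Agent.Lib.helper5.ConsFibre
  Groth.Agent.Lib.helper5.ConsSep
  Groth.Agent.Lib.Helper18.SmoothFiber Groth.Agent.Lib.Helper18.SmoothDescent

/-- the set of points `x` of `X` such that the fibre of `f` through `x` is smooth at all generizations
of `x` of codimension `≤ k` in the fibre. -/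
def fibGRk (k : ℕ) ⦃X S : Scheme.{u}⦄ (f : X ⟶ S) : Set X :=
  {x | ∀ w : f.fiber (f x), w ⤳ f.asFiber x →
    ringKrullDim ((f.fiber (f x)).presheaf.stalk w) ≤ k →
      ((f.fiberToSpecResidueField (f x)).stalkMap w).hom.FormallySmooth}

theorem mem_fibGRk_iff_of_eq (k : ℕ) {X S : Scheme.{u}} (f : X ⟶ S) {x : X} (s : S) (z : f.fiber s)
    (hz : f.fiberι s z = x) :
    x ∈ fibGRk k f ↔ ∀ w : f.fiber s, w ⤳ z →
      ringKrullDim ((f.fiber s).presheaf.stalk w) ≤ k →
        ((f.fiberToSpecResidueField s).stalkMap w).hom.FormallySmooth := by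
  have hs : f x = s := by
    have : f.fiberι s z ∈ f ⁻¹' {s} := by rw [← f.range_fiberι s]; exact ⟨z, rfl⟩
    rw [hz] at this; exact this
  subst hs
  have hz' : z = f.asFiber x :=
    (f.fiberι (f x)).isEmbedding.injective (by rw [hz, f.fiberι_asFiber])
  subst hz'
  rfl

theorem isLocallyNoetherian_fiber {X S : Scheme.{u}} (f : X ⟶ S) [LocallyOfFinitePresentation f]
    (s : S) : IsLocallyNoetherian (f.fiber s) := by
  haveI : LocallyOfFinitePresentation (f.fiberToSpecResidueField s) :=
    MorphismProperty.pullback_snd _ _ inferInstance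
  exact LocallyOfFiniteType.isLocallyNoetherian (f.fiberToSpecResidueField s)

theorem baseChangeCompat_fibGRk (k : ℕ) : BaseChangeCompat.{u} (fibGRk k) := by
  intro P X S S' a b f g H hf
  haveI := hf
  haveI : LocallyOfFinitePresentation b :=
    MorphismProperty.of_isPullback (P := @LocallyOfFinitePresentation) H hf
  ext x'
  obtain ⟨m, sq, hm⟩ : ∃ m, IsPullback m (b.fiberToSpecResidueField (b x'))
      (f.fiberToSpecResidueField (g (b x'))) (Spec.map (g.residueFieldMap (b x'))) ∧
      m ≫ f.fiberι (g (b x')) = b.fiberι (b x') ≫ a :=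
    ⟨_, isPullback_fiberToSpecResidueField_of_isPullback H (b x'), by
      unfold Scheme.Hom.fiberι; exact pullback.lift_fst _ _ _⟩
  have hpt : f.fiberι (g (b x')) (m (b.asFiber x')) = a x' := by
    have h1 : (m ≫ f.fiberι (g (b x'))) (b.asFiber x') = (b.fiberι (b x') ≫ a) (b.asFiber x') := by
      rw [hm]
    rw [Scheme.Hom.comp_apply, Scheme.Hom.comp_apply, b.fiberι_asFiber] at h1
    exact h1
  rw [Set.mem_preimage, mem_fibGRk_iff_of_eq k f (g (b x')) _ hpt,
    mem_fibGRk_iff_of_eq k b (b x') (b.asFiber x') (b.fiberι_asFiber x')]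
  haveI : LocallyOfFinitePresentation (f.fiberToSpecResidueField (g (b x'))) :=
    MorphismProperty.pullback_snd _ _ hf
  have hflatK : Flat (Spec.map (g.residueFieldMap (b x'))) := by
    rw [HasRingHomProperty.Spec_iff (P := @Flat)]
    unfold RingHom.Flat
    infer_instance
  haveI : Flat m := MorphismProperty.of_isPullback (P := @Flat) sq.flip hflatK
  haveI := isLocallyNoetherian_fiber f (g (b x'))
  haveI := isLocallyNoetherian_fiber b (b x')
  have key := forall_generization_iff_of_flat m
    {w | ((f.fiberToSpecResidueField (g (b x'))).stalkMap w).hom.FormallySmooth} k (b.asFiber x')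
  have hsm : ∀ w' : b.fiber (b x'),
      ((b.fiberToSpecResidueField (b x')).stalkMap w').hom.FormallySmooth ↔
        ((f.fiberToSpecResidueField (g (b x'))).stalkMap (m w')).hom.FormallySmooth := by
    intro w'
    constructor
    · intro h
      exact formallySmooth_stalk_descent_of_isPullback sq w' (Flat.stalkMap _ _) h
    · intro h
      exact formallySmooth_stalk_baseChange_of_isPullback sq w' h
  refine Iff.trans ?_ key
  constructor
  · intro h w' hw' hdim
    exact (hsm w').mp (h w' hw' hdim)
  · intro h w' hw' hdim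
    exact (hsm w').mpr (h w' hw' hdim)

theorem openCompat_fibGRk (k : ℕ) : OpenCompat.{u} (fibGRk k) := by
  intro U X S j f hj hf
  haveI := hj; haveI := hf
  ext u
  set s : S := (j ≫ f) u with hs
  -- the map between the fibres
  let κ : (j ≫ f).fiber s ⟶ f.fiber s :=
    pullback.map (j ≫ f) (S.fromSpecResidueField s) f (S.fromSpecResidueField s) j (𝟙 _) (𝟙 _)
      (by simp) (by simp)
  have hk1 : κ ≫ f.fiberι s = (j ≫ f).fiberι s ≫ j := by
    unfold Scheme.Hom.fiberι; exact pullback.lift_fst _ _ _
  have hk2 : κ ≫ f.fiberToSpecResidueField s = (j ≫ f).fiberToSpecResidueField s := by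
    unfold Scheme.Hom.fiberToSpecResidueField
    rw [pullback.lift_snd, Category.comp_id]
  have sqk : IsPullback ((j ≫ f).fiberι s) κ j (f.fiberι s) := by
    refine IsPullback.of_bot ?_ hk1.symm (IsPullback.of_hasPullback f (S.fromSpecResidueField s))
    have h := IsPullback.of_hasPullback (j ≫ f) (S.fromSpecResidueField s)
    have e : κ ≫ pullback.snd f (S.fromSpecResidueField s) =
        pullback.snd (j ≫ f) (S.fromSpecResidueField s) := hk2
    rw [e]
    exact h
  haveI : IsOpenImmersion κ := MorphismProperty.of_isPullback (P := @IsOpenImmersion) sqk hj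
  haveI : LocallyOfFinitePresentation (f.fiberToSpecResidueField s) :=
    MorphismProperty.pullback_snd _ _ hf
  haveI : LocallyOfFinitePresentation (j ≫ f) := inferInstance
  have hpt : f.fiberι s (κ ((j ≫ f).asFiber u)) = j u := by
    rw [← Scheme.Hom.comp_apply, hk1, Scheme.Hom.comp_apply, (j ≫ f).fiberι_asFiber]
  rw [Set.mem_preimage, mem_fibGRk_iff_of_eq k f s _ hpt,
    mem_fibGRk_iff_of_eq k (j ≫ f) s ((j ≫ f).asFiber u) ((j ≫ f).fiberι_asFiber u)]
  haveI := isLocallyNoetherian_fiber f s
  haveI := isLocallyNoetherian_fiber (j ≫ f) s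
  have key := forall_generization_iff_of_flat κ
    {w | ((f.fiberToSpecResidueField s).stalkMap w).hom.FormallySmooth} k ((j ≫ f).asFiber u)
  have hsm : ∀ w' : (j ≫ f).fiber s,
      (((j ≫ f).fiberToSpecResidueField s).stalkMap w').hom.FormallySmooth ↔
        ((f.fiberToSpecResidueField s).stalkMap (κ w')).hom.FormallySmooth := by
    intro w'
    have h1 := Scheme.Hom.preimage_smoothLocus_eq κ (f.fiberToSpecResidueField s)
    have h2 : (w' ∈ κ ⁻¹ᵁ (f.fiberToSpecResidueField s).smoothLocus) ↔
        (w' ∈ (κ ≫ f.fiberToSpecResidueField s).smoothLocus) := by rw [h1]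
    rw [Scheme.Hom.mem_preimage, Scheme.Hom.mem_smoothLocus, Scheme.Hom.mem_smoothLocus] at h2
    rw [h2]
    have : ∀ (φ ψ : (j ≫ f).fiber s ⟶ Spec (S.residueField s)) (h : φ = ψ) (z : (j ≫ f).fiber s),
        (φ.stalkMap z).hom.FormallySmooth ↔ (ψ.stalkMap z).hom.FormallySmooth := by
      intro φ ψ h z; subst h; rfl
    exact (this _ _ hk2 _).symm
  refine Iff.trans ?_ key
  constructor
  · intro h w' hw' hdim
    exact (hsm w').mp (h w' hw' hdim)
  · intro h w' hw' hdim
    exact (hsm w').mpr (h w' hw' hdim)

end Groth.Agent.Lib.Helper24.GRk
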