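import Groth.Agent.Lib.Helper24.FibEq1
import Groth.Agent.Lib.Helper24.GRk11
import Groth.Agent.Lib.Helper5.FibClos3

/-!
# Equidimensionality of fibres at a point (helper24), part 2: local constructibility

EGA IV 9.9.1-type statement: for `f` locally of finite presentation, the set of points at which the
fibre is equidimensional is locally constructible.
-/

set_option autoImplicit false
universe u

namespace Groth.Agent.Lib.Helper24.FibEq

open AlgebraicGeometry CategoryTheory Topology TopologicalSpace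
  Groth.Agent.Lib.helper3.DimFibre Groth.Agent.Lib.helper3.QFinTop
  Groth.Agent.Lib.helper5.FibClos

/-- the fibrewise closure of an open set consists of the specializations, in their fibre, of its
points. -/
theorem mem_fibClosure_of_isOpen {X S : Scheme.{u}} (g : X ⟶ S) [LocallyOfFinitePresentation g]
    (O : Set X) (hO : IsOpen O) (x : X) :
    x ∈ fibClosure g O ↔ ∃ w ∈ O, w ⤳ x ∧ g w = g x := by
  constructor
  · intro hx
    have hx' : x ∈ closure (O ∩ g ⁻¹' {g x}) := hx
    set s := g x with hs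
    have hιx : g.fiberι s (g.asFiber x) = x := g.fiberι_asFiber x
    set A : Set ↥(g.fiber s) := g.fiberι s ⁻¹' O with hA
    have hAo : IsOpen A := hO.preimage (g.fiberι s).continuous
    have himg : g.fiberι s '' A = O ∩ g ⁻¹' {s} := by
      rw [hA, Set.image_preimage_eq_inter_range, g.range_fiberι s]
    have hxA : g.asFiber x ∈ closure A := by
      rw [(g.fiberι s).isEmbedding.isInducing.closure_eq_preimage_closure_image, Set.mem_preimage,
        himg, hιx]
      exact hx'
    haveI := Groth.Agent.Lib.Helper24.GRk.isLocallyNoetherian_fiber g s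
    obtain ⟨W, hW, hxW, -⟩ :=
      exists_isAffineOpen_mem_and_subset (x := g.asFiber x) (U := ⊤) trivial
    haveI : IsNoetherianRing Γ(g.fiber s, W) := IsLocallyNoetherian.component_noetherian ⟨W, hW⟩
    haveI : NoetherianSpace ↥W := noetherianSpace_of_isAffineOpen W hW
    haveI : QuasiSober ↥W := W.isOpen.isOpenEmbedding_subtypeVal.quasiSober
    have hcl : (⟨g.asFiber x, hxW⟩ : ↥W) ∈
        closure ((Set.univ : Set ↥W) ∩ (Subtype.val ⁻¹' A) ∩ (fun _ : ↥W => ()) ⁻¹'
          {()}) := by
      have h1 : (Set.univ : Set ↥W) ∩ (Subtype.val ⁻¹' A) ∩ (fun _ : ↥W => ()) ⁻¹'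
          {()} = Subtype.val ⁻¹' A := by
        ext t
        simp
      have h2 : Subtype.val '' (Subtype.val ⁻¹' A : Set ↥W) = (W : Set ↥(g.fiber s)) ∩ A := by
        ext y
        constructor
        · rintro ⟨⟨y, hy⟩, hyA, rfl⟩
          exact ⟨hy, hyA⟩
        · rintro ⟨hy, hyA⟩
          exact ⟨⟨y, hy⟩, hyA, rfl⟩
      rw [h1, closure_subtype, h2]
      exact W.isOpen.inter_closure ⟨hxW, hxA⟩
    obtain ⟨t, ⟨-, htA⟩, -, hsp⟩ :=
      Groth.Agent.Lib.Helper24.GRk.exists_specializes_of_mem_closure_fibre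
        (fun _ : ↥W => ()) continuous_const Set.univ (Subtype.val ⁻¹' A) isClosed_univ
        (hAo.preimage continuous_subtype_val) () _ hcl
    have hsp' : t.1 ⤳ g.asFiber x := hsp.map continuous_subtype_val
    refine ⟨g.fiberι s t.1, htA, ?_, fiberι_mem g s t.1⟩
    have := hsp'.map (g.fiberι s).continuous
    rwa [hιx] at this
  · rintro ⟨w, hwO, hsp, hgw⟩
    have hsub : ({w} : Set X) ⊆ O ∩ g ⁻¹' {g x} := by
      rintro _ rfl
      exact ⟨hwO, hgw⟩
    exact closure_mono hsub hsp.mem_closure

section qc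

variable {X S : Scheme.{u}} (g : X ⟶ S) [LocallyOfFinitePresentation g]

/-- the local fibre dimension does not increase under generization. -/
theorem fibreDimAt_le_of_specializes {w x : X} (h : w ⤳ x) :
    FlatMor.fibreDimAt g w ≤ FlatMor.fibreDimAt g x := by
  obtain ⟨n, hn⟩ := exists_nat_fibreDimAt g x
  rw [hn]
  exact fibreDimAt_le_of_specializes_aux g x w n (Groth.Agent.S0402.result g n) h hn.le

theorem isLocallyConstructible_fibreDimAt_le (n : ℕ) :
    IsLocallyConstructible {x : X | FlatMor.fibreDimAt g x ≤ (n : WithBot ℕ∞)} :=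
  IsRetrocompact.isLocallyConstructible (Groth.Agent.S0402.result g n)
    (Groth.Agent.Lib.helper3.FibreDimRetro.isRetrocompact_fibreDimAt_le g n)

/-- the complement of `eqSet` as a union. -/
theorem compl_eqSet_eq :
    (eqSet g)ᶜ = ⋃ m : ℕ, ({x : X | FlatMor.fibreDimAt g x ≤ (m : WithBot ℕ∞)}ᶜ ∩
      fibClosure g {x : X | FlatMor.fibreDimAt g x ≤ (m : WithBot ℕ∞)}) := by
  ext x
  simp only [Set.mem_compl_iff, Set.mem_iUnion, Set.mem_inter_iff, Set.mem_ofPred_eq]
  constructor
  · intro hx
    have hx' : ¬ ∀ w : X, w ⤳ x → g w = g x →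
        FlatMor.fibreDimAt g w = FlatMor.fibreDimAt g x := hx
    push Not at hx'
    obtain ⟨w, hw, hgw, hne⟩ := hx'
    obtain ⟨m, hm⟩ := exists_nat_fibreDimAt g w
    have hle := fibreDimAt_le_of_specializes g hw
    refine ⟨m, ?_, ?_⟩
    · intro hxm
      exact hne (le_antisymm hle (hm ▸ hxm))
    · rw [mem_fibClosure_of_isOpen g _ (Groth.Agent.S0402.result g m)]
      exact ⟨w, hm.le, hw, hgw⟩
  · rintro ⟨m, hxm, hcl⟩ hx
    rw [mem_fibClosure_of_isOpen g _ (Groth.Agent.S0402.result g m)] at hcl
    obtain ⟨w, hwm, hw, hgw⟩ := hcl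
    have := hx w hw hgw
    apply hxm
    rw [← this]
    exact hwm

variable [QuasiCompact g] [QuasiSeparated g]

/-- the finitely presented case with bounded fibre dimension. -/
theorem isLocallyConstructible_eqSet_of_bounded (N : ℕ)
    (hN : ∀ x : X, FlatMor.fibreDimAt g x ≤ (N : WithBot ℕ∞)) :
    IsLocallyConstructible (eqSet g) := by
  have h1 : (eqSet g)ᶜ = ⋃ m ∈ (Finset.range N : Set ℕ),
      ({x : X | FlatMor.fibreDimAt g x ≤ (m : WithBot ℕ∞)}ᶜ ∩
        fibClosure g {x : X | FlatMor.fibreDimAt g x ≤ (m : WithBot ℕ∞)}) := by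
    rw [compl_eqSet_eq]
    ext x
    simp only [Set.mem_iUnion, Set.mem_inter_iff, Set.mem_compl_iff, Set.mem_ofPred_eq,
      Finset.coe_range, Set.mem_Iio, exists_prop]
    constructor
    · rintro ⟨m, h1, h2⟩
      refine ⟨m, ?_, h1, h2⟩
      by_contra hmN
      push Not at hmN
      exact h1 (le_trans (hN x) (by exact_mod_cast hmN))
    · rintro ⟨m, -, h1, h2⟩
      exact ⟨m, h1, h2⟩
  have h2 : IsLocallyConstructible (eqSet g)ᶜ := by
    rw [h1]
    refine IsLocallyConstructible.biUnion (Finset.range N).finite_toSet fun m _ => ?_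
    exact (isLocallyConstructible_compl (isLocallyConstructible_fibreDimAt_le g m)).inter
      (isLocallyConstructible_fibClosure g _ (isLocallyConstructible_fibreDimAt_le g m))
  have h3 := isLocallyConstructible_compl h2
  rwa [compl_compl] at h3

/-- the finitely presented case over a quasi-compact source. -/
theorem isLocallyConstructible_eqSet_of_compactSpace [CompactSpace X] :
    IsLocallyConstructible (eqSet g) := by
  have hcov : (Set.univ : Set X) ⊆ ⋃ n : ℕ, {x : X | FlatMor.fibreDimAt g x ≤ (n : WithBot ℕ∞)} := by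
    intro x _
    obtain ⟨n, hn⟩ := exists_nat_fibreDimAt g x
    exact Set.mem_iUnion.mpr ⟨n, hn.le⟩
  obtain ⟨t, ht⟩ := isCompact_univ.elim_finite_subcover _
    (fun n => Groth.Agent.S0402.result g n) hcov
  refine isLocallyConstructible_eqSet_of_bounded g (t.sup id) fun x => ?_
  obtain ⟨n, hn, hxn⟩ := Set.mem_iUnion₂.mp (ht (Set.mem_univ x))
  refine le_trans hxn ?_
  have : n ≤ t.sup id := Finset.le_sup (f := id) hn
  exact_mod_cast this

end qc

end Groth.Agent.Lib.Helper24.FibEq
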