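import Groth.Agent.Lib.Helper24.FibEq2

/-!
# Equidimensionality of fibres at a point (helper24), part 3: the general case

EGA IV 9.9.1-type statement: for `f` locally of finite presentation, the set of points at which the
fibre is equidimensional is locally constructible.
-/

set_option autoImplicit false
universe u

namespace Groth.Agent.Lib.Helper24.FibEq

open AlgebraicGeometry CategoryTheory Topology TopologicalSpace

/-- `eqSet` is compatible with restriction to opens of source and target. -/
theorem eqSet_resLE {X S : Scheme.{u}} (f : X ⟶ S) (V : S.Opens) (U : X.Opens)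
    (e : U ≤ f ⁻¹ᵁ V) : eqSet (f.resLE V U e) = U.ι ⁻¹' eqSet f := by
  have hfac : f.resLE V U e ≫ V.ι = U.ι ≫ f := f.resLE_comp_ι e
  have hd : ∀ u : U.toScheme,
      FlatMor.fibreDimAt (f.resLE V U e) u = FlatMor.fibreDimAt f (U.ι u) :=
    fun u => Groth.Agent.Lib.helper5.FibreDimLocal.fibreDimAt_eq_of_comm U.ι V.ι (f.resLE V U e) f
      hfac.symm U.ι.isOpenEmbedding V.ι.isOpenEmbedding.injective u
  have h1 : ∀ v : U.toScheme, V.ι ((f.resLE V U e) v) = f (U.ι v) := fun v => by
    have := congr(($hfac) v)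
    rwa [Scheme.Hom.comp_apply, Scheme.Hom.comp_apply] at this
  have hg : ∀ u u' : U.toScheme,
      (f.resLE V U e) u' = (f.resLE V U e) u ↔ f (U.ι u') = f (U.ι u) := by
    intro u u'
    constructor
    · intro h
      rw [← h1, ← h1, h]
    · intro h
      apply V.ι.isOpenEmbedding.injective
      rw [h1, h1, h]
  ext u
  simp only [eqSet, Set.mem_ofPred_eq, Set.mem_preimage]
  constructor
  · intro hu w hw hfw
    have hwU : w ∈ U := hw.mem_open U.isOpen u.2
    obtain ⟨w', rfl⟩ : ∃ w' : U.toScheme, U.ι w' = w := ⟨⟨w, hwU⟩, rfl⟩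
    have hsp : w' ⤳ u := U.ι.isOpenEmbedding.isInducing.specializes_iff.mp hw
    have h2 := hu w' hsp ((hg u w').mpr hfw)
    rw [hd, hd] at h2
    exact h2
  · intro hu w hw hgw
    have hsp : U.ι w ⤳ U.ι u := hw.map U.ι.continuous
    have h2 := hu (U.ι w) hsp ((hg u w).mp hgw)
    rw [hd, hd]
    exact h2

set_option backward.isDefEq.respectTransparency false in
/-- **EGA IV 9.9.1-type**: the locus where the fibre dimension is constant on fibre-generizations
is locally constructible. -/
theorem isLocallyConstructible_eqSet {X S : Scheme.{u}} (f : X ⟶ S)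
    [LocallyOfFinitePresentation f] : IsLocallyConstructible (eqSet f) := by
  refine IsLocallyConstructible.of_isOpenCover
    (U := fun i : {p : S.affineOpens × X.affineOpens // p.2.1 ≤ f ⁻¹ᵁ p.1.1} => (i.1.2.1 : X.Opens))
    ?_ fun i => ?_
  · rw [TopologicalSpace.IsOpenCover, eq_top_iff]
    intro x _
    obtain ⟨_, ⟨V, hV : IsAffineOpen V, rfl⟩, hfxV, -⟩ :=
      S.isBasis_affineOpens.exists_subset_of_mem_open (Set.mem_univ (f x)) isOpen_univ
    obtain ⟨_, ⟨U, hU : IsAffineOpen U, rfl⟩, hxU, hUV⟩ :=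
      X.isBasis_affineOpens.exists_subset_of_mem_open (show x ∈ ((f ⁻¹ᵁ V : X.Opens) : Set X) from hfxV)
        (f ⁻¹ᵁ V).2
    exact TopologicalSpace.Opens.mem_iSup.mpr ⟨⟨(⟨V, hV⟩, ⟨U, hU⟩), hUV⟩, hxU⟩
  · obtain ⟨⟨⟨V, hV⟩, ⟨U, hU⟩⟩, hUV⟩ := i
    haveI : IsAffine (V : Scheme.{u}) := hV
    haveI : IsAffine (U : Scheme.{u}) := hU
    have hfac : f.resLE V U hUV ≫ V.ι = U.ι ≫ f := f.resLE_comp_ι hUV
    haveI : LocallyOfFinitePresentation (U.ι ≫ f) := inferInstance
    haveI : LocallyOfFinitePresentation (f.resLE V U hUV ≫ V.ι) := by rw [hfac]; infer_instance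
    haveI : LocallyOfFinitePresentation (f.resLE V U hUV) :=
      MorphismProperty.of_postcomp (W := @LocallyOfFinitePresentation)
        (W' := @IsOpenImmersion) (f.resLE V U hUV) V.ι inferInstance inferInstance
    have h3 : IsLocallyConstructible (eqSet (f.resLE V U hUV)) :=
      isLocallyConstructible_eqSet_of_compactSpace (f.resLE V U hUV)
    rw [eqSet_resLE] at h3
    exact h3

/-- the fibre through `x` is equidimensional at `x`: locally constructible. -/
theorem isLocallyConstructible_setOf_fibre_equidim_at {X S : Scheme.{u}} (f : X ⟶ S)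
    [LocallyOfFinitePresentation f] :
    IsLocallyConstructible {x : X | ∃ e : ℕ,
      ∀ Z ∈ irreducibleComponents (↥(f.fiber (f.base x)) : Type u), f.asFiber x ∈ Z →
        topologicalKrullDim (↥Z : Type u) = e} := by
  have : {x : X | ∃ e : ℕ,
      ∀ Z ∈ irreducibleComponents (↥(f.fiber (f.base x)) : Type u), f.asFiber x ∈ Z →
        topologicalKrullDim (↥Z : Type u) = e} = eqSet f := by
    ext x
    exact (mem_eqSet_iff f x).symm
  rw [this]
  exact isLocallyConstructible_eqSet f

end Groth.Agent.Lib.Helper24.FibEq
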