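import Groth.Agent.Lib.Helper24.FibDA5

/-!
# Fibre dimension of locally constructible subsets (helper24), part 1: closures of constructible sets

* `exists_specializes_of_mem_closure_spec`: in a prime spectrum the closure of a constructible set
  consists of the specializations of its points.
* `exists_specializes_of_mem_closure`: the same for locally constructible subsets of schemes.
* `mem_fibClosure_iff_exists`: the fibrewise closure of a locally constructible set consists of the
  specializations, in their fibre, of its points.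
-/

set_option autoImplicit false
universe u

namespace Groth.Agent.Lib.Helper24.FibKL

open AlgebraicGeometry CategoryTheory Topology TopologicalSpace
  Groth.Agent.Lib.helper5.FibClos

theorem exists_specializes_of_mem_closure_spec {R : Type u} [CommRing R]
    (A : Set (PrimeSpectrum R)) (hA : IsConstructible A) (x : PrimeSpectrum R)
    (hx : x ∈ closure A) : ∃ a ∈ A, a ⤳ x := by
  obtain ⟨S, _, φ, rfl⟩ := PrimeSpectrum.exists_range_eq_of_isConstructible hA
  rw [PrimeSpectrum.closure_range_comap] at hx
  have hle : RingHom.ker φ ≤ x.asIdeal := hx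
  obtain ⟨p, hp, hpx⟩ := Ideal.exists_minimalPrimes_le hle
  obtain ⟨p', hp', -, hcomap⟩ := Ideal.exists_comap_eq_of_mem_minimalPrimes φ (I := ⊥) p
    (by rwa [← RingHom.ker_eq_comap_bot])
  refine ⟨PrimeSpectrum.comap φ ⟨p', hp'⟩, ⟨_, rfl⟩, ?_⟩
  rw [← PrimeSpectrum.le_iff_specializes]
  change p'.comap φ ≤ x.asIdeal
  rw [hcomap]
  exact hpx

theorem exists_specializes_of_mem_closure {T : Scheme.{u}} (A : Set T)
    (hA : IsLocallyConstructible A) (x : T) (hx : x ∈ closure A) : ∃ a ∈ A, a ⤳ x := by
  obtain ⟨W, hW, hxW, -⟩ := exists_isAffineOpen_mem_and_subset (x := x) (U := ⊤) trivial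
  have hxr : x ∈ Set.range hW.fromSpec := by
    rw [hW.range_fromSpec]
    exact hxW
  obtain ⟨x₀, rfl⟩ := hxr
  have hc : IsConstructible (hW.fromSpec ⁻¹' A) :=
    (hA.preimage_of_isOpenEmbedding hW.fromSpec.isOpenEmbedding).isConstructible
  have hx₀ : x₀ ∈ closure (hW.fromSpec ⁻¹' A) := by
    rw [← hW.fromSpec.isOpenEmbedding.isOpenMap.preimage_closure_eq_closure_preimage
      hW.fromSpec.continuous]
    exact hx
  obtain ⟨a₀, ha₀, hsp⟩ := exists_specializes_of_mem_closure_spec _ hc x₀ hx₀
  exact ⟨hW.fromSpec a₀, ha₀, hsp.map hW.fromSpec.continuous⟩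

/-- the fibrewise closure of a locally constructible set consists of the specializations, in their
fibre, of its points. -/
theorem mem_fibClosure_iff_exists {X S : Scheme.{u}} (g : X ⟶ S) (A : Set X)
    (hA : IsLocallyConstructible A) (x : X) :
    x ∈ fibClosure g A ↔ ∃ t ∈ A, t ⤳ x ∧ g t = g x := by
  constructor
  · intro hx
    have hx' : x ∈ closure (A ∩ g ⁻¹' {g x}) := hx
    set s := g x with hs
    have hιx : g.fiberι s (g.asFiber x) = x := g.fiberι_asFiber x
    set A' : Set ↥(g.fiber s) := g.fiberι s ⁻¹' A with hA'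
    have hA'c : IsLocallyConstructible A' :=
      Groth.Agent.Lib.helper5.ConsApprox.isLocallyConstructible_preimage (g.fiberι s) hA
    have himg : g.fiberι s '' A' = A ∩ g ⁻¹' {s} := by
      rw [hA', Set.image_preimage_eq_inter_range, g.range_fiberι s]
    have hxA : g.asFiber x ∈ closure A' := by
      rw [(g.fiberι s).isEmbedding.isInducing.closure_eq_preimage_closure_image, Set.mem_preimage,
        himg, hιx]
      exact hx'
    obtain ⟨a, ha, hsp⟩ := exists_specializes_of_mem_closure A' hA'c _ hxA
    refine ⟨g.fiberι s a, ha, ?_, ?_⟩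
    · have := hsp.map (g.fiberι s).continuous
      rwa [hιx] at this
    · have : g.fiberι s a ∈ g ⁻¹' {s} := by
        rw [← g.range_fiberι s]
        exact ⟨a, rfl⟩
      exact this
  · rintro ⟨t, htA, htx, hgt⟩
    have h1 : t ∈ A ∩ g ⁻¹' {g x} := ⟨htA, hgt⟩
    exact closure_mono (Set.singleton_subset_iff.mpr h1) htx.mem_closure

end Groth.Agent.Lib.Helper24.FibKL
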