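import Groth.Agent.Lib.Helper24.FibKL8

/-!
# Fibre dimension of locally constructible subsets (helper24), part 9: sets of base points whose
fibre contains a maximal point (resp. an associated point) with a locally constructible property
-/

set_option autoImplicit false
universe u

namespace Groth.Agent.Lib.Helper24.FibKL

open AlgebraicGeometry CategoryTheory Topology TopologicalSpace LocCoh
  Groth.Agent.Lib.helper3.DimIneq Groth.Agent.Lib.helper3.FTField
  Groth.Agent.Lib.helper3.FibreField Groth.Agent.Lib.helper3.DimFibre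
  Groth.Agent.Lib.helper3.EquidimIrr Groth.Agent.Lib.Helper24.FibEq
  Groth.Agent.Lib.helper5.FibClos Groth.Agent.Lib.Helper24.FibDA

variable {X S : Scheme.{u}} (f : X ⟶ S) [LocallyOfFinitePresentation f] [QuasiCompact f]

theorem isLocallyConstructible_image_maxDim_inter (Z : Set X) (hZ : IsLocallyConstructible Z)
    (a : ℕ) (W : Set X) (hW : IsLocallyConstructible W) :
    IsLocallyConstructible (f '' (maxDim f Z a ∩ W)) := by
  have hN : IsLocallyConstructible ((Z ∩ (genTd f Z a)ᶜ) ∩ W) :=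
    (hZ.inter (isLocallyConstructible_compl
      (isLocallyConstructible_genTd_of_isLocallyConstructible f Z hZ a))).inter hW
  have hle : ∀ ζ : X, ζ ∈ Z → ζ ∉ genTd f Z a → ∀ N : ℕ,
      td (f.residueFieldMap ζ).hom = (N : Cardinal.{u}) → N ≤ a := by
    intro ζ hζZ hζg N hN'
    by_contra hlt
    push Not at hlt
    exact hζg ⟨ζ, hζZ, specializes_rfl, rfl, by rw [hN']; exact_mod_cast hlt⟩
  rcases Nat.eq_zero_or_pos a with h0 | hpos
  · subst h0
    have h1 : maxDim f Z 0 ∩ W = (Z ∩ (genTd f Z 0)ᶜ) ∩ W := by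
      ext ζ
      constructor
      · rintro ⟨⟨h1, h2, -⟩, h3⟩
        exact ⟨⟨h1, h2⟩, h3⟩
      · rintro ⟨⟨h1, h2⟩, h3⟩
        obtain ⟨N, -, hN', -, -⟩ := fibreDimAt_eq_add f ζ
        have := hle ζ h1 h2 N hN'
        have hN0 : N = 0 := by omega
        subst hN0
        exact ⟨⟨h1, h2, hN'⟩, h3⟩
    rw [h1]
    exact f.isLocallyConstructible_image hN
  · have h1 := isLocallyConstructible_image_genTd f _ hN (a - 1)
    convert h1 using 1
    ext s
    constructor
    · rintro ⟨ζ, ⟨⟨h1, h2, h3⟩, h4⟩, rfl⟩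
      refine ⟨ζ, ⟨⟨h1, h2⟩, h4⟩, rfl, ?_⟩
      rw [h3]
      exact_mod_cast (by omega : a - 1 < a)
    · rintro ⟨ζ, ⟨⟨hζ1, hζ2⟩, hζ3⟩, hfζ, hlt⟩
      obtain ⟨N, -, hN', -, -⟩ := fibreDimAt_eq_add f ζ
      have h4 := hle ζ hζ1 hζ2 N hN'
      rw [hN'] at hlt
      have h5 : a - 1 < N := by exact_mod_cast hlt
      have h6 : N = a := by omega
      rw [h6] at hN'
      exact ⟨ζ, ⟨⟨hζ1, hζ2, hN'⟩, hζ3⟩, hfζ⟩

/-- a locally bounded union of locally constructible subsets of the base, indexed by the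
transcendence degree of a point of the fibre, is locally constructible. -/
theorem isLocallyConstructible_iUnion_image_of_td (B : ℕ → Set X)
    (hB : ∀ a, IsLocallyConstructible (f '' B a))
    (hBtd : ∀ a, ∀ ζ ∈ B a, td (f.residueFieldMap ζ).hom = (a : Cardinal.{u})) :
    IsLocallyConstructible (⋃ a, f '' B a) := by
  refine IsLocallyConstructible.of_isOpenCover
    (U := fun V : S.affineOpens => (V.1 : S.Opens)) (iSup_affineOpens_eq_top S) fun V => ?_
  obtain ⟨K, hK⟩ := exists_bound_fibreDimAt f (V.1 : Set S) V.1.isOpen V.2.isCompact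
  have hbig : ∀ (s : S), s ∈ (V.1 : Set S) → ∀ a : ℕ, K < a → s ∉ f '' B a := by
    rintro s hsV a haK ⟨ζ, hζ, hfζ⟩
    have h2 := hK ζ (by rw [hfζ]; exact hsV)
    obtain ⟨a', b, ha', -, hab⟩ := fibreDimAt_eq_add f ζ
    rw [hBtd a ζ hζ] at ha'
    have h3 : a = a' := by exact_mod_cast ha'
    rw [hab] at h2
    have h4 : a' + b ≤ K := by exact_mod_cast h2
    omega
  have hE' : IsLocallyConstructible (⋃ a : Fin (K + 1), f '' B a) :=
    IsLocallyConstructible.iUnion fun a => hB a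
  have h1 := hE'.preimage_of_isOpenEmbedding V.1.isOpen.isOpenEmbedding_subtypeVal
  convert h1 using 1
  ext s
  simp only [Set.mem_preimage, Set.mem_iUnion]
  constructor
  · rintro ⟨a, ha⟩
    by_cases haK : a < K + 1
    · exact ⟨⟨a, haK⟩, ha⟩
    · exact absurd ha (hbig s.1 s.2 a (by omega))
  · rintro ⟨a, ha⟩
    exact ⟨a, ha⟩

/-- the set of points of the base whose fibre contains a point `ζ`, maximal in the fibre of `Z`,
lying in `W (trdeg κ(ζ)/κ(s))`, is locally constructible. -/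
theorem isLocallyConstructible_setOf_exists_maximal (Z : Set X) (hZ : IsLocallyConstructible Z)
    (W : ℕ → Set X) (hW : ∀ a, IsLocallyConstructible (W a)) :
    IsLocallyConstructible {s : S | ∃ ζ : X, ∃ a : ℕ, f ζ = s ∧ ζ ∈ Z ∧
      (∀ z ∈ Z, f z = f ζ → z ⤳ ζ → z = ζ) ∧
      td (f.residueFieldMap ζ).hom = (a : Cardinal.{u}) ∧ ζ ∈ W a} := by
  have h1 := isLocallyConstructible_iUnion_image_of_td f (fun a => maxDim f Z a ∩ W a)
    (fun a => isLocallyConstructible_image_maxDim_inter f Z hZ a (W a) (hW a))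
    (fun a ζ hζ => hζ.1.2.2)
  convert h1 using 1
  ext s
  simp only [Set.mem_ofPred_eq, Set.mem_iUnion, Set.mem_image]
  constructor
  · rintro ⟨ζ, a, hfζ, hζZ, hmax, ha, hζW⟩
    exact ⟨a, ζ, ⟨mem_maxDim_of_maximal f Z a ζ hζZ (fun z hz => hmax z hz.1 hz.2) ha, hζW⟩, hfζ⟩
  · rintro ⟨a, ζ, ⟨hζ, hζW⟩, hfζ⟩
    exact ⟨ζ, a, hfζ, hζ.1, fun z hzZ hzf => maximal_of_mem_maxDim f Z a ζ hζ z ⟨hzZ, hzf⟩,
      hζ.2.2, hζW⟩

variable (F : X.Modules)

/-- the set of points of the base whose fibre module has an associated point `ζ`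
lying in `W (trdeg κ(ζ)/κ(s))`, is locally constructible. -/
theorem isLocallyConstructible_setOf_exists_ass (hF : CohB1.IsFP F)
    (W : ℕ → Set X) (hW : ∀ a, IsLocallyConstructible (W a)) :
    IsLocallyConstructible {s : S | ∃ ζ : X, ∃ a : ℕ, f ζ = s ∧ CInt.fiberDepth f F ζ = 0 ∧
      td (f.residueFieldMap ζ).hom = (a : Cardinal.{u}) ∧ ζ ∈ W a} := by
  have h1 := isLocallyConstructible_iUnion_image_of_td f (fun a => assDim f F a ∩ W a)
    (fun a => isLocallyConstructible_image_assDim_inter f F hF a (W a) (hW a))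
    (fun a ζ hζ => hζ.1.2)
  convert h1 using 1
  ext s
  simp only [Set.mem_ofPred_eq, Set.mem_iUnion, Set.mem_image]
  constructor
  · rintro ⟨ζ, a, hfζ, hd, ha, hζW⟩
    exact ⟨a, ζ, ⟨⟨hd, ha⟩, hζW⟩, hfζ⟩
  · rintro ⟨a, ζ, ⟨⟨hd, ha⟩, hζW⟩, hfζ⟩
    exact ⟨ζ, a, hfζ, hd, ha, hζW⟩

end Groth.Agent.Lib.Helper24.FibKL
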