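import Groth.Agent.Lib.Helper16.LenSemi3
import Groth.Agent.Lib.Helper24.FibKL9

/-!
# Torsion and torsion-freeness of the stalks of a quasi-coherent module on a scheme with integral
local rings, in terms of maximal points and associated points (helper24)
-/

set_option autoImplicit false
universe u

namespace Groth.Agent.Lib.Helper24.FibKL

open AlgebraicGeometry CategoryTheory Topology TopologicalSpace IsLocalRing
  Groth.Agent.Lib.helper16.CohStalk Groth.Agent.Lib.helper16.OrdGen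
  Groth.Agent.Lib.helper16.DivSum Groth.Agent.Lib.helper16.StalkLoc

section stalk

variable {Y : Scheme.{u}} (G : Y.Modules)

/-- at a point with no proper generization whose local ring is a domain, the local ring is a
field. -/
theorem isUnit_of_ne_zero_of_maximal (ξ : Y) [IsDomain (Y.presheaf.stalk ξ)]
    (hmax : ∀ z : Y, z ⤳ ξ → z = ξ) (r : Y.presheaf.stalk ξ) (hr : r ≠ 0) : IsUnit r := by
  have hsp := specializes_fromSpecStalk ξ (⟨⊥, Ideal.isPrime_bot⟩ : PrimeSpectrum _)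
  have hpof := pOf_fromSpecStalk ξ ⟨⊥, Ideal.isPrime_bot⟩ hsp
  have heq := hmax _ hsp
  have h1 : pOf hsp = maximalIdeal _ := (pOf_eq_maximalIdeal_iff hsp).2 heq
  have hm : maximalIdeal (Y.presheaf.stalk ξ) = ⊥ := h1.symm.trans hpof
  by_contra hu
  have h2 : r ∈ maximalIdeal (Y.presheaf.stalk ξ) := (IsLocalRing.mem_maximalIdeal r).2 hu
  rw [hm] at h2
  exact hr (by simpa using h2)

theorem torsion_ne_top_of_maximal (ξ : Y) [IsDomain (Y.presheaf.stalk ξ)]
    (hmax : ∀ z : Y, z ⤳ ξ → z = ξ) (hnt : Nontrivial (G.presheaf.stalk ξ)) :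
    Submodule.torsion (Y.presheaf.stalk ξ) (G.presheaf.stalk ξ) ≠ ⊤ := by
  intro htop
  obtain ⟨m, hm⟩ := exists_ne (0 : G.presheaf.stalk ξ)
  have hmt : m ∈ Submodule.torsion (Y.presheaf.stalk ξ) (G.presheaf.stalk ξ) := by
    rw [htop]; trivial
  obtain ⟨r, hr⟩ := (Submodule.mem_torsion_iff m).1 hmt
  have hu : IsUnit (r : Y.presheaf.stalk ξ) :=
    isUnit_of_ne_zero_of_maximal ξ hmax r (nonZeroDivisors.coe_ne_zero r)
  apply hm
  have h2 : (r : Y.presheaf.stalk ξ) • m = 0 := hr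
  exact (hu.smul_eq_zero).1 h2

/-- the generization of `x` corresponding to the zero ideal of the integral local ring. -/
theorem exists_generic_generization (x : Y) [IsDomain (Y.presheaf.stalk x)] :
    ∃ ξ : Y, ∃ h : ξ ⤳ x, pOf h = ⊥ ∧ (∀ z : Y, z ⤳ ξ → z = ξ) ∧
      ∀ ζ : Y, ζ ⤳ x → ξ ⤳ ζ := by
  have hsp := specializes_fromSpecStalk x (⟨⊥, Ideal.isPrime_bot⟩ : PrimeSpectrum _)
  have hpof : pOf hsp = ⊥ := pOf_fromSpecStalk x ⟨⊥, Ideal.isPrime_bot⟩ hsp
  refine ⟨_, hsp, hpof, ?_, ?_⟩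
  · intro z hz
    have hzx : z ⤳ x := hz.trans hsp
    have hle : pOf hzx ≤ pOf hsp := (specializes_iff_pOf_le hzx hsp).1 hz
    have h0 : pOf hzx = ⊥ := le_bot_iff.1 (hpof ▸ hle)
    have e1 := fromSpecStalk_pOf hzx
    rw [← e1]
    congr 1
    exact PrimeSpectrum.ext h0
  · intro ζ hζ
    rw [specializes_iff_pOf_le hsp hζ, hpof]
    exact bot_le

theorem exists_maximal_nontrivial_of_torsion_ne_top [G.IsQuasicoherent] (x : Y)
    [IsDomain (Y.presheaf.stalk x)]
    (h : Submodule.torsion (Y.presheaf.stalk x) (G.presheaf.stalk x) ≠ ⊤) :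
    ∃ ξ : Y, ξ ⤳ x ∧ (∀ z : Y, z ⤳ ξ → z = ξ) ∧ Nontrivial (G.presheaf.stalk ξ) := by
  obtain ⟨ξ, hsp, hpof, hmax, -⟩ := exists_generic_generization x
  refine ⟨ξ, hsp, hmax, ?_⟩
  by_contra hnt
  rw [not_nontrivial_iff_subsingleton] at hnt
  apply h
  rw [eq_top_iff]
  intro m _
  letI := modSpec G hsp
  haveI := isLocalizedModule_specLin G hsp
  have h0 : specLin G hsp m = 0 := Subsingleton.elim _ _
  obtain ⟨c, hc⟩ := (IsLocalizedModule.eq_zero_iff (pOf hsp).primeCompl (specLin G hsp)).1 h0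
  rw [Submodule.mem_torsion_iff]
  refine ⟨⟨c.1, mem_nonZeroDivisors_of_ne_zero ?_⟩, hc⟩
  intro hc0
  apply c.2
  rw [hc0]
  exact zero_mem _

/-- an associated point at which the stalk is torsion-free over the integral local ring has no
proper generization. -/
theorem maximal_of_isAssPoint_of_torsion_eq_bot (z : Y) [IsDomain (Y.presheaf.stalk z)]
    (hz : z ∈ AssSch.Ass G)
    (ht : Submodule.torsion (Y.presheaf.stalk z) (G.presheaf.stalk z) = ⊥) :
    ∀ z' : Y, z' ⤳ z → z' = z := by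
  obtain ⟨hprime, m, hm⟩ := hz
  have hm0 : m ≠ 0 := by
    rintro rfl
    have : (1 : Y.presheaf.stalk z) ∈ maximalIdeal (Y.presheaf.stalk z) := by
      rw [hm]
      refine Ideal.le_radical ?_
      rw [Submodule.mem_colon_singleton]
      simp
    exact (Ideal.ne_top_iff_one _).1 hprime.ne_top this
  have hbot : maximalIdeal (Y.presheaf.stalk z) = ⊥ := by
    rw [eq_bot_iff]
    intro r hr
    rw [hm] at hr
    obtain ⟨n, hn⟩ := hr
    rw [Submodule.mem_colon_singleton, Submodule.mem_bot] at hn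
    by_contra hr0
    have hrn : r ^ n ≠ 0 := pow_ne_zero n hr0
    have hmt : m ∈ Submodule.torsion (Y.presheaf.stalk z) (G.presheaf.stalk z) :=
      (Submodule.mem_torsion_iff m).2 ⟨⟨r ^ n, mem_nonZeroDivisors_of_ne_zero hrn⟩, hn⟩
    rw [ht, Submodule.mem_bot] at hmt
    exact hm0 hmt
  intro z' h
  have hle : pOf h ≤ maximalIdeal (Y.presheaf.stalk z) :=
    IsLocalRing.le_maximalIdeal (Ideal.IsPrime.ne_top inferInstance)
  have h0 : pOf h = maximalIdeal (Y.presheaf.stalk z) := by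
    rw [hbot] at hle ⊢
    exact le_bot_iff.1 hle
  exact (pOf_eq_maximalIdeal_iff h).1 h0

/-- if every associated point is a maximal point, then the stalks are torsion-free. -/
theorem torsion_eq_bot_of_forall_isAssPoint_maximal [IsLocallyNoetherian Y] [G.IsQuasicoherent]
    (x : Y) [IsDomain (Y.presheaf.stalk x)]
    (hass : ∀ z ∈ AssSch.Ass G, ∀ z' : Y, z' ⤳ z → z' = z) :
    Submodule.torsion (Y.presheaf.stalk x) (G.presheaf.stalk x) = ⊥ := by
  rw [eq_bot_iff]
  intro m hm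
  rw [Submodule.mem_bot]
  by_contra hm0
  obtain ⟨r, hr⟩ := (Submodule.mem_torsion_iff m).1 hm
  have hr0 : (r : Y.presheaf.stalk x) ≠ 0 := nonZeroDivisors.coe_ne_zero r
  have hzd : (r : Y.presheaf.stalk x) ∈
      {a : Y.presheaf.stalk x | ∃ y : G.presheaf.stalk x, y ≠ 0 ∧ a • y = 0} := ⟨m, hm0, hr⟩
  rw [← biUnion_associatedPrimes_eq_zero_divisors] at hzd
  obtain ⟨P, hP, hrP⟩ := Set.mem_iUnion₂.1 hzd
  haveI hPp : P.IsPrime := hP.isPrime
  have hξ := specializes_fromSpecStalk x (⟨P, hPp⟩ : PrimeSpectrum _)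
  have hpof : pOf hξ = P := pOf_fromSpecStalk x ⟨P, hPp⟩ hξ
  set ξ := Y.fromSpecStalk x ⟨P, hPp⟩ with hξdef
  have hξass : ξ ∈ AssSch.Ass G := by
    letI := (Y.presheaf.stalkSpecializes hξ).hom.toAlgebra
    letI := modSpec G hξ
    haveI := isScalarTower_modSpec G hξ
    haveI := isLocalization_stalkSpecializes hξ
    haveI := isLocalizedModule_specLin G hξ
    refine Module.associatedPrimes.mem_associatedPrimes_of_comap_mem_associatedPrimes_of_isLocalizedModule
      (pOf hξ).primeCompl (specLin G hξ) (maximalIdeal (Y.presheaf.stalk ξ)) ?_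
    have hc : Ideal.comap (algebraMap (Y.presheaf.stalk x) (Y.presheaf.stalk ξ))
        (maximalIdeal (Y.presheaf.stalk ξ)) = P := by
      rw [← hpof]
      ext b
      rw [mem_pOf_iff, Ideal.mem_comap]
      rfl
    rw [hc]
    exact hP
  obtain ⟨ξ₀, h₀, hp₀, -, hgen⟩ := exists_generic_generization x
  have h1 : ξ₀ = ξ := hass ξ hξass ξ₀ (hgen ξ hξ)
  have h2 : pOf h₀ = pOf hξ := pOf_congr h1 h₀ hξ
  rw [hp₀, hpof] at h2
  rw [← h2] at hrP
  exact hr0 (by simpa using hrP)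

end stalk

end Groth.Agent.Lib.Helper24.FibKL
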