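import Groth.Agent.Lib.Helper24.FibKL10

/-!
# Constructibility of the loci where the fibre modules are torsion / torsion-free
(EGA IV 9.4.x / 9.7.x-9.8.x style, helper24)
-/

set_option autoImplicit false
universe u

namespace Groth.Agent.Lib.Helper24.FibKL

open AlgebraicGeometry CategoryTheory Topology TopologicalSpace LocCoh
  Groth.Agent.Lib.helper3.DimIneq Groth.Agent.Lib.helper3.FTField
  Groth.Agent.Lib.helper3.FibreField Groth.Agent.Lib.helper3.DimFibre
  Groth.Agent.Lib.helper3.EquidimIrr Groth.Agent.Lib.Helper24.FibEq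
  Groth.Agent.Lib.helper5.FibClos Groth.Agent.Lib.Helper24.FibDA
  Groth.Agent.Lib.Helper24.AssFib Groth.Agent.Lib.Helper24.FibMd

variable {X S : Scheme.{u}} (f : X ⟶ S) [LocallyOfFinitePresentation f] (F : X.Modules)

theorem fiberDepth_fiberι_ne_top_iff (hF : CohB1.IsFP F) (s : S) (z : f.fiber s) :
    CInt.fiberDepth f F (f.fiberι s z) ≠ ⊤ ↔
      Nontrivial (((Scheme.Modules.pullback (f.fiberι s)).obj F).presheaf.stalk z) := by
  rw [← nontrivial_iff_fiberDepth_ne_top f F hF (f.fiberι s z)]
  exact Groth.Agent.Lib.Lead.FibrewiseOpen.asFiber_fiberι f s z (base_fiberι f s z)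
    (fun s z => Nontrivial (((Scheme.Modules.pullback (f.fiberι s)).obj F).presheaf.stalk z))

omit [LocallyOfFinitePresentation f] in
/-- maximal points of a fibre, in terms of the total space. -/
theorem fibre_maximal_iff (s : S) (z : f.fiber s) :
    (∀ z' : f.fiber s, z' ⤳ z → z' = z) ↔
      ∀ t : X, f t = f (f.fiberι s z) → t ⤳ f.fiberι s z → t = f.fiberι s z := by
  have hfz : f (f.fiberι s z) = s := base_fiberι f s z
  constructor
  · intro h t hft htz
    have htr : t ∈ Set.range (f.fiberι s) := by
      rw [f.range_fiberι s]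
      exact hft.trans hfz
    obtain ⟨t', rfl⟩ := htr
    rw [h t' ((f.fiberι s).isEmbedding.isInducing.specializes_iff.mp htz)]
  · intro h z' hz'
    have h1 := h (f.fiberι s z') ((base_fiberι f s z').trans hfz.symm)
      (hz'.map (f.fiberι s).continuous)
    exact (f.fiberι s).isEmbedding.injective h1

variable [QuasiCompact f]

/-- **EGA IV 9.x**: if the fibres have integral local rings, the set of points of the base over
which the fibre module is a torsion module is locally constructible. -/
theorem isLocallyConstructible_setOf_fibre_torsion (hF : CohB1.IsFP F)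
    (hint : ∀ (s : S) (x : ↥(f.fiber s)), IsDomain ((f.fiber s).presheaf.stalk x)) :
    IsLocallyConstructible {s : S | ∀ x : ↥(f.fiber s),
      Submodule.torsion ((f.fiber s).presheaf.stalk x)
        (((Scheme.Modules.pullback (f.fiberι s)).obj F).presheaf.stalk x) = ⊤} := by
  have h1 := isLocallyConstructible_setOf_exists_maximal f Set.univ IsLocallyConstructible.univ
    (fun _ => {x : X | CInt.fiberDepth f F x ≠ ⊤})
    (fun _ => isLocallyConstructible_setOf_fiberDepth_ne_top f F hF)
  have h2 := isLocallyConstructible_compl h1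
  convert h2 using 1
  ext s
  rw [Set.mem_compl_iff]
  change (∀ x : ↥(f.fiber s), _) ↔ ¬ (∃ ζ : X, ∃ a : ℕ, _)
  haveI hqc : ((Scheme.Modules.pullback (f.fiberι s)).obj F).IsQuasicoherent :=
    (isCoh_fibre f F hF s).1
  constructor
  · rintro h ⟨ζ, a, hfζ, -, hmax, -, hζW⟩
    have hζr : ζ ∈ Set.range (f.fiberι s) := by
      rw [f.range_fiberι s]
      exact hfζ
    obtain ⟨ζ', rfl⟩ := hζr
    haveI := hint s ζ'
    refine torsion_ne_top_of_maximal ((Scheme.Modules.pullback (f.fiberι s)).obj F) ζ'
      ((fibre_maximal_iff f s ζ').2 fun t ht => hmax t trivial ht)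
      ((fiberDepth_fiberι_ne_top_iff f F hF s ζ').1 hζW) (h ζ')
  · intro h x
    by_contra hx
    apply h
    haveI := hint s x
    obtain ⟨ξ, -, hmax, hnt⟩ := exists_maximal_nontrivial_of_torsion_ne_top
      ((Scheme.Modules.pullback (f.fiberι s)).obj F) x hx
    obtain ⟨a, -, ha, -, -⟩ := fibreDimAt_eq_add f (f.fiberι s ξ)
    exact ⟨f.fiberι s ξ, a, base_fiberι f s ξ, trivial,
      fun t _ ht => (fibre_maximal_iff f s ξ).1 hmax t ht, ha,
      (fiberDepth_fiberι_ne_top_iff f F hF s ξ).2 hnt⟩

/-- **EGA IV 9.x**: if the fibres have integral local rings, the set of points of the base over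
which the fibre module is torsion-free is locally constructible. -/
theorem isLocallyConstructible_setOf_fibre_torsionFree (hF : CohB1.IsFP F)
    (hint : ∀ (s : S) (x : ↥(f.fiber s)), IsDomain ((f.fiber s).presheaf.stalk x)) :
    IsLocallyConstructible {s : S | ∀ x : ↥(f.fiber s),
      Submodule.torsion ((f.fiber s).presheaf.stalk x)
        (((Scheme.Modules.pullback (f.fiberι s)).obj F).presheaf.stalk x) = ⊥} := by
  have h1 := isLocallyConstructible_setOf_exists_ass f F hF
    (fun a => genTd f Set.univ a)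
    (fun a => isLocallyConstructible_genTd_of_isLocallyConstructible f Set.univ
      IsLocallyConstructible.univ a)
  have h2 := isLocallyConstructible_compl h1
  convert h2 using 1
  ext s
  rw [Set.mem_compl_iff]
  change (∀ x : ↥(f.fiber s), _) ↔ ¬ (∃ ζ : X, ∃ a : ℕ, _)
  haveI hqc : ((Scheme.Modules.pullback (f.fiberι s)).obj F).IsQuasicoherent :=
    (isCoh_fibre f F hF s).1
  haveI : IsLocallyNoetherian (f.fiber s) := isLocallyNoetherian_fiber f s
  constructor
  · rintro h ⟨ζ, a, hfζ, hd, ha, z, -, hzζ, hfz, hlt⟩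
    have hζr : ζ ∈ Set.range (f.fiberι s) := by
      rw [f.range_fiberι s]
      exact hfζ
    obtain ⟨ζ', rfl⟩ := hζr
    haveI := hint s ζ'
    have hass := (fiberDepth_fiberι_eq_zero_iff f F hF s ζ').1 hd
    have hmax := maximal_of_isAssPoint_of_torsion_eq_bot
      ((Scheme.Modules.pullback (f.fiberι s)).obj F) ζ' hass (h ζ')
    have h3 := (fibre_maximal_iff f s ζ').1 hmax z hfz hzζ
    rw [h3, ha] at hlt
    exact lt_irrefl _ hlt
  · intro h x
    haveI := hint s x
    refine torsion_eq_bot_of_forall_isAssPoint_maximal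
      ((Scheme.Modules.pullback (f.fiberι s)).obj F) x ?_
    intro z hz z' hz'
    by_contra hne
    apply h
    have hd := (fiberDepth_fiberι_eq_zero_iff f F hF s z).2 hz
    obtain ⟨a, -, ha, -, -⟩ := fibreDimAt_eq_add f (f.fiberι s z)
    have hsp : f.fiberι s z' ⤳ f.fiberι s z := hz'.map (f.fiberι s).continuous
    have hff : f (f.fiberι s z') = f (f.fiberι s z) :=
      (base_fiberι f s z').trans (base_fiberι f s z).symm
    have hne' : f.fiberι s z' ≠ f.fiberι s z := fun e =>
      hne ((f.fiberι s).isEmbedding.injective e)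
    have hlt := Groth.Agent.Lib.helper3.SecCompDim.td_lt_of_specializes_of_ne f (f.fiberι s z)
      (f.fiberι s z') hsp hff hne'
    rw [ha] at hlt
    exact ⟨f.fiberι s z, a, base_fiberι f s z, hd, ha, f.fiberι s z', trivial, hsp, hff, hlt⟩

end Groth.Agent.Lib.Helper24.FibKL
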