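import Groth.Agent.Lib.Helper24.FibKL11
import Groth.Agent.Lib.Helper16.IrrDec1

/-!
# Generic structure of the associated points of the fibre modules (EGA IV 9.8.3), part 1:
total-space formulation (helper24)
-/

set_option autoImplicit false
universe u

namespace Groth.Agent.Lib.Helper24.FibKL

open AlgebraicGeometry CategoryTheory Topology TopologicalSpace LocCoh
  Groth.Agent.Lib.helper3.DimIneq Groth.Agent.Lib.helper3.FTField
  Groth.Agent.Lib.helper3.FibreField Groth.Agent.Lib.helper3.DimFibre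
  Groth.Agent.Lib.helper3.EquidimIrr Groth.Agent.Lib.Helper24.FibEq
  Groth.Agent.Lib.helper5.FibClos Groth.Agent.Lib.Helper24.FibDA
  Groth.Agent.Lib.Helper24.AssFib Groth.Agent.Lib.Helper24.FibMd

section fin

variable {Y : Scheme.{u}} [IsLocallyNoetherian Y] [CompactSpace Y] (M : Y.Modules)

/-- a coherent module on a Noetherian scheme has finitely many associated points. -/
theorem finite_Ass (hM : Coh.IsCoh M) : (AssSch.Ass M).Finite := by
  have hcov : (Set.univ : Set Y) ⊆ ⋃ U : Y.affineOpens, (U.1 : Set Y) := by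
    intro y _
    obtain ⟨_, ⟨U, hU, rfl⟩, hyU, -⟩ :=
      Y.isBasis_affineOpens.exists_subset_of_mem_open (Set.mem_univ y) isOpen_univ
    exact Set.mem_iUnion.2 ⟨⟨U, hU⟩, hyU⟩
  obtain ⟨t, ht⟩ := isCompact_univ.elim_finite_subcover
    (fun U : Y.affineOpens => (U.1 : Set Y)) (fun U => U.1.isOpen) hcov
  refine (Set.Finite.biUnion t.finite_toSet (fun U _ =>
    Groth.Agent.Lib.helper16.IrrDec.finite_ass_inter M hM U.2)).subset ?_
  intro y hy
  obtain ⟨U, hUt, hyU⟩ := Set.mem_iUnion₂.1 (ht (Set.mem_univ y))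
  exact Set.mem_iUnion₂.2 ⟨U, hUt, hy, hyU⟩

end fin

variable {X S : Scheme.{u}} (f : X ⟶ S)

/-- `ζ` is a maximal point (for generization) of the fibre of `Z` through `ζ`. -/
def IsMx (Z : Set X) (ζ : X) : Prop := ζ ∈ Z ∧ ∀ t ∈ Z, f t = f ζ → t ⤳ ζ → t = ζ

theorem isMx_iff [LocallyOfFinitePresentation f] (Z : Set X) (ζ : X) (a : ℕ)
    (ha : td (f.residueFieldMap ζ).hom = (a : Cardinal.{u})) :
    IsMx f Z ζ ↔ ζ ∈ Z ∧ ζ ∉ genTd f Z a := by
  constructor
  · rintro ⟨h1, h2⟩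
    have := mem_maxDim_of_maximal f Z a ζ h1 (fun z hz => h2 z hz.1 hz.2) ha
    exact ⟨this.1, this.2.1⟩
  · rintro ⟨h1, h2⟩
    exact ⟨h1, fun t htZ htf => maximal_of_mem_maxDim f Z a ζ ⟨h1, h2, ha⟩ t ⟨htZ, htf⟩⟩

theorem isMx_closure_self (x : X) : IsMx f (closure {x}) x := by
  refine ⟨subset_closure (Set.mem_singleton x), ?_⟩
  intro t ht _ htx
  exact (specializes_iff_mem_closure.mpr ht).antisymm htx |>.eq.symm

theorem eq_of_isMx_closure (x ζ : X) (hf : f ζ = f x) (h : IsMx f (closure {x}) ζ) : ζ = x :=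
  (h.2 x (subset_closure (Set.mem_singleton x)) hf.symm
    (specializes_iff_mem_closure.mpr h.1)).symm

variable (F : X.Modules)

/-- `ζ` is a proper specialization, in its fibre, of an associated point of the fibre module. -/
def IsEmb (ζ : X) : Prop :=
  ∃ y : X, f y = f ζ ∧ CInt.fiberDepth f F y = 0 ∧ y ⤳ ζ ∧ y ≠ ζ

/-- the fibrewise specializations of associated points of the fibre modules of residue
transcendence degree in `(a, K]`. -/
def embSet (K a : ℕ) : Set X :=
  ⋃ b : Fin (K + 1), {ζ | a < (b : ℕ) ∧ ζ ∈ fibSpec f (assDim f F b)}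

variable [LocallyOfFinitePresentation f]

theorem isLocallyConstructible_embSet (hF : CohB1.IsFP F) (K a : ℕ) :
    IsLocallyConstructible (embSet f F K a) := by
  refine IsLocallyConstructible.iUnion fun b => ?_
  by_cases hab : a < (b : ℕ)
  · have : {ζ | a < (b : ℕ) ∧ ζ ∈ fibSpec f (assDim f F b)} = fibSpec f (assDim f F b) := by
      ext ζ
      simp [hab]
    rw [this]
    exact isLocallyConstructible_fibSpec_assDim' f F hF b
  · have : {ζ | a < (b : ℕ) ∧ ζ ∈ fibSpec f (assDim f F b)} = ∅ := by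
      ext ζ
      simp [hab]
    rw [this]
    exact IsLocallyConstructible.empty

theorem isEmb_iff (K : ℕ) (hK : ∀ x : X, FlatMor.fibreDimAt f x ≤ (K : WithBot ℕ∞)) (ζ : X) (a : ℕ)
    (ha : td (f.residueFieldMap ζ).hom = (a : Cardinal.{u})) :
    IsEmb f F ζ ↔ ζ ∈ embSet f F K a := by
  unfold embSet
  rw [Set.mem_iUnion]
  constructor
  · rintro ⟨y, hfy, hd, hyζ, hne⟩
    obtain ⟨b, c, hb, -, hbc⟩ := fibreDimAt_eq_add f y
    have h2 := hK y
    rw [hbc] at h2
    have h4 : b + c ≤ K := by exact_mod_cast h2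
    have hlt := Groth.Agent.Lib.helper3.SecCompDim.td_lt_of_specializes_of_ne f ζ y hyζ hfy hne
    rw [ha, hb] at hlt
    have hab : a < b := by exact_mod_cast hlt
    exact ⟨⟨b, by omega⟩, hab, y, ⟨hd, hb⟩, hyζ, hfy⟩
  · rintro ⟨b, hab, t, ⟨hd, hb⟩, htζ, hft⟩
    refine ⟨t, hft, hd, htζ, ?_⟩
    rintro rfl
    rw [ha] at hb
    have : a = (b : ℕ) := by exact_mod_cast hb
    omega

theorem fiberDepth_eq_zero_iff_mem_fibSpec (ζ : X) (a : ℕ)
    (ha : td (f.residueFieldMap ζ).hom = (a : Cardinal.{u})) :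
    CInt.fiberDepth f F ζ = 0 ↔ ζ ∈ fibSpec f (assDim f F a) := by
  constructor
  · intro hd
    exact ⟨ζ, ⟨hd, ha⟩, specializes_rfl, rfl⟩
  · rintro ⟨t, ⟨hd, hb⟩, htζ, hft⟩
    by_cases hne : t = ζ
    · exact hne ▸ hd
    · exfalso
      have hlt := Groth.Agent.Lib.helper3.SecCompDim.td_lt_of_specializes_of_ne f ζ t htζ hft hne
      rw [ha, hb] at hlt
      exact lt_irrefl _ hlt

end Groth.Agent.Lib.Helper24.FibKL
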