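import Groth.Agent.Lib.Helper24.FibKL12

/-!
# Generic structure of the associated points of the fibre modules (EGA IV 9.8.3), part 2:
the total-space theorem (helper24)
-/

set_option autoImplicit false
universe u

namespace Groth.Agent.Lib.Helper24.FibKL

open AlgebraicGeometry CategoryTheory Topology TopologicalSpace LocCoh
  Groth.Agent.Lib.helper3.DimIneq Groth.Agent.Lib.helper3.FTField
  Groth.Agent.Lib.helper3.FibreField Groth.Agent.Lib.helper3.DimFibre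
  Groth.Agent.Lib.helper3.EquidimIrr Groth.Agent.Lib.Helper24.FibEq
  Groth.Agent.Lib.helper5.FibClos Groth.Agent.Lib.Helper24.FibDA
  Groth.Agent.Lib.Helper24.AssFib Groth.Agent.Lib.Helper24.FibMd

theorem isLocallyConstructible_of_isClosed {T : Type*} [TopologicalSpace T] [NoetherianSpace T]
    (Z : Set T) (hZ : IsClosed Z) : IsLocallyConstructible Z := by
  have h1 : IsLocallyConstructible Zᶜ :=
    IsRetrocompact.isLocallyConstructible hZ.isOpen_compl
      (fun V _ _ => NoetherianSpace.isCompact _)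
  have := isLocallyConstructible_compl h1
  rwa [compl_compl] at this

variable {X S : Scheme.{u}} (f : X ⟶ S)

/-- base points whose fibre contains a maximal point `ζ` of the fibre of `Z` lying in
`W (trdeg κ(ζ)/κ(s))`. -/
def mxSet (Z : Set X) (W : ℕ → Set X) : Set S :=
  {s : S | ∃ ζ : X, ∃ a : ℕ, f ζ = s ∧ ζ ∈ Z ∧
      (∀ z ∈ Z, f z = f ζ → z ⤳ ζ → z = ζ) ∧
      td (f.residueFieldMap ζ).hom = (a : Cardinal.{u}) ∧ ζ ∈ W a}

theorem mem_mxSet_iff (Z : Set X) (W : ℕ → Set X) (s : S) :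
    s ∈ mxSet f Z W ↔ ∃ ζ : X, ∃ a : ℕ, f ζ = s ∧ IsMx f Z ζ ∧
      td (f.residueFieldMap ζ).hom = (a : Cardinal.{u}) ∧ ζ ∈ W a := by
  constructor
  · rintro ⟨ζ, a, h1, h2, h3, h4, h5⟩
    exact ⟨ζ, a, h1, ⟨h2, h3⟩, h4, h5⟩
  · rintro ⟨ζ, a, h1, ⟨h2, h3⟩, h4, h5⟩
    exact ⟨ζ, a, h1, h2, h3, h4, h5⟩

variable (F : X.Modules)

/-- base points whose fibre module has an associated point `ζ` lying in
`W (trdeg κ(ζ)/κ(s))`. -/
def assSet (W : ℕ → Set X) : Set S :=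
  {s : S | ∃ ζ : X, ∃ a : ℕ, f ζ = s ∧ CInt.fiberDepth f F ζ = 0 ∧
      td (f.residueFieldMap ζ).hom = (a : Cardinal.{u}) ∧ ζ ∈ W a}

variable [LocallyOfFinitePresentation f] [QuasiCompact f]

theorem isLocallyConstructible_mxSet (Z : Set X) (hZ : IsLocallyConstructible Z)
    (W : ℕ → Set X) (hW : ∀ a, IsLocallyConstructible (W a)) :
    IsLocallyConstructible (mxSet f Z W) :=
  isLocallyConstructible_setOf_exists_maximal f Z hZ W hW

theorem isLocallyConstructible_assSet (hF : CohB1.IsFP F)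
    (W : ℕ → Set X) (hW : ∀ a, IsLocallyConstructible (W a)) :
    IsLocallyConstructible (assSet f F W) :=
  isLocallyConstructible_setOf_exists_ass f F hF W hW

/-- **EGA IV 9.8.3**, total-space formulation. -/
theorem exists_opens_generic_ass [IsIntegral S] [CompactSpace S] [NoetherianSpace X]
    (hF : CohB1.IsFP F) (Φ : Set X) (hΦfin : Φ.Finite)
    (hΦ : ∀ x, x ∈ Φ ↔ f x = genericPoint S ∧ CInt.fiberDepth f F x = 0) :
    ∃ U : S.Opens, genericPoint S ∈ U ∧ ∀ s ∈ U,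
      (∀ ζ : X, f ζ = s →
        (CInt.fiberDepth f F ζ = 0 ↔ ∃ x ∈ Φ, IsMx f (closure {x}) ζ)) ∧
      (∀ x ∈ Φ, ∀ x' ∈ Φ, x ≠ x' → ∀ ζ : X, f ζ = s →
        IsMx f (closure {x}) ζ → ¬ IsMx f (closure {x'}) ζ) ∧
      (∀ x ∈ Φ, ∀ ζ : X, f ζ = s → IsMx f (closure {x}) ζ →
        (IsEmb f F ζ ↔ IsEmb f F x)) := by
  classical
  haveI : Finite ↥Φ := hΦfin.to_subtype
  obtain ⟨K, hK'⟩ := exists_bound_fibreDimAt f Set.univ isOpen_univ isCompact_univ
  have hK : ∀ x : X, FlatMor.fibreDimAt f x ≤ (K : WithBot ℕ∞) := fun x => hK' x trivial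
  have hZc : ∀ x : X, IsLocallyConstructible (closure ({x} : Set X)) := fun x =>
    isLocallyConstructible_of_isClosed _ isClosed_closure
  have hG : ∀ (x : X) (a : ℕ), IsLocallyConstructible (genTd f (closure ({x} : Set X)) a) :=
    fun x a => isLocallyConstructible_genTd_of_isLocallyConstructible f _ (hZc x) a
  -- the four families of bad sets
  set W₁ : ℕ → Set X := fun a =>
    ⋂ x : ↥Φ, ((closure ({x.1} : Set X))ᶜ ∪ genTd f (closure ({x.1} : Set X)) a) with hW₁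
  have hW₁c : ∀ a, IsLocallyConstructible (W₁ a) := fun a =>
    IsLocallyConstructible.iInter fun x =>
      (isLocallyConstructible_compl (hZc x.1)).union (hG x.1 a)
  set W₂ : ℕ → Set X := fun a => (fibSpec f (assDim f F a))ᶜ with hW₂
  have hW₂c : ∀ a, IsLocallyConstructible (W₂ a) := fun a =>
    isLocallyConstructible_compl (isLocallyConstructible_fibSpec_assDim' f F hF a)
  set W₃ : ↥Φ × ↥Φ → ℕ → Set X := fun p a =>
    {_ζ : X | p.1.1 ≠ p.2.1} ∩
      (closure ({p.2.1} : Set X) ∩ (genTd f (closure ({p.2.1} : Set X)) a)ᶜ) with hW₃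
  have hW₃c : ∀ p a, IsLocallyConstructible (W₃ p a) := by
    intro p a
    by_cases hp : p.1.1 ≠ p.2.1
    · have : {_ζ : X | p.1.1 ≠ p.2.1} = Set.univ := by
        ext
        simp [hp]
      rw [hW₃]
      simp only
      rw [this, Set.univ_inter]
      exact (hZc p.2.1).inter (isLocallyConstructible_compl (hG p.2.1 a))
    · have : {_ζ : X | p.1.1 ≠ p.2.1} = ∅ := by
        ext
        simp [hp]
      rw [hW₃]
      simp only
      rw [this, Set.empty_inter]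
      exact IsLocallyConstructible.empty
  set W₄ : ↥Φ → ℕ → Set X := fun x a =>
    {ζ : X | ζ ∈ embSet f F K a ↔ ¬ IsEmb f F x.1} with hW₄
  have hW₄c : ∀ x a, IsLocallyConstructible (W₄ x a) := by
    intro x a
    by_cases hx : IsEmb f F x.1
    · have : W₄ x a = (embSet f F K a)ᶜ := by
        ext ζ
        simp [hW₄, hx]
      rw [this]
      exact isLocallyConstructible_compl (isLocallyConstructible_embSet f F hF K a)
    · have : W₄ x a = embSet f F K a := by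
        ext ζ
        simp [hW₄, hx]
      rw [this]
      exact isLocallyConstructible_embSet f F hF K a
  set E : Set S := ((assSet f F W₁ ∪ ⋃ x : ↥Φ, mxSet f (closure ({x.1} : Set X)) W₂) ∪
    ⋃ p : ↥Φ × ↥Φ, mxSet f (closure ({p.1.1} : Set X)) (W₃ p)) ∪
    ⋃ x : ↥Φ, mxSet f (closure ({x.1} : Set X)) (W₄ x) with hE
  have hE1 : IsLocallyConstructible (assSet f F W₁) := isLocallyConstructible_assSet f F hF W₁ hW₁c
  have hE2 : IsLocallyConstructible (⋃ x : ↥Φ, mxSet f (closure ({x.1} : Set X)) W₂) :=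
    IsLocallyConstructible.iUnion fun x =>
        isLocallyConstructible_mxSet f _ (hZc x.1) W₂ hW₂c
  have hE3 : IsLocallyConstructible (⋃ p : ↥Φ × ↥Φ, mxSet f (closure ({p.1.1} : Set X)) (W₃ p)) :=
    IsLocallyConstructible.iUnion fun p =>
        isLocallyConstructible_mxSet f _ (hZc p.1.1) (W₃ p) (hW₃c p)
  have hE4 : IsLocallyConstructible (⋃ x : ↥Φ, mxSet f (closure ({x.1} : Set X)) (W₄ x)) :=
    IsLocallyConstructible.iUnion fun x =>
        isLocallyConstructible_mxSet f _ (hZc x.1) (W₄ x) (hW₄c x)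
  have hEc : IsLocallyConstructible E := ((hE1.union hE2).union hE3).union hE4
  -- membership in the four pieces
  have hm₁ : ∀ s : S, s ∉ E → ∀ ζ : X, f ζ = s → CInt.fiberDepth f F ζ = 0 →
      ∃ x ∈ Φ, IsMx f (closure {x}) ζ := by
    intro s hs ζ hfζ hd
    by_contra hno
    push Not at hno
    apply hs
    obtain ⟨a, -, ha, -, -⟩ := fibreDimAt_eq_add f ζ
    refine Or.inl (Or.inl (Or.inl ⟨ζ, a, hfζ, hd, ha, ?_⟩))
    rw [hW₁]
    simp only [Set.mem_iInter, Set.mem_union, Set.mem_compl_iff]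
    intro x
    have h1 := hno x.1 x.2
    rw [isMx_iff f _ ζ a ha] at h1
    by_cases hζZ : ζ ∈ closure ({x.1} : Set X)
    · right
      by_contra hg
      exact h1 ⟨hζZ, hg⟩
    · left
      exact hζZ
  have hm₂ : ∀ s : S, s ∉ E → ∀ x ∈ Φ, ∀ ζ : X, f ζ = s → IsMx f (closure {x}) ζ →
      CInt.fiberDepth f F ζ = 0 := by
    intro s hs x hx ζ hfζ hmx
    by_contra hd
    apply hs
    obtain ⟨a, -, ha, -, -⟩ := fibreDimAt_eq_add f ζ
    refine Or.inl (Or.inl (Or.inr (Set.mem_iUnion.2 ⟨⟨x, hx⟩, ?_⟩)))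
    rw [mem_mxSet_iff]
    refine ⟨ζ, a, hfζ, hmx, ha, ?_⟩
    rw [hW₂]
    simp only [Set.mem_compl_iff]
    rw [← fiberDepth_eq_zero_iff_mem_fibSpec f F ζ a ha]
    exact hd
  have hm₃ : ∀ s : S, s ∉ E → ∀ x ∈ Φ, ∀ x' ∈ Φ, x ≠ x' → ∀ ζ : X, f ζ = s →
      IsMx f (closure {x}) ζ → ¬ IsMx f (closure {x'}) ζ := by
    intro s hs x hx x' hx' hne ζ hfζ hmx hmx'
    apply hs
    obtain ⟨a, -, ha, -, -⟩ := fibreDimAt_eq_add f ζ
    refine Or.inl (Or.inr (Set.mem_iUnion.2 ⟨(⟨x, hx⟩, ⟨x', hx'⟩), ?_⟩))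
    rw [mem_mxSet_iff]
    refine ⟨ζ, a, hfζ, hmx, ha, ?_⟩
    rw [isMx_iff f _ ζ a ha] at hmx'
    rw [hW₃]
    exact ⟨hne, hmx'.1, hmx'.2⟩
  have hm₄ : ∀ s : S, s ∉ E → ∀ x ∈ Φ, ∀ ζ : X, f ζ = s → IsMx f (closure {x}) ζ →
      (IsEmb f F ζ ↔ IsEmb f F x) := by
    intro s hs x hx ζ hfζ hmx
    by_contra hiff
    apply hs
    obtain ⟨a, -, ha, -, -⟩ := fibreDimAt_eq_add f ζ
    refine Or.inr (Set.mem_iUnion.2 ⟨⟨x, hx⟩, ?_⟩)
    rw [mem_mxSet_iff]
    refine ⟨ζ, a, hfζ, hmx, ha, ?_⟩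
    rw [hW₄]
    simp only [Set.mem_ofPred_eq]
    rw [← isEmb_iff f F K hK ζ a ha]
    tauto
  -- the generic point is not in `E`
  have hηE : genericPoint S ∉ E := by
    have hgen1 : ∀ x ∈ Φ, ∀ ζ : X, f ζ = genericPoint S → IsMx f (closure {x}) ζ → ζ = x := by
      intro x hx ζ hfζ hmx
      exact eq_of_isMx_closure f x ζ (hfζ.trans ((hΦ x).1 hx).1.symm) hmx
    rintro (((h | h) | h) | h)
    · obtain ⟨ζ, a, hfζ, hd, ha, hζW⟩ := h
      have hζΦ : ζ ∈ Φ := (hΦ ζ).2 ⟨hfζ, hd⟩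
      rw [hW₁] at hζW
      simp only [Set.mem_iInter, Set.mem_union, Set.mem_compl_iff] at hζW
      have hself := isMx_closure_self f ζ
      rw [isMx_iff f _ ζ a ha] at hself
      rcases hζW ⟨ζ, hζΦ⟩ with h1 | h1
      · exact h1 hself.1
      · exact hself.2 h1
    · obtain ⟨x, hx⟩ := Set.mem_iUnion.1 h
      rw [mem_mxSet_iff] at hx
      obtain ⟨ζ, a, hfζ, hmx, ha, hζW⟩ := hx
      have hζx := hgen1 x.1 x.2 ζ hfζ hmx
      rw [hW₂] at hζW
      simp only [Set.mem_compl_iff] at hζW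
      rw [← fiberDepth_eq_zero_iff_mem_fibSpec f F ζ a ha, hζx] at hζW
      exact hζW ((hΦ x.1).1 x.2).2
    · obtain ⟨p, hp⟩ := Set.mem_iUnion.1 h
      rw [mem_mxSet_iff] at hp
      obtain ⟨ζ, a, hfζ, hmx, ha, hζW⟩ := hp
      have hζx := hgen1 p.1.1 p.1.2 ζ hfζ hmx
      rw [hW₃] at hζW
      obtain ⟨hne, h1, h2⟩ := hζW
      have hmx' : IsMx f (closure {p.2.1}) ζ := (isMx_iff f _ ζ a ha).2 ⟨h1, h2⟩
      have hζx' := hgen1 p.2.1 p.2.2 ζ hfζ hmx'
      exact hne (hζx.symm.trans hζx')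
    · obtain ⟨x, hx⟩ := Set.mem_iUnion.1 h
      rw [mem_mxSet_iff] at hx
      obtain ⟨ζ, a, hfζ, hmx, ha, hζW⟩ := hx
      have hζx := hgen1 x.1 x.2 ζ hfζ hmx
      rw [hW₄] at hζW
      simp only [Set.mem_ofPred_eq] at hζW
      rw [← isEmb_iff f F K hK ζ a ha, hζx] at hζW
      tauto
  have hgen : ∀ O : Set S, IsOpen O → O.Nonempty → genericPoint S ∈ O := by
    intro O hO hOne
    exact ((genericPoint_spec S).mem_open_set_iff hO).mpr (by simpa using hOne)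
  obtain ⟨O, hO, hηO, hOE⟩ := exists_isOpen_subset_of_isLocallyConstructible (genericPoint S) hgen
    Eᶜ (isLocallyConstructible_compl hEc) hηE
  refine ⟨⟨O, hO⟩, hηO, fun s hs => ?_⟩
  have hsE : s ∉ E := hOE hs
  refine ⟨fun ζ hfζ => ⟨hm₁ s hsE ζ hfζ, ?_⟩, hm₃ s hsE, hm₄ s hsE⟩
  rintro ⟨x, hx, hmx⟩
  exact hm₂ s hsE x hx ζ hfζ hmx

end Groth.Agent.Lib.Helper24.FibKL
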