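import Groth.Agent.Lib.Helper24.FibKL13

/-!
# Generic structure of the associated points of the fibre modules (EGA IV 9.8.3), part 3:
the fibrewise formulation (helper24)
-/

set_option autoImplicit false
universe u

namespace Groth.Agent.Lib.Helper24.FibKL

open AlgebraicGeometry CategoryTheory Topology TopologicalSpace LocCoh
  Groth.Agent.Lib.helper3.DimIneq Groth.Agent.Lib.helper3.FTField
  Groth.Agent.Lib.helper3.FibreField Groth.Agent.Lib.helper3.DimFibre
  Groth.Agent.Lib.helper3.EquidimIrr Groth.Agent.Lib.Helper24.FibEq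
  Groth.Agent.Lib.helper5.FibClos Groth.Agent.Lib.Helper24.FibDA
  Groth.Agent.Lib.Helper24.AssFib Groth.Agent.Lib.Helper24.FibMd

variable {X S : Scheme.{u}} (f : X ⟶ S)

/-- maximal points of the trace of `Z` on a fibre, in terms of the total space. -/
theorem fibre_isMx_iff (Z : Set X) (s : S) (z : f.fiber s) :
    (z ∈ ((f.fiberι s).base ⁻¹' Z) ∧ ∀ z' ∈ ((f.fiberι s).base ⁻¹' Z), z' ⤳ z → z' = z) ↔
      IsMx f Z (f.fiberι s z) := by
  have hfz : f (f.fiberι s z) = s := base_fiberι f s z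
  constructor
  · rintro ⟨h1, h2⟩
    refine ⟨h1, ?_⟩
    intro t htZ hft htz
    have htr : t ∈ Set.range (f.fiberι s) := by
      rw [f.range_fiberι s]
      exact hft.trans hfz
    obtain ⟨t', rfl⟩ := htr
    rw [h2 t' htZ ((f.fiberι s).isEmbedding.isInducing.specializes_iff.mp htz)]
  · rintro ⟨h1, h2⟩
    refine ⟨h1, ?_⟩
    intro z' hz'Z hz'
    have h3 := h2 (f.fiberι s z') hz'Z ((base_fiberι f s z').trans hfz.symm)
      (hz'.map (f.fiberι s).continuous)
    exact (f.fiberι s).isEmbedding.injective h3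

variable [LocallyOfFinitePresentation f] (F : X.Modules)

/-- maximal associated points of a fibre module, in terms of the total space. -/
theorem fibre_not_isEmb_iff (hF : CohB1.IsFP F) (s : S) (z : f.fiber s) :
    (∀ y ∈ AssSch.Ass ((Scheme.Modules.pullback (f.fiberι s)).obj F), y ⤳ z → y = z) ↔
      ¬ IsEmb f F (f.fiberι s z) := by
  have hfz : f (f.fiberι s z) = s := base_fiberι f s z
  constructor
  · rintro h ⟨y, hfy, hd, hyz, hne⟩
    have hyr : y ∈ Set.range (f.fiberι s) := by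
      rw [f.range_fiberι s]
      exact hfy.trans hfz
    obtain ⟨y', rfl⟩ := hyr
    have hy' := (fiberDepth_fiberι_eq_zero_iff f F hF s y').1 hd
    have := h y' hy' ((f.fiberι s).isEmbedding.isInducing.specializes_iff.mp hyz)
    exact hne (by rw [this])
  · intro hn y hy hyz
    by_contra hne
    apply hn
    refine ⟨f.fiberι s y, (base_fiberι f s y).trans hfz.symm,
      (fiberDepth_fiberι_eq_zero_iff f F hF s y).2 hy, hyz.map (f.fiberι s).continuous, ?_⟩
    intro e
    exact hne ((f.fiberι s).isEmbedding.injective e)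

variable [QuasiCompact f]

/-- **EGA IV 9.8.3**: generic structure of the associated points of the fibre modules. -/
theorem exists_nhd_fibre_ass_eq [IsIntegral S] [CompactSpace S] [NoetherianSpace X]
    (hF : CohB1.IsFP F) :
    ∃ U : S.Opens, genericPoint S ∈ U ∧ ∀ s ∈ U,
      (AssSch.Ass ((Scheme.Modules.pullback (f.fiberι s)).obj F) =
          ⋃ x ∈ AssSch.Ass ((Scheme.Modules.pullback (f.fiberι (genericPoint S))).obj F),
            {z : ↥(f.fiber s) | z ∈ ((f.fiberι s).base ⁻¹' closure {(f.fiberι (genericPoint S)).base x}) ∧ ∀ z' ∈ ((f.fiberι s).base ⁻¹' closure {(f.fiberι (genericPoint S)).base x}), z' ⤳ z → z' = z}) ∧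
      (∀ x ∈ AssSch.Ass ((Scheme.Modules.pullback (f.fiberι (genericPoint S))).obj F), ∀ x' ∈ AssSch.Ass ((Scheme.Modules.pullback (f.fiberι (genericPoint S))).obj F), x ≠ x' →
          Disjoint {z : ↥(f.fiber s) | z ∈ ((f.fiberι s).base ⁻¹' closure {(f.fiberι (genericPoint S)).base x}) ∧ ∀ z' ∈ ((f.fiberι s).base ⁻¹' closure {(f.fiberι (genericPoint S)).base x}), z' ⤳ z → z' = z}
            {z : ↥(f.fiber s) | z ∈ ((f.fiberι s).base ⁻¹' closure {(f.fiberι (genericPoint S)).base x'}) ∧ ∀ z' ∈ ((f.fiberι s).base ⁻¹' closure {(f.fiberι (genericPoint S)).base x'}), z' ⤳ z → z' = z}) ∧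
      (∀ x ∈ AssSch.Ass ((Scheme.Modules.pullback (f.fiberι (genericPoint S))).obj F),
        ∀ z ∈ {z : ↥(f.fiber s) | z ∈ ((f.fiberι s).base ⁻¹' closure {(f.fiberι (genericPoint S)).base x}) ∧ ∀ z' ∈ ((f.fiberι s).base ⁻¹' closure {(f.fiberι (genericPoint S)).base x}), z' ⤳ z → z' = z},
          ((∀ y ∈ AssSch.Ass ((Scheme.Modules.pullback (f.fiberι s)).obj F), y ⤳ z → y = z) ↔
            (∀ y ∈ AssSch.Ass ((Scheme.Modules.pullback (f.fiberι (genericPoint S))).obj F), y ⤳ x → y = x))) := by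
  set η := genericPoint S with hη
  haveI : IsLocallyNoetherian (f.fiber η) := isLocallyNoetherian_fiber f η
  have hfin : (AssSch.Ass ((Scheme.Modules.pullback (f.fiberι η)).obj F)).Finite :=
    finite_Ass _ (isCoh_fibre f F hF η)
  set Φ : Set X := (f.fiberι η) '' AssSch.Ass ((Scheme.Modules.pullback (f.fiberι η)).obj F)
    with hΦdef
  have hΦfin : Φ.Finite := hfin.image _
  have hΦ : ∀ x, x ∈ Φ ↔ f x = η ∧ CInt.fiberDepth f F x = 0 := by
    intro x
    constructor
    · rintro ⟨x', hx', rfl⟩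
      exact ⟨base_fiberι f η x', (fiberDepth_fiberι_eq_zero_iff f F hF η x').2 hx'⟩
    · rintro ⟨hfx, hd⟩
      have hxr : x ∈ Set.range (f.fiberι η) := by
        rw [f.range_fiberι η]
        exact hfx
      obtain ⟨x', rfl⟩ := hxr
      exact ⟨x', (fiberDepth_fiberι_eq_zero_iff f F hF η x').1 hd, rfl⟩
  obtain ⟨U, hηU, hU⟩ := exists_opens_generic_ass f F hF Φ hΦfin hΦ
  refine ⟨U, hηU, fun s hs => ?_⟩
  obtain ⟨ha, hb, hc⟩ := hU s hs
  refine ⟨?_, ?_, ?_⟩
  · ext z
    rw [Set.mem_iUnion₂]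
    constructor
    · intro hz
      have hd := (fiberDepth_fiberι_eq_zero_iff f F hF s z).2 hz
      obtain ⟨x, hxΦ, hmx⟩ := (ha (f.fiberι s z) (base_fiberι f s z)).1 hd
      obtain ⟨x', hx', rfl⟩ := hxΦ
      exact ⟨x', hx', (fibre_isMx_iff f _ s z).2 hmx⟩
    · rintro ⟨x', hx', hz⟩
      have hmx := (fibre_isMx_iff f _ s z).1 hz
      have hd := (ha (f.fiberι s z) (base_fiberι f s z)).2 ⟨f.fiberι η x', ⟨x', hx', rfl⟩, hmx⟩
      exact (fiberDepth_fiberι_eq_zero_iff f F hF s z).1 hd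
  · intro x hx x' hx' hne
    rw [Set.disjoint_left]
    intro z hz hz'
    exact hb (f.fiberι η x) ⟨x, hx, rfl⟩ (f.fiberι η x') ⟨x', hx', rfl⟩
      (fun e => hne ((f.fiberι η).isEmbedding.injective e)) (f.fiberι s z) (base_fiberι f s z)
      ((fibre_isMx_iff f _ s z).1 hz) ((fibre_isMx_iff f _ s z).1 hz')
  · intro x hx z hz
    rw [fibre_not_isEmb_iff f F hF s z, fibre_not_isEmb_iff f F hF η x, not_iff_not]
    exact hc (f.fiberι η x) ⟨x, hx, rfl⟩ (f.fiberι s z) (base_fiberι f s z)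
      ((fibre_isMx_iff f _ s z).1 hz)

end Groth.Agent.Lib.Helper24.FibKL
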