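import Groth.Agent.Lib.Helper24.FibKL1

/-!
# Fibre dimension of locally constructible subsets (helper24), part 2: EGA IV 9.5.x / 9.9.x

For `f : X ⟶ S` locally of finite presentation and `Z ⊆ X` locally constructible, the set `genTd f Z m`
of points having a generization in `Z`, in their fibre, of residue transcendence degree `> m` is locally
constructible; and for `f` moreover quasi-compact, the set of `s ∈ S` such that `Z ∩ X_s` contains a
point of residue transcendence degree `> m` is locally constructible.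
-/

set_option autoImplicit false
universe u

namespace Groth.Agent.Lib.Helper24.FibKL

open AlgebraicGeometry CategoryTheory Topology TopologicalSpace
  Groth.Agent.Lib.helper3.DimIneq Groth.Agent.Lib.helper3.FTField
  Groth.Agent.Lib.helper3.FibreField Groth.Agent.Lib.helper3.DimFibre
  Groth.Agent.Lib.helper3.EquidimIrr Groth.Agent.Lib.Helper24.FibEq
  Groth.Agent.Lib.helper5.FibClos Groth.Agent.Lib.Helper24.FibDA

/-- constructible sets are the finite unions of differences of retrocompact opens. -/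
theorem sdiff_union_induction {T : Type*} [TopologicalSpace T] {P : Set T → Prop}
    (sdiff : ∀ U V : Set T, IsOpen U → IsRetrocompact U → IsOpen V → IsRetrocompact V → P (U \ V))
    (union : ∀ s t, P s → P t → P (s ∪ t)) (s : Set T) (hs : IsConstructible s) : P s := by
  induction s, hs using BooleanSubalgebra.closure_sdiff_sup_induction with
  | isSublattice =>
    exact ⟨fun s hs t ht ↦ ⟨hs.1.union ht.1, hs.2.union ht.2⟩,
      fun s hs t ht ↦ ⟨hs.1.inter ht.1, hs.2.inter_isOpen ht.2 ht.1⟩⟩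
  | bot_mem => exact ⟨isOpen_empty, .empty⟩
  | top_mem => exact ⟨isOpen_univ, .univ⟩
  | sdiff U hU V hV => exact sdiff U V hU.1 hU.2 hV.1 hV.2
  | sup s _ t _ hs' ht' => exact union _ _ hs' ht'

section defs

variable {X S : Scheme.{u}} (f : X ⟶ S)

/-- the fibrewise specializations of the points of `A`. -/
def fibSpec (A : Set X) : Set X := {y | ∃ t ∈ A, t ⤳ y ∧ f t = f y}

theorem genTd_union (Z₁ Z₂ : Set X) (m : ℕ) :
    genTd f (Z₁ ∪ Z₂) m = genTd f Z₁ m ∪ genTd f Z₂ m := by
  ext y
  simp only [genTd, Set.mem_ofPred_eq, Set.mem_union]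
  constructor
  · rintro ⟨z, hz | hz, h⟩
    · exact Or.inl ⟨z, hz, h⟩
    · exact Or.inr ⟨z, hz, h⟩
  · rintro (⟨z, hz, h⟩ | ⟨z, hz, h⟩)
    · exact ⟨z, Or.inl hz, h⟩
    · exact ⟨z, Or.inr hz, h⟩

theorem genTd_inter_of_isOpen (C O : Set X) (hO : IsOpen O) (m : ℕ) :
    genTd f (C ∩ O) m = fibSpec f (genTd f C m ∩ O) := by
  ext y
  constructor
  · rintro ⟨z, ⟨hzC, hzO⟩, hzy, hfz, hm⟩
    exact ⟨z, ⟨⟨z, hzC, specializes_rfl, rfl, hm⟩, hzO⟩, hzy, hfz⟩
  · rintro ⟨t, ⟨⟨z, hzC, hzt, hfz, hm⟩, htO⟩, hty, hft⟩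
    exact ⟨z, ⟨hzC, hzt.mem_open hO htO⟩, hzt.trans hty, hfz.trans hft, hm⟩

/-- compatibility with open immersions into the source. -/
theorem preimage_genTd_of_isOpenImmersion {X' : Scheme.{u}} (φ : X' ⟶ X) [IsOpenImmersion φ]
    (Z : Set X) (m : ℕ) : φ ⁻¹' genTd f Z m = genTd (φ ≫ f) (φ ⁻¹' Z) m := by
  have htd : ∀ z', td ((φ ≫ f).residueFieldMap z').hom = td (f.residueFieldMap (φ z')).hom :=
    fun z' => td_comp_of_surjectiveOnStalks φ f z'
  have happ : ∀ z', (φ ≫ f) z' = f (φ z') := fun z' => by rw [Scheme.Hom.comp_apply]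
  ext x
  simp only [Set.mem_preimage, genTd, Set.mem_ofPred_eq]
  constructor
  · rintro ⟨z, hzZ, hzx, hfz, hm⟩
    have hzr : z ∈ Set.range φ := hzx.mem_open φ.isOpenEmbedding.isOpen_range ⟨x, rfl⟩
    obtain ⟨z', rfl⟩ := hzr
    refine ⟨z', hzZ, φ.isOpenEmbedding.isInducing.specializes_iff.mp hzx, ?_, ?_⟩
    · rw [happ, happ, hfz]
    · rw [htd]
      exact hm
  · rintro ⟨z', hzZ, hzx, hfz, hm⟩
    refine ⟨φ z', hzZ, hzx.map φ.continuous, ?_, ?_⟩
    · rw [← happ, ← happ, hfz]
    · rw [← htd]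
      exact hm

end defs

/-- the chart case. -/
theorem isLocallyConstructible_genTd_of_isConstructible {X' S V : Scheme.{u}} (g : X' ⟶ S)
    [LocallyOfFinitePresentation g] (h : X' ⟶ V) [LocallyOfFinitePresentation h] [QuasiCompact h]
    [QuasiSeparated h] (hgh : ∀ a b : X', g a = g b ↔ h a = h b) (Z : Set X')
    (hZ : IsConstructible Z) (m : ℕ) : IsLocallyConstructible (genTd g Z m) := by
  refine sdiff_union_induction (P := fun Z => IsLocallyConstructible (genTd g Z m)) ?_ ?_ Z hZ
  · intro U V hUo hUr hVo hVr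
    have hC : IsLocallyConstructible Vᶜ :=
      isLocallyConstructible_compl (hVr.isLocallyConstructible hVo)
    have h1 : U \ V = Vᶜ ∩ U := by rw [Set.sdiff_eq, Set.inter_comm]
    have h2 : IsLocallyConstructible (genTd g Vᶜ m ∩ U) :=
      (isLocallyConstructible_genTd g Vᶜ hVo.isClosed_compl hC m).inter
        (hUr.isLocallyConstructible hUo)
    have h3 : fibSpec g (genTd g Vᶜ m ∩ U) = fibClosure h (genTd g Vᶜ m ∩ U) := by
      ext y
      rw [mem_fibClosure_iff_exists h _ h2]
      simp only [fibSpec, Set.mem_ofPred_eq, hgh]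
    change IsLocallyConstructible (genTd g (U \ V) m)
    rw [h1, genTd_inter_of_isOpen g _ _ hUo m, h3]
    exact isLocallyConstructible_fibClosure h _ h2
  · intro s t hs ht
    rw [genTd_union]
    exact hs.union ht

set_option backward.isDefEq.respectTransparency false in
/-- **EGA IV 9.5.x/9.9.x**: for `Z` locally constructible, the set of points having a fibre-generization
in `Z` of residue transcendence degree `> m` is locally constructible. -/
theorem isLocallyConstructible_genTd_of_isLocallyConstructible {X S : Scheme.{u}} (f : X ⟶ S)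
    [LocallyOfFinitePresentation f] (Z : Set X) (hZ : IsLocallyConstructible Z) (m : ℕ) :
    IsLocallyConstructible (genTd f Z m) := by
  refine IsLocallyConstructible.of_isOpenCover
    (U := fun i : {p : S.affineOpens × X.affineOpens // p.2.1 ≤ f ⁻¹ᵁ p.1.1} => (i.1.2.1 : X.Opens))
    ?_ fun i => ?_
  · rw [TopologicalSpace.IsOpenCover, eq_top_iff]
    intro x _
    obtain ⟨_, ⟨V, hV : IsAffineOpen V, rfl⟩, hfxV, -⟩ :=
      S.isBasis_affineOpens.exists_subset_of_mem_open (Set.mem_univ (f x)) isOpen_univ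
    obtain ⟨_, ⟨U, hU : IsAffineOpen U, rfl⟩, hxU, hUV⟩ :=
      X.isBasis_affineOpens.exists_subset_of_mem_open (show x ∈ ((f ⁻¹ᵁ V : X.Opens) : Set X) from hfxV)
        (f ⁻¹ᵁ V).2
    exact TopologicalSpace.Opens.mem_iSup.mpr ⟨⟨(⟨V, hV⟩, ⟨U, hU⟩), hUV⟩, hxU⟩
  · obtain ⟨⟨⟨V, hV⟩, ⟨U, hU⟩⟩, hUV⟩ := i
    haveI : IsAffine (V : Scheme.{u}) := hV
    haveI : IsAffine (U : Scheme.{u}) := hU
    have hfac : f.resLE V U hUV ≫ V.ι = U.ι ≫ f := f.resLE_comp_ι hUV
    haveI : LocallyOfFinitePresentation (U.ι ≫ f) := inferInstance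
    haveI : LocallyOfFinitePresentation (f.resLE V U hUV ≫ V.ι) := by rw [hfac]; infer_instance
    haveI : LocallyOfFinitePresentation (f.resLE V U hUV) :=
      MorphismProperty.of_postcomp (W := @LocallyOfFinitePresentation)
        (W' := @IsOpenImmersion) (f.resLE V U hUV) V.ι inferInstance inferInstance
    have hZU : IsConstructible (U.ι ⁻¹' Z) :=
      (hZ.preimage_of_isOpenEmbedding U.ι.isOpenEmbedding).isConstructible
    have hgh : ∀ a b : ↥U, (U.ι ≫ f) a = (U.ι ≫ f) b ↔ f.resLE V U hUV a = f.resLE V U hUV b := by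
      intro a b
      rw [← hfac, Scheme.Hom.comp_apply, Scheme.Hom.comp_apply]
      exact V.ι.isOpenEmbedding.injective.eq_iff
    have h3 := isLocallyConstructible_genTd_of_isConstructible (U.ι ≫ f) (f.resLE V U hUV) hgh
      (U.ι ⁻¹' Z) hZU m
    rw [← preimage_genTd_of_isOpenImmersion] at h3
    exact h3

/-- **EGA IV 9.5.x**: for `f` locally of finite presentation and quasi-compact and `Z` locally
constructible, the set of `s` such that `Z ∩ X_s` has a point of residue transcendence degree `> m`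
is locally constructible. -/
theorem isLocallyConstructible_image_genTd {X S : Scheme.{u}} (f : X ⟶ S)
    [LocallyOfFinitePresentation f] [QuasiCompact f] (Z : Set X) (hZ : IsLocallyConstructible Z)
    (m : ℕ) :
    IsLocallyConstructible {s : S | ∃ z ∈ Z, f z = s ∧
      (m : Cardinal.{u}) < td (f.residueFieldMap z).hom} := by
  have h1 := f.isLocallyConstructible_image
    (isLocallyConstructible_genTd_of_isLocallyConstructible f Z hZ m)
  convert h1 using 1
  ext s
  constructor
  · rintro ⟨z, hzZ, hfz, hm⟩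
    exact ⟨z, ⟨z, hzZ, specializes_rfl, rfl, hm⟩, hfz⟩
  · rintro ⟨y, ⟨z, hzZ, -, hfz, hm⟩, hfy⟩
    exact ⟨z, hzZ, hfz.trans hfy, hm⟩

end Groth.Agent.Lib.Helper24.FibKL
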