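import Groth.Agent.Lib.Helper24.FibKL2
import Groth.Agent.Lib.Helper24.AssFib8

/-!
# Fibre dimension of locally constructible subsets (helper24), part 3: dimensions of the associated
points of the fibres of a finitely presented module (EGA IV 9.8.x)
-/

set_option autoImplicit false
universe u

namespace Groth.Agent.Lib.Helper24.FibKL

open AlgebraicGeometry CategoryTheory Topology TopologicalSpace LocCoh
  Groth.Agent.Lib.helper3.DimIneq Groth.Agent.Lib.helper3.FTField
  Groth.Agent.Lib.helper3.FibreField Groth.Agent.Lib.helper3.DimFibre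
  Groth.Agent.Lib.helper3.EquidimIrr Groth.Agent.Lib.Helper24.FibEq
  Groth.Agent.Lib.helper5.FibClos Groth.Agent.Lib.Helper24.FibDA
  Groth.Agent.Lib.Helper24.AssFib Groth.Agent.Lib.Helper24.FibMd

attribute [local instance] Groth.Agent.Lib.helper26.SkFlat.isLocalRing_fibLocRing

variable {X S : Scheme.{u}} (f : X ⟶ S) [LocallyOfFinitePresentation f] (F : X.Modules)

/-- a point of a fibre is an associated point of the fibre module iff the fibre stalk has depth zero. -/
theorem mem_Ass_fibre_iff_depth (hF : CohB1.IsFP F) (s : S) (z : f.fiber s) :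
    z ∈ AssSch.Ass ((Scheme.Modules.pullback (f.fiberι s)).obj F) ↔
      depth ((f.fiber s).presheaf.stalk z)
        (((Scheme.Modules.pullback (f.fiberι s)).obj F).presheaf.stalk z) = 0 := by
  haveI hF' : SheafOfModules.IsFinitePresentation (R := X.ringCatSheaf) F := hF
  haveI : F.IsQuasicoherent := SheafOfModules.instIsQuasicoherentOfIsFinitePresentation F
  obtain ⟨_, ⟨V, hV : IsAffineOpen V, rfl⟩, hfxV, -⟩ :=
    S.isBasis_affineOpens.exists_subset_of_mem_open (Set.mem_univ (f (f.fiberι s z))) isOpen_univ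
  obtain ⟨_, ⟨U, hU : IsAffineOpen U, rfl⟩, hxU, hUV'⟩ :=
    X.isBasis_affineOpens.exists_subset_of_mem_open
      (show f.fiberι s z ∈ (f ⁻¹ᵁ V : Set X) from hfxV) (f ⁻¹ᵁ V).isOpen
  have hUV : U ≤ f ⁻¹ᵁ V := hUV'
  have hfp : (f.appLE V U hUV).hom.FinitePresentation := f.finitePresentation_appLE hV hU hUV
  letI := (f.appLE V U hUV).hom.toAlgebra
  haveI hMfp : Module.FinitePresentation Γ(X, U) Γ(F, U) :=
    Groth.Agent.Lib.helper16.CohFP.fp_sections_of_isFinitePresentation F hF hU
  have hft : (f.appLE V U hUV).hom.FiniteType := RingHom.FiniteType.of_finitePresentation hfp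
  have hfin : Module.Finite Γ(X, U) Γ(F, U) := inferInstance
  obtain ⟨hd, -⟩ := depth_supportDim_fibre_stalk f F hV hU hUV hft hfin s z hxU
  rw [mem_Ass_fibre_iff f F hV hU hUV hft hfin s z hxU, hd]

theorem asFiber_mem_Ass_iff (hF : CohB1.IsFP F) (x : X) :
    f.asFiber x ∈ AssSch.Ass ((Scheme.Modules.pullback (f.fiberι (f x))).obj F) ↔
      CInt.fiberDepth f F x = 0 :=
  mem_Ass_fibre_iff_depth f F hF (f x) (f.asFiber x)

/-- the associated points of dimension `a` of the fibre modules. -/
def assDim (a : ℕ) : Set X :=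
  {x | CInt.fiberDepth f F x = 0 ∧ td (f.residueFieldMap x).hom = (a : Cardinal.{u})}

theorem mem_assDim_iff (a : ℕ) (x : X) :
    x ∈ assDim f F a ↔ rho f F x = (((a : ℕ) : ℕ∞) : WithBot ℕ∞) ∧
      (a = 0 ∨ ((a - 1 : ℕ) : Cardinal.{u}) < td (f.residueFieldMap x).hom) := by
  obtain ⟨N, hN, hr⟩ := rho_eq f F x
  unfold assDim
  rw [Set.mem_ofPred_eq, hN, hr]
  constructor
  · rintro ⟨hd, hNa⟩
    have hNa' : N = a := by exact_mod_cast hNa
    subst hNa'
    rw [hd, zero_add]
    refine ⟨rfl, ?_⟩
    rcases Nat.eq_zero_or_pos N with h0 | hpos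
    · exact Or.inl h0
    · exact Or.inr (by exact_mod_cast (by omega : N - 1 < N))
  · rintro ⟨hr', ha⟩
    have hr'' : CInt.fiberDepth f F x + (N : ℕ∞) = ((a : ℕ) : ℕ∞) := by exact_mod_cast hr'
    have hne : CInt.fiberDepth f F x ≠ ⊤ := by
      intro h
      rw [h, top_add] at hr''
      exact ENat.top_ne_natCast a hr''
    obtain ⟨d, hd⟩ := ENat.ne_top_iff_exists.mp hne
    rw [← hd] at hr'' ⊢
    have h1 : d + N = a := by exact_mod_cast hr''
    rcases ha with h0 | hlt
    · subst h0
      have hd0 : d = 0 := by omega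
      have hN0 : N = 0 := by omega
      subst hd0 hN0
      exact ⟨rfl, rfl⟩
    · have hlt' : a - 1 < N := by exact_mod_cast hlt
      have hd0 : d = 0 := by omega
      have hNa : N = a := by omega
      subst hd0 hNa
      exact ⟨rfl, rfl⟩

/-- the points of the base whose fibre module has an associated point of dimension `a`. -/
theorem setOf_exists_Ass_dim_eq (hF : CohB1.IsFP F) (a : ℕ) :
    {s : S | ∃ z : f.fiber s, z ∈ AssSch.Ass ((Scheme.Modules.pullback (f.fiberι s)).obj F) ∧
      topologicalKrullDim ↥(closure ({z} : Set ↥(f.fiber s))) = (a : WithBot ℕ∞)} =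
      f '' assDim f F a := by
  rw [setOf_exists_fiber_eq f (fun s z =>
    z ∈ AssSch.Ass ((Scheme.Modules.pullback (f.fiberι s)).obj F) ∧
      topologicalKrullDim ↥(closure ({z} : Set ↥(f.fiber s))) = (a : WithBot ℕ∞))]
  congr 1
  ext x
  rw [Set.mem_ofPred_eq, asFiber_mem_Ass_iff f F hF x]
  unfold assDim
  rw [Set.mem_ofPred_eq]
  refine and_congr_right fun _ => ?_
  obtain ⟨N, hN, -⟩ := rho_eq f F x
  have hιx : f.fiberι (f x) (f.asFiber x) = x := f.fiberι_asFiber x
  rw [dim_closure_fibre f (f x) (f.asFiber x) N (by rw [hιx]; exact hN), hN]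
  constructor
  · intro h
    have : N = a := by exact_mod_cast h
    rw [this]
  · intro h
    have : N = a := by exact_mod_cast h
    rw [this]

/-- quasi-compact opens of the base have bounded fibre dimension. -/
theorem exists_bound_fibreDimAt [QuasiCompact f] (V : Set S) (hVo : IsOpen V) (hV : IsCompact V) :
    ∃ K : ℕ, ∀ x : X, f x ∈ V → FlatMor.fibreDimAt f x ≤ (K : WithBot ℕ∞) := by
  have hc : IsCompact (f ⁻¹' V) := QuasiCompact.isCompact_preimage V hVo hV
  obtain ⟨K, hK⟩ := hc.elim_directed_cover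
    (fun K : ℕ => {x : X | FlatMor.fibreDimAt f x ≤ (K : WithBot ℕ∞)})
    (fun K => Groth.Agent.S0402.result f K)
    (fun x _ => by
      obtain ⟨K, hK⟩ := exists_nat_fibreDimAt f x
      exact Set.mem_iUnion.mpr ⟨K, hK.le⟩)
    (by
      refine Monotone.directed_le ?_
      intro K K' hKK' x hx
      have hx' : FlatMor.fibreDimAt f x ≤ (K : WithBot ℕ∞) := hx
      exact le_trans hx' (by exact_mod_cast hKK'))
  exact ⟨K, fun x hx => hK hx⟩

section qc

variable [QuasiCompact f]

theorem isLocallyConstructible_image_assDim (hF : CohB1.IsFP F) (a : ℕ) :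
    IsLocallyConstructible (f '' assDim f F a) := by
  have hG : IsLocallyConstructible {x : X | rho f F x = (((a : ℕ) : ℕ∞) : WithBot ℕ∞)} :=
    isLocallyConstructible_rho_eq f F hF a
  rcases Nat.eq_zero_or_pos a with h0 | hpos
  · subst h0
    have h1 : assDim f F 0 = {x : X | rho f F x = (((0 : ℕ) : ℕ∞) : WithBot ℕ∞)} := by
      ext x
      rw [mem_assDim_iff]
      simp
    rw [h1]
    exact f.isLocallyConstructible_image hG
  · have h1 := isLocallyConstructible_image_genTd f _ hG (a - 1)
    convert h1 using 1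
    ext s
    constructor
    · rintro ⟨x, hx, rfl⟩
      rw [mem_assDim_iff] at hx
      rcases hx.2 with h0 | hlt
      · omega
      · exact ⟨x, hx.1, rfl, hlt⟩
    · rintro ⟨z, hz, hfz, hlt⟩
      exact ⟨z, (mem_assDim_iff f F a z).mpr ⟨hz, Or.inr hlt⟩, hfz⟩

/-- **EGA IV 9.8.x**: the set of dimensions of the associated prime cycles of the fibre modules is a
locally constructible function on the base. -/
theorem isLocallyConstructible_setOf_fibre_assDims_eq (hF : CohB1.IsFP F) (Φ : Finset ℕ) :
    IsLocallyConstructible {s : S |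
      (fun z : ↥(f.fiber s) => topologicalKrullDim ↥(closure ({z} : Set ↥(f.fiber s)))) ''
          AssSch.Ass ((Scheme.Modules.pullback (f.fiberι s)).obj F) =
        (fun n : ℕ => (n : WithBot ℕ∞)) '' (Φ : Set ℕ)} := by
  have hT : ∀ a, IsLocallyConstructible (f '' assDim f F a) :=
    isLocallyConstructible_image_assDim f F hF
  have hTa : ∀ (s : S) (a : ℕ), s ∈ f '' assDim f F a ↔
      ∃ z : f.fiber s, z ∈ AssSch.Ass ((Scheme.Modules.pullback (f.fiberι s)).obj F) ∧
        topologicalKrullDim ↥(closure ({z} : Set ↥(f.fiber s))) = (a : WithBot ℕ∞) := by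
    intro s a
    rw [← setOf_exists_Ass_dim_eq f F hF a]
    rfl
  have hchar : ∀ s : S,
      ((fun z : ↥(f.fiber s) => topologicalKrullDim ↥(closure ({z} : Set ↥(f.fiber s)))) ''
          AssSch.Ass ((Scheme.Modules.pullback (f.fiberι s)).obj F) =
        (fun n : ℕ => (n : WithBot ℕ∞)) '' (Φ : Set ℕ)) ↔
      ∀ a : ℕ, (s ∈ f '' assDim f F a ↔ a ∈ Φ) := by
    intro s
    constructor
    · intro h a
      rw [hTa]
      constructor
      · rintro ⟨z, hz, hd⟩
        have h1 : ((a : ℕ) : WithBot ℕ∞) ∈ (fun n : ℕ => (n : WithBot ℕ∞)) '' (Φ : Set ℕ) := by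
          rw [← h]
          exact ⟨z, hz, hd⟩
        obtain ⟨n, hn, hna⟩ := h1
        have hna' : ((n : ℕ) : WithBot ℕ∞) = ((a : ℕ) : WithBot ℕ∞) := hna
        have h2 : n = a := by exact_mod_cast hna'
        exact h2 ▸ hn
      · intro ha
        have h1 : ((a : ℕ) : WithBot ℕ∞) ∈
            (fun z : ↥(f.fiber s) => topologicalKrullDim ↥(closure ({z} : Set ↥(f.fiber s)))) ''
              AssSch.Ass ((Scheme.Modules.pullback (f.fiberι s)).obj F) := by
          rw [h]
          exact ⟨a, ha, rfl⟩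
        obtain ⟨z, hz, hd⟩ := h1
        exact ⟨z, hz, hd⟩
    · intro h
      ext d
      constructor
      · rintro ⟨z, hz, rfl⟩
        obtain ⟨n, hn⟩ := exists_nat_dim_closure_fibre_point f s z
        exact ⟨n, (h n).mp ((hTa s n).mpr ⟨z, hz, hn⟩), hn.symm⟩
      · rintro ⟨n, hn, rfl⟩
        obtain ⟨z, hz, hd⟩ := (hTa s n).mp ((h n).mpr hn)
        exact ⟨z, hz, hd⟩
  refine IsLocallyConstructible.of_isOpenCover
    (U := fun V : S.affineOpens => (V.1 : S.Opens)) (iSup_affineOpens_eq_top S) fun V => ?_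
  obtain ⟨K, hK⟩ := exists_bound_fibreDimAt f (V.1 : Set S) V.1.isOpen V.2.isCompact
  set K' := max K (Φ.sup id) with hK'
  have hE' : IsLocallyConstructible
      (⋂ a : Fin (K' + 1), {s : S | s ∈ f '' assDim f F a ↔ (a : ℕ) ∈ Φ}) := by
    refine IsLocallyConstructible.iInter fun a => ?_
    by_cases ha : (a : ℕ) ∈ Φ
    · have : {s : S | s ∈ f '' assDim f F a ↔ (a : ℕ) ∈ Φ} = f '' assDim f F a := by
        ext s
        simp [ha]
      rw [this]
      exact hT a
    · have : {s : S | s ∈ f '' assDim f F a ↔ (a : ℕ) ∈ Φ} = (f '' assDim f F a)ᶜ := by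
        ext s
        simp [ha]
      rw [this]
      exact isLocallyConstructible_compl (hT a)
  have h1 := hE'.preimage_of_isOpenEmbedding V.1.isOpen.isOpenEmbedding_subtypeVal
  convert h1 using 1
  ext s
  simp only [Set.mem_preimage, Set.mem_ofPred_eq, Set.mem_iInter]
  rw [hchar s.1]
  constructor
  · intro h a
    exact h a
  · intro h a
    by_cases ha : a < K' + 1
    · exact h ⟨a, ha⟩
    · constructor
      · rintro ⟨x, hx, hfx⟩
        exfalso
        have h2 := hK x (by rw [hfx]; exact s.2)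
        obtain ⟨a', b, ha', -, hab⟩ := fibreDimAt_eq_add f x
        rw [hx.2] at ha'
        have h3 : a = a' := by exact_mod_cast ha'
        rw [hab] at h2
        have h4 : a' + b ≤ K := by exact_mod_cast h2
        omega
      · intro haΦ
        exfalso
        have h2 : a ≤ Φ.sup id := Finset.le_sup (f := id) haΦ
        omega

end qc

end Groth.Agent.Lib.Helper24.FibKL
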