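import Groth.Agent.Lib.Helper24.FibKL3
import Groth.Agent.Lib.Helper3.SecCompDim2

/-!
# Fibre dimension of locally constructible subsets (helper24), part 4: fibres without embedded
associated points (EGA IV 9.8.x)
-/

set_option autoImplicit false
universe u

namespace Groth.Agent.Lib.Helper24.FibKL

open AlgebraicGeometry CategoryTheory Topology TopologicalSpace LocCoh
  Groth.Agent.Lib.helper3.DimIneq Groth.Agent.Lib.helper3.FTField
  Groth.Agent.Lib.helper3.FibreField Groth.Agent.Lib.helper3.DimFibre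
  Groth.Agent.Lib.helper3.EquidimIrr Groth.Agent.Lib.Helper24.FibEq
  Groth.Agent.Lib.helper5.FibClos Groth.Agent.Lib.Helper24.FibDA
  Groth.Agent.Lib.Helper24.AssFib Groth.Agent.Lib.Helper24.FibMd

variable {X S : Scheme.{u}} (f : X ⟶ S) [LocallyOfFinitePresentation f] (F : X.Modules)

/-- a point of a fibre is an associated point of the fibre module iff the fibre depth at its image
is zero. -/
theorem fiberDepth_fiberι_eq_zero_iff (hF : CohB1.IsFP F) (s : S) (z : f.fiber s) :
    CInt.fiberDepth f F (f.fiberι s z) = 0 ↔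
      z ∈ AssSch.Ass ((Scheme.Modules.pullback (f.fiberι s)).obj F) := by
  rw [mem_Ass_fibre_iff_depth f F hF s z]
  exact Groth.Agent.Lib.Lead.FibrewiseOpen.asFiber_fiberι f s z (base_fiberι f s z)
    (fun s z => depth ((f.fiber s).presheaf.stalk z)
      (((Scheme.Modules.pullback (f.fiberι s)).obj F).presheaf.stalk z) = 0)

theorem fibSpec_assDim_eq (a : ℕ) (ha : 0 < a) :
    fibSpec f (assDim f F a) =
      genTd f {x : X | rho f F x = (((a : ℕ) : ℕ∞) : WithBot ℕ∞)} (a - 1) := by
  ext y
  constructor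
  · rintro ⟨t, ht, hty, hft⟩
    rw [mem_assDim_iff] at ht
    rcases ht.2 with h0 | hlt
    · omega
    · exact ⟨t, ht.1, hty, hft, hlt⟩
  · rintro ⟨t, ht, hty, hft, hlt⟩
    exact ⟨t, (mem_assDim_iff f F a t).mpr ⟨ht, Or.inr hlt⟩, hty, hft⟩

theorem isLocallyConstructible_fibSpec_assDim (hF : CohB1.IsFP F) (a : ℕ) (ha : 0 < a) :
    IsLocallyConstructible (fibSpec f (assDim f F a)) := by
  rw [fibSpec_assDim_eq f F a ha]
  exact isLocallyConstructible_genTd_of_isLocallyConstructible f _
    (isLocallyConstructible_rho_eq f F hF a) (a - 1)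

theorem isLocallyConstructible_image_assDim_inter [QuasiCompact f] (hF : CohB1.IsFP F) (a : ℕ)
    (W : Set X) (hW : IsLocallyConstructible W) :
    IsLocallyConstructible (f '' (assDim f F a ∩ W)) := by
  have hG : IsLocallyConstructible
      ({x : X | rho f F x = (((a : ℕ) : ℕ∞) : WithBot ℕ∞)} ∩ W) :=
    (isLocallyConstructible_rho_eq f F hF a).inter hW
  rcases Nat.eq_zero_or_pos a with h0 | hpos
  · subst h0
    have h1 : assDim f F 0 ∩ W = {x : X | rho f F x = (((0 : ℕ) : ℕ∞) : WithBot ℕ∞)} ∩ W := by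
      ext x
      rw [Set.mem_inter_iff, Set.mem_inter_iff, mem_assDim_iff]
      simp
    rw [h1]
    exact f.isLocallyConstructible_image hG
  · have h1 := isLocallyConstructible_image_genTd f _ hG (a - 1)
    convert h1 using 1
    ext s
    constructor
    · rintro ⟨x, ⟨hx, hxW⟩, rfl⟩
      rw [mem_assDim_iff] at hx
      rcases hx.2 with h0 | hlt
      · omega
      · exact ⟨x, ⟨hx.1, hxW⟩, rfl, hlt⟩
    · rintro ⟨z, ⟨hz, hzW⟩, hfz, hlt⟩
      exact ⟨z, ⟨(mem_assDim_iff f F a z).mpr ⟨hz, Or.inr hlt⟩, hzW⟩, hfz⟩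

/-- the fibre over `s` has an embedded associated point iff some associated point of dimension `a`
is a specialization, in the fibre, of an associated point of dimension `a' > a`. -/
theorem not_noEmbedded_iff (hF : CohB1.IsFP F) (s : S) :
    ¬ AssSch.NoEmbedded ((Scheme.Modules.pullback (f.fiberι s)).obj F) ↔
      ∃ a a' : ℕ, a < a' ∧ s ∈ f '' (assDim f F a ∩ fibSpec f (assDim f F a')) := by
  unfold AssSch.NoEmbedded
  push Not
  constructor
  · rintro ⟨x', hx', y', hy', hyx, hne⟩
    have hx0 := (fiberDepth_fiberι_eq_zero_iff f F hF s x').mpr hx'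
    have hy0 := (fiberDepth_fiberι_eq_zero_iff f F hF s y').mpr hy'
    have hfx : f (f.fiberι s x') = s := base_fiberι f s x'
    have hfy : f (f.fiberι s y') = s := base_fiberι f s y'
    have hsp : f.fiberι s y' ⤳ f.fiberι s x' := hyx.map (f.fiberι s).continuous
    have hne' : f.fiberι s y' ≠ f.fiberι s x' := fun h =>
      hne ((f.fiberι s).isEmbedding.injective h).symm
    have hlt := Groth.Agent.Lib.helper3.SecCompDim.td_lt_of_specializes_of_ne f (f.fiberι s x')
      (f.fiberι s y') hsp (hfy.trans hfx.symm) hne'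
    obtain ⟨a, -, ha, -, -⟩ := fibreDimAt_eq_add f (f.fiberι s x')
    obtain ⟨a', -, ha', -, -⟩ := fibreDimAt_eq_add f (f.fiberι s y')
    rw [ha, ha'] at hlt
    refine ⟨a, a', by exact_mod_cast hlt, f.fiberι s x', ⟨⟨hx0, ha⟩, ?_⟩, hfx⟩
    exact ⟨f.fiberι s y', ⟨hy0, ha'⟩, hsp, hfy.trans hfx.symm⟩
  · rintro ⟨a, a', haa', x, ⟨hx, t, ht, htx, hft⟩, hfx⟩
    have hxr : x ∈ Set.range (f.fiberι s) := by
      rw [f.range_fiberι s]
      exact hfx
    have htr : t ∈ Set.range (f.fiberι s) := by
      rw [f.range_fiberι s]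
      exact hft.trans hfx
    obtain ⟨x', rfl⟩ := hxr
    obtain ⟨t', rfl⟩ := htr
    refine ⟨x', (fiberDepth_fiberι_eq_zero_iff f F hF s x').mp hx.1, t',
      (fiberDepth_fiberι_eq_zero_iff f F hF s t').mp ht.1,
      (f.fiberι s).isEmbedding.isInducing.specializes_iff.mp htx, ?_⟩
    intro h
    subst h
    have h1 := hx.2
    rw [ht.2] at h1
    have h2 : a' = a := by exact_mod_cast h1
    omega

/-- **EGA IV 9.8.x**: the set of points of the base over which the fibre module has no embedded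
associated point is locally constructible. -/
theorem isLocallyConstructible_setOf_fibre_noEmbedded [QuasiCompact f] (hF : CohB1.IsFP F) :
    IsLocallyConstructible
      {s : S | AssSch.NoEmbedded ((Scheme.Modules.pullback (f.fiberι s)).obj F)} := by
  refine IsLocallyConstructible.of_isOpenCover
    (U := fun V : S.affineOpens => (V.1 : S.Opens)) (iSup_affineOpens_eq_top S) fun V => ?_
  obtain ⟨K, hK⟩ := exists_bound_fibreDimAt f (V.1 : Set S) V.1.isOpen V.2.isCompact
  have hB : IsLocallyConstructible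
      (⋃ p : Fin (K + 1) × Fin (K + 1), {s : S | (p.1 : ℕ) < (p.2 : ℕ) ∧
        s ∈ f '' (assDim f F p.1 ∩ fibSpec f (assDim f F p.2))}) := by
    refine IsLocallyConstructible.iUnion fun p => ?_
    by_cases hp : (p.1 : ℕ) < (p.2 : ℕ)
    · have h1 : {s : S | (p.1 : ℕ) < (p.2 : ℕ) ∧
          s ∈ f '' (assDim f F p.1 ∩ fibSpec f (assDim f F p.2))} =
          f '' (assDim f F p.1 ∩ fibSpec f (assDim f F p.2)) := by
        ext s
        simp [hp]
      rw [h1]
      exact isLocallyConstructible_image_assDim_inter f F hF _ _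
        (isLocallyConstructible_fibSpec_assDim f F hF _ (by omega))
    · have h1 : {s : S | (p.1 : ℕ) < (p.2 : ℕ) ∧
          s ∈ f '' (assDim f F p.1 ∩ fibSpec f (assDim f F p.2))} = ∅ := by
        ext s
        simp [hp]
      rw [h1]
      exact IsLocallyConstructible.empty
  have h1 := (isLocallyConstructible_compl hB).preimage_of_isOpenEmbedding
    V.1.isOpen.isOpenEmbedding_subtypeVal
  convert h1 using 1
  ext s
  simp only [Set.mem_preimage, Set.mem_ofPred_eq, Set.mem_compl_iff, Set.mem_iUnion]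
  rw [← not_iff_not, not_not, not_noEmbedded_iff f F hF s.1]
  constructor
  · rintro ⟨a, a', haa', hs⟩
    obtain ⟨x, ⟨hx, t, ht, htx, hft⟩, hfx⟩ := hs
    have h2 := hK t (by rw [hft, hfx]; exact s.2)
    obtain ⟨a'', b, ha'', -, hab⟩ := fibreDimAt_eq_add f t
    rw [ht.2] at ha''
    have h3 : a' = a'' := by exact_mod_cast ha''
    rw [hab] at h2
    have h4 : a'' + b ≤ K := by exact_mod_cast h2
    exact ⟨(⟨a, by omega⟩, ⟨a', by omega⟩), haa', x, ⟨hx, t, ht, htx, hft⟩, hfx⟩
  · rintro ⟨p, hp, hs⟩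
    exact ⟨p.1, p.2, hp, hs⟩

end Groth.Agent.Lib.Helper24.FibKL
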