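import Groth.Agent.Lib.Helper24.FibKL4

/-!
# Fibre dimension of locally constructible subsets (helper24), part 5: dimensions of the irreducible
components of the supports of the fibre modules (EGA IV 9.8.x)
-/

set_option autoImplicit false
universe u

namespace Groth.Agent.Lib.Helper24.FibKL

open AlgebraicGeometry CategoryTheory Topology TopologicalSpace LocCoh
  Groth.Agent.Lib.helper3.DimIneq Groth.Agent.Lib.helper3.FTField
  Groth.Agent.Lib.helper3.FibreField Groth.Agent.Lib.helper3.DimFibre
  Groth.Agent.Lib.helper3.EquidimIrr Groth.Agent.Lib.Helper24.FibEq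
  Groth.Agent.Lib.helper5.FibClos Groth.Agent.Lib.Helper24.FibDA
  Groth.Agent.Lib.Helper24.AssFib Groth.Agent.Lib.Helper24.FibMd

variable {X S : Scheme.{u}} (f : X ⟶ S) [LocallyOfFinitePresentation f] (F : X.Modules)

/-- the fibre stalk is nonzero iff its depth is finite. -/
theorem nontrivial_iff_fiberDepth_ne_top (hF : CohB1.IsFP F) (x : X) :
    Nontrivial (((Scheme.Modules.pullback (f.fiberι (f.base x))).obj F).presheaf.stalk
      (f.asFiber x)) ↔ CInt.fiberDepth f F x ≠ ⊤ := by
  constructor
  · intro hnt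
    have hnt' : ¬ Subsingleton
        (((Scheme.Modules.pullback (f.fiberι (f.base x))).obj F).presheaf.stalk (f.asFiber x)) :=
      not_subsingleton_iff_nontrivial.mpr hnt
    have h1 := Groth.Agent.Lib.Helper24.FibMd.fibre_depth_le_supportDim f F hF x hnt'
    have h2 := h1.trans (Module.supportDim_le_ringKrullDim _ _)
    obtain ⟨a, b, -, hb, -⟩ := fibreDimAt_eq_add f x
    intro htop
    have h3 : ((CInt.fiberDepth f F x : ℕ∞) : WithBot ℕ∞) ≤ ((b : ℕ) : WithBot ℕ∞) := by
      rw [← hb]
      exact h2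
    have h4 : CInt.fiberDepth f F x ≤ ((b : ℕ) : ℕ∞) := by exact_mod_cast h3
    rw [htop] at h4
    exact absurd h4 (by simp)
  · intro hne
    by_contra hnt
    rw [not_nontrivial_iff_subsingleton] at hnt
    apply hne
    exact Groth.Agent.Lib.helper26.Depth.idealDepth_eq_top_of_smul_top_eq_top _ _
      (Subsingleton.elim _ _)

/-- points of residue transcendence degree zero are closed in their fibre. -/
theorem fibSpec_assDim_zero : fibSpec f (assDim f F 0) = assDim f F 0 := by
  ext y
  constructor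
  · rintro ⟨t, ht, hty, hft⟩
    by_cases hne : t = y
    · exact hne ▸ ht
    · exfalso
      have hlt := Groth.Agent.Lib.helper3.SecCompDim.td_lt_of_specializes_of_ne f y t hty hft hne
      rw [ht.2] at hlt
      simp at hlt
  · intro hy
    exact ⟨y, hy, specializes_rfl, rfl⟩

theorem isLocallyConstructible_fibSpec_assDim' (hF : CohB1.IsFP F) (a : ℕ) :
    IsLocallyConstructible (fibSpec f (assDim f F a)) := by
  rcases Nat.eq_zero_or_pos a with h0 | hpos
  · subst h0
    rw [fibSpec_assDim_zero]
    have h1 : assDim f F 0 = {x : X | rho f F x = (((0 : ℕ) : ℕ∞) : WithBot ℕ∞)} := by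
      ext x
      rw [mem_assDim_iff]
      simp
    rw [h1]
    exact isLocallyConstructible_rho_eq f F hF _
  · exact isLocallyConstructible_fibSpec_assDim f F hF a hpos

/-- the support of the fibre modules, as a subset of `X`. -/
theorem isLocallyConstructible_setOf_fiberDepth_ne_top (hF : CohB1.IsFP F) :
    IsLocallyConstructible {x : X | CInt.fiberDepth f F x ≠ ⊤} := by
  have h1 : {x : X | CInt.fiberDepth f F x ≠ ⊤} =
      {x : X | rho f F x = (((⊤ : ℕ∞)) : WithBot ℕ∞)}ᶜ := by
    ext x
    obtain ⟨N, -, hr⟩ := rho_eq f F x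
    rw [Set.mem_compl_iff, Set.mem_ofPred_eq, Set.mem_ofPred_eq, hr, not_iff_not]
    constructor
    · intro h
      rw [h, top_add]
    · intro h
      have h' : CInt.fiberDepth f F x + (N : ℕ∞) = ⊤ := by exact_mod_cast h
      by_contra hne
      obtain ⟨d, hd⟩ := ENat.ne_top_iff_exists.mp hne
      rw [← hd] at h'
      exact absurd h' (by
        have : ((d : ℕ∞) + (N : ℕ∞)) = ((d + N : ℕ) : ℕ∞) := by push_cast; rfl
        rw [this]
        exact ENat.natCast_ne_top _)
  rw [h1]
  exact isLocallyConstructible_compl (isLocallyConstructible_rho_eq f F hF ⊤)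

/-- the points through which all associated cycles of the fibre have dimension `n`. -/
theorem through_iff (hF : CohB1.IsFP F) (n : ℕ) (x : X) :
    (∀ z ∈ AssSch.Ass ((Scheme.Modules.pullback (f.fiberι (f x))).obj F),
      f.asFiber x ∈ closure {z} → ∃ n' ∈ ({n} : Finset ℕ),
        topologicalKrullDim ↥(closure ({z} : Set ↥(f.fiber (f x)))) = (n' : WithBot ℕ∞)) ↔
      ∀ a : ℕ, a ≠ n → x ∉ fibSpec f (assDim f F a) := by
  have hιx : f.fiberι (f x) (f.asFiber x) = x := f.fiberι_asFiber x
  constructor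
  · rintro h a han ⟨t, ht, htx, hft⟩
    have htr : t ∈ Set.range (f.fiberι (f x)) := by
      rw [f.range_fiberι (f x)]
      exact hft
    obtain ⟨t', rfl⟩ := htr
    have ht' := (fiberDepth_fiberι_eq_zero_iff f F hF (f x) t').mp ht.1
    have hsp : t' ⤳ f.asFiber x := by
      rw [← (f.fiberι (f x)).isEmbedding.isInducing.specializes_iff, hιx]
      exact htx
    obtain ⟨n', hn', hd⟩ := h t' ht' (specializes_iff_mem_closure.mp hsp)
    rw [Finset.mem_singleton] at hn'
    subst hn'
    rw [dim_closure_fibre f (f x) t' a ht.2] at hd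
    have : a = n' := by exact_mod_cast hd
    exact han this
  · intro h z hz hxz
    have hsp : z ⤳ f.asFiber x := specializes_iff_mem_closure.mpr hxz
    have hz0 := (fiberDepth_fiberι_eq_zero_iff f F hF (f x) z).mpr hz
    obtain ⟨a, -, ha, -, -⟩ := fibreDimAt_eq_add f (f.fiberι (f x) z)
    have hmem : x ∈ fibSpec f (assDim f F a) := by
      refine ⟨f.fiberι (f x) z, ⟨hz0, ha⟩, ?_, base_fiberι f (f x) z⟩
      have := hsp.map (f.fiberι (f x)).continuous
      rwa [hιx] at this
    have han : a = n := by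
      by_contra hne
      exact h a hne hmem
    subst han
    exact ⟨a, Finset.mem_singleton_self a, dim_closure_fibre f (f x) z a ha⟩

/-- the set of points of the base over which the support of the fibre module has an irreducible
component of dimension `n`. -/
theorem setOf_exists_component_dim_eq (hF : CohB1.IsFP F) (n : ℕ) :
    {s : S | ∃ Z ∈ irreducibleComponents ↥{z : ↥(f.fiber s) |
        Nontrivial (((Scheme.Modules.pullback (f.fiberι s)).obj F).presheaf.stalk z)},
      topologicalKrullDim ↥Z = (n : WithBot ℕ∞)} =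
    f '' {x : X | CInt.fiberDepth f F x ≠ ⊤ ∧ ∀ a : ℕ, a ≠ n → x ∉ fibSpec f (assDim f F a)} := by
  have h1 : {s : S | ∃ Z ∈ irreducibleComponents ↥{z : ↥(f.fiber s) |
        Nontrivial (((Scheme.Modules.pullback (f.fiberι s)).obj F).presheaf.stalk z)},
      topologicalKrullDim ↥Z = (n : WithBot ℕ∞)} =
      {s : S | ∃ w : ↥(f.fiber s),
        Nontrivial (((Scheme.Modules.pullback (f.fiberι s)).obj F).presheaf.stalk w) ∧
        ∀ z ∈ AssSch.Ass ((Scheme.Modules.pullback (f.fiberι s)).obj F), w ∈ closure {z} →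
          ∃ n' ∈ ({n} : Finset ℕ),
            topologicalKrullDim ↥(closure ({z} : Set ↥(f.fiber s))) = (n' : WithBot ℕ∞)} := by
    ext s
    exact exists_component_dim_eq_iff f F hF s n
  rw [h1, setOf_exists_fiber_eq f (fun s w =>
    Nontrivial (((Scheme.Modules.pullback (f.fiberι s)).obj F).presheaf.stalk w) ∧
    ∀ z ∈ AssSch.Ass ((Scheme.Modules.pullback (f.fiberι s)).obj F), w ∈ closure {z} →
      ∃ n' ∈ ({n} : Finset ℕ),
        topologicalKrullDim ↥(closure ({z} : Set ↥(f.fiber s))) = (n' : WithBot ℕ∞))]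
  congr 1
  ext x
  rw [Set.mem_ofPred_eq, Set.mem_ofPred_eq, through_iff f F hF n x]
  exact and_congr_left fun _ => nontrivial_iff_fiberDepth_ne_top f F hF x

/-- the bounded version of the set of points through which all associated cycles have dimension
`n`. -/
def throughSet (K n : ℕ) : Set X :=
  {x : X | CInt.fiberDepth f F x ≠ ⊤} ∩
    ⋂ a : Fin (K + 1), {x : X | (a : ℕ) ≠ n → x ∉ fibSpec f (assDim f F a)}

theorem isLocallyConstructible_throughSet (hF : CohB1.IsFP F) (K n : ℕ) :
    IsLocallyConstructible (throughSet f F K n) := by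
  refine (isLocallyConstructible_setOf_fiberDepth_ne_top f F hF).inter
    (IsLocallyConstructible.iInter fun a => ?_)
  by_cases ha : (a : ℕ) ≠ n
  · have h1 : {x : X | (a : ℕ) ≠ n → x ∉ fibSpec f (assDim f F a)} =
        (fibSpec f (assDim f F a))ᶜ := by
      ext x
      simp [ha]
    rw [h1]
    exact isLocallyConstructible_compl (isLocallyConstructible_fibSpec_assDim' f F hF a)
  · have h1 : {x : X | (a : ℕ) ≠ n → x ∉ fibSpec f (assDim f F a)} = Set.univ := by
      ext x
      simp [ha]
    rw [h1]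
    exact IsLocallyConstructible.univ

theorem mem_throughSet_iff (K n : ℕ) (x : X) (hK : FlatMor.fibreDimAt f x ≤ (K : WithBot ℕ∞)) :
    x ∈ throughSet f F K n ↔
      CInt.fiberDepth f F x ≠ ⊤ ∧ ∀ a : ℕ, a ≠ n → x ∉ fibSpec f (assDim f F a) := by
  unfold throughSet
  rw [Set.mem_inter_iff, Set.mem_iInter]
  refine and_congr_right fun _ => ?_
  constructor
  · intro h a han
    by_cases haK : a < K + 1
    · exact h ⟨a, haK⟩ han
    · rintro ⟨t, ht, htx, hft⟩
      have h2 := (fibreDimAt_le_of_specializes f htx).trans hK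
      obtain ⟨a', b, ha', -, hab⟩ := fibreDimAt_eq_add f t
      rw [ht.2] at ha'
      have h3 : a = a' := by exact_mod_cast ha'
      rw [hab] at h2
      have h4 : a' + b ≤ K := by exact_mod_cast h2
      omega
  · intro h a
    exact h a

section qc

variable [QuasiCompact f]

/-- **EGA IV 9.8.x**: the set of dimensions of the irreducible components of the supports of the fibre
modules is a locally constructible function on the base. -/
theorem isLocallyConstructible_setOf_fibre_supportComponentDims_eq (hF : CohB1.IsFP F)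
    (Φ : Finset ℕ) :
    IsLocallyConstructible {s : S |
      (fun Z : Set ↥(CohB1.support ((Scheme.Modules.pullback (f.fiberι s)).obj F)) =>
          topologicalKrullDim ↥Z) ''
          irreducibleComponents ↥(CohB1.support ((Scheme.Modules.pullback (f.fiberι s)).obj F)) =
        (fun n : ℕ => (n : WithBot ℕ∞)) '' (Φ : Set ℕ)} := by
  have hsupp : ∀ s : S, CohB1.support ((Scheme.Modules.pullback (f.fiberι s)).obj F) =
      {z : ↥(f.fiber s) |
        Nontrivial (((Scheme.Modules.pullback (f.fiberι s)).obj F).presheaf.stalk z)} := by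
    intro s
    ext z
    exact not_subsingleton_iff_nontrivial
  have hCn : ∀ (s : S) (n : ℕ),
      (∃ Z ∈ irreducibleComponents ↥{z : ↥(f.fiber s) |
        Nontrivial (((Scheme.Modules.pullback (f.fiberι s)).obj F).presheaf.stalk z)},
      topologicalKrullDim ↥Z = (n : WithBot ℕ∞)) ↔
      s ∈ f '' {x : X | CInt.fiberDepth f F x ≠ ⊤ ∧
        ∀ a : ℕ, a ≠ n → x ∉ fibSpec f (assDim f F a)} := by
    intro s n
    rw [← setOf_exists_component_dim_eq f F hF n]
    rfl
  have hnat : ∀ (s : S) (Z : Set ↥{z : ↥(f.fiber s) |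
        Nontrivial (((Scheme.Modules.pullback (f.fiberι s)).obj F).presheaf.stalk z)}),
      Z ∈ irreducibleComponents ↥{z : ↥(f.fiber s) |
        Nontrivial (((Scheme.Modules.pullback (f.fiberι s)).obj F).presheaf.stalk z)} →
      ∃ n : ℕ, topologicalKrullDim ↥Z = (n : WithBot ℕ∞) ∧
        ∃ ζ : ↥(f.fiber s), td (f.residueFieldMap (f.fiberι s ζ)).hom = (n : Cardinal.{u}) := by
    intro s Z hZ
    have hcl := isClosed_fibreSupport f F hF s
    obtain ⟨ζ, -, -, hζZ⟩ := exists_generic_of_mem_irreducibleComponents hcl Z hZ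
    obtain ⟨N, -, hN, -, -⟩ := fibreDimAt_eq_add f (f.fiberι s ζ)
    refine ⟨N, ?_, ζ, hN⟩
    rw [topologicalKrullDim_eq_of_image_eq Z _ hζZ]
    exact dim_closure_fibre f s ζ N hN
  have hchar : ∀ s : S,
      ((fun Z : Set ↥(CohB1.support ((Scheme.Modules.pullback (f.fiberι s)).obj F)) =>
          topologicalKrullDim ↥Z) ''
          irreducibleComponents ↥(CohB1.support ((Scheme.Modules.pullback (f.fiberι s)).obj F)) =
        (fun n : ℕ => (n : WithBot ℕ∞)) '' (Φ : Set ℕ)) ↔
      ∀ n : ℕ, (s ∈ f '' {x : X | CInt.fiberDepth f F x ≠ ⊤ ∧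
        ∀ a : ℕ, a ≠ n → x ∉ fibSpec f (assDim f F a)} ↔ n ∈ Φ) := by
    intro s
    rw [hsupp s]
    constructor
    · intro h n
      rw [← hCn]
      constructor
      · rintro ⟨Z, hZ, hd⟩
        have h1 : ((n : ℕ) : WithBot ℕ∞) ∈ (fun n : ℕ => (n : WithBot ℕ∞)) '' (Φ : Set ℕ) := by
          rw [← h]
          exact ⟨Z, hZ, hd⟩
        obtain ⟨n', hn', hna⟩ := h1
        have hna' : ((n' : ℕ) : WithBot ℕ∞) = ((n : ℕ) : WithBot ℕ∞) := hna
        have h2 : n' = n := by exact_mod_cast hna'
        exact h2 ▸ hn'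
      · intro hn
        have h1 : ((n : ℕ) : WithBot ℕ∞) ∈
            (fun Z : Set ↥{z : ↥(f.fiber s) |
              Nontrivial (((Scheme.Modules.pullback (f.fiberι s)).obj F).presheaf.stalk z)} =>
              topologicalKrullDim ↥Z) '' irreducibleComponents ↥{z : ↥(f.fiber s) |
              Nontrivial (((Scheme.Modules.pullback (f.fiberι s)).obj F).presheaf.stalk z)} := by
          rw [h]
          exact ⟨n, hn, rfl⟩
        obtain ⟨Z, hZ, hd⟩ := h1
        exact ⟨Z, hZ, hd⟩
    · intro h
      ext d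
      constructor
      · rintro ⟨Z, hZ, rfl⟩
        obtain ⟨n, hn, -⟩ := hnat s Z hZ
        exact ⟨n, (h n).mp ((hCn s n).mp ⟨Z, hZ, hn⟩), hn.symm⟩
      · rintro ⟨n, hn, rfl⟩
        obtain ⟨Z, hZ, hd⟩ := (hCn s n).mpr ((h n).mpr hn)
        exact ⟨Z, hZ, hd⟩
  refine IsLocallyConstructible.of_isOpenCover
    (U := fun V : S.affineOpens => (V.1 : S.Opens)) (iSup_affineOpens_eq_top S) fun V => ?_
  obtain ⟨K, hK⟩ := exists_bound_fibreDimAt f (V.1 : Set S) V.1.isOpen V.2.isCompact
  set K' := max K (Φ.sup id) with hK'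
  have hE' : IsLocallyConstructible
      (⋂ n : Fin (K' + 1), {s : S | s ∈ f '' throughSet f F K n ↔ (n : ℕ) ∈ Φ}) := by
    refine IsLocallyConstructible.iInter fun n => ?_
    have hT := f.isLocallyConstructible_image (isLocallyConstructible_throughSet f F hF K n)
    by_cases hn : (n : ℕ) ∈ Φ
    · have : {s : S | s ∈ f '' throughSet f F K n ↔ (n : ℕ) ∈ Φ} = f '' throughSet f F K n := by
        ext s
        simp [hn]
      rw [this]
      exact hT
    · have : {s : S | s ∈ f '' throughSet f F K n ↔ (n : ℕ) ∈ Φ} =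
          (f '' throughSet f F K n)ᶜ := by
        ext s
        simp [hn]
      rw [this]
      exact isLocallyConstructible_compl hT
  have h1 := hE'.preimage_of_isOpenEmbedding V.1.isOpen.isOpenEmbedding_subtypeVal
  convert h1 using 1
  ext s
  simp only [Set.mem_preimage, Set.mem_ofPred_eq, Set.mem_iInter]
  rw [hchar s.1]
  have himg : ∀ n : ℕ, s.1 ∈ f '' {x : X | CInt.fiberDepth f F x ≠ ⊤ ∧
        ∀ a : ℕ, a ≠ n → x ∉ fibSpec f (assDim f F a)} ↔ s.1 ∈ f '' throughSet f F K n := by
    intro n
    constructor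
    · rintro ⟨x, hx, hfx⟩
      exact ⟨x, (mem_throughSet_iff f F K n x (hK x (by rw [hfx]; exact s.2))).mpr hx, hfx⟩
    · rintro ⟨x, hx, hfx⟩
      exact ⟨x, (mem_throughSet_iff f F K n x (hK x (by rw [hfx]; exact s.2))).mp hx, hfx⟩
  constructor
  · intro h n
    rw [← himg]
    exact h n
  · intro h n
    by_cases hn : n < K' + 1
    · rw [himg]
      exact h ⟨n, hn⟩
    · constructor
      · intro hs
        exfalso
        obtain ⟨Z, hZ, hd⟩ := (hCn s.1 n).mpr hs
        obtain ⟨n', hn', ζ, hζ⟩ := hnat s.1 Z hZ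
        rw [hd] at hn'
        have h3 : n = n' := by exact_mod_cast hn'
        have h2 := hK (f.fiberι s.1 ζ) (by rw [base_fiberι f s.1 ζ]; exact s.2)
        obtain ⟨a', b, ha', -, hab⟩ := fibreDimAt_eq_add f (f.fiberι s.1 ζ)
        rw [hζ] at ha'
        have h5 : n' = a' := by exact_mod_cast ha'
        rw [hab] at h2
        have h4 : a' + b ≤ K := by exact_mod_cast h2
        omega
      · intro hnΦ
        exfalso
        have h2 : n ≤ Φ.sup id := Finset.le_sup (f := id) hnΦ
        omega

end qc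

end Groth.Agent.Lib.Helper24.FibKL
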