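import Groth.Agent.Lib.Helper24.FibKL5

/-!
# Fibre dimension of locally constructible subsets (helper24), part 6: generic consequences

* `exists_isOpen_subset_of_isLocallyConstructible`: a locally constructible subset containing a point
  which lies in every nonempty open subset contains an open neighbourhood of that point.
* `exists_nhd_forall_fibre_noEmbedded_of_generic` (EGA IV 9.8.x).
-/

set_option autoImplicit false
universe u

namespace Groth.Agent.Lib.Helper24.FibKL

open AlgebraicGeometry CategoryTheory Topology TopologicalSpace LocCoh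

theorem exists_isOpen_subset_of_isConstructible {T : Type*} [TopologicalSpace T] (η : T)
    (hη : ∀ O : Set T, IsOpen O → O.Nonempty → η ∈ O) (E : Set T) (hE : IsConstructible E)
    (hηE : η ∈ E) : ∃ O : Set T, IsOpen O ∧ η ∈ O ∧ O ⊆ E := by
  revert hηE
  refine sdiff_union_induction (P := fun E => η ∈ E → ∃ O : Set T, IsOpen O ∧ η ∈ O ∧ O ⊆ E)
    ?_ ?_ E hE
  · intro U V hUo _ hVo _ hmem
    have hVe : V = ∅ := by
      by_contra hne
      exact hmem.2 (hη V hVo (Set.nonempty_iff_ne_empty.mpr hne))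
    refine ⟨U, hUo, hmem.1, ?_⟩
    rw [hVe, Set.sdiff_empty]
  · intro s t hs ht hmem
    rcases hmem with h | h
    · obtain ⟨O, hO, hηO, hOs⟩ := hs h
      exact ⟨O, hO, hηO, hOs.trans Set.subset_union_left⟩
    · obtain ⟨O, hO, hηO, hOt⟩ := ht h
      exact ⟨O, hO, hηO, hOt.trans Set.subset_union_right⟩

theorem exists_isOpen_subset_of_isLocallyConstructible {T : Type*} [TopologicalSpace T] (η : T)
    (hη : ∀ O : Set T, IsOpen O → O.Nonempty → η ∈ O) (E : Set T)
    (hE : IsLocallyConstructible E) (hηE : η ∈ E) : ∃ O : Set T, IsOpen O ∧ η ∈ O ∧ O ⊆ E := by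
  obtain ⟨U, hUη, hUo, hUc⟩ := hE η
  have hηU : η ∈ U := mem_of_mem_nhds hUη
  have hη' : ∀ O : Set ↥U, IsOpen O → O.Nonempty → (⟨η, hηU⟩ : ↥U) ∈ O := by
    intro O hO hOne
    have h1 : IsOpen (Subtype.val '' O) := hUo.isOpenMap_subtype_val O hO
    have h2 := hη _ h1 (hOne.image _)
    obtain ⟨w, hw, hwη⟩ := h2
    have : w = ⟨η, hηU⟩ := Subtype.ext hwη
    rwa [this] at hw
  obtain ⟨O, hO, hηO, hOE⟩ := exists_isOpen_subset_of_isConstructible (⟨η, hηU⟩ : ↥U) hη' _ hUc hηE
  refine ⟨Subtype.val '' O, hUo.isOpenMap_subtype_val O hO, ⟨_, hηO, rfl⟩, ?_⟩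
  rintro _ ⟨w, hw, rfl⟩
  exact hOE hw

/-- **EGA IV 9.8.x**: if the generic fibre has no embedded associated point, the same holds over a
neighbourhood of the generic point. -/
theorem exists_nhd_forall_fibre_noEmbedded_of_generic {X S : Scheme.{u}} [IsIntegral S]
    [IsNoetherian S] (f : X ⟶ S) [LocallyOfFiniteType f] [QuasiCompact f]
    (F : X.Modules) (hF : CohB1.IsFP F)
    (hη : AssSch.NoEmbedded ((Scheme.Modules.pullback (f.fiberι (genericPoint S))).obj F)) :
    ∃ U : S.Opens, genericPoint S ∈ U ∧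
      ∀ s ∈ U, AssSch.NoEmbedded ((Scheme.Modules.pullback (f.fiberι s)).obj F) := by
  haveI : LocallyOfFinitePresentation f := by
    rw [HasRingHomProperty.iff_appLE (P := @LocallyOfFinitePresentation)]
    intro U V e
    have := IsLocallyNoetherian.component_noetherian U
    exact RingHom.FinitePresentation.of_finiteType.mp (f.finiteType_appLE U.2 V.2 e)
  have hE := isLocallyConstructible_setOf_fibre_noEmbedded f F hF
  have hgen : ∀ O : Set S, IsOpen O → O.Nonempty → genericPoint S ∈ O := by
    intro O hO hOne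
    exact ((genericPoint_spec S).mem_open_set_iff hO).mpr (by simpa using hOne)
  obtain ⟨O, hO, hηO, hOE⟩ := exists_isOpen_subset_of_isLocallyConstructible (genericPoint S) hgen _
    hE hη
  exact ⟨⟨O, hO⟩, hηO, fun s hs => hOE hs⟩

end Groth.Agent.Lib.Helper24.FibKL
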