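import Groth.Agent.Lib.Helper24.FibKL6
import Groth.Prelude.Def_MoreMor

/-!
# Fibre dimension of locally constructible subsets (helper24), part 7: the relative assassin

* `mem_relAss_iff`: a point belongs to the relative assassin iff the fibre depth there is zero.
* `isLocallyConstructible_relAss_fibre_subset_open_locus` (EGA IV 9.8.3-type).
-/

set_option autoImplicit false
universe u

namespace Groth.Agent.Lib.Helper24.FibKL

open AlgebraicGeometry CategoryTheory Topology TopologicalSpace LocCoh IsLocalRing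
  Groth.Agent.Lib.helper17.FibreStalk Groth.Agent.Lib.helper17.StalkPullback
  Groth.Agent.Lib.helper16.CohStalk Groth.Agent.Lib.helper17.FlatOver1
  Groth.Agent.Lib.helper3.DimIneq Groth.Agent.Lib.helper3.FTField
  Groth.Agent.Lib.helper3.FibreField Groth.Agent.Lib.helper3.DimFibre
  Groth.Agent.Lib.helper3.EquidimIrr Groth.Agent.Lib.Helper24.FibEq
  Groth.Agent.Lib.helper5.FibClos Groth.Agent.Lib.Helper24.FibDA
  Groth.Agent.Lib.Helper24.AssFib Groth.Agent.Lib.Helper24.FibMd

attribute [local instance] Groth.Agent.Lib.helper26.SkFlat.isLocalRing_fibLocRing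

section bridge

variable {S₁ R : Type u} [CommRing S₁] [IsLocalRing S₁] [CommRing R] [IsLocalRing R]
  [Algebra S₁ R] (T : Type u) [AddCommGroup T] [Module S₁ T] [Module R T] [IsScalarTower S₁ R T]

/-- associated primes along a surjection of local rings. -/
theorem isAssociatedPrime_maximalIdeal_iff_of_surjective
    (hsurj : Function.Surjective (algebraMap S₁ R)) :
    IsAssociatedPrime (maximalIdeal S₁) T ↔ IsAssociatedPrime (maximalIdeal R) T := by
  have hcomap : (maximalIdeal R).comap (algebraMap S₁ R) = maximalIdeal S₁ := by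
    have hloc : IsLocalHom (algebraMap S₁ R) := hsurj.isLocalHom
    exact ((IsLocalRing.local_hom_TFAE (algebraMap S₁ R)).out 0 4).mp hloc
  have hcolon : ∀ x : T, (⊥ : Submodule S₁ T).colon {x} =
      ((⊥ : Submodule R T).colon {x}).comap (algebraMap S₁ R) := by
    intro x
    ext s
    simp only [Submodule.mem_colon_singleton, Submodule.mem_bot, Ideal.mem_comap, algebraMap_smul]
  constructor
  · rintro ⟨-, x, hx⟩
    refine ⟨inferInstance, x, ?_⟩
    rw [hcolon, ← Ideal.comap_radical] at hx
    have h1 := congrArg (Ideal.map (algebraMap S₁ R)) hx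
    rw [Ideal.map_comap_of_surjective _ hsurj, ← hcomap,
      Ideal.map_comap_of_surjective _ hsurj] at h1
    exact h1
  · rintro ⟨-, x, hx⟩
    refine ⟨inferInstance, x, ?_⟩
    rw [hcolon, ← Ideal.comap_radical, ← hx, hcomap]

end bridge

variable {X S : Scheme.{u}} (f : X ⟶ S) [LocallyOfFinitePresentation f] (F : X.Modules)

/-- a point belongs to the relative assassin iff the fibre depth there is zero. -/
theorem mem_relAss_iff (hF : CohB1.IsFP F) (x : X) :
    x ∈ MoreMor.relAss f F ↔ CInt.fiberDepth f F x = 0 := by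
  haveI hF' : SheafOfModules.IsFinitePresentation (R := X.ringCatSheaf) F := hF
  haveI : F.IsQuasicoherent := SheafOfModules.instIsQuasicoherentOfIsFinitePresentation F
  obtain ⟨_, ⟨V, hV : IsAffineOpen V, rfl⟩, hfxV, -⟩ :=
    S.isBasis_affineOpens.exists_subset_of_mem_open (Set.mem_univ (f x)) isOpen_univ
  obtain ⟨_, ⟨U, hU : IsAffineOpen U, rfl⟩, hx, hUV'⟩ :=
    X.isBasis_affineOpens.exists_subset_of_mem_open
      (show x ∈ (f ⁻¹ᵁ V : Set X) from hfxV) (f ⁻¹ᵁ V).isOpen
  have e : U ≤ f ⁻¹ᵁ V := hUV'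
  have hfp : (f.appLE V U e).hom.FinitePresentation := f.finitePresentation_appLE hV hU e
  letI algAB := (f.appLE V U e).hom.toAlgebra
  haveI hMfp : Module.FinitePresentation Γ(X, U) Γ(F, U) :=
    Groth.Agent.Lib.helper16.CohFP.fp_sections_of_isFinitePresentation F hF hU
  have hft : (f.appLE V U e).hom.FiniteType := RingHom.FiniteType.of_finitePresentation hfp
  have hfin : Module.Finite Γ(X, U) Γ(F, U) := inferInstance
  haveI : Algebra.FiniteType Γ(S, V) Γ(X, U) := hft
  set q := (hU.primeIdealOf ⟨x, hx⟩).asIdeal with hq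
  letI algBS : Algebra Γ(X, U) (X.presheaf.stalk x) :=
    TopCat.Presheaf.algebra_section_stalk X.presheaf (⟨x, hx⟩ : U)
  haveI : IsLocalization.AtPrime (X.presheaf.stalk x) q := hU.isLocalization_stalk ⟨x, hx⟩
  letI modBN : Module Γ(X, U) (F.presheaf.stalk x) := modStalk F x hx
  haveI : IsScalarTower Γ(X, U) (X.presheaf.stalk x) (F.presheaf.stalk x) :=
    isScalarTower_stalk F x hx
  haveI : IsLocalizedModule q.primeCompl (germLin F x hx) := isLocalizedModule_stalk F hU x hx
  set I : Ideal (X.presheaf.stalk x) :=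
    Ideal.map (f.stalkMap x).hom (maximalIdeal (S.presheaf.stalk (f x))) with hI
  have hIle : I ≤ maximalIdeal (X.presheaf.stalk x) := by
    rw [hI, Ideal.map_le_iff_le_comap]
    have hloc : IsLocalHom (f.stalkMap x).hom := inferInstance
    exact (((IsLocalRing.local_hom_TFAE (f.stalkMap x).hom).out 0 3).mp hloc)
  have hIne : I ≠ ⊤ := fun h => (maximalIdeal.isMaximal _).ne_top (top_le_iff.mp (h ▸ hIle))
  haveI : Nontrivial (X.presheaf.stalk x ⧸ I) := Ideal.Quotient.nontrivial_iff.mpr hIne
  haveI : IsLocalRing (X.presheaf.stalk x ⧸ I) :=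
    IsLocalRing.of_surjective' (Ideal.Quotient.mk I) Ideal.Quotient.mk_surjective
  have hsurj : Function.Surjective (algebraMap (X.presheaf.stalk x) (X.presheaf.stalk x ⧸ I)) :=
    Ideal.Quotient.mk_surjective
  have hker : RingHom.ker (algebraMap (X.presheaf.stalk x) (X.presheaf.stalk x ⧸ I)) =
      ((q.comap (algebraMap Γ(S, V) Γ(X, U))).map (algebraMap Γ(S, V) Γ(X, U))).map
        (algebraMap Γ(X, U) (X.presheaf.stalk x)) := by
    have h1 : RingHom.ker (algebraMap (X.presheaf.stalk x) (X.presheaf.stalk x ⧸ I)) = I :=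
      Ideal.mk_ker
    rw [h1, hI]
    have hpq : (hV.primeIdealOf ⟨f x, e hx⟩).asIdeal = q.comap (f.appLE V U e).hom :=
      congr($(IsAffineOpen.comap_primeIdealOf_appLE V hV U hU e hx).1).symm
    letI algAO : Algebra Γ(S, V) (S.presheaf.stalk (f x)) :=
      TopCat.Presheaf.algebra_section_stalk S.presheaf (⟨f x, e hx⟩ : V)
    haveI : IsLocalization.AtPrime (S.presheaf.stalk (f x))
        (hV.primeIdealOf ⟨f x, e hx⟩).asIdeal := hV.isLocalization_stalk ⟨f x, e hx⟩
    have h2 : maximalIdeal (S.presheaf.stalk (f x)) =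
        (hV.primeIdealOf ⟨f x, e hx⟩).asIdeal.map (algebraMap Γ(S, V) (S.presheaf.stalk (f x))) :=
      (IsLocalization.AtPrime.map_eq_maximalIdeal _ _).symm
    rw [h2, Ideal.map_map, Ideal.map_map, hpq]
    congr 1
    ext a
    simp only [RingHom.comp_apply]
    exact (germ_appLE_apply f e x hx a).symm
  have hchart := isAssociatedPrime_of_chart Γ(S, V) Γ(X, U) q Γ(F, U) (X.presheaf.stalk x)
    (F.presheaf.stalk x) (germLin F x hx) (X.presheaf.stalk x ⧸ I)
    ((F.presheaf.stalk x) ⧸ (I • (⊤ : Submodule (X.presheaf.stalk x) (F.presheaf.stalk x))))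
    ((I • (⊤ : Submodule (X.presheaf.stalk x) (F.presheaf.stalk x))).mkQ)
    (isBaseChange_mkQ I (F.presheaf.stalk x)) hsurj hker
  have hx' : f.fiberι (f.base x) (f.asFiber x) ∈ U := by
    rw [f.fiberι_asFiber]
    exact hx
  obtain ⟨hd, -⟩ := depth_supportDim_fibre_stalk f F hV hU e hft hfin (f.base x) (f.asFiber x) hx'
  have hd' : CInt.fiberDepth f F x =
      depth (EGA4.FibLocRing Γ(S, V) Γ(X, U) (hU.primeIdealOf
        ⟨f.fiberι (f.base x) (f.asFiber x), hx'⟩).asIdeal)
      (EGA4.FibLocMod Γ(S, V) Γ(X, U) (hU.primeIdealOf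
        ⟨f.fiberι (f.base x) (f.asFiber x), hx'⟩).asIdeal Γ(F, U)) := hd
  have hqq : (hU.primeIdealOf ⟨f.fiberι (f.base x) (f.asFiber x), hx'⟩) =
      hU.primeIdealOf ⟨x, hx⟩ := by
    congr 1
    exact Subtype.ext (f.fiberι_asFiber x)
  rw [hd', hqq, ← hchart]
  exact isAssociatedPrime_maximalIdeal_iff_of_surjective _ hsurj

/-- a quasi-compact open immersion has retrocompact range. -/
theorem isRetrocompact_of_quasiCompact_ι {X : Scheme.{u}} (U : X.Opens) [QuasiCompact U.ι] :
    IsRetrocompact (U : Set X) := by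
  intro W hWc hWo
  have h1 : IsCompact (U.ι ⁻¹' W) := QuasiCompact.isCompact_preimage W hWo hWc
  have h2 := h1.image U.ι.continuous
  rwa [Set.image_preimage_eq_inter_range, Scheme.Opens.range_ι, Set.inter_comm] at h2

/-- **EGA IV 9.8.3-type**: the set of points of the base over which all associated points of the fibre
module lie in a given retrocompact open is locally constructible. -/
theorem isLocallyConstructible_relAss_fibre_subset_open_locus [QuasiCompact f]
    (hF : CohB1.IsFP F) (U : Set X) (hUo : IsOpen U) (hUr : IsRetrocompact U) :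
    IsLocallyConstructible {y : S | ∀ x ∈ MoreMor.relAss f F, f x = y → x ∈ U} := by
  have hUc : IsLocallyConstructible Uᶜ :=
    isLocallyConstructible_compl (hUr.isLocallyConstructible hUo)
  refine IsLocallyConstructible.of_isOpenCover
    (U := fun V : S.affineOpens => (V.1 : S.Opens)) (iSup_affineOpens_eq_top S) fun V => ?_
  obtain ⟨K, hK⟩ := exists_bound_fibreDimAt f (V.1 : Set S) V.1.isOpen V.2.isCompact
  have hB : IsLocallyConstructible (⋃ a : Fin (K + 1), f '' (assDim f F a ∩ Uᶜ)) :=
    IsLocallyConstructible.iUnion fun a =>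
      isLocallyConstructible_image_assDim_inter f F hF a _ hUc
  have h1 := (isLocallyConstructible_compl hB).preimage_of_isOpenEmbedding
    V.1.isOpen.isOpenEmbedding_subtypeVal
  convert h1 using 1
  ext s
  simp only [Set.mem_preimage, Set.mem_ofPred_eq, Set.mem_compl_iff, Set.mem_iUnion, not_exists]
  constructor
  · rintro h a ⟨x, ⟨hx, hxU⟩, hfx⟩
    exact hxU (h x ((mem_relAss_iff f F hF x).mpr hx.1) hfx)
  · intro h x hx hfx
    by_contra hxU
    have hd := (mem_relAss_iff f F hF x).mp hx
    obtain ⟨a, b, ha, -, hab⟩ := fibreDimAt_eq_add f x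
    have h2 := hK x (by rw [hfx]; exact s.2)
    rw [hab] at h2
    have h3 : a + b ≤ K := by exact_mod_cast h2
    exact h ⟨a, by omega⟩ ⟨x, ⟨⟨hd, ha⟩, hxU⟩, hfx⟩

end Groth.Agent.Lib.Helper24.FibKL
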