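import Groth.Agent.Lib.Helper24.FibKL7
import Groth.Agent.Lib.Helper3.DimCriteria
import Groth.Agent.Lib.Helper3.SecCompDim2

/-!
# Fibre dimension of locally constructible subsets (helper24), part 8: dimensions of the irreducible
components of the fibres of a locally constructible subset (EGA IV 9.8.x / 9.5.x)
-/

set_option autoImplicit false
universe u

namespace Groth.Agent.Lib.Helper24.FibKL

open AlgebraicGeometry CategoryTheory Topology TopologicalSpace LocCoh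
  Groth.Agent.Lib.helper3.DimIneq Groth.Agent.Lib.helper3.FTField
  Groth.Agent.Lib.helper3.FibreField Groth.Agent.Lib.helper3.DimFibre
  Groth.Agent.Lib.helper3.EquidimIrr Groth.Agent.Lib.Helper24.FibEq
  Groth.Agent.Lib.helper5.FibClos Groth.Agent.Lib.Helper24.FibDA

section top

variable {P : Type u} [TopologicalSpace P] [T0Space P] {W : Set P} [QuasiSober ↥W]

/-- an irreducible component of a quasi-sober subspace is the closure of a point maximal for
generization in the subspace. -/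
theorem exists_generic_of_mem_irreducibleComponents' (T : Set ↥W)
    (hT : T ∈ irreducibleComponents ↥W) :
    ∃ ζ : P, ∃ hζ : ζ ∈ W, (∀ z ∈ W, z ⤳ ζ → z = ζ) ∧ T = closure {(⟨ζ, hζ⟩ : ↥W)} := by
  have hTc : IsClosed T := isClosed_of_mem_irreducibleComponents T hT
  have hTi : IsIrreducible T := hT.1
  obtain ⟨ζ', hζ'⟩ := QuasiSober.sober hTi hTc
  have hζ'c : closure ({ζ'} : Set ↥W) = T := hζ'
  refine ⟨ζ'.1, ζ'.2, ?_, hζ'c.symm⟩
  intro z hz hzζ
  have h1 : (⟨z, hz⟩ : ↥W) ⤳ ζ' := IsInducing.subtypeVal.specializes_iff.mp hzζ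
  have h2 : IsIrreducible (closure ({⟨z, hz⟩} : Set ↥W)) := isIrreducible_singleton.closure
  have h3 : T ⊆ closure ({⟨z, hz⟩} : Set ↥W) := by
    rw [← hζ'c]
    exact closure_minimal (Set.singleton_subset_iff.mpr (specializes_iff_mem_closure.mp h1))
      isClosed_closure
  have h4 : closure ({⟨z, hz⟩} : Set ↥W) ⊆ T := hT.2 h2 h3
  have h5 : ζ' ⤳ (⟨z, hz⟩ : ↥W) := by
    rw [specializes_iff_mem_closure, hζ'c]
    exact h4 (subset_closure rfl)
  have h6 : (⟨z, hz⟩ : ↥W) = ζ' := (h1.antisymm h5).eq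
  exact congrArg Subtype.val h6

omit [T0Space P] in
/-- the closure of a point maximal for generization in a quasi-sober subspace is an irreducible
component. -/
theorem closure_mem_irreducibleComponents_of_maximal' (ζ : P) (hζ : ζ ∈ W)
    (hmax : ∀ z ∈ W, z ⤳ ζ → z = ζ) :
    closure ({⟨ζ, hζ⟩} : Set ↥W) ∈ irreducibleComponents ↥W := by
  refine ⟨isIrreducible_singleton.closure, ?_⟩
  intro s hs hle
  obtain ⟨η', hη'⟩ := QuasiSober.sober hs.closure isClosed_closure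
  have hη'c : closure ({η'} : Set ↥W) = closure s := hη'
  have h1 : (⟨ζ, hζ⟩ : ↥W) ∈ closure s := subset_closure (hle (subset_closure rfl))
  have h2 : η' ⤳ (⟨ζ, hζ⟩ : ↥W) := by
    rw [specializes_iff_mem_closure, hη'c]
    exact h1
  have h3 : η'.1 ⤳ ζ := IsInducing.subtypeVal.specializes_iff.mpr h2
  have h4 : η'.1 = ζ := hmax η'.1 η'.2 h3
  have h5 : η' = ⟨ζ, hζ⟩ := Subtype.ext h4
  rw [← h5, hη'c]
  exact subset_closure

end top

section dim

variable {X S : Scheme.{u}} (f : X ⟶ S) [LocallyOfFiniteType f]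

/-- the dimension of the closure of a point in a subset of its fibre which contains an open
neighbourhood of the point in the closure of the point in the fibre. -/
theorem dim_closure_subtype (W : Set X) (ζ : X) (hζ : ζ ∈ W) (hWf : W ⊆ f ⁻¹' {f ζ})
    (O : X.Opens) (hζO : ζ ∈ O) (hO : closure {ζ} ∩ f ⁻¹' {f ζ} ∩ (O : Set X) ⊆ W) (k : ℕ)
    (hk : td (f.residueFieldMap ζ).hom = (k : Cardinal.{u})) :
    topologicalKrullDim ↥(closure ({⟨ζ, hζ⟩} : Set ↥W)) = (k : WithBot ℕ∞) := by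
  have hmem : ∀ t : ↥W, t ∈ closure ({⟨ζ, hζ⟩} : Set ↥W) ↔ t.1 ∈ closure ({ζ} : Set X) := by
    intro t
    rw [closure_subtype, Set.image_singleton]
  apply le_antisymm
  · rw [← Groth.Agent.Lib.helper3.DimCriteria.dim_closure_inter_fibre f ζ k hk]
    apply Groth.Agent.Lib.helper3.TopDim.dim_le_of_range_subset
      (f := (Subtype.val : ↥W → X) ∘ (Subtype.val : ↥(closure ({⟨ζ, hζ⟩} : Set ↥W)) → ↥W))
      (g := (Subtype.val : ↥(closure ({ζ} : Set X) ∩ f.base ⁻¹' {f ζ}) → X))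
      (IsInducing.subtypeVal.comp IsInducing.subtypeVal) IsInducing.subtypeVal
    rintro _ ⟨t, rfl⟩
    rw [Subtype.range_coe]
    exact ⟨(hmem t.1).mp t.2, hWf t.1.2⟩
  · have hk' : td ((O.ι ≫ f).residueFieldMap ⟨ζ, hζO⟩).hom = (k : Cardinal.{u}) := by
      rw [Groth.Agent.Lib.helper3.EquidimAt.td_comp_opens_ι f O ⟨ζ, hζO⟩]
      exact hk
    rw [← Groth.Agent.Lib.helper3.DimCriteria.dim_closure_inter_fibre (O.ι ≫ f) ⟨ζ, hζO⟩ k hk']
    apply Groth.Agent.Lib.helper3.TopDim.dim_le_of_range_subset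
      (f := O.ι.base ∘ (Subtype.val : ↥(closure ({(⟨ζ, hζO⟩ : ↥O)} : Set ↥O) ∩
        (O.ι ≫ f).base ⁻¹' {(O.ι ≫ f) ⟨ζ, hζO⟩}) → ↥O))
      (g := (Subtype.val : ↥W → X) ∘ (Subtype.val : ↥(closure ({⟨ζ, hζ⟩} : Set ↥W)) → ↥W))
      (O.ι.isEmbedding.isInducing.comp IsInducing.subtypeVal)
      (IsInducing.subtypeVal.comp IsInducing.subtypeVal)
    rintro _ ⟨⟨c, hc1, hc2⟩, rfl⟩
    have hcζ : c.1 ∈ closure ({ζ} : Set X) := by
      have h1 := (closure_subtype (x := c) (s := {(⟨ζ, hζO⟩ : ↥O)})).mp hc1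
      rwa [Set.image_singleton] at h1
    have hcf : f c.1 = f ζ := by
      exact hc2
    have hcW : c.1 ∈ W := hO ⟨⟨hcζ, hcf⟩, c.2⟩
    exact ⟨⟨⟨c.1, hcW⟩, (hmem ⟨c.1, hcW⟩).mpr hcζ⟩, rfl⟩

end dim

section fibre

variable {X S : Scheme.{u}} (f : X ⟶ S)

/-- local closedness in the fibre, in terms of subsets of `X`. -/
theorem exists_open_closed_of_isLocallyClosed (Z : Set X) (s : S)
    (h : IsLocallyClosed (Subtype.val ⁻¹' Z : Set ↥(f ⁻¹' {s}))) :
    ∃ O : X.Opens, ∃ C : Set X, IsClosed C ∧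
      Z ∩ f ⁻¹' {s} = (f ⁻¹' {s} ∩ (O : Set X)) ∩ C := by
  obtain ⟨U', C', hU', hC', heq⟩ := h
  obtain ⟨O, hO, rfl⟩ := isOpen_induced_iff.mp hU'
  obtain ⟨C, hC, rfl⟩ := isClosed_induced_iff.mp hC'
  refine ⟨⟨O, hO⟩, C, hC, ?_⟩
  ext x
  constructor
  · rintro ⟨hxZ, hxs⟩
    have h1 : (⟨x, hxs⟩ : ↥(f ⁻¹' {s})) ∈ (Subtype.val ⁻¹' Z : Set ↥(f ⁻¹' {s})) := hxZ
    rw [heq] at h1
    exact ⟨⟨hxs, h1.1⟩, h1.2⟩
  · rintro ⟨⟨hxs, hxO⟩, hxC⟩
    have h1 : (⟨x, hxs⟩ : ↥(f ⁻¹' {s})) ∈ (Subtype.val ⁻¹' Z : Set ↥(f ⁻¹' {s})) := by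
      rw [heq]
      exact ⟨hxO, hxC⟩
    exact ⟨h1, hxs⟩

theorem quasiSober_inter (s : S) (O : X.Opens) (C : Set X) (hC : IsClosed C) :
    QuasiSober ↥((f ⁻¹' {s} ∩ (O : Set X)) ∩ C) := by
  haveI : QuasiSober ↥(f ⁻¹' {s}) := (f.fiberHomeo s).symm.isClosedEmbedding.quasiSober
  haveI : QuasiSober ↥(f ⁻¹' {s} ∩ (O : Set X)) := by
    have h1 : IsOpenEmbedding (Set.inclusion
        (Set.inter_subset_left : f ⁻¹' {s} ∩ (O : Set X) ⊆ f ⁻¹' {s})) :=
      IsOpenEmbedding.inclusion _ (by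
        rw [Subtype.preimage_coe_self_inter]
        exact O.isOpen.preimage continuous_subtype_val)
    exact h1.quasiSober
  exact QuasiSober.inter_of_isClosed_of_quasiSober_left _ hC

variable [LocallyOfFinitePresentation f]

/-- the points of `Z` which are maximal for generization in `Z ∩ f⁻¹(f ζ)` and of residue
transcendence degree `a`. -/
def maxDim (Z : Set X) (a : ℕ) : Set X :=
  {ζ | ζ ∈ Z ∧ ζ ∉ genTd f Z a ∧ td (f.residueFieldMap ζ).hom = (a : Cardinal.{u})}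

theorem maximal_of_mem_maxDim (Z : Set X) (a : ℕ) (ζ : X) (hζ : ζ ∈ maxDim f Z a) :
    ∀ z ∈ Z ∩ f ⁻¹' {f ζ}, z ⤳ ζ → z = ζ := by
  rintro z ⟨hzZ, hzf⟩ hzζ
  by_contra hne
  have hlt := Groth.Agent.Lib.helper3.SecCompDim.td_lt_of_specializes_of_ne f ζ z hzζ hzf hne
  rw [hζ.2.2] at hlt
  exact hζ.2.1 ⟨z, hzZ, hzζ, hzf, hlt⟩

theorem mem_maxDim_of_maximal (Z : Set X) (a : ℕ) (ζ : X) (hζZ : ζ ∈ Z)
    (hmax : ∀ z ∈ Z ∩ f ⁻¹' {f ζ}, z ⤳ ζ → z = ζ)
    (ha : td (f.residueFieldMap ζ).hom = (a : Cardinal.{u})) : ζ ∈ maxDim f Z a := by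
  refine ⟨hζZ, ?_, ha⟩
  rintro ⟨z, hzZ, hzζ, hzf, hlt⟩
  have h1 := hmax z ⟨hzZ, hzf⟩ hzζ
  subst h1
  rw [ha] at hlt
  exact lt_irrefl _ hlt

/-- the dimensions of the irreducible components of `Z ∩ f⁻¹(s)`. -/
theorem dims_components_iff (Z : Set X) (s : S)
    (hZs : IsLocallyClosed (Subtype.val ⁻¹' Z : Set ↥(f ⁻¹' {s}))) (d : WithBot ℕ∞) :
    d ∈ (fun T : Set ↥(Z ∩ f ⁻¹' {s}) => topologicalKrullDim ↥T) ''
        irreducibleComponents ↥(Z ∩ f ⁻¹' {s}) ↔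
      ∃ a : ℕ, d = (a : WithBot ℕ∞) ∧ s ∈ f '' maxDim f Z a := by
  obtain ⟨O, C, hC, heq⟩ := exists_open_closed_of_isLocallyClosed f Z s hZs
  haveI : QuasiSober ↥(Z ∩ f ⁻¹' {s}) := by
    rw [heq]
    exact quasiSober_inter f s O C hC
  have hdim : ∀ (ζ : X) (hζ : ζ ∈ Z ∩ f ⁻¹' {s}) (k : ℕ),
      td (f.residueFieldMap ζ).hom = (k : Cardinal.{u}) →
      topologicalKrullDim ↥(closure ({⟨ζ, hζ⟩} : Set ↥(Z ∩ f ⁻¹' {s}))) = (k : WithBot ℕ∞) := by
    intro ζ hζ k hk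
    have hfζ : f ζ = s := hζ.2
    have hζ' : ζ ∈ (f ⁻¹' {s} ∩ (O : Set X)) ∩ C := heq ▸ hζ
    have hζO : ζ ∈ O := hζ'.1.2
    have hclC : closure ({ζ} : Set X) ⊆ C :=
      hC.closure_subset_iff.mpr (Set.singleton_subset_iff.mpr hζ'.2)
    refine dim_closure_subtype f (Z ∩ f ⁻¹' {s}) ζ hζ ?_ O hζO ?_ k hk
    · rintro z ⟨-, hz⟩
      rw [hfζ]
      exact hz
    · rintro z ⟨⟨hz1, hz2⟩, hz3⟩
      rw [heq]
      refine ⟨⟨?_, hz3⟩, hclC hz1⟩
      rw [← hfζ]
      exact hz2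
  constructor
  · rintro ⟨T, hT, rfl⟩
    obtain ⟨ζ, hζ, hmax, rfl⟩ := exists_generic_of_mem_irreducibleComponents' T hT
    obtain ⟨k, -, hk, -, -⟩ := fibreDimAt_eq_add f ζ
    refine ⟨k, hdim ζ hζ k hk, ζ, ?_, hζ.2⟩
    refine mem_maxDim_of_maximal f Z k ζ hζ.1 ?_ hk
    have hfζ : f ζ = s := hζ.2
    rw [hfζ]
    exact hmax
  · rintro ⟨a, rfl, ζ, hζ, hfζ⟩
    have hζW : ζ ∈ Z ∩ f ⁻¹' {s} := ⟨hζ.1, hfζ⟩
    have hmax := maximal_of_mem_maxDim f Z a ζ hζ
    rw [hfζ] at hmax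
    exact ⟨_, closure_mem_irreducibleComponents_of_maximal' ζ hζW hmax, hdim ζ hζW a hζ.2.2⟩

end fibre

section main

open scoped Set.Notation

variable {X S : Scheme.{u}} (f : X ⟶ S) [LocallyOfFinitePresentation f] [QuasiCompact f]

theorem isLocallyConstructible_image_maxDim (Z : Set X) (hZ : IsLocallyConstructible Z) (a : ℕ) :
    IsLocallyConstructible (f '' maxDim f Z a) := by
  have hN : IsLocallyConstructible (Z ∩ (genTd f Z a)ᶜ) :=
    hZ.inter (isLocallyConstructible_compl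
      (isLocallyConstructible_genTd_of_isLocallyConstructible f Z hZ a))
  have hle : ∀ ζ : X, ζ ∈ Z → ζ ∉ genTd f Z a → ∀ N : ℕ,
      td (f.residueFieldMap ζ).hom = (N : Cardinal.{u}) → N ≤ a := by
    intro ζ hζZ hζg N hN'
    by_contra hlt
    push Not at hlt
    exact hζg ⟨ζ, hζZ, specializes_rfl, rfl, by rw [hN']; exact_mod_cast hlt⟩
  rcases Nat.eq_zero_or_pos a with h0 | hpos
  · subst h0
    have h1 : maxDim f Z 0 = Z ∩ (genTd f Z 0)ᶜ := by
      ext ζ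
      constructor
      · rintro ⟨h1, h2, -⟩
        exact ⟨h1, h2⟩
      · rintro ⟨h1, h2⟩
        obtain ⟨N, -, hN', -, -⟩ := fibreDimAt_eq_add f ζ
        have := hle ζ h1 h2 N hN'
        have hN0 : N = 0 := by omega
        subst hN0
        exact ⟨h1, h2, hN'⟩
    rw [h1]
    exact f.isLocallyConstructible_image hN
  · have h1 := isLocallyConstructible_image_genTd f _ hN (a - 1)
    convert h1 using 1
    ext s
    constructor
    · rintro ⟨ζ, ⟨h1, h2, h3⟩, rfl⟩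
      refine ⟨ζ, ⟨h1, h2⟩, rfl, ?_⟩
      rw [h3]
      exact_mod_cast (by omega : a - 1 < a)
    · rintro ⟨ζ, ⟨hζ1, hζ2⟩, hfζ, hlt⟩
      obtain ⟨N, -, hN', -, -⟩ := fibreDimAt_eq_add f ζ
      have h4 := hle ζ hζ1 hζ2 N hN'
      rw [hN'] at hlt
      have h5 : a - 1 < N := by exact_mod_cast hlt
      have h6 : N = a := by omega
      rw [h6] at hN'
      exact ⟨ζ, ⟨hζ1, hζ2, hN'⟩, hfζ⟩

/-- **EGA IV 9.8.x/9.5.x**: the set of dimensions of the irreducible components of the fibres of a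
locally constructible, fibrewise locally closed subset is a locally constructible function. -/
theorem isLocallyConstructible_setOf_fibre_componentDims_eq (Z : Set X)
    (hZ : IsLocallyConstructible Z)
    (hZs : ∀ s : S, IsLocallyClosed (Subtype.val ⁻¹' Z : Set ↥(f ⁻¹' {s})))
    (Φ : Set (WithBot ℕ∞)) :
    IsLocallyConstructible {s : S |
      (fun T : Set ↥(Z ∩ f ⁻¹' {s}) => topologicalKrullDim ↥T) ''
        irreducibleComponents ↥(Z ∩ f ⁻¹' {s}) = Φ} := by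
  have hT : ∀ a, IsLocallyConstructible (f '' maxDim f Z a) :=
    isLocallyConstructible_image_maxDim f Z hZ
  have hcast : ∀ (s : S) (a : ℕ), ((a : ℕ) : WithBot ℕ∞) ∈
      (fun T : Set ↥(Z ∩ f ⁻¹' {s}) => topologicalKrullDim ↥T) ''
        irreducibleComponents ↥(Z ∩ f ⁻¹' {s}) ↔ s ∈ f '' maxDim f Z a := by
    intro s a
    rw [dims_components_iff f Z s (hZs s)]
    constructor
    · rintro ⟨a', ha', hs⟩
      have : a = a' := by exact_mod_cast ha'
      exact this ▸ hs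
    · intro hs
      exact ⟨a, rfl, hs⟩
  by_cases hΦ : ∀ d ∈ Φ, ∃ a : ℕ, d = ((a : ℕ) : WithBot ℕ∞)
  swap
  · have hempty : {s : S |
        (fun T : Set ↥(Z ∩ f ⁻¹' {s}) => topologicalKrullDim ↥T) ''
          irreducibleComponents ↥(Z ∩ f ⁻¹' {s}) = Φ} = ∅ := by
      rw [Set.eq_empty_iff_forall_notMem]
      intro s hs
      apply hΦ
      intro d hd
      rw [← hs, dims_components_iff f Z s (hZs s)] at hd
      obtain ⟨a, ha, -⟩ := hd
      exact ⟨a, ha⟩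
    rw [hempty]
    exact IsLocallyConstructible.empty
  have hchar : ∀ s : S,
      ((fun T : Set ↥(Z ∩ f ⁻¹' {s}) => topologicalKrullDim ↥T) ''
        irreducibleComponents ↥(Z ∩ f ⁻¹' {s}) = Φ) ↔
      ∀ a : ℕ, (s ∈ f '' maxDim f Z a ↔ ((a : ℕ) : WithBot ℕ∞) ∈ Φ) := by
    intro s
    constructor
    · intro h a
      rw [← hcast s a, h]
    · intro h
      ext d
      constructor
      · intro hd
        obtain ⟨a, rfl, hs⟩ := (dims_components_iff f Z s (hZs s) d).mp hd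
        exact (h a).mp hs
      · intro hd
        obtain ⟨a, rfl⟩ := hΦ d hd
        exact (hcast s a).mpr ((h a).mpr hd)
  refine IsLocallyConstructible.of_isOpenCover
    (U := fun V : S.affineOpens => (V.1 : S.Opens)) (iSup_affineOpens_eq_top S) fun V => ?_
  obtain ⟨K, hK⟩ := exists_bound_fibreDimAt f (V.1 : Set S) V.1.isOpen V.2.isCompact
  have hbig : ∀ (s : S), s ∈ (V.1 : Set S) → ∀ a : ℕ, K < a → s ∉ f '' maxDim f Z a := by
    rintro s hsV a haK ⟨ζ, hζ, hfζ⟩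
    have h2 := hK ζ (by rw [hfζ]; exact hsV)
    obtain ⟨a', b, ha', -, hab⟩ := fibreDimAt_eq_add f ζ
    rw [hζ.2.2] at ha'
    have h3 : a = a' := by exact_mod_cast ha'
    rw [hab] at h2
    have h4 : a' + b ≤ K := by exact_mod_cast h2
    omega
  by_cases hQ : ∀ a : ℕ, K < a → ((a : ℕ) : WithBot ℕ∞) ∉ Φ
  · have hE' : IsLocallyConstructible
        (⋂ a : Fin (K + 1), {s : S | s ∈ f '' maxDim f Z a ↔ (((a : ℕ) : ℕ) : WithBot ℕ∞) ∈ Φ}) := by
      refine IsLocallyConstructible.iInter fun a => ?_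
      by_cases ha : (((a : ℕ) : ℕ) : WithBot ℕ∞) ∈ Φ
      · have : {s : S | s ∈ f '' maxDim f Z a ↔ (((a : ℕ) : ℕ) : WithBot ℕ∞) ∈ Φ} =
            f '' maxDim f Z a := by
          ext s
          simp [ha]
        rw [this]
        exact hT a
      · have : {s : S | s ∈ f '' maxDim f Z a ↔ (((a : ℕ) : ℕ) : WithBot ℕ∞) ∈ Φ} =
            (f '' maxDim f Z a)ᶜ := by
          ext s
          simp [ha]
        rw [this]
        exact isLocallyConstructible_compl (hT a)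
    have h1 := hE'.preimage_of_isOpenEmbedding V.1.isOpen.isOpenEmbedding_subtypeVal
    convert h1 using 1
    ext s
    simp only [Set.mem_preimage, Set.mem_ofPred_eq, Set.mem_iInter]
    rw [hchar s.1]
    constructor
    · intro h a
      exact h a
    · intro h a
      by_cases ha : a < K + 1
      · exact h ⟨a, ha⟩
      · have haK : K < a := by omega
        exact ⟨fun hs => absurd hs (hbig s.1 s.2 a haK), fun hΦa => absurd hΦa (hQ a haK)⟩
  · push Not at hQ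
    obtain ⟨a, haK, haΦ⟩ := hQ
    have hempty : ((V.1 : Set S) ↓∩ {s : S |
        (fun T : Set ↥(Z ∩ f ⁻¹' {s}) => topologicalKrullDim ↥T) ''
          irreducibleComponents ↥(Z ∩ f ⁻¹' {s}) = Φ}) = ∅ := by
      rw [Set.eq_empty_iff_forall_notMem]
      intro s hs
      have hs' := (hchar s.1).mp hs a
      exact hbig s.1 s.2 a haK (hs'.mpr haΦ)
    rw [hempty]
    exact IsLocallyConstructible.empty

end main

end Groth.Agent.Lib.Helper24.FibKL
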