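import Mathlib

/-!
# Local-to-global criteria via residue fields at maximal ideals (helper24)

* `surjective_of_residue` : `g : M →ₗ[R] N`, `N` finite, `κ(m) ⊗ g` surjective for all maximal `m`
  ⇒ `g` surjective.
* `injective_of_residue` : `g : M →ₗ[R] N`, `M` finite, `N` finite flat, `κ(m) ⊗ g` injective for
  all maximal `m` ⇒ `g` injective.
-/

set_option autoImplicit false
open TensorProduct

namespace Groth.Agent.Lib.Helper24.FinFlatIso

universe u v w

section transfer

variable {R : Type u} [CommRing R] {M : Type v} {N : Type w} [AddCommGroup M] [AddCommGroup N]
  [Module R M] [Module R N] (g : M →ₗ[R] N) (P : Ideal R) [P.IsPrime]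

/-- The square comparing `κ(P) ⊗_{R_P} (R_P ⊗_R g)` with `κ(P) ⊗_R g`. -/
theorem cancel_square
    (x : P.ResidueField ⊗[Localization.AtPrime P] (Localization.AtPrime P ⊗[R] M)) :
    AlgebraTensorModule.cancelBaseChange R (Localization.AtPrime P) (Localization.AtPrime P)
      P.ResidueField N
      (((g.baseChange (Localization.AtPrime P)).lTensor P.ResidueField) x) =
    (g.lTensor P.ResidueField)
      (AlgebraTensorModule.cancelBaseChange R (Localization.AtPrime P) (Localization.AtPrime P)
        P.ResidueField M x) := by
  induction x using TensorProduct.induction_on with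
  | zero => simp
  | tmul c y =>
    induction y using TensorProduct.induction_on with
    | zero => simp
    | tmul a m => simp
    | add y₁ y₂ h₁ h₂ => simp only [tmul_add, map_add, h₁, h₂]
  | add x₁ x₂ h₁ h₂ => simp only [map_add, h₁, h₂]

theorem lTensor_baseChange_injective (h : Function.Injective (g.lTensor P.ResidueField)) :
    Function.Injective ((g.baseChange (Localization.AtPrime P)).lTensor P.ResidueField) := by
  intro x y hxy
  apply (AlgebraTensorModule.cancelBaseChange R (Localization.AtPrime P) (Localization.AtPrime P)
        P.ResidueField M).injective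
  apply h
  rw [← cancel_square, ← cancel_square, hxy]

theorem lTensor_baseChange_surjective (h : Function.Surjective (g.lTensor P.ResidueField)) :
    Function.Surjective ((g.baseChange (Localization.AtPrime P)).lTensor P.ResidueField) := by
  intro y
  obtain ⟨x, hx⟩ := h (AlgebraTensorModule.cancelBaseChange R (Localization.AtPrime P)
    (Localization.AtPrime P) P.ResidueField N y)
  refine ⟨(AlgebraTensorModule.cancelBaseChange R (Localization.AtPrime P)
    (Localization.AtPrime P) P.ResidueField M).symm x, ?_⟩
  apply (AlgebraTensorModule.cancelBaseChange R (Localization.AtPrime P) (Localization.AtPrime P)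
        P.ResidueField N).injective
  rw [cancel_square, LinearEquiv.apply_symm_apply, hx]

/-- The localisation of `g` at `P` computed on tensor products is `R_P ⊗ g`. -/
theorem map_mk_eq_lTensor :
    IsLocalizedModule.map P.primeCompl (TensorProduct.mk R (Localization.AtPrime P) M 1)
      (TensorProduct.mk R (Localization.AtPrime P) N 1) g = g.lTensor (Localization.AtPrime P) := by
  apply IsLocalizedModule.linearMap_ext P.primeCompl
    (TensorProduct.mk R (Localization.AtPrime P) M 1)
    (TensorProduct.mk R (Localization.AtPrime P) N 1)
  rw [IsLocalizedModule.map_comp]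
  ext m
  simp

end transfer

section local_case

variable {S : Type u} [CommRing S] [IsLocalRing S] {M : Type v} {N : Type w}
  [AddCommGroup M] [AddCommGroup N] [Module S M] [Module S N]

theorem surjective_of_local [Module.Finite S N] (l : M →ₗ[S] N)
    (h : Function.Surjective (l.lTensor (IsLocalRing.ResidueField S))) :
    Function.Surjective l := by
  rw [← LinearMap.range_eq_top, ← IsLocalRing.map_tensorProduct_mk_eq_top, eq_top_iff]
  intro y _
  obtain ⟨t, rfl⟩ := h y
  obtain ⟨m, rfl⟩ := TensorProduct.mk_surjective S M (IsLocalRing.ResidueField S)
    Ideal.Quotient.mk_surjective t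
  exact ⟨l m, ⟨m, rfl⟩, by simp⟩

theorem injective_of_local [Module.Finite S M] [Module.Finite S N] [Module.Free S N]
    (l : M →ₗ[S] N)
    (h : Function.Injective (l.lTensor (IsLocalRing.ResidueField S))) :
    Function.Injective l := by
  obtain ⟨l', hl'⟩ :=
    (IsLocalRing.split_injective_iff_lTensor_residueField_injective l).mpr h
  exact Function.HasLeftInverse.injective ⟨l', LinearMap.congr_fun hl'⟩

end local_case

section global

variable {R : Type u} [CommRing R] {M : Type v} {N : Type w} [AddCommGroup M] [AddCommGroup N]
  [Module R M] [Module R N]

/-- Nakayama, global form: a linear map to a finite module which is surjective modulo every maximal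
ideal is surjective. -/
theorem surjective_of_residue [Module.Finite R N] (g : M →ₗ[R] N)
    (h : ∀ (m : Ideal R) [m.IsMaximal], Function.Surjective (g.lTensor m.ResidueField)) :
    Function.Surjective g := by
  apply surjective_of_isLocalized_maximal
    (fun P _ => Localization.AtPrime P ⊗[R] M)
    (fun P _ => TensorProduct.mk R (Localization.AtPrime P) M 1)
    (fun P _ => Localization.AtPrime P ⊗[R] N)
    (fun P _ => TensorProduct.mk R (Localization.AtPrime P) N 1)
  intro P hP
  rw [map_mk_eq_lTensor, ← LinearMap.baseChange_eq_ltensor]
  exact surjective_of_local _ (lTensor_baseChange_surjective g P (h P))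

/-- A linear map from a finite module to a finite flat module which is injective modulo every
maximal ideal is injective. -/
theorem injective_of_residue [Module.Finite R M] [Module.Finite R N] [Module.Flat R N]
    (g : M →ₗ[R] N)
    (h : ∀ (m : Ideal R) [m.IsMaximal], Function.Injective (g.lTensor m.ResidueField)) :
    Function.Injective g := by
  apply injective_of_isLocalized_maximal
    (fun P _ => Localization.AtPrime P ⊗[R] M)
    (fun P _ => TensorProduct.mk R (Localization.AtPrime P) M 1)
    (fun P _ => Localization.AtPrime P ⊗[R] N)
    (fun P _ => TensorProduct.mk R (Localization.AtPrime P) N 1)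
  intro P hP
  rw [map_mk_eq_lTensor, ← LinearMap.baseChange_eq_ltensor]
  have : Module.Free (Localization.AtPrime P) (Localization.AtPrime P ⊗[R] N) :=
    Module.free_of_flat_of_isLocalRing
  exact injective_of_local _ (lTensor_baseChange_injective g P (h P))

end global

end Groth.Agent.Lib.Helper24.FinFlatIso
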