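import Groth.Agent.Lib.Helper24.FinFlatIso1

/-!
# Finite flat vs finite type: isomorphism criterion on fibres (helper24)
-/

set_option autoImplicit false
open TensorProduct Polynomial

namespace Groth.Agent.Lib.Helper24.FinFlatIso

universe u

variable {R A B : Type u} [CommRing R] [CommRing A] [CommRing B] [Algebra R A] [Algebra R B]

/-- If `A` is finite over `R` and `B` of finite type, the kernel of `f : B → A` contains a
finitely generated ideal `K₁ ≤ K²` with `B ⧸ K₁` finite over `R`. -/
theorem exists_fg_le_ker_sq [Module.Finite R A] [Algebra.FiniteType R B] (f : B →ₐ[R] A) :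
    ∃ K₁ : Ideal B, K₁.FG ∧ K₁ ≤ RingHom.ker f * RingHom.ker f ∧ Module.Finite R (B ⧸ K₁) := by
  obtain ⟨s, hs⟩ := (Algebra.FiniteType.out : (⊤ : Subalgebra R B).FG)
  have hint : ∀ x : B, ∃ P : R[X], P.Monic ∧ aeval (f x) P = 0 := fun x =>
    (Algebra.IsIntegral.isIntegral (R := R) (f x))
  choose P hPm hP using hint
  let y : B → B := fun x => aeval x (P x)
  have hy : ∀ x, y x ∈ RingHom.ker f := fun x => by
    rw [RingHom.mem_ker]
    show f (aeval x (P x)) = 0
    rw [← Polynomial.aeval_algHom_apply, hP]
  refine ⟨Ideal.span ((fun x => y x * y x) '' (s : Set B)), ?_, ?_, ?_⟩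
  · exact Submodule.fg_span (s.finite_toSet.image _)
  · rw [Ideal.span_le]
    rintro _ ⟨x, -, rfl⟩
    exact Ideal.mul_mem_mul (hy x) (hy x)
  · set K₁ := Ideal.span ((fun x => y x * y x) '' (s : Set B)) with hK₁
    have hadj : Algebra.adjoin R ((Ideal.Quotient.mkₐ R K₁) '' (s : Set B)) = ⊤ := by
      rw [← AlgHom.map_adjoin, hs, Algebra.map_top, AlgHom.range_eq_top]
      exact Ideal.Quotient.mkₐ_surjective R K₁
    have hfg : (Algebra.adjoin R ((Ideal.Quotient.mkₐ R K₁) '' (s : Set B))).toSubmodule.FG := by
      apply fg_adjoin_of_finite (s.finite_toSet.image _)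
      rintro _ ⟨x, hx, rfl⟩
      refine ⟨P x * P x, (hPm x).mul (hPm x), ?_⟩
      rw [← aeval_def, aeval_algHom_apply (Ideal.Quotient.mkₐ R K₁), map_mul]
      exact Ideal.Quotient.eq_zero_iff_mem.mpr (Ideal.subset_span ⟨x, hx, rfl⟩)
    rw [hadj, Algebra.top_toSubmodule] at hfg
    exact ⟨hfg⟩

/-- If `κ(p) ⊗ B` and `κ(p) ⊗ A` have the same (finite) rank and `f` is surjective, then any element
of `ker f` lies in every prime `q` of `B` over `p`. -/
theorem mem_prime_of_ker [Module.Finite R A] (f : B →ₐ[R] A) (hsurj : Function.Surjective f)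
    (q : Ideal B) [q.IsPrime]
    (hrank : Module.rank (q.comap (algebraMap R B)).ResidueField
        ((q.comap (algebraMap R B)).ResidueField ⊗[R] B) =
      Module.rank (q.comap (algebraMap R B)).ResidueField
        ((q.comap (algebraMap R B)).ResidueField ⊗[R] A))
    (e : B) (he : f e = 0) : e ∈ q := by
  set p := q.comap (algebraMap R B) with hp
  have hinj : Function.Injective (f.toLinearMap.baseChange p.ResidueField) := by
    have hfinA : Module.Finite p.ResidueField (p.ResidueField ⊗[R] A) := inferInstance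
    have hfinB : Module.Finite p.ResidueField (p.ResidueField ⊗[R] B) := by
      rw [← Module.rank_lt_aleph0_iff, hrank]
      exact Module.rank_lt_aleph0 _ _
    have hfr : Module.finrank p.ResidueField (p.ResidueField ⊗[R] B) =
        Module.finrank p.ResidueField (p.ResidueField ⊗[R] A) := by
      unfold Module.finrank
      rw [hrank]
    rw [LinearMap.injective_iff_surjective_of_finrank_eq_finrank hfr,
      LinearMap.baseChange_eq_ltensor]
    exact LinearMap.lTensor_surjective _ hsurj
  have h0 : (1 : p.ResidueField) ⊗ₜ[R] e = 0 := by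
    apply hinj
    simp [he]
  let φ : p.ResidueField ⊗[R] B →ₐ[R] q.ResidueField :=
    Algebra.TensorProduct.lift (Ideal.ResidueField.mapₐ p q (Algebra.ofId R B) rfl)
      (IsScalarTower.toAlgHom R B q.ResidueField) (fun _ _ => Commute.all _ _)
  have h1 := congrArg φ h0
  simp only [φ, Algebra.TensorProduct.lift_tmul, map_one, one_mul, map_zero,
    IsScalarTower.coe_toAlgHom'] at h1
  exact Ideal.algebraMap_residueField_eq_zero.mp h1

/-- **Main theorem.** Finite flat `A`, finite type `B`, `f : B → A` inducing isomorphisms on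
fibres over maximal ideals and with fibres of equal rank over all primes is bijective. -/
theorem bijective_of_fibres [Module.Finite R A] [Module.Flat R A] [Algebra.FiniteType R B]
    (f : B →ₐ[R] A)
    (hrank : ∀ p : PrimeSpectrum R,
      Module.rank p.asIdeal.ResidueField (p.asIdeal.ResidueField ⊗[R] B) =
        Module.rank p.asIdeal.ResidueField (p.asIdeal.ResidueField ⊗[R] A))
    (hmax : ∀ (m : Ideal R) [m.IsMaximal],
      Function.Bijective (LinearMap.lTensor m.ResidueField f.toLinearMap)) :
    Function.Bijective f := by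
  have hsurj : Function.Surjective f :=
    surjective_of_residue f.toLinearMap (fun m _ => (hmax m).2)
  refine ⟨?_, hsurj⟩
  obtain ⟨K₁, hfg, hle, hfin⟩ := exists_fg_le_ker_sq f
  have hK₁K : K₁ ≤ RingHom.ker f := hle.trans Ideal.mul_le_right
  let f' : B ⧸ K₁ →ₐ[R] A := Ideal.Quotient.liftₐ K₁ f (fun a ha => hK₁K ha)
  have hf' : ∀ b, f' (Ideal.Quotient.mk K₁ b) = f b := fun b => rfl
  have hinj' : Function.Injective f' := by
    apply injective_of_residue f'.toLinearMap
    intro m _
    have hcomp : f.toLinearMap.lTensor m.ResidueField =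
        (f'.toLinearMap.lTensor m.ResidueField) ∘ₗ
          ((Ideal.Quotient.mkₐ R K₁).toLinearMap.lTensor m.ResidueField) := by
      rw [← LinearMap.lTensor_comp]
      congr 1
    have hs : Function.Surjective
        ((Ideal.Quotient.mkₐ R K₁).toLinearMap.lTensor m.ResidueField) :=
      LinearMap.lTensor_surjective _ (Ideal.Quotient.mkₐ_surjective R K₁)
    intro x₁ x₂ h12
    obtain ⟨z₁, rfl⟩ := hs x₁
    obtain ⟨z₂, rfl⟩ := hs x₂
    have : f.toLinearMap.lTensor m.ResidueField z₁ = f.toLinearMap.lTensor m.ResidueField z₂ := by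
      rw [hcomp]
      exact h12
    rw [(hmax m).1 this]
  have hker : RingHom.ker f = K₁ := by
    apply le_antisymm _ hK₁K
    intro b hb
    have : f' (Ideal.Quotient.mk K₁ b) = f' 0 := by
      rw [hf', map_zero]
      exact hb
    exact Ideal.Quotient.eq_zero_iff_mem.mp (hinj' this)
  have hidem : IsIdempotentElem (RingHom.ker f : Ideal B) := by
    apply le_antisymm Ideal.mul_le_right
    conv_lhs => rw [hker]
    exact hle
  obtain ⟨e, he, hKe⟩ := (Ideal.isIdempotentElem_iff_of_fg _ (hker ▸ hfg)).mp hidem
  have hemem : e ∈ RingHom.ker f := hKe ▸ Ideal.mem_span_singleton_self e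
  have he0 : e = 0 := by
    have hnil : IsNilpotent e := by
      rw [← mem_nilradical, nilradical_eq_sInf, Ideal.mem_sInf]
      intro q hq
      haveI : q.IsPrime := hq
      exact mem_prime_of_ker f hsurj q (hrank ⟨q.comap (algebraMap R B), inferInstance⟩) e hemem
    obtain ⟨n, hn⟩ := hnil
    cases n with
    | zero =>
      rw [pow_zero] at hn
      rw [← mul_one e, hn, mul_zero]
    | succ n => rwa [he.pow_succ_eq] at hn
  rw [injective_iff_map_eq_zero]
  intro b hb
  have hb' : b ∈ RingHom.ker f := hb
  rw [hKe, he0] at hb'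
  simpa using hb'

end Groth.Agent.Lib.Helper24.FinFlatIso
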