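import Mathlib
import Groth.Agent.Lib.Helper24.GeomSepAlg

/-!
# Geometric local properties of fibres via finite domains (helper24)

For `A → C` and an iso-invariant ring property `Q`:
"`k' ⊗[κ(p)] p.Fiber C` is locally `Q` for all primes `p` and all finite extensions `k'/κ(p)`" iff
"for every finite `A`-algebra `B` which is a domain and every prime `q` of `B ⊗[A] C` over `(0) ⊂ B`,
`(B ⊗[A] C)_q` has `Q`".
-/

set_option autoImplicit false
universe u

open TensorProduct nonZeroDivisors

namespace Groth.Agent.Lib.Helper24.FiniteDomains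

open Groth.Agent.Lib.Helper24.FibLoc Groth.Agent.Lib.Helper24.GeomSepAlg

section loc

variable (Q : ∀ (R : Type u) [CommRing R], Prop)
  (hQ : ∀ (R R' : Type u) [CommRing R] [CommRing R'], (R ≃+* R') → Q R → Q R')

include hQ in
theorem loc_iff_of_isLocalization (T T' : Type u) [CommRing T] [CommRing T'] [Algebra T T']
    (M : Submonoid T) [IsLocalization M T'] :
    Loc Q T' ↔ ∀ (q : Ideal T) [q.IsPrime], Disjoint (M : Set T) (q : Set T) →
      Q (Localization.AtPrime q) := by
  constructor
  · intro hP 𝔓 h𝔓 hdisj
    haveI hq' : (𝔓.map (algebraMap T T')).IsPrime :=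
      IsLocalization.isPrime_of_isPrime_disjoint M T' 𝔓 h𝔓 hdisj
    have hcomap : (𝔓.map (algebraMap T T')).comap (algebraMap T T') = 𝔓 :=
      IsLocalization.under_map_of_isPrime_disjoint M T' h𝔓 hdisj
    have h1 : IsLocalization.AtPrime (Localization.AtPrime (𝔓.map (algebraMap T T')))
        ((𝔓.map (algebraMap T T')).comap (algebraMap T T')) :=
      IsLocalization.isLocalization_isLocalization_atPrime_isLocalization M
        (Localization.AtPrime (𝔓.map (algebraMap T T'))) (𝔓.map (algebraMap T T'))
    have h2 : IsLocalization 𝔓.primeCompl (Localization.AtPrime (𝔓.map (algebraMap T T'))) := by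
      convert h1 using 2
      exact hcomap.symm
    let e : Localization.AtPrime 𝔓 ≃ₐ[T] Localization.AtPrime (𝔓.map (algebraMap T T')) :=
      IsLocalization.algEquiv 𝔓.primeCompl _ _
    exact hQ _ _ e.symm.toRingEquiv (hP (𝔓.map (algebraMap T T')))
  · intro h q' hq'
    haveI : IsLocalization.AtPrime (Localization.AtPrime q') (q'.comap (algebraMap T T')) :=
      IsLocalization.isLocalization_isLocalization_atPrime_isLocalization M
        (Localization.AtPrime q') q'
    let e : Localization.AtPrime (q'.comap (algebraMap T T')) ≃ₐ[T] Localization.AtPrime q' :=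
      IsLocalization.algEquiv (q'.comap (algebraMap T T')).primeCompl _ _
    refine hQ _ _ e.toRingEquiv (h (q'.comap (algebraMap T T')) ?_)
    rw [Set.disjoint_left]
    intro x hxM hxq
    exact hq'.ne_top (Ideal.eq_top_of_isUnit_mem _ hxq (IsLocalization.map_units T' ⟨x, hxM⟩))

theorem disjoint_iff_comap_eq_bot (B T : Type u) [CommRing B] [IsDomain B] [CommRing T]
    [Algebra B T] (q : Ideal T) [q.IsPrime] :
    Disjoint ((Algebra.algebraMapSubmonoid T B⁰ : Submonoid T) : Set T) (q : Set T) ↔
      q.comap (algebraMap B T) = ⊥ := by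
  constructor
  · intro h
    rw [eq_bot_iff]
    intro b hb
    rw [Ideal.mem_bot]
    by_contra hb0
    exact Set.disjoint_left.mp h
      (Algebra.mem_algebraMapSubmonoid_of_mem ⟨b, mem_nonZeroDivisors_of_ne_zero hb0⟩) hb
  · intro h
    rw [Set.disjoint_left]
    rintro x ⟨b, hb, rfl⟩ hxq
    have : b ∈ q.comap (algebraMap B T) := hxq
    rw [h, Ideal.mem_bot] at this
    exact nonZeroDivisors.ne_zero hb this

include hQ in
theorem loc_tensor_fractionRing_iff (B T L : Type u) [CommRing B] [IsDomain B] [CommRing T]
    [Algebra B T] [Field L] [Algebra B L] [IsFractionRing B L] :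
    Loc Q (T ⊗[B] L) ↔ ∀ (q : Ideal T) [q.IsPrime], q.comap (algebraMap B T) = ⊥ →
      Q (Localization.AtPrime q) := by
  rw [loc_iff_of_isLocalization Q hQ T (T ⊗[B] L) (Algebra.algebraMapSubmonoid T B⁰)]
  constructor
  · intro h q hq hq0
    exact h q ((disjoint_iff_comap_eq_bot B T q).mpr hq0)
  · intro h q hq hq0
    exact h q ((disjoint_iff_comap_eq_bot B T q).mp hq0)

end loc

section finite

/-- The fraction field of a finite `A`-algebra domain `B` is finite over any field `k` through which
`A → Frac B` factors. -/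
theorem finite_of_isFractionRing (A B k L : Type u) [CommRing A] [CommRing B] [IsDomain B]
    [Algebra A B] [Module.Finite A B] [Field k] [Algebra A k] [Field L] [Algebra B L]
    [IsFractionRing B L] [Algebra A L] [IsScalarTower A B L] [Algebra k L] [IsScalarTower A k L] :
    Module.Finite k L := by
  classical
  obtain ⟨S, hS⟩ := (Module.Finite.fg_top : (⊤ : Submodule A B).FG)
  let E : IntermediateField k L := IntermediateField.adjoin k ((algebraMap B L) '' (S : Set B))
  haveI : Finite ((algebraMap B L) '' (S : Set B)) := (S.finite_toSet.image _).to_subtype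
  have hint : ∀ x ∈ (algebraMap B L) '' (S : Set B), IsIntegral k x := by
    rintro _ ⟨b, -, rfl⟩
    have hb : IsIntegral A b := Algebra.IsIntegral.isIntegral b
    have hb' : IsIntegral A (algebraMap B L b) := hb.algebraMap
    exact hb'.tower_top
  haveI hE : FiniteDimensional k E := IntermediateField.finiteDimensional_adjoin hint
  have hB : ∀ b : B, algebraMap B L b ∈ E := by
    intro b
    have hb : b ∈ Submodule.span A (S : Set B) := hS ▸ Submodule.mem_top
    induction hb using Submodule.span_induction with
    | mem x hx => exact IntermediateField.subset_adjoin k _ ⟨x, hx, rfl⟩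
    | zero => rw [map_zero]; exact zero_mem _
    | add x y _ _ hx hy => rw [map_add]; exact add_mem hx hy
    | smul a x _ hx =>
      rw [Algebra.smul_def, map_mul, ← IsScalarTower.algebraMap_apply A B L,
        IsScalarTower.algebraMap_apply A k L]
      exact mul_mem (E.algebraMap_mem _) hx
  have htop : E = ⊤ := by
    rw [eq_top_iff]
    intro x _
    obtain ⟨b, s, -, rfl⟩ := IsFractionRing.div_surjective (A := B) x
    exact div_mem (hB b) (hB s)
  rw [htop] at hE
  exact Module.Finite.equiv (IntermediateField.topEquiv (F := k) (E := L)).toLinearEquiv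

end finite

section kerAlg

variable (A B : Type u) [CommRing A] [CommRing B] [IsDomain B] [Algebra A B]

/-- The kernel of `A → B`, a prime when `B` is a domain. -/
abbrev kerP : Ideal A := RingHom.ker (algebraMap A B)

instance : (kerP A B).IsPrime := RingHom.ker_isPrime _

variable (L : Type u) [Field L] [Algebra B L] [IsFractionRing B L] [Algebra A L]
  [IsScalarTower A B L]

/-- `κ(ker(A → B)) → Frac B`. -/
noncomputable def resToFrac : (kerP A B).ResidueField →+* L :=
  Ideal.ResidueField.lift (kerP A B) (algebraMap A L)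
    (by
      intro a ha
      rw [RingHom.mem_ker] at ha ⊢
      rw [IsScalarTower.algebraMap_apply A B L, ha, map_zero])
    (by
      intro a ha
      rw [Submonoid.mem_comap]
      apply IsUnit.mem_submonoid_iff _ |>.mpr
      rw [isUnit_iff_ne_zero, IsScalarTower.algebraMap_apply A B L]
      intro h0
      apply ha
      change a ∈ RingHom.ker (algebraMap A B)
      rw [RingHom.mem_ker]
      exact (IsFractionRing.injective B L) (by rw [h0, map_zero]))

theorem resToFrac_algebraMap (a : A) :
    resToFrac A B L (algebraMap A (kerP A B).ResidueField a) = algebraMap A L a :=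
  Ideal.ResidueField.lift_algebraMap _ _ _ _ a

end kerAlg

section subalg

variable (A : Type u) [CommRing A] (p : Ideal A) [p.IsPrime] (k' : Type u) [Field k']
  [Algebra p.ResidueField k'] [Algebra A k'] [IsScalarTower A p.ResidueField k']

omit [Algebra p.ResidueField k'] [IsScalarTower A p.ResidueField k'] in
theorem algebraMap_ne_zero_of_notMem [Algebra p.ResidueField k']
    [IsScalarTower A p.ResidueField k'] {m : A} (hm : m ∉ p) : algebraMap A k' m ≠ 0 := by
  rw [IsScalarTower.algebraMap_apply A p.ResidueField k']
  intro h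
  have := (map_eq_zero (algebraMap p.ResidueField k')).mp h
  exact hm (Ideal.algebraMap_residueField_eq_zero.mp this)

theorem exists_integral_multiple [Algebra.IsAlgebraic p.ResidueField k'] (x : k') :
    ∃ m : A, m ∉ p ∧ IsIntegral A (algebraMap A k' m * x) := by
  letI : Algebra (A ⧸ p) k' :=
    ((algebraMap p.ResidueField k').comp (algebraMap (A ⧸ p) p.ResidueField)).toAlgebra
  haveI : IsScalarTower (A ⧸ p) p.ResidueField k' := IsScalarTower.of_algebraMap_eq' rfl
  haveI : IsScalarTower A (A ⧸ p) k' := IsScalarTower.of_algebraMap_eq' (by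
    ext a
    rw [IsScalarTower.algebraMap_apply A p.ResidueField k', RingHom.comp_apply,
      IsScalarTower.algebraMap_apply (A ⧸ p) p.ResidueField k',
      ← IsScalarTower.algebraMap_apply A (A ⧸ p) p.ResidueField])
  have hx : IsIntegral p.ResidueField x := Algebra.IsIntegral.isIntegral x
  obtain ⟨⟨m, hm⟩, hmx⟩ :=
    IsIntegral.exists_multiple_integral_of_isLocalization (A ⧸ p)⁰ x hx
  obtain ⟨a, rfl⟩ := Ideal.Quotient.mk_surjective m
  refine ⟨a, ?_, ?_⟩
  · intro ha
    have : Ideal.Quotient.mk p a = 0 := Ideal.Quotient.eq_zero_iff_mem.mpr ha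
    exact nonZeroDivisors.ne_zero hm this
  · have h1 : IsIntegral A ((⟨Ideal.Quotient.mk p a, hm⟩ : (A ⧸ p)⁰) • x) :=
      isIntegral_trans (R := A) (A := A ⧸ p) _ hmx
    have h2 : ((⟨Ideal.Quotient.mk p a, hm⟩ : (A ⧸ p)⁰) • x) = algebraMap A k' a * x := by
      rw [Submonoid.smul_def, Algebra.smul_def, IsScalarTower.algebraMap_apply A (A ⧸ p) k']
      rfl
    rw [← h2]
    exact h1

/-- A finite `A`-subalgebra of `k'` with fraction field `k'`. -/
theorem exists_finite_subalgebra [Module.Finite p.ResidueField k'] :
    ∃ B : Subalgebra A k', Module.Finite A B ∧ IsFractionRing B k' := by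
  classical
  obtain ⟨S, hS⟩ := (Module.Finite.fg_top : (⊤ : Submodule p.ResidueField k').FG)
  choose m hm hmint using exists_integral_multiple A p k'
  let G : Set k' := (fun x => algebraMap A k' (m x) * x) '' (S : Set k')
  have hGfin : G.Finite := S.finite_toSet.image _
  have hGint : ∀ g ∈ G, IsIntegral A g := by
    rintro _ ⟨x, -, rfl⟩
    exact hmint x
  let B : Subalgebra A k' := Algebra.adjoin A G
  refine ⟨B, Algebra.finite_adjoin_of_finite_of_isIntegral hGfin hGint, ?_⟩
  -- the set of fractions
  let F : Submodule p.ResidueField k' :=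
    { carrier := {z | ∃ x y : B, (y : k') ≠ 0 ∧ z = (x : k') / (y : k')}
      zero_mem' := ⟨0, 1, by simp, by simp⟩
      add_mem' := by
        rintro _ _ ⟨x, y, hy, rfl⟩ ⟨x', y', hy', rfl⟩
        refine ⟨x * y' + y * x', y * y', mul_ne_zero hy hy', ?_⟩
        rw [div_add_div _ _ hy hy']
        rfl
      smul_mem' := by
        rintro c _ ⟨x, y, hy, rfl⟩
        obtain ⟨a, s, hs, rfl⟩ := IsFractionRing.div_surjective (A := A ⧸ p) c
        obtain ⟨a, rfl⟩ := Ideal.Quotient.mk_surjective a
        obtain ⟨s, rfl⟩ := Ideal.Quotient.mk_surjective s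
        have hsp : s ∉ p := by
          intro h
          exact nonZeroDivisors.ne_zero hs (Ideal.Quotient.eq_zero_iff_mem.mpr h)
        have hs0 : algebraMap A k' s ≠ 0 := algebraMap_ne_zero_of_notMem A p k' hsp
        refine ⟨a • x, s • y, ?_, ?_⟩
        · rw [Subalgebra.coe_smul, Algebra.smul_def]
          exact mul_ne_zero hs0 hy
        · rw [Subalgebra.coe_smul, Subalgebra.coe_smul, Algebra.smul_def, Algebra.smul_def,
            Algebra.smul_def, map_div₀, Ideal.algebraMap_quotient_residueField_mk,
            Ideal.algebraMap_quotient_residueField_mk,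
            ← IsScalarTower.algebraMap_apply A p.ResidueField k',
            ← IsScalarTower.algebraMap_apply A p.ResidueField k']
          field_simp }
  have hSF : (S : Set k') ⊆ F := by
    intro x hx
    have hg : algebraMap A k' (m x) * x ∈ B := Algebra.subset_adjoin ⟨x, hx, rfl⟩
    have hm0 : algebraMap A k' (m x) ≠ 0 := algebraMap_ne_zero_of_notMem A p k' (hm x)
    refine ⟨⟨_, hg⟩, algebraMap A B (m x), ?_, ?_⟩
    · exact hm0
    · change x = (algebraMap A k' (m x) * x) / (algebraMap A k' (m x))
      field_simp
  have hF : F = ⊤ := by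
    rw [eq_top_iff, ← hS]
    exact Submodule.span_le.mpr hSF
  apply IsFractionRing.of_field
  intro z
  have hz : z ∈ F := hF ▸ Submodule.mem_top
  obtain ⟨x, y, -, rfl⟩ := hz
  exact ⟨x, y, rfl⟩

end subalg

section main

variable (Q : ∀ (R : Type u) [CommRing R], Prop)
  (hQ : ∀ (R R' : Type u) [CommRing R] [CommRing R'], (R ≃+* R') → Q R → Q R')
variable (A C : Type u) [CommRing A] [CommRing C] [Algebra A C]

/-- `L ⊗[κ(p)] p.Fiber C ≃+* (B ⊗[A] C) ⊗[B] L`. -/
noncomputable def isoChain (p : Ideal A) [p.IsPrime] (B L : Type u) [CommRing B] [Algebra A B]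
    [Field L] [Algebra A L] [Algebra B L] [IsScalarTower A B L] [Algebra p.ResidueField L]
    [IsScalarTower A p.ResidueField L] :
    L ⊗[p.ResidueField] p.Fiber C ≃+* (B ⊗[A] C) ⊗[B] L :=
  ((Algebra.TensorProduct.cancelBaseChange A p.ResidueField L L C).toRingEquiv.trans
    (Algebra.TensorProduct.cancelBaseChange A B L L C).symm.toRingEquiv).trans
    (Algebra.TensorProduct.comm B L (B ⊗[A] C)).toRingEquiv

include hQ in
theorem main :
    (∀ (p : Ideal A) [p.IsPrime] (k' : Type u) [Field k'] [Algebra p.ResidueField k'],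
      Module.Finite p.ResidueField k' → Loc Q (k' ⊗[p.ResidueField] p.Fiber C)) ↔
    (∀ (B : Type u) [CommRing B] [IsDomain B] [Algebra A B] [Module.Finite A B]
      (q : Ideal (B ⊗[A] C)) [q.IsPrime],
      q.comap (algebraMap B (B ⊗[A] C)) = ⊥ → Q (Localization.AtPrime q)) := by
  constructor
  · intro h B _ _ _ _ q _ hq
    letI : Algebra (kerP A B).ResidueField (FractionRing B) :=
      (resToFrac A B (FractionRing B)).toAlgebra
    haveI : IsScalarTower A (kerP A B).ResidueField (FractionRing B) :=
      IsScalarTower.of_algebraMap_eq' (by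
        ext a
        exact (resToFrac_algebraMap A B (FractionRing B) a).symm)
    haveI : Module.Finite (kerP A B).ResidueField (FractionRing B) :=
      finite_of_isFractionRing A B (kerP A B).ResidueField (FractionRing B)
    have h1 := h (kerP A B) (FractionRing B) inferInstance
    have h2 : Loc Q ((B ⊗[A] C) ⊗[B] FractionRing B) :=
      (locStable_of_local Q hQ).iso _ _ (isoChain A C (kerP A B) B (FractionRing B)) h1
    exact (loc_tensor_fractionRing_iff Q hQ B (B ⊗[A] C) (FractionRing B)).mp h2 q hq
  · intro h p _ k' _ _ hfin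
    letI : Algebra A k' :=
      ((algebraMap p.ResidueField k').comp (algebraMap A p.ResidueField)).toAlgebra
    haveI : IsScalarTower A p.ResidueField k' := IsScalarTower.of_algebraMap_eq' rfl
    obtain ⟨B, hBfin, hBfrac⟩ := exists_finite_subalgebra A p k'
    have h2 : Loc Q ((B ⊗[A] C) ⊗[B] k') :=
      (loc_tensor_fractionRing_iff Q hQ B (B ⊗[A] C) k').mpr (fun q _ hq => h B q hq)
    exact (locStable_of_local Q hQ).iso _ _ (isoChain A C p B k').symm h2

end main

end Groth.Agent.Lib.Helper24.FiniteDomains
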