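import Groth.Agent.Lib.Helper24.DerReg2

/-!
# The ideal `(f - σ f)` of a finite-order automorphism of a local algebra (helper24)

`A` a Noetherian local `k`-algebra with residue field `k`, `σ` a `k`-algebra endomorphism with
`σ^n = id`, `n` invertible in `k`.  Then `I_σ = (a - σ a)` is generated by elements of the maximal
ideal with linearly independent classes in the cotangent space.
-/

set_option autoImplicit false
universe u

namespace Groth.Agent.Lib.Helper24.FixIdeal1

open IsLocalRing
open Groth.Agent.Lib.Helper24.DerReg2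

variable {k : Type u} [Field k] {A : Type u} [CommRing A] [Algebra k A] [IsLocalRing A]

section basic

variable (σ : A →ₐ[k] A) (n : ℕ) (hσ : ∀ a : A, (⇑σ)^[n] a = a) (hn0 : n ≠ 0)

include hσ hn0 in
theorem map_mem_maximalIdeal {y : A} (hy : y ∈ maximalIdeal A) : σ y ∈ maximalIdeal A := by
  rw [IsLocalRing.mem_maximalIdeal, mem_nonunits_iff] at hy ⊢
  intro hu
  apply hy
  obtain ⟨m, rfl⟩ := Nat.exists_eq_succ_of_ne_zero hn0
  have h1 : (⇑σ)^[m] (σ y) = y := by
    rw [← Function.iterate_succ_apply]; exact hσ y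
  rw [← h1]
  have : ∀ (j : ℕ) (z : A), IsUnit z → IsUnit ((⇑σ)^[j] z) := by
    intro j
    induction j with
    | zero => intro z hz; exact hz
    | succ j ih => intro z hz; rw [Function.iterate_succ_apply]; exact ih _ (hz.map σ)
  exact this m _ hu

include hσ hn0 in
theorem map_mem_sq {y : A} (hy : y ∈ maximalIdeal A ^ 2) : σ y ∈ maximalIdeal A ^ 2 := by
  have h1 : (maximalIdeal A).map (σ : A →+* A) ≤ maximalIdeal A := by
    rw [Ideal.map_le_iff_le_comap]
    intro z hz
    exact map_mem_maximalIdeal σ n hσ hn0 hz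
  have h2 : (maximalIdeal A ^ 2).map (σ : A →+* A) ≤ maximalIdeal A ^ 2 := by
    rw [Ideal.map_pow]; exact Ideal.pow_right_mono h1 2
  exact h2 (Ideal.mem_map_of_mem _ hy)

/-- The ideal generated by the `a - σ a`. -/
def Isig : Ideal A := Ideal.span (Set.range fun a : A => a - σ a)

theorem sub_mem_Isig (a : A) : a - σ a ∈ Isig σ := Ideal.subset_span ⟨a, rfl⟩

/-- `(1 - σ)(𝔪²) ⊆ 𝔪 I_σ`. -/
theorem sub_mem_mul_of_mem_sq {y : A} (hy : y ∈ maximalIdeal A ^ 2)
    (hσm : ∀ z ∈ maximalIdeal A, σ z ∈ maximalIdeal A) :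
    y - σ y ∈ maximalIdeal A * Isig σ := by
  rw [sq] at hy
  refine Submodule.mul_induction_on hy ?_ ?_
  · intro a ha b hb
    have : a * b - σ (a * b) = b * (a - σ a) + σ a * (b - σ b) := by
      rw [map_mul]; ring
    rw [this]
    exact Ideal.add_mem _ (Ideal.mul_mem_mul hb (sub_mem_Isig σ a))
      (Ideal.mul_mem_mul (hσm a ha) (sub_mem_Isig σ b))
  · intro a b ha hb
    have : a + b - σ (a + b) = (a - σ a) + (b - σ b) := by rw [map_add]; ring
    rw [this]
    exact Ideal.add_mem _ ha hb

include hσ in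
/-- Averaging: if `y - σ y ∈ 𝔪²` then `y = e + w` with `σ e = e` and `w ∈ 𝔪²`. -/
theorem exists_invariant_add (hn : (n : k) ≠ 0)
    (hσsq : ∀ z ∈ maximalIdeal A ^ 2, σ z ∈ maximalIdeal A ^ 2)
    {y : A} (hy : y - σ y ∈ maximalIdeal A ^ 2) :
    ∃ e w : A, y = e + w ∧ σ e = e ∧ w ∈ maximalIdeal A ^ 2 := by
  have hiter : ∀ i : ℕ, y - (⇑σ)^[i] y ∈ maximalIdeal A ^ 2 := by
    intro i
    induction i with
    | zero => simp
    | succ i ih =>
      have : y - (⇑σ)^[i + 1] y = (y - σ y) + σ (y - (⇑σ)^[i] y) := by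
        rw [Function.iterate_succ_apply', map_sub]; ring
      rw [this]
      exact Ideal.add_mem _ hy (hσsq _ ih)
  set e : A := (n : k)⁻¹ • ∑ i ∈ Finset.range n, (⇑σ)^[i] y with he
  refine ⟨e, y - e, by ring, ?_, ?_⟩
  · rw [he, map_smul, map_sum]
    congr 1
    have h1 : ∀ i, σ ((⇑σ)^[i] y) = (⇑σ)^[i + 1] y := fun i => by
      rw [Function.iterate_succ_apply']
    simp only [h1]
    have e1 := Finset.sum_range_succ' (fun i => (⇑σ)^[i] y) n
    have e2 := Finset.sum_range_succ (fun i => (⇑σ)^[i] y) n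
    rw [e2] at e1
    simp only [Function.iterate_zero, id_eq] at e1
    rw [hσ y] at e1
    exact (add_right_cancel e1).symm
  · have : y - e = (n : k)⁻¹ • ∑ i ∈ Finset.range n, (y - (⇑σ)^[i] y) := by
      rw [Finset.sum_sub_distrib, Finset.sum_const, Finset.card_range, smul_sub, he,
        ← Nat.cast_smul_eq_nsmul k n y, smul_smul, inv_mul_cancel₀ hn, one_smul]
    rw [this, Algebra.smul_def]
    exact Ideal.mul_mem_left _ _ (Ideal.sum_mem _ fun i _ => hiter i)

end basic

section main

variable [IsNoetherianRing A]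

theorem algebraMap_smul_cot (c : k) (v : CotangentSpace A) :
    algebraMap k (ResidueField A) c • v = c • v := by
  show residue A (algebraMap k A c) • v = c • v
  rw [← algebraMap_smul A c v]
  rfl

theorem main (hres : Function.Surjective (algebraMap k (ResidueField A))) (σ : A →ₐ[k] A) (n : ℕ)
    (hσ : ∀ a : A, (⇑σ)^[n] a = a) (hn : (n : k) ≠ 0) :
    ∃ (m : ℕ) (f : Fin m → ↥(maximalIdeal A)),
      Ideal.span (Set.range fun i : Fin m => (f i : A)) =
        Ideal.span (Set.range fun a : A => a - σ a) ∧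
      LinearIndependent (ResidueField A)
        (fun i : Fin m => (maximalIdeal A).toCotangent (f i)) := by
  have hn0 : n ≠ 0 := by rintro rfl; simp at hn
  have hσm : ∀ z ∈ maximalIdeal A, σ z ∈ maximalIdeal A :=
    fun z hz => map_mem_maximalIdeal σ n hσ hn0 hz
  have hσsq : ∀ z ∈ maximalIdeal A ^ 2, σ z ∈ maximalIdeal A ^ 2 :=
    fun z hz => map_mem_sq σ n hσ hn0 hz
  have hsubm : ∀ y ∈ maximalIdeal A, y - σ y ∈ maximalIdeal A :=
    fun y hy => Ideal.sub_mem _ hy (hσm y hy)
  let T : Set (CotangentSpace A) := Set.range fun y : maximalIdeal A =>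
    (maximalIdeal A).toCotangent ⟨(y : A) - σ y, hsubm y y.2⟩
  obtain ⟨u, huT, huspan, huli⟩ :=
    Submodule.exists_fun_fin_finrank_span_eq (ResidueField A) T
  choose g hg using huT
  let f : Fin (Module.finrank (ResidueField A) (Submodule.span (ResidueField A) T)) →
      maximalIdeal A := fun i => ⟨(g i : A) - σ (g i), hsubm (g i) (g i).2⟩
  have hfu : (fun i => (maximalIdeal A).toCotangent (f i)) = u := funext hg
  refine ⟨_, f, ?_, ?_⟩
  swap
  · rw [hfu]; exact huli
  change Ideal.span (Set.range fun i => (f i : A)) = Isig σ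
  set I' : Ideal A := Ideal.span (Set.range fun i => (f i : A)) with hI'
  apply le_antisymm
  · rw [hI', Ideal.span_le]
    rintro _ ⟨i, rfl⟩
    exact sub_mem_Isig σ (g i)
  -- Nakayama
  refine Submodule.le_of_le_smul_of_le_jacobson_bot (IsNoetherian.noetherian _)
    (IsLocalRing.jacobson_eq_maximalIdeal _ bot_ne_top).ge ?_
  have key : ∀ y ∈ maximalIdeal A, y - σ y ∈ I' ⊔ maximalIdeal A • Isig σ := by
    intro y hy
    have hyT : (maximalIdeal A).toCotangent ⟨y - σ y, hsubm y hy⟩ ∈
        Submodule.span (ResidueField A) (Set.range u) := by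
      rw [huspan]
      exact Submodule.subset_span ⟨⟨y, hy⟩, rfl⟩
    obtain ⟨cb, hcb⟩ := (Submodule.mem_span_range_iff_exists_fun (ResidueField A)).mp hyT
    choose c hc using fun i => hres (cb i)
    -- the element y'
    have h1 : (y - σ y) - ∑ i, c i • (f i : A) ∈ maximalIdeal A ^ 2 := by
      have e1 : (maximalIdeal A).toCotangent ⟨y - σ y, hsubm y hy⟩ =
          (maximalIdeal A).toCotangent (∑ i, c i • f i) := by
        rw [← hcb, map_sum]
        refine Finset.sum_congr rfl fun i _ => ?_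
        rw [LinearMap.map_smul_of_tower, ← hc i, algebraMap_smul_cot, ← hg i]
      have e2 := (Ideal.toCotangent_eq _).mp e1
      have e3 : ((∑ i, c i • f i : maximalIdeal A) : A) = ∑ i, c i • (f i : A) := by
        rw [Submodule.coe_sum]
        rfl
      rw [e3] at e2
      exact e2
    set y' : A := y - ∑ i, c i • (g i : A) with hy'
    have h2 : y' - σ y' = (y - σ y) - ∑ i, c i • (f i : A) := by
      rw [hy', map_sub, map_sum]
      simp only [map_smul, f, smul_sub, Finset.sum_sub_distrib]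
      ring
    obtain ⟨e, w, hew, he, hw⟩ := exists_invariant_add σ n hσ hn hσsq (y := y') (by rw [h2]; exact h1)
    have h3 : y' - σ y' = w - σ w := by
      rw [hew, map_add, he]; ring
    have h4 : y - σ y = ∑ i, c i • (f i : A) + (w - σ w) := by
      rw [← h3, h2]; ring
    rw [h4]
    refine Submodule.add_mem_sup ?_ ?_
    · refine Ideal.sum_mem _ fun i _ => ?_
      rw [Algebra.smul_def]
      exact Ideal.mul_mem_left _ _ (Ideal.subset_span ⟨i, rfl⟩)
    · rw [smul_eq_mul]
      exact sub_mem_mul_of_mem_sq σ hw hσm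
  show Isig σ ≤ I' ⊔ maximalIdeal A • Isig σ
  rw [Isig, Ideal.span_le]
  rintro _ ⟨a, rfl⟩
  have ha := sub_aug_mem hres a
  have : a - σ a = (a - algebraMap k A (aug hres a)) - σ (a - algebraMap k A (aug hres a)) := by
    rw [map_sub, AlgHom.commutes]; ring
  show a - σ a ∈ I' ⊔ maximalIdeal A • Isig σ
  rw [this]
  exact key _ ha

end main

end Groth.Agent.Lib.Helper24.FixIdeal1
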