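import Mathlib

/-!
# Flatness of `P ⊗[A] N` over a smaller ring (helper24)

`C → A` rings, `P` an `A`-module, `N` an `A`-module; `C` acts on `P ⊗[A] N` through `P`.
* `flat_tensor`: `P` flat over `A`, `N` flat over `C` ⟹ `P ⊗[A] N` flat over `C`.
* `flat_of_flat_tensor`: `P` faithfully flat over `A`, `P ⊗[A] N` flat over `C` ⟹ `N` flat over `C`.
* `smul_top_tensor_eq_top_iff`: for `P` faithfully flat, `I (P ⊗ N) = P ⊗ N ↔ I N = N`.
-/

set_option autoImplicit false
universe u

namespace Groth.Agent.Lib.Helper24.FlatTens

open TensorProduct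

section alg

variable {C A : Type u} [CommRing C] [CommRing A] [Algebra C A]
  {P N : Type u} [AddCommGroup P] [Module A P] [Module C P] [IsScalarTower C A P]
  [AddCommGroup N] [Module A N] [Module C N] [IsScalarTower C A N]

/-- naturality of the associator in the last variable. -/
theorem assoc_lTensor {K L : Type u} [AddCommMonoid K] [Module C K] [AddCommMonoid L] [Module C L]
    (i : L →ₗ[C] K) (t : (P ⊗[A] N) ⊗[C] L) :
    AlgebraTensorModule.assoc C A A P N K (i.lTensor (P ⊗[A] N) t) =
      (AlgebraTensorModule.lTensor A N i).lTensor P (AlgebraTensorModule.assoc C A A P N L t) := by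
  induction t using TensorProduct.induction_on with
  | zero => simp
  | add a b ha hb => rw [map_add, map_add, ha, hb, map_add, map_add]
  | tmul w l =>
    induction w using TensorProduct.induction_on with
    | zero => simp
    | add a b ha hb =>
      rw [TensorProduct.add_tmul, map_add, map_add, ha, hb, map_add, map_add]
    | tmul p n => rfl

theorem flat_tensor [Module.Flat A P] [Module.Flat C N] : Module.Flat C (P ⊗[A] N) := by
  rw [Module.Flat.iff_lTensor_injectiveₛ]
  intro K _ _ L
  have hj : Function.Injective (AlgebraTensorModule.lTensor A N L.subtype) := by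
    rw [AlgebraTensorModule.coe_lTensor]
    exact Module.Flat.lTensor_preserves_injective_linearMap L.subtype Subtype.val_injective
  have hj' : Function.Injective ((AlgebraTensorModule.lTensor A N L.subtype).lTensor P) :=
    Module.Flat.lTensor_preserves_injective_linearMap _ hj
  intro a b hab
  apply (AlgebraTensorModule.assoc C A A P N L).injective
  apply hj'
  rw [← assoc_lTensor, ← assoc_lTensor, hab]

theorem flat_of_flat_tensor [Module.FaithfullyFlat A P] [Module.Flat C (P ⊗[A] N)] :
    Module.Flat C N := by
  rw [Module.Flat.iff_lTensor_injectiveₛ]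
  intro K _ _ L
  have h1 : Function.Injective (L.subtype.lTensor (P ⊗[A] N)) :=
    Module.Flat.lTensor_preserves_injective_linearMap L.subtype Subtype.val_injective
  have h2 : Function.Injective ((AlgebraTensorModule.lTensor A N L.subtype).lTensor P) := by
    intro a b hab
    obtain ⟨a', rfl⟩ := (AlgebraTensorModule.assoc C A A P N L).surjective a
    obtain ⟨b', rfl⟩ := (AlgebraTensorModule.assoc C A A P N L).surjective b
    rw [← assoc_lTensor, ← assoc_lTensor] at hab
    rw [h1 ((AlgebraTensorModule.assoc C A A P N K).injective hab)]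
  have h3 := (Module.FaithfullyFlat.lTensor_injective_iff_injective A P
    (AlgebraTensorModule.lTensor A N L.subtype)).mp h2
  rwa [AlgebraTensorModule.coe_lTensor] at h3

end alg

section smul

variable {A : Type u} [CommRing A] {P N : Type u} [AddCommGroup P] [Module A P]
  [AddCommGroup N] [Module A N]

theorem smul_top_tensor_eq_top_of (I : Ideal A) (h : I • (⊤ : Submodule A N) = ⊤) :
    I • (⊤ : Submodule A (P ⊗[A] N)) = ⊤ := by
  rw [eq_top_iff]
  rintro t -
  induction t using TensorProduct.induction_on with
  | zero => exact Submodule.zero_mem _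
  | add a b ha hb => exact Submodule.add_mem _ ha hb
  | tmul p n =>
    have hn : n ∈ I • (⊤ : Submodule A N) := by rw [h]; trivial
    refine Submodule.smul_induction_on hn ?_ ?_
    · intro r hr m _
      rw [TensorProduct.tmul_smul]
      exact Submodule.smul_mem_smul hr trivial
    · intro x y hx hy
      rw [TensorProduct.tmul_add]
      exact Submodule.add_mem _ hx hy

theorem smul_top_eq_top_of_tensor [Module.FaithfullyFlat A P] (I : Ideal A)
    (h : I • (⊤ : Submodule A (P ⊗[A] N)) = ⊤) : I • (⊤ : Submodule A N) = ⊤ := by
  let Q := N ⧸ (I • (⊤ : Submodule A N))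
  have hQ : ∀ (r : A) (_ : r ∈ I) (q : Q), r • q = 0 := by
    intro r hr q
    obtain ⟨n, rfl⟩ := Submodule.Quotient.mk_surjective _ q
    rw [← Submodule.Quotient.mk_smul, Submodule.Quotient.mk_eq_zero]
    exact Submodule.smul_mem_smul hr trivial
  haveI : Subsingleton (P ⊗[A] Q) := by
    refine ⟨fun a b => ?_⟩
    suffices hz : ∀ t : P ⊗[A] Q, t = 0 by rw [hz a, hz b]
    intro t
    obtain ⟨s, rfl⟩ := LinearMap.lTensor_surjective P
      (Submodule.mkQ_surjective (I • (⊤ : Submodule A N))) t
    have hs : s ∈ I • (⊤ : Submodule A (P ⊗[A] N)) := by rw [h]; trivial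
    refine Submodule.smul_induction_on hs ?_ ?_
    · intro r hr m _
      rw [map_smul]
      generalize (LinearMap.lTensor P (I • (⊤ : Submodule A N)).mkQ) m = w
      induction w using TensorProduct.induction_on with
      | zero => simp
      | add a b ha hb => rw [smul_add, ha, hb, add_zero]
      | tmul p q => rw [← TensorProduct.tmul_smul, hQ r hr q, TensorProduct.tmul_zero]
    · intro x y hx hy
      rw [map_add, hx, hy, add_zero]
  haveI : Subsingleton Q := Module.FaithfullyFlat.lTensor_reflects_triviality A P Q
  exact Submodule.Quotient.subsingleton_iff.mp this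

end smul

end Groth.Agent.Lib.Helper24.FlatTens
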