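import Groth.Agent.Lib.Helper24.FibKL7
import Groth.Agent.Lib.Helper17.FibreStalk
import Groth.Agent.Lib.Helper17.StalkPullback

/-!
# Base change of the relative assassin (helper24), part 1

* `quotEquivOfIsBaseChange`: a base change of a module along a surjective ring map is the quotient by
  the kernel.
* `isAssPoint_fibre_iff` (**Lemma A**): for an arbitrary morphism `f : X ⟶ S`, a quasi-coherent
  module `F` on `X` and a point `z` of the fibre `f.fiber y`, `z` is an associated point of the
  restriction of `F` to the fibre iff its image in `X` lies in the relative assassin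
  `MoreMor.relAss f F` (stalk-level definition).
-/

set_option autoImplicit false
universe u

namespace Groth.Agent.Lib.Helper24.RelAssBC

open AlgebraicGeometry CategoryTheory IsLocalRing TensorProduct

section alg

variable {A R : Type u} [CommRing A] [CommRing R] [Algebra A R]
  {N T : Type u} [AddCommGroup N] [Module A N] [AddCommGroup T] [Module A T] [Module R T]
  [IsScalarTower A R T]

/-- a base change along a surjection is the quotient by the kernel. -/
noncomputable def quotEquivOfIsBaseChange (ψ : N →ₗ[A] T) (hψ : IsBaseChange R ψ)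
    (hsurj : Function.Surjective (algebraMap A R)) :
    (N ⧸ (RingHom.ker (algebraMap A R)) • (⊤ : Submodule A N)) ≃ₗ[A] T :=
  ((TensorProduct.quotTensorEquivQuotSMul N (RingHom.ker (algebraMap A R))).symm.trans
    (TensorProduct.congr
      (Ideal.quotientKerAlgEquivOfSurjective (f := Algebra.ofId A R) hsurj).toLinearEquiv
      (LinearEquiv.refl A N))).trans (hψ.equiv.restrictScalars A)

theorem isAssociatedPrime_iff_of_isBaseChange [IsLocalRing A] [IsLocalRing R]
    (ψ : N →ₗ[A] T) (hψ : IsBaseChange R ψ)
    (hsurj : Function.Surjective (algebraMap A R)) :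
    IsAssociatedPrime (maximalIdeal R) T ↔
      IsAssociatedPrime (maximalIdeal A)
        (N ⧸ (RingHom.ker (algebraMap A R)) • (⊤ : Submodule A N)) := by
  rw [← Groth.Agent.Lib.Helper24.FibKL.isAssociatedPrime_maximalIdeal_iff_of_surjective T hsurj]
  have h := LinearEquiv.AssociatedPrimes.eq (quotEquivOfIsBaseChange ψ hψ hsurj)
  constructor
  · intro h1
    have : maximalIdeal A ∈ associatedPrimes A T := h1
    rw [← h] at this
    exact this
  · intro h1
    have : maximalIdeal A ∈ associatedPrimes A _ := h1
    rw [h] at this
    exact this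

end alg

section lemmaA

open Groth.Agent.Lib.helper17.FibreStalk Groth.Agent.Lib.helper17.StalkPullback

variable {X S : Scheme.{u}} (f : X ⟶ S) (F : X.Modules)

/-- **Lemma A**: associated points of the restriction of `F` to a fibre are the points of the
relative assassin (no finiteness hypotheses). -/
theorem isAssPoint_fibre_iff [F.IsQuasicoherent] (y : S) (z : f.fiber y) :
    Curv2.IsAssPoint ((Scheme.Modules.pullback (f.fiberι y)).obj F) z ↔
      f.fiberι y z ∈ MoreMor.relAss f F := by
  letI alg : Algebra (X.presheaf.stalk (f.fiberι y z)) ((f.fiber y).presheaf.stalk z) :=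
    ((f.fiberι y).stalkMap z).hom.toAlgebra
  letI m1 := FlatMod.moduleStalkOver (f.fiberι y) ((Scheme.Modules.pullback (f.fiberι y)).obj F) z
  haveI := isScalarTower_moduleStalkOver (f.fiberι y)
    ((Scheme.Modules.pullback (f.fiberι y)).obj F) z
  obtain ⟨ψ, hψ⟩ := exists_isBaseChange_stalk_pullback (f.fiberι y) F z
  have hsurj : Function.Surjective
      (algebraMap (X.presheaf.stalk (f.fiberι y z)) ((f.fiber y).presheaf.stalk z)) :=
    (f.fiberι y).stalkMap_surjective z
  have hker : RingHom.ker
      (algebraMap (X.presheaf.stalk (f.fiberι y z)) ((f.fiber y).presheaf.stalk z)) =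
      (maximalIdeal (S.presheaf.stalk (f (f.fiberι y z)))).map
        (f.stalkMap (f.fiberι y z)).hom := ker_fiberι_stalkMap f y z
  have h := isAssociatedPrime_iff_of_isBaseChange ψ hψ hsurj
  rw [hker] at h
  exact h

/-- **Lemma A** at the point `f.asFiber x`. -/
theorem isAssPoint_asFiber_iff [F.IsQuasicoherent] (x : X) :
    Curv2.IsAssPoint ((Scheme.Modules.pullback (f.fiberι (f x))).obj F) (f.asFiber x) ↔
      x ∈ MoreMor.relAss f F := by
  rw [isAssPoint_fibre_iff, f.fiberι_asFiber]

end lemmaA

end Groth.Agent.Lib.Helper24.RelAssBC
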