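import Groth.Agent.Lib.Helper24.TensFlat1
import Groth.Agent.Lib.Helper24.RelAssBC1
import Groth.Agent.Lib.Helper16.SecOrd5
import Groth.Agent.Lib.Helper16.LenSemi3
import Groth.Agent.Lib.Helper16.DivSum6
import Groth.Agent.Lib.Helper2.TensorQCoh

/-!
# Associated points of `f^*E ⊗ F` for `F` flat over the base (helper24), scheme level

* `isAssPoint_iff_isAssociatedPrime_pOf` (Lemma L): for quasi-coherent `F` on a locally Noetherian
  scheme and `ξ ⤳ x`: `ξ ∈ Ass F ↔ pOf h ∈ Ass_{O_x} F_x`.
* `nonempty_stalk_tensor_equiv`: `(f^*E ⊗ F)_x ≃ F_x ⊗_{O_{f x}} E_{f x}`.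
* `isAssPoint_tensor_iff` (K): `x ∈ Ass (f^*E ⊗ F) ↔ f x ∈ Ass E ∧ x ∈ relAss f F`.
* `exists_isAssPoint_tensor_generization` (P1).
-/

set_option autoImplicit false
universe u

namespace Groth.Agent.Lib.Helper24.TensFlat

open AlgebraicGeometry CategoryTheory IsLocalRing TensorProduct
open Groth.Agent.Lib.helper16.OrdGen Groth.Agent.Lib.helper16.DivSum
  Groth.Agent.Lib.helper16.StalkLoc Groth.Agent.Lib.helper17.StalkPullback

section lemmaL

variable {X : Scheme.{u}} [IsLocallyNoetherian X] (F : X.Modules) [F.IsQuasicoherent]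

/-- **Lemma L**: associated points among the generizations of `x` are the associated primes of the
stalk at `x`. -/
theorem isAssPoint_iff_isAssociatedPrime_pOf {x ξ : X} (h : ξ ⤳ x) :
    Curv2.IsAssPoint F ξ ↔ IsAssociatedPrime (pOf h) (F.presheaf.stalk x) := by
  letI := (X.presheaf.stalkSpecializes h).hom.toAlgebra
  letI := modSpec F h
  haveI := isScalarTower_modSpec F h
  haveI := isLocalization_stalkSpecializes h
  haveI := isLocalizedModule_specLin F h
  have key :=
    Module.associatedPrimes.preimage_comap_associatedPrimes_eq_associatedPrimes_of_isLocalizedModule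
      (pOf h).primeCompl (X.presheaf.stalk ξ) (specLin F h)
  have hc : (maximalIdeal (X.presheaf.stalk ξ)).comap
      (algebraMap (X.presheaf.stalk x) (X.presheaf.stalk ξ)) = pOf h := by
    ext b
    rw [Ideal.mem_comap, mem_pOf_iff]
    rfl
  have := Set.ext_iff.mp key (maximalIdeal (X.presheaf.stalk ξ))
  rw [Set.mem_preimage, hc] at this
  exact this.symm

end lemmaL

section lemmaK

variable {X Y : Scheme.{u}} (f : X ⟶ Y) (E : Y.Modules) [E.IsQuasicoherent] (F : X.Modules)

theorem nonempty_stalk_tensor_equiv (x : X) :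
    letI := (f.stalkMap x).hom.toAlgebra
    letI := FlatMod.moduleStalkOver f F x
    haveI := isScalarTower_moduleStalkOver f F x
    Nonempty ((CohB1.tensorMod ((Scheme.Modules.pullback f).obj E) F).presheaf.stalk x
      ≃ₗ[X.presheaf.stalk x]
      (F.presheaf.stalk x) ⊗[Y.presheaf.stalk (f x)] (E.presheaf.stalk (f x))) := by
  letI alg := (f.stalkMap x).hom.toAlgebra
  letI m1 := FlatMod.moduleStalkOver f F x
  haveI := isScalarTower_moduleStalkOver f F x
  letI m2 := FlatMod.moduleStalkOver f ((Scheme.Modules.pullback f).obj E) x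
  haveI := isScalarTower_moduleStalkOver f ((Scheme.Modules.pullback f).obj E) x
  obtain ⟨ψ, hψ⟩ := exists_isBaseChange_stalk_pullback f E x
  let e1 := Groth.Agent.Lib.helper16.SecOrd.tensorStalkEquiv
    ((Scheme.Modules.pullback f).obj E) F x
  let e2 := TensorProduct.comm (X.presheaf.stalk x)
    (((Scheme.Modules.pullback f).obj E).presheaf.stalk x) (F.presheaf.stalk x)
  let e3 := TensorProduct.congr (LinearEquiv.refl (X.presheaf.stalk x) (F.presheaf.stalk x))
    hψ.equiv.symm
  let e4 := AlgebraTensorModule.cancelBaseChange (Y.presheaf.stalk (f x)) (X.presheaf.stalk x)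
    (X.presheaf.stalk x) (F.presheaf.stalk x) (E.presheaf.stalk (f x))
  exact ⟨e1 ≪≫ₗ e2 ≪≫ₗ e3 ≪≫ₗ e4⟩

end lemmaK

section main

variable {X Y : Scheme.{u}} [IsLocallyNoetherian X] [IsLocallyNoetherian Y] (f : X ⟶ Y)
  (E : Y.Modules) [E.IsQuasicoherent] (F : X.Modules)

omit [IsLocallyNoetherian X] in
/-- **(K)**: associated points of `f^*E ⊗ F` for `F` flat over `Y` at `x`. -/
theorem isAssPoint_tensor_iff (x : X) (hfl : FlatMod.IsFlatOverAt f F x) :
    Curv2.IsAssPoint (CohB1.tensorMod ((Scheme.Modules.pullback f).obj E) F) x ↔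
      Curv2.IsAssPoint E (f x) ∧ x ∈ MoreMor.relAss f F := by
  letI alg := (f.stalkMap x).hom.toAlgebra
  letI m1 := FlatMod.moduleStalkOver f F x
  haveI := isScalarTower_moduleStalkOver f F x
  haveI : Module.Flat (Y.presheaf.stalk (f x)) (F.presheaf.stalk x) := hfl
  have hloc : IsLocalHom (algebraMap (Y.presheaf.stalk (f x)) (X.presheaf.stalk x)) :=
    inferInstanceAs (IsLocalHom (f.stalkMap x).hom)
  obtain ⟨e⟩ := nonempty_stalk_tensor_equiv f E F x
  have h1 := LinearEquiv.AssociatedPrimes.eq e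
  have h2 := mem_ass_tensor_iff (R := Y.presheaf.stalk (f x)) (S := X.presheaf.stalk x)
    (N := F.presheaf.stalk x) (E.presheaf.stalk (f x)) (maximalIdeal (X.presheaf.stalk x))
  have hc : (maximalIdeal (X.presheaf.stalk x)).comap
      (algebraMap (Y.presheaf.stalk (f x)) (X.presheaf.stalk x)) = maximalIdeal _ :=
    ((IsLocalRing.local_hom_TFAE
      (algebraMap (Y.presheaf.stalk (f x)) (X.presheaf.stalk x))).out 0 4).mp hloc
  rw [hc, ← h1] at h2
  exact h2

/-- **(P1)**: above every associated point `y'` of `E` generizing `f x`, with `x ∈ Supp F`, there is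
an associated point of `f^*E ⊗ F` generizing `x`. -/
theorem exists_isAssPoint_tensor_generization (hF : Coh.IsCoh F) (x : X)
    (hfl : FlatMod.IsFlatOverAt f F x) (hnt : Nontrivial (F.presheaf.stalk x)) (y' : Y)
    (hy' : y' ⤳ f x) (hass : Curv2.IsAssPoint E y') :
    ∃ x2 : X, x2 ⤳ x ∧
      Curv2.IsAssPoint (CohB1.tensorMod ((Scheme.Modules.pullback f).obj E) F) x2 ∧ f x2 = y' := by
  letI alg := (f.stalkMap x).hom.toAlgebra
  letI m1 := FlatMod.moduleStalkOver f F x
  haveI := isScalarTower_moduleStalkOver f F x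
  haveI : Module.Flat (Y.presheaf.stalk (f x)) (F.presheaf.stalk x) := hfl
  haveI : IsLocalHom (algebraMap (Y.presheaf.stalk (f x)) (X.presheaf.stalk x)) :=
    inferInstanceAs (IsLocalHom (f.stalkMap x).hom)
  haveI : F.IsQuasicoherent := hF.1
  haveI := Groth.Agent.Lib.helper16.QCohPullback.isQuasicoherent_pullback f E
  haveI : (CohB1.tensorMod ((Scheme.Modules.pullback f).obj E) F).IsQuasicoherent :=
    Groth.Agent.Lib.helper2.TensorQCoh.isQuasicoherent_tensorMod _ _
  haveI : Module.Finite (X.presheaf.stalk x) (F.presheaf.stalk x) :=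
    Groth.Agent.Lib.helper16.CohStalk.finite_stalk_of_isCoh F hF x
  obtain ⟨e⟩ := nonempty_stalk_tensor_equiv f E F x
  have hp' : IsAssociatedPrime (pOf hy') (E.presheaf.stalk (f x)) :=
    (isAssPoint_iff_isAssociatedPrime_pOf E hy').mp hass
  obtain ⟨q, hq⟩ := exists_ass_quot (R := Y.presheaf.stalk (f x)) (S := X.presheaf.stalk x)
    (N := F.presheaf.stalk x) (pOf hy') (Ideal.IsPrime.ne_top inferInstance)
  have hqG : q ∈ associatedPrimes (X.presheaf.stalk x)
      ((CohB1.tensorMod ((Scheme.Modules.pullback f).obj E) F).presheaf.stalk x) := by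
    rw [LinearEquiv.AssociatedPrimes.eq e]
    exact mem_ass_tensor_of_mem _ _ hp' q hq
  have hqc := comap_eq_of_mem_ass_quot (pOf hy') q hq
  have hqp : q.IsPrime := hq.isPrime
  have h2 := specializes_fromSpecStalk x (⟨q, hqp⟩ : PrimeSpectrum (X.presheaf.stalk x))
  have hpq : pOf h2 = q := pOf_fromSpecStalk x ⟨q, hqp⟩ h2
  refine ⟨X.fromSpecStalk x ⟨q, hqp⟩, h2, ?_, ?_⟩
  · rw [isAssPoint_iff_isAssociatedPrime_pOf _ h2, hpq]
    exact hqG
  · have hf2 : f (X.fromSpecStalk x ⟨q, hqp⟩) ⤳ f x := h2.map f.continuous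
    have h3 := comap_pOf f h2 hf2
    rw [hpq] at h3
    have h4 : pOf hf2 = pOf hy' := h3.symm.trans hqc
    rw [← fromSpecStalk_pOf hf2, ← fromSpecStalk_pOf hy']
    congr 1
    exact PrimeSpectrum.ext h4

omit [IsLocallyNoetherian X] [IsLocallyNoetherian Y] in
/-- an associated point of `f^*E ⊗ F` lies in the support of `F`. -/
theorem nontrivial_stalk_of_isAssPoint_tensor (x : X)
    (h : Curv2.IsAssPoint (CohB1.tensorMod ((Scheme.Modules.pullback f).obj E) F) x) :
    Nontrivial (F.presheaf.stalk x) := by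
  letI alg := (f.stalkMap x).hom.toAlgebra
  letI m1 := FlatMod.moduleStalkOver f F x
  haveI := isScalarTower_moduleStalkOver f F x
  obtain ⟨e⟩ := nonempty_stalk_tensor_equiv f E F x
  by_contra hcon
  rw [not_nontrivial_iff_subsingleton] at hcon
  haveI : Subsingleton ((F.presheaf.stalk x) ⊗[Y.presheaf.stalk (f x)]
      (E.presheaf.stalk (f x))) := inferInstance
  haveI : Subsingleton ((CohB1.tensorMod ((Scheme.Modules.pullback f).obj E) F).presheaf.stalk x) :=
    e.toEquiv.subsingleton
  obtain ⟨hp, z, hz⟩ := h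
  apply hp.ne_top
  rw [hz, Subsingleton.elim z 0]
  simp

end main

end Groth.Agent.Lib.Helper24.TensFlat
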