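import Groth.Agent.Lib.Helper24.FlatTens1
import Groth.Agent.Lib.Helper24.TensFlat2
import Groth.Agent.Lib.Helper17.FlatOver4

/-!
# Flatness of `P ⊗ q^*G` over a further base (helper24), scheme level

For `q : X ⟶ Y`, `h : Y ⟶ Z`, `P` a module on `X`, `G` quasi-coherent on `Y` and `x : X`, with
`T = P ⊗ q^*G`:
* `nonempty_stalk_tensor_equiv'`: `T_x ≃ P_x ⊗_{O_{q x}} G_{q x}`;
* `isFlatOverAt_tensor_comp`, `isFlatOverAt_of_tensor_comp`;
* `smul_top_tensor_iff`.
-/

set_option autoImplicit false
universe u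

namespace Groth.Agent.Lib.Helper24.FlatTens

open AlgebraicGeometry CategoryTheory IsLocalRing TensorProduct
open Groth.Agent.Lib.helper17.StalkPullback

section ST

theorem smul_top_eq_top_iff_map {C A : Type*} [CommRing C] [CommRing A] [Algebra C A]
    (I : Ideal C) (N : Type*) [AddCommGroup N] [Module A N] [Module C N] [IsScalarTower C A N] :
    I • (⊤ : Submodule C N) = ⊤ ↔ (I.map (algebraMap C A)) • (⊤ : Submodule A N) = ⊤ := by
  rw [← Submodule.restrictScalars_top C A N, ← Ideal.smul_restrictScalars]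
  exact (Submodule.restrictScalars_injective C A N).eq_iff

end ST

variable {X Y Z : Scheme.{u}} (q : X ⟶ Y) (h : Y ⟶ Z) (P : X.Modules) (G : Y.Modules)
  [G.IsQuasicoherent]

theorem nonempty_stalk_tensor_equiv' (x : X) :
    letI := (q.stalkMap x).hom.toAlgebra
    letI := FlatMod.moduleStalkOver q P x
    haveI := isScalarTower_moduleStalkOver q P x
    Nonempty ((CohB1.tensorMod P ((Scheme.Modules.pullback q).obj G)).presheaf.stalk x
      ≃ₗ[X.presheaf.stalk x]
      (P.presheaf.stalk x) ⊗[Y.presheaf.stalk (q x)] (G.presheaf.stalk (q x))) := by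
  letI alg := (q.stalkMap x).hom.toAlgebra
  letI m1 := FlatMod.moduleStalkOver q P x
  haveI := isScalarTower_moduleStalkOver q P x
  letI m2 := FlatMod.moduleStalkOver q ((Scheme.Modules.pullback q).obj G) x
  haveI := isScalarTower_moduleStalkOver q ((Scheme.Modules.pullback q).obj G) x
  obtain ⟨ψ, hψ⟩ := exists_isBaseChange_stalk_pullback q G x
  let e1 := Groth.Agent.Lib.helper16.SecOrd.tensorStalkEquiv P
    ((Scheme.Modules.pullback q).obj G) x
  let e3 := TensorProduct.congr (LinearEquiv.refl (X.presheaf.stalk x) (P.presheaf.stalk x))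
    hψ.equiv.symm
  let e4 := AlgebraTensorModule.cancelBaseChange (Y.presheaf.stalk (q x)) (X.presheaf.stalk x)
    (X.presheaf.stalk x) (P.presheaf.stalk x) (G.presheaf.stalk (q x))
  exact ⟨e1 ≪≫ₗ e3 ≪≫ₗ e4⟩

/-- **Master lemma**: flatness and fibre non-vanishing of `P ⊗ q^*G` over `Z` at `x`, in terms of
`G` over `Z` at `q x`, with all module structures spelled out. -/
theorem tensor_comp_master (x : X) :
    letI := FlatMod.moduleStalkOver q P x
    letI := FlatMod.moduleStalkOver h G (q x)
    letI : Module (Z.presheaf.stalk (h (q x)))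
        ((CohB1.tensorMod P ((Scheme.Modules.pullback q).obj G)).presheaf.stalk x) :=
      Module.compHom _ ((q.stalkMap x).hom.comp (h.stalkMap (q x)).hom)
    (Module.Flat (Y.presheaf.stalk (q x)) (P.presheaf.stalk x) →
      Module.Flat (Z.presheaf.stalk (h (q x))) (G.presheaf.stalk (q x)) →
      Module.Flat (Z.presheaf.stalk (h (q x)))
        ((CohB1.tensorMod P ((Scheme.Modules.pullback q).obj G)).presheaf.stalk x)) ∧
    (Module.FaithfullyFlat (Y.presheaf.stalk (q x)) (P.presheaf.stalk x) →
      Module.Flat (Z.presheaf.stalk (h (q x)))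
        ((CohB1.tensorMod P ((Scheme.Modules.pullback q).obj G)).presheaf.stalk x) →
      Module.Flat (Z.presheaf.stalk (h (q x))) (G.presheaf.stalk (q x))) ∧
    (maximalIdeal (Z.presheaf.stalk (h (q x))) •
        (⊤ : Submodule (Z.presheaf.stalk (h (q x))) (G.presheaf.stalk (q x))) = ⊤ →
      maximalIdeal (Z.presheaf.stalk (h (q x))) •
        (⊤ : Submodule (Z.presheaf.stalk (h (q x)))
          ((CohB1.tensorMod P ((Scheme.Modules.pullback q).obj G)).presheaf.stalk x)) = ⊤) ∧
    (Module.FaithfullyFlat (Y.presheaf.stalk (q x)) (P.presheaf.stalk x) →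
      maximalIdeal (Z.presheaf.stalk (h (q x))) •
        (⊤ : Submodule (Z.presheaf.stalk (h (q x)))
          ((CohB1.tensorMod P ((Scheme.Modules.pullback q).obj G)).presheaf.stalk x)) = ⊤ →
      maximalIdeal (Z.presheaf.stalk (h (q x))) •
        (⊤ : Submodule (Z.presheaf.stalk (h (q x))) (G.presheaf.stalk (q x))) = ⊤) := by
  letI algCA : Algebra (Z.presheaf.stalk (h (q x))) (Y.presheaf.stalk (q x)) :=
    (h.stalkMap (q x)).hom.toAlgebra
  letI algAB : Algebra (Y.presheaf.stalk (q x)) (X.presheaf.stalk x) :=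
    (q.stalkMap x).hom.toAlgebra
  letI algCB : Algebra (Z.presheaf.stalk (h (q x))) (X.presheaf.stalk x) :=
    ((q.stalkMap x).hom.comp (h.stalkMap (q x)).hom).toAlgebra
  haveI : IsScalarTower (Z.presheaf.stalk (h (q x))) (Y.presheaf.stalk (q x))
      (X.presheaf.stalk x) := IsScalarTower.of_algebraMap_eq (fun _ => rfl)
  letI mAP := FlatMod.moduleStalkOver q P x
  haveI tAP : IsScalarTower (Y.presheaf.stalk (q x)) (X.presheaf.stalk x) (P.presheaf.stalk x) :=
    isScalarTower_moduleStalkOver q P x
  letI mCP : Module (Z.presheaf.stalk (h (q x))) (P.presheaf.stalk x) :=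
    Module.compHom _ ((q.stalkMap x).hom.comp (h.stalkMap (q x)).hom)
  haveI tCBP : IsScalarTower (Z.presheaf.stalk (h (q x))) (X.presheaf.stalk x)
      (P.presheaf.stalk x) :=
    ⟨fun a b m => by
      change (((q.stalkMap x).hom.comp (h.stalkMap (q x)).hom) a * b) • m =
        ((q.stalkMap x).hom.comp (h.stalkMap (q x)).hom) a • (b • m)
      rw [mul_smul]⟩
  haveI tCAP : IsScalarTower (Z.presheaf.stalk (h (q x))) (Y.presheaf.stalk (q x))
      (P.presheaf.stalk x) :=
    ⟨fun a b m => by
      change ((q.stalkMap x).hom ((h.stalkMap (q x)).hom a * b)) • m =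
        ((q.stalkMap x).hom.comp (h.stalkMap (q x)).hom) a • ((q.stalkMap x).hom b • m)
      rw [map_mul, mul_smul]
      rfl⟩
  letI mCN := FlatMod.moduleStalkOver h G (q x)
  haveI tCAN : IsScalarTower (Z.presheaf.stalk (h (q x))) (Y.presheaf.stalk (q x))
      (G.presheaf.stalk (q x)) := isScalarTower_moduleStalkOver h G (q x)
  letI mCT : Module (Z.presheaf.stalk (h (q x)))
      ((CohB1.tensorMod P ((Scheme.Modules.pullback q).obj G)).presheaf.stalk x) :=
    Module.compHom _ ((q.stalkMap x).hom.comp (h.stalkMap (q x)).hom)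
  haveI tCBT : IsScalarTower (Z.presheaf.stalk (h (q x))) (X.presheaf.stalk x)
      ((CohB1.tensorMod P ((Scheme.Modules.pullback q).obj G)).presheaf.stalk x) :=
    ⟨fun a b m => by
      change (((q.stalkMap x).hom.comp (h.stalkMap (q x)).hom) a * b) • m =
        ((q.stalkMap x).hom.comp (h.stalkMap (q x)).hom) a • (b • m)
      rw [mul_smul]⟩
  obtain ⟨e⟩ := nonempty_stalk_tensor_equiv' q P G x
  let eC := e.restrictScalars (Z.presheaf.stalk (h (q x)))
  have hST1 := smul_top_eq_top_iff_map (A := Y.presheaf.stalk (q x))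
    (maximalIdeal (Z.presheaf.stalk (h (q x)))) (G.presheaf.stalk (q x))
  have hST2 := smul_top_eq_top_iff_map (A := Y.presheaf.stalk (q x))
    (maximalIdeal (Z.presheaf.stalk (h (q x))))
    ((P.presheaf.stalk x) ⊗[Y.presheaf.stalk (q x)] (G.presheaf.stalk (q x)))
  have htr : maximalIdeal (Z.presheaf.stalk (h (q x))) •
        (⊤ : Submodule (Z.presheaf.stalk (h (q x)))
          ((CohB1.tensorMod P ((Scheme.Modules.pullback q).obj G)).presheaf.stalk x)) = ⊤ ↔
      maximalIdeal (Z.presheaf.stalk (h (q x))) •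
        (⊤ : Submodule (Z.presheaf.stalk (h (q x)))
          ((P.presheaf.stalk x) ⊗[Y.presheaf.stalk (q x)] (G.presheaf.stalk (q x)))) = ⊤ := by
    have hmap : Submodule.map eC.toLinearMap (maximalIdeal (Z.presheaf.stalk (h (q x))) •
        (⊤ : Submodule (Z.presheaf.stalk (h (q x)))
          ((CohB1.tensorMod P ((Scheme.Modules.pullback q).obj G)).presheaf.stalk x))) =
        maximalIdeal (Z.presheaf.stalk (h (q x))) • ⊤ := by
      rw [Submodule.map_smul'', Submodule.map_top, LinearMap.range_eq_top.mpr eC.surjective]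
    constructor
    · intro h1
      rw [← hmap, h1, Submodule.map_top, LinearMap.range_eq_top.mpr eC.surjective]
    · intro h1
      rw [h1] at hmap
      have := Submodule.map_injective_of_injective (f := eC.toLinearMap) eC.injective
      apply this
      rw [hmap, Submodule.map_top, LinearMap.range_eq_top.mpr eC.surjective]
  refine ⟨?_, ?_, ?_, ?_⟩
  · intro hP hN
    haveI := hP
    haveI := hN
    haveI : Module.Flat (Z.presheaf.stalk (h (q x)))
        ((P.presheaf.stalk x) ⊗[Y.presheaf.stalk (q x)] (G.presheaf.stalk (q x))) := flat_tensor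
    exact Module.Flat.of_linearEquiv eC
  · intro hP hT
    haveI := hP
    haveI := hT
    haveI : Module.Flat (Z.presheaf.stalk (h (q x)))
        ((P.presheaf.stalk x) ⊗[Y.presheaf.stalk (q x)] (G.presheaf.stalk (q x))) :=
      Module.Flat.of_linearEquiv eC.symm
    exact flat_of_flat_tensor (A := Y.presheaf.stalk (q x)) (P := P.presheaf.stalk x)
  · intro hN
    rw [htr, hST2]
    exact smul_top_tensor_eq_top_of _ (hST1.mp hN)
  · intro hP hT
    haveI := hP
    rw [hST1]
    exact smul_top_eq_top_of_tensor _ (hST2.mp (htr.mp hT))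

end Groth.Agent.Lib.Helper24.FlatTens
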