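import Groth.Agent.Lib.Helper24.FlatTens2

/-!
# Flatness of `P ⊗ q^*G` over a further base (helper24): wrappers

* `isFlatOverAt_tensor_comp`, `isFlatOverAt_of_tensor_comp`, `smul_top_tensor_comp_of`,
  `smul_top_of_tensor_comp`.
-/

set_option autoImplicit false
universe u

namespace Groth.Agent.Lib.Helper24.FlatTens

open AlgebraicGeometry CategoryTheory IsLocalRing TensorProduct
open Groth.Agent.Lib.helper17.StalkPullback

variable {X Y Z : Scheme.{u}} (q : X ⟶ Y) (h : Y ⟶ Z) (P : X.Modules) (G : Y.Modules)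
  [G.IsQuasicoherent]

theorem smul_top_comp_iff (T : X.Modules) (x : X) :
    (letI := FlatMod.moduleStalkOver (q ≫ h) T x
     maximalIdeal (Z.presheaf.stalk ((q ≫ h) x)) •
      (⊤ : Submodule (Z.presheaf.stalk ((q ≫ h) x)) (T.presheaf.stalk x)) = ⊤) ↔
    (letI : Module (Z.presheaf.stalk (h (q x))) (T.presheaf.stalk x) :=
      Module.compHom _ ((q.stalkMap x).hom.comp (h.stalkMap (q x)).hom)
     maximalIdeal (Z.presheaf.stalk (h (q x))) •
      (⊤ : Submodule (Z.presheaf.stalk (h (q x))) (T.presheaf.stalk x)) = ⊤) := by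
  have e : ((q ≫ h).stalkMap x).hom = (q.stalkMap x).hom.comp (h.stalkMap (q x)).hom := by
    rw [Scheme.Hom.stalkMap_comp]; rfl
  unfold FlatMod.moduleStalkOver
  rw [e]
  rfl

theorem isFlatOverAt_tensor_comp (x : X) (hP : FlatMod.IsFlatOverAt q P x)
    (hG : FlatMod.IsFlatOverAt h G (q x)) :
    FlatMod.IsFlatOverAt (q ≫ h)
      (CohB1.tensorMod P ((Scheme.Modules.pullback q).obj G)) x := by
  rw [Groth.Agent.Lib.helper17.FlatOver4.isFlatOverAt_comp_iff]
  exact (tensor_comp_master q h P G x).1 hP hG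

theorem isFlatOverAt_of_tensor_comp (x : X)
    (hP : letI := FlatMod.moduleStalkOver q P x
      Module.FaithfullyFlat (Y.presheaf.stalk (q x)) (P.presheaf.stalk x))
    (hT : FlatMod.IsFlatOverAt (q ≫ h)
      (CohB1.tensorMod P ((Scheme.Modules.pullback q).obj G)) x) :
    FlatMod.IsFlatOverAt h G (q x) := by
  rw [Groth.Agent.Lib.helper17.FlatOver4.isFlatOverAt_comp_iff] at hT
  exact (tensor_comp_master q h P G x).2.1 hP hT

theorem smul_top_tensor_comp_of (x : X)
    (hN : letI := FlatMod.moduleStalkOver h G (q x)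
      maximalIdeal (Z.presheaf.stalk (h (q x))) •
        (⊤ : Submodule (Z.presheaf.stalk (h (q x))) (G.presheaf.stalk (q x))) = ⊤) :
    letI := FlatMod.moduleStalkOver (q ≫ h)
      (CohB1.tensorMod P ((Scheme.Modules.pullback q).obj G)) x
    maximalIdeal (Z.presheaf.stalk ((q ≫ h) x)) •
      (⊤ : Submodule (Z.presheaf.stalk ((q ≫ h) x))
        ((CohB1.tensorMod P ((Scheme.Modules.pullback q).obj G)).presheaf.stalk x)) = ⊤ := by
  rw [smul_top_comp_iff]
  exact (tensor_comp_master q h P G x).2.2.1 hN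

theorem smul_top_of_tensor_comp (x : X)
    (hP : letI := FlatMod.moduleStalkOver q P x
      Module.FaithfullyFlat (Y.presheaf.stalk (q x)) (P.presheaf.stalk x))
    (hT :
      letI := FlatMod.moduleStalkOver (q ≫ h)
        (CohB1.tensorMod P ((Scheme.Modules.pullback q).obj G)) x
      maximalIdeal (Z.presheaf.stalk ((q ≫ h) x)) •
        (⊤ : Submodule (Z.presheaf.stalk ((q ≫ h) x))
          ((CohB1.tensorMod P ((Scheme.Modules.pullback q).obj G)).presheaf.stalk x)) = ⊤) :
    letI := FlatMod.moduleStalkOver h G (q x)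
    maximalIdeal (Z.presheaf.stalk (h (q x))) •
      (⊤ : Submodule (Z.presheaf.stalk (h (q x))) (G.presheaf.stalk (q x))) = ⊤ := by
  rw [smul_top_comp_iff] at hT
  exact (tensor_comp_master q h P G x).2.2.2 hP hT

end Groth.Agent.Lib.Helper24.FlatTens
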