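import Groth.Agent.Lib.Helper24.FlatTens3
import Groth.Agent.Lib.Helper24.RelAssBC3

/-!
# Non-vanishing of fibres of a pulled-back module under base change (helper24)

* `nontrivial_stalk_fibre_iff` (NV1): the stalk of `F|_{X_y}` at `z` is nontrivial iff
  `m_y F_x ≠ F_x` (`x` the image of `z`).
* `nontrivial_stalk_pullback_of_flat` (NV2).
* `smul_top_ne_top_baseChange` (NV): for a cartesian square, `m_{f (p x')} F_{p x'} ≠ F_{p x'}`
  implies `m_{q x'} (p^*F)_{x'} ≠ (p^*F)_{x'}`.
-/

set_option autoImplicit false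
universe u

namespace Groth.Agent.Lib.Helper24.FlatTens

open AlgebraicGeometry CategoryTheory CategoryTheory.Limits IsLocalRing TensorProduct
open Groth.Agent.Lib.helper17.StalkPullback Groth.Agent.Lib.helper17.FibreStalk
  Groth.Agent.Lib.Helper24.RelAssBC

section NV1

variable {X S : Scheme.{u}} (f : X ⟶ S) (F : X.Modules) [F.IsQuasicoherent]

/-- the fibre non-vanishing condition at a point `w` of `X`. -/
def FibNe (w : X) : Prop :=
  letI := FlatMod.moduleStalkOver f F w
  maximalIdeal (S.presheaf.stalk (f w)) •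
    (⊤ : Submodule (S.presheaf.stalk (f w)) (F.presheaf.stalk w)) ≠ ⊤

theorem nontrivial_stalk_fibre_iff (y : S) (z : f.fiber y) :
    Nontrivial (((Scheme.Modules.pullback (f.fiberι y)).obj F).presheaf.stalk z) ↔
      FibNe f F (f.fiberι y z) := by
  letI alg : Algebra (X.presheaf.stalk (f.fiberι y z)) ((f.fiber y).presheaf.stalk z) :=
    ((f.fiberι y).stalkMap z).hom.toAlgebra
  letI m1 := FlatMod.moduleStalkOver (f.fiberι y) ((Scheme.Modules.pullback (f.fiberι y)).obj F) z
  haveI := isScalarTower_moduleStalkOver (f.fiberι y)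
    ((Scheme.Modules.pullback (f.fiberι y)).obj F) z
  obtain ⟨ψ, hψ⟩ := exists_isBaseChange_stalk_pullback (f.fiberι y) F z
  have hsurj : Function.Surjective
      (algebraMap (X.presheaf.stalk (f.fiberι y z)) ((f.fiber y).presheaf.stalk z)) :=
    (f.fiberι y).stalkMap_surjective z
  have hker : RingHom.ker
      (algebraMap (X.presheaf.stalk (f.fiberι y z)) ((f.fiber y).presheaf.stalk z)) =
      (maximalIdeal (S.presheaf.stalk (f (f.fiberι y z)))).map
        (f.stalkMap (f.fiberι y z)).hom := ker_fiberι_stalkMap f y z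
  have e := quotEquivOfIsBaseChange ψ hψ hsurj
  rw [← e.toEquiv.nontrivial_congr, Submodule.Quotient.nontrivial_iff, hker]
  letI algS : Algebra (S.presheaf.stalk (f (f.fiberι y z))) (X.presheaf.stalk (f.fiberι y z)) :=
    (f.stalkMap (f.fiberι y z)).hom.toAlgebra
  letI m2 := FlatMod.moduleStalkOver f F (f.fiberι y z)
  haveI := isScalarTower_moduleStalkOver f F (f.fiberι y z)
  have hST := smul_top_eq_top_iff_map (A := X.presheaf.stalk (f.fiberι y z))
    (maximalIdeal (S.presheaf.stalk (f (f.fiberι y z)))) (F.presheaf.stalk (f.fiberι y z))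
  unfold FibNe
  exact not_congr hST.symm

end NV1

section NV2

theorem nontrivial_stalk_pullback_of_flat {Z' Z : Scheme.{u}} (π : Z' ⟶ Z) (H : Z.Modules)
    [H.IsQuasicoherent] (z' : Z') (hfl : (π.stalkMap z').hom.Flat)
    (hnt : Nontrivial (H.presheaf.stalk (π z'))) :
    Nontrivial (((Scheme.Modules.pullback π).obj H).presheaf.stalk z') := by
  letI alg : Algebra (Z.presheaf.stalk (π z')) (Z'.presheaf.stalk z') :=
    (π.stalkMap z').hom.toAlgebra
  letI m1 := FlatMod.moduleStalkOver π ((Scheme.Modules.pullback π).obj H) z'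
  haveI := isScalarTower_moduleStalkOver π ((Scheme.Modules.pullback π).obj H) z'
  haveI : IsLocalHom (algebraMap (Z.presheaf.stalk (π z')) (Z'.presheaf.stalk z')) :=
    inferInstanceAs (IsLocalHom (π.stalkMap z').hom)
  haveI : Module.Flat (Z.presheaf.stalk (π z')) (Z'.presheaf.stalk z') := hfl
  haveI : Module.FaithfullyFlat (Z.presheaf.stalk (π z')) (Z'.presheaf.stalk z') :=
    Module.FaithfullyFlat.of_flat_of_isLocalHom
  obtain ⟨ψ, hψ⟩ := exists_isBaseChange_stalk_pullback π H z'
  haveI := hnt
  haveI : Nontrivial ((Z'.presheaf.stalk z') ⊗[Z.presheaf.stalk (π z')]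
      (H.presheaf.stalk (π z'))) := inferInstance
  exact hψ.equiv.toEquiv.nontrivial_congr.mp inferInstance

end NV2

section NV

variable {P X Y Z : Scheme.{u}} {fst : P ⟶ X} {snd : P ⟶ Y} {f : X ⟶ Z} {g : Y ⟶ Z}
  (h : IsPullback fst snd f g)

include h in
/-- **(NV)** -/
theorem fibNe_baseChange (F : X.Modules) [F.IsQuasicoherent] (x' : P)
    (hx : FibNe f F (fst x')) : FibNe snd ((Scheme.Modules.pullback fst).obj F) x' := by
  haveI : ((Scheme.Modules.pullback fst).obj F).IsQuasicoherent :=
    Groth.Agent.Lib.helper16.QCohPullback.isQuasicoherent_pullback _ F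
  haveI : ((Scheme.Modules.pullback (f.fiberι (g (snd x')))).obj F).IsQuasicoherent :=
    Groth.Agent.Lib.helper16.QCohPullback.isQuasicoherent_pullback _ F
  set z' := snd.asFiber x' with hz'
  have e1 : snd.fiberι (snd x') z' = x' := snd.fiberι_asFiber x'
  have e2 : f.fiberι (g (snd x')) (fibMap h (snd x') z') = fst x' := by
    rw [fibMap_fiberι_apply, e1]
  have s1 : Nontrivial (((Scheme.Modules.pullback (f.fiberι (g (snd x')))).obj F).presheaf.stalk
      (fibMap h (snd x') z')) := by
    rw [nontrivial_stalk_fibre_iff, e2]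
    exact hx
  have s2 := nontrivial_stalk_pullback_of_flat (fibMap h (snd x'))
    ((Scheme.Modules.pullback (f.fiberι (g (snd x')))).obj F) z'
    (Flat.stalkMap (fibMap h (snd x')) z') s1
  have s3 : Nontrivial (((Scheme.Modules.pullback (snd.fiberι (snd x'))).obj
      ((Scheme.Modules.pullback fst).obj F)).presheaf.stalk z') :=
    (Groth.Agent.Lib.helper17.FlatOver7.stalkLinEquiv
      (fibModIso h (snd x') F) z').toEquiv.nontrivial_congr.mpr s2
  have s4 := (nontrivial_stalk_fibre_iff snd ((Scheme.Modules.pullback fst).obj F)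
    (snd x') z').mp s3
  rw [e1] at s4
  exact s4

end NV

end Groth.Agent.Lib.Helper24.FlatTens
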