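import Mathlib
import Groth.Prelude.Def_FrobAlg

/-!
# The relative Frobenius of an adic completion (helper24)

`A` a Noetherian ring of characteristic `p` with finite Frobenius, `I` an ideal.  Then the relative
Frobenius `Â ⊗_{A,F} A → Â` of the `I`-adic completion is bijective
(`relFrob_adicCompletion_bijective`).
-/

set_option autoImplicit false
universe u

namespace Groth.Agent.Lib.Helper24.FrobCompl

open FrobAlg TensorProduct

variable (p : ℕ) [Fact p.Prime] (A : Type u) [CommRing A] [CharP A p]

/-- The identity `Twist p A → A` as a Frobenius-semilinear map. -/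
noncomputable def iota : Twist p A →ₛₗ[frobenius A p] A where
  toFun t := (toTwist p A).symm t
  map_add' x y := map_add _ x y
  map_smul' r t := by
    change (toTwist p A).symm (r • t) = frobenius A p r * (toTwist p A).symm t
    rw [Algebra.smul_def, map_mul, algebraMap_twist, RingEquiv.symm_apply_apply, frobenius_def]

lemma iota_apply (t : Twist p A) : iota p A t = (toTwist p A).symm t := rfl

lemma iota_toTwist (a : A) : iota p A (toTwist p A a) = a := rfl

variable (I : Ideal A)

lemma le_comap (n : ℕ) : (I ^ n • ⊤ : Submodule A (Twist p A)) ≤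
    Submodule.comap (iota p A) (I ^ n • ⊤ : Submodule A A) := by
  rw [Submodule.smul_le]
  intro r hr t _
  rw [Submodule.mem_comap, LinearMap.map_smulₛₗ]
  refine Submodule.smul_mem_smul ?_ Submodule.mem_top
  rw [frobenius_def]
  exact Ideal.pow_mem_of_mem _ hr p (Fact.out : p.Prime).pos

/-- the induced maps on quotients -/
noncomputable def theta (n : ℕ) : (Twist p A ⧸ (I ^ n • ⊤ : Submodule A (Twist p A))) →ₛₗ[frobenius A p]
    (A ⧸ (I ^ n • ⊤ : Submodule A A)) :=
  Submodule.mapQ _ _ (iota p A) (le_comap p A I n)

lemma theta_mk (n : ℕ) (t : Twist p A) :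
    theta p A I n (Submodule.Quotient.mk t) = Submodule.Quotient.mk (iota p A t) := rfl

/-- the comparison map of completions -/
noncomputable def Theta (y : AdicCompletion I (Twist p A)) : AdicCompletion I A :=
  ⟨fun n => theta p A I n (y.val n), by
    intro m n hmn
    have h := y.property hmn
    obtain ⟨t, ht⟩ := Submodule.Quotient.mk_surjective _ (y.val n)
    change AdicCompletion.transitionMap I A hmn (theta p A I n (y.val n)) =
      theta p A I m (y.val m)
    rw [← h, ← ht]
    rfl⟩

lemma Theta_val (y : AdicCompletion I (Twist p A)) (n : ℕ) :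
    (Theta p A I y).val n = theta p A I n (y.val n) := rfl

lemma Theta_add (x y : AdicCompletion I (Twist p A)) :
    Theta p A I (x + y) = Theta p A I x + Theta p A I y := by
  apply AdicCompletion.ext
  intro n
  rw [AdicCompletion.val_add_apply, Theta_val, Theta_val, Theta_val, AdicCompletion.val_add_apply,
    map_add]

lemma Theta_zero : Theta p A I 0 = 0 := by
  apply AdicCompletion.ext
  intro n
  rw [Theta_val, AdicCompletion.val_zero_apply, AdicCompletion.val_zero_apply, map_zero]

lemma Theta_mk (c : AdicCompletion.AdicCauchySequence I (Twist p A))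
    (d : AdicCompletion.AdicCauchySequence I A) (h : ∀ n, iota p A (c n) = d n) :
    Theta p A I (AdicCompletion.mk I _ c) = AdicCompletion.mk I _ d := by
  apply AdicCompletion.ext
  intro n
  rw [Theta_val, AdicCompletion.mk_apply_coe, AdicCompletion.mk_apply_coe, Submodule.mkQ_apply,
    Submodule.mkQ_apply, theta_mk, h]

lemma Theta_smul_of (b : AdicCompletion I A) (t : Twist p A) :
    Theta p A I (b • AdicCompletion.of I (Twist p A) t) =
      b ^ p * AdicCompletion.of I A (iota p A t) := by
  apply AdicCompletion.ext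
  intro n
  rw [Theta_val, AdicCompletion.smul_eval, AdicCompletion.val_mul]
  change theta p A I n (b.val n • _) = (b.val n) ^ p * _
  obtain ⟨b', hb'⟩ := Ideal.Quotient.mk_surjective (b.val n)
  rw [← hb', AdicCompletion.of_apply, AdicCompletion.of_apply, Submodule.mkQ_apply,
    Submodule.mkQ_apply]
  rw [show (Ideal.Quotient.mk (I ^ n • ⊤ : Ideal A) b') •
    (Submodule.Quotient.mk t : Twist p A ⧸ (I ^ n • ⊤ : Submodule A (Twist p A))) =
      Submodule.Quotient.mk (b' • t) from rfl]
  rw [theta_mk, LinearMap.map_smulₛₗ, frobenius_def, ← map_pow]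
  rfl

lemma relFrob_tmul (B : Type u) [CommRing B] [Algebra A B] [CharP B p] (b : B)
    (t : Twist p A) :
    relFrob p A B (b ⊗ₜ[A] t) = b ^ p * algebraMap A B (iota p A t) := by
  unfold relFrob
  rw [RingHom.comp_apply]
  change (toTarget p A B).symm (Algebra.TensorProduct.lift (frobHom p A B) (inclHom p A B)
    (fun _ _ => Commute.all _ _) (b ⊗ₜ[A] t)) = _
  rw [Algebra.TensorProduct.lift_tmul, map_mul]
  rfl

lemma relFrob_eq [CharP (AdicCompletion I A) p] (x : BaseChange p A (AdicCompletion I A)) :
    relFrob p A (AdicCompletion I A) x =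
      Theta p A I (AdicCompletion.ofTensorProduct I (Twist p A) x) := by
  induction x using TensorProduct.induction_on with
  | zero => rw [map_zero, map_zero, Theta_zero]
  | tmul b t =>
    rw [relFrob_tmul, AdicCompletion.ofTensorProduct_tmul, Theta_smul_of,
      AdicCompletion.algebraMap_apply]
    rfl
  | add x y hx hy => rw [map_add, map_add, Theta_add, hx, hy]

lemma exists_pow_le [IsNoetherianRing A] (n : ℕ) :
    ∃ k, ∀ a ∈ I ^ k, toTwist p A a ∈ (I ^ n • ⊤ : Submodule A (Twist p A)) := by
  have hJ : (I ^ n • ⊤ : Submodule A (Twist p A)) =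
      ((I ^ n).map (algebraMap A (Twist p A))).restrictScalars A := Ideal.smul_top_eq_map _
  have hrad : (I ^ n).map (toTwist p A : A →+* Twist p A) ≤
      ((I ^ n).map (algebraMap A (Twist p A))).radical := by
    rw [Ideal.map_le_iff_le_comap]
    intro a ha
    rw [Ideal.mem_comap]
    refine ⟨p, ?_⟩
    have : ((toTwist p A : A →+* Twist p A) a) ^ p = algebraMap A (Twist p A) a := by
      rw [algebraMap_twist, ← map_pow]; rfl
    rw [this]
    exact Ideal.mem_map_of_mem _ ha
  have hfg : ((I ^ n).map (toTwist p A : A →+* Twist p A)).FG :=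
    Ideal.FG.map ((isNoetherianRing_iff_ideal_fg A).1 inferInstance _) _
  obtain ⟨k, hk⟩ := Ideal.exists_pow_le_of_le_radical_of_fg hrad hfg
  refine ⟨n * k, fun a ha => ?_⟩
  rw [hJ, Submodule.restrictScalars_mem]
  apply hk
  rw [← Ideal.map_pow, ← pow_mul]
  exact Ideal.mem_map_of_mem _ ha

lemma Theta_eq_zero [IsNoetherianRing A] (y : AdicCompletion I (Twist p A))
    (hy : Theta p A I y = 0) : y = 0 := by
  obtain ⟨c, rfl⟩ := AdicCompletion.mk_surjective I _ y
  apply AdicCompletion.ext
  intro n
  rw [AdicCompletion.val_zero_apply, AdicCompletion.mk_apply_coe, Submodule.mkQ_apply,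
    Submodule.Quotient.mk_eq_zero]
  obtain ⟨k, hk⟩ := exists_pow_le p A I n
  have hN : iota p A (c (max n k)) ∈ I ^ (max n k) := by
    have this : (Theta p A I (AdicCompletion.mk I _ c)).val (max n k) =
        (0 : AdicCompletion I A).val (max n k) := by rw [hy]
    rw [Theta_val, AdicCompletion.mk_apply_coe, Submodule.mkQ_apply, theta_mk,
      AdicCompletion.val_zero_apply, Submodule.Quotient.mk_eq_zero] at this
    rwa [smul_eq_mul, Ideal.mul_top] at this
  have h1 : c (max n k) ∈ (I ^ n • ⊤ : Submodule A (Twist p A)) := by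
    have := hk _ (Ideal.pow_le_pow_right (le_max_right n k) hN)
    rwa [iota_apply, RingEquiv.apply_symm_apply] at this
  have h2 := c.property (le_max_left n k)
  rw [SModEq.sub_mem] at h2
  have := Submodule.add_mem _ h2 h1
  rwa [sub_add_cancel] at this

lemma Theta_surjective [IsNoetherianRing A] (z : AdicCompletion I A) :
    ∃ y, Theta p A I y = z := by
  obtain ⟨d, rfl⟩ := AdicCompletion.mk_surjective I _ z
  choose k hk using exists_pow_le p A I
  let N : ℕ → ℕ := fun n => n + ∑ i ∈ Finset.range (n + 1), k i
  have hNmono : ∀ {m n}, m ≤ n → N m ≤ N n := by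
    intro m n hmn
    apply add_le_add hmn
    apply Finset.sum_le_sum_of_subset
    intro i hi
    rw [Finset.mem_range] at hi ⊢
    omega
  have hNk : ∀ n, k n ≤ N n := by
    intro n
    have : k n ≤ ∑ i ∈ Finset.range (n + 1), k i :=
      Finset.single_le_sum (f := k) (fun _ _ => Nat.zero_le _) (Finset.self_mem_range_succ n)
    exact le_trans this (Nat.le_add_left _ _)
  have hNn : ∀ n, n ≤ N n := fun n => Nat.le_add_right _ _
  have hd : ∀ {m n}, m ≤ n → d m - d n ∈ I ^ m := by
    intro m n hmn
    have := d.property hmn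
    rw [SModEq.sub_mem, smul_eq_mul, Ideal.mul_top] at this
    exact this
  let c : AdicCompletion.AdicCauchySequence I (Twist p A) :=
    ⟨fun n => toTwist p A (d (N n)), by
      intro m n hmn
      rw [SModEq.sub_mem, ← map_sub]
      apply hk
      exact Ideal.pow_le_pow_right (hNk m) (hd (hNmono hmn))⟩
  let d' : AdicCompletion.AdicCauchySequence I A :=
    ⟨fun n => d (N n), by
      intro m n hmn
      rw [SModEq.sub_mem, smul_eq_mul, Ideal.mul_top]
      exact Ideal.pow_le_pow_right (hNn m) (hd (hNmono hmn))⟩
  refine ⟨AdicCompletion.mk I _ c, ?_⟩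
  rw [Theta_mk p A I c d' (fun n => rfl)]
  apply AdicCompletion.ext
  intro n
  rw [AdicCompletion.mk_apply_coe, AdicCompletion.mk_apply_coe]
  exact (d.property (hNn n)).symm

theorem relFrob_adicCompletion_bijective [IsNoetherianRing A] (hF : (frobenius A p).Finite)
    [CharP (AdicCompletion I A) p] :
    Function.Bijective (relFrob p A (AdicCompletion I A)) := by
  haveI : Module.Finite A (Twist p A) := hF
  have hΨ := AdicCompletion.ofTensorProduct_bijective_of_finite_of_isNoetherian I (Twist p A)
  constructor
  · rw [injective_iff_map_eq_zero]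
    intro x hx
    rw [relFrob_eq] at hx
    have := Theta_eq_zero p A I _ hx
    exact (map_eq_zero_iff _ hΨ.1).1 this
  · intro z
    obtain ⟨y, hy⟩ := Theta_surjective p A I z
    obtain ⟨x, hx⟩ := hΨ.2 y
    exact ⟨x, by rw [relFrob_eq, hx, hy]⟩

end Groth.Agent.Lib.Helper24.FrobCompl
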