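import Mathlib
import Groth.Prelude.Def_Found
import Groth.Prelude.Def_EGA4b
import Groth.Agent.Lib.Helper24.FibLoc2
import Groth.Agent.Lib.Helper24.FibreQuot
import Groth.Agent.Lib.Helper24.CplIso

/-!
# Geometric regularity of formal fibres: transport lemmas (helper24)

* `geomReg_of_eq`: rewriting the prime.
* `transportT`: transport of geometric regularity of formal fibres along an isomorphism of local
  rings.
* `geomReg_fibre_iff`: formal fibres of `A/J` versus those of `A` (geometric regularity).
-/

set_option autoImplicit false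
universe u

open TensorProduct IsLocalRing

namespace Groth.Agent.Lib.Helper24.GRingQuot

open Groth.Agent.Lib.Helper24.FibLoc

theorem geomReg_of_eq {A B : Type u} [CommRing A] [CommRing B] [Algebra A B] (I J : Ideal A)
    [I.IsPrime] [J.IsPrime] (h : I = J)
    (hJ : CAlg.IsGeometricallyRegular J.ResidueField (J.Fiber B)) :
    CAlg.IsGeometricallyRegular I.ResidueField (I.Fiber B) := by
  subst h
  exact hJ

section transport

variable {D D' : Type u} [CommRing D] [CommRing D'] [IsLocalRing D] [IsLocalRing D']

/-- Transport along an isomorphism of local rings. -/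
theorem transportT (e : D ≃+* D') (p' : Ideal D') [p'.IsPrime]
    [(p'.comap (e : D →+* D')).IsPrime]
    (h : CAlg.IsGeometricallyRegular (p'.comap (e : D →+* D')).ResidueField
      ((p'.comap (e : D →+* D')).Fiber (EGA4.Cpl D))) :
    CAlg.IsGeometricallyRegular p'.ResidueField (p'.Fiber (EGA4.Cpl D')) := by
  have hm : (maximalIdeal D).map (e : D →+* D') = maximalIdeal D' :=
    IsLocalRing.map_ringEquiv_maximalIdeal e
  have hpow : ∀ n : ℕ, (maximalIdeal D ^ n).map (e : D →+* D') = maximalIdeal D' ^ n := by
    intro n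
    rw [Ideal.map_pow, hm]
  have hinj : ∀ (n : ℕ) (r : D), (e : D →+* D') r ∈ maximalIdeal D' ^ n →
      r ∈ maximalIdeal D ^ n := by
    intro n r hr
    rw [← hpow n] at hr
    obtain ⟨x, hx, hxr⟩ := (Ideal.mem_map_of_equiv e _).1 hr
    have : x = r := e.injective hxr
    rwa [← this]
  have hsurj : ∀ (n : ℕ) (s : D'), ∃ r : D, s - (e : D →+* D') r ∈ maximalIdeal D' ^ n := by
    intro n s
    refine ⟨e.symm s, ?_⟩
    have : s - (e : D →+* D') (e.symm s) = 0 := by
      rw [RingEquiv.coe_toRingHom, RingEquiv.apply_symm_apply, sub_self]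
    rw [this]
    exact Ideal.zero_mem _
  let ê : EGA4.Cpl D ≃+* EGA4.Cpl D' :=
    Groth.Agent.Lib.Helper24.CplIso.complEquiv (maximalIdeal D) (maximalIdeal D') (e : D →+* D')
      hm.le hinj hsurj
  letI : Algebra D D' := (e : D →+* D').toAlgebra
  letI : Algebra (EGA4.Cpl D) (EGA4.Cpl D') := (ê : EGA4.Cpl D →+* EGA4.Cpl D').toAlgebra
  haveI : IsScalarTower D (EGA4.Cpl D) (EGA4.Cpl D') := IsScalarTower.of_algebraMap_eq (fun d => by
    show AdicCompletion.of (maximalIdeal D') D' ((e : D →+* D') d) =
      ê (AdicCompletion.of (maximalIdeal D) D d)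
    exact (Groth.Agent.Lib.Helper24.CplFlat.complMap_of (maximalIdeal D) (maximalIdeal D')
      (e : D →+* D') hm.le d).symm)
  haveI : IsLocalization (⊥ : Submonoid D) D' :=
    IsLocalization.of_le_isUnit_of_bijective (by
      rintro _ ⟨x, hx, rfl⟩
      rw [SetLike.mem_coe, Submonoid.mem_bot] at hx
      rw [hx, map_one]
      exact isUnit_one) e.bijective
  haveI : IsLocalization (⊥ : Submonoid (EGA4.Cpl D)) (EGA4.Cpl D') :=
    IsLocalization.of_le_isUnit_of_bijective (by
      rintro _ ⟨x, hx, rfl⟩
      rw [SetLike.mem_coe, Submonoid.mem_bot] at hx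
      rw [hx, map_one]
      exact isUnit_one) ê.bijective
  intro K _ _ hfin
  obtain ⟨inst, hfin', -, htr⟩ := transfer2' D (EGA4.Cpl D) (⊥ : Submonoid D)
    (⊥ : Submonoid (EGA4.Cpl D)) D' (EGA4.Cpl D') locStable_isRegularRing p' K
  exact htr (h K (hfin' hfin))

end transport

section field

variable (k K F X : Type u) [Field k] [Field K] [Algebra k K] [CommRing F] [Algebra k F]
  [CommRing X] [Algebra K X]

theorem geomReg_iff_of_bijective (hbij : Function.Bijective (algebraMap k K))
    (ε : X ≃ₐ[K] K ⊗[k] F) :
    CAlg.IsGeometricallyRegular K X ↔ CAlg.IsGeometricallyRegular k F := by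
  constructor
  · intro h k' _ _ hfin
    let σe : k ≃+* K := RingEquiv.ofBijective (algebraMap k K) hbij
    letI : Algebra K k' := ((algebraMap k k').comp (σe.symm : K →+* k)).toAlgebra
    haveI : IsScalarTower k K k' :=
      IsScalarTower.of_algebraMap_eq (fun x => by
        show algebraMap k k' x = algebraMap k k' (σe.symm (algebraMap k K x))
        rw [show algebraMap k K x = σe x from rfl, RingEquiv.symm_apply_apply])
    haveI : Module.Finite K k' := Module.Finite.of_restrictScalars_finite k K k'
    have h1 : IsRegularRing (k' ⊗[K] X) := h k' inferInstance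
    have h2 : IsRegularRing (k' ⊗[K] (K ⊗[k] F)) :=
      IsRegularRing.of_ringEquiv (Algebra.TensorProduct.congr
        (AlgEquiv.refl : k' ≃ₐ[K] k') ε).toRingEquiv
    exact IsRegularRing.of_ringEquiv
      (Algebra.TensorProduct.cancelBaseChange k K K k' F).toRingEquiv
  · intro h k' _ _ hfin
    letI : Algebra k k' := ((algebraMap K k').comp (algebraMap k K)).toAlgebra
    haveI : IsScalarTower k K k' := IsScalarTower.of_algebraMap_eq' rfl
    haveI : Module.Finite k K := Module.Finite.of_surjective (Algebra.linearMap _ _) hbij.2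
    haveI : Module.Finite k k' := Module.Finite.trans K k'
    have h1 : IsRegularRing (k' ⊗[k] F) := h k' inferInstance
    have h2 : IsRegularRing (k' ⊗[K] (K ⊗[k] F)) :=
      IsRegularRing.of_ringEquiv
        (Algebra.TensorProduct.cancelBaseChange k K K k' F).symm.toRingEquiv
    exact IsRegularRing.of_ringEquiv (Algebra.TensorProduct.congr
      (AlgEquiv.refl : k' ≃ₐ[K] k') ε.symm).toRingEquiv

end field

section quot

variable {R : Type u} [CommRing R] (I : Ideal R) (P : Ideal (R ⧸ I)) [P.IsPrime]
variable {B B' : Type u} [CommRing B] [CommRing B'] [Algebra R B] [Algebra (R ⧸ I) B']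
variable (e : (B ⧸ I.map (algebraMap R B)) ≃ₐ[R ⧸ I] B')

open Groth.Agent.Lib.Helper24.FibreQuot

include e in
/-- Geometric regularity of the fibre of `B' ≅ B/IB` over `P` versus that of `B` over the preimage
of `P`. -/
theorem geomReg_fibre_iff :
    CAlg.IsGeometricallyRegular P.ResidueField (P.Fiber B') ↔
      CAlg.IsGeometricallyRegular (pr I P).ResidueField ((pr I P).Fiber B) :=
  geomReg_iff_of_bijective (pr I P).ResidueField P.ResidueField ((pr I P).Fiber B) (P.Fiber B')
    (σ_bijective I P) (fibreEquiv I P B B' e)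

end quot

end Groth.Agent.Lib.Helper24.GRingQuot
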