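import Mathlib
import Groth.Agent.Lib.Helper24.GRingQuot1
import Groth.Agent.S0542

/-!
# G-rings and generic formal fibres of quotients (helper24)

`core_iff`: for primes `q ≤ p` of `R`, `P = p/q`, `A = R_p`, `J = qA`:
generic formal fibre of `(R/q)_P` geometrically regular ↔ formal fibre of `A` at `J` geometrically
regular.
-/

set_option autoImplicit false
universe u

open TensorProduct IsLocalRing

namespace Groth.Agent.Lib.Helper24.GRingQuot

variable (R : Type u) [CommRing R] (q p : Ideal R) [q.IsPrime] [p.IsPrime]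
  (P : Ideal (R ⧸ q)) [P.IsPrime]

theorem submonoid_eq (hP : P.comap (Ideal.Quotient.mk q) = p) :
    Algebra.algebraMapSubmonoid (R ⧸ q) p.primeCompl = P.primeCompl := by
  ext x
  constructor
  · rintro ⟨r, hr, rfl⟩
    show algebraMap R (R ⧸ q) r ∉ P
    intro h
    apply hr
    rw [SetLike.mem_coe, ← hP]
    exact h
  · intro hx
    obtain ⟨r, rfl⟩ := Ideal.Quotient.mk_surjective x
    refine ⟨r, ?_, rfl⟩
    intro hr
    apply hx
    rw [SetLike.mem_coe, ← hP] at hr
    exact hr

theorem isLocalization_quot (hP : P.comap (Ideal.Quotient.mk q) = p) :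
    IsLocalization.AtPrime
      (Localization.AtPrime p ⧸ q.map (algebraMap R (Localization.AtPrime p))) P := by
  have h : IsLocalization (Algebra.algebraMapSubmonoid (R ⧸ q) p.primeCompl)
      (Localization.AtPrime p ⧸ q.map (algebraMap R (Localization.AtPrime p))) := inferInstance
  rw [submonoid_eq R q p P hP] at h
  exact h

/-- The ring isomorphism `R_p / q R_p ≃ (R/q)_P`. -/
noncomputable def quotEquiv (hP : P.comap (Ideal.Quotient.mk q) = p) :
    (Localization.AtPrime p ⧸ q.map (algebraMap R (Localization.AtPrime p))) ≃+*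
      Localization.AtPrime P :=
  haveI := isLocalization_quot R q p P hP
  (IsLocalization.algEquiv P.primeCompl
    (Localization.AtPrime p ⧸ q.map (algebraMap R (Localization.AtPrime p)))
    (Localization.AtPrime P)).toRingEquiv

theorem comap_bot_equiv {D D' : Type u} [CommRing D] [CommRing D'] (e : D ≃+* D') :
    (⊥ : Ideal D').comap (e : D →+* D') = ⊥ := by
  ext x
  rw [Ideal.mem_comap, Ideal.mem_bot, Ideal.mem_bot]
  exact map_eq_zero_iff _ e.injective

section core

variable [IsNoetherianRing R] (hqp : q ≤ p) (hP : P.comap (Ideal.Quotient.mk q) = p)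
  [hJ : (q.map (algebraMap R (Localization.AtPrime p))).IsPrime]
  [hloc : IsLocalRing (Localization.AtPrime p ⧸ q.map (algebraMap R (Localization.AtPrime p)))]
  [hb1 : (⊥ : Ideal (Localization.AtPrime P)).IsPrime]
  [hb2 : (⊥ : Ideal (Localization.AtPrime p ⧸
    q.map (algebraMap R (Localization.AtPrime p)))).IsPrime]

include hP in
theorem core_iff :
    CAlg.IsGeometricallyRegular (⊥ : Ideal (Localization.AtPrime P)).ResidueField
        (EGA4.formalFibre (Localization.AtPrime P) (⊥ : Ideal (Localization.AtPrime P))) ↔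
      CAlg.IsGeometricallyRegular
        (q.map (algebraMap R (Localization.AtPrime p))).ResidueField
        ((q.map (algebraMap R (Localization.AtPrime p))).Fiber
          (EGA4.Cpl (Localization.AtPrime p))) := by
  set A := Localization.AtPrime p with hA
  set J : Ideal A := q.map (algebraMap R A) with hJdef
  set D := Localization.AtPrime P with hD
  let e : (A ⧸ J) ≃+* D := quotEquiv R q p P hP
  have hprJ : FibreQuot.pr J (⊥ : Ideal (A ⧸ J)) = J := by
    show Ideal.comap (Ideal.Quotient.mk J) ⊥ = J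
    rw [← RingHom.ker_eq_comap_bot, Ideal.mk_ker]
  -- step 1: `A/J` versus `A`
  have h1 : CAlg.IsGeometricallyRegular (⊥ : Ideal (A ⧸ J)).ResidueField
      ((⊥ : Ideal (A ⧸ J)).Fiber (EGA4.Cpl (A ⧸ J))) ↔
      CAlg.IsGeometricallyRegular J.ResidueField (J.Fiber (EGA4.Cpl A)) := by
    rw [geomReg_fibre_iff J (⊥ : Ideal (A ⧸ J)) (FibreQuot.cplEquivₐ A J)]
    constructor
    · intro h
      exact geomReg_of_eq _ _ hprJ.symm h
    · intro h
      exact geomReg_of_eq _ _ hprJ h
  rw [← h1]
  -- step 2: transport along `e`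
  haveI : ((⊥ : Ideal D).comap (e : (A ⧸ J) →+* D)).IsPrime := Ideal.comap_isPrime _ _
  haveI : ((⊥ : Ideal (A ⧸ J)).comap (e.symm : D →+* (A ⧸ J))).IsPrime := Ideal.comap_isPrime _ _
  constructor
  · intro h
    have h' : CAlg.IsGeometricallyRegular
        ((⊥ : Ideal (A ⧸ J)).comap (e.symm : D →+* (A ⧸ J))).ResidueField
        (((⊥ : Ideal (A ⧸ J)).comap (e.symm : D →+* (A ⧸ J))).Fiber (EGA4.Cpl D)) :=
      geomReg_of_eq _ _ (comap_bot_equiv e.symm) h
    exact transportT e.symm (⊥ : Ideal (A ⧸ J)) h'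
  · intro h
    have h' : CAlg.IsGeometricallyRegular
        ((⊥ : Ideal D).comap (e : (A ⧸ J) →+* D)).ResidueField
        (((⊥ : Ideal D).comap (e : (A ⧸ J) →+* D)).Fiber (EGA4.Cpl (A ⧸ J))) :=
      geomReg_of_eq _ _ (comap_bot_equiv e) h
    exact transportT e (⊥ : Ideal D) h'

end core

end Groth.Agent.Lib.Helper24.GRingQuot
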