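import Mathlib
import Groth.Prelude.Def_EGA4b
import Groth.Agent.Lib.Helper24.GRk4
import Groth.Agent.Lib.Helper24.FibCod14

/-!
# Geometric `(R_k)` of fibres (helper24), part 5: from rings to schemes

The chart translation of the pointwise smoothness condition, and the generic openness theorem.
-/

set_option autoImplicit false
universe u

namespace Groth.Agent.Lib.Helper24.GRk

open AlgebraicGeometry CategoryTheory IsLocalRing Groth.Agent.Lib.helper17.FibreStalk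
  Groth.Agent.Lib.helper3.FlatLocus Groth.Agent.Lib.Helper24.FibCod

attribute [local instance] Groth.Agent.Lib.helper26.SkFlat.isLocalRing_fibLocRing

/-- the pointwise smoothness condition on the fibre generizations of `x`. -/
def RkCond {X Y : Scheme.{u}} (f : X ⟶ Y) [LocallyOfFinitePresentation f] (n : ℕ) (x : X) : Prop :=
  ∀ y : X, y ⤳ x → f.base y = f.base x →
    ringKrullDim ((f.fiber (f.base y)).presheaf.stalk (f.asFiber y)) ≤ n → y ∈ f.smoothLocus

/-- the fibre local ring in a chart (ring isomorphism). -/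
theorem nonempty_fibre_stalk_equiv_fibLocRing {X Y : Scheme.{u}} (f : X ⟶ Y) {V : Y.Opens}
    (hV : IsAffineOpen V) {U : X.Opens} (hU : IsAffineOpen U) (e : U ≤ f ⁻¹ᵁ V) (y : X)
    (hy : y ∈ U) :
    letI := (f.appLE V U e).hom.toAlgebra
    Nonempty ((f.fiber (f.base y)).presheaf.stalk (f.asFiber y) ≃+*
      EGA4.FibLocRing Γ(Y, V) Γ(X, U) (hU.primeIdealOf ⟨y, hy⟩).asIdeal) := by
  letI := (f.appLE V U e).hom.toAlgebra
  obtain ⟨e1⟩ := nonempty_asFiber_stalk_equiv f y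
  obtain ⟨e2⟩ := nonempty_fibRing_equiv_fibLocRing f hV hU e y hy
  exact ⟨e1.symm.trans e2⟩

theorem primeIdealOf_fromSpec {X : Scheme.{u}} {U : X.Opens} (hU : IsAffineOpen U)
    (q : PrimeSpectrum Γ(X, U)) (h : hU.fromSpec q ∈ U) :
    hU.primeIdealOf ⟨hU.fromSpec q, h⟩ = q :=
  hU.fromSpec.isOpenEmbedding.injective (hU.fromSpec_primeIdealOf ⟨hU.fromSpec q, h⟩)

theorem fromSpec_mem {X : Scheme.{u}} {U : X.Opens} (hU : IsAffineOpen U)
    (q : PrimeSpectrum Γ(X, U)) : hU.fromSpec q ∈ U := by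
  rw [← SetLike.mem_coe, ← hU.range_fromSpec]
  exact Set.mem_range_self q

theorem primeIdealOf_le_iff {X : Scheme.{u}} {U : X.Opens} (hU : IsAffineOpen U)
    (x y : X) (hx : x ∈ U) (hy : y ∈ U) :
    (hU.primeIdealOf ⟨y, hy⟩).asIdeal ≤ (hU.primeIdealOf ⟨x, hx⟩).asIdeal ↔ y ⤳ x := by
  rw [PrimeSpectrum.asIdeal_le_asIdeal, PrimeSpectrum.le_iff_specializes]
  have h := hU.fromSpec.isOpenEmbedding.isInducing.specializes_iff
    (x := hU.primeIdealOf ⟨y, hy⟩) (y := hU.primeIdealOf ⟨x, hx⟩)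
  rw [hU.fromSpec_primeIdealOf ⟨y, hy⟩, hU.fromSpec_primeIdealOf ⟨x, hx⟩] at h
  exact h.symm

theorem comap_primeIdealOf_eq_iff {X Y : Scheme.{u}} (f : X ⟶ Y) {V : Y.Opens}
    (hV : IsAffineOpen V) {U : X.Opens} (hU : IsAffineOpen U) (e : U ≤ f ⁻¹ᵁ V) (x y : X)
    (hx : x ∈ U) (hy : y ∈ U) :
    letI := (f.appLE V U e).hom.toAlgebra
    (hU.primeIdealOf ⟨y, hy⟩).asIdeal.comap (algebraMap Γ(Y, V) Γ(X, U)) =
      (hU.primeIdealOf ⟨x, hx⟩).asIdeal.comap (algebraMap Γ(Y, V) Γ(X, U)) ↔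
      f.base y = f.base x := by
  letI := (f.appLE V U e).hom.toAlgebra
  have h1 : (hV.primeIdealOf ⟨f y, e hy⟩).asIdeal =
      (hU.primeIdealOf ⟨y, hy⟩).asIdeal.comap (f.appLE V U e).hom :=
    congr($(IsAffineOpen.comap_primeIdealOf_appLE V hV U hU e hy).1).symm
  have h2 : (hV.primeIdealOf ⟨f x, e hx⟩).asIdeal =
      (hU.primeIdealOf ⟨x, hx⟩).asIdeal.comap (f.appLE V U e).hom :=
    congr($(IsAffineOpen.comap_primeIdealOf_appLE V hV U hU e hx).1).symm
  change (hU.primeIdealOf ⟨y, hy⟩).asIdeal.comap (f.appLE V U e).hom =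
    (hU.primeIdealOf ⟨x, hx⟩).asIdeal.comap (f.appLE V U e).hom ↔ _
  rw [← h1, ← h2]
  constructor
  · intro h
    have h3 : hV.primeIdealOf ⟨f y, e hy⟩ = hV.primeIdealOf ⟨f x, e hx⟩ := PrimeSpectrum.ext h
    have h4 := congrArg (fun p => hV.fromSpec p) h3
    simp only [hV.fromSpec_primeIdealOf] at h4
    exact h4
  · intro h
    have : (⟨f y, e hy⟩ : V) = ⟨f x, e hx⟩ := Subtype.ext h
    rw [this]

/-- **Chart translation** of the pointwise smoothness condition. -/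
theorem rkCond_iff_mem_rkLocus {X Y : Scheme.{u}} (f : X ⟶ Y) [LocallyOfFinitePresentation f]
    {V : Y.Opens} (hV : IsAffineOpen V) {U : X.Opens} (hU : IsAffineOpen U) (e : U ≤ f ⁻¹ᵁ V)
    (n : ℕ) (x : X) (hx : x ∈ U) :
    letI := (f.appLE V U e).hom.toAlgebra
    RkCond f n x ↔ hU.primeIdealOf ⟨x, hx⟩ ∈ rkLocus Γ(Y, V) Γ(X, U) n := by
  letI := (f.appLE V U e).hom.toAlgebra
  constructor
  · intro h q hle hfib hdim
    have hyU : hU.fromSpec q ∈ U := fromSpec_mem hU q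
    have hq' : hU.primeIdealOf ⟨hU.fromSpec q, hyU⟩ = q := primeIdealOf_fromSpec hU q hyU
    have hsp : hU.fromSpec q ⤳ x := by
      rw [← primeIdealOf_le_iff hU x _ hx hyU, hq']
      exact hle
    have hfy : f.base (hU.fromSpec q) = f.base x := by
      rw [← comap_primeIdealOf_eq_iff f hV hU e x _ hx hyU, hq']
      exact hfib
    obtain ⟨ε⟩ := nonempty_fibre_stalk_equiv_fibLocRing f hV hU e _ hyU
    have h1 := h _ hsp hfy (by
      rw [ringKrullDim_eq_of_ringEquiv ε, hq']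
      exact hdim)
    rw [Scheme.Hom.mem_smoothLocus, formallySmooth_stalkMap_iff V hV U hU e hyU, hq'] at h1
    exact h1
  · intro h y hy hfy hdim
    have hyU : y ∈ U := hy.mem_open U.isOpen hx
    obtain ⟨ε⟩ := nonempty_fibre_stalk_equiv_fibLocRing f hV hU e _ hyU
    rw [Scheme.Hom.mem_smoothLocus, formallySmooth_stalkMap_iff V hV U hU e hyU]
    refine h _ ((primeIdealOf_le_iff hU x y hx hyU).mpr hy)
      ((comap_primeIdealOf_eq_iff f hV hU e x y hx hyU).mpr hfy) ?_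
    rw [← ringKrullDim_eq_of_ringEquiv ε]
    exact hdim

/-- **From rings to schemes**, with the smoothness condition. -/
theorem isOpen_flat_and_rkCond_and_fibre (n : ℕ)
    (P : ∀ (R : Type u) [CommRing R] [IsLocalRing R], Prop)
    (hP : ∀ (R R' : Type u) [CommRing R] [CommRing R'] [IsLocalRing R] [IsLocalRing R']
      [IsNoetherianRing R] [IsNoetherianRing R'], (R ≃+* R') → P R → P R')
    (hring : ∀ (A B : Type u) [CommRing A] [CommRing B] [Algebra A B]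
      [Algebra.FinitePresentation A B] [Module.Flat A B],
      IsOpen {Q : PrimeSpectrum B | Q ∈ rkLocus A B n ∧ P (EGA4.FibLocRing A B Q.asIdeal)})
    {X Y : Scheme.{u}} (f : X ⟶ Y) [LocallyOfFinitePresentation f] :
    IsOpen {x : X | (f.stalkMap x).hom.Flat ∧ RkCond f n x ∧
      P ((f.fiber (f.base x)).presheaf.stalk (f.asFiber x))} := by
  rw [isOpen_iff_forall_mem_open]
  rintro x ⟨hxflat, hxrk, hxP⟩
  have hW : IsOpen {x : X | (f.stalkMap x).hom.Flat} :=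
    Groth.Agent.Lib.helper3.FlatDesc.isOpen_flatLocus_of_locallyOfFinitePresentation f
  obtain ⟨_, ⟨V, hV : IsAffineOpen V, rfl⟩, hfxV, -⟩ :=
    Y.isBasis_affineOpens.exists_subset_of_mem_open (Set.mem_univ (f x)) isOpen_univ
  obtain ⟨_, ⟨U, hU : IsAffineOpen U, rfl⟩, hxU, hUVW⟩ :=
    X.isBasis_affineOpens.exists_subset_of_mem_open
      (show x ∈ (f ⁻¹ᵁ V : Set X) ∩ {x : X | (f.stalkMap x).hom.Flat} from ⟨hfxV, hxflat⟩)
      ((f ⁻¹ᵁ V).isOpen.inter hW)
  have hUV : U ≤ f ⁻¹ᵁ V := fun y hy => (hUVW hy).1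
  have hUW : ∀ y ∈ U, (f.stalkMap y).hom.Flat := fun y hy => (hUVW hy).2
  have hfp : (f.appLE V U hUV).hom.FinitePresentation := f.finitePresentation_appLE hV hU hUV
  letI := (f.appLE V U hUV).hom.toAlgebra
  haveI : Algebra.FinitePresentation Γ(Y, V) Γ(X, U) := hfp
  haveI : Module.Flat Γ(Y, V) Γ(X, U) := flat_sections_of_forall_flat_stalkMap f hV hU hUV hUW
  have hopen := hring Γ(Y, V) Γ(X, U)
  have key : ∀ (y : X) (hy : y ∈ U),
      P ((f.fiber (f.base y)).presheaf.stalk (f.asFiber y)) ↔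
        P (EGA4.FibLocRing Γ(Y, V) Γ(X, U) (hU.primeIdealOf ⟨y, hy⟩).asIdeal) := by
    intro y hy
    obtain ⟨ε⟩ := nonempty_fibre_stalk_equiv_fibLocRing f hV hU hUV y hy
    haveI : IsNoetherianRing (EGA4.FibLocRing Γ(Y, V) Γ(X, U) (hU.primeIdealOf ⟨y, hy⟩).asIdeal) :=
      isNoetherianRing_fibLocRing _ _ _
    haveI : IsNoetherianRing ((f.fiber (f.base y)).presheaf.stalk (f.asFiber y)) :=
      isNoetherianRing_of_ringEquiv _ ε.symm
    exact ⟨hP _ _ ε, hP _ _ ε.symm⟩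
  set O : Set (PrimeSpectrum Γ(X, U)) :=
    {Q | Q ∈ rkLocus Γ(Y, V) Γ(X, U) n ∧ P (EGA4.FibLocRing Γ(Y, V) Γ(X, U) Q.asIdeal)} with hO
  refine ⟨hU.fromSpec '' O, ?_, hU.fromSpec.isOpenEmbedding.isOpenMap _ hopen, ?_⟩
  · rintro _ ⟨q, hq, rfl⟩
    have hyU : hU.fromSpec q ∈ U := fromSpec_mem hU q
    have hq' : hU.primeIdealOf ⟨hU.fromSpec q, hyU⟩ = q := primeIdealOf_fromSpec hU q hyU
    refine ⟨hUW _ hyU, (rkCond_iff_mem_rkLocus f hV hU hUV n _ hyU).mpr ?_, (key _ hyU).mpr ?_⟩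
    · rw [hq']
      exact hq.1
    · rw [hq']
      exact hq.2
  · exact ⟨hU.primeIdealOf ⟨x, hxU⟩,
      ⟨(rkCond_iff_mem_rkLocus f hV hU hUV n x hxU).mp hxrk, (key x hxU).mp hxP⟩,
      hU.fromSpec_primeIdealOf ⟨x, hxU⟩⟩

end Groth.Agent.Lib.Helper24.GRk
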