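import Groth.Agent.Lib.Helper24.GRk11
import Groth.Agent.Lib.Helper24.GRk12
import Groth.Agent.Lib.Helper24.GRk5
import Groth.Agent.Lib.Helper5.GenFlatMor

/-!
# Geometric `(R_k)` of fibres (helper24), part 13: local constructibility (EGA IV 9.9.4-type)

* `isLocallyConstructible_rkCond`: over a locally Noetherian base the pointwise smoothness condition
  `RkCond f k` is locally constructible.
* `genericallyCons_fibGRk`, `isLocallyConstructible_fibGRk`.
* `isLocallyConstructible_geomRk`: the set of points where the fibre is geometrically `(R_k)` is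
  locally constructible, for `f` locally of finite presentation.
-/

set_option autoImplicit false
set_option backward.isDefEq.respectTransparency false
universe u
open CategoryTheory CategoryTheory.Limits AlgebraicGeometry Topology TopologicalSpace Set.Notation

namespace Groth.Agent.Lib.Helper24.GRk

open Groth.Agent.Lib.helper5.FibLocus Groth.Agent.Lib.helper5.ConsFibre
  Groth.Agent.Lib.helper5.ConsSep

theorem isLocallyConstructible_rkCond {X T : Scheme.{u}} (f : X ⟶ T) [IsLocallyNoetherian T]
    [LocallyOfFinitePresentation f] (k : ℕ) :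
    IsLocallyConstructible {x : X | RkCond f k x} := by
  intro x
  obtain ⟨_, ⟨V, hV : IsAffineOpen V, rfl⟩, hfxV, -⟩ :=
    T.isBasis_affineOpens.exists_subset_of_mem_open (Set.mem_univ (f x)) isOpen_univ
  obtain ⟨_, ⟨U, hU : IsAffineOpen U, rfl⟩, hxU, hUV'⟩ :=
    X.isBasis_affineOpens.exists_subset_of_mem_open
      (show x ∈ (f ⁻¹ᵁ V : Set X) from hfxV) (f ⁻¹ᵁ V).isOpen
  have hUV : U ≤ f ⁻¹ᵁ V := hUV'
  have hfp : (f.appLE V U hUV).hom.FinitePresentation := f.finitePresentation_appLE hV hU hUV
  letI := (f.appLE V U hUV).hom.toAlgebra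
  haveI : Algebra.FinitePresentation Γ(T, V) Γ(X, U) := hfp
  haveI : Algebra.FiniteType Γ(T, V) Γ(X, U) := Algebra.FiniteType.of_finitePresentation
  haveI : IsNoetherianRing Γ(T, V) := IsLocallyNoetherian.component_noetherian ⟨V, hV⟩
  have hcons := isConstructible_rkLocus Γ(T, V) Γ(X, U) k
  refine ⟨U, U.isOpen.mem_nhds hxU, U.isOpen, ?_⟩
  have hemb : IsOpenEmbedding (fun y : U => hU.primeIdealOf y) :=
    hU.isoSpec.hom.isOpenEmbedding
  have hset : ((U : Set X) ↓∩ {x : X | RkCond f k x}) =
      (fun y : U => hU.primeIdealOf y) ⁻¹' (rkLocus Γ(T, V) Γ(X, U) k) := by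
    ext ⟨y, hy⟩
    exact rkCond_iff_mem_rkLocus f hV hU hUV k y hy
  rw [hset]
  exact hcons.preimage_of_isOpenEmbedding hemb

theorem genericallyCons_fibGRk (k : ℕ) : GenericallyCons.{u} (fibGRk k) := by
  intro X T f _ _ _ _
  haveI : IsNoetherian X := isNoetherian_of_lft f
  haveI : LocallyOfFinitePresentation f :=
    (LocallyOfFinitePresentation.iff_locallyOfFiniteType).mpr inferInstance
  obtain ⟨V, hVne, hV⟩ := Groth.Agent.Lib.helper5.GenFlatMor.exists_open_flat_stalkMap f
  refine ⟨V, hVne, ?_⟩
  have heq : fibGRk k f ∩ f ⁻¹' (V : Set T) = {x : X | RkCond f k x} ∩ f ⁻¹' (V : Set T) := by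
    ext x
    simp only [Set.mem_inter_iff, Set.mem_preimage, SetLike.mem_coe]
    refine and_congr_left fun hx => ?_
    have hflat : ∀ y : X, y ⤳ x → (f.stalkMap y).hom.Flat := by
      intro y hy
      refine hV y ?_
      exact (hy.map f.continuous).mem_open V.2 hx
    exact fiber_smooth_cond_iff f x k hflat
  rw [heq]
  exact (isLocallyConstructible_rkCond f k).isConstructible.inter
    (Groth.Agent.Lib.helper9.isConstructible_of_isLocallyClosed
      (V.2.preimage f.continuous).isLocallyClosed)

/-- EGA IV 9.9.4-type: the set of points where the fibre is smooth in codimension `≤ k` is locally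
constructible. -/
theorem isLocallyConstructible_fibGRk {X S : Scheme.{u}} (f : X ⟶ S)
    [LocallyOfFinitePresentation f] (k : ℕ) : IsLocallyConstructible (fibGRk k f) :=
  isLocallyConstructible (baseChangeCompat_fibGRk k) (openCompat_fibGRk k)
    (genericallyCons_fibGRk k) f

/-- the geometric `(R_k)` condition on the fibre at `x` is membership in `fibGRk`. -/
theorem geomRk_iff_mem_fibGRk {X S : Scheme.{u}} (f : X ⟶ S) [LocallyOfFinitePresentation f]
    (k : ℕ) (x : X) :
    (∀ (K : Type u) [Field K]
        [Algebra (IsLocalRing.ResidueField (S.presheaf.stalk (f.base x))) K]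
        (x' : ↥(FBase.bc (f.fiberToSpecResidueField (f.base x)) K)),
          (FBase.bcπ (f.fiberToSpecResidueField (f.base x)) K).base x' = f.asFiber x →
          LocCoh.HasRk k ((FBase.bc (f.fiberToSpecResidueField (f.base x)) K).presheaf.stalk x')) ↔
      x ∈ fibGRk k f := by
  letI : (f.fiber (f.base x)).Over
      (Spec (CommRingCat.of (IsLocalRing.ResidueField (S.presheaf.stalk (f.base x))))) :=
    ⟨f.fiberToSpecResidueField (f.base x)⟩
  haveI : LocallyOfFinitePresentation ((f.fiber (f.base x)) ↘
      (Spec (CommRingCat.of (IsLocalRing.ResidueField (S.presheaf.stalk (f.base x)))))) :=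
    locallyOfFinitePresentation_fiberToSpecResidueField f (f.base x)
  exact geomRk_all_iff (IsLocalRing.ResidueField (S.presheaf.stalk (f.base x)))
    (f.fiber (f.base x)) (f.asFiber x) k

/-- **EGA IV 9.9.4-type**: the set of points at which the fibre is geometrically `(R_k)` is locally
constructible. -/
theorem isLocallyConstructible_geomRk {X S : Scheme.{u}} (f : X ⟶ S)
    [LocallyOfFinitePresentation f] (k : ℕ) :
    IsLocallyConstructible {x : X |
      ∀ (K : Type u) [Field K] [Algebra (IsLocalRing.ResidueField (S.presheaf.stalk (f.base x))) K]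
        (x' : ↥(FBase.bc (f.fiberToSpecResidueField (f.base x)) K)),
        (FBase.bcπ (f.fiberToSpecResidueField (f.base x)) K).base x' = f.asFiber x →
          LocCoh.HasRk k ((FBase.bc (f.fiberToSpecResidueField (f.base x)) K).presheaf.stalk x')} := by
  have h : {x : X |
      ∀ (K : Type u) [Field K] [Algebra (IsLocalRing.ResidueField (S.presheaf.stalk (f.base x))) K]
        (x' : ↥(FBase.bc (f.fiberToSpecResidueField (f.base x)) K)),
        (FBase.bcπ (f.fiberToSpecResidueField (f.base x)) K).base x' = f.asFiber x →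
          LocCoh.HasRk k ((FBase.bc (f.fiberToSpecResidueField (f.base x)) K).presheaf.stalk x')} =
      fibGRk k f := by
    ext x
    exact geomRk_iff_mem_fibGRk f k x
  rw [h]
  exact isLocallyConstructible_fibGRk f k

end Groth.Agent.Lib.Helper24.GRk
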