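import Mathlib
import Groth.Prelude.Def_EGA4b
import Groth.Agent.S0601
import Groth.Agent.S2607
import Groth.Agent.Lib.Helper5.FibLocRingDim
import Groth.Agent.Lib.Helper26.Reflexive
import Groth.Agent.Lib.Helper26.SkAt
import Groth.Agent.Lib.Helper24.FibCod11

/-!
# Geometric normality of fibres (helper24), part 7: ring-level lemmas

* Serre's criterion for a Noetherian local ring;
* `(S_k)` ascends along flat integral extensions of Noetherian rings.
-/

set_option autoImplicit false
universe u

namespace Groth.Agent.Lib.Helper24.GRk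

open LocCoh IsLocalRing TensorProduct

/-- Serre's criterion for a Noetherian local ring. -/
theorem normal_iff_of_isLocalRing (R : Type u) [CommRing R] [IsLocalRing R] [IsNoetherianRing R] :
    (IsDomain R ∧ IsIntegrallyClosed R) ↔ (HasRk 1 R ∧ HasSk 2 R R) := by
  constructor
  · rintro ⟨hd, hic⟩
    refine (Groth.Agent.S0601.result R).mp ?_
    intro p _
    have hle : p.primeCompl ≤ nonZeroDivisors R := Ideal.primeCompl_le_nonZeroDivisors p
    exact ⟨IsLocalization.isDomain_localization hle,
      isIntegrallyClosed_of_isLocalization (Localization.AtPrime p) p.primeCompl hle⟩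
  · intro h
    obtain ⟨h1, h2⟩ := (Groth.Agent.S0601.result R).mpr h (maximalIdeal R)
    let e : R ≃ₐ[R] Localization.AtPrime (maximalIdeal R) :=
      IsLocalization.atUnits R (maximalIdeal R).primeCompl
        (fun x hx => IsLocalRing.notMem_maximalIdeal.mp hx)
    haveI := h1
    haveI := h2
    exact ⟨e.toRingEquiv.toMulEquiv.isDomain _, IsIntegrallyClosed.of_equiv e.symm.toRingEquiv⟩

section integral

variable (A B : Type u) [CommRing A] [CommRing B] [Algebra A B] [Algebra.IsIntegral A B]

/-- the fibre local rings of an integral extension are zero-dimensional. -/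
theorem ringKrullDim_fibLocRing_le_zero_of_isIntegral (q : Ideal B) [q.IsPrime] :
    ringKrullDim (EGA4.FibLocRing A B q) ≤ 0 := by
  rw [Groth.Agent.Lib.helper5.FibLoc.ringKrullDim_fibLocRing A B q]
  set I := (q.comap (algebraMap A B)).map (algebraMap A B) with hI
  have hq : q ∈ I.minimalPrimes := Ideal.IsIntegral.mem_minimalPrimes_map_under (R := A) q
  rw [Ideal.minimalPrimes_eq_comap] at hq
  obtain ⟨Q', hQ', hQ'q⟩ := hq
  have hmap : q.map (Ideal.Quotient.mk I) = Q' := by
    rw [← hQ'q, Ideal.map_comap_of_surjective _ Ideal.Quotient.mk_surjective]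
  rw [hmap]
  haveI : Q'.IsPrime := hQ'.1.1
  have : Q'.height = 0 := Ideal.height_eq_zero_iff.mpr hQ'
  rw [this]
  rfl

end integral

/-- every module over a zero-dimensional ring has `(S_k)`. -/
theorem hasSk_of_ringKrullDim_le_zero (k : ℕ) (R : Type u) [CommRing R] (M : Type u)
    [AddCommGroup M] [Module R M] (h : ringKrullDim R ≤ 0) : HasSk k R M := by
  intro p _
  refine le_trans (min_le_right _ _) ?_
  refine le_trans (Module.supportDim_le_ringKrullDim _ _) ?_
  rw [IsLocalization.AtPrime.ringKrullDim_eq_height p]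
  refine le_trans (Ideal.height_le_ringKrullDim_of_ne_top (Ideal.IsPrime.ne_top inferInstance)) ?_
  exact le_trans h (WithBot.coe_le_coe.mpr zero_le)

/-- **`(S_k)` ascends along flat integral extensions** of Noetherian rings. -/
theorem hasSk_of_flat_of_isIntegral (k : ℕ) (A B : Type u) [CommRing A] [CommRing B]
    [IsNoetherianRing A] [IsNoetherianRing B] [Algebra A B] [Module.Flat A B]
    [Algebra.IsIntegral A B] (h : HasSk k A A) : HasSk k B B := by
  have hfib : ∀ (q : Ideal B) [q.IsPrime],
      HasSk k (EGA4.FibLocRing A B q) (EGA4.FibLocMod A B q B) := fun q _ =>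
    hasSk_of_ringKrullDim_le_zero k _ _ (ringKrullDim_fibLocRing_le_zero_of_isIntegral A B q)
  have hT : HasSk k B (B ⊗[A] A) := by
    intro q _
    have hE : EGA4.HasSkAt k A A (q.comap (algebraMap A B)) := by
      rw [Groth.Agent.Lib.helper26.SkAt.hasSkAt_iff]
      intro q' _ _
      exact h q'
    have h1 := Groth.Agent.S2607.result k A B A B hfib q hE
    rw [Groth.Agent.Lib.helper26.SkAt.hasSkAt_iff] at h1
    exact h1 q le_rfl
  exact Groth.Agent.Lib.helper26.Depth.hasSk_congr k
    (TensorProduct.AlgebraTensorModule.rid A B B) hT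

/-- `(S_k)` of `O ⊗[κ] K` for a finite field extension. -/
theorem hasSk_tensor_of_finite (k : ℕ) (κ : Type u) [Field κ] (O : Type u) [CommRing O]
    [Algebra κ O] [IsNoetherianRing O] (K : Type u) [Field K] [Algebra κ K] [Module.Finite κ K]
    (h : HasSk k O O) :
    IsNoetherianRing (O ⊗[κ] K) ∧ HasSk k (O ⊗[κ] K) (O ⊗[κ] K) := by
  haveI : IsNoetherianRing (O ⊗[κ] K) := Algebra.FiniteType.isNoetherianRing O (O ⊗[κ] K)
  haveI : Algebra.IsIntegral κ K := Algebra.IsIntegral.of_finite κ K
  exact ⟨inferInstance, hasSk_of_flat_of_isIntegral k O (O ⊗[κ] K) h⟩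

end Groth.Agent.Lib.Helper24.GRk
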