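import Mathlib
import Groth.Prelude.Def_CAlg
import Groth.Prelude.Def_FDesc
import Groth.Agent.Lib.Helper24.GRk3
import Groth.Agent.Lib.Helper24.GRk7
import Groth.Agent.Lib.Helper24.SerreNormal1
import Groth.Agent.Lib.Helper26.NormalLift

/-!
# Geometric normality of fibres (helper24), part 8: the pointwise characterization

For `Z` locally of finite presentation over a field `κ` and `z ∈ Z`: all local rings of `Z_K` at points
over `z` (finite `K/κ`) are normal domains iff `Z` is geometrically `(R_1)` at `z` and `O_{Z,z}` is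
`(S_2)`.
-/

set_option autoImplicit false
set_option linter.style.haveILetI false
universe u

namespace Groth.Agent.Lib.Helper24.GRk

open AlgebraicGeometry CategoryTheory CategoryTheory.Limits TensorProduct LocCoh IsLocalRing

attribute [local instance] Curv2.stalkAlgebra

section field

variable (κ : Type u) [Field κ] (Z : Scheme.{u}) [Z.Over (Spec (CommRingCat.of κ))]

/-- over `K = κ` there is a point over `z` with the same local ring. -/
theorem exists_point_self (z : Z) :
    ∃ z' : ↥(Curv2.bc κ Z κ), Curv2.bcFst κ Z κ z' = z ∧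
      Nonempty (Z.presheaf.stalk z ≃+* (Curv2.bc κ Z κ).presheaf.stalk z') := by
  let eT : (Z.presheaf.stalk z) ⊗[κ] κ ≃+* Z.presheaf.stalk z :=
    (Algebra.TensorProduct.rid κ κ (Z.presheaf.stalk z)).toRingEquiv
  haveI : IsLocalRing ((Z.presheaf.stalk z) ⊗[κ] κ) := eT.symm.isLocalRing
  obtain ⟨z', hz', ⟨e⟩⟩ := Groth.Agent.Lib.helper17.GeomPoint.exists_point κ Z z κ
    (maximalIdeal ((Z.presheaf.stalk z) ⊗[κ] κ))
  let e2 : (Z.presheaf.stalk z) ⊗[κ] κ ≃ₐ[(Z.presheaf.stalk z) ⊗[κ] κ]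
      Localization.AtPrime (maximalIdeal ((Z.presheaf.stalk z) ⊗[κ] κ)) :=
    IsLocalization.atUnits _ (maximalIdeal ((Z.presheaf.stalk z) ⊗[κ] κ)).primeCompl
      (fun x hx => IsLocalRing.notMem_maximalIdeal.mp hx)
  exact ⟨z', hz', ⟨eT.symm.trans (e2.toRingEquiv.trans e)⟩⟩

variable [LocallyOfFinitePresentation (Z ↘ Spec (CommRingCat.of κ))]

include κ in
theorem isLocallyNoetherian_of_lfp : IsLocallyNoetherian Z :=
  LocallyOfFiniteType.isLocallyNoetherian (Z ↘ Spec (CommRingCat.of κ))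

theorem isLocallyNoetherian_bc (K : Type u) [Field K] [Algebra κ K] :
    IsLocallyNoetherian (Curv2.bc κ Z K) :=
  LocallyOfFiniteType.isLocallyNoetherian (Curv2.bcSnd κ Z K)

/-- `(S_k)` ascends to the points of `Z_K` for `K/κ` finite. -/
theorem hasSk_stalk_bc (k : ℕ) (z : Z) (h : HasSk k (Z.presheaf.stalk z) (Z.presheaf.stalk z))
    (K : Type u) [Field K] [Algebra κ K] [Module.Finite κ K] (z' : ↥(Curv2.bc κ Z K))
    (hz' : Curv2.bcFst κ Z K z' = z) :
    HasSk k ((Curv2.bc κ Z K).presheaf.stalk z') ((Curv2.bc κ Z K).presheaf.stalk z') := by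
  haveI := isLocallyNoetherian_of_lfp κ Z
  haveI : IsNoetherianRing (Z.presheaf.stalk z) := inferInstance
  obtain ⟨hN, hS⟩ := hasSk_tensor_of_finite k κ (Z.presheaf.stalk z) K h
  haveI := hN
  let c : (Z.presheaf.stalk z) ⊗[κ] K ≃+* K ⊗[κ] (Z.presheaf.stalk z) :=
    (Algebra.TensorProduct.comm κ (Z.presheaf.stalk z) K).toRingEquiv
  haveI hN' : IsNoetherianRing (K ⊗[κ] (Z.presheaf.stalk z)) := isNoetherianRing_of_ringEquiv _ c
  have hS' : HasSk k (K ⊗[κ] (Z.presheaf.stalk z)) (K ⊗[κ] (Z.presheaf.stalk z)) :=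
    (Groth.Agent.Lib.Helper24.FibCod.hasSk_iff_of_ringEquiv k c).mp hS
  have key := Groth.Agent.Lib.helper17.GeomPoint.stalk_of_tensor κ Z z
    (fun R _ => IsNoetherianRing R ∧ HasSk k R R)
    (fun R R' _ _ e hR => by
      haveI := hR.1
      haveI : IsNoetherianRing R' := isNoetherianRing_of_ringEquiv _ e
      exact ⟨inferInstance, (Groth.Agent.Lib.Helper24.FibCod.hasSk_iff_of_ringEquiv k e).mp hR.2⟩)
    K
    (fun p _ => ⟨inferInstance,
      Groth.Agent.Lib.Helper24.SerreNormal.hasSk_localization _ p k hS'⟩) z' hz'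
  exact key.2

omit [LocallyOfFinitePresentation (Z ↘ Spec (CommRingCat.of κ))] in
/-- geometric normality at `z` gives normality of `O_{Z,z}`. -/
theorem normal_stalk_of_geomNormal (z : Z)
    (h : ∀ (K : Type u) [Field K] [Algebra κ K], Module.Finite κ K →
      ∀ z' : ↥(Curv2.bc κ Z K), Curv2.bcFst κ Z K z' = z →
        IsDomain ((Curv2.bc κ Z K).presheaf.stalk z') ∧
          IsIntegrallyClosed ((Curv2.bc κ Z K).presheaf.stalk z')) :
    IsDomain (Z.presheaf.stalk z) ∧ IsIntegrallyClosed (Z.presheaf.stalk z) := by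
  obtain ⟨z', hz', ⟨e⟩⟩ := exists_point_self κ Z z
  obtain ⟨h1, h2⟩ := h κ inferInstance z' hz'
  haveI := h1
  haveI := h2
  exact ⟨e.toMulEquiv.isDomain _, IsIntegrallyClosed.of_equiv e.symm⟩

/-- **Geometric normality at a point** (finite extensions). -/
theorem geomNormal_finite_iff (z : Z) :
    (∀ (K : Type u) [Field K] [Algebra κ K], Module.Finite κ K →
      ∀ z' : ↥(Curv2.bc κ Z K), Curv2.bcFst κ Z K z' = z →
        IsDomain ((Curv2.bc κ Z K).presheaf.stalk z') ∧
          IsIntegrallyClosed ((Curv2.bc κ Z K).presheaf.stalk z')) ↔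
    ((∀ w : Z, w ⤳ z → ringKrullDim (Z.presheaf.stalk w) ≤ (1 : ℕ) →
      w ∈ (Z ↘ Spec (CommRingCat.of κ)).smoothLocus) ∧
      HasSk 2 (Z.presheaf.stalk z) (Z.presheaf.stalk z)) := by
  haveI := isLocallyNoetherian_of_lfp κ Z
  constructor
  · intro h
    refine ⟨(geomRk_finite_iff κ Z z 1).mp ?_, ?_⟩
    · intro K _ _ hfin z' hz'
      haveI := isLocallyNoetherian_bc κ Z K
      haveI : IsNoetherianRing ((Curv2.bc κ Z K).presheaf.stalk z') := inferInstance
      exact ((normal_iff_of_isLocalRing _).mp (h K hfin z' hz')).1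
    · haveI : IsNoetherianRing (Z.presheaf.stalk z) := inferInstance
      exact ((normal_iff_of_isLocalRing _).mp (normal_stalk_of_geomNormal κ Z z h)).2
  · rintro ⟨h1, h2⟩ K _ _ hfin z' hz'
    haveI := hfin
    haveI := isLocallyNoetherian_bc κ Z K
    haveI : IsNoetherianRing ((Curv2.bc κ Z K).presheaf.stalk z') := inferInstance
    exact (normal_iff_of_isLocalRing _).mpr
      ⟨(geomRk_finite_iff κ Z z 1).mpr h1 K hfin z' hz', hasSk_stalk_bc κ Z 2 z h2 K z' hz'⟩

end field

end Groth.Agent.Lib.Helper24.GRk
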