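import Groth.Agent.S2699
import Groth.Agent.Lib.Helper24.GRk8
import Groth.Agent.Lib.Helper24.GRk13
import Groth.Agent.Lib.Helper24.FibCons6

/-!
# Geometric normality of fibres (helper24), part 14: all field extensions, local constructibility

* `hasSk_tensor_of_essFiniteType`: `(S_n)` ascends from a `k`-algebra essentially of finite type to its
  base change to an arbitrary field extension.
* `essFiniteType_stalkMap`: local rings of a scheme locally of finite type over a field are
  essentially of finite type.
* `geomNormal_all_iff`: geometric normality at a point (all extensions) iff geometric `(R_1)` and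
  `(S_2)`.
* `isLocallyConstructible_geomNormal`: EGA IV 9.9.4-type statement for geometric normality.
-/

set_option autoImplicit false
set_option linter.style.haveILetI false
universe u

namespace Groth.Agent.Lib.Helper24.GRk

open AlgebraicGeometry CategoryTheory CategoryTheory.Limits TensorProduct LocCoh IsLocalRing Topology

section ring

/-- the fibres of `S → S ⊗[k] k'` are Cohen–Macaulay, for `S` essentially of finite type. -/
lemma cm_fiber_of_essFiniteType (k S k' : Type u) [Field k] [CommRing S] [Algebra k S]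
    [Algebra.EssFiniteType k S] [Field k'] [Algebra k k'] (p : Ideal S) [p.IsPrime] :
    IsCohenMacaulayRing (p.Fiber (S ⊗[k] k')) := by
  have e : p.Fiber (S ⊗[k] k') ≃+* p.ResidueField ⊗[k] k' :=
    (Algebra.TensorProduct.cancelBaseChange k S S p.ResidueField k').toRingEquiv
  have h : Algebra.EssFiniteType k p.ResidueField ∨ Algebra.EssFiniteType k k' := by
    left
    haveI : Algebra.EssFiniteType k (Localization.AtPrime p) :=
      Algebra.EssFiniteType.comp k S (Localization.AtPrime p)
    exact Algebra.EssFiniteType.of_surjective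
      (IsScalarTower.toAlgHom k (Localization.AtPrime p) p.ResidueField)
      (IsLocalRing.residue_surjective)
  have := Groth.Agent.Lib.helper17.FieldBC.isCohenMacaulayRing_tensor_of_isField k p.ResidueField
    k' (Field.toIsField k) (Field.toIsField _) (Field.toIsField k') h
  exact Groth.Agent.Lib.helper26.CMPoly.isCohenMacaulayRing_of_ringEquiv e.symm

/-- `(S_n)` ascends along an arbitrary field extension, for algebras essentially of finite type. -/
theorem hasSk_tensor_of_essFiniteType (n : ℕ) (k S k' : Type u) [Field k] [CommRing S] [Algebra k S]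
    [Algebra.EssFiniteType k S] [Field k'] [Algebra k k'] (h : HasSk n S S) :
    IsNoetherianRing (S ⊗[k] k') ∧ HasSk n (S ⊗[k] k') (S ⊗[k] k') := by
  haveI : IsNoetherianRing S := Algebra.EssFiniteType.isNoetherianRing k S
  haveI : IsNoetherianRing (k' ⊗[k] S) := Algebra.EssFiniteType.isNoetherianRing k' (k' ⊗[k] S)
  haveI hN : IsNoetherianRing (S ⊗[k] k') :=
    isNoetherianRing_of_ringEquiv _ (Algebra.TensorProduct.comm k k' S).toRingEquiv
  refine ⟨hN, ?_⟩
  intro q' hq'
  have hfib := fun (p : Ideal S) [p.IsPrime] => cm_fiber_of_essFiniteType k S k' p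
  have hS : ∀ (p : Ideal S) [p.IsPrime], EGA4.HasSkAt n S S p := by
    intro p _
    rw [Groth.Agent.Lib.helper26.SkAt.hasSkAt_iff]
    intro q _ _
    exact h q
  have hq : EGA4.HasSkAt n (S ⊗[k] k') (S ⊗[k] k') q' := by
    have h0 := hS (q'.comap (algebraMap S (S ⊗[k] k')))
    rw [Groth.Agent.S2699.hasSkAt_self_iff] at h0 ⊢
    intro p' hp' hp'q'
    haveI : p'.LiesOver (p'.comap (algebraMap S (S ⊗[k] k'))) := ⟨rfl⟩
    refine Groth.Agent.Lib.Helper24.FlatDepth.skAt_of_flat S (S ⊗[k] k')
      (p'.comap (algebraMap S (S ⊗[k] k'))) p' n (h0 _ (Ideal.comap_mono hp'q'))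
      (fun r _ => Groth.Agent.S2699.skAt_of_cm _ n r
        ((hfib (p'.comap (algebraMap S (S ⊗[k] k')))).isCohenMacaulayLocalRing_localization r))
  exact (Groth.Agent.Lib.helper26.SkAt.hasSkAt_iff (S ⊗[k] k') n q').mp hq q' le_rfl

end ring

attribute [local instance] Curv2.stalkAlgebra

section field

variable (κ : Type u) [Field κ] (Z : Scheme.{u}) [Z.Over (Spec (CommRingCat.of κ))]
  [LocallyOfFinitePresentation (Z ↘ Spec (CommRingCat.of κ))]

/-- local rings of a scheme locally of finite type over a field are essentially of finite type. -/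
theorem essFiniteType_stalkMap (z : Z) : (Curv2.stalkMap κ Z z).EssFiniteType := by
  have h1 : CommRingCat.ofHom (Curv2.stalkMap κ Z z) =
      ((Scheme.ΓSpecIso (CommRingCat.of κ)).inv ≫ (Spec (CommRingCat.of κ)).presheaf.germ ⊤
        ((Z ↘ Spec (CommRingCat.of κ)) z) trivial) ≫
        (Z ↘ Spec (CommRingCat.of κ)).stalkMap z := by
    have h0 : CommRingCat.ofHom (Curv2.stalkMap κ Z z) =
        (Scheme.ΓSpecIso (CommRingCat.of κ)).inv ≫ (Z ↘ Spec (CommRingCat.of κ)).appTop ≫
          Z.presheaf.germ ⊤ z trivial := rfl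
    rw [h0, Category.assoc]
    congr 1
    exact (Scheme.Hom.germ_stalkMap (Z ↘ Spec (CommRingCat.of κ)) ⊤ z trivial).symm
  have h2 : Curv2.stalkMap κ Z z = (CommRingCat.ofHom (Curv2.stalkMap κ Z z)).hom := rfl
  rw [h2, h1]
  simp only [CommRingCat.hom_comp]
  refine RingHom.EssFiniteType.comp ?_ (LocallyOfFiniteType.stalkMap _ z)
  let p : PrimeSpectrum κ := (Z ↘ Spec (CommRingCat.of κ)) z
  have : Algebra.EssFiniteType κ ((Spec.structureSheaf κ).presheaf.stalk p) :=
    Algebra.EssFiniteType.of_isLocalization _ p.asIdeal.primeCompl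
  exact this

/-- `(S_k)` ascends to the points of `Z_K` for every field extension `K/κ`. -/
theorem hasSk_stalk_bc_all (k : ℕ) (z : Z)
    (h : HasSk k (Z.presheaf.stalk z) (Z.presheaf.stalk z))
    (K : Type u) [Field K] [Algebra κ K] (z' : ↥(Curv2.bc κ Z K))
    (hz' : Curv2.bcFst κ Z K z' = z) :
    HasSk k ((Curv2.bc κ Z K).presheaf.stalk z') ((Curv2.bc κ Z K).presheaf.stalk z') := by
  haveI := isLocallyNoetherian_of_lfp κ Z
  haveI : IsNoetherianRing (Z.presheaf.stalk z) := inferInstance
  haveI : Algebra.EssFiniteType κ (Z.presheaf.stalk z) := essFiniteType_stalkMap κ Z z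
  obtain ⟨hN, hS⟩ := hasSk_tensor_of_essFiniteType k κ (Z.presheaf.stalk z) K h
  haveI := hN
  let c : (Z.presheaf.stalk z) ⊗[κ] K ≃+* K ⊗[κ] (Z.presheaf.stalk z) :=
    (Algebra.TensorProduct.comm κ (Z.presheaf.stalk z) K).toRingEquiv
  haveI hN' : IsNoetherianRing (K ⊗[κ] (Z.presheaf.stalk z)) := isNoetherianRing_of_ringEquiv _ c
  have hS' : HasSk k (K ⊗[κ] (Z.presheaf.stalk z)) (K ⊗[κ] (Z.presheaf.stalk z)) :=
    (Groth.Agent.Lib.Helper24.FibCod.hasSk_iff_of_ringEquiv k c).mp hS
  have key := Groth.Agent.Lib.helper17.GeomPoint.stalk_of_tensor κ Z z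
    (fun R _ => IsNoetherianRing R ∧ HasSk k R R)
    (fun R R' _ _ e hR => by
      haveI := hR.1
      haveI : IsNoetherianRing R' := isNoetherianRing_of_ringEquiv _ e
      exact ⟨inferInstance, (Groth.Agent.Lib.Helper24.FibCod.hasSk_iff_of_ringEquiv k e).mp hR.2⟩)
    K
    (fun p _ => ⟨inferInstance,
      Groth.Agent.Lib.Helper24.SerreNormal.hasSk_localization _ p k hS'⟩) z' hz'
  exact key.2

/-- **Geometric normality at a point** (all extensions). -/
theorem geomNormal_all_iff (z : Z) :
    (∀ (K : Type u) [Field K] [Algebra κ K],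
      ∀ z' : ↥(Curv2.bc κ Z K), Curv2.bcFst κ Z K z' = z →
        IsDomain ((Curv2.bc κ Z K).presheaf.stalk z') ∧
          IsIntegrallyClosed ((Curv2.bc κ Z K).presheaf.stalk z')) ↔
    ((∀ w : Z, w ⤳ z → ringKrullDim (Z.presheaf.stalk w) ≤ (1 : ℕ) →
      w ∈ (Z ↘ Spec (CommRingCat.of κ)).smoothLocus) ∧
      HasSk 2 (Z.presheaf.stalk z) (Z.presheaf.stalk z)) := by
  haveI := isLocallyNoetherian_of_lfp κ Z
  constructor
  · intro h
    exact (geomNormal_finite_iff κ Z z).mp (fun K _ _ _ => h K)
  · rintro ⟨h1, h2⟩ K _ _ z' hz'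
    haveI := isLocallyNoetherian_bc κ Z K
    haveI : IsNoetherianRing ((Curv2.bc κ Z K).presheaf.stalk z') := inferInstance
    exact (normal_iff_of_isLocalRing _).mpr
      ⟨(geomRk_all_iff κ Z z 1).mpr h1 K z' hz', hasSk_stalk_bc_all κ Z 2 z h2 K z' hz'⟩

end field

section scheme

variable {X S : Scheme.{u}} (f : X ⟶ S) [LocallyOfFinitePresentation f]

/-- geometric normality of the fibre at `x` (all extensions) iff geometric `(R_1)` and `(S_2)`. -/
theorem geomNormal_iff_mem_fibGRk_and_hasSk (x : X) :
    (∀ (K : Type u) [Field K]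
        [Algebra (IsLocalRing.ResidueField (S.presheaf.stalk (f.base x))) K]
        (x' : ↥(FBase.bc (f.fiberToSpecResidueField (f.base x)) K)),
          (FBase.bcπ (f.fiberToSpecResidueField (f.base x)) K).base x' = f.asFiber x →
          (IsDomain ((FBase.bc (f.fiberToSpecResidueField (f.base x)) K).presheaf.stalk x') ∧
            IsIntegrallyClosed
              ((FBase.bc (f.fiberToSpecResidueField (f.base x)) K).presheaf.stalk x'))) ↔
      (x ∈ fibGRk 1 f ∧ HasSk 2 ((f.fiber (f.base x)).presheaf.stalk (f.asFiber x))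
        ((f.fiber (f.base x)).presheaf.stalk (f.asFiber x))) := by
  letI : (f.fiber (f.base x)).Over
      (Spec (CommRingCat.of (IsLocalRing.ResidueField (S.presheaf.stalk (f.base x))))) :=
    ⟨f.fiberToSpecResidueField (f.base x)⟩
  haveI : LocallyOfFinitePresentation ((f.fiber (f.base x)) ↘
      (Spec (CommRingCat.of (IsLocalRing.ResidueField (S.presheaf.stalk (f.base x)))))) :=
    locallyOfFinitePresentation_fiberToSpecResidueField f (f.base x)
  exact geomNormal_all_iff (IsLocalRing.ResidueField (S.presheaf.stalk (f.base x)))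
    (f.fiber (f.base x)) (f.asFiber x)

/-- **EGA IV 9.9.4-type**: the set of points at which the fibre is geometrically normal is locally
constructible. -/
theorem isLocallyConstructible_geomNormal :
    IsLocallyConstructible {x : X |
      ∀ (K : Type u) [Field K] [Algebra (IsLocalRing.ResidueField (S.presheaf.stalk (f.base x))) K]
        (x' : ↥(FBase.bc (f.fiberToSpecResidueField (f.base x)) K)),
        (FBase.bcπ (f.fiberToSpecResidueField (f.base x)) K).base x' = f.asFiber x →
          (IsDomain ((FBase.bc (f.fiberToSpecResidueField (f.base x)) K).presheaf.stalk x') ∧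
            IsIntegrallyClosed
              ((FBase.bc (f.fiberToSpecResidueField (f.base x)) K).presheaf.stalk x'))} := by
  have h : {x : X |
      ∀ (K : Type u) [Field K] [Algebra (IsLocalRing.ResidueField (S.presheaf.stalk (f.base x))) K]
        (x' : ↥(FBase.bc (f.fiberToSpecResidueField (f.base x)) K)),
        (FBase.bcπ (f.fiberToSpecResidueField (f.base x)) K).base x' = f.asFiber x →
          (IsDomain ((FBase.bc (f.fiberToSpecResidueField (f.base x)) K).presheaf.stalk x') ∧
            IsIntegrallyClosed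
              ((FBase.bc (f.fiberToSpecResidueField (f.base x)) K).presheaf.stalk x'))} =
      fibGRk 1 f ∩ {x : X | HasSk 2 ((f.fiber (f.base x)).presheaf.stalk (f.asFiber x))
        ((f.fiber (f.base x)).presheaf.stalk (f.asFiber x))} := by
    ext x
    exact geomNormal_iff_mem_fibGRk_and_hasSk f x
  rw [h]
  exact (isLocallyConstructible_fibGRk f 1).inter
    (Groth.Agent.Lib.Helper24.FibCons.isLocallyConstructible_hasSk f 2)

end scheme

end Groth.Agent.Lib.Helper24.GRk
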