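import Groth.Agent.Lib.Helper24.GRk14
import Groth.Agent.Lib.Helper5.FibClos4

/-!
# Geometric `(R_k)` / normality of fibres (helper24), part 15: loci in the base (EGA IV 9.9.5-type)

For `f` of finite presentation, the set of `s` such that the fibre `X_s` is geometrically `(R_k)`
(resp. geometrically normal) everywhere is locally constructible in the base.
-/

set_option autoImplicit false
universe u

namespace Groth.Agent.Lib.Helper24.GRk

open AlgebraicGeometry CategoryTheory CategoryTheory.Limits Topology

variable {X S : Scheme.{u}} (f : X ⟶ S)

/-- a condition on all points of all base changes of a fibre is the complement of the image of the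
failure locus of the corresponding pointwise condition. -/
theorem setOf_forall_fibre_eq
    (P : ∀ (s : S) (K : Type u) [Field K]
      [Algebra (IsLocalRing.ResidueField (S.presheaf.stalk s)) K]
      (_ : ↥(FBase.bc (f.fiberToSpecResidueField s) K)), Prop) :
    {s : S | ∀ (K : Type u) [Field K] [Algebra (IsLocalRing.ResidueField (S.presheaf.stalk s)) K]
        (x' : ↥(FBase.bc (f.fiberToSpecResidueField s) K)), P s K x'} =
      (f '' {x : X | ∀ (K : Type u) [Field K]
        [Algebra (IsLocalRing.ResidueField (S.presheaf.stalk (f.base x))) K]
        (x' : ↥(FBase.bc (f.fiberToSpecResidueField (f.base x)) K)),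
        (FBase.bcπ (f.fiberToSpecResidueField (f.base x)) K).base x' = f.asFiber x →
          P (f.base x) K x'}ᶜ)ᶜ := by
  have key : ∀ (s : S) (x : X) (_ : f.base x = s) (K : Type u) [Field K]
      [Algebra (IsLocalRing.ResidueField (S.presheaf.stalk s)) K]
      (x' : ↥(FBase.bc (f.fiberToSpecResidueField s) K)),
      f.fiberι s ((FBase.bcπ (f.fiberToSpecResidueField s) K).base x') = x →
      (∀ (K : Type u) [Field K]
        [Algebra (IsLocalRing.ResidueField (S.presheaf.stalk (f.base x))) K]
        (x' : ↥(FBase.bc (f.fiberToSpecResidueField (f.base x)) K)),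
        (FBase.bcπ (f.fiberToSpecResidueField (f.base x)) K).base x' = f.asFiber x →
          P (f.base x) K x') → P s K x' := by
    intro s x hx
    subst hx
    intro K _ _ x' h hE
    refine hE K x' ?_
    apply (f.fiberι (f.base x)).isEmbedding.injective
    rw [f.fiberι_asFiber]
    exact h
  ext s
  simp only [Set.mem_ofPred_eq, Set.mem_compl_iff, Set.mem_image, not_exists, not_and]
  constructor
  · intro h x hx hfx
    apply hx
    subst hfx
    intro K _ _ x' _
    exact h K x'
  · intro h K _ _ x'
    set z := (FBase.bcπ (f.fiberToSpecResidueField s) K).base x' with hz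
    have hfx : f.base (f.fiberι s z) = s := by
      have : f.fiberι s z ∈ f ⁻¹' {s} := by rw [← f.range_fiberι s]; exact ⟨z, rfl⟩
      exact this
    by_contra hP
    refine h (f.fiberι s z) (fun hE => hP ?_) hfx
    exact key s (f.fiberι s z) hfx K x' rfl hE

variable [LocallyOfFinitePresentation f] [QuasiCompact f]

/-- **EGA IV 9.9.5-type**: the set of `s` with `X_s` geometrically `(R_k)` is locally constructible. -/
theorem isLocallyConstructible_setOf_fibre_geomRk (k : ℕ) :
    IsLocallyConstructible {s : S |
      ∀ (K : Type u) [Field K] [Algebra (IsLocalRing.ResidueField (S.presheaf.stalk s)) K]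
        (x' : ↥(FBase.bc (f.fiberToSpecResidueField s) K)),
        LocCoh.HasRk k ((FBase.bc (f.fiberToSpecResidueField s) K).presheaf.stalk x')} := by
  rw [setOf_forall_fibre_eq f (fun s K _ _ x' =>
    LocCoh.HasRk k ((FBase.bc (f.fiberToSpecResidueField s) K).presheaf.stalk x'))]
  exact Groth.Agent.Lib.helper5.FibClos.isLocallyConstructible_compl
    (f.isLocallyConstructible_image (Groth.Agent.Lib.helper5.FibClos.isLocallyConstructible_compl
      (isLocallyConstructible_geomRk f k)))

/-- **EGA IV 9.9.5-type**: the set of `s` with `X_s` geometrically normal is locally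
constructible. -/
theorem isLocallyConstructible_setOf_fibre_geomNormal :
    IsLocallyConstructible {s : S |
      ∀ (K : Type u) [Field K] [Algebra (IsLocalRing.ResidueField (S.presheaf.stalk s)) K]
        (x' : ↥(FBase.bc (f.fiberToSpecResidueField s) K)),
        IsDomain ((FBase.bc (f.fiberToSpecResidueField s) K).presheaf.stalk x') ∧
          IsIntegrallyClosed ((FBase.bc (f.fiberToSpecResidueField s) K).presheaf.stalk x')} := by
  rw [setOf_forall_fibre_eq f (fun s K _ _ x' =>
    IsDomain ((FBase.bc (f.fiberToSpecResidueField s) K).presheaf.stalk x') ∧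
      IsIntegrallyClosed ((FBase.bc (f.fiberToSpecResidueField s) K).presheaf.stalk x'))]
  exact Groth.Agent.Lib.helper5.FibClos.isLocallyConstructible_compl
    (f.isLocallyConstructible_image (Groth.Agent.Lib.helper5.FibClos.isLocallyConstructible_compl
      (isLocallyConstructible_geomNormal f)))

end Groth.Agent.Lib.Helper24.GRk
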