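import Mathlib
import Groth.Prelude.Def_EGA4b
import Groth.Agent.Lib.Helper24.GRk5
import Groth.Agent.Lib.Helper24.GRk3
import Groth.Agent.Lib.Helper24.CplCM2
import Groth.Agent.Lib.Helper24.FibCod11
import Groth.Agent.Lib.Helper26.Sk1
import Groth.Agent.Lib.Helper26.Reflexive

/-!
# Geometric `(R_k)` of fibres (helper24), part 6: EGA IV 12.1.6 for `(R_k)`

For `f` locally of finite presentation: the set of points `x` at which `f` is flat, the fibre through
`x` is geometrically `(R_n)` at `x`, and the fibre local ring is equidimensional without embedded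
primes, is open.
-/

set_option autoImplicit false
universe u

namespace Groth.Agent.Lib.Helper24.GRk

open AlgebraicGeometry CategoryTheory IsLocalRing LocCoh Groth.Agent.Lib.Helper24.FibCod
  Groth.Agent.Lib.Helper24.FibSk

attribute [local instance] Groth.Agent.Lib.helper26.SkFlat.isLocalRing_fibLocRing

/-- equidimensional without embedded primes. -/
def EqNoEmb (R : Type u) [CommRing R] : Prop :=
  EGA4.IsEquidim R ∧ ∀ p ∈ associatedPrimes R R, p ∈ minimalPrimes R

theorem noEmb_iff_hasSk_one (R : Type u) [CommRing R] [IsNoetherianRing R] :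
    (∀ p ∈ associatedPrimes R R, p ∈ minimalPrimes R) ↔ HasSk 1 R R := by
  rw [← Groth.Agent.Lib.helper26.Depth.hasSk_one_iff]
  have : Module.annihilator R R = ⊥ := Module.annihilator_eq_bot.mpr inferInstance
  rw [this]

theorem isEquidim_iff_isEquidimModule (R : Type u) [CommRing R] :
    EGA4.IsEquidim R ↔ EGA4.IsEquidimModule R R := by
  have : Module.annihilator R R = ⊥ := Module.annihilator_eq_bot.mpr inferInstance
  unfold EGA4.IsEquidim EGA4.IsEquidimModule
  rw [this, Module.supportDim_self_eq_ringKrullDim]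

theorem eqNoEmb_of_ringEquiv {R R' : Type u} [CommRing R] [CommRing R'] [IsNoetherianRing R]
    [IsNoetherianRing R'] (e : R ≃+* R') (h : EqNoEmb R) : EqNoEmb R' := by
  refine ⟨Groth.Agent.Lib.Helper24.CplCM.isEquidim_of_ringEquiv e h.1, ?_⟩
  rw [noEmb_iff_hasSk_one, ← hasSk_iff_of_ringEquiv 1 e, ← noEmb_iff_hasSk_one]
  exact h.2

theorem isEquidimModule_congr {R : Type u} [CommRing R] {M N : Type u} [AddCommGroup M]
    [Module R M] [AddCommGroup N] [Module R N] (e : M ≃ₗ[R] N) :
    EGA4.IsEquidimModule R M ↔ EGA4.IsEquidimModule R N := by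
  unfold EGA4.IsEquidimModule
  rw [e.annihilator_eq, Module.supportDim_eq_of_equiv e]

section ring

variable (A B : Type u) [CommRing A] [CommRing B] [Algebra A B] [Algebra.FinitePresentation A B]
  [Module.Flat A B]

omit [Module.Flat A B] in
theorem mem_eqSkLocus_self_iff (Q : PrimeSpectrum B) :
    Q ∈ eqSkLocus A B B 1 ↔ EqNoEmb (EGA4.FibLocRing A B Q.asIdeal) := by
  haveI : Algebra.FiniteType A B := Algebra.FiniteType.of_finitePresentation
  haveI : IsNoetherianRing (EGA4.FibLocRing A B Q.asIdeal) :=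
    isNoetherianRing_fibLocRing A B Q.asIdeal
  rw [mem_eqSkLocus_iff A B 1 le_rfl Q, EqNoEmb, noEmb_iff_hasSk_one,
    isEquidim_iff_isEquidimModule,
    isEquidimModule_congr (fibLocModSelfEquiv' A B Q.asIdeal)]
  constructor
  · rintro ⟨h1, h2⟩
    exact ⟨h1, Groth.Agent.Lib.helper26.Depth.hasSk_congr 1
      (fibLocModSelfEquiv' A B Q.asIdeal).symm h2⟩
  · rintro ⟨h1, h2⟩
    exact ⟨h1, Groth.Agent.Lib.helper26.Depth.hasSk_congr 1
      (fibLocModSelfEquiv' A B Q.asIdeal) h2⟩

theorem isOpen_rkLocus_and_eqNoEmb (n : ℕ) :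
    IsOpen {Q : PrimeSpectrum B | Q ∈ rkLocus A B n ∧ EqNoEmb (EGA4.FibLocRing A B Q.asIdeal)} := by
  have : {Q : PrimeSpectrum B | Q ∈ rkLocus A B n ∧ EqNoEmb (EGA4.FibLocRing A B Q.asIdeal)} =
      rkLocus A B n ∩ eqSkLocus A B B 1 := by
    ext Q
    simp only [Set.mem_ofPred_eq, Set.mem_inter_iff, mem_eqSkLocus_self_iff]
  rw [this]
  exact isOpen_rkLocus_inter_eqSkLocus A B n

end ring

/-- **EGA IV 12.1.6 for `(R_n)`**, in terms of `RkCond`. -/
theorem isOpen_flat_and_rkCond_and_eqNoEmb {X Y : Scheme.{u}} (f : X ⟶ Y)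
    [LocallyOfFinitePresentation f] (n : ℕ) :
    IsOpen {x : X | (f.stalkMap x).hom.Flat ∧ RkCond f n x ∧
      EqNoEmb ((f.fiber (f.base x)).presheaf.stalk (f.asFiber x))} :=
  isOpen_flat_and_rkCond_and_fibre n (fun R _ _ => EqNoEmb R)
    (fun _ _ _ _ _ _ _ _ e h => eqNoEmb_of_ringEquiv e h)
    (fun A B _ _ _ _ _ => isOpen_rkLocus_and_eqNoEmb A B n) f

end Groth.Agent.Lib.Helper24.GRk
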