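import Mathlib
import Groth.Prelude.Def_CAlg
import Groth.Prelude.Def_FDesc
import Groth.Agent.Lib.Helper24.GRk8
import Groth.Agent.Lib.Helper24.GRk6
import Groth.Agent.S4962

/-!
# Geometric normality of fibres (helper24), part 9: openness (EGA IV 12.1.6 for normality)
-/

set_option autoImplicit false
set_option linter.style.haveILetI false
universe u

namespace Groth.Agent.Lib.Helper24.GRk

open AlgebraicGeometry CategoryTheory CategoryTheory.Limits TensorProduct LocCoh IsLocalRing

variable {X Y : Scheme.{u}} (f : X ⟶ Y) [LocallyOfFinitePresentation f]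

theorem isNoetherianRing_fibre_stalk (x : X) :
    IsNoetherianRing ((f.fiber (f.base x)).presheaf.stalk (f.asFiber x)) := by
  letI : (f.fiber (f.base x)).Over
      (Spec (CommRingCat.of (IsLocalRing.ResidueField (Y.presheaf.stalk (f.base x))))) :=
    ⟨f.fiberToSpecResidueField (f.base x)⟩
  haveI : LocallyOfFinitePresentation ((f.fiber (f.base x)) ↘
      (Spec (CommRingCat.of (IsLocalRing.ResidueField (Y.presheaf.stalk (f.base x)))))) :=
    locallyOfFinitePresentation_fiberToSpecResidueField f (f.base x)
  haveI := isLocallyNoetherian_of_lfp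
    (IsLocalRing.ResidueField (Y.presheaf.stalk (f.base x))) (f.fiber (f.base x))
  infer_instance

/-- **Geometric normality of the fibre at a point** (finite extensions). -/
theorem geomNormal_fiber_finite_iff (x : X)
    (hflat : ∀ y : X, y ⤳ x → (f.stalkMap y).hom.Flat) :
    (∀ (K : Type u) [Field K]
        [Algebra (IsLocalRing.ResidueField (Y.presheaf.stalk (f.base x))) K],
        Module.Finite (IsLocalRing.ResidueField (Y.presheaf.stalk (f.base x))) K →
        ∀ x' : ↥(FBase.bc (f.fiberToSpecResidueField (f.base x)) K),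
          (FBase.bcπ (f.fiberToSpecResidueField (f.base x)) K).base x' = f.asFiber x →
          IsDomain ((FBase.bc (f.fiberToSpecResidueField (f.base x)) K).presheaf.stalk x') ∧
            IsIntegrallyClosed
              ((FBase.bc (f.fiberToSpecResidueField (f.base x)) K).presheaf.stalk x')) ↔
    ((∀ y : X, y ⤳ x → f.base y = f.base x →
      ringKrullDim ((f.fiber (f.base y)).presheaf.stalk (f.asFiber y)) ≤ (1 : ℕ) →
        y ∈ f.smoothLocus) ∧
      HasSk 2 ((f.fiber (f.base x)).presheaf.stalk (f.asFiber x))
        ((f.fiber (f.base x)).presheaf.stalk (f.asFiber x))) := by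
  rw [← fiber_smooth_cond_iff f x 1 hflat]
  letI : (f.fiber (f.base x)).Over
      (Spec (CommRingCat.of (IsLocalRing.ResidueField (Y.presheaf.stalk (f.base x))))) :=
    ⟨f.fiberToSpecResidueField (f.base x)⟩
  haveI : LocallyOfFinitePresentation ((f.fiber (f.base x)) ↘
      (Spec (CommRingCat.of (IsLocalRing.ResidueField (Y.presheaf.stalk (f.base x)))))) :=
    locallyOfFinitePresentation_fiberToSpecResidueField f (f.base x)
  exact geomNormal_finite_iff (IsLocalRing.ResidueField (Y.presheaf.stalk (f.base x)))
    (f.fiber (f.base x)) (f.asFiber x)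

omit [LocallyOfFinitePresentation f] in
theorem normal_fibre_stalk_of_geomNormal (x : X)
    (h : ∀ (K : Type u) [Field K]
        [Algebra (IsLocalRing.ResidueField (Y.presheaf.stalk (f.base x))) K],
        Module.Finite (IsLocalRing.ResidueField (Y.presheaf.stalk (f.base x))) K →
        ∀ x' : ↥(FBase.bc (f.fiberToSpecResidueField (f.base x)) K),
          (FBase.bcπ (f.fiberToSpecResidueField (f.base x)) K).base x' = f.asFiber x →
          IsDomain ((FBase.bc (f.fiberToSpecResidueField (f.base x)) K).presheaf.stalk x') ∧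
            IsIntegrallyClosed
              ((FBase.bc (f.fiberToSpecResidueField (f.base x)) K).presheaf.stalk x')) :
    IsDomain ((f.fiber (f.base x)).presheaf.stalk (f.asFiber x)) ∧
      IsIntegrallyClosed ((f.fiber (f.base x)).presheaf.stalk (f.asFiber x)) := by
  letI : (f.fiber (f.base x)).Over
      (Spec (CommRingCat.of (IsLocalRing.ResidueField (Y.presheaf.stalk (f.base x))))) :=
    ⟨f.fiberToSpecResidueField (f.base x)⟩
  exact normal_stalk_of_geomNormal (IsLocalRing.ResidueField (Y.presheaf.stalk (f.base x)))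
    (f.fiber (f.base x)) (f.asFiber x) h

theorem eqNoEmb_of_normal (R : Type u) [CommRing R] [IsLocalRing R] [IsNoetherianRing R]
    (h : IsDomain R ∧ IsIntegrallyClosed R) : EqNoEmb R := by
  haveI := h.1
  refine ⟨Groth.Agent.Lib.helper26.RkLift.isEquidim_of_isDomain R, ?_⟩
  rw [noEmb_iff_hasSk_one]
  exact Groth.Agent.Lib.Helper24.SerreNormal.hasSk_mono (by norm_num) R
    ((normal_iff_of_isLocalRing R).mp h).2

/-- **EGA IV 12.1.6 for normality**: the locus where `f` is flat and the fibre is geometrically
normal is open. -/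
theorem isOpen_flat_and_geomNormal :
    IsOpen {x : X | (f.stalkMap x).hom.Flat ∧
      ∀ (K : Type u) [Field K] [Algebra (IsLocalRing.ResidueField (Y.presheaf.stalk (f.base x))) K],
        Module.Finite (IsLocalRing.ResidueField (Y.presheaf.stalk (f.base x))) K →
        ∀ x' : ↥(FBase.bc (f.fiberToSpecResidueField (f.base x)) K),
          (FBase.bcπ (f.fiberToSpecResidueField (f.base x)) K).base x' = f.asFiber x →
          IsDomain ((FBase.bc (f.fiberToSpecResidueField (f.base x)) K).presheaf.stalk x') ∧
            IsIntegrallyClosed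
              ((FBase.bc (f.fiberToSpecResidueField (f.base x)) K).presheaf.stalk x')} := by
  have hW : IsOpen {x : X | (f.stalkMap x).hom.Flat} :=
    Groth.Agent.Lib.helper3.FlatDesc.isOpen_flatLocus_of_locallyOfFinitePresentation f
  have hset : {x : X | (f.stalkMap x).hom.Flat ∧
      ∀ (K : Type u) [Field K] [Algebra (IsLocalRing.ResidueField (Y.presheaf.stalk (f.base x))) K],
        Module.Finite (IsLocalRing.ResidueField (Y.presheaf.stalk (f.base x))) K →
        ∀ x' : ↥(FBase.bc (f.fiberToSpecResidueField (f.base x)) K),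
          (FBase.bcπ (f.fiberToSpecResidueField (f.base x)) K).base x' = f.asFiber x →
          IsDomain ((FBase.bc (f.fiberToSpecResidueField (f.base x)) K).presheaf.stalk x') ∧
            IsIntegrallyClosed
              ((FBase.bc (f.fiberToSpecResidueField (f.base x)) K).presheaf.stalk x')} =
      {x : X | (f.stalkMap x).hom.Flat ∧ RkCond f 1 x ∧
        EqNoEmb ((f.fiber (f.base x)).presheaf.stalk (f.asFiber x))} ∩
      {x : X | (f.stalkMap x).hom.Flat ∧
        HasSk 2 ((f.fiber (f.base x)).presheaf.stalk (f.asFiber x))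
          ((f.fiber (f.base x)).presheaf.stalk (f.asFiber x))} := by
    ext x
    simp only [Set.mem_ofPred_eq, Set.mem_inter_iff]
    constructor
    · rintro ⟨hfl, hN⟩
      have hflat : ∀ y : X, y ⤳ x → (f.stalkMap y).hom.Flat := fun y hy => hy.mem_open hW hfl
      obtain ⟨h1, h2⟩ := (geomNormal_fiber_finite_iff f x hflat).mp hN
      haveI := isNoetherianRing_fibre_stalk f x
      exact ⟨⟨hfl, h1, eqNoEmb_of_normal _ (normal_fibre_stalk_of_geomNormal f x hN)⟩, hfl, h2⟩
    · rintro ⟨⟨hfl, h1, -⟩, -, h2⟩
      have hflat : ∀ y : X, y ⤳ x → (f.stalkMap y).hom.Flat := fun y hy => hy.mem_open hW hfl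
      exact ⟨hfl, (geomNormal_fiber_finite_iff f x hflat).mpr ⟨h1, h2⟩⟩
  rw [hset]
  exact (isOpen_flat_and_rkCond_and_eqNoEmb f 1).inter (Groth.Agent.S4962.result f 2)

end Groth.Agent.Lib.Helper24.GRk
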