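import Mathlib
import Groth.Prelude.Def_EGA4b
import Groth.Agent.Lib.Helper24.GenLoc1
import Groth.Agent.Lib.Helper26.SkAt
import Groth.Agent.Lib.Helper26.DepthCR

/-!
# Semicontinuity of depth along `V(p)` (helper24)

For a finite module `M` over a Noetherian ring and a prime `p` with `depth M_p = e`, there is
`f ∉ p` such that `depth M_q ≥ e` for all `q ∈ V(p) ∩ D(f)`, with equality for only finitely many.
-/

set_option autoImplicit false
set_option linter.unusedSectionVars false
universe u

namespace Groth.Agent.Lib.helper24.GenLoc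

open LocCoh IsLocalRing RingTheory.Sequence Groth.Agent.Lib.helper26.Depth

variable {A : Type u} [CommRing A] [IsNoetherianRing A]

theorem depth_semicontinuous (p : Ideal A) [p.IsPrime] : ∀ (e : ℕ) (M : Type u) [AddCommGroup M]
    [Module A M] [Module.Finite A M],
    depth (Localization.AtPrime p) (LocalizedModule p.primeCompl M) = e →
    ∃ f : A, f ∉ p ∧
      (∀ (q : Ideal A) [q.IsPrime], p ≤ q → f ∉ q →
        (e : ℕ∞) ≤ depth (Localization.AtPrime q) (LocalizedModule q.primeCompl M)) ∧
      {q : PrimeSpectrum A | p ≤ q.asIdeal ∧ f ∉ q.asIdeal ∧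
        depth (Localization.AtPrime q.asIdeal) (LocalizedModule q.asIdeal.primeCompl M) = e}.Finite
  | 0 => by
    intro M _ _ _ _
    refine ⟨1, fun h => (Ideal.IsPrime.ne_top inferInstance) ((Ideal.eq_top_iff_one p).mpr h),
      fun q _ _ _ => by simp, ?_⟩
    have hf : (associatedPrimes A M).Finite := associatedPrimes.finite A M
    have hfin : {q : PrimeSpectrum A | q.asIdeal ∈ associatedPrimes A M}.Finite :=
      Set.Finite.preimage (fun x _ y _ hxy => PrimeSpectrum.ext hxy) hf
    refine hfin.subset ?_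
    rintro q ⟨-, -, hd⟩
    exact Groth.Agent.Lib.helper26.SkAt.mem_associatedPrimes_of_depth_eq_zero M q.asIdeal
      (by simpa using hd)
  | (e + 1) => by
    intro M _ _ _ he
    have h1 : 1 ≤ depth (Localization.AtPrime p) (LocalizedModule p.primeCompl M) := by
      rw [he]
      exact_mod_cast Nat.succ_le_succ (Nat.zero_le e)
    obtain ⟨x, hxp, hxreg⟩ := exists_mem_isSMulRegular_of_one_le_depth p M h1
    obtain ⟨f₁, hf₁p, hf₁⟩ := exists_notMem_forall_isSMulRegular p M x hxreg
    obtain ⟨hq, -⟩ := depth_supportDim_localization_quotSMulTop' p M x hxp hxreg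
    have he' : depth (Localization.AtPrime p)
        (LocalizedModule p.primeCompl (QuotSMulTop x M)) = e := by
      rw [he] at hq
      exact enat_add_one_cancel hq
    obtain ⟨f₂, hf₂p, hf₂, hfin⟩ := depth_semicontinuous p e (QuotSMulTop x M) he'
    refine ⟨f₁ * f₂, fun h => (Ideal.IsPrime.mem_or_mem inferInstance h).elim hf₁p hf₂p, ?_, ?_⟩
    · intro q _ hpq hfq
      have hf₁q : f₁ ∉ q := fun h => hfq (q.mul_mem_right _ h)
      have hf₂q : f₂ ∉ q := fun h => hfq (q.mul_mem_left _ h)
      obtain ⟨h1, -⟩ := depth_supportDim_localization_quotSMulTop' q M x (hpq hxp) (hf₁ q hf₁q)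
      rw [← h1]
      push_cast
      exact add_le_add_left (hf₂ q hpq hf₂q) 1
    · refine hfin.subset ?_
      rintro q ⟨hpq, hfq, hd⟩
      have hf₁q : f₁ ∉ q.asIdeal := fun h => hfq (q.asIdeal.mul_mem_right _ h)
      have hf₂q : f₂ ∉ q.asIdeal := fun h => hfq (q.asIdeal.mul_mem_left _ h)
      refine ⟨hpq, hf₂q, ?_⟩
      obtain ⟨h1, -⟩ := depth_supportDim_localization_quotSMulTop' q.asIdeal M x (hpq hxp)
        (hf₁ q.asIdeal hf₁q)
      rw [hd] at h1
      exact enat_add_one_cancel h1

end Groth.Agent.Lib.helper24.GenLoc
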