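import Mathlib
import Groth.Agent.Lib.Helper26.DepthCR

/-!
# Generators of an ideal with a regular prefix (helper24)

For a Noetherian local ring `T`, a proper ideal `J` of grade `j` and minimal number of generators
`c`: `j ≤ c` and there is a generating sequence `t_1, …, t_c` of `J` such that `t_1, …, t_j` is a
`T`-regular sequence.
-/

set_option autoImplicit false
universe u

namespace Groth.Agent.Lib.Helper24.GenRegPrefix

open IsLocalRing RingTheory.Sequence LocCoh

variable {R : Type u} [CommRing R]

open Classical in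
/-- exchange lemma: an element of `J \ mJ` can replace one element of a generating set of `J`. -/
lemma exists_erase_span [IsLocalRing R] (J : Ideal R) (s : Finset R)
    (hs : Ideal.span (s : Set R) = J) (x : R) (hx : x ∈ J)
    (hx2 : x ∉ maximalIdeal R * J) :
    ∃ y ∈ s, J = Ideal.span {x} ⊔ Ideal.span ((s.erase y : Finset R) : Set R) := by
  classical
  have hxs : x ∈ Ideal.span (s : Set R) := hs ▸ hx
  obtain ⟨a, ha⟩ := (Submodule.mem_span_finset' (R := R) (M := R)).mp hxs
  have hex : ∃ y : s, a y ∉ maximalIdeal R := by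
    by_contra hcon
    push Not at hcon
    apply hx2
    rw [← ha]
    refine Ideal.sum_mem _ (fun y _ => ?_)
    rw [smul_eq_mul]
    refine Ideal.mul_mem_mul (hcon y) ?_
    rw [← hs]
    exact Ideal.subset_span y.2
  obtain ⟨⟨y, hy⟩, hay⟩ := hex
  have hunit : IsUnit (a ⟨y, hy⟩) := by
    by_contra h
    exact hay ((IsLocalRing.mem_maximalIdeal _).mpr h)
  refine ⟨y, hy, le_antisymm ?_ ?_⟩
  · rw [← hs, Ideal.span_le]
    intro z hz
    by_cases hzy : z = y
    · subst hzy
      have key : a ⟨z, hy⟩ * z ∈ Ideal.span {x} ⊔ Ideal.span ((s.erase z : Finset R) : Set R) := by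
        have hsum : a ⟨z, hy⟩ * z =
            x - ∑ w ∈ (Finset.univ : Finset s).erase ⟨z, hy⟩, a w • (w : R) := by
          rw [← ha, ← Finset.add_sum_erase _ _ (Finset.mem_univ (⟨z, hy⟩ : s))]
          simp
        rw [hsum]
        refine Ideal.sub_mem _ (Ideal.mem_sup_left (Ideal.subset_span rfl)) ?_
        refine Ideal.sum_mem _ (fun w hw => ?_)
        rw [smul_eq_mul]
        refine Ideal.mul_mem_left _ _ (Ideal.mem_sup_right (Ideal.subset_span ?_))
        have hwz : (w : R) ≠ z := fun h => (Finset.mem_erase.mp hw).1 (Subtype.ext h)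
        exact Finset.mem_coe.mpr (Finset.mem_erase.mpr ⟨hwz, w.2⟩)
      exact (Ideal.unit_mul_mem_iff_mem _ hunit).mp key
    · exact Ideal.mem_sup_right (Ideal.subset_span (Finset.mem_coe.mpr
        (Finset.mem_erase.mpr ⟨hzy, hz⟩)))
  · refine sup_le ?_ ?_
    · rw [Ideal.span_le]; rintro _ rfl; exact hx
    · rw [← hs]
      exact Ideal.span_mono (by simp)

/-- The minimal number of generators drops by exactly one modulo an element of `J \ mJ`. -/
lemma spanFinrank_map_mk_add_one [IsLocalRing R] [IsNoetherianRing R] (J : Ideal R) (x : R)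
    (hx : x ∈ J) (hx2 : x ∉ maximalIdeal R * J) :
    (J.map (Ideal.Quotient.mk (Ideal.span {x}))).spanFinrank + 1 = J.spanFinrank := by
  classical
  apply le_antisymm
  · have hfg : J.FG := IsNoetherian.noetherian _
    obtain ⟨s, hcard, hspan⟩ := Submodule.FG.exists_span_finset_card_eq_spanFinrank hfg
    obtain ⟨y, hy, hm⟩ := exists_erase_span J s hspan x hx hx2
    have hc : (s.erase y).card + 1 = s.card := Finset.card_erase_add_one hy
    have h1 : J.map (Ideal.Quotient.mk (Ideal.span {x})) =
        Ideal.span ((Ideal.Quotient.mk (Ideal.span {x})) '' ((s.erase y : Finset R) : Set R)) := by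
      conv_lhs => rw [hm]
      rw [Ideal.map_sup, Ideal.map_quotient_self, bot_sup_eq, Ideal.map_span]
    have h2 : (J.map (Ideal.Quotient.mk (Ideal.span {x}))).spanFinrank ≤ (s.erase y).card := by
      rw [h1]
      refine (Submodule.spanFinrank_span_le_ncard_of_finite (Set.toFinite _)).trans ?_
      refine (Set.ncard_image_le (Set.toFinite _)).trans ?_
      rw [Set.ncard_coe_finset]
    omega
  · have hfg : (J.map (Ideal.Quotient.mk (Ideal.span {x}))).FG := IsNoetherian.noetherian _
    obtain ⟨tb, hcard, hspan⟩ := Submodule.FG.exists_span_finset_card_eq_spanFinrank hfg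
    set lift := Function.surjInv (Ideal.Quotient.mk_surjective (I := Ideal.span {x})) with hlift
    set t : Finset R := tb.image lift with ht
    have himg : (Ideal.Quotient.mk (Ideal.span {x})) '' (t : Set R) = (tb : Set _) := by
      rw [ht, Finset.coe_image, ← Set.image_comp]
      have : (Ideal.Quotient.mk (Ideal.span {x})) ∘ lift = id := by
        funext z
        exact Function.surjInv_eq _ z
      rw [this, Set.image_id]
    have h1 : (Ideal.span (t : Set R) ⊔ Ideal.span {x}).map (Ideal.Quotient.mk (Ideal.span {x})) =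
        J.map (Ideal.Quotient.mk (Ideal.span {x})) := by
      rw [Ideal.map_sup, Ideal.map_span, Ideal.map_quotient_self, sup_bot_eq, himg]
      exact hspan
    have h2 := congrArg (Ideal.comap (Ideal.Quotient.mk (Ideal.span {x}))) h1
    rw [Ideal.comap_map_of_surjective _ Ideal.Quotient.mk_surjective,
      Ideal.comap_map_of_surjective _ Ideal.Quotient.mk_surjective,
      ← RingHom.ker_eq_comap_bot, Ideal.mk_ker] at h2
    have hxm : Ideal.span {x} ≤ J := by
      rw [Ideal.span_le]; rintro _ rfl; exact hx
    rw [sup_assoc, sup_idem, sup_eq_left.2 hxm] at h2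
    have h3 : J = Ideal.span ((insert x t : Finset R) : Set R) := by
      rw [← h2, Finset.coe_insert, Ideal.span_insert, sup_comm]
    have h4 : J.spanFinrank ≤ (insert x t).card := by
      conv_lhs => rw [h3]
      refine (Submodule.spanFinrank_span_le_ncard_of_finite (Set.toFinite _)).trans ?_
      rw [Set.ncard_coe_finset]
    have h5 : (insert x t).card ≤ t.card + 1 := Finset.card_insert_le x t
    have h6 : t.card ≤ tb.card := Finset.card_image_le
    omega

/-- prime avoidance: a regular element of `J` outside `mJ`. -/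
lemma exists_regular_notMem [IsLocalRing R] [IsNoetherianRing R] (J : Ideal R) (hJ : J ≠ ⊤)
    (r : R) (hr : r ∈ J) (hreg : IsSMulRegular R r) :
    ∃ t ∈ J, t ∉ maximalIdeal R * J ∧ IsSMulRegular R t := by
  classical
  have hfin : (associatedPrimes R R).Finite := associatedPrimes.finite R R
  have hJm : J ≤ maximalIdeal R := le_maximalIdeal hJ
  have hr0 : r ≠ 0 := by
    rintro rfl
    have := hreg (show (0 : R) • (1 : R) = (0 : R) • (0 : R) by simp)
    exact one_ne_zero this
  -- `J ⊄ mJ`
  have hm2 : ¬ (J ≤ maximalIdeal R * J) := by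
    intro h
    have hbot : J = ⊥ :=
      Submodule.eq_bot_of_le_smul_of_le_jacobson_bot (maximalIdeal R) J
        (IsNoetherian.noetherian _) (by rwa [smul_eq_mul]) (maximalIdeal_le_jacobson _)
    rw [hbot] at hr
    exact hr0 ((Ideal.mem_bot).mp hr)
  -- `J ⊄ P` for `P` associated
  have hass : ∀ P ∈ associatedPrimes R R, ¬ (J ≤ P) := by
    intro P hP hle
    have h1 : r ∈ ⋃ p ∈ associatedPrimes R R, (p : Set R) :=
      Set.mem_iUnion₂_of_mem hP (hle hr)
    rw [biUnion_associatedPrimes_eq_compl_regular R R] at h1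
    exact h1 hreg
  by_contra hcon
  push Not at hcon
  have hsub : ((J : Ideal R) : Set R) ⊆
      ((id (maximalIdeal R * J) : Ideal R) : Set R) ∪ ((id (maximalIdeal R * J) : Ideal R) : Set R) ∪
        ⋃ q ∈ (hfin.toFinset : Set (Ideal R)), ((id q : Ideal R) : Set R) := by
    intro x hx
    by_cases hx2 : x ∈ maximalIdeal R * J
    · exact Or.inl (Or.inl hx2)
    · have hnreg : ¬ IsSMulRegular R x := hcon x hx hx2
      have h1 : x ∈ ({ r : R | IsSMulRegular R r }ᶜ : Set R) := hnreg
      rw [← biUnion_associatedPrimes_eq_compl_regular R R] at h1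
      obtain ⟨q, hq, hxq⟩ := Set.mem_iUnion₂.mp h1
      refine Or.inr ?_
      simp only [Set.mem_iUnion]
      exact ⟨q, by simpa using hq, hxq⟩
  have := (Ideal.subset_union_prime' (f := id) (a := maximalIdeal R * J)
    (b := maximalIdeal R * J) (s := hfin.toFinset)
    (fun q hq => ((hfin.mem_toFinset.mp hq).isPrime : q.IsPrime))).mp hsub
  rcases this with h | h | ⟨q, hq, h⟩
  · exact hm2 h
  · exact hm2 h
  · exact hass q (hfin.mem_toFinset.mp hq) h

/-- lifting a list along a surjection, elementwise inside an ideal. -/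
lemma exists_lift_list {S : Type u} [CommRing S] (f : R →+* S) (hf : Function.Surjective f)
    (J : Ideal R) : ∀ (l : List S), (∀ y ∈ l, y ∈ J.map f) →
    ∃ l' : List R, (∀ x ∈ l', x ∈ J) ∧ l'.map f = l := by
  intro l
  induction l with
  | nil => intro _; exact ⟨[], by simp, rfl⟩
  | cons y l ih =>
    intro h
    obtain ⟨l', hl', hmap⟩ := ih (fun z hz => h z (List.mem_cons_of_mem _ hz))
    obtain ⟨x, hxJ, hxy⟩ := (Ideal.mem_map_iff_of_surjective f hf).mp (h y List.mem_cons_self)
    refine ⟨x :: l', ?_, ?_⟩
    · intro z hz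
      rcases List.mem_cons.mp hz with rfl | hz
      · exact hxJ
      · exact hl' z hz
    · rw [List.map_cons, hxy, hmap]

end Groth.Agent.Lib.Helper24.GenRegPrefix
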