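import Mathlib
import Groth.Agent.Lib.Helper24.GenRegPrefix1

/-!
# Generators of an ideal with a regular prefix, part 2 (helper24)
-/

set_option autoImplicit false
universe u

namespace Groth.Agent.Lib.Helper24.GenRegPrefix

open IsLocalRing RingTheory.Sequence LocCoh Groth.Agent.Lib.helper26.Depth

theorem smul_top_ne_top {T : Type u} [CommRing T] (J : Ideal T) (hJ : J ≠ ⊤) :
    J • (⊤ : Submodule T T) ≠ ⊤ := by
  rw [smul_eq_mul, Ideal.mul_top]
  exact hJ

theorem main : ∀ (j : ℕ) (T : Type u) [CommRing T] [IsLocalRing T] [IsNoetherianRing T]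
    (J : Ideal T), J ≠ ⊤ → idealDepth J T = (j : ℕ∞) →
    j ≤ J.spanFinrank ∧ ∃ ts : List T, ts.length = J.spanFinrank ∧ Ideal.ofList ts = J ∧
      IsRegular T (ts.take j) := by
  intro j
  induction j with
  | zero =>
    intro T _ _ _ J hJ _
    classical
    refine ⟨Nat.zero_le _, ?_⟩
    have hfg : J.FG := IsNoetherian.noetherian _
    obtain ⟨s, hcard, hspan⟩ := Submodule.FG.exists_span_finset_card_eq_spanFinrank hfg
    refine ⟨s.toList, by rw [Finset.length_toList, hcard], ?_, ?_⟩
    · rw [Ideal.ofList, ← hspan]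
      congr 1
      ext a
      simp
    · rw [List.take_zero]
      exact IsRegular.nil T T
  | succ j ih =>
    intro T _ _ _ J hJ hj
    have hJT := smul_top_ne_top J hJ
    -- a regular element in `J`
    have h1 : ((1 : ℕ) : ℕ∞) ≤ idealDepth J T := by
      rw [hj]
      exact_mod_cast Nat.succ_le_succ (Nat.zero_le j)
    obtain ⟨rs, hlen, hmem, hreg⟩ := (le_idealDepth_iff hJT 1).mp h1
    obtain ⟨r, rfl⟩ := List.length_eq_one_iff.mp hlen
    have hrJ : r ∈ J := hmem r (by simp)
    have hrreg : IsSMulRegular T r := (isWeaklyRegular_singleton_iff T r).mp hreg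
    obtain ⟨t, htJ, htm, htreg⟩ := exists_regular_notMem J hJ r hrJ hrreg
    have htmax : t ∈ maximalIdeal T := le_maximalIdeal hJ htJ
    -- the quotient ring
    have hne : (Ideal.span {t} : Ideal T) ≠ ⊤ := by
      intro h
      have : (1 : T) ∈ maximalIdeal T := by
        have h1 : Ideal.span {t} ≤ maximalIdeal T := by
          rw [Ideal.span_le]; rintro _ rfl; exact htmax
        exact h1 (h ▸ Submodule.mem_top)
      exact (Ideal.ne_top_iff_one _).mp (maximalIdeal.isMaximal T).ne_top this
    haveI : Nontrivial (T ⧸ Ideal.span {t}) := Ideal.Quotient.nontrivial_iff.mpr hne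
    haveI : IsLocalRing (T ⧸ Ideal.span {t}) :=
      IsLocalRing.of_surjective' (Ideal.Quotient.mk (Ideal.span {t})) Ideal.Quotient.mk_surjective
    set J' : Ideal (T ⧸ Ideal.span {t}) := J.map (Ideal.Quotient.mk (Ideal.span {t})) with hJ'
    have htle : Ideal.span {t} ≤ J := by
      rw [Ideal.span_le]; rintro _ rfl; exact htJ
    have hcomap : J'.comap (Ideal.Quotient.mk (Ideal.span {t})) = J := by
      rw [hJ', Ideal.comap_map_of_surjective _ Ideal.Quotient.mk_surjective,
        ← RingHom.ker_eq_comap_bot, Ideal.mk_ker, sup_eq_left.2 htle]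
    have hJ'top : J' ≠ ⊤ := by
      intro h
      apply hJ
      rw [← hcomap, h, Ideal.comap_top]
    -- depth drops by one
    let e : QuotSMulTop t T ≃ₗ[T] (T ⧸ Ideal.span {t}) :=
      Submodule.quotEquivOfEq _ _ (by
        rw [← Submodule.ideal_span_singleton_smul, smul_eq_mul, Ideal.mul_top])
    have hd1 : idealDepth J (QuotSMulTop t T) + 1 = idealDepth J T :=
      idealDepth_quotSMulTop_add_one J T t htJ htreg
    have hd2 : idealDepth J (QuotSMulTop t T) = idealDepth J (T ⧸ Ideal.span {t}) :=
      idealDepth_congr e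
    have hd3 : idealDepth J (T ⧸ Ideal.span {t}) =
        idealDepth (J.map (algebraMap T (T ⧸ Ideal.span {t}))) (T ⧸ Ideal.span {t}) :=
      idealDepth_map_eq J (T ⧸ Ideal.span {t})
    have hd4 : idealDepth J' (T ⧸ Ideal.span {t}) = (j : ℕ∞) := by
      have h5 : idealDepth J' (T ⧸ Ideal.span {t}) + 1 = ((j + 1 : ℕ) : ℕ∞) := by
        rw [← hj, ← hd1, hd2, hd3]
        rfl
      have h6 : ((j + 1 : ℕ) : ℕ∞) = (j : ℕ∞) + 1 := by push_cast; rfl
      rw [h6] at h5
      exact (ENat.add_left_injective_of_ne_top (by simp)) h5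
    obtain ⟨hjc, ts', hlen', hts', hreg'⟩ := ih (T ⧸ Ideal.span {t}) J' hJ'top hd4
    have hc : J'.spanFinrank + 1 = J.spanFinrank := spanFinrank_map_mk_add_one J t htJ htm
    refine ⟨by omega, ?_⟩
    -- lift the list
    have hmem' : ∀ y ∈ ts', y ∈ J' := by
      intro y hy
      rw [← hts']
      exact Ideal.subset_span hy
    obtain ⟨ls, hlsJ, hlsmap⟩ := exists_lift_list (Ideal.Quotient.mk (Ideal.span {t}))
      Ideal.Quotient.mk_surjective J ts' hmem'
    refine ⟨t :: ls, ?_, ?_, ?_⟩
    · rw [List.length_cons, ← hc, ← hlen', ← hlsmap, List.length_map]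
    · -- generation
      have hle : Ideal.ofList (t :: ls) ≤ J := by
        rw [Ideal.ofList, Ideal.span_le]
        intro a ha
        rcases List.mem_cons.mp ha with rfl | ha
        · exact htJ
        · exact hlsJ a ha
      refine le_antisymm hle ?_
      have hmap : (Ideal.ofList (t :: ls)).map (Ideal.Quotient.mk (Ideal.span {t})) = J' := by
        rw [Ideal.map_ofList, List.map_cons, hlsmap, Ideal.ofList_cons, hts',
          Ideal.Quotient.eq_zero_iff_mem.mpr (Ideal.mem_span_singleton_self t)]
        simp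
      have h2 := congrArg (Ideal.comap (Ideal.Quotient.mk (Ideal.span {t}))) hmap
      rw [Ideal.comap_map_of_surjective _ Ideal.Quotient.mk_surjective,
        ← RingHom.ker_eq_comap_bot, Ideal.mk_ker, hcomap] at h2
      have h3 : Ideal.span {t} ≤ Ideal.ofList (t :: ls) := by
        rw [Ideal.ofList_cons]; exact le_sup_left
      rw [sup_eq_left.2 h3] at h2
      exact h2.ge
    · -- regularity
      rw [List.take_succ_cons]
      refine isRegular_of_mem hJT ?_ ?_
      · rw [isWeaklyRegular_cons_iff]
        refine ⟨htreg, ?_⟩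
        have h1 : IsWeaklyRegular (T ⧸ Ideal.span {t}) (ts'.take j) := hreg'.toIsWeaklyRegular
        have h2 : ts'.take j = (ls.take j).map (algebraMap T (T ⧸ Ideal.span {t})) := by
          rw [← hlsmap, List.map_take]
          rfl
        rw [h2, isWeaklyRegular_map_algebraMap_iff] at h1
        exact (e.isWeaklyRegular_congr (ls.take j)).mpr h1
      · intro a ha
        rcases List.mem_cons.mp ha with rfl | ha
        · exact htJ
        · exact hlsJ a (List.mem_of_mem_take ha)

end Groth.Agent.Lib.Helper24.GenRegPrefix
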