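import Mathlib
import Groth.Prelude.Def_EGA4b
import Groth.Agent.Lib.Helper24.NorOpen

/-!
# Openness of the normal locus: the generic point criterion (helper24)

* `isIntegrallyClosed_atPrime_iff`, `isIntegrallyClosed_away_of_forall`: denominators criteria;
* `mem_norLocus_comap_iff`: if `s P = 0` and `s ∉ y` then `A_y ≅ (A/P)_y`, so normality at `y` can
  be tested on `A ⧸ P`;
* `isOpen_norLocus_of_generic`: for a Noetherian ring `A`, if every minimal prime lying in the normal
  locus has an open neighbourhood inside the normal locus then the normal locus is open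
  (EGA IV 6.13.2-type criterion).
-/

set_option autoImplicit false
universe u

namespace Groth.Agent.Lib.Helper24.NorOpen

section criteria

variable (R : Type u) [CommRing R] [IsDomain R]

theorem isIntegrallyClosed_atPrime_iff (p : Ideal R) [p.IsPrime] :
    IsIntegrallyClosed (Localization.AtPrime p) ↔
      ∀ z : FractionRing R, IsIntegral R z → ¬ (denom R (FractionRing R) z ≤ p) := by
  rw [isIntegrallyClosed_iff_denominators p.primeCompl (Localization.AtPrime p) (FractionRing R)]
  refine forall₂_congr fun z hz => ?_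
  constructor
  · rintro ⟨u, hu, b, hb⟩ hle
    exact hu (hle ⟨b, hb⟩)
  · intro hnle
    obtain ⟨u, hu, hup⟩ := Set.not_subset.mp hnle
    obtain ⟨b, hb⟩ := hu
    exact ⟨u, hup, b, hb⟩

/-- If `R_y` is integrally closed for every prime `y` not containing `f`, then `R_f` is integrally
closed. -/
theorem isIntegrallyClosed_away_of_forall (f : R) (hf : f ≠ 0)
    (h : ∀ (y : Ideal R) [y.IsPrime], f ∉ y → IsIntegrallyClosed (Localization.AtPrime y)) :
    IsIntegrallyClosed (Localization.Away f) := by
  have hle : Submonoid.powers f ≤ nonZeroDivisors R :=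
    Submonoid.powers_le.mpr (mem_nonZeroDivisors_of_ne_zero hf)
  letI : Algebra (Localization.Away f) (FractionRing R) :=
    IsLocalization.localizationAlgebraOfSubmonoidLe (Localization.Away f) (FractionRing R)
      (Submonoid.powers f) (nonZeroDivisors R) hle
  haveI : IsScalarTower R (Localization.Away f) (FractionRing R) :=
    IsLocalization.localization_isScalarTower_of_submonoid_le (Localization.Away f)
      (FractionRing R) (Submonoid.powers f) (nonZeroDivisors R) hle
  rw [isIntegrallyClosed_iff_denominators (Submonoid.powers f) (Localization.Away f)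
    (FractionRing R)]
  intro z hz
  have hrad : f ∈ (denom R (FractionRing R) z).radical := by
    rw [Ideal.radical_eq_sInf, Ideal.mem_sInf]
    rintro J ⟨hJle, hJprime⟩
    haveI := hJprime
    by_contra hfJ
    exact (isIntegrallyClosed_atPrime_iff R J).mp (h J hfJ) z hz hJle
  obtain ⟨n, b, hb⟩ := hrad
  exact ⟨f ^ n, ⟨n, rfl⟩, b, hb⟩

end criteria

section quotient

variable {A : Type u} [CommRing A]

/-- If `s P = 0` and `s ∉ y` then `A_{y'} ≃+* (A ⧸ P)_y`, `y'` the preimage of `y`. -/
theorem nonempty_ringEquiv_localization_quotient (P : Ideal A) (s : A)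
    (hs : ∀ a ∈ P, s * a = 0) (y : Ideal (A ⧸ P)) [y.IsPrime]
    (hsy : Ideal.Quotient.mk P s ∉ y) :
    Nonempty (Localization.AtPrime (y.comap (Ideal.Quotient.mk P)) ≃+* Localization.AtPrime y) := by
  haveI : IsLocalization.AtPrime (Localization.AtPrime y) (y.comap (Ideal.Quotient.mk P)) := by
    rw [IsLocalization.AtPrime, isLocalization_iff]
    refine ⟨?_, ?_, ?_⟩
    · rintro ⟨t, ht⟩
      rw [IsScalarTower.algebraMap_apply A (A ⧸ P) (Localization.AtPrime y)]
      exact IsLocalization.map_units (Localization.AtPrime y)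
        (⟨Ideal.Quotient.mk P t, ht⟩ : y.primeCompl)
    · intro z
      obtain ⟨⟨a, t⟩, hat⟩ := IsLocalization.surj y.primeCompl z
      obtain ⟨a, rfl⟩ := Ideal.Quotient.mk_surjective a
      obtain ⟨t', ht'⟩ := Ideal.Quotient.mk_surjective (t : A ⧸ P)
      have htmem : t' ∈ (y.comap (Ideal.Quotient.mk P)).primeCompl := by
        change t' ∉ y.comap (Ideal.Quotient.mk P)
        rw [Ideal.mem_comap, ht']
        exact t.2
      refine ⟨(a, ⟨t', htmem⟩), ?_⟩
      rw [IsScalarTower.algebraMap_apply A (A ⧸ P) (Localization.AtPrime y),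
        IsScalarTower.algebraMap_apply A (A ⧸ P) (Localization.AtPrime y)]
      change z * algebraMap (A ⧸ P) _ (Ideal.Quotient.mk P t') = _
      rw [ht']
      exact hat
    · intro a b hab
      rw [IsScalarTower.algebraMap_apply A (A ⧸ P) (Localization.AtPrime y),
        IsScalarTower.algebraMap_apply A (A ⧸ P) (Localization.AtPrime y)] at hab
      obtain ⟨t, ht⟩ := (IsLocalization.eq_iff_exists y.primeCompl _).mp hab
      obtain ⟨t', ht'⟩ := Ideal.Quotient.mk_surjective (t : A ⧸ P)
      have h1 : t' * (a - b) ∈ P := by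
        rw [← Ideal.Quotient.eq_zero_iff_mem, map_mul, map_sub, ht', mul_sub]
        exact sub_eq_zero.mpr ht
      have h2 := hs _ h1
      have hmem : s * t' ∈ (y.comap (Ideal.Quotient.mk P)).primeCompl := by
        change s * t' ∉ y.comap (Ideal.Quotient.mk P)
        rw [Ideal.mem_comap, map_mul, ht']
        exact fun hmem => (Ideal.IsPrime.mem_or_mem inferInstance hmem).elim hsy t.2
      refine ⟨⟨s * t', hmem⟩, ?_⟩
      have : s * t' * a - s * t' * b = s * (t' * (a - b)) := by ring
      exact sub_eq_zero.mp (this.trans h2)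
  exact ⟨(IsLocalization.algEquiv (y.comap (Ideal.Quotient.mk P)).primeCompl
    (Localization.AtPrime (y.comap (Ideal.Quotient.mk P))) (Localization.AtPrime y)).toRingEquiv⟩

theorem mem_norLocus_comap_iff (P : Ideal A) (s : A) (hs : ∀ a ∈ P, s * a = 0)
    (y : PrimeSpectrum (A ⧸ P)) (hsy : Ideal.Quotient.mk P s ∉ y.asIdeal) :
    PrimeSpectrum.comap (Ideal.Quotient.mk P) y ∈ EGA4.norLocus A ↔
      y ∈ EGA4.norLocus (A ⧸ P) := by
  obtain ⟨e⟩ := nonempty_ringEquiv_localization_quotient P s hs y.asIdeal hsy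
  constructor
  · rintro ⟨h1, h2⟩
    haveI : IsDomain (Localization.AtPrime (y.asIdeal.comap (Ideal.Quotient.mk P))) := h1
    haveI : IsIntegrallyClosed (Localization.AtPrime (y.asIdeal.comap (Ideal.Quotient.mk P))) := h2
    exact ⟨e.symm.toMulEquiv.isDomain _, IsIntegrallyClosed.of_equiv e⟩
  · rintro ⟨h1, h2⟩
    haveI : IsDomain (Localization.AtPrime y.asIdeal) := h1
    haveI : IsIntegrallyClosed (Localization.AtPrime y.asIdeal) := h2
    exact ⟨e.toMulEquiv.isDomain _, IsIntegrallyClosed.of_equiv e.symm⟩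

end quotient

section main

variable (A : Type u) [CommRing A] [IsNoetherianRing A]

/-- Data attached to a point `x` of the normal locus: the minimal prime `P ⊆ x` and an element
`s ∉ x` killing `P`. -/
theorem exists_minimalPrime_data (x : PrimeSpectrum A) (hx : x ∈ EGA4.norLocus A) :
    ∃ (P : Ideal A) (s : A), P.IsPrime ∧ P ∈ minimalPrimes A ∧ P ≤ x.asIdeal ∧ s ∉ x.asIdeal ∧
      (∀ a ∈ P, s * a = 0) ∧
      (∀ hP : P.IsPrime, (⟨P, hP⟩ : PrimeSpectrum A) ∈ EGA4.norLocus A) := by
  obtain ⟨hdom, hic⟩ := hx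
  haveI := hdom
  haveI := hic
  have hmemP : ∀ a : A, a ∈ RingHom.ker (algebraMap A (Localization.AtPrime x.asIdeal)) ↔
      ∃ t : x.asIdeal.primeCompl, (t : A) * a = 0 := fun a => by
    rw [RingHom.mem_ker]
    exact IsLocalization.map_eq_zero_iff x.asIdeal.primeCompl _ a
  have hPprime : (RingHom.ker (algebraMap A (Localization.AtPrime x.asIdeal))).IsPrime :=
    RingHom.ker_isPrime _
  have hPle : RingHom.ker (algebraMap A (Localization.AtPrime x.asIdeal)) ≤ x.asIdeal := by
    intro a ha
    obtain ⟨t, hta⟩ := (hmemP a).mp ha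
    have : (t : A) * a ∈ x.asIdeal := hta ▸ x.asIdeal.zero_mem
    exact (x.isPrime.mem_or_mem this).resolve_left t.2
  have hPmin : RingHom.ker (algebraMap A (Localization.AtPrime x.asIdeal)) ∈ minimalPrimes A := by
    refine ⟨⟨hPprime, bot_le⟩, ?_⟩
    rintro Q ⟨hQprime, -⟩ hQP a ha
    obtain ⟨t, hta⟩ := (hmemP a).mp ha
    have : (t : A) * a ∈ Q := hta ▸ Q.zero_mem
    exact (hQprime.mem_or_mem this).resolve_left (fun htQ => t.2 (hPle (hQP htQ)))
  -- the element `s`
  have hnsupp : x ∉ Module.support A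
      (RingHom.ker (algebraMap A (Localization.AtPrime x.asIdeal))) := by
    rw [Module.notMem_support_iff']
    rintro ⟨a, ha⟩
    obtain ⟨t, hta⟩ := (hmemP a).mp ha
    exact ⟨t, t.2, Subtype.ext hta⟩
  rw [Module.mem_support_iff_of_finite] at hnsupp
  obtain ⟨s, hsann, hsx⟩ := Set.not_subset.mp hnsupp
  have hs : ∀ a ∈ RingHom.ker (algebraMap A (Localization.AtPrime x.asIdeal)), s * a = 0 := by
    intro a ha
    have := Module.mem_annihilator.mp hsann ⟨a, ha⟩
    exact congrArg Subtype.val this
  refine ⟨_, s, hPprime, hPmin, hPle, hsx, hs, fun hP => ?_⟩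
  -- `A_P` is a localization of the normal domain `A_x`
  have hle : x.asIdeal.primeCompl ≤
      (RingHom.ker (algebraMap A (Localization.AtPrime x.asIdeal))).primeCompl :=
    fun a ha hmem => ha (hPle hmem)
  letI : Algebra (Localization.AtPrime x.asIdeal)
      (Localization.AtPrime (RingHom.ker (algebraMap A (Localization.AtPrime x.asIdeal)))) :=
    IsLocalization.localizationAlgebraOfSubmonoidLe _ _ _ _ hle
  haveI : IsScalarTower A (Localization.AtPrime x.asIdeal)
      (Localization.AtPrime (RingHom.ker (algebraMap A (Localization.AtPrime x.asIdeal)))) :=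
    IsLocalization.localization_isScalarTower_of_submonoid_le _ _ _ _ hle
  haveI := IsLocalization.isLocalization_of_submonoid_le (Localization.AtPrime x.asIdeal)
    (Localization.AtPrime (RingHom.ker (algebraMap A (Localization.AtPrime x.asIdeal))))
    x.asIdeal.primeCompl _ hle
  have hM : ((RingHom.ker (algebraMap A (Localization.AtPrime x.asIdeal))).primeCompl.map
      (algebraMap A (Localization.AtPrime x.asIdeal))) ≤
      nonZeroDivisors (Localization.AtPrime x.asIdeal) := by
    rintro _ ⟨a, ha, rfl⟩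
    exact mem_nonZeroDivisors_of_ne_zero (fun h0 => ha (RingHom.mem_ker.mpr h0))
  exact ⟨IsLocalization.isDomain_of_le_nonZeroDivisors (R := Localization.AtPrime x.asIdeal)
      (S := Localization.AtPrime (RingHom.ker (algebraMap A (Localization.AtPrime x.asIdeal)))) hM,
    isIntegrallyClosed_of_isLocalization (R := Localization.AtPrime x.asIdeal)
      (S := Localization.AtPrime (RingHom.ker (algebraMap A (Localization.AtPrime x.asIdeal))))
      _ hM⟩

/-- **Generic point criterion** for the openness of the normal locus. -/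
theorem isOpen_norLocus_of_generic
    (H : ∀ p : PrimeSpectrum A, p.asIdeal ∈ minimalPrimes A → p ∈ EGA4.norLocus A →
      ∃ U : Set (PrimeSpectrum A), IsOpen U ∧ p ∈ U ∧ U ⊆ EGA4.norLocus A) :
    IsOpen (EGA4.norLocus A) := by
  rw [isOpen_iff_forall_mem_open]
  intro x hx
  obtain ⟨P, s, hPprime, hPmin, hPx, hsx, hs, hPnor⟩ := exists_minimalPrime_data A x hx
  haveI := hPprime
  obtain ⟨U, hUopen, hPU, hUnor⟩ := H ⟨P, hPprime⟩ hPmin (hPnor hPprime)
  obtain ⟨_, ⟨g, rfl⟩, hPg, hgU⟩ :=
    PrimeSpectrum.isTopologicalBasis_basic_opens.exists_subset_of_mem_open hPU hUopen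
  have hgP : g ∉ P := hPg
  have hsP : s ∉ P := fun h => hsx (hPx h)
  -- the domain `R = A ⧸ P`
  haveI : IsDomain (A ⧸ P) := Ideal.Quotient.isDomain P
  have hf : Ideal.Quotient.mk P (g * s) ≠ 0 := by
    rw [Ne, Ideal.Quotient.eq_zero_iff_mem]
    exact fun h => (hPprime.mem_or_mem h).elim hgP hsP
  -- `R_f` is integrally closed
  have hRf : IsIntegrallyClosed (Localization.Away (Ideal.Quotient.mk P (g * s))) := by
    apply isIntegrallyClosed_away_of_forall (A ⧸ P) _ hf
    intro y hy hfy
    have hsy : Ideal.Quotient.mk P s ∉ y := fun h => hfy (by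
      rw [map_mul]; exact Ideal.mul_mem_left _ _ h)
    have hgy : Ideal.Quotient.mk P g ∉ y := fun h => hfy (by
      rw [map_mul]; exact Ideal.mul_mem_right _ _ h)
    have hmem : PrimeSpectrum.comap (Ideal.Quotient.mk P) ⟨y, hy⟩ ∈ EGA4.norLocus A := by
      apply hUnor
      apply hgU
      exact hgy
    exact ((mem_norLocus_comap_iff P s hs ⟨y, hy⟩ hsy).mp hmem).2
  have hopen := isOpen_integrallyClosed_locus (A ⧸ P) _ hf hRf
  -- the point `x̄`
  have hxbar_prime : (x.asIdeal.map (Ideal.Quotient.mk P)).IsPrime :=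
    Ideal.map_isPrime_of_surjective Ideal.Quotient.mk_surjective (by rwa [Ideal.mk_ker])
  have hcomap : ∀ (y' : Ideal A), P ≤ y' →
      (y'.map (Ideal.Quotient.mk P)).comap (Ideal.Quotient.mk P) = y' := by
    intro y' hle
    rw [Ideal.comap_map_of_surjective' _ Ideal.Quotient.mk_surjective, Ideal.mk_ker,
      sup_eq_left.mpr hle]
  have hxbar : PrimeSpectrum.comap (Ideal.Quotient.mk P)
      ⟨x.asIdeal.map (Ideal.Quotient.mk P), hxbar_prime⟩ = x :=
    PrimeSpectrum.ext (hcomap _ hPx)
  have hsxbar : Ideal.Quotient.mk P s ∉ x.asIdeal.map (Ideal.Quotient.mk P) := by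
    rw [← Ideal.mem_comap, hcomap _ hPx]
    exact hsx
  have hxbar_mem : (⟨x.asIdeal.map (Ideal.Quotient.mk P), hxbar_prime⟩ : PrimeSpectrum (A ⧸ P)) ∈
      {p : PrimeSpectrum (A ⧸ P) | IsIntegrallyClosed (Localization.AtPrime p.asIdeal)} := by
    have hx' : PrimeSpectrum.comap (Ideal.Quotient.mk P)
        ⟨x.asIdeal.map (Ideal.Quotient.mk P), hxbar_prime⟩ ∈ EGA4.norLocus A := by
      rw [hxbar]; exact hx
    exact ((mem_norLocus_comap_iff P s hs ⟨_, hxbar_prime⟩ hsxbar).mp hx').2
  obtain ⟨_, ⟨h, rfl⟩, hxh, hhN⟩ :=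
    PrimeSpectrum.isTopologicalBasis_basic_opens.exists_subset_of_mem_open hxbar_mem hopen
  obtain ⟨h, rfl⟩ := Ideal.Quotient.mk_surjective h
  -- the neighbourhood `D(h s)`
  refine ⟨(PrimeSpectrum.basicOpen (h * s) : Set (PrimeSpectrum A)), ?_,
    (PrimeSpectrum.basicOpen (h * s)).isOpen, ?_⟩
  · intro y' hy'
    have hy's : s ∉ y'.asIdeal := fun hmem => hy' (Ideal.mul_mem_left _ _ hmem)
    have hy'h : h ∉ y'.asIdeal := fun hmem => hy' (Ideal.mul_mem_right _ _ hmem)
    have hPy' : P ≤ y'.asIdeal := by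
      intro a ha
      have : s * a ∈ y'.asIdeal := (hs a ha) ▸ y'.asIdeal.zero_mem
      exact (y'.isPrime.mem_or_mem this).resolve_left hy's
    have hybar_prime : (y'.asIdeal.map (Ideal.Quotient.mk P)).IsPrime :=
      Ideal.map_isPrime_of_surjective Ideal.Quotient.mk_surjective (by rwa [Ideal.mk_ker])
    have hybar : PrimeSpectrum.comap (Ideal.Quotient.mk P)
        ⟨y'.asIdeal.map (Ideal.Quotient.mk P), hybar_prime⟩ = y' :=
      PrimeSpectrum.ext (hcomap _ hPy')
    have hsybar : Ideal.Quotient.mk P s ∉ y'.asIdeal.map (Ideal.Quotient.mk P) := by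
      rw [← Ideal.mem_comap, hcomap _ hPy']
      exact hy's
    have hhybar : Ideal.Quotient.mk P h ∉ y'.asIdeal.map (Ideal.Quotient.mk P) := by
      rw [← Ideal.mem_comap, hcomap _ hPy']
      exact hy'h
    have hic : IsIntegrallyClosed (Localization.AtPrime (y'.asIdeal.map (Ideal.Quotient.mk P))) :=
      hhN (show (⟨_, hybar_prime⟩ : PrimeSpectrum (A ⧸ P)) ∈
        (PrimeSpectrum.basicOpen (Ideal.Quotient.mk P h) : Set _) from hhybar)
    have hdom : IsDomain (Localization.AtPrime (y'.asIdeal.map (Ideal.Quotient.mk P))) :=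
      IsLocalization.isDomain_localization
        (Ideal.primeCompl_le_nonZeroDivisors (y'.asIdeal.map (Ideal.Quotient.mk P)))
    rw [← hybar]
    exact (mem_norLocus_comap_iff P s hs ⟨_, hybar_prime⟩ hsybar).mpr ⟨hdom, hic⟩
  · show h * s ∉ x.asIdeal
    intro hmem
    rcases x.isPrime.mem_or_mem hmem with hh | hs'
    · apply hxh
      show Ideal.Quotient.mk P h ∈ x.asIdeal.map (Ideal.Quotient.mk P)
      exact Ideal.mem_map_of_mem _ hh
    · exact hsx hs'

end main

end Groth.Agent.Lib.Helper24.NorOpen
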