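import Mathlib
import Groth.Agent.Lib.Helper17.FieldLift
import Groth.Agent.Lib.Helper24.SmoothRegularIff
import Groth.Agent.Lib.Helper24.SmoothNormal
import Groth.Agent.Lib.Helper24.NorOpen2

/-!
# Generic smoothness for separable function field extensions, and transfer of loci (helper24)

`A ⊆ A'` domains, `A` Noetherian, `A'` of finite type over `A`, `Frac A' / Frac A` separable
(geometrically reduced).

* `exists_smooth_away`: there is `f ≠ 0` in `A'` with `A'_f` smooth over `A`.
* `mem_locus_of_smooth_away`: a local property ascending along smooth maps passes from `A_{q ∩ A}`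
  to `A'_q` for `q ∈ D(f)`.
* `exists_open_regLocus`, `isOpen_norLocus` (EGA IV 6.12.? / 6.13.?).
-/

set_option autoImplicit false
universe u

namespace Groth.Agent.Lib.Helper24.GenSmooth

section generic

variable (A A' : Type u) [CommRing A] [CommRing A'] [IsDomain A] [IsDomain A']
  [IsNoetherianRing A] [Algebra A A'] [FaithfulSMul A A'] [Algebra.FiniteType A A']
  [Algebra (FractionRing A) (FractionRing A')]
  [IsScalarTower A (FractionRing A) (FractionRing A')]
  [Algebra.IsGeometricallyReduced (FractionRing A) (FractionRing A')]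

theorem exists_smooth_away : ∃ f : A', f ≠ 0 ∧ Algebra.Smooth A (Localization.Away f) := by
  haveI : Algebra.FormallySmooth (FractionRing A) (FractionRing A') :=
    Groth.Agent.Lib.helper17.FieldLift.formallySmooth_of_isGeometricallyReduced
  haveI : Algebra.FormallySmooth A (FractionRing A) :=
    Algebra.FormallySmooth.of_isLocalization (nonZeroDivisors A)
  haveI h1 : Algebra.FormallySmooth A (FractionRing A') :=
    Algebra.FormallySmooth.comp A (FractionRing A) (FractionRing A')
  let p : Ideal A' := ⊥
  haveI : p.IsPrime := Ideal.isPrime_bot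
  have hM : p.primeCompl = nonZeroDivisors A' := by
    ext c
    rw [Ideal.mem_primeCompl_iff, Ideal.mem_bot, mem_nonZeroDivisors_iff_ne_zero]
  haveI hloc : IsLocalization.AtPrime (FractionRing A') p := by
    show IsLocalization p.primeCompl (FractionRing A')
    rw [hM]
    infer_instance
  let e : Localization.AtPrime p ≃ₐ[A'] FractionRing A' := IsLocalization.algEquiv p.primeCompl _ _
  haveI : Algebra.FormallySmooth A (Localization.AtPrime p) :=
    Algebra.FormallySmooth.of_equiv (e.restrictScalars A).symm
  haveI : Algebra.IsSmoothAt A p := ‹_›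
  haveI : Algebra.FinitePresentation A A' := Algebra.FinitePresentation.of_finiteType.mp inferInstance
  obtain ⟨f, hf, hsm⟩ := Algebra.IsSmoothAt.exists_notMem_smooth A p
  exact ⟨f, fun h => hf (by rw [h]; exact Ideal.zero_mem _), hsm⟩

end generic

section transfer

variable (Q : ∀ (R : Type u) [CommRing R], Prop)
  (hQiso : ∀ (R R' : Type u) [CommRing R] [CommRing R'], (R ≃+* R') → Q R → Q R')
  (hQsm : ∀ (A B : Type u) [CommRing A] [CommRing B] [Algebra A B] [Algebra.Smooth A B]
    (q : Ideal B) [q.IsPrime], Q (Localization.AtPrime (q.comap (algebraMap A B))) →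
      Q (Localization.AtPrime q))

include hQiso in
theorem Q_congr {R : Type u} [CommRing R] (p₁ p₂ : Ideal R) [p₁.IsPrime] [p₂.IsPrime]
    (h : p₁ = p₂) (h1 : Q (Localization.AtPrime p₁)) : Q (Localization.AtPrime p₂) := by
  subst h
  exact h1

include hQiso hQsm in
theorem mem_locus_of_smooth_away (A A' : Type u) [CommRing A] [CommRing A'] [Algebra A A']
    (f : A') [Algebra.Smooth A (Localization.Away f)] (q : Ideal A') [q.IsPrime] (hf : f ∉ q)
    (h : Q (Localization.AtPrime (q.comap (algebraMap A A')))) : Q (Localization.AtPrime q) := by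
  have hdisj : Disjoint (Submonoid.powers f : Set A') (q : Set A') := by
    rw [Set.disjoint_left]
    rintro _ ⟨k, rfl⟩ hq
    exact hf (Ideal.IsPrime.mem_of_pow_mem inferInstance _ hq)
  have hQf : (q.map (algebraMap A' (Localization.Away f))).IsPrime :=
    IsLocalization.isPrime_of_isPrime_disjoint _ (Localization.Away f) q inferInstance hdisj
  have hc : (q.map (algebraMap A' (Localization.Away f))).comap
      (algebraMap A' (Localization.Away f)) = q :=
    IsLocalization.under_map_of_isPrime_disjoint _ (Localization.Away f) inferInstance hdisj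
  have hc2 : (q.map (algebraMap A' (Localization.Away f))).comap
      (algebraMap A (Localization.Away f)) = q.comap (algebraMap A A') := by
    rw [IsScalarTower.algebraMap_eq A A' (Localization.Away f), ← Ideal.comap_comap, hc]
  have h1 : Q (Localization.AtPrime ((q.map (algebraMap A' (Localization.Away f))).comap
      (algebraMap A (Localization.Away f)))) := Q_congr Q hQiso _ _ hc2.symm h
  have h2 := hQsm A (Localization.Away f) (q.map (algebraMap A' (Localization.Away f))) h1
  haveI : IsLocalization.AtPrime
      (Localization.AtPrime (q.map (algebraMap A' (Localization.Away f))))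
      ((q.map (algebraMap A' (Localization.Away f))).comap
        (algebraMap A' (Localization.Away f))) :=
    IsLocalization.isLocalization_isLocalization_atPrime_isLocalization (Submonoid.powers f)
      (Localization.AtPrime (q.map (algebraMap A' (Localization.Away f))))
      (q.map (algebraMap A' (Localization.Away f)))
  let e : Localization.AtPrime ((q.map (algebraMap A' (Localization.Away f))).comap
      (algebraMap A' (Localization.Away f))) ≃ₐ[A']
      Localization.AtPrime (q.map (algebraMap A' (Localization.Away f))) :=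
    IsLocalization.algEquiv ((q.map (algebraMap A' (Localization.Away f))).comap
      (algebraMap A' (Localization.Away f))).primeCompl _ _
  have h3 := hQiso _ _ e.symm.toRingEquiv h2
  exact Q_congr Q hQiso _ _ hc h3

end transfer

section loci

variable (A A' : Type u) [CommRing A] [CommRing A'] [IsDomain A] [IsDomain A']
  [IsNoetherianRing A] [Algebra A A'] [FaithfulSMul A A'] [Algebra.FiniteType A A']
  [Algebra (FractionRing A) (FractionRing A')]
  [IsScalarTower A (FractionRing A) (FractionRing A')]
  [Algebra.IsGeometricallyReduced (FractionRing A) (FractionRing A')]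

/-- The generic point lies in every nonempty open subset of the spectrum of a domain. -/
theorem bot_mem_of_isOpen {R : Type u} [CommRing R] [IsDomain R] {U : Set (PrimeSpectrum R)}
    (hU : IsOpen U) (hne : U.Nonempty) : (⟨⊥, Ideal.isPrime_bot⟩ : PrimeSpectrum R) ∈ U := by
  obtain ⟨x, hx⟩ := hne
  have hs : (⟨⊥, Ideal.isPrime_bot⟩ : PrimeSpectrum R) ⤳ x := by
    rw [← PrimeSpectrum.le_iff_specializes]
    exact bot_le (a := x.asIdeal)
  exact hs.mem_open hU hx

include A in
/-- Transfer of an open subset of a locus. -/
theorem exists_open_locus (Q : ∀ (R : Type u) [CommRing R], Prop)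
    (hQiso : ∀ (R R' : Type u) [CommRing R] [CommRing R'], (R ≃+* R') → Q R → Q R')
    (hQsm : ∀ (A B : Type u) [CommRing A] [CommRing B] [Algebra A B] [Algebra.Smooth A B]
      (q : Ideal B) [q.IsPrime], Q (Localization.AtPrime (q.comap (algebraMap A B))) →
        Q (Localization.AtPrime q))
    (U : Set (PrimeSpectrum A)) (hU : IsOpen U) (hne : U.Nonempty)
    (hUQ : ∀ p ∈ U, Q (Localization.AtPrime p.asIdeal)) :
    ∃ U' : Set (PrimeSpectrum A'), IsOpen U' ∧
      (⟨⊥, Ideal.isPrime_bot⟩ : PrimeSpectrum A') ∈ U' ∧
      ∀ q ∈ U', Q (Localization.AtPrime q.asIdeal) := by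
  obtain ⟨f, hf0, hsm⟩ := exists_smooth_away A A'
  refine ⟨(PrimeSpectrum.basicOpen f : Set (PrimeSpectrum A')) ∩
    PrimeSpectrum.comap (algebraMap A A') ⁻¹' U, ?_, ?_, ?_⟩
  · exact (PrimeSpectrum.basicOpen f).isOpen.inter
      (hU.preimage (PrimeSpectrum.continuous_comap (algebraMap A A')))
  · refine ⟨?_, ?_⟩
    · show f ∉ (⊥ : Ideal A')
      rwa [Ideal.mem_bot]
    · have hbot := bot_mem_of_isOpen hU hne
      have : PrimeSpectrum.comap (algebraMap A A') ⟨⊥, Ideal.isPrime_bot⟩ =
          (⟨⊥, Ideal.isPrime_bot⟩ : PrimeSpectrum A) := by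
        ext1
        exact Ideal.comap_bot_of_injective _ (FaithfulSMul.algebraMap_injective A A')
      show PrimeSpectrum.comap (algebraMap A A') ⟨⊥, Ideal.isPrime_bot⟩ ∈ U
      rw [this]
      exact hbot
  · rintro q ⟨hqf, hqU⟩
    exact mem_locus_of_smooth_away Q hQiso hQsm A A' f q.asIdeal hqf (hUQ _ hqU)

end loci

end Groth.Agent.Lib.Helper24.GenSmooth
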