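import Groth.Agent.Lib.Helper24.GeomLim3
import Groth.Agent.Lib.Helper24.NoethLimit
import Groth.Agent.Lib.Helper17.FlatBC

/-!
# Base change of homomorphisms with geometrically regular / normal fibres (helper24)

Setting: `A → B`, `A → A'`.  For a prime `p'` of `A'` over `p` and a field `K` over `κ(p')`:
`K ⊗[κ(p')] p'.Fiber (A' ⊗[A] B) ≃ K ⊗[κ(p)] p.Fiber B`.
-/

set_option autoImplicit false
universe u

open TensorProduct

namespace Groth.Agent.Lib.Helper24.GeomBC

open Groth.Agent.Lib.Helper24.GeomFG Groth.Agent.Lib.Helper24.GeomLim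

/-- The descent half of `geom_iff_baseChange`, valid for an arbitrary field extension `K/k`. -/
theorem geom_of_baseChange {P : ∀ (R : Type u) [CommRing R], Prop} (hP : GeomStable P)
    (k S : Type u) [Field k] [CommRing S] [Algebra k S] (K : Type u) [Field K] [Algebra k K]
    (h : ∀ (K' : Type u) [Field K'] [Algebra K K'], Module.Finite K K' →
      P (K' ⊗[K] (K ⊗[k] S)))
    (k' : Type u) [Field k'] [Algebra k k'] (hfin : Module.Finite k k') : P (k' ⊗[k] S) := by
  haveI := hfin
  obtain ⟨L, _, _, _, _, _, _, hL⟩ := exists_compositum k K k'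
  have h1 : P (L ⊗[K] (K ⊗[k] S)) := h L hL
  have h2 : P (L ⊗[k] S) :=
    hP.iso _ _ (Algebra.TensorProduct.cancelBaseChange k K K L S).toRingEquiv h1
  have h3 : P (L ⊗[k'] (k' ⊗[k] S)) :=
    hP.iso _ _ (Algebra.TensorProduct.cancelBaseChange k k' k' L S).symm.toRingEquiv h2
  have h4 : P ((k' ⊗[k] S) ⊗[k'] L) :=
    hP.iso _ _ (Algebra.TensorProduct.comm k' L (k' ⊗[k] S)).toRingEquiv h3
  exact hP.desc (k' ⊗[k] S) ((k' ⊗[k] S) ⊗[k'] L) h4

section

variable (A B A' : Type u) [CommRing A] [CommRing B] [CommRing A'] [Algebra A B] [Algebra A A']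

/-- `K ⊗[κ(p')] p'.Fiber (A' ⊗[A] B) ≃ K ⊗[κ(p)] p.Fiber B`. -/
noncomputable def fibreEquiv (p' : Ideal A') [p'.IsPrime] (p : Ideal A) [p.IsPrime]
    (K : Type u) [Field K] [Algebra A K] [Algebra A' K] [IsScalarTower A A' K]
    [Algebra p.ResidueField K] [IsScalarTower A p.ResidueField K]
    [Algebra p'.ResidueField K] [IsScalarTower A' p'.ResidueField K] :
    K ⊗[p'.ResidueField] p'.Fiber (A' ⊗[A] B) ≃+* K ⊗[p.ResidueField] p.Fiber B :=
  ((Algebra.TensorProduct.cancelBaseChange A' p'.ResidueField K K (A' ⊗[A] B)).toRingEquiv.trans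
    (Algebra.TensorProduct.cancelBaseChange A A' K K B).toRingEquiv).trans
    (Algebra.TensorProduct.cancelBaseChange A p.ResidueField K K B).symm.toRingEquiv

/-- Packaged version: for `p'` over `p`, `κ(p')` is a `κ(p)`-algebra and every field `K` over
`κ(p')` gets a compatible `κ(p)`-algebra structure with the fibre isomorphism. -/
theorem exists_fibreEquiv (p : Ideal A) [p.IsPrime] (p' : Ideal A') [p'.IsPrime]
    (hp : p = p'.comap (algebraMap A A')) :
    ∃ (_ : Algebra p.ResidueField p'.ResidueField),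
      ∀ (K : Type u) [Field K] [Algebra p'.ResidueField K],
        ∃ (_ : Algebra p.ResidueField K) (_ : IsScalarTower p.ResidueField p'.ResidueField K),
          Nonempty (K ⊗[p'.ResidueField] p'.Fiber (A' ⊗[A] B) ≃+* K ⊗[p.ResidueField] p.Fiber B) := by
  let σ : p.ResidueField →+* p'.ResidueField :=
    Ideal.ResidueField.map p p' (algebraMap A A') hp
  letI iκ : Algebra p.ResidueField p'.ResidueField := σ.toAlgebra
  refine ⟨iκ, ?_⟩
  intro K _ _
  letI iK : Algebra p.ResidueField K := ((algebraMap p'.ResidueField K).comp σ).toAlgebra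
  haveI tow : IsScalarTower p.ResidueField p'.ResidueField K :=
    IsScalarTower.of_algebraMap_eq' rfl
  letI iA'K : Algebra A' K :=
    ((algebraMap p'.ResidueField K).comp (algebraMap A' p'.ResidueField)).toAlgebra
  haveI : IsScalarTower A' p'.ResidueField K := IsScalarTower.of_algebraMap_eq' rfl
  letI iAK : Algebra A K := ((algebraMap A' K).comp (algebraMap A A')).toAlgebra
  haveI : IsScalarTower A A' K := IsScalarTower.of_algebraMap_eq' rfl
  haveI : IsScalarTower A p.ResidueField K := IsScalarTower.of_algebraMap_eq' (by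
    ext a
    change algebraMap p'.ResidueField K (algebraMap A' p'.ResidueField (algebraMap A A' a)) =
      algebraMap p'.ResidueField K (σ (algebraMap A p.ResidueField a))
    rw [Ideal.ResidueField.map_algebraMap])
  exact ⟨iK, tow, ⟨fibreEquiv A B A' p' p K⟩⟩

end

end Groth.Agent.Lib.Helper24.GeomBC
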