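import Groth.Agent.Lib.Helper24.GeomBC2
import Groth.Agent.Lib.Helper24.FibreFF

/-!
# More on regular homomorphisms (helper24)

* `isRegularHom_baseChange_of_finiteType`: base change of a regular homomorphism along a finite type
  ring map, without Noetherian hypotheses on the base (Stacks 07C1).
* `isRegularHom_of_comp_faithfullyFlat`: `A → B → C` with `A → C` regular and `B → C` faithfully
  flat ⇒ `A → B` regular (Stacks 07QI).
-/

set_option autoImplicit false
universe u

open TensorProduct

namespace Groth.Agent.Lib.Helper24.GeomBC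

open Groth.Agent.Lib.Helper24.GeomFG Groth.Agent.Lib.Helper24.GeomLim

section ft

variable (A B A' : Type u) [CommRing A] [CommRing B] [CommRing A'] [Algebra A B] [Algebra A A']

/-- Variant of `exists_fibreEquiv` recording that `κ(p')/κ(p)` is essentially of finite type when
`A'` is of finite type over `A`. -/
theorem exists_fibreEquiv_essFiniteType [Algebra.FiniteType A A']
    (p : Ideal A) [p.IsPrime] (p' : Ideal A') [p'.IsPrime]
    (hp : p = p'.comap (algebraMap A A')) :
    ∀ (K : Type u) [Field K] [Algebra p'.ResidueField K], Module.Finite p'.ResidueField K →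
      ∃ (_ : Algebra p.ResidueField K), Algebra.EssFiniteType p.ResidueField K ∧
        Nonempty (K ⊗[p'.ResidueField] p'.Fiber (A' ⊗[A] B) ≃+* K ⊗[p.ResidueField] p.Fiber B) := by
  intro K _ _ hfin
  haveI := hfin
  let σ : p.ResidueField →+* p'.ResidueField :=
    Ideal.ResidueField.map p p' (algebraMap A A') hp
  letI iK : Algebra p.ResidueField K := ((algebraMap p'.ResidueField K).comp σ).toAlgebra
  letI iA'K : Algebra A' K :=
    ((algebraMap p'.ResidueField K).comp (algebraMap A' p'.ResidueField)).toAlgebra
  haveI : IsScalarTower A' p'.ResidueField K := IsScalarTower.of_algebraMap_eq' rfl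
  letI iAK : Algebra A K := ((algebraMap A' K).comp (algebraMap A A')).toAlgebra
  haveI : IsScalarTower A A' K := IsScalarTower.of_algebraMap_eq' rfl
  haveI : IsScalarTower A p.ResidueField K := IsScalarTower.of_algebraMap_eq' (by
    ext a
    change algebraMap p'.ResidueField K (algebraMap A' p'.ResidueField (algebraMap A A' a)) =
      algebraMap p'.ResidueField K (σ (algebraMap A p.ResidueField a))
    rw [Ideal.ResidueField.map_algebraMap])
  refine ⟨iK, ?_, ⟨fibreEquiv A B A' p' p K⟩⟩
  haveI : Algebra.EssFiniteType A' K := Algebra.EssFiniteType.comp A' p'.ResidueField K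
  haveI : Algebra.EssFiniteType A K := Algebra.EssFiniteType.comp A A' K
  exact Algebra.EssFiniteType.of_comp A p.ResidueField K

theorem isRegularHom_baseChange_of_finiteType [Algebra.FiniteType A A']
    (h : CAlg.IsRegularHom A B) : CAlg.IsRegularHom A' (A' ⊗[A] B) := by
  haveI := h.1
  refine ⟨inferInstance, fun p' _ => ?_⟩
  have key : ∀ (K : Type u) [Field K] [Algebra p'.ResidueField K], Module.Finite p'.ResidueField K →
      IsRegularRing (K ⊗[p'.ResidueField] p'.Fiber (A' ⊗[A] B)) := by
    intro K _ _ hfin
    obtain ⟨_, hess, ⟨e⟩⟩ := exists_fibreEquiv_essFiniteType A B A'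
      (p'.comap (algebraMap A A')) p' rfl K hfin
    haveI := hess
    haveI := (h.2 (p'.comap (algebraMap A A'))).1
    haveI : IsNoetherianRing ((p'.comap (algebraMap A A')).Fiber B ⊗[(p'.comap
        (algebraMap A A')).ResidueField] K) :=
      Algebra.EssFiniteType.isNoetherianRing ((p'.comap (algebraMap A A')).Fiber B)
        ((p'.comap (algebraMap A A')).Fiber B ⊗[(p'.comap (algebraMap A A')).ResidueField] K)
    haveI : IsNoetherianRing (K ⊗[(p'.comap (algebraMap A A')).ResidueField]
        (p'.comap (algebraMap A A')).Fiber B) :=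
      isNoetherianRing_of_ringEquiv _ (Algebra.TensorProduct.comm _ _ K).toRingEquiv
    haveI := isRegularRing_tensor_of_geom (p'.comap (algebraMap A A')).ResidueField
      ((p'.comap (algebraMap A A')).Fiber B) (h.2 (p'.comap (algebraMap A A'))).2 K
    exact IsRegularRing.of_ringEquiv (R := K ⊗[(p'.comap (algebraMap A A')).ResidueField]
      (p'.comap (algebraMap A A')).Fiber B) e.symm
  refine ⟨?_, fun K' _ _ hfin => key K' hfin⟩
  have h0 := key p'.ResidueField inferInstance
  haveI : IsNoetherianRing (p'.ResidueField ⊗[p'.ResidueField] p'.Fiber (A' ⊗[A] B)) :=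
    h0.toIsNoetherian
  exact isNoetherianRing_of_ringEquiv (p'.ResidueField ⊗[p'.ResidueField] p'.Fiber (A' ⊗[A] B))
    (Algebra.TensorProduct.lid p'.ResidueField (p'.Fiber (A' ⊗[A] B))).toRingEquiv

end ft

section comp

variable (A B C : Type u) [CommRing A] [CommRing B] [CommRing C]
  [Algebra A B] [Algebra B C] [Algebra A C] [IsScalarTower A B C]

theorem isRegularHom_of_comp_faithfullyFlat [Module.FaithfullyFlat B C]
    (hAC : CAlg.IsRegularHom A C) : CAlg.IsRegularHom A B := by
  haveI := hAC.1
  have hflat : Module.Flat A B := by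
    haveI : Module.Flat A (C ⊗[B] B) :=
      Module.Flat.of_linearEquiv ((TensorProduct.rid B C).restrictScalars A)
    exact Groth.Agent.Lib.helper17.FlatBC.flat_of_flat_tensor A B C B
  refine ⟨hflat, fun p _ => ?_⟩
  obtain ⟨hN, hgeom⟩ := hAC.2 p
  refine ⟨?_, ?_⟩
  · have hff := Groth.Agent.Lib.Helper24.FibreFF.faithfullyFlat_map_left A B C p.ResidueField
    letI := (Algebra.TensorProduct.map (AlgHom.id A p.ResidueField)
      (IsScalarTower.toAlgHom A B C)).toRingHom.toAlgebra
    haveI : Module.FaithfullyFlat (p.ResidueField ⊗[A] B) (p.ResidueField ⊗[A] C) := hff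
    haveI : IsNoetherianRing (p.ResidueField ⊗[A] C) := hN
    exact Groth.Agent.Lib.Helper24.NoethLimit.isNoetherianRing_of_faithfullyFlat
      (p.ResidueField ⊗[A] B) (p.ResidueField ⊗[A] C)
  · intro K _ _ hfin
    letI iAK : Algebra A K := ((algebraMap p.ResidueField K).comp
      (algebraMap A p.ResidueField)).toAlgebra
    haveI : IsScalarTower A p.ResidueField K := IsScalarTower.of_algebraMap_eq' rfl
    haveI h1 : IsRegularRing (K ⊗[p.ResidueField] p.Fiber C) := hgeom K hfin
    haveI h2 : IsRegularRing (K ⊗[A] C) := IsRegularRing.of_ringEquiv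
      (Algebra.TensorProduct.cancelBaseChange A p.ResidueField K K C).toRingEquiv
    have hff := Groth.Agent.Lib.Helper24.FibreFF.faithfullyFlat_map_left A B C K
    haveI h3 : IsRegularRing (K ⊗[A] B) :=
      Groth.Agent.Lib.Helper24.FormalFibreDescent.isRegularRing_of_faithfullyFlat_ringHom _ hff
    exact IsRegularRing.of_ringEquiv
      (Algebra.TensorProduct.cancelBaseChange A p.ResidueField K K B).symm.toRingEquiv

end comp

end Groth.Agent.Lib.Helper24.GeomBC
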