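import Mathlib

/-!
# Finitely generated field extensions become separably generated after a finite purely
inseparable base extension (helper24)

`exists_pi_smooth`: for a finitely generated field extension `K/k` there are a finite purely
inseparable extension `l/k` and a field `Ω` containing (compatibly over `k`) both `K` and `l`, which
is essentially of finite type and formally smooth over `l`.
-/

set_option autoImplicit false
universe u

namespace Groth.Agent.Lib.Helper24.GeomFG

open IntermediateField

section closure

variable {L K' : Type u} [Field L] [Field K'] (φ : L →+* K') (B : Set L) (s : Set K')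

/-- coefficient descent: an element of the subfield generated by `φ(L) ∪ s` lies in the subfield
generated by `φ(L₀) ∪ s`, for `L₀` the subfield generated by `B` and finitely many elements. -/
theorem exists_finset_mem_closure (c : K')
    (hc : c ∈ Subfield.closure (Set.range φ ∪ s)) :
    ∃ T : Finset L, c ∈ Subfield.closure (φ '' (Subfield.closure (B ∪ (T : Set L)) : Set L) ∪ s) := by
  classical
  have mono : ∀ (T₁ T₂ : Finset L), T₁ ⊆ T₂ →
      Subfield.closure (φ '' (Subfield.closure (B ∪ (T₁ : Set L)) : Set L) ∪ s) ≤
      Subfield.closure (φ '' (Subfield.closure (B ∪ (T₂ : Set L)) : Set L) ∪ s) := by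
    intro T₁ T₂ h
    apply Subfield.closure_mono
    apply Set.union_subset_union_left
    apply Set.image_mono
    exact Subfield.closure_mono (Set.union_subset_union_right _ (by exact_mod_cast h))
  induction hc using Subfield.closure_induction with
  | mem x hx =>
    rcases hx with ⟨a, rfl⟩ | hx
    · refine ⟨{a}, Subfield.subset_closure (Or.inl ⟨a, ?_, rfl⟩)⟩
      exact Subfield.subset_closure (Or.inr (by simp))
    · exact ⟨∅, Subfield.subset_closure (Or.inr hx)⟩
  | one => exact ⟨∅, one_mem _⟩
  | add x y _ _ hx hy =>
    obtain ⟨T₁, h₁⟩ := hx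
    obtain ⟨T₂, h₂⟩ := hy
    exact ⟨T₁ ∪ T₂, add_mem (mono _ _ Finset.subset_union_left h₁)
      (mono _ _ Finset.subset_union_right h₂)⟩
  | neg x _ hx =>
    obtain ⟨T, h⟩ := hx
    exact ⟨T, neg_mem h⟩
  | inv x _ hx =>
    obtain ⟨T, h⟩ := hx
    exact ⟨T, inv_mem h⟩
  | mul x y _ _ hx hy =>
    obtain ⟨T₁, h₁⟩ := hx
    obtain ⟨T₂, h₂⟩ := hy
    exact ⟨T₁ ∪ T₂, mul_mem (mono _ _ Finset.subset_union_left h₁)
      (mono _ _ Finset.subset_union_right h₂)⟩

/-- finite version -/
theorem exists_finset_subset_closure (C : Finset K')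
    (hC : ∀ c ∈ C, c ∈ Subfield.closure (Set.range φ ∪ s)) :
    ∃ T : Finset L, ∀ c ∈ C,
      c ∈ Subfield.closure (φ '' (Subfield.closure (B ∪ (T : Set L)) : Set L) ∪ s) := by
  classical
  have mono : ∀ (T₁ T₂ : Finset L), T₁ ⊆ T₂ →
      Subfield.closure (φ '' (Subfield.closure (B ∪ (T₁ : Set L)) : Set L) ∪ s) ≤
      Subfield.closure (φ '' (Subfield.closure (B ∪ (T₂ : Set L)) : Set L) ∪ s) := by
    intro T₁ T₂ h
    apply Subfield.closure_mono
    apply Set.union_subset_union_left
    apply Set.image_mono
    exact Subfield.closure_mono (Set.union_subset_union_right _ (by exact_mod_cast h))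
  induction C using Finset.induction_on with
  | empty => exact ⟨∅, fun c hc => absurd hc (Finset.notMem_empty c)⟩
  | insert a C _ ih =>
    obtain ⟨T, hT⟩ := ih (fun c hc => hC c (Finset.mem_insert_of_mem hc))
    obtain ⟨T', hT'⟩ := exists_finset_mem_closure φ B s a (hC a (Finset.mem_insert_self _ _))
    refine ⟨T ∪ T', fun c hc => ?_⟩
    rcases Finset.mem_insert.mp hc with rfl | hc
    · exact mono _ _ Finset.subset_union_right hT'
    · exact mono _ _ Finset.subset_union_left (hT c hc)

end closure

end Groth.Agent.Lib.Helper24.GeomFG
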