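import Groth.Agent.Lib.Helper24.GeomFG1

/-!
# Finitely generated field extensions become separably generated after a finite purely
inseparable base extension, II (helper24)

`exists_pi_smooth`: for a finitely generated field extension `K/k` there are a finite purely
inseparable extension `l/k` and a field `Ω` containing (compatibly over `k`) both `K` and `l`, which
is essentially of finite type and formally smooth over `l`.
-/

set_option autoImplicit false
universe u

namespace Groth.Agent.Lib.Helper24.GeomFG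

open IntermediateField TensorProduct

section core

variable (k kp K' : Type u) [Field k] [Field kp] [Field K'] [Algebra k kp] [Algebra kp K']
  [Algebra.IsAlgebraic k kp]

/-- the intermediate field `l(s ∪ x)` -/
theorem core (s : Finset K') (hs : AlgebraicIndependent kp ((↑) : s → K'))
    [hsep : Algebra.IsSeparable (adjoin kp (s : Set K')) K'] (x : Finset K') :
    ∃ l : IntermediateField k kp, FiniteDimensional k l ∧
      ∃ Ω : IntermediateField l K', (x : Set K') ⊆ Ω ∧ Ω.FG ∧ Algebra.FormallySmooth l Ω := by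
  classical
  let F : IntermediateField kp K' := adjoin kp (s : Set K')
  -- the coefficients
  let C : Finset K' := x.biUnion (fun y => ((minpoly F y).map (algebraMap F K')).coeffs)
  have hC : ∀ c ∈ C, c ∈ Subfield.closure (Set.range (algebraMap kp K') ∪ (s : Set K')) := by
    intro c hc
    obtain ⟨y, -, hy⟩ := Finset.mem_biUnion.mp hc
    obtain ⟨n, -, rfl⟩ := Polynomial.mem_coeffs_iff.mp hy
    rw [Polynomial.coeff_map]
    exact ((minpoly F y).coeff n).2
  obtain ⟨T, hT⟩ := exists_finset_subset_closure (algebraMap kp K')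
    (Set.range (algebraMap k kp)) (s : Set K') C hC
  let l : IntermediateField k kp := adjoin k (T : Set kp)
  have hlfin : FiniteDimensional k l :=
    finiteDimensional_adjoin (fun x _ => Algebra.IsIntegral.isIntegral x)
  refine ⟨l, hlfin, ?_⟩
  let Ω : IntermediateField l K' := adjoin l ((s : Set K') ∪ (x : Set K'))
  have hsΩ : ∀ i : s, (i : K') ∈ Ω := fun i => subset_adjoin _ _ (Or.inl i.2)
  have hxΩ : (x : Set K') ⊆ Ω := fun y hy => subset_adjoin _ _ (Or.inr hy)
  refine ⟨Ω, hxΩ, ⟨s ∪ x, by rw [Finset.coe_union]⟩, ?_⟩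
  -- the transcendence basis inside Ω
  let v : s → Ω := fun i => ⟨i, hsΩ i⟩
  have hv : AlgebraicIndependent l v := by
    have h1 : AlgebraicIndependent l ((↑) : s → K') :=
      AlgebraicIndependent.restrictScalars (R := l) (K := kp)
        (FaithfulSMul.algebraMap_injective l kp) hs
    exact AlgebraicIndependent.of_comp Ω.val h1
  let F₁ : IntermediateField l Ω := adjoin l (Set.range v)
  -- the image of `F₁` in `K'`
  have hF₁ : ∀ c : K', c ∈ Subfield.closure ((algebraMap kp K') ''
      (Subfield.closure (Set.range (algebraMap k kp) ∪ (T : Set kp)) : Set kp) ∪ (s : Set K')) →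
      c ∈ Set.range (algebraMap F₁ K') := by
    intro c hc
    have h2 : c ∈ lift F₁ := by
      rw [lift_adjoin]
      have h3 : Subtype.val '' Set.range v = (s : Set K') := by
        ext z
        simp only [Set.mem_image, Set.mem_range, v]
        constructor
        · rintro ⟨_, ⟨i, rfl⟩, rfl⟩
          exact i.2
        · intro hz
          exact ⟨⟨z, hsΩ ⟨z, hz⟩⟩, ⟨⟨z, hz⟩, rfl⟩, rfl⟩
      rw [h3]
      show c ∈ Subfield.closure (Set.range (algebraMap l K') ∪ (s : Set K'))
      refine Subfield.closure_mono ?_ hc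
      apply Set.union_subset_union_left
      rintro _ ⟨a, ha, rfl⟩
      exact ⟨⟨a, ha⟩, rfl⟩
    have hcΩ : c ∈ Ω := lift_le F₁ h2
    have h4 : (⟨c, hcΩ⟩ : Ω) ∈ F₁ := (mem_lift (⟨c, hcΩ⟩ : Ω)).mp h2
    exact ⟨⟨⟨c, hcΩ⟩, h4⟩, rfl⟩
  -- each element of `x` is separable over `F₁`
  have hxsep : ∀ y (hy : y ∈ x), IsSeparable F₁ (⟨y, hxΩ hy⟩ : Ω) := by
    intro y hy
    have hgsep : (minpoly F y).Separable := Algebra.IsSeparable.isSeparable F y
    set gK : Polynomial K' := (minpoly F y).map (algebraMap F K') with hgK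
    have hlift : gK ∈ Polynomial.lifts (algebraMap F₁ K') := by
      rw [Polynomial.lifts_iff_coeff_lifts]
      intro n
      by_cases h0 : gK.coeff n = 0
      · rw [h0]; exact ⟨0, map_zero _⟩
      · apply hF₁
        apply hT
        apply Finset.mem_biUnion.mpr
        exact ⟨y, hy, Polynomial.coeff_mem_coeffs h0⟩
    obtain ⟨g₁, hg₁'⟩ := hlift
    have hg₁ : g₁.map (algebraMap F₁ K') = gK := hg₁'
    have hg₁sep : g₁.Separable := by
      rw [← Polynomial.separable_map (algebraMap F₁ K'), hg₁, hgK, Polynomial.separable_map]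
      exact hgsep
    have hroot : Polynomial.aeval (⟨y, hxΩ hy⟩ : Ω) g₁ = 0 := by
      apply (FaithfulSMul.algebraMap_injective Ω K')
      rw [map_zero, ← Polynomial.aeval_algebraMap_apply]
      show Polynomial.aeval y g₁ = 0
      rw [Polynomial.aeval_def, ← Polynomial.eval_map, hg₁, hgK, Polynomial.eval_map,
        ← Polynomial.aeval_def, minpoly.aeval]
    exact hg₁sep.of_dvd (minpoly.dvd F₁ _ hroot)
  -- `Ω` is separable over `F₁`
  haveI hΩsep : Algebra.IsSeparable F₁ Ω := by
    rw [← separableClosure.eq_top_iff]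
    apply restrictScalars_injective l
    rw [restrictScalars_top]
    apply top_unique
    have htop : (⊤ : IntermediateField l Ω) = adjoin l (Set.range v ∪ {z : Ω | (z : K') ∈ x}) := by
      apply lift_injective Ω
      rw [lift_top, lift_adjoin]
      have himg : Subtype.val '' (Set.range v ∪ {z : Ω | (z : K') ∈ x}) =
          ((s : Set K') ∪ (x : Set K')) := by
        ext z
        constructor
        · rintro ⟨w, (⟨i, rfl⟩ | hw), rfl⟩
          · exact Or.inl i.2
          · exact Or.inr hw
        · rintro (hz | hz)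
          · exact ⟨⟨z, hsΩ ⟨z, hz⟩⟩, Or.inl ⟨⟨z, hz⟩, rfl⟩, rfl⟩
          · exact ⟨⟨z, hxΩ hz⟩, Or.inr hz, rfl⟩
      rw [himg]
    rw [htop, adjoin_le_iff]
    rintro z (⟨i, rfl⟩ | hz)
    · have : v i ∈ F₁ := subset_adjoin _ _ ⟨i, rfl⟩
      show v i ∈ separableClosure F₁ Ω
      exact (separableClosure F₁ Ω).algebraMap_mem ⟨v i, this⟩
    · show z ∈ separableClosure F₁ Ω
      exact hxsep z.1 hz
  exact Algebra.FormallySmooth.of_algebraicIndependent_of_isSeparable hv

end core

section main

variable (k K : Type u) [Field k] [Field K] [Algebra k K] [Algebra.EssFiniteType k K]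


theorem exists_pi_smooth_aux (kp : Type u) [Field kp] [Algebra k kp] [PerfectField kp]
    [Algebra.IsAlgebraic k kp] [IsPurelyInseparable k kp] :
    ∃ (l Ω : Type u) (_ : Field l) (_ : Field Ω) (_ : Algebra k l) (_ : Algebra l Ω)
      (_ : Algebra k Ω) (_ : Algebra K Ω) (_ : IsScalarTower k l Ω) (_ : IsScalarTower k K Ω),
      Module.Finite k l ∧ IsPurelyInseparable k l ∧ Algebra.EssFiniteType l Ω ∧
        Algebra.FormallySmooth l Ω := by
  classical
  haveI : Nontrivial (kp ⊗[k] K) := inferInstance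
  obtain ⟨M, hM⟩ := Ideal.exists_maximal (kp ⊗[k] K)
  letI : Field ((kp ⊗[k] K) ⧸ M) := Ideal.Quotient.field M
  let ψ : K →+* ((kp ⊗[k] K) ⧸ M) :=
    (Ideal.Quotient.mk M).comp (Algebra.TensorProduct.includeRight (R := k) (A := kp) (B := K)).toRingHom
  haveI : Algebra.EssFiniteType kp ((kp ⊗[k] K) ⧸ M) := inferInstance
  obtain ⟨s, hs, hsep⟩ := exists_isTranscendenceBasis_and_isSeparable_of_perfectField kp ((kp ⊗[k] K) ⧸ M)
  haveI := hsep
  obtain ⟨t, ht⟩ := IntermediateField.fg_top k K
  obtain ⟨l, hlfin, Ω, hxΩ, hΩfg, hΩsm⟩ := core k kp ((kp ⊗[k] K) ⧸ M) s hs.1 (t.image ψ)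
  have hψk : ∀ c : k, ψ (algebraMap k K c) = algebraMap k ((kp ⊗[k] K) ⧸ M) c := by
    intro c
    show (Ideal.Quotient.mk M) ((Algebra.TensorProduct.includeRight (R := k) (A := kp) (B := K))
      (algebraMap k K c)) = _
    rw [AlgHom.commutes]
    rfl
  have hψΩ : ∀ a : K, ψ a ∈ Ω := by
    intro a
    have ha : a ∈ adjoin k (t : Set K) := by rw [ht]; trivial
    induction ha using IntermediateField.adjoin_induction with
    | mem a ha => exact hxΩ (Finset.mem_image_of_mem ψ ha)
    | algebraMap c =>
      rw [hψk, IsScalarTower.algebraMap_apply k l ((kp ⊗[k] K) ⧸ M)]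
      exact Ω.algebraMap_mem _
    | add a b _ _ ha hb => rw [map_add]; exact add_mem ha hb
    | inv a _ ha => rw [map_inv₀]; exact inv_mem ha
    | mul a b _ _ ha hb => rw [map_mul]; exact mul_mem ha hb
  let ψ' : K →+* Ω := ψ.codRestrict Ω hψΩ
  letI : Algebra K Ω := ψ'.toAlgebra
  refine ⟨l, Ω, inferInstance, inferInstance, inferInstance, inferInstance, inferInstance,
    inferInstance, inferInstance, ?_, hlfin, ?_, ?_, hΩsm⟩
  · apply IsScalarTower.of_algebraMap_eq
    intro c
    apply Subtype.ext
    show algebraMap k ((kp ⊗[k] K) ⧸ M) c = ψ (algebraMap k K c)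
    rw [hψk]
  · exact IsPurelyInseparable.tower_bot k l kp
  · exact IntermediateField.essFiniteType_iff.mpr hΩfg

theorem exists_pi_smooth :
    ∃ (l Ω : Type u) (_ : Field l) (_ : Field Ω) (_ : Algebra k l) (_ : Algebra l Ω)
      (_ : Algebra k Ω) (_ : Algebra K Ω) (_ : IsScalarTower k l Ω) (_ : IsScalarTower k K Ω),
      Module.Finite k l ∧ IsPurelyInseparable k l ∧ Algebra.EssFiniteType l Ω ∧
        Algebra.FormallySmooth l Ω :=
  exists_pi_smooth_aux k K (perfectClosure k (AlgebraicClosure k))

end main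

end Groth.Agent.Lib.Helper24.GeomFG
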