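import Groth.Agent.Lib.Helper24.GeomFG2

/-!
# From finite purely inseparable extensions to finitely generated extensions (helper24)

* `exists_smooth_localization`: an essentially finite type formally smooth field extension `Ω/l` is
  a localization of a smooth `l`-algebra.
* `GeomStable P`: `P` is stable under ring isomorphisms, localizations, smooth ascent and faithfully
  flat descent.
* `of_fg`: for `GeomStable P`, if `P (l ⊗[k] S)` for every finite purely inseparable `l/k` then
  `P (K ⊗[k] S)` for every finitely generated field extension `K/k` (EGA IV 6.7.7).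
-/

set_option autoImplicit false
universe u

namespace Groth.Agent.Lib.Helper24.GeomFG

open TensorProduct

/-- An essentially finite type, formally smooth field extension is a localization of a smooth
algebra. -/
theorem exists_smooth_localization (l Ω : Type u) [Field l] [Field Ω] [Algebra l Ω]
    [Algebra.EssFiniteType l Ω] [Algebra.FormallySmooth l Ω] :
    ∃ (B₀ : Type u) (_ : CommRing B₀) (_ : Algebra l B₀) (_ : Algebra B₀ Ω)
      (_ : IsScalarTower l B₀ Ω) (M : Submonoid B₀), Algebra.Smooth l B₀ ∧ IsLocalization M Ω := by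
  let C := Algebra.EssFiniteType.subalgebra l Ω
  let p : Ideal C := ⊥
  haveI : p.IsPrime := Ideal.isPrime_bot
  have hM : (IsUnit.submonoid Ω).comap (algebraMap C Ω) = p.primeCompl := by
    ext c
    rw [Submonoid.mem_comap, IsUnit.mem_submonoid_iff, isUnit_iff_ne_zero, Ideal.mem_primeCompl_iff,
      Ideal.mem_bot]
    exact not_congr (map_eq_zero_iff _ (FaithfulSMul.algebraMap_injective C Ω))
  haveI hloc : IsLocalization.AtPrime Ω p := by
    show IsLocalization p.primeCompl Ω
    rw [← hM]
    exact Algebra.EssFiniteType.isLocalization l Ω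
  let e : Localization.AtPrime p ≃ₐ[C] Ω := IsLocalization.algEquiv p.primeCompl _ _
  haveI : Algebra.FormallySmooth l (Localization.AtPrime p) :=
    Algebra.FormallySmooth.of_equiv (e.restrictScalars l).symm
  haveI : Algebra.IsSmoothAt l p := ‹_›
  haveI : Algebra.FinitePresentation l C := Algebra.FinitePresentation.of_finiteType.mp inferInstance
  obtain ⟨f, hf, hsm⟩ := Algebra.IsSmoothAt.exists_notMem_smooth l p
  have hle : Submonoid.powers f ≤ p.primeCompl := Submonoid.powers_le.mpr hf
  letI : Algebra (Localization.Away f) Ω :=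
    IsLocalization.localizationAlgebraOfSubmonoidLe (Localization.Away f) Ω
      (Submonoid.powers f) p.primeCompl hle
  haveI : IsScalarTower C (Localization.Away f) Ω :=
    IsLocalization.localization_isScalarTower_of_submonoid_le (Localization.Away f) Ω
      (Submonoid.powers f) p.primeCompl hle
  haveI : IsScalarTower l (Localization.Away f) Ω := by
    apply IsScalarTower.of_algebraMap_eq
    intro x
    rw [IsScalarTower.algebraMap_apply l C Ω, IsScalarTower.algebraMap_apply l C (Localization.Away f),
      ← IsScalarTower.algebraMap_apply C (Localization.Away f) Ω]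
  exact ⟨Localization.Away f, inferInstance, inferInstance, inferInstance, inferInstance,
    p.primeCompl.map (algebraMap C (Localization.Away f)), hsm,
    IsLocalization.isLocalization_of_submonoid_le (Localization.Away f) Ω
      (Submonoid.powers f) p.primeCompl hle⟩

/-- Stability properties needed to pass from finite purely inseparable extensions to finitely
generated extensions. -/
structure GeomStable (P : ∀ (R : Type u) [CommRing R], Prop) : Prop where
  iso : ∀ (R R' : Type u) [CommRing R] [CommRing R'], (R ≃+* R') → P R → P R'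
  loc : ∀ (R R' : Type u) [CommRing R] [CommRing R'] [Algebra R R'] (M : Submonoid R)
    [IsLocalization M R'], P R → P R'
  smooth : ∀ (A B : Type u) [CommRing A] [CommRing B] [Algebra A B] [Algebra.Smooth A B],
    P A → P B
  desc : ∀ (A B : Type u) [CommRing A] [CommRing B] [Algebra A B] [Module.FaithfullyFlat A B],
    P B → P A

/-- `T ⊗[l] Ω` is a localization of `T ⊗[l] B₀`. -/
theorem tensor_loc' {P : ∀ (R : Type u) [CommRing R], Prop} (hP : GeomStable P)
    (l B₀ Ω T : Type u) [CommRing l] [CommRing B₀] [CommRing Ω] [CommRing T] [Algebra l B₀]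
    [Algebra l Ω] [Algebra B₀ Ω] [IsScalarTower l B₀ Ω] [Algebra l T] (M : Submonoid B₀)
    [IsLocalization M Ω] (h : P (T ⊗[l] B₀)) : P (T ⊗[l] Ω) := by
  letI : Algebra (T ⊗[l] B₀) (T ⊗[l] Ω) :=
    (Algebra.TensorProduct.map (AlgHom.id T T) (IsScalarTower.toAlgHom l B₀ Ω)).toRingHom.toAlgebra
  haveI : IsScalarTower T (T ⊗[l] B₀) (T ⊗[l] Ω) :=
    IsScalarTower.of_algebraMap_eq' (by
      ext x
      simp [RingHom.algebraMap_toAlgebra])
  have H : (algebraMap (T ⊗[l] B₀) (T ⊗[l] Ω)).comp
      (Algebra.TensorProduct.includeRight (R := l) (A := T) (B := B₀)).toRingHom =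
      (Algebra.TensorProduct.includeRight (R := l) (A := T) (B := Ω)).toRingHom.comp
        (algebraMap B₀ Ω) := by
    ext x
    simp [RingHom.algebraMap_toAlgebra]
  haveI := IsLocalization.tensorProduct_tensorProduct_right l T M Ω H
  exact hP.loc (T ⊗[l] B₀) (T ⊗[l] Ω)
    (M.map (Algebra.TensorProduct.includeRight (R := l) (A := T))) h

/-- **Main theorem**: from finite purely inseparable extensions to finitely generated ones. -/
theorem of_fg {P : ∀ (R : Type u) [CommRing R], Prop} (hP : GeomStable P)
    (k S : Type u) [Field k] [CommRing S] [Algebra k S]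
    (hpi : ∀ (l : Type u) [Field l] [Algebra k l], Module.Finite k l → IsPurelyInseparable k l →
      P (l ⊗[k] S))
    (K : Type u) [Field K] [Algebra k K] [Algebra.EssFiniteType k K] : P (K ⊗[k] S) := by
  obtain ⟨l, Ω, _, _, _, _, _, _, _, _, hfin, hpi', hess, hsm⟩ := exists_pi_smooth k K
  obtain ⟨B₀, _, _, _, _, M, hB₀, hloc⟩ := exists_smooth_localization l Ω
  have h1 : P (l ⊗[k] S) := hpi l hfin hpi'
  have h2 : P ((l ⊗[k] S) ⊗[l] B₀) := hP.smooth (l ⊗[k] S) _ h1
  have h3 : P ((l ⊗[k] S) ⊗[l] Ω) := tensor_loc' hP l B₀ Ω (l ⊗[k] S) M h2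
  have h4 : P (Ω ⊗[k] S) :=
    hP.iso _ _ ((Algebra.TensorProduct.comm l (l ⊗[k] S) Ω).toRingEquiv.trans
      (Algebra.TensorProduct.cancelBaseChange k l l Ω S).toRingEquiv) h3
  have h5 : P ((K ⊗[k] S) ⊗[K] Ω) :=
    hP.iso _ _ ((Algebra.TensorProduct.cancelBaseChange k K K Ω S).symm.toRingEquiv.trans
      (Algebra.TensorProduct.comm K Ω (K ⊗[k] S)).toRingEquiv) h4
  exact hP.desc (K ⊗[k] S) ((K ⊗[k] S) ⊗[K] Ω) h5

end Groth.Agent.Lib.Helper24.GeomFG
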