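import Mathlib
import Groth.Agent.Lib.Helper24.EtaleNormal
import Groth.Agent.Lib.Helper24.RegularAscent

/-!
# Normality and regularity pass to "flat directed unions" (helper24)

* `isDomain_nf_of_directed`: a ring every finite subset of which lies in the image of an injective
  ring map from an integrally closed domain is an integrally closed domain (in the fraction-free
  form `NF`).
* `isNormal_of_directed`: if every finite subset of `R` lies in the image of a flat ring map from a
  normal ring, then `R` is normal (all local rings are integrally closed domains).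
* `isRegularRing_of_directed`: same for regular rings, assuming `R` Noetherian.
-/

set_option autoImplicit false
universe u

open Polynomial IsLocalRing

namespace Groth.Agent.Lib.Helper24.GeomLim

open Groth.Agent.Lib.Helper24.EtaleNormal

theorem isDomain_nf_of_directed (D : Type u) [CommRing D]
    (h : ∀ F : Finset D, ∃ (D' : Type u) (_ : CommRing D') (_ : IsDomain D') (φ : D' →+* D),
      NF D' ∧ Function.Injective φ ∧ (F : Set D) ⊆ Set.range φ) :
    IsDomain D ∧ NF D := by
  classical
  have hnt : Nontrivial D := by
    obtain ⟨D', _, _, φ, -, hinj, -⟩ := h ∅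
    exact hinj.nontrivial
  have hnzd : NoZeroDivisors D := by
    refine ⟨fun {x y} hxy => ?_⟩
    obtain ⟨D', _, _, φ, -, hinj, hF⟩ := h {x, y}
    obtain ⟨x', rfl⟩ := hF (show x ∈ ((({x, y} : Finset D)) : Set D) by simp)
    obtain ⟨y', rfl⟩ := hF (show y ∈ ((({φ x', y} : Finset D)) : Set D) by simp)
    rw [← map_mul, map_eq_zero_iff φ hinj] at hxy
    rcases mul_eq_zero.1 hxy with h0 | h0
    · left; rw [h0, map_zero]
    · right; rw [h0, map_zero]
  refine ⟨NoZeroDivisors.to_isDomain D, ?_⟩
  intro p hp a b hb h0
  obtain ⟨D', _, _, φ, hnf, hinj, hF⟩ := h (p.coeffs ∪ {a, b})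
  have hlift : p ∈ Polynomial.lifts φ := by
    rw [Polynomial.lifts_iff_coeff_lifts]
    intro n
    by_cases hn : p.coeff n = 0
    · exact ⟨0, by rw [map_zero, hn]⟩
    · apply hF
      rw [Finset.coe_union]
      left
      exact Polynomial.coeff_mem_coeffs hn
  obtain ⟨p', hp', -, hmonic⟩ := Polynomial.lifts_and_natDegree_eq_and_monic hlift hp
  obtain ⟨a', ha'⟩ := hF (show a ∈ (((p.coeffs ∪ {a, b} : Finset D)) : Set D) by simp)
  obtain ⟨b', hb''⟩ := hF (show b ∈ (((p.coeffs ∪ {a, b} : Finset D)) : Set D) by simp)
  subst ha' hb''
  have hb' : b' ≠ 0 := by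
    rintro rfl
    exact hb (map_zero φ)
  have h1 : (scaleRoots p' b').eval a' = 0 := by
    apply hinj
    rw [map_zero, ← h0, ← hp', ← map_scaleRoots, eval_map, eval₂_at_apply]
    rw [hmonic.leadingCoeff, map_one]
    exact one_ne_zero
  obtain ⟨c, hc⟩ := hnf p' hmonic a' b' hb' h1
  exact ⟨φ c, by rw [hc, map_mul]⟩

/-- A ring all of whose finite subsets lie in the image of a flat ring map from a normal ring is
normal. -/
theorem isNormal_of_directed (R : Type u) [CommRing R]
    (h : ∀ F : Finset R, ∃ (R' : Type u) (_ : CommRing R') (f : R' →+* R),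
      (∀ (p : Ideal R') [p.IsPrime],
        IsDomain (Localization.AtPrime p) ∧ IsIntegrallyClosed (Localization.AtPrime p)) ∧
      f.Flat ∧ (F : Set R) ⊆ Set.range f)
    (q : Ideal R) [q.IsPrime] :
    IsDomain (Localization.AtPrime q) ∧ IsIntegrallyClosed (Localization.AtPrime q) := by
  classical
  have key := isDomain_nf_of_directed (Localization.AtPrime q) ?_
  · haveI := key.1
    exact ⟨key.1, isIntegrallyClosed_of_nf _ key.2⟩
  intro F
  have hsurj : ∀ z : Localization.AtPrime q, ∃ (a : R) (s : q.primeCompl),
      IsLocalization.mk' (Localization.AtPrime q) a s = z :=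
    fun z => by
      obtain ⟨a, s, h⟩ := IsLocalization.exists_mk'_eq q.primeCompl z
      exact ⟨a, s, h⟩
  choose a s has using hsurj
  obtain ⟨R', _, f, hn, hflat, hF⟩ := h (F.image a ∪ F.image (fun z => (s z : R)))
  have hq' : (q.comap f).IsPrime := inferInstance
  obtain ⟨hd, hic⟩ := hn (q.comap f)
  have hflat' : (Localization.localRingHom (q.comap f) q f rfl).Flat :=
    RingHom.Flat.localRingHom hflat q (q.comap f) rfl
  refine ⟨Localization.AtPrime (q.comap f), inferInstance, hd,
    Localization.localRingHom (q.comap f) q f rfl, nf_of_isIntegrallyClosed _, ?_, ?_⟩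
  · algebraize [Localization.localRingHom (q.comap f) q f rfl]
    haveI : IsLocalHom (algebraMap (Localization.AtPrime (q.comap f)) (Localization.AtPrime q)) :=
      Localization.isLocalHom_localRingHom (q.comap f) q f rfl
    haveI : Module.FaithfullyFlat (Localization.AtPrime (q.comap f)) (Localization.AtPrime q) :=
      Module.FaithfullyFlat.of_flat_of_isLocalHom
    exact FaithfulSMul.algebraMap_injective _ _
  · intro z hz
    have hz' : z ∈ F := hz
    obtain ⟨a', ha'⟩ : a z ∈ Set.range f := hF (by
      rw [Finset.coe_union]; left; exact Finset.mem_coe.2 (Finset.mem_image_of_mem a hz'))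
    obtain ⟨s', hs'⟩ : ((s z : R)) ∈ Set.range f := hF (by
      rw [Finset.coe_union]; right
      exact Finset.mem_coe.2 (Finset.mem_image_of_mem (fun z => (s z : R)) hz'))
    have hs'q : s' ∈ (q.comap f).primeCompl := by
      show s' ∉ q.comap f
      rw [Ideal.mem_comap, hs']
      exact (s z).2
    refine ⟨IsLocalization.mk' _ a' ⟨s', hs'q⟩, ?_⟩
    rw [Localization.localRingHom_mk', ← has z]
    congr 1
    · exact Subtype.ext hs'

/-- A Noetherian ring all of whose finite subsets lie in the image of a flat ring map from a
regular ring is regular. -/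
theorem isRegularRing_of_directed (R : Type u) [CommRing R] [IsNoetherianRing R]
    (h : ∀ F : Finset R, ∃ (R' : Type u) (_ : CommRing R') (f : R' →+* R),
      IsRegularRing R' ∧ f.Flat ∧ (F : Set R) ⊆ Set.range f) : IsRegularRing R := by
  classical
  rw [isRegularRing_iff]
  intro q hq
  obtain ⟨F, hFq⟩ := (isNoetherianRing_iff_ideal_fg R).1 inferInstance q
  obtain ⟨R', _, f, hreg, hflat, hF⟩ := h F
  have hq' : (q.comap f).IsPrime := inferInstance
  have hmap : (q.comap f).map f = q := by
    apply le_antisymm Ideal.map_comap_le
    rw [← hFq, Ideal.span_le]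
    intro g hg
    obtain ⟨g', rfl⟩ := hF hg
    apply Ideal.mem_map_of_mem
    rw [Ideal.mem_comap]
    exact Ideal.subset_span hg
  haveI : IsRegularLocalRing (Localization.AtPrime (q.comap f)) :=
    hreg.isRegularLocalRing_localization _
  have hflat' : (Localization.localRingHom (q.comap f) q f rfl).Flat :=
    RingHom.Flat.localRingHom hflat q (q.comap f) rfl
  algebraize [Localization.localRingHom (q.comap f) q f rfl]
  haveI : IsLocalHom (algebraMap (Localization.AtPrime (q.comap f)) (Localization.AtPrime q)) :=
    Localization.isLocalHom_localRingHom (q.comap f) q f rfl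
  have hI : (maximalIdeal (Localization.AtPrime (q.comap f))).map
      (algebraMap (Localization.AtPrime (q.comap f)) (Localization.AtPrime q)) =
      maximalIdeal (Localization.AtPrime q) := by
    have hq2 : Ideal.map (algebraMap R (Localization.AtPrime q)) q =
        Ideal.map (algebraMap R (Localization.AtPrime q)) ((q.comap f).map f) := by rw [hmap]
    rw [← Localization.AtPrime.map_eq_maximalIdeal, ← Localization.AtPrime.map_eq_maximalIdeal,
      Ideal.map_map, hq2, Ideal.map_map]
    congr 1
    ext x
    simp only [RingHom.comp_apply, RingHom.algebraMap_toAlgebra, Localization.localRingHom_to_map]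
  haveI : IsRegularLocalRing (Localization.AtPrime q ⧸
      (maximalIdeal (Localization.AtPrime (q.comap f))).map
        (algebraMap (Localization.AtPrime (q.comap f)) (Localization.AtPrime q))) :=
    IsRegularLocalRing.of_ringEquiv
      (R := IsLocalRing.ResidueField (Localization.AtPrime q)) (Ideal.quotEquivOfEq hI.symm)
  exact Groth.Agent.Lib.Helper24.RegularAscent.isRegularLocalRing_of_flat_of_fibre
    (Localization.AtPrime (q.comap f)) (Localization.AtPrime q)

end Groth.Agent.Lib.Helper24.GeomLim
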