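import Mathlib
import Groth.Agent.Lib.Helper24.GeomLim1

/-!
# `K ⊗[k] T` as a flat directed union of `E ⊗[k] T`, `E ⊆ K` finitely generated subfields (helper24)

* `flat_map_right`: for `A → B` flat, `A ⊗[k] T → B ⊗[k] T` is flat.
* `exists_fg_range`: every finite subset of `K ⊗[k] T` comes from `E ⊗[k] T` for a finitely generated
  intermediate field `E`.
* `isNormal_tensor_of_fg`, `isRegularRing_tensor_of_fg`: normality / regularity of `K ⊗[k] T` from that
  of all `E ⊗[k] T`, `E/k` finitely generated field extensions.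
-/

set_option autoImplicit false
universe u

open TensorProduct

namespace Groth.Agent.Lib.Helper24.GeomLim

/-- Base change of a flat map `A → B` of `k`-algebras along `k → T`: `A ⊗[k] T → B ⊗[k] T`
is flat. -/
theorem flat_map_right (k A B T : Type u) [CommRing k] [CommRing A] [CommRing B] [CommRing T]
    [Algebra k A] [Algebra k B] [Algebra A B] [IsScalarTower k A B] [Module.Flat A B]
    [Algebra k T] :
    (Algebra.TensorProduct.map (IsScalarTower.toAlgHom k A B)
      (AlgHom.id k T)).toRingHom.Flat := by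
  letI alg : Algebra (A ⊗[k] T) (B ⊗[k] T) :=
    (Algebra.TensorProduct.map (IsScalarTower.toAlgHom k A B) (AlgHom.id k T)).toRingHom.toAlgebra
  haveI tow : IsScalarTower A (A ⊗[k] T) (B ⊗[k] T) := IsScalarTower.of_algebraMap_eq fun b => by
    rw [RingHom.algebraMap_toAlgebra]
    simp [Algebra.TensorProduct.algebraMap_apply]
  have H : (algebraMap (A ⊗[k] T) (B ⊗[k] T)).comp
      (Algebra.TensorProduct.includeRight : T →ₐ[k] A ⊗[k] T).toRingHom =
      (Algebra.TensorProduct.includeRight : T →ₐ[k] B ⊗[k] T).toRingHom := by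
    ext t
    rw [RingHom.algebraMap_toAlgebra]
    simp
  haveI := @Algebra.IsPushout.tensorProduct_tensorProduct k T A B _ _ _ _ _ _ _ _ _ alg tow H
  have h := RingHom.Flat.isStableUnderBaseChange A B (A ⊗[k] T) (B ⊗[k] T)
    (RingHom.flat_algebraMap_iff.2 inferInstance)
  rwa [RingHom.algebraMap_toAlgebra] at h

section

variable (k K T : Type u) [Field k] [Field K] [Algebra k K] [CommRing T] [Algebra k T]

/-- The comparison map `E ⊗[k] T → K ⊗[k] T` for an intermediate field `E`. -/
noncomputable abbrev cmp (E : IntermediateField k K) : E ⊗[k] T →ₐ[k] K ⊗[k] T :=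
  Algebra.TensorProduct.map (IsScalarTower.toAlgHom k E K) (AlgHom.id k T)

theorem cmp_range_mono {E E' : IntermediateField k K} (h : E ≤ E') :
    Set.range (cmp k K T E) ⊆ Set.range (cmp k K T E') := by
  rintro _ ⟨z, rfl⟩
  refine ⟨Algebra.TensorProduct.map (IntermediateField.inclusion h) (AlgHom.id k T) z, ?_⟩
  simp only [cmp]
  rw [← AlgHom.comp_apply, ← Algebra.TensorProduct.map_comp]
  rfl

theorem exists_finset_mem_range (z : K ⊗[k] T) :
    ∃ C : Finset K, z ∈ Set.range (cmp k K T (IntermediateField.adjoin k (C : Set K))) := by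
  classical
  induction z using TensorProduct.induction_on with
  | zero => exact ⟨∅, 0, map_zero _⟩
  | tmul c t =>
    refine ⟨{c}, (⟨c, IntermediateField.subset_adjoin k _ (by simp)⟩ :
      IntermediateField.adjoin k ((({c} : Finset K)) : Set K)) ⊗ₜ t, ?_⟩
    simp [cmp]
  | add x y hx hy =>
    obtain ⟨C₁, h₁⟩ := hx
    obtain ⟨C₂, h₂⟩ := hy
    refine ⟨C₁ ∪ C₂, ?_⟩
    have m₁ : IntermediateField.adjoin k (C₁ : Set K) ≤
        IntermediateField.adjoin k ((C₁ ∪ C₂ : Finset K) : Set K) :=
      IntermediateField.adjoin.mono k _ _ (by simp)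
    have m₂ : IntermediateField.adjoin k (C₂ : Set K) ≤
        IntermediateField.adjoin k ((C₁ ∪ C₂ : Finset K) : Set K) :=
      IntermediateField.adjoin.mono k _ _ (by simp)
    obtain ⟨x', hx'⟩ := cmp_range_mono k K T m₁ h₁
    obtain ⟨y', hy'⟩ := cmp_range_mono k K T m₂ h₂
    exact ⟨x' + y', by rw [map_add, hx', hy']⟩

theorem exists_fg_range (F : Finset (K ⊗[k] T)) :
    ∃ C : Finset K, (F : Set (K ⊗[k] T)) ⊆
      Set.range (cmp k K T (IntermediateField.adjoin k (C : Set K))) := by
  classical
  induction F using Finset.induction_on with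
  | empty => exact ⟨∅, by simp⟩
  | insert z F hz ih =>
    obtain ⟨C₁, h₁⟩ := ih
    obtain ⟨C₂, h₂⟩ := exists_finset_mem_range k K T z
    refine ⟨C₁ ∪ C₂, ?_⟩
    have m₁ : IntermediateField.adjoin k (C₁ : Set K) ≤
        IntermediateField.adjoin k ((C₁ ∪ C₂ : Finset K) : Set K) :=
      IntermediateField.adjoin.mono k _ _ (by simp)
    have m₂ : IntermediateField.adjoin k (C₂ : Set K) ≤
        IntermediateField.adjoin k ((C₁ ∪ C₂ : Finset K) : Set K) :=
      IntermediateField.adjoin.mono k _ _ (by simp)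
    intro w hw
    rw [Finset.coe_insert] at hw
    rcases hw with rfl | hw
    · exact cmp_range_mono k K T m₂ h₂
    · exact cmp_range_mono k K T m₁ (h₁ hw)

theorem cmp_flat (E : IntermediateField k K) :
    (Algebra.TensorProduct.map (IsScalarTower.toAlgHom k E K) (AlgHom.id k T)).toRingHom.Flat :=
  flat_map_right k E K T

/-- Normality of `K ⊗[k] T` from normality of `E ⊗[k] T` for finitely generated fields `E`. -/
theorem isNormal_tensor_of_fg
    (h : ∀ (E : Type u) [Field E] [Algebra k E], Algebra.EssFiniteType k E →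
      ∀ (p : Ideal (E ⊗[k] T)) [p.IsPrime],
        IsDomain (Localization.AtPrime p) ∧ IsIntegrallyClosed (Localization.AtPrime p))
    (q : Ideal (K ⊗[k] T)) [q.IsPrime] :
    IsDomain (Localization.AtPrime q) ∧ IsIntegrallyClosed (Localization.AtPrime q) := by
  refine isNormal_of_directed (K ⊗[k] T) ?_ q
  intro F
  obtain ⟨C, hC⟩ := exists_fg_range k K T F
  refine ⟨(IntermediateField.adjoin k (C : Set K)) ⊗[k] T, inferInstance,
    (Algebra.TensorProduct.map (IsScalarTower.toAlgHom k
      (IntermediateField.adjoin k (C : Set K)) K) (AlgHom.id k T)).toRingHom, ?_, cmp_flat k K T _, hC⟩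
  exact h _ (IntermediateField.essFiniteType_iff.mpr (IntermediateField.fg_adjoin_finset C))

/-- Regularity of `K ⊗[k] T` (assumed Noetherian) from regularity of `E ⊗[k] T` for finitely
generated fields `E`. -/
theorem isRegularRing_tensor_of_fg [IsNoetherianRing (K ⊗[k] T)]
    (h : ∀ (E : Type u) [Field E] [Algebra k E], Algebra.EssFiniteType k E →
      IsRegularRing (E ⊗[k] T)) : IsRegularRing (K ⊗[k] T) := by
  refine isRegularRing_of_directed (K ⊗[k] T) ?_
  intro F
  obtain ⟨C, hC⟩ := exists_fg_range k K T F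
  refine ⟨(IntermediateField.adjoin k (C : Set K)) ⊗[k] T, inferInstance,
    (Algebra.TensorProduct.map (IsScalarTower.toAlgHom k
      (IntermediateField.adjoin k (C : Set K)) K) (AlgHom.id k T)).toRingHom, ?_, cmp_flat k K T _, hC⟩
  exact h _ (IntermediateField.essFiniteType_iff.mpr (IntermediateField.fg_adjoin_finset C))

end

end Groth.Agent.Lib.Helper24.GeomLim
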