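import Mathlib
import Groth.Agent.Lib.Helper24.AnUnram2
import Groth.Agent.S4738
import Groth.Agent.S0568
import Groth.Agent.S0542

set_option autoImplicit false
universe u

namespace Groth.Agent.Lib.Helper24.GeomRedNagata

open TensorProduct IsLocalRing

/-- N-2 tested with an arbitrary fraction field. -/
theorem isN2_of_forall_fractionField (D : Type u) [CommRing D] [IsDomain D]
    (K : Type u) [Field K] [Algebra D K] [IsFractionRing D K]
    (h : ∀ (L : Type u) [Field L] [Algebra D L] [Algebra K L] [IsScalarTower D K L],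
      FiniteDimensional K L → Module.Finite D (integralClosure D L)) : CAlg.IsN2 D := by
  intro L _ _ _ _ hfd
  let e : K ≃ₐ[D] FractionRing D := (FractionRing.algEquiv D K).symm
  letI : Algebra K L := ((algebraMap (FractionRing D) L).comp (e : K →+* FractionRing D)).toAlgebra
  haveI : IsScalarTower D K L := IsScalarTower.of_algebraMap_eq (fun a => by
    rw [RingHom.algebraMap_toAlgebra, RingHom.comp_apply]
    have : (e : K →+* FractionRing D) (algebraMap D K a) = algebraMap D (FractionRing D) a :=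
      e.commutes a
    rw [this, ← IsScalarTower.algebraMap_apply])
  haveI : FiniteDimensional K L :=
    Module.Finite.of_equiv_equiv (A₁ := FractionRing D) (B₁ := L) (A₂ := K) (B₂ := L)
      e.symm.toRingEquiv (RingEquiv.refl L) (by
        ext x
        simp only [RingHom.comp_apply, RingHom.algebraMap_toAlgebra]
        simp)
  exact h L inferInstance

open Groth.Agent.Lib.Helper24.AnUnram in
/-- A Noetherian local ring with geometrically reduced formal fibres is Nagata. -/
theorem isNagata_of_hasGeomReducedFormalFibres (A : Type u) [CommRing A] [IsNoetherianRing A]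
    [IsLocalRing A] (hA : EGA4.HasGeomReducedFormalFibres A) : CAlg.IsNagata A := by
  refine ⟨inferInstance, fun p _ => ?_⟩
  have hD : EGA4.HasGeomReducedFormalFibres (A ⧸ p) := Groth.Agent.S4738.result A hA p
  haveI hgen : Algebra.IsGeometricallyReduced (⊥ : Ideal (A ⧸ p)).ResidueField
      (EGA4.formalFibre (A ⧸ p) ⊥) := hD ⊥
  apply isN2_of_forall_fractionField (A ⧸ p) ((⊥ : Ideal (A ⧸ p)).ResidueField)
  intro L _ _ _ _ hfd
  haveI : IsNoetherianRing (EGA4.Cpl (A ⧸ p)) :=
    Groth.Agent.S0542.result (A ⧸ p) _ (maximalIdeal (A ⧸ p)).fg_of_isNoetherianRing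
  haveI : Module.FaithfullyFlat (A ⧸ p) (EGA4.Cpl (A ⧸ p)) :=
    Module.FaithfullyFlat.of_flat_of_isLocalHom
  have hnag : CAlg.IsNagata (EGA4.Cpl (A ⧸ p)) := Groth.Agent.S0568.result _
  letI : Algebra (EGA4.Cpl (A ⧸ p)) (EGA4.formalFibre (A ⧸ p) ⊥) :=
    Algebra.TensorProduct.rightAlgebra
  haveI : IsScalarTower (A ⧸ p) (EGA4.Cpl (A ⧸ p)) (EGA4.formalFibre (A ⧸ p) ⊥) :=
    Algebra.TensorProduct.right_isScalarTower
  have hQinj : Function.Injective
      (algebraMap (EGA4.Cpl (A ⧸ p)) (EGA4.formalFibre (A ⧸ p) ⊥)) :=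
    Algebra.TensorProduct.includeRight_injective
      (IsFractionRing.injective (A ⧸ p) (⊥ : Ideal (A ⧸ p)).ResidueField)
  haveI : Algebra.IsAlgebraic (⊥ : Ideal (A ⧸ p)).ResidueField L :=
    Algebra.IsAlgebraic.of_finite _ _
  haveI : IsReduced (L ⊗[(⊥ : Ideal (A ⧸ p)).ResidueField] EGA4.formalFibre (A ⧸ p) ⊥) :=
    inferInstance
  exact finite_integralClosure_of_reduced_tensor (A ⧸ p) (EGA4.Cpl (A ⧸ p))
    (fun q _ => hnag.2 q) (EGA4.formalFibre (A ⧸ p) ⊥) hQinj
    (⊥ : Ideal (A ⧸ p)).ResidueField L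

end Groth.Agent.Lib.Helper24.GeomRedNagata
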