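import Mathlib
import Groth.Prelude.Def_CAlgX

/-!
# `I ∩ J² = I J` when `J/I` is locally generated by an `H₁`-regular sequence (helper24)
-/

set_option autoImplicit false
universe u

namespace Groth.Agent.Lib.Helper24.H1Reg1

section L1

variable {R Rb : Type u} [CommRing R] [CommRing Rb] (π : R →+* Rb) (hπ : Function.Surjective π)
variable {c : ℕ} (f : Fin c → Rb) (h : Fin c → R) (hh : ∀ i, π (h i) = f i)

include hπ hh in
/-- Relations of `f` that are combinations of the trivial ones lift to relations mod `I J`. -/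
theorem sum_mem_of_mem_span (J : Ideal R) (hJ : ∀ i, h i ∈ J)
    (v : Fin c → Rb)
    (hv : v ∈ Submodule.span Rb
      {v : Fin c → Rb | ∃ i j : Fin c, v = Pi.single i (f j) - Pi.single j (f i)}) :
    ∀ a : Fin c → R, (∀ i, π (a i) = v i) → ∑ i, a i * h i ∈ RingHom.ker π * J := by
  have hzero : ∀ a : Fin c → R, (∀ i, π (a i) = 0) → ∑ i, a i * h i ∈ RingHom.ker π * J := by
    intro a ha
    exact Ideal.sum_mem _ fun i _ => Ideal.mul_mem_mul (RingHom.mem_ker.mpr (ha i)) (hJ i)
  refine Submodule.span_induction ?_ ?_ ?_ ?_ hv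
  · rintro _ ⟨i, j, rfl⟩ a ha
    have h0 : ∑ l, (Pi.single i (h j) - Pi.single j (h i) : Fin c → R) l * h l = 0 := by
      simp only [Pi.sub_apply, sub_mul, Finset.sum_sub_distrib, Pi.single_apply, ite_mul, zero_mul,
        Finset.sum_ite_eq', Finset.mem_univ, if_true]
      ring
    have h1 : ∑ l, a l * h l =
        ∑ l, (a l - (Pi.single i (h j) - Pi.single j (h i) : Fin c → R) l) * h l := by
      rw [← sub_zero (∑ l, a l * h l), ← h0, ← Finset.sum_sub_distrib]
      exact Finset.sum_congr rfl fun l _ => by ring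
    rw [h1]
    refine hzero _ fun l => ?_
    rw [map_sub, ha l, sub_eq_zero]
    simp only [Pi.sub_apply, Pi.single_apply, map_sub]
    split_ifs <;> simp [hh]
  · intro a ha
    exact hzero a ha
  · intro v₁ v₂ _ _ ih₁ ih₂ a ha
    choose a₁ ha₁ using fun i => hπ (v₁ i)
    have h2 := ih₂ (fun i => a i - a₁ i) (fun i => by
      rw [map_sub, ha i, ha₁ i, Pi.add_apply, add_sub_cancel_left])
    have h1 := ih₁ a₁ ha₁
    have : ∑ i, a i * h i = ∑ i, a₁ i * h i + ∑ i, (a i - a₁ i) * h i := by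
      rw [← Finset.sum_add_distrib]
      exact Finset.sum_congr rfl fun l _ => by ring
    rw [this]
    exact Ideal.add_mem _ h1 h2
  · intro rb v₁ _ ih₁ a ha
    obtain ⟨r, rfl⟩ := hπ rb
    choose a₁ ha₁ using fun i => hπ (v₁ i)
    have h1 := ih₁ a₁ ha₁
    have h2 := hzero (fun i => a i - r * a₁ i) (fun i => by
      rw [map_sub, ha i, map_mul, ha₁ i, Pi.smul_apply, smul_eq_mul, sub_self])
    have : ∑ i, a i * h i = r * ∑ i, a₁ i * h i + ∑ i, (a i - r * a₁ i) * h i := by
      rw [Finset.mul_sum, ← Finset.sum_add_distrib]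
      exact Finset.sum_congr rfl fun l _ => by ring
    rw [this]
    exact Ideal.add_mem _ (Ideal.mul_mem_left _ _ h1) h2

include hπ in
/-- Local lemma: `I ⊓ J² ≤ I * J` when `J/I` is generated by an `H₁`-regular sequence. -/
theorem inf_sq_le_mul (J : Ideal R) (hIJ : RingHom.ker π ≤ J)
    (hreg : CAlgX.IsH1Regular f) (hspan : Ideal.span (Set.range f) = J.map π) :
    RingHom.ker π ⊓ J ^ 2 ≤ RingHom.ker π * J := by
  -- lift the generators
  have hex : ∀ i, ∃ hi ∈ J, π hi = f i := by
    intro i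
    have : f i ∈ J.map π := hspan ▸ Ideal.subset_span ⟨i, rfl⟩
    exact (Ideal.mem_map_iff_of_surjective π hπ).mp this
  choose h hJ hh using hex
  set H : Ideal R := Ideal.span (Set.range h) with hH
  have hHJ : H ≤ J := by rw [hH, Ideal.span_le]; rintro _ ⟨i, rfl⟩; exact hJ i
  have hJeq : J = RingHom.ker π ⊔ H := by
    apply le_antisymm _ (sup_le hIJ hHJ)
    intro j hj
    have h1 : π j ∈ H.map π := by
      rw [hH, Ideal.map_span, ← Set.range_comp]
      have : (π ∘ h) = f := funext hh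
      rw [this, hspan]
      exact Ideal.mem_map_of_mem _ hj
    obtain ⟨j', hj', hjj'⟩ := (Ideal.mem_map_iff_of_surjective π hπ).mp h1
    have : j = (j - j') + j' := by ring
    rw [this]
    exact Submodule.add_mem_sup (RingHom.mem_ker.mpr (by rw [map_sub, hjj', sub_self])) hj'
  have hsq : J ^ 2 ≤ RingHom.ker π * J ⊔ H * H := by
    rw [sq]
    nth_rewrite 1 [hJeq]
    rw [Ideal.sup_mul]
    refine sup_le le_sup_left ?_
    nth_rewrite 1 [hJeq]
    rw [Ideal.mul_sup]
    refine sup_le ?_ le_sup_right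
    rw [mul_comm]
    exact le_sup_of_le_left (Ideal.mul_mono_right hHJ)
  intro x hx
  obtain ⟨hxI, hxJ⟩ := Ideal.mem_inf.mp hx
  obtain ⟨y, hy, z, hz, rfl⟩ := Submodule.mem_sup.mp (hsq hxJ)
  refine Ideal.add_mem _ hy ?_
  have hle : RingHom.ker π * J ≤ RingHom.ker π := Ideal.mul_le_left
  have hyI : y ∈ RingHom.ker π := hle hy
  have hzI : z ∈ RingHom.ker π := (Ideal.add_mem_iff_right (RingHom.ker π) hyI).mp hxI
  -- write z = Σ b_i h_i with b_i ∈ H
  have hz' : z ∈ H • Submodule.span R (Set.range h) := by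
    have : H * H = H • (Ideal.span (Set.range h)) := by rw [smul_eq_mul, ← hH]
    rw [this] at hz
    exact hz
  obtain ⟨b, hb, hbz⟩ := (Submodule.mem_ideal_smul_span_iff_exists_sum H h z).mp hz'
  rw [Finsupp.sum_fintype b (fun i c => c • h i) (fun i => zero_smul R (h i))] at hbz
  simp only [smul_eq_mul] at hbz
  rw [← hbz]
  have hrel : ∑ i, π (b i) * f i = 0 := by
    have : π z = 0 := hzI
    rw [← hbz, map_sum] at this
    simpa only [map_mul, hh] using this
  exact sum_mem_of_mem_span π hπ f h hh J hJ (fun i => π (b i)) (hreg _ hrel) (fun i => b i)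
    (fun i => rfl)

end L1

section L2

variable {A : Type u} [CommRing A]

/-- The case of a prime containing `J`: some power of `g'` multiplies `x` into `I J`. -/
theorem exists_pow_mul_mem (I J : Ideal A) (hIJ : I ≤ J) (g' : A) {c : ℕ}
    (f : Fin c → Localization.Away (Ideal.Quotient.mk I g'))
    (hreg : CAlgX.IsH1Regular f)
    (hspan : Ideal.span (Set.range f) =
      (J.map (Ideal.Quotient.mk I)).map
        (algebraMap (A ⧸ I) (Localization.Away (Ideal.Quotient.mk I g'))))
    {x : A} (hxI : x ∈ I) (hxJ : x ∈ J ^ 2) : ∃ n : ℕ, g' ^ n * x ∈ I * J := by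
  haveI : IsLocalization ((Submonoid.powers g').map (Ideal.Quotient.mk I))
      (Localization.Away (Ideal.Quotient.mk I g')) := by
    rw [Submonoid.map_powers]; infer_instance
  let π : Localization.Away g' →+* Localization.Away (Ideal.Quotient.mk I g') :=
    IsLocalization.map (M := Submonoid.powers g') (T := (Submonoid.powers g').map (Ideal.Quotient.mk I))
      (Localization.Away (Ideal.Quotient.mk I g')) (Ideal.Quotient.mk I)
      (Submonoid.powers g').le_comap_map
  have hker : RingHom.ker π = I.map (algebraMap A (Localization.Away g')) := by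
    have := IsLocalization.ker_map (S := Localization.Away g') (M := Submonoid.powers g')
      (T := (Submonoid.powers g').map (Ideal.Quotient.mk I))
      (Localization.Away (Ideal.Quotient.mk I g')) (Ideal.Quotient.mk I) rfl
    rw [Ideal.mk_ker] at this
    exact this
  have hπ : Function.Surjective π :=
    IsLocalization.map_surjective_of_surjective (M := Submonoid.powers g')
      (S := Localization.Away g') (Q := Localization.Away (Ideal.Quotient.mk I g'))
      (g := Ideal.Quotient.mk I) Ideal.Quotient.mk_surjective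
  have hcomp : π.comp (algebraMap A (Localization.Away g')) =
      (algebraMap (A ⧸ I) (Localization.Away (Ideal.Quotient.mk I g'))).comp
        (Ideal.Quotient.mk I) := IsLocalization.map_comp _
  have hspan' : Ideal.span (Set.range f) =
      (J.map (algebraMap A (Localization.Away g'))).map π := by
    rw [hspan, Ideal.map_map, Ideal.map_map, hcomp]
  have hle : RingHom.ker π ≤ J.map (algebraMap A (Localization.Away g')) := by
    rw [hker]; exact Ideal.map_mono hIJ
  have key := inf_sq_le_mul π hπ f (J.map (algebraMap A (Localization.Away g'))) hle hreg hspan'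
  have hx1 : algebraMap A (Localization.Away g') x ∈
      RingHom.ker π ⊓ (J.map (algebraMap A (Localization.Away g'))) ^ 2 := by
    refine Ideal.mem_inf.mpr ⟨?_, ?_⟩
    · rw [hker]; exact Ideal.mem_map_of_mem _ hxI
    · rw [← Ideal.map_pow]; exact Ideal.mem_map_of_mem _ hxJ
  have hx2 := key hx1
  rw [hker, ← Ideal.map_mul] at hx2
  obtain ⟨⟨⟨a, ha⟩, ⟨s, hs⟩⟩, hsa⟩ :=
    (IsLocalization.mem_map_algebraMap_iff (Submonoid.powers g') (Localization.Away g')).mp hx2
  simp only at hsa
  rw [← map_mul] at hsa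
  obtain ⟨⟨t, ht⟩, hts⟩ := (IsLocalization.eq_iff_exists (Submonoid.powers g') _).mp hsa
  simp only at hts
  obtain ⟨n₁, rfl⟩ := (Submonoid.mem_powers_iff _ _).mp hs
  obtain ⟨n₂, rfl⟩ := (Submonoid.mem_powers_iff _ _).mp ht
  refine ⟨n₂ + n₁, ?_⟩
  have : g' ^ (n₂ + n₁) * x = g' ^ n₂ * a := by
    rw [← hts, pow_add]; ring
  rw [this]
  exact Ideal.mul_mem_left _ _ ha

theorem main (I J : Ideal A) (hIJ : I ≤ J)
    (h : ∀ (𝔮 : Ideal (A ⧸ I)) [𝔮.IsPrime], J.map (Ideal.Quotient.mk I) ≤ 𝔮 →
      ∃ g : A ⧸ I, g ∉ 𝔮 ∧ ∃ (c : ℕ) (f : Fin c → Localization.Away g),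
        CAlgX.IsH1Regular f ∧
          Ideal.span (Set.range f) =
            (J.map (Ideal.Quotient.mk I)).map (algebraMap (A ⧸ I) (Localization.Away g))) :
    I ⊓ J ^ 2 = I * J := by
  refine le_antisymm ?_ (le_inf Ideal.mul_le_left ?_)
  swap
  · rw [sq]; exact Ideal.mul_mono_left hIJ
  intro x hx
  obtain ⟨hxI, hxJ⟩ := Ideal.mem_inf.mp hx
  by_contra hx'
  let C : Ideal A := (I * J).colon {x}
  have hC : ∀ a, a ∈ C ↔ a * x ∈ I * J := fun a => Submodule.mem_colon_singleton
  have hCne : C ≠ ⊤ := by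
    intro hCtop
    have : (1 : A) ∈ C := hCtop ▸ Submodule.mem_top
    rw [hC, one_mul] at this
    exact hx' this
  obtain ⟨P, hPmax, hCP⟩ := Ideal.exists_le_maximal C hCne
  haveI hPprime := hPmax.isPrime
  by_cases hIP : I ≤ P
  swap
  · obtain ⟨i, hiI, hiP⟩ := Set.not_subset.mp hIP
    exact hiP (hCP ((hC i).mpr (Ideal.mul_mem_mul hiI (Ideal.pow_le_self two_ne_zero hxJ))))
  by_cases hJP : J ≤ P
  swap
  · obtain ⟨j, hjJ, hjP⟩ := Set.not_subset.mp hJP
    exact hjP (hCP ((hC j).mpr (by rw [mul_comm j x]; exact Ideal.mul_mem_mul hxI hjJ)))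
  haveI : (P.map (Ideal.Quotient.mk I)).IsPrime :=
    Ideal.map_isPrime_of_surjective Ideal.Quotient.mk_surjective (by rw [Ideal.mk_ker]; exact hIP)
  obtain ⟨g, hg, c, f, hreg, hspan⟩ := h (P.map (Ideal.Quotient.mk I)) (Ideal.map_mono hJP)
  obtain ⟨g', rfl⟩ := Ideal.Quotient.mk_surjective g
  have hg'P : g' ∉ P := fun hmem => hg (Ideal.mem_map_of_mem _ hmem)
  obtain ⟨n, hn⟩ := exists_pow_mul_mem I J hIJ g' f hreg hspan hxI hxJ
  exact hg'P (hPprime.mem_of_pow_mem n (hCP ((hC _).mpr hn)))

end L2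

end Groth.Agent.Lib.Helper24.H1Reg1
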