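import Mathlib
import Groth.Agent.Lib.Helper2.Hartogs3
import Groth.Agent.Lib.Helper2.DepthPull
import Groth.Agent.Lib.Helper17.FibreStalk
import Groth.Agent.Lib.Helper1.SmoothReduced
import Groth.Agent.Lib.Helper20.TFCurveAlg
import Groth.Agent.Lib.Helper16.QCohPullback2
import Groth.Prelude.Def_TorSh

/-!
# Hartogs extension on a product `X ×_k C` for pullbacks of torsion-free modules (helper24)

* `one_le_idealDepth_of_regular`: a regular element of `I` on `M` gives `1 ≤ depth_I M`.
* `depth_pullback_eq_add`: depth formula for the stalk of a pullback along a flat morphism.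
* `one_le_depth_of_isTorsionFree`: depth `≥ 1` for a torsion-free coherent module at a closed
  non-open point of a reduced locally Noetherian scheme.
* `one_le_depth_fibRing`: the fibre ring of `X ×_S C → X` at a point over a non-generic point
  of an integral `C` has depth `≥ 1`.
-/

set_option autoImplicit false
set_option linter.style.haveILetI false
universe u
open CategoryTheory CategoryTheory.Limits AlgebraicGeometry TopologicalSpace Opposite IsLocalRing

namespace Groth.Agent.Lib.Helper24.HartogsProd

open Groth.Agent.Lib.helper16.CohStalk Groth.Agent.Lib.helper17.StalkPullback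
  Groth.Agent.Lib.helper2.Hartogs Groth.Agent.Lib.helper26.Depth RingTheory.Sequence

section alg

theorem one_le_idealDepth_of_regular {R : Type u} [CommRing R] (I : Ideal R) (M : Type u)
    [AddCommGroup M] [Module R M] (r : R) (hr : r ∈ I) (hreg : IsSMulRegular M r) :
    (1 : ℕ∞) ≤ LocCoh.idealDepth I M := by
  have h1 := length_le_idealDepth (I := I) (M := M) (rs := [r])
    ((isWeaklyRegular_singleton_iff M r).mpr hreg) (by simpa using hr)
  simpa using h1

end alg

section formula

variable {X X' : Scheme.{u}} [IsLocallyNoetherian X] [IsLocallyNoetherian X'] (g : X' ⟶ X)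
  [Flat g] (F : X.Modules) (hF : Coh.IsCoh F)

include hF in
/-- depth formula for the stalk of the pullback along a flat morphism -/
theorem depth_pullback_eq_add (z' : X') :
    LocCoh.depth (X'.presheaf.stalk z')
        (((Scheme.Modules.pullback g).obj F).presheaf.stalk z') =
      LocCoh.depth (X.presheaf.stalk (g z')) (F.presheaf.stalk (g z')) +
      LocCoh.depth (X'.presheaf.stalk z')
        (X'.presheaf.stalk z' ⧸ ((maximalIdeal (X.presheaf.stalk (g z'))).map
          (g.stalkMap z').hom • (⊤ : Submodule (X'.presheaf.stalk z') (X'.presheaf.stalk z')))) := by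
  haveI : F.IsQuasicoherent := hF.1
  letI := (g.stalkMap z').hom.toAlgebra
  letI := FlatMod.moduleStalkOver g ((Scheme.Modules.pullback g).obj F) z'
  haveI := isScalarTower_moduleStalkOver g ((Scheme.Modules.pullback g).obj F) z'
  obtain ⟨ψ, hψ⟩ := exists_isBaseChange_stalk_pullback g F z'
  haveI : Module.Finite (X.presheaf.stalk (g z')) (F.presheaf.stalk (g z')) :=
    finite_stalk_of_isCoh F hF (g z')
  haveI : Module.Flat (X.presheaf.stalk (g z')) (X'.presheaf.stalk z') := Flat.stalkMap g z'
  haveI : IsLocalHom (algebraMap (X.presheaf.stalk (g z')) (X'.presheaf.stalk z')) :=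
    inferInstanceAs (IsLocalHom (g.stalkMap z').hom)
  exact Groth.Agent.Lib.helper2.DepthBC.depth_baseChange (X.presheaf.stalk (g z'))
    (X'.presheaf.stalk z') (F.presheaf.stalk (g z')) _ ψ hψ

end formula

section Top

/-- In a Noetherian quasi-sober space a closed point without proper generizations is open
(copied from helper20's `TFCurve`, to avoid its heavy imports). -/
theorem isOpen_singleton_of_noetherianSpace {W : Type*} [TopologicalSpace W] [NoetherianSpace W]
    [QuasiSober W] (u : W) (hcl : IsClosed ({u} : Set W)) (hmax : ∀ u' : W, u' ⤳ u → u' = u) :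
    IsOpen ({u} : Set W) := by
  have hfin : (irreducibleComponents W).Finite := NoetherianSpace.finite_irreducibleComponents
  have hcomp : ({u} : Set W)ᶜ = ⋃ Z ∈ {Z ∈ irreducibleComponents W | u ∉ Z}, Z := by
    ext w
    simp only [Set.mem_compl_iff, Set.mem_singleton_iff, Set.mem_ofPred_eq, Set.mem_iUnion,
      exists_prop]
    constructor
    · intro hw
      refine ⟨irreducibleComponent w, ⟨irreducibleComponent_mem_irreducibleComponents w, ?_⟩,
        mem_irreducibleComponent⟩
      intro hu
      have hirr : IsIrreducible (irreducibleComponent w) := isIrreducible_irreducibleComponent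
      have hclc : IsClosed (irreducibleComponent w) := isClosed_irreducibleComponent
      have hg := hirr.isGenericPoint_genericPoint hclc
      have h1 : hirr.genericPoint = u := hmax _ (hg.specializes hu)
      rw [h1] at hg
      have h2 : w ∈ closure ({u} : Set W) := by
        rw [hg.def]; exact mem_irreducibleComponent
      rw [hcl.closure_eq] at h2
      exact hw h2
    · rintro ⟨Z, ⟨_, huZ⟩, hwZ⟩ rfl
      exact huZ hwZ
  rw [← isClosed_compl_iff, hcomp]
  exact (hfin.subset (fun Z hZ => hZ.1)).isClosed_biUnion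
    fun Z hZ => isClosed_of_mem_irreducibleComponents Z hZ.1

/-- In a locally Noetherian scheme a locally closed point without proper generizations is open
(copied from helper20's `TFCurve`). -/
theorem isOpen_singleton_of_isLocallyNoetherian {U : Scheme.{u}} [IsLocallyNoetherian U] (u : U)
    (hcl : IsLocallyClosed ({u} : Set U)) (hmax : ∀ u' : U, u' ⤳ u → u' = u) :
    IsOpen ({u} : Set U) := by
  obtain ⟨O, C, hO, hC, hOC⟩ := hcl
  have huO : u ∈ O := by
    have : u ∈ O ∩ C := hOC ▸ Set.mem_singleton u
    exact this.1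
  obtain ⟨_, ⟨(W : U.Opens), hW, rfl⟩, huW, hWO⟩ :=
    (U.isBasis_affineOpens).exists_subset_of_mem_open huO hO
  haveI : IsNoetherianRing Γ(U, W) := IsLocallyNoetherian.component_noetherian ⟨W, hW⟩
  haveI : NoetherianSpace ↥W := noetherianSpace_of_isAffineOpen W hW
  haveI : QuasiSober ↥W := W.isOpen.isOpenEmbedding_subtypeVal.quasiSober
  have h1 : IsClosed ({⟨u, huW⟩} : Set ↥W) := by
    have : ({⟨u, huW⟩} : Set ↥W) = Subtype.val ⁻¹' C := by
      ext w
      simp only [Set.mem_singleton_iff, Set.mem_preimage]
      constructor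
      · rintro rfl
        have : u ∈ O ∩ C := hOC ▸ Set.mem_singleton u
        exact this.2
      · intro hw
        have : (w : U) ∈ ({u} : Set U) := by rw [hOC]; exact ⟨hWO w.2, hw⟩
        exact Subtype.ext this
    rw [this]
    exact hC.preimage continuous_subtype_val
  have h2 : ∀ w : ↥W, w ⤳ ⟨u, huW⟩ → w = ⟨u, huW⟩ := by
    intro w hw
    have := hmax w.1 (hw.map continuous_subtype_val)
    exact Subtype.ext this
  have h3 := isOpen_singleton_of_noetherianSpace (⟨u, huW⟩ : ↥W) h1 h2
  have h4 := W.isOpen.isOpenEmbedding_subtypeVal.isOpenMap _ h3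
  simpa using h4

variable {X : Scheme.{u}}

/-- (copied from helper20's `TFCurve`) -/
theorem exists_prime_ne_maximalIdeal [IsLocallyNoetherian X] (x : X)
    (hcl : IsClosed ({x} : Set X)) (hno : ¬ IsOpen ({x} : Set X)) :
    ∃ q : Ideal (X.presheaf.stalk x), q.IsPrime ∧
      q ≠ IsLocalRing.maximalIdeal (X.presheaf.stalk x) := by
  have h1 : ¬ ∀ x' : X, x' ⤳ x → x' = x := fun h =>
    hno (isOpen_singleton_of_isLocallyNoetherian x
      hcl.isLocallyClosed h)
  push Not at h1
  obtain ⟨x', hx', hne⟩ := h1
  have hr : x' ∈ Set.range (X.fromSpecStalk x) := by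
    rw [Scheme.range_fromSpecStalk]; exact hx'
  obtain ⟨z, hz⟩ := hr
  refine ⟨z.asIdeal, z.isPrime, fun h => hne ?_⟩
  have hzc : z = IsLocalRing.closedPoint (X.presheaf.stalk x) := PrimeSpectrum.ext h
  rw [← hz, hzc, Scheme.fromSpecStalk_closedPoint]

/-- depth `≥ 1` for a torsion-free coherent module at a closed non-open point of a reduced
locally Noetherian scheme. -/
theorem one_le_depth_of_isTorsionFree [IsLocallyNoetherian X] [IsReduced X] (F : X.Modules)
    (htF : TorSh.IsTorsionFree F) (x : X) (hcl : IsClosed ({x} : Set X))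
    (hno : ¬ IsOpen ({x} : Set X)) :
    (1 : ℕ∞) ≤ LocCoh.depth (X.presheaf.stalk x) (F.presheaf.stalk x) := by
  obtain ⟨q, hqp, hq⟩ := exists_prime_ne_maximalIdeal x hcl hno
  haveI := hqp
  haveI := htF x
  obtain ⟨a, ha, hreg⟩ :=
    Groth.Agent.Lib.Helper20.TFCurveAlg.exists_regular_mem_maximalIdeal q hq
  exact one_le_idealDepth_of_regular _ _ a ha (Module.IsTorsionFree.isSMulRegular hreg)

end Top

section fibre

open Groth.Agent.Lib.helper17.FibreStalk

variable {S X C : Scheme.{u}} (a : X ⟶ S) (b : C ⟶ S)

/-- The fibre of `X ×_S C → X` over `x`, mapped to `C`, is the base change of `Spec κ(x) → S`. -/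
theorem isPullback_fiber (x : X) :
    IsPullback ((pullback.fst a b).fiberι x ≫ pullback.snd a b)
      ((pullback.fst a b).fiberToSpecResidueField x) b (X.fromSpecResidueField x ≫ a) :=
  (IsPullback.of_hasPullback (pullback.fst a b) (X.fromSpecResidueField x)).paste_horiz
    (IsPullback.of_hasPullback a b).flip

theorem flat_fiber_snd (x : X) [Flat (X.fromSpecResidueField x ≫ a)] :
    Flat ((pullback.fst a b).fiberι x ≫ pullback.snd a b) :=
  MorphismProperty.of_isPullback (P := @Flat) (isPullback_fiber a b x).flip inferInstance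

/-- the fibre ring `O_{Z,z} / m_{f z} O_{Z,z}` has depth at least one -/
def FibDepthPos {Z X : Scheme.{u}} (f : Z ⟶ X) (z : Z) : Prop :=
  (1 : ℕ∞) ≤ LocCoh.depth (Z.presheaf.stalk z)
    (Z.presheaf.stalk z ⧸ ((maximalIdeal (X.presheaf.stalk (f z))).map (f.stalkMap z).hom •
      (⊤ : Submodule (Z.presheaf.stalk z) (Z.presheaf.stalk z))))

theorem isSMulRegular_quot_of_flat {A B S : Type u} [CommRing A] [IsDomain A] [CommRing B]
    [CommRing S] (φ : A →+* S) (π : S →+* B) (hfl : (π.comp φ).Flat) (t : A) (ht0 : t ≠ 0)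
    (I : Ideal S) (hI : RingHom.ker π = I) :
    IsSMulRegular (S ⧸ (I • (⊤ : Submodule S S))) (φ t) := by
  have hreg : IsSMulRegular A t := (IsRegular.of_ne_zero ht0).left.isSMulRegular
  have hreg2 : IsSMulRegular B ((π.comp φ) t) := by
    letI := (π.comp φ).toAlgebra
    haveI : Module.Flat A B := hfl
    exact IsSMulRegular.of_flat hreg
  rw [isSMulRegular_iff_right_eq_zero_of_smul]
  intro m hm
  obtain ⟨s, rfl⟩ := Submodule.Quotient.mk_surjective _ m
  rw [← Submodule.Quotient.mk_smul, Submodule.Quotient.mk_eq_zero] at hm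
  rw [Submodule.Quotient.mk_eq_zero]
  rw [smul_eq_mul, Ideal.mul_top] at hm ⊢
  rw [← hI, RingHom.mem_ker] at hm ⊢
  rw [smul_eq_mul, map_mul] at hm
  exact hreg2.right_eq_zero_of_smul hm

theorem fibDepthPos_fiberι [IsIntegral C] (x : X) [Flat (X.fromSpecResidueField x ≫ a)]
    (w : (pullback.fst a b).fiber x)
    (t : C.presheaf.stalk (pullback.snd a b ((pullback.fst a b).fiberι x w)))
    (ht : t ∈ maximalIdeal (C.presheaf.stalk (pullback.snd a b ((pullback.fst a b).fiberι x w))))
    (ht0 : t ≠ 0) :
    FibDepthPos (pullback.fst a b) ((pullback.fst a b).fiberι x w) := by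
  unfold FibDepthPos
  have hker := ker_fiberι_stalkMap (pullback.fst a b) x w
  haveI hq : Flat ((pullback.fst a b).fiberι x ≫ pullback.snd a b) := flat_fiber_snd a b x
  have hcomp := Scheme.Hom.stalkMap_comp ((pullback.fst a b).fiberι x) (pullback.snd a b) w
  have hfl : ((((pullback.fst a b).fiberι x).stalkMap w).hom.comp
      ((pullback.snd a b).stalkMap ((pullback.fst a b).fiberι x w)).hom).Flat := by
    have := Flat.stalkMap ((pullback.fst a b).fiberι x ≫ pullback.snd a b) w
    rw [hcomp] at this
    exact this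
  have htS : ((pullback.snd a b).stalkMap ((pullback.fst a b).fiberι x w)).hom t ∈
      maximalIdeal ((pullback a b).presheaf.stalk ((pullback.fst a b).fiberι x w)) := by
    rw [IsLocalRing.mem_maximalIdeal, mem_nonunits_iff] at ht ⊢
    intro h
    exact ht (isUnit_of_map_unit _ _ h)
  exact one_le_idealDepth_of_regular _ _ _ htS
    (isSMulRegular_quot_of_flat _ _ hfl t ht0 _ hker)

theorem fibDepthPos [IsIntegral C] (hflat : ∀ x : X, Flat (X.fromSpecResidueField x ≫ a))
    (z : ↑(pullback a b))
    (hne : ∃ t ∈ maximalIdeal (C.presheaf.stalk (pullback.snd a b z)), t ≠ 0) :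
    FibDepthPos (pullback.fst a b) z := by
  have e := (pullback.fst a b).fiberι_asFiber z
  haveI := hflat ((pullback.fst a b) z)
  suffices h : ∀ (z' : ↑(pullback a b)),
      (pullback.fst a b).fiberι _ ((pullback.fst a b).asFiber z) = z' →
      (∃ t ∈ maximalIdeal (C.presheaf.stalk (pullback.snd a b z')), t ≠ 0) →
      FibDepthPos (pullback.fst a b) z' from h z e hne
  rintro _ rfl ⟨t, ht, ht0⟩
  exact fibDepthPos_fiberι a b _ _ t ht ht0

/-- the local ring of an irreducible scheme of dimension one at a closed point is not a field -/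
theorem exists_mem_maximalIdeal_ne_zero [IrreducibleSpace C] (hdim : topologicalKrullDim C = 1)
    (c : C) (hc : IsClosed ({c} : Set C)) :
    ∃ t ∈ maximalIdeal (C.presheaf.stalk c), t ≠ 0 := by
  by_contra hcon
  push Not at hcon
  have hbot : maximalIdeal (C.presheaf.stalk c) = ⊥ := by
    rw [eq_bot_iff]; intro t ht; exact hcon t ht
  have hgen : ∀ c' : C, c' ⤳ c → c' = c := by
    intro c' hc'
    have hr : c' ∈ Set.range (C.fromSpecStalk c) := by
      rw [Scheme.range_fromSpecStalk]; exact hc'
    obtain ⟨p, hp⟩ := hr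
    have hpc : p = IsLocalRing.closedPoint (C.presheaf.stalk c) := by
      apply PrimeSpectrum.ext
      have h1 : p.asIdeal ≤ maximalIdeal (C.presheaf.stalk c) :=
        IsLocalRing.le_maximalIdeal p.isPrime.ne_top
      rw [hbot, le_bot_iff] at h1
      rw [h1]
      exact hbot.symm
    rw [← hp, hpc, Scheme.fromSpecStalk_closedPoint]
  have hη : genericPoint C = c := hgen _ (genericPoint_specializes c)
  have hall : ∀ y : C, y = c := by
    intro y
    have h1 : c ⤳ y := hη ▸ genericPoint_specializes y
    have h2 : y ∈ closure ({c} : Set C) := h1.mem_closure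
    rw [hc.closure_eq] at h2
    exact h2
  have hpos : 0 < topologicalKrullDim C := by rw [hdim]; exact zero_lt_one
  obtain ⟨T0, T1, hlt⟩ := Order.krullDim_pos_iff.1 hpos
  obtain ⟨y0, hy0⟩ := T0.isIrreducible.nonempty
  obtain ⟨y, hy1, hy⟩ := Set.exists_of_ssubset (show T0.carrier ⊂ T1.carrier from hlt)
  exact hy (by rw [hall y, ← hall y0]; exact hy0)

end fibre

end Groth.Agent.Lib.Helper24.HartogsProd
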