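import Groth.Agent.Lib.Helper24.HensRegular
import Groth.Agent.Lib.Helper24.HensNormal

/-!
# Discrete valuation rings and (strict) henselization (helper24)
-/

set_option autoImplicit false
set_option linter.unusedSectionVars false

noncomputable section

namespace Groth.Agent.Lib.Helper24.HensDVR

open IsLocalRing Groth.Agent.Lib.Helper24.FlatCotangent

universe u

theorem dvr_of_dvr (R S : Type u) [CommRing R] [CommRing S] [IsLocalRing R] [IsLocalRing S]
    [IsNoetherianRing R] [IsNoetherianRing S]
    (hspan : (maximalIdeal S).spanFinrank = (maximalIdeal R).spanFinrank)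
    (hbot : maximalIdeal S = ⊥ → maximalIdeal R = ⊥)
    (hnormal : (IsDomain R ∧ IsIntegrallyClosed R) → (IsDomain S ∧ IsIntegrallyClosed S)) :
    (∃ _ : IsDomain R, IsDiscreteValuationRing R) → (∃ _ : IsDomain S, IsDiscreteValuationRing S) := by
  rintro ⟨hd, hdvr⟩
  obtain ⟨hdS, -⟩ := hnormal ⟨hd, inferInstance⟩
  have hnfR : ¬ IsField R := IsDiscreteValuationRing.not_isField R
  have hnfS : ¬ IsField S := by
    intro h
    apply hnfR
    rw [isField_iff_maximalIdeal_eq] at h ⊢
    exact hbot h
  have h1 : Module.finrank (ResidueField R) (CotangentSpace R) = 1 :=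
    ((IsDiscreteValuationRing.TFAE R hnfR).out 0 5).1 hdvr
  have h2 : Module.finrank (ResidueField S) (CotangentSpace S) = 1 := by
    rw [← spanFinrank_maximalIdeal_eq_finrank_cotangentSpace, hspan,
      spanFinrank_maximalIdeal_eq_finrank_cotangentSpace, h1]
  exact ⟨hdS, ((IsDiscreteValuationRing.TFAE S hnfS).out 5 0).1 h2⟩

theorem dvr_iff_of_flat (R S : Type u) [CommRing R] [CommRing S] [IsLocalRing R] [IsLocalRing S]
    [IsNoetherianRing R] [IsNoetherianRing S] [Algebra R S] [IsLocalHom (algebraMap R S)]
    [Module.FaithfullyFlat R S]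
    (hm : (maximalIdeal R).map (algebraMap R S) = maximalIdeal S)
    (hnormal : (IsDomain R ∧ IsIntegrallyClosed R) ↔ (IsDomain S ∧ IsIntegrallyClosed S)) :
    (∃ _ : IsDomain R, IsDiscreteValuationRing R) ↔ (∃ _ : IsDomain S, IsDiscreteValuationRing S) := by
  have hspan := spanFinrank_maximalIdeal_eq_of_flat R S hm
  have hinj : Function.Injective (algebraMap R S) := FaithfulSMul.algebraMap_injective R S
  constructor
  · apply dvr_of_dvr R S hspan _ hnormal.1
    intro h
    rw [← hm] at h
    exact (Ideal.map_eq_bot_iff_of_injective hinj).1 h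
  · apply dvr_of_dvr S R hspan.symm _ hnormal.2
    intro h
    rw [← hm, h, Ideal.map_bot]

end Groth.Agent.Lib.Helper24.HensDVR

end
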