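import Groth.Agent.Lib.Helper24.HenselEss

/-!
Strictly essentially étale local algebras are directed (helper24).
-/

set_option autoImplicit false

noncomputable section

namespace Groth.Agent.Lib.helper24.HenselEss

open IsLocalRing TensorProduct

universe u

/-- The "residue character" of a strictly essentially étale presentation. -/
theorem exists_character (A A₁ : Type u) [CommRing A] [IsLocalRing A]
    [CommRing A₁] [IsLocalRing A₁] [Algebra A A₁] [IsLocalHom (algebraMap A A₁)]
    (hbij : Function.Bijective (ResidueField.map (algebraMap A A₁)))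
    (C : Type u) [CommRing C] [Algebra A C] (q : Ideal C) [q.IsPrime]
    (e : A₁ ≃ₐ[A] Localization.AtPrime q) :
    ∃ χ : C →ₐ[A] ResidueField A, ∀ c, χ c = 0 ↔ c ∈ q := by
  let ε : ResidueField A ≃+* ResidueField A₁ := RingEquiv.ofBijective _ hbij
  have hε : ∀ x, ε x = ResidueField.map (algebraMap A A₁) x := fun x => rfl
  let χ0 : C →+* ResidueField A :=
    (ε.symm : ResidueField A₁ →+* ResidueField A).comp
      ((residue A₁).comp ((e.symm : Localization.AtPrime q →+* A₁).comp
        (algebraMap C (Localization.AtPrime q))))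
  have hχ0 : ∀ c, χ0 c = ε.symm (residue A₁ (e.symm (algebraMap C (Localization.AtPrime q) c))) :=
    fun c => rfl
  refine ⟨{ χ0 with commutes' := ?_ }, ?_⟩
  · intro a
    show χ0 (algebraMap A C a) = _
    rw [hχ0, ← IsScalarTower.algebraMap_apply A C (Localization.AtPrime q), AlgEquiv.commutes,
      ← ResidueField.map_residue, ← hε, RingEquiv.symm_apply_apply]
    rfl
  · intro c
    show χ0 c = 0 ↔ _
    rw [hχ0, map_eq_zero_iff _ ε.symm.injective, residue_eq_zero_iff]
    constructor
    · intro hc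
      by_contra hcq
      have h6 : IsUnit (algebraMap C (Localization.AtPrime q) c) :=
        IsLocalization.map_units (Localization.AtPrime q) (⟨c, hcq⟩ : q.primeCompl)
      exact ((mem_maximalIdeal _).1 hc) (h6.map e.symm)
    · intro hc
      rw [mem_maximalIdeal, mem_nonunits_iff]
      intro hu
      have h7 : IsUnit (e (e.symm (algebraMap C (Localization.AtPrime q) c))) := hu.map e
      rw [AlgEquiv.apply_symm_apply,
        IsLocalization.AtPrime.isUnit_to_map_iff (Localization.AtPrime q) q] at h7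
      exact h7 hc

/-- Localisation of an étale algebra at the kernel of a character to the residue field is strictly
essentially étale. -/
theorem strict_of_character (A : Type u) [CommRing A] [IsLocalRing A]
    (C : Type u) [CommRing C] [Algebra A C] [Algebra.Etale A C]
    (χ : C →ₐ[A] ResidueField A) :
    ∃ (q : Ideal C) (_ : q.IsPrime) (_ : IsLocalHom (algebraMap A (Localization.AtPrime q))),
      (∀ c, c ∈ q ↔ χ c = 0) ∧
      EGA4loc.IsStrictlyEssentiallyEtale A (Localization.AtPrime q) := by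
  have hχsurj : Function.Surjective χ := by
    intro x
    obtain ⟨a, rfl⟩ := residue_surjective x
    exact ⟨algebraMap A C a, by rw [AlgHom.commutes]; rfl⟩
  have hmax : (RingHom.ker χ.toRingHom).IsMaximal := RingHom.ker_isMaximal_of_surjective _ hχsurj
  have hprime : (RingHom.ker χ.toRingHom).IsPrime := hmax.isPrime
  have hmem : ∀ c, c ∈ RingHom.ker χ.toRingHom ↔ χ c = 0 := fun c => RingHom.mem_ker
  have hcomap : (RingHom.ker χ.toRingHom).comap (algebraMap A C) = maximalIdeal A := by
    ext a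
    rw [Ideal.mem_comap, hmem, AlgHom.commutes]
    exact residue_eq_zero_iff a
  have hlocal : IsLocalHom (algebraMap A (Localization.AtPrime (RingHom.ker χ.toRingHom))) := by
    constructor
    intro a ha
    rw [IsScalarTower.algebraMap_apply A C (Localization.AtPrime (RingHom.ker χ.toRingHom)),
      IsLocalization.AtPrime.isUnit_to_map_iff (Localization.AtPrime (RingHom.ker χ.toRingHom))
        (RingHom.ker χ.toRingHom)] at ha
    by_contra hna
    apply ha
    show algebraMap A C a ∈ RingHom.ker χ.toRingHom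
    rw [← Ideal.mem_comap, hcomap]
    exact (mem_maximalIdeal _).2 hna
  refine ⟨RingHom.ker χ.toRingHom, hprime, hlocal, hmem, ?_, ?_⟩
  · exact ⟨C, _, _, RingHom.ker χ.toRingHom, hprime, inferInstance, hcomap, ⟨AlgEquiv.refl⟩⟩
  · refine ⟨(ResidueField.map _).injective, ?_⟩
    intro y
    -- y comes from an element c of C
    obtain ⟨c, hc⟩ := Ideal.algebraMap_residueField_surjective (RingHom.ker χ.toRingHom) y
    obtain ⟨a, ha⟩ := residue_surjective (χ c)
    refine ⟨residue A a, ?_⟩
    rw [ResidueField.map_residue, ← hc]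
    have h1 : c - algebraMap A C a ∈ RingHom.ker χ.toRingHom := by
      rw [hmem, map_sub, AlgHom.commutes, ← ha]
      exact sub_self _
    have h2 : algebraMap C (RingHom.ker χ.toRingHom).ResidueField (c - algebraMap A C a) = 0 := by
      rw [Ideal.algebraMap_residueField_eq_zero]
      exact h1
    rw [map_sub, sub_eq_zero] at h2
    rw [h2, IsScalarTower.algebraMap_apply A C (Localization.AtPrime (RingHom.ker χ.toRingHom))]
    rfl

theorem exists_dominating (A A₁ A₂ : Type u) [CommRing A] [IsLocalRing A]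
    [CommRing A₁] [IsLocalRing A₁] [Algebra A A₁] [IsLocalHom (algebraMap A A₁)]
    [CommRing A₂] [IsLocalRing A₂] [Algebra A A₂] [IsLocalHom (algebraMap A A₂)]
    (h₁ : EGA4loc.IsStrictlyEssentiallyEtale A A₁) (h₂ : EGA4loc.IsStrictlyEssentiallyEtale A A₂) :
    ∃ (A₃ : Type u) (_ : CommRing A₃) (_ : IsLocalRing A₃) (_ : Algebra A A₃)
      (_ : IsLocalHom (algebraMap A A₃)),
      EGA4loc.IsStrictlyEssentiallyEtale A A₃ ∧ Nonempty (A₁ →ₐ[A] A₃) ∧
        Nonempty (A₂ →ₐ[A] A₃) := by
  obtain ⟨⟨C₁, _, _, q₁, _, hC₁, hq₁, ⟨e₁⟩⟩, hb₁⟩ := h₁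
  obtain ⟨⟨C₂, _, _, q₂, _, hC₂, hq₂, ⟨e₂⟩⟩, hb₂⟩ := h₂
  have : Algebra.Etale A C₁ := hC₁
  have : Algebra.Etale A C₂ := hC₂
  obtain ⟨χ₁, hχ₁⟩ := exists_character A A₁ hb₁ C₁ q₁ e₁
  obtain ⟨χ₂, hχ₂⟩ := exists_character A A₂ hb₂ C₂ q₂ e₂
  have : Algebra.Etale A (C₁ ⊗[A] C₂) := Algebra.Etale.comp A C₁ (C₁ ⊗[A] C₂)
  let χ : C₁ ⊗[A] C₂ →ₐ[A] ResidueField A :=
    Algebra.TensorProduct.lift χ₁ χ₂ (fun _ _ => Commute.all _ _)
  obtain ⟨q, hqp, hloc, hq, hstrict⟩ := strict_of_character A (C₁ ⊗[A] C₂) χ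
  refine ⟨Localization.AtPrime q, inferInstance, inferInstance, inferInstance, hloc, hstrict,
    ⟨?_⟩, ⟨?_⟩⟩
  · let f : C₁ →ₐ[A] Localization.AtPrime q :=
      (IsScalarTower.toAlgHom A (C₁ ⊗[A] C₂) (Localization.AtPrime q)).comp
        Algebra.TensorProduct.includeLeft
    have hf : ∀ y : q₁.primeCompl, IsUnit (f y) := by
      intro y
      show IsUnit (algebraMap (C₁ ⊗[A] C₂) (Localization.AtPrime q) ((y : C₁) ⊗ₜ 1))
      rw [IsLocalization.AtPrime.isUnit_to_map_iff (Localization.AtPrime q) q]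
      show ¬ (((y : C₁) ⊗ₜ[A] (1 : C₂)) ∈ q)
      rw [hq]
      show ¬ (χ ((y : C₁) ⊗ₜ 1) = 0)
      rw [Algebra.TensorProduct.lift_tmul, map_one, mul_one, hχ₁]
      exact y.2
    exact (IsLocalization.liftAlgHom (M := q₁.primeCompl) (S := Localization.AtPrime q₁)
      (f := f) hf).comp e₁.toAlgHom
  · let f : C₂ →ₐ[A] Localization.AtPrime q :=
      (IsScalarTower.toAlgHom A (C₁ ⊗[A] C₂) (Localization.AtPrime q)).comp
        Algebra.TensorProduct.includeRight
    have hf : ∀ y : q₂.primeCompl, IsUnit (f y) := by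
      intro y
      show IsUnit (algebraMap (C₁ ⊗[A] C₂) (Localization.AtPrime q) (1 ⊗ₜ (y : C₂)))
      rw [IsLocalization.AtPrime.isUnit_to_map_iff (Localization.AtPrime q) q]
      show ¬ (((1 : C₁) ⊗ₜ[A] (y : C₂)) ∈ q)
      rw [hq]
      show ¬ (χ (1 ⊗ₜ (y : C₂)) = 0)
      rw [Algebra.TensorProduct.lift_tmul, map_one, one_mul, hχ₂]
      exact y.2
    exact (IsLocalization.liftAlgHom (M := q₂.primeCompl) (S := Localization.AtPrime q₂)
      (f := f) hf).comp e₂.toAlgHom

end Groth.Agent.Lib.helper24.HenselEss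

end
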