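import Groth.Agent.Lib.Helper24.HenselLocal

/-!
Solutions of étale systems over strictly henselian local rings (helper24).
-/

set_option autoImplicit false

noncomputable section

namespace Groth.Agent.Lib.helper24.HenselSolutions

open IsLocalRing TensorProduct Groth.Agent.Lib.helper24.HenselLocal

universe u

/-- A homomorphism from an étale algebra over a separably closed field to a field extension
takes values in the base field. -/
theorem mem_range_of_etale_of_isSepClosed (K : Type u) [Field K] [IsSepClosed K] (B : Type u)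
    [CommRing B] [Algebra K B] [Algebra.Etale K B] (K' : Type u) [Field K'] [Algebra K K']
    (ρ : B →ₐ[K] K') (x : B) : ρ x ∈ (algebraMap K K').range := by
  classical
  have hfe : Algebra.FormallyEtale K B := inferInstance
  obtain ⟨I, hI, Ai, instF, instA, e, hsep⟩ :=
    (Algebra.FormallyEtale.iff_exists_algEquiv_prod K B).1 hfe
  have : Fintype I := Fintype.ofFinite I
  let ρ' : (∀ i, Ai i) →ₐ[K] K' := ρ.comp e.symm.toAlgHom
  have hρ' : ρ x = ρ' (e x) := by
    show ρ x = ρ (e.symm (e x))
    rw [AlgEquiv.symm_apply_apply]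
  rw [hρ']
  set y := e x with hy
  have hsum : ∑ i, ρ' (Pi.single i (1 : Ai i)) = 1 := by
    rw [← map_sum, Finset.univ_sum_single]
    exact map_one ρ'
  have hex : ∃ i₀, ρ' (Pi.single i₀ (1 : Ai i₀)) ≠ 0 := by
    by_contra hno
    push Not at hno
    rw [Finset.sum_congr rfl (fun i _ => hno i), Finset.sum_const_zero] at hsum
    exact zero_ne_one hsum
  obtain ⟨i₀, hi₀⟩ := hex
  have hidem : IsIdempotentElem (ρ' (Pi.single i₀ (1 : Ai i₀))) := by
    have h1 : IsIdempotentElem (Pi.single i₀ (1 : Ai i₀) : ∀ i, Ai i) := by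
      show Pi.single i₀ (1 : Ai i₀) * Pi.single i₀ (1 : Ai i₀) = Pi.single i₀ (1 : Ai i₀)
      rw [← Pi.single_mul, one_mul]
    exact h1.map ρ'
  have hone : ρ' (Pi.single i₀ (1 : Ai i₀)) = 1 := by
    rcases IsIdempotentElem.iff_eq_zero_or_one.1 hidem with h | h
    · exact absurd h hi₀
    · exact h
  have hsepi := hsep i₀
  obtain ⟨c, hc⟩ := IsSepClosed.algebraMap_surjective K (Ai i₀) (y i₀)
  have hy1 : y * Pi.single i₀ (1 : Ai i₀) = c • Pi.single i₀ (1 : Ai i₀) := by
    funext j
    by_cases hj : j = i₀
    · subst hj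
      simp only [Pi.mul_apply, Pi.single_eq_same, mul_one, Pi.smul_apply]
      rw [← hc, Algebra.algebraMap_eq_smul_one]
    · simp only [Pi.mul_apply, Pi.smul_apply, Pi.single_eq_of_ne hj, mul_zero, smul_zero]
  refine ⟨c, ?_⟩
  have : ρ' y = ρ' (y * Pi.single i₀ (1 : Ai i₀)) := by
    rw [map_mul, hone, mul_one]
  rw [this, hy1, map_smul, hone, Algebra.algebraMap_eq_smul_one]

/-- A character with values in the residue field of `S` descends to the residue field of `R`
when the latter is separably closed. -/
theorem exists_character_descent (R : Type u) [CommRing R] [IsLocalRing R]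
    [IsSepClosed (ResidueField R)] (S : Type u) [CommRing S] [IsLocalRing S] [Algebra R S]
    [IsLocalHom (algebraMap R S)] (B : Type u) [CommRing B] [Algebra R B] [Algebra.Etale R B]
    (β : B →ₐ[R] S) :
    ∃ χ : B →ₐ[R] ResidueField R,
      ∀ b, algebraMap (ResidueField R) (ResidueField S) (χ b) = residue S (β b) := by
  let βbar : B →ₐ[R] ResidueField S := (IsScalarTower.toAlgHom R S (ResidueField S)).comp β
  let ρ : ResidueField R ⊗[R] B →ₐ[ResidueField R] ResidueField S :=
    Algebra.TensorProduct.lift (Algebra.ofId (ResidueField R) (ResidueField S)) βbar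
      (fun _ _ => Commute.all _ _)
  have hρ : ∀ b : B, ρ (1 ⊗ₜ b) = residue S (β b) := by
    intro b
    show Algebra.TensorProduct.lift _ _ _ (1 ⊗ₜ b) = _
    rw [Algebra.TensorProduct.lift_tmul, map_one, one_mul]
    rfl
  have hrange : ∀ x, ρ x ∈ (algebraMap (ResidueField R) (ResidueField S)).range :=
    fun x => mem_range_of_etale_of_isSepClosed _ _ _ ρ x
  have hinj : Function.Injective (algebraMap (ResidueField R) (ResidueField S)) :=
    RingHom.injective _
  let g : ResidueField R ⊗[R] B → ResidueField R := fun x => (hrange x).choose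
  have hg : ∀ x, algebraMap (ResidueField R) (ResidueField S) (g x) = ρ x :=
    fun x => (hrange x).choose_spec
  let χbar : ResidueField R ⊗[R] B →ₐ[ResidueField R] ResidueField R :=
    { toFun := g
      map_one' := hinj (by rw [hg, map_one, map_one])
      map_mul' := fun x y => hinj (by rw [hg, map_mul, map_mul, hg, hg])
      map_zero' := hinj (by rw [hg, map_zero, map_zero])
      map_add' := fun x y => hinj (by rw [hg, map_add, map_add, hg, hg])
      commutes' := fun c => hinj (by rw [hg, AlgHom.commutes]; rfl) }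
  refine ⟨(χbar.restrictScalars R).comp Algebra.TensorProduct.includeRight, ?_⟩
  intro b
  show algebraMap (ResidueField R) (ResidueField S) (g (1 ⊗ₜ b)) = _
  rw [hg, hρ]

/-- S0517 -/
theorem etale_solutions_bijOn (R : Type u) [CommRing R]
    [HenselianLocalRing R] [IsSepClosed (ResidueField R)] (S : Type u) [CommRing S]
    [IsLocalRing S] (φ : R →+* S) [IsLocalHom φ] (n : ℕ)
    (P : Fin n → MvPolynomial (Fin n) R)
    [Algebra.Etale R (MvPolynomial (Fin n) R ⧸ Ideal.span (Set.range P))] :
    Set.BijOn (fun r : Fin n → R => φ ∘ r)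
      {r : Fin n → R | ∀ i, MvPolynomial.eval r (P i) = 0}
      {s : Fin n → S | ∀ i, MvPolynomial.eval s (MvPolynomial.map φ (P i)) = 0} := by
  letI : Algebra R S := φ.toAlgebra
  haveI : IsLocalHom (algebraMap R S) := ‹IsLocalHom φ›
  have hφ : ∀ x, algebraMap R S x = φ x := fun x => rfl
  set I := Ideal.span (Set.range P) with hI
  -- alg hom attached to a solution in an R-algebra
  have key : ∀ (T : Type u) [CommRing T] [Algebra R T] (t : Fin n → T),
      (∀ i, MvPolynomial.aeval t (P i) = 0) →
      ∃ β : (MvPolynomial (Fin n) R ⧸ I) →ₐ[R] T, ∀ j, β (Ideal.Quotient.mk I (MvPolynomial.X j)) = t j := by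
    intro T _ _ t ht
    have hker : ∀ x ∈ I, MvPolynomial.aeval t x = 0 := by
      have hle : I ≤ RingHom.ker (MvPolynomial.aeval t : MvPolynomial (Fin n) R →ₐ[R] T).toRingHom := by
        rw [hI, Ideal.span_le]
        rintro _ ⟨i, rfl⟩
        exact ht i
      exact fun x hx => hle hx
    refine ⟨Ideal.Quotient.liftₐ I (MvPolynomial.aeval t) hker, fun j => ?_⟩
    show MvPolynomial.aeval t (MvPolynomial.X j) = t j
    rw [MvPolynomial.aeval_X]
  have hext : ∀ (T : Type u) [CommRing T] [Algebra R T]
      (β₁ β₂ : (MvPolynomial (Fin n) R ⧸ I) →ₐ[R] T),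
      (∀ j, β₁ (Ideal.Quotient.mk I (MvPolynomial.X j)) = β₂ (Ideal.Quotient.mk I (MvPolynomial.X j))) →
      β₁ = β₂ := by
    intro T _ _ β₁ β₂ h
    apply Ideal.Quotient.algHom_ext
    apply MvPolynomial.algHom_ext
    intro j
    exact h j
  have hevalS : ∀ (s : Fin n → S) (p : MvPolynomial (Fin n) R),
      MvPolynomial.eval s (MvPolynomial.map φ p) = MvPolynomial.aeval s p := by
    intro s p
    rw [MvPolynomial.eval_map, MvPolynomial.aeval_def]
    rfl
  have hevalR : ∀ (r : Fin n → R) (p : MvPolynomial (Fin n) R),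
      MvPolynomial.eval r p = MvPolynomial.aeval r p := by
    intro r p
    rw [MvPolynomial.aeval_def]
    rfl
  have hcomp : ∀ (r : Fin n → R) (p : MvPolynomial (Fin n) R),
      MvPolynomial.aeval (φ ∘ r) p = φ (MvPolynomial.aeval r p) := by
    intro r p
    have h1 : (MvPolynomial.aeval (φ ∘ r) : MvPolynomial (Fin n) R →ₐ[R] S) =
        (Algebra.ofId R S).comp (MvPolynomial.aeval r) := by
      apply MvPolynomial.algHom_ext
      intro j
      simp only [MvPolynomial.aeval_X, AlgHom.comp_apply, Function.comp_apply]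
      rfl
    rw [h1]
    rfl
  refine ⟨?_, ?_, ?_⟩
  · -- maps to
    intro r hr i
    show MvPolynomial.eval (φ ∘ r) (MvPolynomial.map φ (P i)) = 0
    rw [hevalS, hcomp, ← hevalR, hr i, map_zero]
  · -- injective
    intro r hr r' hr' hrr'
    have hrr'' : φ ∘ r = φ ∘ r' := hrr'
    obtain ⟨σ, hσ⟩ := key R r (fun i => by rw [← hevalR]; exact hr i)
    obtain ⟨σ', hσ'⟩ := key R r' (fun i => by rw [← hevalR]; exact hr' i)
    have h1 : (Algebra.ofId R S).comp σ = (Algebra.ofId R S).comp σ' := by
      apply hext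
      intro j
      show φ (σ _) = φ (σ' _)
      rw [hσ, hσ']
      exact congrFun hrr'' j
    have h2 : σ = σ' := by
      apply algHom_ext_of_residue
      intro b
      have h3 : φ (σ b - σ' b) = 0 := by
        rw [map_sub, sub_eq_zero]
        exact congrArg (fun F : (MvPolynomial (Fin n) R ⧸ I) →ₐ[R] S => F b) h1
      by_contra hnm
      have hu : IsUnit (σ b - σ' b) := by
        by_contra hnu
        exact hnm ((mem_maximalIdeal _).2 hnu)
      have := hu.map φ
      rw [h3] at this
      exact not_isUnit_zero this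
    funext j
    rw [← hσ j, ← hσ' j, h2]
  · -- surjective
    intro s hs
    obtain ⟨β, hβ⟩ := key S s (fun i => by rw [← hevalS]; exact hs i)
    obtain ⟨χ, hχ⟩ := exists_character_descent R S _ β
    obtain ⟨σ, hσ⟩ := exists_lift_residue χ
    have h1 : (Algebra.ofId R S).comp σ = β := by
      apply algHom_ext_of_residue
      intro b
      rw [← residue_eq_zero_iff, map_sub, sub_eq_zero, ← hχ, ← hσ]
      rfl
    refine ⟨fun j => σ (Ideal.Quotient.mk I (MvPolynomial.X j)), ?_, ?_⟩
    · intro i
      show MvPolynomial.eval (fun j => σ (Ideal.Quotient.mk I (MvPolynomial.X j))) (P i) = 0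
      rw [hevalR]
      have h2 : (MvPolynomial.aeval (fun j => σ (Ideal.Quotient.mk I (MvPolynomial.X j))) :
          MvPolynomial (Fin n) R →ₐ[R] R) = σ.comp (Ideal.Quotient.mkₐ R I) := by
        apply MvPolynomial.algHom_ext
        intro j
        simp only [MvPolynomial.aeval_X, AlgHom.comp_apply]
        rfl
      rw [h2]
      show σ (Ideal.Quotient.mk I (P i)) = 0
      have h3 : Ideal.Quotient.mk I (P i) = 0 :=
        Ideal.Quotient.eq_zero_iff_mem.2 (Ideal.subset_span ⟨i, rfl⟩)
      rw [h3, map_zero]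
    · funext j
      show φ (σ (Ideal.Quotient.mk I (MvPolynomial.X j))) = s j
      rw [← hβ j, ← h1]
      rfl

end Groth.Agent.Lib.helper24.HenselSolutions

end
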