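import Mathlib
import Groth.Prelude.Def_PBC
import Groth.Agent.Lib.Helper24.IndEtaleCrit

/-!
# Existence of the colimit of a filtered family of étale algebras, in family language (helper24)
-/

set_option autoImplicit false

noncomputable section

namespace Groth.Agent.Lib.Helper24.IndEtaleColim

open CategoryTheory CategoryTheory.Limits
open Groth.Agent.Lib.Helper24.IndEtaleCrit

universe u

variable {A B ι : Type u} [CommRing A] [CommRing B] [Algebra A B]
    {C : ι → Type u} [∀ i, CommRing (C i)] [∀ i, Algebra A (C i)]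
    {φ : ∀ i, C i →ₐ[A] B}

/-- filteredness from binary upper bounds and coequalizers -/
theorem isFiltered' (hne : Nonempty ι)
    (hobj : ∀ i j, ∃ (k : ι) (ψ₁ : C i →ₐ[A] C k) (ψ₂ : C j →ₐ[A] C k),
      (φ k).comp ψ₁ = φ i ∧ (φ k).comp ψ₂ = φ j)
    (hcoeq : ∀ (i j : ι) (u v : C i →ₐ[A] C j), (φ j).comp u = φ i → (φ j).comp v = φ i →
      ∃ (k : ι) (w : C j →ₐ[A] C k), (φ k).comp w = φ j ∧ w.comp u = w.comp v) :
    IsFiltered (Obj C φ) := by
  have : IsFilteredOrEmpty (Obj C φ) := by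
    constructor
    · intro X Y
      obtain ⟨k, ψ₁, ψ₂, h₁, h₂⟩ := hobj X.i Y.i
      exact ⟨⟨k⟩, ⟨ψ₁, h₁⟩, ⟨ψ₂, h₂⟩, trivial⟩
    · intro X Y f g
      obtain ⟨k, w, hw, hwuv⟩ := hcoeq X.i Y.i f.1 g.1 f.2 g.2
      refine ⟨⟨k⟩, ⟨w, hw⟩, ?_⟩
      apply hom_ext
      rw [comp_val, comp_val]
      exact hwuv
  obtain ⟨i⟩ := hne
  exact { nonempty := ⟨⟨i⟩⟩ }

/-- The colimit of the family, with its comparison map to `B`. -/
theorem exists_colimit [IsFiltered (Obj C φ)] [∀ i, Algebra.Etale A (C i)] :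
    ∃ (L : Type u) (_ : CommRing L) (_ : Algebra A L) (lam : ∀ i, C i →ₐ[A] L) (π : L →ₐ[A] B),
      EtPBC.IsIndEtale A L ∧ (∀ i, π.comp (lam i) = φ i) ∧ (∀ l : L, ∃ i x, lam i x = l) ∧
      (∀ i x, lam i x = 0 → ∃ (j : ι) (ψ : C i →ₐ[A] C j), (φ j).comp ψ = φ i ∧ ψ x = 0) ∧
      (∀ i j (ψ : C i →ₐ[A] C j), (φ j).comp ψ = φ i → (lam j).comp ψ = lam i) := by
  let D' := D C φ
  let c : Cocone D' := colimit.cocone D'
  let hc : IsColimit c := colimit.isColimit D'
  let F : Obj C φ ⥤ CommRingCat.{u} := D' ⋙ Under.forget _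
  let c' : Cocone F := (Under.forget _).mapCocone c
  have hc' : IsColimit c' := isColimitOfPreserves (Under.forget _) hc
  let L : Type u := c.pt.right
  letI algL : Algebra A L := c.pt.hom.hom.toAlgebra
  let lam : ∀ i, C i →ₐ[A] L := fun i =>
    { toRingHom := (c.ι.app ⟨i⟩).right.hom
      commutes' := fun a =>
        congrArg (fun f : CommRingCat.of A ⟶ c.pt.right => f.hom a) (Under.w (c.ι.app ⟨i⟩)) }
  let d : c.pt ⟶ (cocone C φ).pt := hc.desc (cocone C φ)
  let π : L →ₐ[A] B :=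
    { toRingHom := d.right.hom
      commutes' := fun a =>
        congrArg (fun f : CommRingCat.of A ⟶ CommRingCat.of B => f.hom a) (Under.w d) }
  refine ⟨L, inferInstance, algL, lam, π, ?_, ?_, ?_, ?_, ?_⟩
  · refine ⟨Obj C φ, inferInstance, inferInstance, D', c, hc, ?_, ⟨?_⟩⟩
    · intro X
      exact etale_toAlgebra A (C X.i)
    · exact Under.isoMk (Iso.refl _) (by
        ext a
        rfl)
  · intro i
    ext x
    have := hc.fac (cocone C φ) ⟨i⟩
    exact congrArg (fun g : D'.obj ⟨i⟩ ⟶ (cocone C φ).pt => g.right.hom x) this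
  · intro l
    obtain ⟨j, y, hy⟩ := Limits.Concrete.isColimit_exists_rep F hc' l
    exact ⟨j.i, y, hy⟩
  · intro i x hx
    have h0 : c'.ι.app ⟨i⟩ x = c'.ι.app ⟨i⟩ (0 : C i) := by
      have : lam i x = lam i 0 := by rw [hx, map_zero]
      exact this
    obtain ⟨k, f, g, hfg⟩ := Limits.Concrete.isColimit_exists_of_rep_eq F hc' x (0 : C i) h0
    refine ⟨k.i, f.1, f.2, ?_⟩
    have h1 : f.1 x = g.1 0 := hfg
    rw [h1, map_zero]
  · intro i j ψ hψ
    ext x
    have := c.w (⟨ψ, hψ⟩ : (⟨i⟩ : Obj C φ) ⟶ ⟨j⟩)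
    exact congrArg (fun g : D'.obj ⟨i⟩ ⟶ c.pt => g.right.hom x) this

end Groth.Agent.Lib.Helper24.IndEtaleColim
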