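import Mathlib
import Groth.Prelude.Def_PBC
import Groth.Agent.Lib.Helper24.IndEtaleCrit
import Groth.Agent.Lib.Helper24.IndEtaleProps
import Groth.Agent.Lib.Helper24.IndEtaleColim
import Groth.Agent.Lib.Helper24.IndEtaleCancel
import Groth.Agent.Lib.Helper24.EtaleDescent

/-!
# Lifting ind-étale algebras along a quotient map (helper24)
-/

set_option autoImplicit false

noncomputable section

namespace Groth.Agent.Lib.Helper24.IndEtaleLift

open CategoryTheory CategoryTheory.Limits TensorProduct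
open Groth.Agent.Lib.Helper24.IndEtaleCrit Groth.Agent.Lib.Helper24.IndEtaleProps
open Groth.Agent.Lib.Helper24.IndEtaleColim Groth.Agent.Lib.Helper24.IndEtaleCancel

universe u

/-- the trivial family of an étale algebra -/
def trivialFamily (A B : Type u) [CommRing A] [CommRing B] [Algebra A B] [Algebra.Etale A B] :
    Family A B where
  ι := PUnit
  C := fun _ => B
  φ := fun _ => AlgHom.id A B
  hobj := fun _ _ => ⟨PUnit.unit, AlgHom.id A B, AlgHom.id A B, rfl, rfl⟩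
  hker := fun _ x hx => ⟨PUnit.unit, AlgHom.id A B, rfl, hx⟩
  hsurj := fun b => ⟨PUnit.unit, b, rfl⟩

theorem exists_one_tmul {A : Type u} [CommRing A] (I : Ideal A) {M : Type u} [AddCommGroup M]
    [Module A M] (x : (A ⧸ I) ⊗[A] M) : ∃ m : M, x = 1 ⊗ₜ m := by
  induction x using TensorProduct.induction_on with
  | zero => exact ⟨0, (TensorProduct.tmul_zero _ _).symm⟩
  | tmul r m =>
    obtain ⟨a, rfl⟩ := Ideal.Quotient.mk_surjective r
    refine ⟨a • m, ?_⟩
    rw [← TensorProduct.smul_tmul]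
    congr 1
    rw [Algebra.smul_def, mul_one]
    rfl
  | add x y hx hy =>
    obtain ⟨m, rfl⟩ := hx
    obtain ⟨n, rfl⟩ := hy
    exact ⟨m + n, (TensorProduct.tmul_add _ _ _).symm⟩

theorem coeq_general {A Ei Ej Cb : Type u} [CommRing A] [CommRing Ei] [CommRing Ej] [CommRing Cb]
    [Algebra A Ei] [Algebra.Etale A Ei] [Algebra A Ej] [Algebra.Etale A Ej] [Algebra A Cb]
    (fi : Ei →ₐ[A] Cb) (fj : Ej →ₐ[A] Cb) (u v : Ei →ₐ[A] Ej)
    (hu : fj.comp u = fi) (hv : fj.comp v = fi) :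
    ∃ (T : Type u) (_ : CommRing T) (_ : Algebra A T) (_ : Algebra.Etale A T) (g : T →ₐ[A] Cb)
      (w₀ : Ej →ₐ[A] T), g.comp w₀ = fj ∧ w₀.comp u = w₀.comp v := by
  let t := Algebra.FormallyUnramified.elem A Ei
  let θ : Ej := Algebra.TensorProduct.productMap u v t
  have hθ : fj θ = 1 := by
    have h1 : fj.comp (Algebra.TensorProduct.productMap u v) =
        fi.comp (Algebra.TensorProduct.lmul' A (S := Ei)) := by
      apply Algebra.TensorProduct.ext'
      intro a b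
      have h2 := congrArg (fun G : Ei →ₐ[A] Cb => G a) hu
      have h3 := congrArg (fun G : Ei →ₐ[A] Cb => G b) hv
      simp only [AlgHom.comp_apply] at h2 h3
      simp [h2, h3]
    have h4 := congrArg (fun G : Ei ⊗[A] Ei →ₐ[A] Cb => G t) h1
    simp only [AlgHom.comp_apply] at h4
    show fj (Algebra.TensorProduct.productMap u v t) = 1
    rw [h4, Algebra.FormallyUnramified.lmul_elem, map_one]
  let T := Localization.Away θ
  let g : T →ₐ[A] Cb :=
    IsLocalization.liftAlgHom (M := Submonoid.powers θ) (f := fj) (by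
      rintro ⟨_, n, rfl⟩
      show IsUnit (fj (θ ^ n))
      rw [map_pow, hθ, one_pow]
      exact isUnit_one)
  let w₀ : Ej →ₐ[A] T := IsScalarTower.toAlgHom A Ej T
  have hgw₀ : g.comp w₀ = fj := by
    ext a
    exact IsLocalization.lift_eq _ a
  refine ⟨T, inferInstance, inferInstance, inferInstance, g, w₀, hgw₀, ?_⟩
  ext a
  show w₀ (u a) = w₀ (v a)
  have h5 : ((1 : Ei) ⊗ₜ[A] a - a ⊗ₜ[A] (1 : Ei)) * t = 0 :=
    Algebra.FormallyUnramified.one_tmul_sub_tmul_one_mul_elem (R := A) (S := Ei) a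
  have h6 := congrArg (Algebra.TensorProduct.productMap u v) h5
  rw [map_mul, map_sub, map_zero, Algebra.TensorProduct.productMap_apply_tmul,
    Algebra.TensorProduct.productMap_apply_tmul, map_one, map_one, one_mul, mul_one] at h6
  have h7 : w₀ ((v a - u a) * θ) = 0 := by
    show w₀ ((v a - u a) * Algebra.TensorProduct.productMap u v t) = 0
    rw [h6, map_zero]
  have h8 : IsUnit (w₀ θ) :=
    IsLocalization.map_units T (⟨θ, 1, pow_one _⟩ : Submonoid.powers θ)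
  rw [map_mul] at h7
  have h9 : w₀ (v a - u a) = 0 := (h8.mul_left_eq_zero).1 h7
  rw [map_sub, sub_eq_zero] at h9
  exact h9.symm

theorem kill_general {A : Type u} [CommRing A] (I : Ideal A) {Cb : Type u} [CommRing Cb]
    [Algebra (A ⧸ I) Cb] [Algebra A Cb] [IsScalarTower A (A ⧸ I) Cb]
    (F : Family (A ⧸ I) Cb) {E : Type u} [CommRing E] [Algebra A E] [Algebra.Etale A E]
    (fE : E →ₐ[A] Cb) (e₀ : E) (h0 : fE e₀ = 0) :
    ∃ (E' : Type u) (_ : CommRing E') (_ : Algebra A E') (_ : Algebra.Etale A E')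
      (f' : E' →ₐ[A] Cb) (u₀ : E →ₐ[A] E'),
      f'.comp u₀ = fE ∧ u₀ e₀ ∈ I.map (algebraMap A E') := by
  let Eb := (A ⧸ I) ⊗[A] E
  let fb : Eb →ₐ[A ⧸ I] Cb :=
    Algebra.TensorProduct.lift (Algebra.ofId (A ⧸ I) Cb) fE (fun _ _ => Commute.all _ _)
  have hfb : ∀ e : E, fb (1 ⊗ₜ e) = fE e := by
    intro e
    show Algebra.TensorProduct.lift (Algebra.ofId (A ⧸ I) Cb) fE (fun _ _ => Commute.all _ _)
      (1 ⊗ₜ e) = fE e
    rw [Algebra.TensorProduct.lift_tmul, map_one, one_mul]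
  obtain ⟨i, gb, hgb⟩ := exists_factor F.C F.φ F.hobj F.hker F.hsurj Eb fb
  have h1 : F.φ i (gb (1 ⊗ₜ e₀)) = 0 := by
    have := congrArg (fun G : Eb →ₐ[A ⧸ I] Cb => G (1 ⊗ₜ e₀)) hgb
    simp only [AlgHom.comp_apply] at this
    rw [this, hfb, h0]
  obtain ⟨j, ψ, hψ, hψ0⟩ := F.hker i _ h1
  let gb' : Eb →ₐ[A ⧸ I] F.C j := ψ.comp gb
  have hgb' : (F.φ j).comp gb' = fb := by rw [← AlgHom.comp_assoc, hψ, hgb]
  have hgb'0 : gb' (1 ⊗ₜ e₀) = 0 := hψ0
  -- lift `F.C j`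
  obtain ⟨Z, -, hZ⟩ := Groth.Agent.Lib.Helper24.EtaleDescent.exists_finite_descent (A ⧸ I) (F.C j)
  obtain ⟨Cj', _, _, hCj', ⟨θj⟩⟩ := hZ A (fun z _ => Ideal.Quotient.mk_surjective z)
  let I' := I.map (algebraMap A Cj')
  let Q := Cj' ⧸ I'
  let ε : Q ≃ₐ[A ⧸ I] F.C j :=
    (Algebra.TensorProduct.quotIdealMapEquivQuotTensor Cj' I).trans θj
  let g₁ : E →ₐ[A] Q :=
    ((ε.symm.toAlgHom.comp gb').restrictScalars A).comp Algebra.TensorProduct.includeRight
  have hg₁def : ∀ e : E, g₁ e = ε.symm (gb' ((1 : A ⧸ I) ⊗ₜ[A] e)) := fun e => rfl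
  have hg₁ : ∀ e : E, ε (g₁ e) = gb' ((1 : A ⧸ I) ⊗ₜ[A] e) := by
    intro e
    rw [hg₁def, AlgEquiv.apply_symm_apply]
  have hg₁0 : g₁ e₀ = 0 := by
    rw [hg₁def, hgb'0, map_zero]
  let D := E ⊗[A] Cj'
  let T := E ⊗[A] Q
  let tq : T ≃ₐ[A] D ⧸ I'.map (Algebra.TensorProduct.includeRight (R := A) (A := E)) :=
    Algebra.TensorProduct.tensorQuotientEquiv (R := A) A Cj' E I'
  let q : D →ₐ[A] T := tq.symm.toAlgHom.comp (Ideal.Quotient.mkₐ A _)
  have hq : ∀ (e : E) (c : Cj'), q (e ⊗ₜ c) = e ⊗ₜ (Ideal.Quotient.mk I' c) := fun e c => rfl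
  have hqsurj : Function.Surjective q :=
    tq.symm.surjective.comp Ideal.Quotient.mk_surjective
  have hqker : ∀ d : D, q d = 0 → d ∈ I.map (algebraMap A D) := by
    intro d hd
    have h2 : Ideal.Quotient.mk _ d = (0 : D ⧸ I'.map
        (Algebra.TensorProduct.includeRight (R := A) (A := E))) := by
      apply tq.symm.injective
      rw [map_zero]
      exact hd
    have h3 : d ∈ I'.map (Algebra.TensorProduct.includeRight (R := A) (A := E)) :=
      Ideal.Quotient.eq_zero_iff_mem.1 h2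
    have h4 : I'.map (Algebra.TensorProduct.includeRight (R := A) (A := E)) ≤
        I.map (algebraMap A D) := by
      rw [Ideal.map_le_iff_le_comap]
      show I.map (algebraMap A Cj') ≤ _
      rw [Ideal.map_le_iff_le_comap]
      intro a ha
      rw [Ideal.mem_comap, Ideal.mem_comap, AlgHom.commutes]
      exact Ideal.mem_map_of_mem _ ha
    exact h4 h3
  obtain ⟨s', hs'1, hs'0⟩ := exists_annihilator (trivialFamily A E) g₁ (e₀ ⊗ₜ[A] (1 : Q))
  have hs'0' : s' * (e₀ ⊗ₜ[A] (1 : Q)) = 0 := by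
    rw [mulMap_tmul, hg₁0, zero_mul, TensorProduct.tmul_zero, sub_zero] at hs'0
    exact hs'0
  obtain ⟨s, hs⟩ := hqsurj s'
  have hz : s * (e₀ ⊗ₜ[A] (1 : Cj')) ∈ I.map (algebraMap A D) := by
    apply hqker
    rw [map_mul, hs, hq, map_one]
    exact hs'0'
  let φ'' : Q →ₐ[A] Cb := ((F.φ j).comp ε.toAlgHom).restrictScalars A
  let fD : D →ₐ[A] Cb := φ''.comp ((mulMap g₁).comp q)
  have hfD : ∀ d : D, fD d = φ'' (mulMap g₁ (q d)) := fun d => rfl
  have hφ'' : ∀ x : Q, φ'' x = F.φ j (ε x) := fun x => rfl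
  have hfDs : fD s = 1 := by
    rw [hfD, hs, hs'1, map_one]
  let E' := Localization.Away s
  let f' : E' →ₐ[A] Cb :=
    IsLocalization.liftAlgHom (M := Submonoid.powers s) (f := fD) (by
      rintro ⟨_, n, rfl⟩
      show IsUnit (fD (s ^ n))
      rw [map_pow, hfDs, one_pow]
      exact isUnit_one)
  let w₀ : D →ₐ[A] E' := IsScalarTower.toAlgHom A D E'
  have hf'w₀ : f'.comp w₀ = fD :=
    AlgHom.ext fun a => IsLocalization.lift_eq _ a
  let u₀ : E →ₐ[A] E' := w₀.comp Algebra.TensorProduct.includeLeft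
  refine ⟨E', inferInstance, inferInstance, ?_, f', u₀, ?_, ?_⟩
  · haveI : Algebra.Etale A D := Algebra.Etale.comp A E D
    exact Algebra.Etale.comp A D E'
  · rw [← AlgHom.comp_assoc, hf'w₀]
    refine AlgHom.ext fun e => ?_
    have h12 : (fD.comp Algebra.TensorProduct.includeLeft) e = fD (e ⊗ₜ[A] (1 : Cj')) := rfl
    rw [h12, hfD, hq, map_one, mulMap_tmul, mul_one, hφ'', hg₁]
    have := congrArg (fun G : Eb →ₐ[A ⧸ I] Cb => G ((1 : A ⧸ I) ⊗ₜ[A] e)) hgb'
    simp only [AlgHom.comp_apply] at this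
    rw [this, hfb]
  · have h8 : IsUnit (w₀ s) :=
      IsLocalization.map_units E' (⟨s, 1, pow_one _⟩ : Submonoid.powers s)
    have h9 : w₀ (s * (e₀ ⊗ₜ[A] (1 : Cj'))) ∈ I.map (algebraMap A E') := by
      have h10 : (I.map (algebraMap A D)).map (algebraMap D E') = I.map (algebraMap A E') := by
        rw [Ideal.map_map, ← IsScalarTower.algebraMap_eq]
      rw [← h10]
      exact Ideal.mem_map_of_mem _ hz
    rw [map_mul] at h9
    obtain ⟨v, hv⟩ := h8
    have h11 : u₀ e₀ = (↑v⁻¹ : E') * (w₀ s * w₀ (e₀ ⊗ₜ[A] (1 : Cj'))) := by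
      rw [← mul_assoc, ← hv, Units.inv_mul, one_mul]
      rfl
    rw [h11]
    exact Ideal.mul_mem_left _ _ h9

theorem surj_general {A : Type u} [CommRing A] (I : Ideal A) {Cb : Type u} [CommRing Cb]
    [Algebra (A ⧸ I) Cb] [Algebra A Cb] [IsScalarTower A (A ⧸ I) Cb]
    (F : Family (A ⧸ I) Cb) (cb : Cb) :
    ∃ (E' : Type u) (_ : CommRing E') (_ : Algebra A E') (_ : Algebra.Etale A E')
      (g : E' →ₐ[A] Cb) (e : E'), g e = cb := by
  obtain ⟨j, y, hy⟩ := F.hsurj cb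
  obtain ⟨Z, -, hZ⟩ := Groth.Agent.Lib.Helper24.EtaleDescent.exists_finite_descent (A ⧸ I) (F.C j)
  obtain ⟨Cj', _, _, hCj', ⟨θj⟩⟩ := hZ A (fun z _ => Ideal.Quotient.mk_surjective z)
  obtain ⟨c', hc'⟩ := exists_one_tmul I (θj.symm y)
  let g : Cj' →ₐ[A] Cb :=
    (((F.φ j).comp θj.toAlgHom).restrictScalars A).comp Algebra.TensorProduct.includeRight
  have hg : ∀ c : Cj', g c = F.φ j (θj ((1 : A ⧸ I) ⊗ₜ[A] c)) := fun c => rfl
  refine ⟨Cj', inferInstance, inferInstance, hCj', g, c', ?_⟩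
  rw [hg, ← hc', AlgEquiv.apply_symm_apply, hy]

section Main

variable (A : Type u) [CommRing A] (I : Ideal A) (Cb : Type u) [CommRing Cb] [Algebra (A ⧸ I) Cb]
  [Algebra A Cb] [IsScalarTower A (A ⧸ I) Cb]

/-- index type of the small category of étale `A`-algebras over `Cb` -/
abbrev Idx : Type u :=
  Σ (n : ℕ) (J : Ideal (MvPolynomial (Fin n) A)),
    {f : (MvPolynomial (Fin n) A ⧸ J) →ₐ[A] Cb // Algebra.Etale A (MvPolynomial (Fin n) A ⧸ J)}

/-- the algebras -/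
abbrev E (x : Idx A Cb) : Type u := MvPolynomial (Fin x.1) A ⧸ x.2.1

instance (x : Idx A Cb) : Algebra.Etale A (E A Cb x) := x.2.2.2

/-- the structure maps -/
abbrev f (x : Idx A Cb) : E A Cb x →ₐ[A] Cb := x.2.2.1

theorem exists_rep (T : Type u) [CommRing T] [Algebra A T] [Algebra.Etale A T] (g : T →ₐ[A] Cb) :
    ∃ (x : Idx A Cb) (e : T ≃ₐ[A] E A Cb x), (f A Cb x).comp e.toAlgHom = g := by
  obtain ⟨n, p, hp, -⟩ := Algebra.FinitePresentation.out (R := A) (A := T)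
  let e₀ : (MvPolynomial (Fin n) A ⧸ RingHom.ker p) ≃ₐ[A] T :=
    Ideal.quotientKerAlgEquivOfSurjective hp
  have het : Algebra.Etale A (MvPolynomial (Fin n) A ⧸ RingHom.ker p) :=
    Algebra.Etale.of_equiv e₀.symm
  refine ⟨⟨n, RingHom.ker p, ⟨g.comp e₀.toAlgHom, het⟩⟩, e₀.symm, ?_⟩
  ext t
  show g (e₀ (e₀.symm t)) = g t
  rw [AlgEquiv.apply_symm_apply]

theorem idx_nonempty : Nonempty (Idx A Cb) := by
  obtain ⟨x, -, -⟩ := exists_rep A Cb A (Algebra.ofId A Cb)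
  exact ⟨x⟩

theorem idx_hobj (x y : Idx A Cb) :
    ∃ (k : Idx A Cb) (ψ₁ : E A Cb x →ₐ[A] E A Cb k) (ψ₂ : E A Cb y →ₐ[A] E A Cb k),
      (f A Cb k).comp ψ₁ = f A Cb x ∧ (f A Cb k).comp ψ₂ = f A Cb y := by
  haveI : Algebra.Etale A (E A Cb x ⊗[A] E A Cb y) :=
    Algebra.Etale.comp A (E A Cb x) (E A Cb x ⊗[A] E A Cb y)
  obtain ⟨k, e, he⟩ := exists_rep A Cb (E A Cb x ⊗[A] E A Cb y)
    (Algebra.TensorProduct.productMap (f A Cb x) (f A Cb y))
  refine ⟨k, e.toAlgHom.comp Algebra.TensorProduct.includeLeft,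
    e.toAlgHom.comp Algebra.TensorProduct.includeRight, ?_, ?_⟩
  · rw [← AlgHom.comp_assoc, he]
    ext a
    simp
  · rw [← AlgHom.comp_assoc, he]
    ext a
    simp

theorem idx_hcoeq (i j : Idx A Cb) (u v : E A Cb i →ₐ[A] E A Cb j)
    (hu : (f A Cb j).comp u = f A Cb i) (hv : (f A Cb j).comp v = f A Cb i) :
    ∃ (k : Idx A Cb) (w : E A Cb j →ₐ[A] E A Cb k),
      (f A Cb k).comp w = f A Cb j ∧ w.comp u = w.comp v := by
  obtain ⟨T, _, _, _, g, w₀, hgw₀, hw₀⟩ := coeq_general (f A Cb i) (f A Cb j) u v hu hv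
  obtain ⟨k, e, he⟩ := exists_rep A Cb T g
  refine ⟨k, e.toAlgHom.comp w₀, ?_, ?_⟩
  · rw [← AlgHom.comp_assoc, he, hgw₀]
  · rw [AlgHom.comp_assoc, AlgHom.comp_assoc, hw₀]

instance idx_filtered : IsFiltered (Obj (E A Cb) (f A Cb)) :=
  isFiltered' (idx_nonempty A Cb) (idx_hobj A Cb) (idx_hcoeq A Cb)

theorem exists_lift (h : EtPBC.IsIndEtale (A ⧸ I) Cb) :
    ∃ (C : Type u) (_ : CommRing C) (_ : Algebra A C),
      EtPBC.IsIndEtale A C ∧ Nonempty ((C ⧸ I.map (algebraMap A C)) ≃ₐ[A ⧸ I] Cb) := by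
  obtain ⟨F⟩ := nonempty_family h
  obtain ⟨L, _, _, lam, π, hind, hπ, hsurj, hker, hcompat⟩ :=
    exists_colimit (C := E A Cb) (φ := f A Cb)
  have hπ' : ∀ i x, π (lam i x) = f A Cb i x := fun i x =>
    congrArg (fun G : E A Cb i →ₐ[A] Cb => G x) (hπ i)
  -- `π` kills `I L`
  have hIL : I.map (algebraMap A L) ≤ RingHom.ker π.toRingHom := by
    rw [Ideal.map_le_iff_le_comap]
    intro a ha
    rw [Ideal.mem_comap, RingHom.mem_ker]
    show π (algebraMap A L a) = 0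
    rw [AlgHom.commutes, IsScalarTower.algebraMap_apply A (A ⧸ I) Cb]
    have : algebraMap A (A ⧸ I) a = 0 := Ideal.Quotient.eq_zero_iff_mem.2 ha
    rw [this, map_zero]
  -- injectivity
  have hinj : ∀ l : L, π l = 0 → l ∈ I.map (algebraMap A L) := by
    intro l hl
    obtain ⟨x, e₀, rfl⟩ := hsurj l
    have h0 : f A Cb x e₀ = 0 := by rw [← hπ', hl]
    obtain ⟨E', _, _, _, f', u₀, hf'u₀, hu₀⟩ := kill_general I F (f A Cb x) e₀ h0
    obtain ⟨y, e', he'⟩ := exists_rep A Cb E' f'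
    let ψ : E A Cb x →ₐ[A] E A Cb y := e'.toAlgHom.comp u₀
    have hψ : (f A Cb y).comp ψ = f A Cb x := by
      rw [← AlgHom.comp_assoc, he', hf'u₀]
    have h1 := congrArg (fun G : E A Cb x →ₐ[A] L => G e₀) (hcompat x y ψ hψ)
    simp only [AlgHom.comp_apply] at h1
    rw [← h1]
    -- `ψ e₀ ∈ I (E y)`
    have h2 : ((lam y).comp e'.toAlgHom) (u₀ e₀) ∈ I.map (algebraMap A L) := by
      have h3 : (I.map (algebraMap A E')).map ((lam y).comp e'.toAlgHom).toRingHom =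
          I.map (algebraMap A L) := by
        rw [Ideal.map_map]
        congr 1
        exact ((lam y).comp e'.toAlgHom).comp_algebraMap
      rw [← h3]
      exact Ideal.mem_map_of_mem _ hu₀
    exact h2
  -- the induced map
  let πb₀ : L ⧸ I.map (algebraMap A L) →+* Cb :=
    Ideal.Quotient.lift (I.map (algebraMap A L)) π.toRingHom (fun a ha => hIL ha)
  let πb : (L ⧸ I.map (algebraMap A L)) →ₐ[A ⧸ I] Cb :=
    { πb₀ with
      commutes' := fun r => by
        obtain ⟨a, rfl⟩ := Ideal.Quotient.mk_surjective r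
        show π (algebraMap A L a) = algebraMap (A ⧸ I) Cb (Ideal.Quotient.mk I a)
        rw [AlgHom.commutes, IsScalarTower.algebraMap_apply A (A ⧸ I) Cb]
        rfl }
  have hπb : ∀ l : L, πb (Ideal.Quotient.mk _ l) = π l := fun l => rfl
  have hbij : Function.Bijective πb := by
    constructor
    · rw [injective_iff_map_eq_zero]
      intro z hz
      obtain ⟨l, rfl⟩ := Ideal.Quotient.mk_surjective z
      rw [hπb] at hz
      exact Ideal.Quotient.eq_zero_iff_mem.2 (hinj l hz)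
    · intro cb
      obtain ⟨E', _, _, _, g, e, hge⟩ := surj_general I F cb
      obtain ⟨y, e', he'⟩ := exists_rep A Cb E' g
      refine ⟨Ideal.Quotient.mk _ (lam y (e' e)), ?_⟩
      rw [hπb, hπ']
      have := congrArg (fun G : E' →ₐ[A] Cb => G e) he'
      simp only [AlgHom.comp_apply] at this
      exact this.trans hge
  exact ⟨L, inferInstance, inferInstance, hind, ⟨AlgEquiv.ofBijective πb hbij⟩⟩

end Main

end Groth.Agent.Lib.Helper24.IndEtaleLift
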