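import Mathlib
import Groth.Agent.Lib.Helper24.QuasiFiniteSplit
import Groth.Agent.Lib.Helper24.HenselSplitting
import Groth.Agent.Lib.Helper24.EtaleHomLift

/-!
# Unramified algebras over strictly henselian local rings
-/

open IsLocalRing TensorProduct

namespace Groth.Agent.Lib.Helper24.UnramifiedSplit

universe u

open Groth.Agent.Lib.helper24.HenselLocal Groth.Agent.Lib.Helper24.QuasiFiniteSplit
  Groth.Agent.Lib.Helper24.HenselSplitting Groth.Agent.Lib.Helper24.EtaleHomLift

section Idem

variable (R : Type*) {S : Type*} [CommRing R] [CommRing S] [Algebra R S]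

/-- decomposition of a ring along an idempotent. -/
noncomputable def prodEquivOfIdempotent (e : S) (he : IsIdempotentElem e) :
    S ≃ₐ[R] (S ⧸ Ideal.span ({1 - e} : Set S)) × (S ⧸ Ideal.span ({e} : Set S)) :=
  AlgEquiv.ofBijective
    ((Ideal.Quotient.mkₐ R (Ideal.span ({1 - e} : Set S))).prod
      (Ideal.Quotient.mkₐ R (Ideal.span ({e} : Set S)))) (by
    constructor
    · rw [injective_iff_map_eq_zero]
      intro x hx
      rw [AlgHom.prod_apply, Prod.mk_eq_zero, Ideal.Quotient.mkₐ_eq_mk, Ideal.Quotient.mkₐ_eq_mk,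
        Ideal.Quotient.eq_zero_iff_mem, Ideal.Quotient.eq_zero_iff_mem,
        Ideal.mem_span_singleton', Ideal.mem_span_singleton'] at hx
      obtain ⟨⟨a, ha⟩, ⟨b, hb⟩⟩ := hx
      have h1 : x = x * e := by
        rw [← hb, mul_assoc, he.eq]
      have h2 : x * e = 0 := by
        rw [← ha, mul_assoc, sub_mul, one_mul, he.eq, sub_self, mul_zero]
      rw [h1, h2]
    · rintro ⟨a, b⟩
      obtain ⟨a, rfl⟩ := Ideal.Quotient.mk_surjective a
      obtain ⟨b, rfl⟩ := Ideal.Quotient.mk_surjective b
      refine ⟨a * e + b * (1 - e), ?_⟩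
      rw [AlgHom.prod_apply, Ideal.Quotient.mkₐ_eq_mk, Ideal.Quotient.mkₐ_eq_mk, Prod.mk.injEq,
        Ideal.Quotient.eq, Ideal.Quotient.eq, Ideal.mem_span_singleton',
        Ideal.mem_span_singleton']
      exact ⟨⟨b - a, by ring⟩, ⟨a - b, by ring⟩⟩)

end Idem

theorem unramified_split (R : Type u) [CommRing R]
    [HenselianLocalRing R] [IsSepClosed (IsLocalRing.ResidueField R)] (S : Type u) [CommRing S]
    [Algebra R S] [Algebra.Unramified R S] :
    ∃ (ι : Type u) (_ : Fintype ι) (A : ι → Type u) (_ : ∀ i, CommRing (A i))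
      (_ : ∀ i, Algebra R (A i)) (B : Type u) (_ : CommRing B) (_ : Algebra R B),
      (∀ i, Function.Surjective (algebraMap R (A i))) ∧
      Ideal.map (algebraMap R B) (IsLocalRing.maximalIdeal R) = ⊤ ∧
      Nonempty (S ≃ₐ[R] ((∀ i, A i) × B)) := by
  have : Algebra.FormallyUnramified R S := Algebra.Unramified.formallyUnramified
  have : Algebra.FiniteType R S := Algebra.Unramified.finiteType
  have : Algebra.QuasiFinite R S := inferInstance
  obtain ⟨e, he, hfin, htop⟩ := exists_idempotent_split_quasiFinite R S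
  obtain ⟨ι, hι, A, hA, hloc, ⟨ε⟩⟩ := isPiLocal_of_finite R (S ⧸ Ideal.span ({1 - e} : Set S))
  let alg : ∀ i, Algebra R (A i) := fun i =>
    ((Pi.evalRingHom A i).comp (ε.toRingHom.comp
      (algebraMap R (S ⧸ Ideal.span ({1 - e} : Set S))))).toAlgebra
  let α : (S ⧸ Ideal.span ({1 - e} : Set S)) ≃ₐ[R] Π i, A i :=
    AlgEquiv.ofRingEquiv (f := ε) (fun a => rfl)
  refine ⟨ι, hι, A, hA, alg, S ⧸ Ideal.span ({e} : Set S), inferInstance, inferInstance, ?_, htop,
    ⟨(prodEquivOfIdempotent R e he).trans (AlgEquiv.prodCongr α AlgEquiv.refl)⟩⟩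
  intro i
  let p : (S ⧸ Ideal.span ({1 - e} : Set S)) →ₐ[R] A i := (Pi.evalAlgHom R A i).comp α.toAlgHom
  have hp : Function.Surjective p := (Function.surjective_eval i).comp α.surjective
  have : IsLocalRing (A i) := hloc i
  have : Module.Finite R (A i) := Module.Finite.of_surjective p.toLinearMap hp
  have : Algebra.FormallyUnramified R (S ⧸ Ideal.span ({1 - e} : Set S)) :=
    Algebra.FormallyUnramified.of_surjective (Ideal.Quotient.mkₐ R _)
      (Ideal.Quotient.mkₐ_surjective R _)
  have : Algebra.FormallyUnramified R (A i) := Algebra.FormallyUnramified.of_surjective p hp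
  have hjac := map_maximalIdeal_le_jacobson R (A i)
  rw [IsLocalRing.jacobson_eq_maximalIdeal ⊥ bot_ne_top] at hjac
  have hlh : IsLocalHom (algebraMap R (A i)) := by
    constructor
    intro r hu
    by_contra hr
    have h1 : algebraMap R (A i) r ∈ maximalIdeal (A i) :=
      hjac (Ideal.mem_map_of_mem _ ((mem_maximalIdeal r).2 hr))
    exact (mem_maximalIdeal _).1 h1 hu
  apply surjective_algebraMap_of_finite_unramified
  rw [IsScalarTower.algebraMap_eq R (ResidueField R) (ResidueField (A i))]
  exact (IsSepClosed.algebraMap_surjective (ResidueField R) (ResidueField (A i))).comp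
    residue_surjective

end Groth.Agent.Lib.Helper24.UnramifiedSplit
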