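import Mathlib
import Groth.Prelude.Def_W4c2azumayainvolQEt
import Groth.Agent.Lib.Helper24.IntegralHensel
import Groth.Agent.Lib.Helper24.FixedFieldHensel
import Groth.Agent.Lib.Helper24.UnramifiedSplit

/-!
# Rings with involution whose fixed ring is strictly henselian
-/

set_option autoImplicit false
open IsLocalRing Polynomial

universe u v

namespace Groth.Agent.Lib.Helper24.InvolutionHensel

open Groth.Agent.Lib.helper24.HenselLocal

/-- The henselian property transfers along ring isomorphisms. -/
theorem henselian_of_ringEquiv {A : Type*} {B : Type*} [CommRing A] [CommRing B] (e : A ≃+* B)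
    [HenselianLocalRing A] : HenselianLocalRing B := by
  haveI : IsLocalRing B := e.isLocalRing
  haveI : IsLocalHom (e.symm : B →+* A) := inferInstance
  refine Groth.Agent.Lib.Helper24.FixedFieldHensel.henselian_of_invariants (e.symm : B →+* A)
    e.symm.injective ∅ (fun σ hσ => absurd hσ (Set.notMem_empty σ))
    (fun σ hσ => absurd hσ (Set.notMem_empty σ)) (fun c _ _ => ⟨e c, e.symm_apply_apply c⟩)

/-- A local ring integral over a henselian local ring is henselian (universe polymorphic). -/
theorem henselian_of_isIntegral' (A : Type u) (B : Type v) [CommRing A] [HenselianLocalRing A]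
    [CommRing B] [IsLocalRing B] [Algebra A B] [Algebra.IsIntegral A B] :
    HenselianLocalRing B := by
  haveI : HenselianLocalRing (ULift.{v} A) := henselian_of_ringEquiv (ULift.ringEquiv (R := A)).symm
  haveI : IsLocalRing (ULift.{u} B) := (ULift.ringEquiv (R := B)).symm.isLocalRing
  let f : ULift.{v} A →+* ULift.{u} B :=
    ((ULift.ringEquiv (R := B)).symm : B →+* ULift.{u} B).comp
      ((algebraMap A B).comp ((ULift.ringEquiv (R := A)) : ULift.{v} A →+* A))
  letI : Algebra (ULift.{v} A) (ULift.{u} B) := f.toAlgebra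
  have hf : f.IsIntegral := by
    refine RingHom.IsIntegral.trans _ _ (RingHom.IsIntegral.trans _ _ ?_ ?_) ?_
    · exact RingHom.isIntegral_of_surjective _ (ULift.ringEquiv (R := A)).surjective
    · exact algebraMap_isIntegral_iff.mpr inferInstance
    · exact RingHom.isIntegral_of_surjective _ (ULift.ringEquiv (R := B)).symm.surjective
  haveI : Algebra.IsIntegral (ULift.{v} A) (ULift.{u} B) := algebraMap_isIntegral_iff.mp hf
  haveI := Groth.Agent.Lib.Helper24.IntegralHensel.henselian_of_isIntegral (ULift.{v} A)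
    (ULift.{u} B)
  exact henselian_of_ringEquiv (ULift.ringEquiv (R := B))

section Integral

variable {R : Type u} [CommRing R] {S : Type v} [CommRing S] [Algebra R S]
  [Algebra.IsIntegral R S]

theorem mem_maximalIdeal_of_algebraMap_mem' [IsLocalRing R] (M : Ideal S) [hM : M.IsMaximal]
    {r : R} (hr : algebraMap R S r ∈ M) : r ∈ maximalIdeal R := by
  have h1 : (M.comap (algebraMap R S)).IsMaximal :=
    Ideal.isMaximal_comap_of_isIntegral_of_isMaximal M
  rw [← IsLocalRing.eq_maximalIdeal h1]
  exact hr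

theorem eval_residue_eq_zero' [IsLocalRing R] (M : Ideal S) [hM : M.IsMaximal] {b : S} {c : R}
    (hbc : b - algebraMap R S c ∈ M) {G : R[X]} (hG : aeval b G ∈ M) :
    (G.map (residue R)).eval (residue R c) = 0 := by
  have h1 : aeval b G - aeval (algebraMap R S c) G ∈ M := by
    have h2 := Polynomial.sub_dvd_eval_sub b (algebraMap R S c) (G.map (algebraMap R S))
    rw [Polynomial.eval_map_algebraMap, Polynomial.eval_map_algebraMap] at h2
    obtain ⟨w, hw⟩ := h2
    rw [hw]
    exact Ideal.mul_mem_right _ _ hbc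
  have h3 : aeval (algebraMap R S c) G ∈ M := by
    have := M.sub_mem hG h1
    rwa [sub_sub_cancel] at this
  rw [Polynomial.aeval_algebraMap_apply] at h3
  have h4 := mem_maximalIdeal_of_algebraMap_mem' M h3
  rw [Polynomial.eval_map_apply]
  exact (residue_eq_zero_iff _).2 h4

theorem exists_idempotent_separating' [HenselianLocalRing R] (M₁ M₂ : Ideal S)
    [hM₁ : M₁.IsMaximal] [hM₂ : M₂.IsMaximal] (hne : M₁ ≠ M₂) :
    ∃ e : S, IsIdempotentElem e ∧ 1 - e ∈ M₁ ∧ e ∈ M₂ := by
  have hint : Algebra.IsIntegral R S := inferInstance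
  have hsup : M₁ ⊔ M₂ = ⊤ := Ideal.IsMaximal.coprime_of_ne hM₁ hM₂ hne
  obtain ⟨b, hb, y, hy, hby⟩ := Submodule.mem_sup.1 (hsup ▸ Submodule.mem_top : (1 : S) ∈ M₁ ⊔ M₂)
  have hb0 : b - algebraMap R S 0 ∈ M₁ := by rw [map_zero, sub_zero]; exact hb
  have hb1 : b - algebraMap R S 1 ∈ M₂ := by
    rw [map_one, ← hby]; simpa using neg_mem hy
  obtain ⟨F, hFm, hF0⟩ := hint.isIntegral b
  have hFb : aeval b F = 0 := hF0
  set Fb := F.map (residue R) with hFbdef
  have hFbm : Fb.Monic := hFm.map _
  obtain ⟨hbar, hfac, hndvd⟩ :=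
    Polynomial.exists_eq_pow_rootMultiplicity_mul_and_not_dvd Fb hFbm.ne_zero 0
  rw [map_zero, sub_zero] at hfac hndvd
  set r := Fb.rootMultiplicity 0 with hr
  have hXr : (X ^ r : (ResidueField R)[X]).Monic := monic_X_pow r
  have hhm : hbar.Monic := hXr.of_mul_monic_left (hfac ▸ hFbm)
  have hcop : IsCoprime (X ^ r : (ResidueField R)[X]) hbar :=
    IsCoprime.pow_left ((Polynomial.irreducible_X).coprime_iff_not_dvd.2 hndvd)
  obtain ⟨G, H, hGm, hHm, hFGH, hGmap, hHmap, u, v, huv⟩ :=
    exists_monic_factorization F hFm (X ^ r) hbar hXr hhm hcop hfac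
  have hGH : aeval b G * aeval b H = 0 := by rw [← map_mul, ← hFGH, hFb]
  have hG1 : aeval b G ∈ M₁ := by
    rcases (hM₁.isPrime.mem_or_mem (hGH ▸ M₁.zero_mem : aeval b G * aeval b H ∈ M₁)) with h | h
    · exact h
    · exfalso
      have h1 := eval_residue_eq_zero' M₁ hb0 h
      rw [hHmap, map_zero] at h1
      exact hndvd (Polynomial.X_dvd_iff.2 (by rw [Polynomial.coeff_zero_eq_eval_zero, h1]))
  have hH2 : aeval b H ∈ M₂ := by
    rcases (hM₂.isPrime.mem_or_mem (hGH ▸ M₂.zero_mem : aeval b G * aeval b H ∈ M₂)) with h | h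
    · exfalso
      have h1 := eval_residue_eq_zero' M₂ hb1 h
      rw [hGmap, map_one, Polynomial.eval_pow, Polynomial.eval_X, one_pow] at h1
      exact one_ne_zero h1
    · exact h
  have hsum : aeval b (u * G) + aeval b (v * H) = 1 := by
    rw [← map_add, huv, map_one]
  refine ⟨aeval b (v * H), ?_, ?_, ?_⟩
  · have h1 : aeval b (v * H) * aeval b (u * G) = 0 := by
      rw [map_mul, map_mul]
      calc aeval b v * aeval b H * (aeval b u * aeval b G)
          = aeval b v * aeval b u * (aeval b G * aeval b H) := by ring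
        _ = 0 := by rw [hGH, mul_zero]
    show aeval b (v * H) * aeval b (v * H) = aeval b (v * H)
    have h2 : aeval b (v * H) = 1 - aeval b (u * G) := by rw [← hsum]; ring
    calc aeval b (v * H) * aeval b (v * H)
        = aeval b (v * H) * (1 - aeval b (u * G)) := by rw [← h2]
      _ = aeval b (v * H) := by rw [mul_sub, mul_one, h1, sub_zero]
  · have h2 : 1 - aeval b (v * H) = aeval b (u * G) := by rw [← hsum]; ring
    rw [h2, map_mul]
    exact Ideal.mul_mem_left _ _ hG1
  · rw [map_mul]
    exact Ideal.mul_mem_left _ _ hH2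

end Integral

section Involution

variable (S : Type u) (R : Type v) [CommRing S] [CommRing R] [Algebra S R] (lam : R ≃+* R)
  (hlam : Function.Involutive lam) (hS : RInv.IsFixedRing S R lam)

include hlam hS in
theorem isIntegral_of_fixedRing : Algebra.IsIntegral S R := by
  refine ⟨fun r => ?_⟩
  obtain ⟨s₁, hs₁⟩ := (hS.2 (r + lam r)).1 (by rw [map_add, hlam r, add_comm])
  obtain ⟨s₂, hs₂⟩ := (hS.2 (r * lam r)).1 (by rw [map_mul, hlam r, mul_comm])
  refine ⟨X ^ 2 + (C (-s₁) * X + C s₂),
    Polynomial.monic_X_pow_add (lt_of_le_of_lt (Polynomial.degree_linear_le) (by norm_num)), ?_⟩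
  rw [eval₂_add, eval₂_add, eval₂_mul, eval₂_pow, eval₂_X, eval₂_C, eval₂_C, map_neg, hs₁, hs₂]
  ring

include hlam hS in
theorem eq_or_eq_of_isMaximal [IsLocalRing S] (M N : Ideal R) [hM : M.IsMaximal]
    [hN : N.IsMaximal] : N = M ∨ N = M.comap (lam : R →+* R) := by
  haveI := isIntegral_of_fixedRing S R lam hlam hS
  haveI hM' : (M.comap (lam : R →+* R)).IsMaximal :=
    Ideal.comap_isMaximal_of_surjective _ lam.surjective
  by_contra hcon
  push Not at hcon
  have h1 : ¬ ((N : Set R) ⊆ (M : Set R) ∪ (M.comap (lam : R →+* R) : Set R)) := by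
    intro h
    rcases Ideal.subset_union.1 h with h | h
    · exact hcon.1 (hN.eq_of_le hM.ne_top h)
    · exact hcon.2 (hN.eq_of_le hM'.ne_top h)
  rw [Set.not_subset] at h1
  obtain ⟨x, hxN, hx⟩ := h1
  rw [Set.mem_union, not_or] at hx
  obtain ⟨hxM, hxM'⟩ := hx
  obtain ⟨s, hs⟩ := (hS.2 (x * lam x)).1 (by rw [map_mul, hlam x, mul_comm])
  have hsN : algebraMap S R s ∈ N := by rw [hs]; exact N.mul_mem_right _ hxN
  have hsm : s ∈ maximalIdeal S := mem_maximalIdeal_of_algebraMap_mem' N hsN
  have hsM : algebraMap S R s ∈ M := by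
    have h1 : (M.comap (algebraMap S R)).IsMaximal :=
      Ideal.isMaximal_comap_of_isIntegral_of_isMaximal M
    have h2 := IsLocalRing.eq_maximalIdeal h1
    have : s ∈ M.comap (algebraMap S R) := by rw [h2]; exact hsm
    exact this
  rw [hs] at hsM
  rcases hM.isPrime.mem_or_mem hsM with h | h
  · exact hxM h
  · exact hxM' h

/-- A quotient by an ideal contained in a unique maximal ideal is local. -/
theorem isLocalRing_quotient_of_unique {R : Type*} [CommRing R] (I M : Ideal R) [hM : M.IsMaximal]
    (hIM : I ≤ M) (huniq : ∀ N : Ideal R, N.IsMaximal → I ≤ N → N = M) : IsLocalRing (R ⧸ I) := by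
  haveI : Nontrivial (R ⧸ I) :=
    Ideal.Quotient.nontrivial_iff.2 (fun h => hM.ne_top (top_le_iff.1 (h ▸ hIM)))
  refine IsLocalRing.of_unique_max_ideal ⟨M.map (Ideal.Quotient.mk I), ?_, ?_⟩
  · have := Ideal.map_eq_top_or_isMaximal_of_surjective (Ideal.Quotient.mk I)
      Ideal.Quotient.mk_surjective hM
    rcases this with h | h
    · exfalso
      have h2 : (M.map (Ideal.Quotient.mk I)).comap (Ideal.Quotient.mk I) = M := by
        rw [Ideal.comap_map_of_surjective _ Ideal.Quotient.mk_surjective, ← RingHom.ker_eq_comap_bot,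
          Ideal.mk_ker, sup_eq_left]
        exact hIM
      rw [h, Ideal.comap_top] at h2
      exact hM.ne_top h2.symm
    · exact h
  · intro N' hN'
    have h1 : (N'.comap (Ideal.Quotient.mk I)).IsMaximal :=
      Ideal.comap_isMaximal_of_surjective _ Ideal.Quotient.mk_surjective
    have h2 : I ≤ N'.comap (Ideal.Quotient.mk I) := by
      intro x hx
      rw [Ideal.mem_comap, Ideal.Quotient.eq_zero_iff_mem.2 hx]
      exact N'.zero_mem
    have h3 := huniq _ h1 h2
    rw [← h3, Ideal.map_comap_of_surjective _ Ideal.Quotient.mk_surjective]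

theorem exists_ringEquiv_pi_henselian (S : Type u) (R : Type v) [CommRing S] [CommRing R]
    [Algebra S R] (lam : R ≃+* R) (hlam : Function.Involutive lam) (hS : RInv.IsFixedRing S R lam)
    [HenselianLocalRing S] [IsSepClosed (IsLocalRing.ResidueField S)] :
    ∃ (ι : Type) (_ : Fintype ι) (T : ι → Type v) (_ : ∀ i, CommRing (T i))
      (_ : ∀ i, HenselianLocalRing (T i)),
      (∀ i, IsSepClosed (IsLocalRing.ResidueField (T i))) ∧ Nonempty (R ≃+* (∀ i, T i)) := by
  haveI hint := isIntegral_of_fixedRing S R lam hlam hS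
  haveI : Nontrivial R := hS.1.nontrivial
  obtain ⟨M, hM⟩ := Ideal.exists_maximal R
  haveI := hM
  set M' := M.comap (lam : R →+* R) with hM'def
  haveI hM' : M'.IsMaximal := Ideal.comap_isMaximal_of_surjective _ lam.surjective
  have key : ∀ I : Ideal R, IsLocalRing (R ⧸ I) →
      ∃ _ : HenselianLocalRing (R ⧸ I), IsSepClosed (ResidueField (R ⧸ I)) := by
    intro I hloc
    haveI := hloc
    have hH : HenselianLocalRing (R ⧸ I) := henselian_of_isIntegral' S (R ⧸ I)
    refine ⟨hH, ?_⟩
    haveI : IsLocalHom (algebraMap S (R ⧸ I)) :=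
      Groth.Agent.Lib.Helper24.IntegralHensel.isLocalHom_of_isIntegral S (R ⧸ I)
    exact (Groth.Agent.Lib.Helper24.IntegralHensel.residueField_of_isSepClosed S (R ⧸ I)).1
  by_cases hMM : M' = M
  · have hloc : IsLocalRing R := IsLocalRing.of_unique_max_ideal ⟨M, hM, fun N hN => by
      haveI := hN
      rcases eq_or_eq_of_isMaximal S R lam hlam hS M N with h | h
      · exact h
      · rw [h]; exact hMM⟩
    haveI := hloc
    have hH : HenselianLocalRing R := henselian_of_isIntegral' S R
    haveI : IsLocalHom (algebraMap S R) :=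
      Groth.Agent.Lib.Helper24.IntegralHensel.isLocalHom_of_isIntegral S R
    refine ⟨Unit, inferInstance, fun _ => R, fun _ => inferInstance, fun _ => hH, fun _ => ?_,
      ⟨(RingEquiv.piUnique (fun _ : Unit => R)).symm⟩⟩
    exact (Groth.Agent.Lib.Helper24.IntegralHensel.residueField_of_isSepClosed S R).1
  · obtain ⟨e, he, h1e, heM'⟩ := exists_idempotent_separating' (R := S) M M' (Ne.symm hMM)
    have hloc0 : IsLocalRing (R ⧸ Ideal.span ({1 - e} : Set R)) :=
      isLocalRing_quotient_of_unique _ M
        ((Ideal.span_singleton_le_iff_mem _).2 h1e) (fun N hN hle => by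
        haveI := hN
        rcases eq_or_eq_of_isMaximal S R lam hlam hS M N with h | h
        · exact h
        · exfalso
          have h1 : 1 - e ∈ M' := by
            have h0 := hle (Ideal.subset_span (Set.mem_singleton (1 - e)))
            rw [h] at h0
            exact h0
          have h2 : (1 : R) ∈ M' := by
            have := M'.add_mem h1 heM'
            rwa [sub_add_cancel] at this
          exact hM'.ne_top ((Ideal.eq_top_iff_one _).2 h2))
    have hloc1 : IsLocalRing (R ⧸ Ideal.span ({e} : Set R)) :=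
      isLocalRing_quotient_of_unique _ M'
        ((Ideal.span_singleton_le_iff_mem _).2 heM') (fun N hN hle => by
        haveI := hN
        rcases eq_or_eq_of_isMaximal S R lam hlam hS M N with h | h
        · exfalso
          have h1 : e ∈ M := by
            have h0 := hle (Ideal.subset_span (Set.mem_singleton e))
            rw [h] at h0
            exact h0
          have h2 : (1 : R) ∈ M := by
            have := M.add_mem h1e h1
            rwa [sub_add_cancel] at this
          exact hM.ne_top ((Ideal.eq_top_iff_one _).2 h2)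
        · exact h)
    let I : Fin 2 → Ideal R := ![Ideal.span {1 - e}, Ideal.span {e}]
    have hk : ∀ i : Fin 2, ∃ _ : HenselianLocalRing (R ⧸ I i),
        IsSepClosed (ResidueField (R ⧸ I i)) :=
      Fin.forall_fin_two.2 ⟨key _ hloc0, key _ hloc1⟩
    refine ⟨Fin 2, inferInstance, fun i => R ⧸ I i, fun i => inferInstance,
      fun i => (hk i).choose, fun i => (hk i).choose_spec, ⟨?_⟩⟩
    exact (Groth.Agent.Lib.Helper24.UnramifiedSplit.prodEquivOfIdempotent S e he).toRingEquiv.trans
      (RingEquiv.piFinTwo (fun i => R ⧸ I i)).symm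

end Involution

end Groth.Agent.Lib.Helper24.InvolutionHensel
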