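import Groth.Prelude.Def_Isoc
import Mathlib.RingTheory.Nakayama
import Mathlib.RingTheory.Noetherian.Basic
import Mathlib.RingTheory.LocalRing.MaximalIdeal.Basic

/-!
Helper lemmas on `Isoc.pPow`, `Isoc.latImg` and lattices over Witt vectors (helper24).
-/

set_option autoImplicit false

noncomputable section

open scoped Pointwise Isocrystal

universe u v

namespace Groth.Agent.Lib.helper24.IsocLib

variable {p : ℕ} [Fact p.Prime] {k : Type u} [Field k] [CharP k p]
variable {N : Type v} [AddCommGroup N] [Module (WittVector p k) N] [Module K(p, k) N]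
  [IsScalarTower (WittVector p k) K(p, k) N]
variable {τ : K(p, k) →+* K(p, k)}

theorem p_ne_zero : (p : K(p, k)) ≠ 0 := by
  have h : (p : K(p, k)) = algebraMap (WittVector p k) K(p, k) (p : WittVector p k) := by
    simp
  rw [h, Ne, map_eq_zero_iff _ (IsFractionRing.injective (WittVector p k) K(p, k))]
  exact WittVector.p_nonzero p k

theorem mem_pPow {r : ℤ} {M : Submodule (WittVector p k) N} {x : N} :
    x ∈ Isoc.pPow r M ↔ ∃ m ∈ M, ((p : K(p, k)) ^ r) • m = x := by
  unfold Isoc.pPow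
  exact Submodule.mem_smul_pointwise_iff_exists _ _ _

theorem pPow_zero (M : Submodule (WittVector p k) N) : Isoc.pPow 0 M = M := by
  unfold Isoc.pPow
  rw [zpow_zero, one_smul]

theorem pPow_pPow (r s : ℤ) (M : Submodule (WittVector p k) N) :
    Isoc.pPow r (Isoc.pPow s M) = Isoc.pPow (r + s) M := by
  unfold Isoc.pPow
  rw [smul_smul, zpow_add₀ p_ne_zero]

theorem pPow_mono (r : ℤ) {M M' : Submodule (WittVector p k) N} (h : M ≤ M') :
    Isoc.pPow r M ≤ Isoc.pPow r M' := by
  intro x hx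
  rw [mem_pPow] at hx ⊢
  obtain ⟨m, hm, rfl⟩ := hx
  exact ⟨m, h hm, rfl⟩

theorem pPow_natCast_le (n : ℕ) (M : Submodule (WittVector p k) N) :
    Isoc.pPow (n : ℤ) M ≤ M := by
  intro x hx
  rw [mem_pPow] at hx
  obtain ⟨m, hm, rfl⟩ := hx
  have : ((p : K(p, k)) ^ (n : ℤ)) • m = ((p : WittVector p k) ^ n) • m := by
    rw [zpow_natCast, ← algebraMap_smul K(p, k) ((p : WittVector p k) ^ n) m]
    simp
  rw [this]
  exact M.smul_mem _ hm

theorem pPow_le_of_le {r s : ℤ} (h : s ≤ r) (M : Submodule (WittVector p k) N) :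
    Isoc.pPow r M ≤ Isoc.pPow s M := by
  obtain ⟨n, hn⟩ := Int.le.dest h
  have : r = s + (n : ℤ) := hn.symm
  rw [this, ← pPow_pPow]
  exact pPow_mono s (pPow_natCast_le n M)

theorem pPow_sup (r : ℤ) (M₁ M₂ : Submodule (WittVector p k) N) :
    Isoc.pPow r (M₁ ⊔ M₂) = Isoc.pPow r M₁ ⊔ Isoc.pPow r M₂ := by
  apply le_antisymm
  · intro x hx
    rw [mem_pPow] at hx
    obtain ⟨m, hm, rfl⟩ := hx
    obtain ⟨a, ha, b, hb, rfl⟩ := Submodule.mem_sup.mp hm
    rw [smul_add]
    exact Submodule.add_mem_sup (mem_pPow.mpr ⟨a, ha, rfl⟩) (mem_pPow.mpr ⟨b, hb, rfl⟩)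
  · exact sup_le (pPow_mono r le_sup_left) (pPow_mono r le_sup_right)

theorem pPow_bot (r : ℤ) : Isoc.pPow r (⊥ : Submodule (WittVector p k) N) = ⊥ := by
  rw [eq_bot_iff]
  intro x hx
  rw [mem_pPow] at hx
  obtain ⟨m, hm, rfl⟩ := hx
  rw [Submodule.mem_bot] at hm
  rw [hm, smul_zero]
  exact Submodule.zero_mem _

theorem latImg_mono (F : N →ₛₗ[τ] N) (s : ℕ) {M M' : Submodule (WittVector p k) N} (h : M ≤ M') :
    Isoc.latImg F s M ≤ Isoc.latImg F s M' := by
  unfold Isoc.latImg
  exact Submodule.span_mono (Set.image_mono h)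

theorem iterate_smul_pPow (F : N →ₛₗ[τ] N) (s : ℕ) (r : ℤ) (x : N) :
    (⇑F)^[s] (((p : K(p, k)) ^ r) • x) = ((p : K(p, k)) ^ r) • (⇑F)^[s] x := by
  have h := (Isoc.iter F s).map_smulₛₗ ((p : K(p, k)) ^ r) x
  rw [Isoc.coe_iter] at h
  rw [h, map_zpow₀, map_natCast]

theorem latImg_pPow_le (F : N →ₛₗ[τ] N) (s : ℕ) (r : ℤ) (M : Submodule (WittVector p k) N) :
    Isoc.latImg F s (Isoc.pPow r M) ≤ Isoc.pPow r (Isoc.latImg F s M) := by
  unfold Isoc.latImg
  rw [Submodule.span_le]
  rintro _ ⟨x, hx, rfl⟩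
  rw [SetLike.mem_coe, mem_pPow] at hx
  obtain ⟨m, hm, rfl⟩ := hx
  rw [iterate_smul_pPow, SetLike.mem_coe, mem_pPow]
  exact ⟨_, Submodule.subset_span ⟨m, hm, rfl⟩, rfl⟩

theorem pPow_le_pPow_iff (r : ℤ) {M M' : Submodule (WittVector p k) N} :
    Isoc.pPow r M ≤ Isoc.pPow r M' ↔ M ≤ M' := by
  refine ⟨fun h => ?_, pPow_mono r⟩
  have := pPow_mono (-r) h
  rwa [pPow_pPow, pPow_pPow, neg_add_cancel, pPow_zero, pPow_zero] at this

theorem pPow_span (r : ℤ) (s : Set N) :
    Isoc.pPow r (Submodule.span (WittVector p k) s) =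
      Submodule.span (WittVector p k) ((fun x => ((p : K(p, k)) ^ r) • x) '' s) := by
  apply le_antisymm
  · intro x hx
    rw [mem_pPow] at hx
    obtain ⟨m, hm, rfl⟩ := hx
    induction hm using Submodule.span_induction with
    | mem x hx => exact Submodule.subset_span ⟨x, hx, rfl⟩
    | zero => simp
    | add x y _ _ ihx ihy => rw [smul_add]; exact Submodule.add_mem _ ihx ihy
    | smul w x _ ihx => rw [smul_comm]; exact Submodule.smul_mem _ _ ihx
  · rw [Submodule.span_le]
    rintro _ ⟨x, hx, rfl⟩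
    rw [SetLike.mem_coe, mem_pPow]
    exact ⟨x, Submodule.subset_span hx, rfl⟩

/-- iterates of the twisted iterate `p^m • F^n` -/
theorem iterate_smul_iter (F : N →ₛₗ[τ] N) (m : ℤ) (n j : ℕ) (x : N) :
    (⇑(((p : K(p, k)) ^ m) • Isoc.iter F n))^[j] x =
      ((p : K(p, k)) ^ (m * j)) • (⇑F)^[n * j] x := by
  induction j generalizing x with
  | zero => simp
  | succ j ih =>
    rw [Function.iterate_succ_apply', ih, LinearMap.smul_apply, Isoc.coe_iter, iterate_smul_pPow,
      smul_smul, ← Function.iterate_add_apply, ← zpow_add₀ p_ne_zero]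
    congr 2
    · push_cast; ring
    · ring

theorem latImg_smul_iter (F : N →ₛₗ[τ] N) (m : ℤ) (n j : ℕ) (M : Submodule (WittVector p k) N) :
    Isoc.latImg (((p : K(p, k)) ^ m) • Isoc.iter F n) j M =
      Isoc.pPow (m * j) (Isoc.latImg F (n * j) M) := by
  unfold Isoc.latImg
  rw [pPow_span, Set.image_image]
  congr 1
  ext y
  simp only [Set.mem_image, iterate_smul_iter]

/-- An injective semilinear endomorphism (with surjective twist) of a finite-dimensional vector
space is surjective. -/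
theorem semilinear_surjective_of_injective {L : Type*} [Field L] {σ : L →+* L}
    (hσ : Function.Surjective σ) {V : Type*} [AddCommGroup V] [Module L V] [FiniteDimensional L V]
    (F : V →ₛₗ[σ] V) (hinj : Function.Injective F) : Function.Surjective F := by
  classical
  set n := Module.finrank L V with hn
  let b := Module.finBasis L V
  have hli : LinearIndependent L (fun i => F (b i)) := by
    rw [linearIndependent_iff']
    intro s g hg i hi
    choose d hd using fun i => hσ (g i)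
    have h1 : F (∑ i ∈ s, d i • b i) = 0 := by
      rw [map_sum, ← hg]
      refine Finset.sum_congr rfl fun i _ => ?_
      rw [F.map_smulₛₗ, hd]
    have h2 : ∑ i ∈ s, d i • b i = 0 := hinj (by rw [h1, map_zero])
    have h3 := (linearIndependent_iff'.mp b.linearIndependent) s d h2 i hi
    rw [← hd i, h3, map_zero]
  have hspan : Submodule.span L (Set.range fun i => F (b i)) = ⊤ :=
    hli.span_eq_top_of_card_eq_finrank' (by simp)
  intro y
  have hy : y ∈ Submodule.span L (Set.range fun i => F (b i)) := hspan ▸ Submodule.mem_top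
  induction hy using Submodule.span_induction with
  | mem y hy => obtain ⟨i, rfl⟩ := hy; exact ⟨b i, rfl⟩
  | zero => exact ⟨0, map_zero F⟩
  | add x y _ _ ihx ihy =>
    obtain ⟨x', rfl⟩ := ihx
    obtain ⟨y', rfl⟩ := ihy
    exact ⟨x' + y', map_add F x' y'⟩
  | smul c x _ ihx =>
    obtain ⟨x', rfl⟩ := ihx
    obtain ⟨d, rfl⟩ := hσ c
    exact ⟨d • x', F.map_smulₛₗ d x'⟩

theorem natPow_smul_mem (n : ℕ) {M : Submodule (WittVector p k) N} {x : N} (hx : x ∈ M) :
    ((p : K(p, k)) ^ n) • x ∈ M := by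
  have : ((p : K(p, k)) ^ n) • x = ((p : WittVector p k) ^ n) • x := by
    rw [← algebraMap_smul K(p, k) ((p : WittVector p k) ^ n) x]
    simp
  rw [this]
  exact M.smul_mem _ hx

section Perfect

variable [PerfectRing k p]

theorem exists_pow_mul_eq_algebraMap (l : K(p, k)) :
    ∃ (c : ℕ) (w : WittVector p k), (p : K(p, k)) ^ c * l = algebraMap (WittVector p k) K(p, k) w := by
  obtain ⟨w1, ⟨w2, hw2⟩, rfl⟩ := IsLocalization.exists_mk'_eq (nonZeroDivisors (WittVector p k)) l
  have hw2' : w2 ≠ 0 := nonZeroDivisors.ne_zero hw2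
  obtain ⟨m, b, hb⟩ := WittVector.exists_eq_pow_p_mul' w2 hw2'
  refine ⟨m, w1 * ((b⁻¹ : (WittVector p k)ˣ) : WittVector p k), ?_⟩
  have hspec := IsLocalization.mk'_spec K(p, k) w1 (⟨w2, hw2⟩ : nonZeroDivisors (WittVector p k))
  simp only at hspec
  have hbne : algebraMap (WittVector p k) K(p, k) (b : WittVector p k) ≠ 0 := by
    rw [Ne, map_eq_zero_iff _ (IsFractionRing.injective (WittVector p k) K(p, k))]
    exact b.ne_zero
  have hw2eq : algebraMap (WittVector p k) K(p, k) w2 =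
      (p : K(p, k)) ^ m * algebraMap (WittVector p k) K(p, k) (b : WittVector p k) := by
    rw [hb, map_mul, map_pow, map_natCast]
  rw [map_mul]
  apply mul_right_cancel₀ hbne
  rw [mul_assoc, mul_assoc, ← map_mul (algebraMap (WittVector p k) K(p, k)), Units.inv_mul, map_one,
    mul_one, ← hspec, hw2eq]
  ring

theorem exists_pow_smul_mem {M : Submodule (WittVector p k) N}
    (hM : Submodule.span K(p, k) (M : Set N) = ⊤) (x : N) :
    ∃ c : ℕ, ((p : K(p, k)) ^ c) • x ∈ M := by
  have hx : x ∈ Submodule.span K(p, k) (M : Set N) := hM ▸ Submodule.mem_top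
  induction hx using Submodule.span_induction with
  | mem x hx => exact ⟨0, by simpa using hx⟩
  | zero => exact ⟨0, by simp⟩
  | add x y _ _ ihx ihy =>
    obtain ⟨cx, hcx⟩ := ihx
    obtain ⟨cy, hcy⟩ := ihy
    refine ⟨cx + cy, ?_⟩
    rw [smul_add]
    refine M.add_mem ?_ ?_
    · rw [add_comm, pow_add, mul_smul]
      exact natPow_smul_mem cy hcx
    · rw [pow_add, mul_smul]
      exact natPow_smul_mem cx hcy
  | smul l x _ ihx =>
    obtain ⟨cx, hcx⟩ := ihx
    obtain ⟨c, w, hw⟩ := exists_pow_mul_eq_algebraMap (p := p) (k := k) l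
    refine ⟨c + cx, ?_⟩
    have : ((p : K(p, k)) ^ (c + cx)) • l • x = w • (((p : K(p, k)) ^ cx) • x) := by
      rw [← algebraMap_smul K(p, k) w, ← hw, smul_smul, smul_smul]
      congr 1
      ring
    rw [this]
    exact M.smul_mem _ hcx

theorem exists_pPow_le {M₁ M₂ : Submodule (WittVector p k) N} (h1 : M₁.FG)
    (h2 : Submodule.span K(p, k) (M₂ : Set N) = ⊤) : ∃ c : ℕ, Isoc.pPow (c : ℤ) M₁ ≤ M₂ := by
  classical
  obtain ⟨s, rfl⟩ := h1
  choose f hf using fun x : N => exists_pow_smul_mem h2 x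
  refine ⟨s.sup f, ?_⟩
  intro y hy
  rw [mem_pPow] at hy
  obtain ⟨m, hm, rfl⟩ := hy
  rw [zpow_natCast]
  induction hm using Submodule.span_induction with
  | mem x hx =>
    have hle : f x ≤ s.sup f := Finset.le_sup (Finset.mem_coe.mp hx)
    obtain ⟨d, hd⟩ := Nat.exists_eq_add_of_le hle
    rw [hd, add_comm, pow_add, mul_smul]
    exact natPow_smul_mem d (hf x)
  | zero => simp
  | add x y _ _ ihx ihy => rw [smul_add]; exact M₂.add_mem ihx ihy
  | smul w x _ ihx =>
    rw [smul_comm]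
    exact M₂.smul_mem _ ihx

theorem exists_pPow_le_of_isLattice (M₁ M₂ : Submodule (WittVector p k) N)
    [M₁.IsLattice K(p, k)] [M₂.IsLattice K(p, k)] :
    ∃ c : ℕ, Isoc.pPow (c : ℤ) M₁ ≤ M₂ ∧ Isoc.pPow (c : ℤ) M₂ ≤ M₁ := by
  obtain ⟨c₁, h₁⟩ := exists_pPow_le (p := p) (k := k) (Submodule.IsLattice.fg (M := M₁))
    (Submodule.IsLattice.span_eq_top (M := M₂))
  obtain ⟨c₂, h₂⟩ := exists_pPow_le (p := p) (k := k) (Submodule.IsLattice.fg (M := M₂))
    (Submodule.IsLattice.span_eq_top (M := M₁))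
  refine ⟨c₁ + c₂, ?_, ?_⟩
  · refine le_trans (pPow_le_of_le ?_ M₁) h₁
    push_cast; omega
  · refine le_trans (pPow_le_of_le ?_ M₂) h₂
    push_cast; omega

/-- Krull intersection: a `W`-submodule contained in `p^n M` for all `n`, `M` finitely generated,
is zero. -/
theorem eq_bot_of_forall_le_pPow {M X : Submodule (WittVector p k) N} (hM : M.FG)
    (hX : ∀ n : ℕ, X ≤ Isoc.pPow (n : ℤ) M) : X = ⊥ := by
  -- Y = ⨅ n, p^n M
  set Y : Submodule (WittVector p k) N := ⨅ n : ℕ, Isoc.pPow (n : ℤ) M with hY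
  have hXY : X ≤ Y := le_iInf hX
  have hYM : Y ≤ M := by
    have := iInf_le (fun n : ℕ => Isoc.pPow (n : ℤ) M) 0
    simpa [pPow_zero] using this
  have hYfg : Y.FG := Submodule.FG.of_le hM hYM
  have hpY : Y ≤ (Ideal.span {(p : WittVector p k)}) • Y := by
    intro y hy
    have hy1 : y ∈ Isoc.pPow ((1 : ℕ) : ℤ) M := (iInf_le (fun n : ℕ => Isoc.pPow (n : ℤ) M) 1) hy
    rw [mem_pPow] at hy1
    obtain ⟨y', hy'M, rfl⟩ := hy1
    have hy'Y : y' ∈ Y := by
      rw [hY, Submodule.mem_iInf]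
      intro n
      have hn : ((p : K(p, k)) ^ ((1 : ℕ) : ℤ)) • y' ∈ Isoc.pPow ((n + 1 : ℕ) : ℤ) M :=
        (iInf_le (fun n : ℕ => Isoc.pPow (n : ℤ) M) (n + 1)) hy
      rw [mem_pPow] at hn ⊢
      obtain ⟨z, hz, hzeq⟩ := hn
      refine ⟨z, hz, ?_⟩
      have hp1 : ((p : K(p, k)) ^ ((1 : ℕ) : ℤ)) ≠ 0 := zpow_ne_zero _ p_ne_zero
      apply smul_right_injective N hp1
      simp only
      rw [← hzeq, smul_smul, ← zpow_add₀ p_ne_zero]
      congr 2
      push_cast; ring
    have : ((p : K(p, k)) ^ ((1 : ℕ) : ℤ)) • y' = (p : WittVector p k) • y' := by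
      rw [← algebraMap_smul K(p, k) (p : WittVector p k) y']
      simp
    rw [this]
    exact Submodule.smul_mem_smul (Ideal.mem_span_singleton_self _) hy'Y
  have hjac : Ideal.span {(p : WittVector p k)} ≤ Ideal.jacobson ⊥ := by
    rw [IsLocalRing.jacobson_eq_maximalIdeal ⊥ bot_ne_top, Ideal.span_le, Set.singleton_subset_iff]
    exact (IsLocalRing.mem_maximalIdeal _).mpr (WittVector.irreducible p).not_isUnit
  have hYbot : Y = ⊥ :=
    Submodule.eq_bot_of_le_smul_of_le_jacobson_bot _ Y hYfg hpY hjac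
  exact le_bot_iff.mp (hYbot ▸ hXY)

theorem not_le_pPow_one {M : Submodule (WittVector p k) N} (hM : M.FG) (hne : M ≠ ⊥) :
    ¬ M ≤ Isoc.pPow 1 M := by
  intro h
  apply hne
  apply eq_bot_of_forall_le_pPow (p := p) (k := k) hM
  intro n
  induction n with
  | zero => simp [pPow_zero]
  | succ n ih =>
    calc M ≤ Isoc.pPow 1 M := h
      _ ≤ Isoc.pPow 1 (Isoc.pPow (n : ℤ) M) := pPow_mono 1 ih
      _ = Isoc.pPow ((n + 1 : ℕ) : ℤ) M := by rw [pPow_pPow]; congr 1; push_cast; ring

theorem ne_bot_of_span_eq_top [Nontrivial N] {M : Submodule (WittVector p k) N}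
    (hM : Submodule.span K(p, k) (M : Set N) = ⊤) : M ≠ ⊥ := by
  rintro rfl
  simp only [Submodule.bot_coe, Submodule.span_singleton_eq_bot.mpr]
    at hM
  exact bot_ne_top hM

theorem frob_bijective (a : ℤ) : Function.Bijective (Isoc.frob p k a) := by
  unfold Isoc.frob
  exact (IsFractionRing.ringEquivOfRingEquiv (K := K(p, k)) (L := K(p, k))
    (WittVector.frobeniusEquiv p k ^ a)).bijective

section Frob

variable {a : ℤ} (F : N →ₛₗ[Isoc.frob p k a] N)

theorem map_smul_W (w : WittVector p k) (x : N) :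
    F (w • x) = ((WittVector.frobeniusEquiv p k ^ a) w) • F x := by
  rw [← algebraMap_smul K(p, k) w x, F.map_smulₛₗ, Isoc.frob_algebraMap, algebraMap_smul]

theorem iterate_smul_W (s : ℕ) (w : WittVector p k) (x : N) :
    (⇑F)^[s] (w • x) = ((⇑(WittVector.frobeniusEquiv p k ^ a))^[s] w) • (⇑F)^[s] x := by
  induction s generalizing w x with
  | zero => rfl
  | succ s ih =>
    rw [Function.iterate_succ_apply', ih, map_smul_W, Function.iterate_succ_apply',
      Function.iterate_succ_apply']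

theorem iterate_add' (s : ℕ) (x y : N) : (⇑F)^[s] (x + y) = (⇑F)^[s] x + (⇑F)^[s] y :=
  (Isoc.iter F s).map_add x y

theorem iterate_zero' (s : ℕ) : (⇑F)^[s] (0 : N) = 0 :=
  (Isoc.iter F s).map_zero

/-- For `τ = σ^a`, the image of a `W`-submodule under `F^s` is already a `W`-submodule. -/
theorem coe_latImg (s : ℕ) (M : Submodule (WittVector p k) N) :
    (Isoc.latImg F s M : Set N) = (⇑F)^[s] '' (M : Set N) := by
  let S : Submodule (WittVector p k) N :=
    { carrier := (⇑F)^[s] '' (M : Set N)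
      add_mem' := by
        rintro _ _ ⟨x, hx, rfl⟩ ⟨y, hy, rfl⟩
        exact ⟨x + y, M.add_mem hx hy, iterate_add' F s x y⟩
      zero_mem' := ⟨0, M.zero_mem, iterate_zero' F s⟩
      smul_mem' := by
        rintro w _ ⟨x, hx, rfl⟩
        obtain ⟨w', hw'⟩ : ∃ w', (⇑(WittVector.frobeniusEquiv p k ^ a))^[s] w' = w :=
          ((WittVector.frobeniusEquiv p k ^ a).surjective.iterate s) w
        refine ⟨w' • x, M.smul_mem _ hx, ?_⟩
        rw [iterate_smul_W, hw'] }
  have hS : Isoc.latImg F s M = S := by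
    unfold Isoc.latImg
    apply le_antisymm
    · rw [Submodule.span_le]; exact fun x hx => hx
    · exact fun x hx => Submodule.subset_span hx
  rw [hS]
  rfl

theorem mem_latImg {s : ℕ} {M : Submodule (WittVector p k) N} {x : N} :
    x ∈ Isoc.latImg F s M ↔ ∃ m ∈ M, (⇑F)^[s] m = x := by
  rw [← SetLike.mem_coe, coe_latImg]
  rfl

theorem latImg_add (s t : ℕ) (M : Submodule (WittVector p k) N) :
    Isoc.latImg F (s + t) M = Isoc.latImg F s (Isoc.latImg F t M) := by
  apply SetLike.coe_injective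
  rw [coe_latImg, coe_latImg, coe_latImg, Set.image_image]
  congr 1
  ext x
  rw [Function.iterate_add_apply]

theorem latImg_pPow (s : ℕ) (r : ℤ) (M : Submodule (WittVector p k) N) :
    Isoc.latImg F s (Isoc.pPow r M) = Isoc.pPow r (Isoc.latImg F s M) := by
  apply le_antisymm (latImg_pPow_le F s r M)
  intro x hx
  rw [mem_pPow] at hx
  obtain ⟨y, hy, rfl⟩ := hx
  rw [mem_latImg] at hy ⊢
  obtain ⟨m, hm, rfl⟩ := hy
  refine ⟨((p : K(p, k)) ^ r) • m, ?_, iterate_smul_pPow F s r m⟩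
  rw [mem_pPow]
  exact ⟨m, hm, rfl⟩

theorem latImg_mul_of_eq {s : ℕ} {r : ℤ} {M : Submodule (WittVector p k) N}
    (h : Isoc.latImg F s M = Isoc.pPow r M) (j : ℕ) :
    Isoc.latImg F (s * j) M = Isoc.pPow (r * j) M := by
  induction j with
  | zero =>
    simp only [Nat.cast_zero, mul_zero, pPow_zero]
    apply SetLike.coe_injective
    rw [coe_latImg]
    simp
  | succ j ih =>
    rw [Nat.mul_succ, Nat.add_comm, latImg_add, ih, latImg_pPow, h, pPow_pPow]
    congr 1
    push_cast; ring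

theorem latImg_sup (s : ℕ) (M₁ M₂ : Submodule (WittVector p k) N) :
    Isoc.latImg F s (M₁ ⊔ M₂) = Isoc.latImg F s M₁ ⊔ Isoc.latImg F s M₂ := by
  apply le_antisymm
  · intro x hx
    rw [mem_latImg] at hx
    obtain ⟨m, hm, rfl⟩ := hx
    obtain ⟨a, ha, b, hb, rfl⟩ := Submodule.mem_sup.mp hm
    rw [iterate_add']
    exact Submodule.add_mem_sup ((mem_latImg F).mpr ⟨a, ha, rfl⟩) ((mem_latImg F).mpr ⟨b, hb, rfl⟩)
  · exact sup_le (latImg_mono F s le_sup_left) (latImg_mono F s le_sup_right)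

theorem latImg_bot (s : ℕ) : Isoc.latImg F s (⊥ : Submodule (WittVector p k) N) = ⊥ := by
  rw [eq_bot_iff]
  intro x hx
  rw [mem_latImg] at hx
  obtain ⟨m, hm, rfl⟩ := hx
  rw [Submodule.mem_bot] at hm
  rw [hm, iterate_zero']
  exact Submodule.zero_mem _

theorem latImg_span (s : ℕ) (S : Set N) :
    Isoc.latImg F s (Submodule.span (WittVector p k) S) =
      Submodule.span (WittVector p k) ((⇑F)^[s] '' S) := by
  apply le_antisymm
  · intro x hx
    rw [mem_latImg] at hx
    obtain ⟨m, hm, rfl⟩ := hx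
    induction hm using Submodule.span_induction with
    | mem x hx => exact Submodule.subset_span ⟨x, hx, rfl⟩
    | zero => rw [iterate_zero']; exact Submodule.zero_mem _
    | add x y _ _ ihx ihy => rw [iterate_add']; exact Submodule.add_mem _ ihx ihy
    | smul w x _ ihx => rw [iterate_smul_W]; exact Submodule.smul_mem _ _ ihx
  · unfold Isoc.latImg
    exact Submodule.span_mono (Set.image_mono Submodule.subset_span)

theorem latImg_fg (s : ℕ) {M : Submodule (WittVector p k) N} (hM : M.FG) :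
    (Isoc.latImg F s M).FG := by
  classical
  obtain ⟨S, rfl⟩ := hM
  rw [latImg_span]
  exact Submodule.fg_span ((Finset.finite_toSet S).image _)

theorem latImg_eq_bot_iff (hinj : Function.Injective F) (s : ℕ)
    {M : Submodule (WittVector p k) N} : Isoc.latImg F s M = ⊥ ↔ M = ⊥ := by
  constructor
  · intro h
    rw [eq_bot_iff]
    intro m hm
    have : (⇑F)^[s] m ∈ Isoc.latImg F s M := (mem_latImg F).mpr ⟨m, hm, rfl⟩
    rw [h, Submodule.mem_bot] at this
    rw [Submodule.mem_bot]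
    apply hinj.iterate s
    rw [this, iterate_zero']
  · rintro rfl
    rw [eq_bot_iff]
    intro x hx
    rw [mem_latImg] at hx
    obtain ⟨m, hm, rfl⟩ := hx
    rw [Submodule.mem_bot] at hm
    rw [hm, iterate_zero', Submodule.mem_bot]

/-- the order `ord_M(F^s)` exists for a nonzero lattice `M` and injective `F`. -/
theorem exists_isOrd (hinj : Function.Injective F) (s : ℕ)
    {M : Submodule (WittVector p k) N} (hMfg : M.FG)
    (hMspan : Submodule.span K(p, k) (M : Set N) = ⊤) (hne : M ≠ ⊥) :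
    ∃ r : ℤ, Isoc.IsOrd M F s r := by
  -- nonempty
  obtain ⟨c, hc⟩ := exists_pPow_le (p := p) (k := k) (latImg_fg F s hMfg) hMspan
  have hne1 : ∃ r : ℤ, Isoc.latImg F s M ≤ Isoc.pPow r M := by
    refine ⟨-(c : ℤ), ?_⟩
    have := pPow_mono (-(c : ℤ)) hc
    rwa [pPow_pPow, neg_add_cancel, pPow_zero] at this
  -- bounded above
  have hbdd : ∃ b : ℤ, ∀ r : ℤ, Isoc.latImg F s M ≤ Isoc.pPow r M → r ≤ b := by
    by_contra hcon
    push Not at hcon
    apply hne
    rw [← latImg_eq_bot_iff F hinj s]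
    apply eq_bot_of_forall_le_pPow (p := p) (k := k) hMfg
    intro n
    obtain ⟨r, hr, hnr⟩ := hcon n
    exact hr.trans (pPow_le_of_le hnr.le M)
  obtain ⟨r, hr, hmax⟩ := Int.exists_greatest_of_bdd hbdd hne1
  refine ⟨r, hr, fun h => ?_⟩
  have := hmax (r + 1) h
  omega

theorem mem_of_iterate_mem_latImg (hinj : Function.Injective F) {s : ℕ}
    {M : Submodule (WittVector p k) N} {x : N} (hx : (⇑F)^[s] x ∈ Isoc.latImg F s M) : x ∈ M := by
  rw [mem_latImg] at hx
  obtain ⟨m, hm, hmx⟩ := hx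
  have := (hinj.iterate s) hmx
  rwa [← this]

end Frob

section Restrict

variable {a : ℤ} (F : N →ₛₗ[Isoc.frob p k a] N) {P : Submodule K(p, k) N}
  (hP : ∀ x ∈ P, F x ∈ P)

/-- the inclusion of an `L`-subspace, as a `W`-linear map -/
def incl (P : Submodule K(p, k) N) : ↥P →ₗ[WittVector p k] N :=
  P.subtype.restrictScalars (WittVector p k)

omit [PerfectRing k p] in
theorem incl_apply (x : ↥P) : incl P x = (x : N) := rfl

omit [PerfectRing k p] in
theorem incl_injective : Function.Injective (incl P) := Subtype.val_injective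

theorem coe_iterate_restrict (t : ℕ) (x : ↥P) :
    (((⇑(F.restrict hP))^[t] x : ↥P) : N) = (⇑F)^[t] (x : N) := by
  induction t generalizing x with
  | zero => rfl
  | succ t ih =>
    rw [Function.iterate_succ_apply', Function.iterate_succ_apply', ← ih]
    rfl

theorem map_latImg_restrict (s : ℕ) (M' : Submodule (WittVector p k) ↥P) :
    (Isoc.latImg (F.restrict hP) s M').map (incl P) = Isoc.latImg F s (M'.map (incl P)) := by
  ext x
  rw [Submodule.mem_map, mem_latImg]
  constructor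
  · rintro ⟨y, hy, rfl⟩
    rw [mem_latImg] at hy
    obtain ⟨m, hm, rfl⟩ := hy
    exact ⟨incl P m, ⟨m, hm, rfl⟩, (coe_iterate_restrict F hP s m).symm⟩
  · rintro ⟨_, ⟨m, hm, rfl⟩, rfl⟩
    exact ⟨(⇑(F.restrict hP))^[s] m, (mem_latImg _).mpr ⟨m, hm, rfl⟩, coe_iterate_restrict F hP s m⟩

omit [PerfectRing k p] in
theorem map_pPow_incl (r : ℤ) (M' : Submodule (WittVector p k) ↥P) :
    (Isoc.pPow r M').map (incl P) = Isoc.pPow r (M'.map (incl P)) := by
  ext x
  rw [Submodule.mem_map, mem_pPow]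
  constructor
  · rintro ⟨y, hy, rfl⟩
    rw [mem_pPow] at hy
    obtain ⟨m, hm, rfl⟩ := hy
    exact ⟨incl P m, ⟨m, hm, rfl⟩, rfl⟩
  · rintro ⟨_, ⟨m, hm, rfl⟩, rfl⟩
    exact ⟨((p : K(p, k)) ^ r) • m, mem_pPow.mpr ⟨m, hm, rfl⟩, rfl⟩

omit [PerfectRing k p] in
theorem span_map_incl (M' : Submodule (WittVector p k) ↥P) :
    Submodule.span K(p, k) ((M'.map (incl P) : Submodule (WittVector p k) N) : Set N) =
      (Submodule.span K(p, k) (M' : Set ↥P)).map P.subtype := by
  rw [Submodule.map_span]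
  rfl

/-- Isoclinicity of the restriction to a stable subspace, expressed inside the ambient space. -/
theorem isIsoclinic_restrict_iff (μ : ℚ) :
    Isoc.IsIsoclinic (F.restrict hP) μ ↔
      ∃ M : Submodule (WittVector p k) N, M.FG ∧ Submodule.span K(p, k) (M : Set N) = P ∧
        ∃ (r : ℤ) (s : ℕ), 0 < s ∧ (r : ℚ) / s = μ ∧ Isoc.latImg F s M = Isoc.pPow r M := by
  constructor
  · rintro ⟨M', hM', r, s, hs, hμ, h⟩
    refine ⟨M'.map (incl P), (Submodule.IsLattice.fg (M := M')).map _, ?_, r, s, hs, hμ, ?_⟩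
    · rw [span_map_incl, Submodule.IsLattice.span_eq_top (M := M'), Submodule.map_subtype_top]
    · rw [← map_latImg_restrict F hP, h, map_pPow_incl]
  · rintro ⟨M, hMfg, hMspan, r, s, hs, hμ, h⟩
    have hMP : ∀ x ∈ M, x ∈ P := fun x hx => hMspan ▸ Submodule.subset_span hx
    have hmap : (M.comap (incl P)).map (incl P) = M := by
      ext x
      rw [Submodule.mem_map]
      constructor
      · rintro ⟨y, hy, rfl⟩; exact hy
      · intro hx; exact ⟨⟨x, hMP x hx⟩, hx, rfl⟩
    refine ⟨M.comap (incl P), ⟨?_, ?_⟩, r, s, hs, hμ, ?_⟩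
    · apply Submodule.fg_of_fg_map_injective (incl P) incl_injective
      rw [hmap]; exact hMfg
    · apply Submodule.map_injective_of_injective P.injective_subtype
      rw [← span_map_incl, hmap, hMspan, Submodule.map_subtype_top]
    · apply Submodule.map_injective_of_injective (f := incl P) incl_injective
      rw [map_latImg_restrict F hP, map_pPow_incl, hmap, h]

end Restrict

end Perfect

end Groth.Agent.Lib.helper24.IsocLib

end
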