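import Groth.Agent.Lib.Helper24.Manin

/-!
Changing the twist of a semilinear map along an equality of ring homomorphisms, and
`(σ^a)^n = σ^(a n)` (helper24).
-/

set_option autoImplicit false
set_option linter.unusedSectionVars false

noncomputable section

open scoped Pointwise Isocrystal

universe u v

namespace Groth.Agent.Lib.helper24.IsocLib

variable {p : ℕ} [Fact p.Prime] {k : Type u} [Field k] [CharP k p] [PerfectRing k p]
variable {N : Type v} [AddCommGroup N] [Module (WittVector p k) N] [Module K(p, k) N]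
  [IsScalarTower (WittVector p k) K(p, k) N]

theorem frob_pow_algebraMap (a : ℤ) (n : ℕ) (w : WittVector p k) :
    ((Isoc.frob p k a) ^ n) (algebraMap (WittVector p k) K(p, k) w) =
      algebraMap (WittVector p k) K(p, k) (((WittVector.frobeniusEquiv p k ^ a) ^ n) w) := by
  induction n with
  | zero => simp
  | succ n ih =>
    rw [pow_succ', RingHom.mul_def, RingHom.comp_apply, ih, Isoc.frob_algebraMap, pow_succ',
      RingAut.mul_apply]

theorem frob_pow (a : ℤ) (n : ℕ) : (Isoc.frob p k a) ^ n = Isoc.frob p k (a * n) := by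
  apply IsLocalization.ringHom_ext (nonZeroDivisors (WittVector p k))
  ext w
  rw [RingHom.comp_apply, RingHom.comp_apply, frob_pow_algebraMap, Isoc.frob_algebraMap,
    zpow_mul, zpow_natCast]

/-- The same map, viewed as semilinear over an equal ring homomorphism. -/
def castSL {τ τ' : K(p, k) →+* K(p, k)} (h : τ = τ') (F : N →ₛₗ[τ] N) : N →ₛₗ[τ'] N where
  toFun := F
  map_add' := F.map_add
  map_smul' c x := by subst h; exact F.map_smulₛₗ c x

@[simp] theorem coe_castSL {τ τ' : K(p, k) →+* K(p, k)} (h : τ = τ') (F : N →ₛₗ[τ] N) :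
    ⇑(castSL h F) = ⇑F := rfl

theorem latImg_castSL {τ τ' : K(p, k) →+* K(p, k)} (h : τ = τ') (F : N →ₛₗ[τ] N) (s : ℕ)
    (M : Submodule (WittVector p k) N) : Isoc.latImg (castSL h F) s M = Isoc.latImg F s M := rfl

theorem isIsoc_castSL {τ τ' : K(p, k) →+* K(p, k)} (h : τ = τ') {F : N →ₛₗ[τ] N}
    (hF : Isoc.IsIsoc F) : Isoc.IsIsoc (castSL h F) :=
  ⟨hF.finite, hF.bijective⟩

/-- `p^m F^n` is again an isocrystal. -/
theorem isIsoc_smul_iter {τ : K(p, k) →+* K(p, k)} {F : N →ₛₗ[τ] N} (hF : Isoc.IsIsoc F)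
    (m : ℤ) (n : ℕ) : Isoc.IsIsoc (((p : K(p, k)) ^ m) • Isoc.iter F n) := by
  refine ⟨hF.finite, ?_⟩
  have hb : Function.Bijective ((⇑F)^[n]) := hF.bijective.iterate n
  have hc : (p : K(p, k)) ^ m ≠ 0 := zpow_ne_zero _ p_ne_zero
  constructor
  · intro x y hxy
    simp only [LinearMap.smul_apply, Isoc.coe_iter] at hxy
    exact hb.1 (smul_right_injective N hc hxy)
  · intro y
    obtain ⟨x, hx⟩ := hb.2 (((p : K(p, k)) ^ m)⁻¹ • y)
    refine ⟨x, ?_⟩
    simp only [LinearMap.smul_apply, Isoc.coe_iter, hx, smul_smul, mul_inv_cancel₀ hc, one_smul]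

/-- The twisted iterate `p^m F^n` as a `σ^(a n)`-semilinear map. -/
def twIter {a : ℤ} (F : N →ₛₗ[Isoc.frob p k a] N) (m : ℤ) (n : ℕ) :
    N →ₛₗ[Isoc.frob p k (a * n)] N :=
  castSL (frob_pow a n) (((p : K(p, k)) ^ m) • Isoc.iter F n)

theorem latImg_twIter {a : ℤ} (F : N →ₛₗ[Isoc.frob p k a] N) (m : ℤ) (n j : ℕ)
    (M : Submodule (WittVector p k) N) :
    Isoc.latImg (twIter F m n) j M = Isoc.pPow (m * j) (Isoc.latImg F (n * j) M) := by
  unfold twIter
  rw [latImg_castSL, latImg_smul_iter]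

theorem isIsoc_twIter {a : ℤ} {F : N →ₛₗ[Isoc.frob p k a] N} (hF : Isoc.IsIsoc F) (m : ℤ)
    (n : ℕ) : Isoc.IsIsoc (twIter F m n) :=
  isIsoc_castSL _ (isIsoc_smul_iter hF m n)

/-- If `F^n M ⊆ M` for some `n ≥ 1`, then `F` is effective. -/
theorem isEffective_of_latImg_le {a : ℤ} (F : N →ₛₗ[Isoc.frob p k a] N)
    {M : Submodule (WittVector p k) N} (hM : M.IsLattice K(p, k)) {n : ℕ} (hn : 1 ≤ n)
    (h : Isoc.latImg F n M ≤ M) : Isoc.IsEffective F := by
  obtain ⟨j, rfl⟩ : ∃ j, n = j + 1 := ⟨n - 1, by omega⟩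
  refine ⟨sumImg F M j, sumImg_isLattice F hM j, ?_⟩
  refine (latImg_one_sumImg_le F M j).trans ?_
  apply Finset.sup_le
  intro i hi
  have hi' := Finset.mem_range.1 hi
  by_cases hij : i ≤ j
  · exact le_sumImg F M hij
  · have : i = j + 1 := by omega
    rw [this]
    exact h.trans (self_le_sumImg F M j)

end Groth.Agent.Lib.helper24.IsocLib

end
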