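import Groth.Agent.Lib.Helper24.IsocDL

/-!
Dieudonné–Manin: semisimplicity and classification of isocrystals over an algebraically closed
field (helper24).
-/

set_option autoImplicit false
set_option linter.unusedSectionVars false

noncomputable section

open scoped Pointwise Isocrystal

universe u v

namespace Groth.Agent.Lib.helper24.IsocLib

variable {p : ℕ} [Fact p.Prime] {k : Type u} [Field k] [CharP k p] [PerfectRing k p]
variable {N : Type v} [AddCommGroup N] [Module (WittVector p k) N] [Module K(p, k) N]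
  [IsScalarTower (WittVector p k) K(p, k) N]

section SumImg

variable {b : ℤ} (G : N →ₛₗ[Isoc.frob p k b] N)

/-- if `G^(j+1) M = M` then `M + G M + ... + G^j M` is mapped onto itself by `G`. -/
theorem latImg_one_sumImg_eq (M : Submodule (WittVector p k) N) (j : ℕ)
    (h : Isoc.latImg G (j + 1) M = M) :
    Isoc.latImg G 1 (sumImg G M j) = sumImg G M j := by
  apply le_antisymm
  · refine (latImg_one_sumImg_le G M j).trans ?_
    apply Finset.sup_le
    intro i hi
    have hi' := Finset.mem_range.1 hi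
    by_cases hij : i ≤ j
    · exact le_sumImg G M hij
    · have : i = j + 1 := by omega
      rw [this, h]
      exact self_le_sumImg G M j
  · apply Finset.sup_le
    intro i hi
    have hi' := Finset.mem_range.1 hi
    have hkey : ∀ i', i' ≤ j →
        Isoc.latImg G 1 (Isoc.latImg G i' M) ≤ Isoc.latImg G 1 (sumImg G M j) :=
      fun i' hi' => latImg_mono G 1 (le_sumImg G M hi')
    rcases Nat.eq_zero_or_pos i with h0 | hpos
    · subst h0
      have h1 : Isoc.latImg G 0 M = Isoc.latImg G 1 (Isoc.latImg G j M) := by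
        rw [latImg_zero, ← latImg_add, Nat.add_comm, h]
      exact (le_of_eq h1).trans (hkey j le_rfl)
    · have h1 : Isoc.latImg G i M = Isoc.latImg G 1 (Isoc.latImg G (i - 1) M) := by
        rw [← latImg_add]
        congr 1
        omega
      exact (le_of_eq h1).trans (hkey (i - 1) (by omega))

end SumImg

section Cyc

variable {a : ℤ} (F : N →ₛₗ[Isoc.frob p k a] N)

/-- the span of `x, F x, ..., F^(h-1) x`. -/
def cyc (h : ℕ) (x : N) : Submodule K(p, k) N :=
  Submodule.span K(p, k) (Set.range (fun j : Fin h => (⇑F)^[j.val] x))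

theorem iterate_mem_cyc {h : ℕ} (x : N) {j : ℕ} (hj : j < h) : (⇑F)^[j] x ∈ cyc F h x :=
  Submodule.subset_span ⟨⟨j, hj⟩, rfl⟩

theorem self_mem_cyc {h : ℕ} (hh : 0 < h) (x : N) : x ∈ cyc F h x :=
  iterate_mem_cyc F x hh

theorem cyc_stable {h : ℕ} (hh : 0 < h) {x : N} {c : K(p, k)} (hx : (⇑F)^[h] x = c • x) :
    ∀ y ∈ cyc F h x, F y ∈ cyc F h x := by
  intro y hy
  refine Submodule.span_induction (p := fun y _ => F y ∈ cyc F h x) ?_ ?_ ?_ ?_ hy
  · rintro _ ⟨j, rfl⟩
    show F ((⇑F)^[j.val] x) ∈ cyc F h x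
    have hstep : F ((⇑F)^[j.val] x) = (⇑F)^[j.val + 1] x :=
      (Function.iterate_succ_apply' (⇑F) j.val x).symm
    rw [hstep]
    by_cases hj : j.val + 1 < h
    · exact iterate_mem_cyc F x hj
    · have : j.val + 1 = h := by have := j.2; omega
      rw [this, hx]
      exact Submodule.smul_mem _ _ (self_mem_cyc F hh x)
  · rw [map_zero]; exact Submodule.zero_mem _
  · intro y z _ _ hy hz
    rw [map_add]; exact Submodule.add_mem _ hy hz
  · intro c y _ hy
    rw [map_smulₛₗ]; exact Submodule.smul_mem _ _ hy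

theorem cyc_le {h : ℕ} {x : N} {P : Submodule K(p, k) N} (hP : ∀ y ∈ P, F y ∈ P) (hx : x ∈ P) :
    cyc F h x ≤ P := by
  rw [cyc, Submodule.span_le]
  rintro _ ⟨j, rfl⟩
  have : ∀ n : ℕ, (⇑F)^[n] x ∈ P := by
    intro n
    induction n with
    | zero => exact hx
    | succ n ih => rw [Function.iterate_succ_apply']; exact hP _ ih
  exact this _

theorem finrank_cyc_le (hfin : Module.Finite K(p, k) N) (h : ℕ) (x : N) :
    Module.finrank K(p, k) (cyc F h x) ≤ h := by
  have := finrank_range_le_card (R := K(p, k)) (fun j : Fin h => (⇑F)^[j.val] x)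
  rw [Fintype.card_fin] at this
  exact this

end Cyc

section Simple

variable {a : ℤ} {F : N →ₛₗ[Isoc.frob p k a] N}

/-- the denominator of the slope divides the dimension of an isoclinic stable subspace. -/
theorem den_dvd_finrank (hF : Isoc.IsIsoc F) {S : Submodule K(p, k) N} {μ : ℚ}
    (hS : ∀ x ∈ S, F x ∈ S) (hiso : IsoIn F S μ) : μ.den ∣ Module.finrank K(p, k) S := by
  have hfin : Module.Finite K(p, k) N := hF.finite
  have hμ : Isoc.IsIsoclinic (F.restrict hS) μ := (isIsoclinic_restrict_iff_isoIn F hS μ).2 hiso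
  obtain ⟨M, hM, r, s, hs, hrs, heq⟩ := hμ
  set n := Module.finrank K(p, k) S with hn
  have b : Module.Basis (Fin n) K(p, k) ↥S := Module.finBasis K(p, k) ↥S
  obtain ⟨d', -, hd'⟩ := exists_isOrdP_detCoeff_of_latImg_eq b (F.restrict hS) hM hs heq
  rcases Nat.eq_zero_or_pos n with h0 | hpos
  · rw [h0]; exact dvd_zero _
  · have hsQ : (s : ℚ) ≠ 0 := by exact_mod_cast hs.ne'
    have hnQ : (n : ℚ) ≠ 0 := by exact_mod_cast hpos.ne'
    have h1 : μ = (d' : ℚ) / (n : ℚ) := by
      rw [← hrs, div_eq_div_iff hsQ hnQ]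
      have : ((s : ℤ) : ℚ) * (d' : ℚ) = ((n : ℤ) : ℚ) * (r : ℚ) := by exact_mod_cast hd'
      push_cast at this
      linarith
    have h2 : (((Rat.divInt d' (n : ℤ)) : ℚ).den : ℤ) ∣ (n : ℤ) := Rat.den_dvd d' n
    rw [Rat.divInt_eq_div] at h2
    have h3 : ((d' : ℚ) / ((n : ℤ) : ℚ)) = μ := by rw [h1]; push_cast; rfl
    rw [h3] at h2
    exact Int.natCast_dvd_natCast.1 h2

variable [IsAlgClosed k]

/-- vectors with `F^h x = p^d x` (`d/h = μ` in lowest terms) span an isoclinic stable subspace. -/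
theorem exists_fixed_not_mem (ha : a ≠ 0) (hF : Isoc.IsIsoc F) {P : Submodule K(p, k) N} {μ : ℚ}
    (hP : ∀ x ∈ P, F x ∈ P) (hiso : IsoIn F P μ) (R : Submodule K(p, k) N) (hPR : ¬ P ≤ R) :
    ∃ x ∈ P, x ∉ R ∧ (⇑F)^[μ.den] x = ((p : K(p, k)) ^ μ.num) • x := by
  by_contra hcon
  push Not at hcon
  apply hPR
  have hfin : Module.Finite K(p, k) N := hF.finite
  have hFP := isIsoc_restrict hF hP
  have hμ : Isoc.IsIsoclinic (F.restrict hP) μ := (isIsoclinic_restrict_iff_isoIn F hP μ).2 hiso
  obtain ⟨M, hM, r, s, hs, hrs, heq⟩ := hμ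
  have hden : (μ.den : ℤ) ≠ 0 := by exact_mod_cast μ.den_nz
  have hb : a * (μ.den : ℤ) ≠ 0 := mul_ne_zero ha hden
  have hG := isIsoc_twIter hFP (-μ.num) μ.den
  -- `G^s M = M`
  have hrel : r * (μ.den : ℤ) = μ.num * (s : ℤ) := by
    have hsQ : (s : ℚ) ≠ 0 := by exact_mod_cast hs.ne'
    have hdQ : (μ.den : ℚ) ≠ 0 := by exact_mod_cast μ.den_nz
    have h1 : (r : ℚ) / s = (μ.num : ℚ) / (μ.den : ℚ) := by rw [hrs, Rat.num_div_den]
    rw [div_eq_div_iff hsQ hdQ] at h1
    exact_mod_cast h1
  have hGs : Isoc.latImg (twIter (F.restrict hP) (-μ.num) μ.den) s M = M := by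
    rw [latImg_twIter, Nat.mul_comm, latImg_mul_of_eq (F.restrict hP) heq μ.den, pPow_pPow]
    have e1 : -μ.num * (s : ℤ) + r * (μ.den : ℤ) = 0 := by rw [hrel]; ring
    rw [e1, pPow_zero]
  obtain ⟨j, rfl⟩ : ∃ j, s = j + 1 := ⟨s - 1, by omega⟩
  have hM' := sumImg_isLattice (twIter (F.restrict hP) (-μ.num) μ.den) hM j
  have heq' := latImg_one_sumImg_eq (twIter (F.restrict hP) (-μ.num) μ.den) M j hGs
  have hspan := dl_span_fixed (twIter (F.restrict hP) (-μ.num) μ.den) hb hG hM' heq'
  have hle : Submodule.span K(p, k)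
      {y : ↥P | (twIter (F.restrict hP) (-μ.num) μ.den) y = y} ≤ R.comap P.subtype := by
    rw [Submodule.span_le]
    intro y hy
    have hy' : (twIter (F.restrict hP) (-μ.num) μ.den) y = y := hy
    rw [twIter_apply] at hy'
    have h1 : (⇑(F.restrict hP))^[μ.den] y = ((p : K(p, k)) ^ μ.num) • y := by
      conv_rhs => rw [← hy']
      rw [smul_smul, ← zpow_add₀ p_ne_zero, add_neg_cancel, zpow_zero, one_smul]
    have h2 : (⇑F)^[μ.den] (y : N) = ((p : K(p, k)) ^ μ.num) • (y : N) := by
      rw [← coe_iterate_restrict F hP, h1]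
      rfl
    exact hcon (y : N) y.2 |>.mt (fun hne => hne h2) |> fun h => by
      by_contra hnot
      exact h hnot
  rw [hspan] at hle
  intro x hx
  exact hle (Submodule.mem_top (x := (⟨x, hx⟩ : ↥P)))

/-- the greedy step: outside a proper stable subspace there is a simple standard piece. -/
theorem exists_simple_disjoint (ha : a ≠ 0) (hF : Isoc.IsIsoc F) (R : Submodule K(p, k) N)
    (hR : ∀ x ∈ R, F x ∈ R) (hne : R ≠ ⊤) :
    ∃ (μ : ℚ) (x : N), x ∈ Isoc.slopePart F μ ∧
      (⇑F)^[μ.den] x = ((p : K(p, k)) ^ μ.num) • x ∧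
      Disjoint (cyc F μ.den x) R ∧ Module.finrank K(p, k) (cyc F μ.den x) = μ.den := by
  have hfin : Module.Finite K(p, k) N := hF.finite
  have htop : ⨆ μ : ℚ, Isoc.slopePart F μ = ⊤ :=
    (isInternal_slopePart F hF).submodule_iSup_eq_top
  obtain ⟨μ, hμ⟩ : ∃ μ : ℚ, ¬ Isoc.slopePart F μ ≤ R := by
    by_contra hall
    push Not at hall
    apply hne
    rw [eq_top_iff, ← htop]
    exact iSup_le hall
  obtain ⟨hPst, hPiso⟩ := slopePart_stable_isoIn hF μ
  obtain ⟨x, hxP, hxR, hx⟩ := exists_fixed_not_mem ha hF hPst hPiso R hμ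
  have hden : 0 < μ.den := μ.den_pos
  have hCst := cyc_stable F hden hx
  have hCle : cyc F μ.den x ≤ Isoc.slopePart F μ := cyc_le F hPst hxP
  have hxC : x ∈ cyc F μ.den x := self_mem_cyc F hden x
  have hx0 : x ≠ 0 := fun h0 => hxR (h0 ▸ R.zero_mem)
  -- divisibility for stable subspaces of the slope part
  have hdvd : ∀ S : Submodule K(p, k) N, (∀ y ∈ S, F y ∈ S) → S ≤ Isoc.slopePart F μ →
      μ.den ∣ Module.finrank K(p, k) S :=
    fun S hS hle => den_dvd_finrank hF hS (hPiso.sub hF hPst hS hle)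
  have hpos : ∀ S : Submodule K(p, k) N, S ≠ ⊥ → 0 < Module.finrank K(p, k) S := by
    intro S hS
    exact Module.finrank_pos_iff.2 (Submodule.nontrivial_iff_ne_bot.2 hS)
  have hCne : cyc F μ.den x ≠ ⊥ := fun h0 => hx0 ((Submodule.mem_bot _).1 (h0 ▸ hxC))
  have hCrank : Module.finrank K(p, k) (cyc F μ.den x) = μ.den := by
    apply le_antisymm (finrank_cyc_le F hfin _ _)
    exact Nat.le_of_dvd (hpos _ hCne) (hdvd _ hCst hCle)
  refine ⟨μ, x, hxP, hx, ?_, hCrank⟩
  rw [disjoint_iff]
  by_contra hinf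
  have hIst : ∀ y ∈ cyc F μ.den x ⊓ R, F y ∈ cyc F μ.den x ⊓ R := stable_inf hCst hR
  have h1 := Nat.le_of_dvd (hpos _ hinf) (hdvd _ hIst (inf_le_left.trans hCle))
  have h2 : cyc F μ.den x ⊓ R = cyc F μ.den x := by
    apply Submodule.eq_of_le_of_finrank_le inf_le_left
    rw [hCrank]; exact h1
  exact hxR ((inf_eq_left.1 h2) hxC)

/-- S17154: semisimplicity. -/
theorem exists_stable_compl (ha : a ≠ 0) (hF : Isoc.IsIsoc F) (P : Submodule K(p, k) N)
    (hP : ∀ x ∈ P, F x ∈ P) :
    ∃ Q : Submodule K(p, k) N, (∀ x ∈ Q, F x ∈ Q) ∧ IsCompl P Q := by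
  have hfin : Module.Finite K(p, k) N := hF.finite
  -- induction on the codimension of `P ⊔ Q`
  have key : ∀ (n : ℕ) (Q : Submodule K(p, k) N), (∀ x ∈ Q, F x ∈ Q) → Disjoint P Q →
      Module.finrank K(p, k) N - Module.finrank K(p, k) ↥(P ⊔ Q) = n →
      ∃ Q' : Submodule K(p, k) N, (∀ x ∈ Q', F x ∈ Q') ∧ IsCompl P Q' := by
    intro n
    induction n using Nat.strong_induction_on with
    | _ n ih =>
      intro Q hQ hdisj hn
      by_cases htop : P ⊔ Q = ⊤
      · exact ⟨Q, hQ, ⟨hdisj, codisjoint_iff.2 htop⟩⟩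
      · have hRst : ∀ x ∈ P ⊔ Q, F x ∈ P ⊔ Q := stable_sup hP hQ
        obtain ⟨μ, x, -, hx, hdis, hrank⟩ := exists_simple_disjoint ha hF (P ⊔ Q) hRst htop
        have hCst := cyc_stable F μ.den_pos hx
        have hQ' : ∀ y ∈ Q ⊔ cyc F μ.den x, F y ∈ Q ⊔ cyc F μ.den x := stable_sup hQ hCst
        have hdisj' : Disjoint P (Q ⊔ cyc F μ.den x) :=
          hdisj.disjoint_sup_right_of_disjoint_sup_left hdis.symm
        have hlt : Module.finrank K(p, k) ↥(P ⊔ Q) <
            Module.finrank K(p, k) ↥(P ⊔ (Q ⊔ cyc F μ.den x)) := by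
          apply Submodule.finrank_lt_finrank_of_lt
          rw [← sup_assoc]
          apply lt_of_le_of_ne le_sup_left
          intro heq
          have h1 : cyc F μ.den x ≤ P ⊔ Q := by rw [heq]; exact le_sup_right
          have h2 : cyc F μ.den x = ⊥ := by
            rw [eq_bot_iff]
            exact hdis.le_bot.trans' (le_inf le_rfl h1)
          have h3 : Module.finrank K(p, k) (cyc F μ.den x) = 0 := by
            rw [h2]; exact finrank_bot _ _
          have := μ.den_pos
          omega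
        have hle : Module.finrank K(p, k) ↥(P ⊔ (Q ⊔ cyc F μ.den x)) ≤
            Module.finrank K(p, k) N := Submodule.finrank_le _
        exact ih _ (by omega) (Q ⊔ cyc F μ.den x) hQ' hdisj' rfl
  exact key _ ⊥ (fun x hx => by rw [(Submodule.mem_bot _).1 hx, map_zero]; exact Submodule.zero_mem _)
    disjoint_bot_right rfl

end Simple

section Classify

variable {a : ℤ} (F : N →ₛₗ[Isoc.frob p k a] N)

theorem finRotate_val (n : ℕ) (j : Fin n) :
    (finRotate n j).val = if j.val + 1 = n then 0 else j.val + 1 := by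
  cases n with
  | zero => exact j.elim0
  | succ n =>
    rw [coe_finRotate]
    by_cases h : j = Fin.last n
    · rw [if_pos h, if_pos]
      rw [h]; simp
    · rw [if_neg h, if_neg]
      intro h'
      apply h
      apply Fin.ext
      simp only [Fin.val_last]; omega

/-- the iterates span the cyclic subspace, inside the subtype. -/
theorem cyc_span_subtype (h : ℕ) (x : N) :
    ⊤ ≤ Submodule.span K(p, k) (Set.range (fun j : Fin h =>
      (⟨(⇑F)^[j.val] x, iterate_mem_cyc F x j.2⟩ : cyc F h x))) := by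
  rintro ⟨y, hy⟩ -
  refine Submodule.span_induction (p := fun y hy => (⟨y, hy⟩ : cyc F h x) ∈
    Submodule.span K(p, k) (Set.range (fun j : Fin h =>
      (⟨(⇑F)^[j.val] x, iterate_mem_cyc F x j.2⟩ : cyc F h x)))) ?_ ?_ ?_ ?_ hy
  · rintro _ ⟨j, rfl⟩
    exact Submodule.subset_span ⟨j, rfl⟩
  · exact Submodule.zero_mem _
  · intro y z hy hz hy' hz'
    exact Submodule.add_mem _ hy' hz'
  · intro c y hy hy'
    exact Submodule.smul_mem _ c hy'

/-- the basis `x, F x, ..., F^(h-1) x` of a cyclic subspace of full dimension. -/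
def cycBasis (h : ℕ) (x : N) (hrank : Module.finrank K(p, k) (cyc F h x) = h) :
    Module.Basis (Fin h) K(p, k) (cyc F h x) :=
  basisOfTopLeSpanOfCardEqFinrank _ (cyc_span_subtype F h x) (by rw [Fintype.card_fin, hrank])

theorem cycBasis_apply (h : ℕ) (x : N) (hrank : Module.finrank K(p, k) (cyc F h x) = h)
    (j : Fin h) : ((cycBasis F h x hrank j : cyc F h x) : N) = (⇑F)^[j.val] x := by
  rw [cycBasis, coe_basisOfTopLeSpanOfCardEqFinrank]

/-- a good index: a vector of the slope part with `F^h x = p^d x` generating a piece of full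
dimension. -/
def Good (g : ℚ × N) : Prop :=
  g.2 ∈ Isoc.slopePart F g.1 ∧ (⇑F)^[g.1.den] g.2 = ((p : K(p, k)) ^ g.1.num) • g.2 ∧
    Module.finrank K(p, k) (cyc F g.1.den g.2) = g.1.den

/-- the piece of an index. -/
def piece (g : ℚ × N) : Submodule K(p, k) N := cyc F g.1.den g.2

variable {F}

theorem piece_stable {g : ℚ × N} (hg : Good F g) : ∀ y ∈ piece F g, F y ∈ piece F g :=
  cyc_stable F g.1.den_pos hg.2.1

theorem stable_finset_sup_piece (s : Finset (ℚ × N)) (hs : ∀ g ∈ s, Good F g) :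
    ∀ y ∈ s.sup (piece F), F y ∈ s.sup (piece F) := by
  classical
  induction s using Finset.induction_on with
  | empty =>
    intro y hy
    rw [Finset.sup_empty, Submodule.mem_bot] at hy
    rw [hy, map_zero]; exact Submodule.zero_mem _
  | insert g s hg ih =>
    rw [Finset.sup_insert]
    exact stable_sup (piece_stable (hs g (Finset.mem_insert_self _ _)))
      (ih (fun g' hg' => hs g' (Finset.mem_insert_of_mem hg')))

theorem exists_family [IsAlgClosed k] (ha : a ≠ 0) (hF : Isoc.IsIsoc F) :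
    ∃ s : Finset (ℚ × N), (∀ g ∈ s, Good F g) ∧ s.SupIndep (piece F) ∧ s.sup (piece F) = ⊤ := by
  classical
  have hfin : Module.Finite K(p, k) N := hF.finite
  have key : ∀ (n : ℕ) (s : Finset (ℚ × N)), (∀ g ∈ s, Good F g) → s.SupIndep (piece F) →
      Module.finrank K(p, k) N - Module.finrank K(p, k) ↥(s.sup (piece F)) = n →
      ∃ s' : Finset (ℚ × N), (∀ g ∈ s', Good F g) ∧ s'.SupIndep (piece F) ∧
        s'.sup (piece F) = ⊤ := by
    intro n
    induction n using Nat.strong_induction_on with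
    | _ n ih =>
      intro s hs hind hn
      by_cases htop : s.sup (piece F) = ⊤
      · exact ⟨s, hs, hind, htop⟩
      · obtain ⟨μ, x, hxP, hx, hdis, hrank⟩ :=
          exists_simple_disjoint ha hF _ (stable_finset_sup_piece s hs) htop
        have hgood : Good F (μ, x) := ⟨hxP, hx, hrank⟩
        have hs' : ∀ g ∈ insert (μ, x) s, Good F g := by
          intro g hg
          rcases Finset.mem_insert.1 hg with rfl | hg
          · exact hgood
          · exact hs g hg
        have hdis' : Disjoint (piece F (μ, x)) (s.sup (piece F)) := hdis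
        have hind' : (insert (μ, x) s).SupIndep (piece F) := hind.insert hdis'
        have hlt : Module.finrank K(p, k) ↥(s.sup (piece F)) <
            Module.finrank K(p, k) ↥((insert (μ, x) s).sup (piece F)) := by
          apply Submodule.finrank_lt_finrank_of_lt
          rw [Finset.sup_insert]
          apply lt_of_le_of_ne le_sup_right
          intro heq
          have h1 : piece F (μ, x) ≤ s.sup (piece F) := by rw [heq]; exact le_sup_left
          have h2 : piece F (μ, x) = ⊥ := by
            rw [eq_bot_iff]; exact hdis'.le_bot.trans' (le_inf le_rfl h1)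
          have h3 : Module.finrank K(p, k) (piece F (μ, x)) = 0 := by
            rw [h2]; exact finrank_bot _ _
          have h4 : Module.finrank K(p, k) (piece F (μ, x)) = μ.den := hrank
          have := μ.den_pos
          omega
        have hle := Submodule.finrank_le ((insert (μ, x) s).sup (piece F))
        exact ih _ (by omega) _ hs' hind' rfl
  exact key _ ∅ (by simp) (Finset.supIndep_empty _) rfl

end Classify

end Groth.Agent.Lib.helper24.IsocLib

end
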