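import Groth.Agent.Lib.Helper24.IsocClass

/-!
Dieudonné–Manin classification (helper24).
-/

set_option autoImplicit false
set_option linter.unusedSectionVars false

noncomputable section

open scoped Pointwise Isocrystal

universe u v

namespace Groth.Agent.Lib.helper24.IsocLib

variable {p : ℕ} [Fact p.Prime] {k : Type u} [Field k] [CharP k p] [PerfectRing k p]
variable {N : Type v} [AddCommGroup N] [Module (WittVector p k) N] [Module K(p, k) N]
  [IsScalarTower (WittVector p k) K(p, k) N]

section Main

variable {a : ℤ} {F : N →ₛₗ[Isoc.frob p k a] N}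

/-- Data of a decomposition into standard pieces indexed by `Fin t`. -/
theorem exists_fin_family [IsAlgClosed k] (ha : a ≠ 0) (hF : Isoc.IsIsoc F) :
    ∃ (t : ℕ) (g : Fin t → ℚ × N), (∀ i, Good F (g i)) ∧
      iSupIndep (fun i => piece F (g i)) ∧ ⨆ i, piece F (g i) = ⊤ := by
  classical
  obtain ⟨s, hs, hind, htop⟩ := exists_family ha hF
  refine ⟨s.card, fun i => ((s.equivFin.symm i : ↥s) : ℚ × N), ?_, ?_, ?_⟩
  · intro i
    exact hs _ (s.equivFin.symm i).2
  · have h1 : iSupIndep ((piece F) ∘ ((↑) : ↥s → ℚ × N)) :=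
      iSupIndep_comp_coe_iff_supIndep.2 hind
    exact h1.comp s.equivFin.symm.injective
  · rw [← htop, Finset.sup_eq_iSup]
    apply le_antisymm
    · exact iSup_le (fun i => le_iSup₂_of_le _ (s.equivFin.symm i).2 le_rfl)
    · refine iSup₂_le (fun b hb => ?_)
      have h2 : b = ((s.equivFin.symm (s.equivFin ⟨b, hb⟩) : ↥s) : ℚ × N) := by
        rw [Equiv.symm_apply_apply]
      rw [h2]
      exact le_iSup (fun i => piece F ((s.equivFin.symm i : ↥s) : ℚ × N)) _

/-- coefficient on the sigma index. -/
def stdCS {t : ℕ} (g : Fin t → ℚ × N) (b : Σ i : Fin t, Fin (g i).1.den) : K(p, k) :=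
  if b.2.val = 0 then (p : K(p, k)) ^ (g b.1).1.num else 1

/-- rotation on the sigma index. -/
def rotS {t : ℕ} (g : Fin t → ℚ × N) :
    (Σ i : Fin t, Fin (g i).1.den) ≃ (Σ i : Fin t, Fin (g i).1.den) :=
  Equiv.sigmaCongrRight (fun i => finRotate (g i).1.den)

theorem card_sigma_filter {t : ℕ} (h : Fin t → ℕ) (q : Fin t → Prop) [DecidablePred q] :
    Fintype.card {b : (Σ i : Fin t, Fin (h i)) // q b.1} =
      ∑ i : Fin t, if q i then h i else 0 := by
  classical
  rw [Fintype.card_subtype, Finset.card_filter, Fintype.sum_sigma]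
  apply Finset.sum_congr rfl
  intro i _
  split_ifs with hq
  · simp
  · simp

/-- S17155: the Dieudonné–Manin classification. -/
theorem classification [IsAlgClosed k] (ha : a ≠ 0) (hF : Isoc.IsIsoc F) :
    ∃ (t : ℕ) (d : Fin t → ℤ) (h : Fin t → ℕ)
      (e : N ≃ₗ[K(p, k)] ((i : Fin t) → (Fin (h i) → K(p, k)))),
      (∀ i, 0 < h i ∧ Int.gcd (d i) (h i) = 1) ∧
      (∀ (x : N) (i : Fin t),
        e (F x) i = Isoc.stdIsoc (Isoc.frob p k a) (d i) (h i) (e x i)) ∧
      ∀ μ : ℚ, Isoc.newtonMult F μ =
        ∑ i : Fin t, (if ((d i : ℚ) / (h i : ℚ)) = μ then h i else 0) := by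
  classical
  have hfin : Module.Finite K(p, k) N := hF.finite
  obtain ⟨t, g, hgood, hind, htop⟩ := exists_fin_family ha hF
  have hint : DirectSum.IsInternal (fun i => piece F (g i)) :=
    (DirectSum.isInternal_submodule_iff_iSupIndep_and_iSup_eq_top _).2 ⟨hind, htop⟩
  -- bases of the pieces and the collected basis
  let B : ∀ i, Module.Basis (Fin (g i).1.den) K(p, k) (piece F (g i)) :=
    fun i => cycBasis F (g i).1.den (g i).2 (hgood i).2.2
  let CB := hint.collectedBasis B
  have hCBapp : ∀ b : (Σ i : Fin t, Fin (g i).1.den), CB b = (⇑F)^[b.2.val] (g b.1).2 := by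
    intro b
    show hint.collectedBasis B b = _
    rw [DirectSum.IsInternal.collectedBasis_coe]
    exact cycBasis_apply F (g b.1).1.den (g b.1).2 (hgood b.1).2.2 b.2
  -- action of `F` on the collected basis
  have hFCB : ∀ b, F (CB b) = stdCS (p := p) (k := k) g (rotS g b) • CB (rotS g b) := by
    rintro ⟨i, j⟩
    rw [hCBapp, hCBapp]
    have hrot : rotS g ⟨i, j⟩ = ⟨i, finRotate (g i).1.den j⟩ := rfl
    rw [hrot]
    simp only [stdCS]
    have hstep : F ((⇑F)^[j.val] (g i).2) = (⇑F)^[j.val + 1] (g i).2 :=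
      (Function.iterate_succ_apply' (⇑F) j.val (g i).2).symm
    rw [hstep, finRotate_val]
    by_cases hj : j.val + 1 = (g i).1.den
    · rw [if_pos hj, if_pos rfl, hj, (hgood i).2.1]
      rfl
    · rw [if_neg hj, if_neg (Nat.succ_ne_zero _), one_smul]
  -- the two semilinear maps
  let A' : N →ₛₗ[Isoc.frob p k a] ((Σ i : Fin t, Fin (g i).1.den) → K(p, k)) :=
    (CB.equivFun : N →ₗ[K(p, k)] _).comp F
  let C' : N →ₛₗ[Isoc.frob p k a] ((Σ i : Fin t, Fin (g i).1.den) → K(p, k)) :=
    { toFun := fun y b => stdCS (p := p) (k := k) g b * Isoc.frob p k a (CB.equivFun y ((rotS g).symm b))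
      map_add' := by
        intro y z
        funext b
        simp only [map_add, Pi.add_apply, mul_add]
      map_smul' := by
        intro c y
        funext b
        simp only [map_smul, Pi.smul_apply, smul_eq_mul, map_mul]
        ring }
  have hAC : A' = C' := by
    apply CB.ext
    intro b₀
    funext b
    show CB.equivFun (F (CB b₀)) b =
      stdCS (p := p) (k := k) g b * Isoc.frob p k a (CB.equivFun (CB b₀) ((rotS g).symm b))
    rw [hFCB, map_smul, Pi.smul_apply, smul_eq_mul, Module.Basis.equivFun_self,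
      Module.Basis.equivFun_self]
    by_cases hb : rotS g b₀ = b
    · subst hb
      rw [if_pos rfl, if_pos (Equiv.symm_apply_apply _ _).symm, map_one]
    · rw [if_neg hb, if_neg, map_zero, mul_zero, mul_zero]
      intro h'
      apply hb
      rw [h', Equiv.apply_symm_apply]
  -- the equivalence
  refine ⟨t, fun i => (g i).1.num, fun i => (g i).1.den,
    CB.equivFun.trans (LinearEquiv.piCurry K(p, k) (fun (i : Fin t) (_ : Fin (g i).1.den) => K(p, k))),
    ?_, ?_, ?_⟩
  · intro i
    exact ⟨(g i).1.den_pos, (g i).1.reduced⟩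
  · intro x i
    funext j
    have h1 := congrFun (congrArg (fun f => f x) hAC) ⟨i, j⟩
    exact h1
  · intro μ
    -- the spans of the sub-families
    let T : ℚ → Submodule K(p, k) N := fun μ =>
      Submodule.span K(p, k) (Set.range
        (fun b : {b : (Σ i : Fin t, Fin (g i).1.den) // (g b.1).1 = μ} => CB b))
    have hTle : T ≤ fun μ => Isoc.slopePart F μ := by
      intro ν
      show T ν ≤ Isoc.slopePart F ν
      rw [Submodule.span_le]
      rintro _ ⟨⟨b, hb⟩, rfl⟩
      show CB b ∈ Isoc.slopePart F ν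
      rw [hCBapp, ← hb]
      have hst := (slopePart_stable_isoIn hF (g b.1).1).1
      have : ∀ n : ℕ, (⇑F)^[n] (g b.1).2 ∈ Isoc.slopePart F (g b.1).1 := by
        intro n
        induction n with
        | zero => exact (hgood b.1).1
        | succ n ih => rw [Function.iterate_succ_apply']; exact hst _ ih
      exact this _
    have hTtop : iSup T = ⊤ := by
      rw [eq_top_iff, ← CB.span_eq, Submodule.span_le]
      rintro _ ⟨b, rfl⟩
      have h1 : CB b ∈ T (g b.1).1 := Submodule.subset_span ⟨⟨b, rfl⟩, rfl⟩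
      exact (le_iSup T (g b.1).1) h1
    have hTeq : T = fun μ => Isoc.slopePart F μ :=
      ((iSupIndep_slopePart hF).le_iff_eq_of_iSup_eq_top hTtop).1 hTle
    have hrank : Module.finrank K(p, k) (T μ) =
        Fintype.card {b : (Σ i : Fin t, Fin (g i).1.den) // (g b.1).1 = μ} := by
      apply finrank_span_eq_card
      exact CB.linearIndependent.comp _ Subtype.val_injective
    have hμ : Isoc.newtonMult F μ = Module.finrank K(p, k) (T μ) := by
      rw [hTeq]; rfl
    rw [hμ, hrank, card_sigma_filter (fun i => (g i).1.den) (fun i => (g i).1 = μ)]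
    apply Finset.sum_congr rfl
    intro i _
    have h2 : (((g i).1.num : ℚ) / ((g i).1.den : ℚ)) = (g i).1 := Rat.num_div_den _
    rw [h2]

end Main

end Groth.Agent.Lib.helper24.IsocLib

end
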