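import Groth.Agent.Lib.Helper24.SigmaLinFix

/-!
# Fixed vectors span (Nakayama), given surjectivity of `1 - T`
-/

set_option autoImplicit false
set_option linter.unusedSectionVars false
universe u v

namespace Groth.Agent.Lib.helper24.SigmaLinLib

open IsLocalRing

section Nakayama

variable {R : Type u} [CommRing R] [IsLocalRing R]
variable {M : Type v} [AddCommGroup M] [Module R M] [Module.Finite R M]
variable {σ : R →+* R} {σbar : ResidueField R →+* ResidueField R}

open scoped Pointwise in
theorem span_fixed_eq_top (p : ℕ) (hmax : maximalIdeal R = Ideal.span {(p : R)})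
    (hσbar : ∀ r : R, σbar (residue R r) = residue R (σ r))
    (h2 : H2 σbar) (h3 : H3 σbar) (T : M →ₛₗ[σ] M)
    (hTsurj : Function.Surjective T)
    (hL1 : Function.Surjective (fun m : M => m - T m)) :
    Submodule.span R {m : M | T m = m} = ⊤ := by
  have hTbar : Function.Surjective (redMap hσbar T) := by
    intro y
    obtain ⟨m, rfl⟩ := Submodule.Quotient.mk_surjective _ y
    obtain ⟨m', rfl⟩ := hTsurj m
    exact ⟨Submodule.Quotient.mk m', rfl⟩
  have h1 : Submodule.span (ResidueField R) (Set.range ⇑(redMap hσbar T)) = ⊤ := by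
    rw [hTbar.range_eq, Submodule.span_univ]
  obtain ⟨⟨β, hβ⟩, -⟩ := fixed_basis_and_surjective (redMap hσbar T) h1 h2 h3
  have hlift : ∀ i, ∃ x : M, T x = x ∧ (Submodule.Quotient.mk x : Red R M) = β i := by
    intro i
    obtain ⟨m, hm⟩ := Submodule.Quotient.mk_surjective _ (β i)
    have hmem : T m - m ∈ (maximalIdeal R • (⊤ : Submodule R M)) := by
      rw [← Submodule.Quotient.mk_eq_zero, Submodule.Quotient.mk_sub, sub_eq_zero,
        ← redMap_mk hσbar T, hm, hβ]
    rw [hmax, Submodule.ideal_span_singleton_smul,
      Submodule.mem_smul_pointwise_iff_exists] at hmem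
    obtain ⟨z, -, hz⟩ := hmem
    obtain ⟨y, hy⟩ := hL1 z
    have hy' : y - T y = z := hy
    refine ⟨m + (p : R) • y, ?_, ?_⟩
    · rw [map_add, map_smulₛₗ, map_natCast]
      have h4 : T m = m + (p : R) • z := by rw [hz]; abel
      have h5 : T y = y - z := by rw [← hy']; abel
      rw [h4, h5, smul_sub]; abel
    · rw [Submodule.Quotient.mk_add, hm]
      have h6 : (Submodule.Quotient.mk ((p : R) • y) : Red R M) = 0 := by
        rw [Submodule.Quotient.mk_eq_zero, hmax, Submodule.ideal_span_singleton_smul]
        exact Submodule.smul_mem_pointwise_smul _ _ _ Submodule.mem_top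
      rw [h6, add_zero]
  choose x hxfix hxmk using hlift
  rw [eq_top_iff]
  apply Submodule.le_of_le_smul_of_le_jacobson_bot (I := maximalIdeal R) Module.Finite.fg_top
    (maximalIdeal_le_jacobson _)
  intro m _
  have hrepr := β.sum_repr (Submodule.Quotient.mk m)
  choose c hc using fun i => residue_surjective (β.repr (Submodule.Quotient.mk m) i)
  have hdiff : m - ∑ i, c i • x i ∈ maximalIdeal R • (⊤ : Submodule R M) := by
    rw [← Submodule.Quotient.mk_eq_zero, Submodule.Quotient.mk_sub, sub_eq_zero]
    have h6 : (Submodule.Quotient.mk (∑ i, c i • x i) : Red R M) =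
        ∑ i, β.repr (Submodule.Quotient.mk m) i • β i := by
      rw [← Submodule.mkQ_apply, map_sum]
      apply Finset.sum_congr rfl
      intro i _
      rw [Submodule.mkQ_apply, Submodule.Quotient.mk_smul, hxmk, ← hc i, residue_smul]
    rw [h6, hrepr]
  have hm : m = ∑ i, c i • x i + (m - ∑ i, c i • x i) := by abel
  rw [hm]
  exact Submodule.add_mem_sup
    (Submodule.sum_mem _ (fun i _ => Submodule.smul_mem _ _ (Submodule.subset_span (hxfix i))))
    hdiff

open scoped Pointwise in
/-- fixed generators lifting a fixed basis of the reduction. -/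
theorem exists_fixed_generators (p : ℕ) (hmax : maximalIdeal R = Ideal.span {(p : R)})
    (hσbar : ∀ r : R, σbar (residue R r) = residue R (σ r))
    (h2 : H2 σbar) (h3 : H3 σbar) (T : M →ₛₗ[σ] M)
    (hTsurj : Function.Surjective T)
    (hL1 : Function.Surjective (fun m : M => m - T m)) :
    ∃ x : Fin (Module.finrank (ResidueField R) (Red R M)) → M,
      (∀ i, T (x i) = x i) ∧ ⊤ ≤ Submodule.span R (Set.range x) := by
  have hTbar : Function.Surjective (redMap hσbar T) := by
    intro y
    obtain ⟨m, rfl⟩ := Submodule.Quotient.mk_surjective _ y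
    obtain ⟨m', rfl⟩ := hTsurj m
    exact ⟨Submodule.Quotient.mk m', rfl⟩
  have h1 : Submodule.span (ResidueField R) (Set.range ⇑(redMap hσbar T)) = ⊤ := by
    rw [hTbar.range_eq, Submodule.span_univ]
  obtain ⟨⟨β, hβ⟩, -⟩ := fixed_basis_and_surjective (redMap hσbar T) h1 h2 h3
  have hlift : ∀ i, ∃ x : M, T x = x ∧ (Submodule.Quotient.mk x : Red R M) = β i := by
    intro i
    obtain ⟨m, hm⟩ := Submodule.Quotient.mk_surjective _ (β i)
    have hmem : T m - m ∈ (maximalIdeal R • (⊤ : Submodule R M)) := by
      rw [← Submodule.Quotient.mk_eq_zero, Submodule.Quotient.mk_sub, sub_eq_zero,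
        ← redMap_mk hσbar T, hm, hβ]
    rw [hmax, Submodule.ideal_span_singleton_smul,
      Submodule.mem_smul_pointwise_iff_exists] at hmem
    obtain ⟨z, -, hz⟩ := hmem
    obtain ⟨y, hy⟩ := hL1 z
    have hy' : y - T y = z := hy
    refine ⟨m + (p : R) • y, ?_, ?_⟩
    · rw [map_add, map_smulₛₗ, map_natCast]
      have h4 : T m = m + (p : R) • z := by rw [hz]; abel
      have h5 : T y = y - z := by rw [← hy']; abel
      rw [h4, h5, smul_sub]; abel
    · rw [Submodule.Quotient.mk_add, hm]
      have h6 : (Submodule.Quotient.mk ((p : R) • y) : Red R M) = 0 := by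
        rw [Submodule.Quotient.mk_eq_zero, hmax, Submodule.ideal_span_singleton_smul]
        exact Submodule.smul_mem_pointwise_smul _ _ _ Submodule.mem_top
      rw [h6, add_zero]
  choose x hxfix hxmk using hlift
  refine ⟨x, hxfix, ?_⟩
  apply Submodule.le_of_le_smul_of_le_jacobson_bot (I := maximalIdeal R) Module.Finite.fg_top
    (maximalIdeal_le_jacobson _)
  intro m _
  have hrepr := β.sum_repr (Submodule.Quotient.mk m)
  choose c hc using fun i => residue_surjective (β.repr (Submodule.Quotient.mk m) i)
  have hdiff : m - ∑ i, c i • x i ∈ maximalIdeal R • (⊤ : Submodule R M) := by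
    rw [← Submodule.Quotient.mk_eq_zero, Submodule.Quotient.mk_sub, sub_eq_zero]
    have h6 : (Submodule.Quotient.mk (∑ i, c i • x i) : Red R M) =
        ∑ i, β.repr (Submodule.Quotient.mk m) i • β i := by
      rw [← Submodule.mkQ_apply, map_sum]
      apply Finset.sum_congr rfl
      intro i _
      rw [Submodule.mkQ_apply, Submodule.Quotient.mk_smul, hxmk, ← hc i, residue_smul]
    rw [h6, hrepr]
  have hm : m = ∑ i, c i • x i + (m - ∑ i, c i • x i) := by abel
  rw [hm]
  exact Submodule.add_mem_sup
    (Submodule.sum_mem _ (fun i _ => Submodule.smul_mem _ _ (Submodule.subset_span ⟨i, rfl⟩)))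
    hdiff

/-- the reduction of a module generated by `n` elements has dimension at most `n`. -/
theorem finrank_red_le {n : ℕ} (b : Fin n → M) (hb : ⊤ ≤ Submodule.span R (Set.range b)) :
    Module.finrank (ResidueField R) (Red R M) ≤ n := by
  have hspan : ⊤ ≤ Submodule.span (ResidueField R)
      (Set.range (fun i => (Submodule.Quotient.mk (b i) : Red R M))) := by
    rintro y -
    obtain ⟨m, rfl⟩ := Submodule.Quotient.mk_surjective _ y
    have hm : m ∈ Submodule.span R (Set.range b) := hb Submodule.mem_top
    refine Submodule.span_induction (p := fun m _ => (Submodule.Quotient.mk m : Red R M) ∈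
      Submodule.span (ResidueField R)
        (Set.range (fun i => (Submodule.Quotient.mk (b i) : Red R M)))) ?_ ?_ ?_ ?_ hm
    · rintro _ ⟨i, rfl⟩
      exact Submodule.subset_span ⟨i, rfl⟩
    · exact Submodule.zero_mem _
    · intro y z _ _ hy hz
      rw [Submodule.Quotient.mk_add]; exact Submodule.add_mem _ hy hz
    · intro c y _ hy
      rw [Submodule.Quotient.mk_smul, ← residue_smul]
      exact Submodule.smul_mem _ _ hy
  have h1 := finrank_range_le_card (R := ResidueField R)
    (fun i => (Submodule.Quotient.mk (b i) : Red R M))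
  rw [Fintype.card_fin] at h1
  have h2 : Module.finrank (ResidueField R) (Red R M) =
      (Set.range (fun i => (Submodule.Quotient.mk (b i) : Red R M))).finrank (ResidueField R) := by
    rw [Set.finrank, top_le_iff.1 hspan, finrank_top]
  rw [h2]; exact h1

end Nakayama

end Groth.Agent.Lib.helper24.SigmaLinLib
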