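import Groth.Agent.Lib.Helper24.SigmaLinLocal

/-!
# Fixed points of semilinear maps: finiteness over the fixed subring (S19236)
-/

set_option autoImplicit false
set_option linter.unusedSectionVars false
universe u v

namespace Groth.Agent.Lib.helper24.SigmaLinLib

open IsLocalRing

section FixedField

variable {k : Type u} [Field k] {σ : k →+* k}
variable {V : Type v} [AddCommGroup V] [Module k V] (T : V →ₛₗ[σ] V)

theorem fixed_mem_iInf (v : V) (hv : T v = v) : v ∈ ⨅ n, imgSpan T n := by
  rw [Submodule.mem_iInf]
  intro n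
  have h : (⇑T)^[n] v = v := Function.iterate_fixed hv n
  rw [← h]
  exact Submodule.subset_span ⟨v, rfl⟩

variable [FiniteDimensional k V]

theorem exists_fixed_family (hσ : Function.Surjective σ) (h2 : H2 σ) (h3 : H3 σ) :
    ∃ (d : ℕ) (g : Fin d → V), (∀ i, T (g i) = g i) ∧
      ∀ v, T v = v → ∃ c : Fin d → k, (∀ i, σ (c i) = c i) ∧ v = ∑ i, c i • g i := by
  obtain ⟨-, b, hb⟩ := general T hσ h2 h3
  refine ⟨_, fun i => (b i : V), hb, ?_⟩
  intro v hv
  have hvP := fixed_mem_iInf T v hv
  have hw : (⟨v, hvP⟩ : ↥(⨅ n, imgSpan T n)) =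
      ∑ i, b.repr ⟨v, hvP⟩ i • b i := (b.sum_repr _).symm
  have hv' : v = ∑ i, b.repr ⟨v, hvP⟩ i • (b i : V) := by
    have h0 := congrArg Subtype.val hw
    simp only [Submodule.coe_sum, Submodule.coe_smul] at h0
    exact h0
  refine ⟨fun i => b.repr ⟨v, hvP⟩ i, ?_, hv'⟩
  have hTv : v = ∑ i, σ (b.repr ⟨v, hvP⟩ i) • (b i : V) := by
    conv_lhs => rw [← hv, hv', map_sum]
    apply Finset.sum_congr rfl
    intro i _
    rw [map_smulₛₗ, hb]
  have h1 : (⟨v, hvP⟩ : ↥(⨅ n, imgSpan T n)) =
      ∑ i, σ (b.repr ⟨v, hvP⟩ i) • b i := by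
    apply Subtype.ext
    simp only [Submodule.coe_sum, Submodule.coe_smul]
    exact hTv
  intro i
  have h3' := b.repr_sum_self (fun i => σ (b.repr ⟨v, hvP⟩ i))
  rw [← h1] at h3'
  exact (congrFun h3' i).symm

end FixedField

section FixRing

variable {R : Type u} [CommRing R] (σ : R →+* R)

/-- the subring of `σ`-fixed elements. -/
def fixRing : Subring R where
  carrier := {r | σ r = r}
  mul_mem' := by
    intro a b ha hb
    show σ (a * b) = a * b
    rw [map_mul, ha, hb]
  one_mem' := map_one σ
  add_mem' := by
    intro a b ha hb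
    show σ (a + b) = a + b
    rw [map_add, ha, hb]
  zero_mem' := map_zero σ
  neg_mem' := by
    intro a ha
    show σ (-a) = -a
    rw [map_neg, ha]

theorem mem_fixRing {r : R} : r ∈ fixRing σ ↔ σ r = r := Iff.rfl

variable {σ}
variable {M : Type v} [AddCommGroup M] [Module R M] (T : M →ₛₗ[σ] M)

/-- the fixed points as a submodule over the fixed subring. -/
def fixSub : Submodule (fixRing σ) M where
  carrier := {m | T m = m}
  add_mem' := by
    intro a b ha hb
    show T (a + b) = a + b
    rw [map_add, ha, hb]
  zero_mem' := map_zero T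
  smul_mem' := by
    intro c m hm
    show T ((c : R) • m) = (c : R) • m
    rw [map_smulₛₗ, c.2, hm]

theorem mem_fixSub {m : M} : m ∈ fixSub T ↔ T m = m := Iff.rfl

end FixRing

section Local

variable {R : Type u} [CommRing R] [IsLocalRing R]
variable {σ : R →+* R} {σbar : ResidueField R →+* ResidueField R}

theorem residue_smul {M : Type v} [AddCommGroup M] [Module R M] (r : R) (x : Red R M) :
    residue R r • x = r • x := by
  obtain ⟨m, rfl⟩ := Submodule.Quotient.mk_surjective _ x
  rfl

theorem fixSub_fg_aux (p : ℕ) (hmax : maximalIdeal R = Ideal.span {(p : R)})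
    (n : ℕ) (hn : (p : R) ^ n = 0)
    (hσbar : ∀ r : R, σbar (residue R r) = residue R (σ r))
    (hsurj : Function.Surjective σbar) (h2 : H2 σbar) (h3 : H3 σbar)
    (hlift : ∀ x : ResidueField R, σbar x = x → ∃ r : R, σ r = r ∧ residue R r = x) :
    ∀ (j : ℕ) (M : Type v) [AddCommGroup M] [Module R M] [Module.Finite R M] (T : M →ₛₗ[σ] M),
      (∀ m : M, (p : R) ^ j • m = 0) → (fixSub T).FG := by
  intro j
  induction j with
  | zero =>
    intro M _ _ _ T hM
    have hsub : Subsingleton M := ⟨fun a b => by
      have ha := hM a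
      have hb := hM b
      rw [pow_zero, one_smul] at ha hb
      rw [ha, hb]⟩
    have : fixSub T = ⊥ := Subsingleton.elim _ _
    rw [this]
    exact Submodule.fg_bot
  | succ j ih =>
    intro M _ _ _ T hM
    -- the submodule `N = 𝔪 M`
    have hNstab : ∀ x ∈ (maximalIdeal R • (⊤ : Submodule R M)),
        T x ∈ (maximalIdeal R • (⊤ : Submodule R M)) := fun x hx => map_mem_smul_top hσbar T hx
    have hNfg : (maximalIdeal R • (⊤ : Submodule R M)).FG := by
      apply Submodule.FG.smul
      · rw [hmax]; exact Submodule.fg_span_singleton _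
      · exact Module.Finite.fg_top
    have : Module.Finite R ↥(maximalIdeal R • (⊤ : Submodule R M)) :=
      Module.Finite.iff_fg.2 hNfg
    have hNkill : ∀ x : ↥(maximalIdeal R • (⊤ : Submodule R M)), (p : R) ^ j • x = 0 := by
      intro x
      have hx : (x : M) ∈ (Ideal.span {(p : R)} • ⊤ : Submodule R M) := by
        rw [← hmax]; exact x.2
      rw [Submodule.ideal_span_singleton_smul,
        Submodule.mem_smul_pointwise_iff_exists] at hx
      obtain ⟨y, -, hy⟩ := hx
      apply Subtype.ext
      rw [Submodule.coe_smul, ← hy, smul_smul, ← pow_succ, hM y, Submodule.coe_zero]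
    have ihN := ih ↥(maximalIdeal R • (⊤ : Submodule R M)) (T.restrict hNstab) hNkill
    have hsurjN := surjective_sub_of_local p hmax n hn hσbar hsurj h2 h3 (T.restrict hNstab)
    -- the reduction map over the fixed ring
    set f : M →ₗ[fixRing σ] Red R M :=
      ((maximalIdeal R • (⊤ : Submodule R M)).mkQ).restrictScalars (fixRing σ) with hf
    have hfmk : ∀ m, f m = Submodule.Quotient.mk m := fun m => rfl
    apply Submodule.fg_of_fg_map_of_fg_inf_ker f
    · -- image
      obtain ⟨d, g, hgfix, hgspan⟩ := exists_fixed_family (redMap hσbar T) hsurj h2 h3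
      have heq : (fixSub T).map f = Submodule.span (fixRing σ) (Set.range g) := by
        apply le_antisymm
        · rintro _ ⟨m, hm, rfl⟩
          have hm' : T m = m := hm
          have hfix : redMap hσbar T (f m) = f m := by
            rw [hfmk, redMap_mk, hm']
          obtain ⟨c, hc, hsum⟩ := hgspan (f m) hfix
          rw [hsum]
          apply Submodule.sum_mem
          intro i _
          obtain ⟨r, hr, hrc⟩ := hlift (c i) (hc i)
          have : c i • g i = (⟨r, hr⟩ : fixRing σ) • g i := by
            rw [← hrc, residue_smul]; rfl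
          rw [this]
          exact Submodule.smul_mem _ _ (Submodule.subset_span ⟨i, rfl⟩)
        · rw [Submodule.span_le]
          rintro _ ⟨i, rfl⟩
          obtain ⟨m, hm⟩ := Submodule.Quotient.mk_surjective _ (g i)
          have hmem : T m - m ∈ (maximalIdeal R • (⊤ : Submodule R M)) := by
            rw [← Submodule.Quotient.mk_eq_zero, Submodule.Quotient.mk_sub, sub_eq_zero,
              ← redMap_mk hσbar T, hm, hgfix]
          obtain ⟨y, hy⟩ := hsurjN ⟨T m - m, hmem⟩
          have hy' : (y : M) - T (y : M) = T m - m := congrArg Subtype.val hy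
          refine ⟨m + (y : M), ?_, ?_⟩
          · show T (m + (y : M)) = m + (y : M)
            rw [map_add]
            have h4 : T (y : M) = (y : M) - (T m - m) := by rw [← hy']; abel
            rw [h4]; abel
          · rw [hfmk, Submodule.Quotient.mk_add, hm,
              (Submodule.Quotient.mk_eq_zero _).2 y.2, add_zero]
      rw [heq]
      exact Submodule.fg_span (Set.finite_range g)
    · -- kernel part
      have heq : fixSub T ⊓ LinearMap.ker f =
          (fixSub (T.restrict hNstab)).map
            (((maximalIdeal R • (⊤ : Submodule R M)).subtype).restrictScalars (fixRing σ)) := by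
        ext m
        constructor
        · rintro ⟨hm1, hm2⟩
          have hm1' : T m = m := hm1
          have hmN : m ∈ (maximalIdeal R • (⊤ : Submodule R M)) := by
            have hm2' : f m = 0 := hm2
            rw [hfmk, Submodule.Quotient.mk_eq_zero] at hm2'
            exact hm2'
          exact ⟨⟨m, hmN⟩, Subtype.ext hm1', rfl⟩
        · rintro ⟨x, hx, rfl⟩
          have hx' : (T.restrict hNstab) x = x := hx
          refine ⟨?_, ?_⟩
          · show T (x : M) = (x : M)
            exact congrArg Subtype.val hx'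
          · show f (x : M) = 0
            rw [hfmk, Submodule.Quotient.mk_eq_zero]
            exact x.2
      rw [heq]
      exact ihN.map _

/-- S19236. -/
theorem fixed_fg (p : ℕ) (hmax : maximalIdeal R = Ideal.span {(p : R)})
    (n : ℕ) (hn : (p : R) ^ n = 0)
    (hσbar : ∀ r : R, σbar (residue R r) = residue R (σ r))
    (hsurj : Function.Surjective σbar) (h2 : H2 σbar) (h3 : H3 σbar)
    (hlift : ∀ x : ResidueField R, σbar x = x → ∃ r : R, σ r = r ∧ residue R r = x)
    {M : Type v} [AddCommGroup M] [Module R M] [Module.Finite R M] (T : M →ₛₗ[σ] M) :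
    ∃ s : Finset M, (∀ m ∈ s, T m = m) ∧
      ∀ m : M, T m = m → ∃ c : M → R, (∀ x ∈ s, σ (c x) = c x) ∧ m = ∑ x ∈ s, c x • x := by
  have hfg := fixSub_fg_aux p hmax n hn hσbar hsurj h2 h3 hlift n M T
    (fun m => by rw [hn, zero_smul])
  obtain ⟨s, hs⟩ := hfg
  refine ⟨s, ?_, ?_⟩
  · intro m hm
    have h : m ∈ fixSub T := by rw [← hs]; exact Submodule.subset_span hm
    exact h
  · intro m hm
    have hmem : m ∈ Submodule.span (fixRing σ) (s : Set M) := by rw [hs]; exact hm
    rw [Submodule.mem_span_finset] at hmem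
    obtain ⟨f, -, hf⟩ := hmem
    refine ⟨fun x => (f x : R), fun x _ => (f x).2, ?_⟩
    rw [← hf]
    rfl

end Local

end Groth.Agent.Lib.helper24.SigmaLinLib
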