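import Groth.Agent.Lib.Helper24.SigmaLin

/-!
# The solvability hypotheses for Frobenius and its inverse on an algebraically closed field
-/

set_option autoImplicit false
universe u v

namespace Groth.Agent.Lib.helper24.SigmaLinLib

open Polynomial

section AlgClosed

variable {k : Type u} [Field k] [IsAlgClosed k]

theorem exists_root_of_coeff_ne_zero (P : k[X]) (m : ℕ) (hm : m ≠ 0) (h : P.coeff m ≠ 0) :
    ∃ z : k, P.eval z = 0 := by
  have hdeg : P.degree ≠ 0 := by
    intro h0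
    have hC := Polynomial.eq_C_of_degree_eq_zero h0
    rw [hC, Polynomial.coeff_C, if_neg hm] at h
    exact h rfl
  obtain ⟨z, hz⟩ := IsAlgClosed.exists_root P hdeg
  exact ⟨z, hz⟩

theorem exists_root_sum {ι : Type*} [Fintype ι] (c : ι → k) (e : ι → ℕ)
    (he : Function.Injective e) (hpos : ∀ i, e i ≠ 0) (hc : c ≠ 0) :
    ∃ w : k, w ≠ 0 ∧ ∑ i, c i * w ^ e i = 1 := by
  classical
  obtain ⟨i₀, hi₀⟩ : ∃ i₀, c i₀ ≠ 0 := by
    by_contra hall
    push Not at hall
    exact hc (funext hall)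
  set P : k[X] := ∑ i, C (c i) * X ^ e i - 1 with hP
  have hcoeff : P.coeff (e i₀) = c i₀ := by
    rw [hP, coeff_sub, finsetSum_coeff, coeff_one, if_neg (hpos i₀), sub_zero]
    simp only [coeff_C_mul, coeff_X_pow]
    rw [Finset.sum_eq_single i₀]
    · simp
    · intro i _ hi
      rw [if_neg (fun h => hi (he h.symm)), mul_zero]
    · intro h; exact absurd (Finset.mem_univ _) h
  obtain ⟨w, hw⟩ := exists_root_of_coeff_ne_zero P (e i₀) (hpos i₀) (by rw [hcoeff]; exact hi₀)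
  have hw' : ∑ i, c i * w ^ e i = 1 := by
    rw [hP, eval_sub, eval_finsetSum, eval_one, sub_eq_zero] at hw
    simpa [eval_mul, eval_C, eval_pow, eval_X] using hw
  refine ⟨w, ?_, hw'⟩
  rintro rfl
  have : ∑ i, c i * (0 : k) ^ e i = 0 :=
    Finset.sum_eq_zero (fun i _ => by rw [zero_pow (hpos i), mul_zero])
  rw [this] at hw'
  exact zero_ne_one hw'

variable (p : ℕ) [Fact p.Prime]

theorem exists_pow_sub_eq (c : k) : ∃ z : k, z ^ p - z = c := by
  have hp : p.Prime := Fact.out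
  set P : k[X] := X ^ p - X - C c with hP
  have hcoeff : P.coeff p = 1 := by
    have h1 : ¬ (1 = p) := fun h => hp.ne_one h.symm
    simp [hP, coeff_X_pow, coeff_X, coeff_C, hp.ne_zero, h1]
  obtain ⟨z, hz⟩ := exists_root_of_coeff_ne_zero P p hp.ne_zero (by rw [hcoeff]; exact one_ne_zero)
  refine ⟨z, ?_⟩
  simp only [hP, eval_sub, eval_pow, eval_X, eval_C] at hz
  linear_combination hz

variable [CharP k p]

theorem H3_frobenius : H3 (frobenius k p) := by
  intro c
  obtain ⟨z, hz⟩ := exists_pow_sub_eq p (-c)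
  refine ⟨z, ?_⟩
  rw [frobenius_def, hz]; ring

theorem H3_frobInv : H3 ((frobeniusEquiv k p).symm.toRingHom) := by
  intro c
  obtain ⟨z, hz⟩ := exists_pow_sub_eq p c
  refine ⟨z ^ p, ?_⟩
  have h1 : (frobeniusEquiv k p).symm.toRingHom (z ^ p) = z := frobeniusEquiv_symm_pow k p z
  rw [h1]; linear_combination -hz

theorem H2_frobenius : H2 (frobenius k p) := by
  intro n b hb
  have hp : p.Prime := Fact.out
  have hiter : ∀ (m : ℕ) (y : k), (⇑(frobenius k p))^[m] y = y ^ p ^ m :=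
    fun m y => iterate_frobenius p m y
  have he : Function.Injective (fun i : Fin (n + 1) => p ^ (i.val + 1) - 1) := by
    intro i j hij
    have hi := Nat.one_le_pow (i.val + 1) p hp.pos
    have hj := Nat.one_le_pow (j.val + 1) p hp.pos
    have h1 : p ^ (i.val + 1) = p ^ (j.val + 1) := by
      simp only at hij
      omega
    have h2 := Nat.pow_right_injective hp.two_le h1
    exact Fin.ext (by omega)
  have hpos : ∀ i : Fin (n + 1), p ^ (i.val + 1) - 1 ≠ 0 := by
    intro i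
    have := Nat.one_lt_pow (n := i.val + 1) (by omega) hp.one_lt
    omega
  have hc : (fun i : Fin (n + 1) => (b (Fin.rev i)) ^ p ^ i.val) ≠ 0 := by
    intro hc
    apply hb
    funext j
    have h1 := congrFun hc (Fin.rev j)
    simp only [Fin.rev_rev, Pi.zero_apply] at h1
    exact pow_eq_zero_iff (pow_ne_zero _ hp.ne_zero) |>.mp h1
  obtain ⟨w, hw0, hw⟩ := exists_root_sum _ _ he hpos hc
  refine ⟨w, hw0, ?_⟩
  simp only [hiter]
  have h1 : ∀ i : Fin (n + 1), w ^ p ^ (i.val + 1) = w * w ^ (p ^ (i.val + 1) - 1) := by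
    intro i
    rw [← pow_succ', Nat.sub_add_cancel (Nat.one_le_pow _ _ hp.pos)]
  calc w = w * 1 := (mul_one w).symm
    _ = w * ∑ i : Fin (n + 1), (b (Fin.rev i)) ^ p ^ i.val * w ^ (p ^ (i.val + 1) - 1) := by
        rw [hw]
    _ = _ := by
        rw [Finset.mul_sum]; apply Finset.sum_congr rfl; intro i _; rw [h1]; ring

theorem H2_frobInv : H2 ((frobeniusEquiv k p).symm.toRingHom) := by
  intro n b hb
  have hp : p.Prime := Fact.out
  set ψ : k →+* k := (frobeniusEquiv k p).symm.toRingHom with hψ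
  have hψpow : ∀ y : k, ψ (y ^ p) = y := fun y => frobeniusEquiv_symm_pow k p y
  have hiter : ∀ (m l : ℕ) (y : k), (⇑ψ)^[m] (y ^ p ^ (m + l)) = y ^ p ^ l := by
    intro m
    induction m with
    | zero => intro l y; simp
    | succ m ih =>
      intro l y
      rw [Function.iterate_succ_apply, show m + 1 + l = (m + l) + 1 by omega, pow_succ, pow_mul,
        hψpow, ih]
  have he : Function.Injective (fun i : Fin (n + 1) => p ^ (n + 1) - p ^ (n - i.val)) := by
    intro i j hij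
    have hi : p ^ (n - i.val) < p ^ (n + 1) := Nat.pow_lt_pow_right hp.one_lt (by omega)
    have hj : p ^ (n - j.val) < p ^ (n + 1) := Nat.pow_lt_pow_right hp.one_lt (by omega)
    have h1 : p ^ (n - i.val) = p ^ (n - j.val) := by
      simp only at hij
      omega
    have h2 := Nat.pow_right_injective hp.two_le h1
    exact Fin.ext (by have := i.2; have := j.2; omega)
  have hpos : ∀ i : Fin (n + 1), p ^ (n + 1) - p ^ (n - i.val) ≠ 0 := by
    intro i
    have hi : p ^ (n - i.val) < p ^ (n + 1) := Nat.pow_lt_pow_right hp.one_lt (by omega)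
    omega
  have hc : (fun i : Fin (n + 1) => (⇑ψ)^[i.val] (b (Fin.rev i))) ≠ 0 := by
    intro hc
    apply hb
    funext j
    have h1 := congrFun hc (Fin.rev j)
    simp only [Fin.rev_rev, Pi.zero_apply] at h1
    have hinj : Function.Injective (⇑ψ)^[(Fin.rev j).val] := (ψ.injective).iterate _
    exact hinj (h1.trans (iterate_map_zero ψ _).symm)
  obtain ⟨w, hw0, hw⟩ := exists_root_sum _ _ he hpos hc
  have hz0 : w⁻¹ ≠ 0 := inv_ne_zero hw0
  refine ⟨w⁻¹ ^ p ^ (n + 1), pow_ne_zero _ hz0, ?_⟩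
  have h1 : ∀ i : Fin (n + 1),
      (⇑ψ)^[i.val + 1] (w⁻¹ ^ p ^ (n + 1)) = w⁻¹ ^ p ^ (n - i.val) := by
    intro i
    have := hiter (i.val + 1) (n - i.val) w⁻¹
    rwa [show i.val + 1 + (n - i.val) = n + 1 by omega] at this
  simp only [h1]
  have h2 : ∀ i : Fin (n + 1),
      w⁻¹ ^ p ^ (n + 1) * w ^ (p ^ (n + 1) - p ^ (n - i.val)) = w⁻¹ ^ p ^ (n - i.val) := by
    intro i
    have hle : p ^ (n - i.val) ≤ p ^ (n + 1) := Nat.pow_le_pow_right hp.pos (by omega)
    have h3 : w⁻¹ ^ p ^ (n + 1) =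
        w⁻¹ ^ p ^ (n - i.val) * w⁻¹ ^ (p ^ (n + 1) - p ^ (n - i.val)) := by
      rw [← pow_add, Nat.add_sub_cancel' hle]
    rw [h3, mul_assoc, ← mul_pow, inv_mul_cancel₀ hw0, one_pow, mul_one]
  calc w⁻¹ ^ p ^ (n + 1) = w⁻¹ ^ p ^ (n + 1) * 1 := (mul_one _).symm
    _ = w⁻¹ ^ p ^ (n + 1) * ∑ i : Fin (n + 1),
          (⇑ψ)^[i.val] (b (Fin.rev i)) * w ^ (p ^ (n + 1) - p ^ (n - i.val)) := by rw [hw]
    _ = _ := by
      rw [Finset.mul_sum]; apply Finset.sum_congr rfl; intro i _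
      rw [mul_comm ((⇑ψ)^[i.val] (b (Fin.rev i))) _, ← mul_assoc, h2]

/-- S19239. -/
theorem frobInv_result {V : Type v} [AddCommGroup V] [Module k V] [FiniteDimensional k V]
    (T : V →ₛₗ[(frobeniusEquiv k p).symm.toRingHom] V) :
    Function.Surjective (fun v : V => v - T v) ∧
    ∃ b : Module.Basis (Fin (Module.finrank k ↥(⨅ n : ℕ, imgSpan T n))) k
        ↥(⨅ n : ℕ, imgSpan T n),
      ∀ i, T (b i : V) = (b i : V) :=
  general T (frobeniusEquiv k p).symm.surjective (H2_frobInv p) (H3_frobInv p)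

end AlgClosed

section QPow

variable {k : Type u} [Field k] [IsAlgClosed k] (q : ℕ)

theorem exists_qpow_sub_eq (hq : 2 ≤ q) (c : k) : ∃ z : k, z ^ q - z = c := by
  set P : k[X] := X ^ q - X - C c with hP
  have hcoeff : P.coeff q = 1 := by
    have h1 : ¬ (1 = q) := by omega
    have h0 : q ≠ 0 := by omega
    simp [hP, coeff_X_pow, coeff_X, coeff_C, h0, h1]
  obtain ⟨z, hz⟩ := exists_root_of_coeff_ne_zero P q (by omega) (by rw [hcoeff]; exact one_ne_zero)
  refine ⟨z, ?_⟩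
  simp only [hP, eval_sub, eval_pow, eval_X, eval_C] at hz
  linear_combination hz

theorem H3_of_pow (hq : 2 ≤ q) (σ : k →+* k) (hσ : ∀ x, σ x = x ^ q) : H3 σ := by
  intro c
  obtain ⟨z, hz⟩ := exists_qpow_sub_eq q hq (-c)
  refine ⟨z, ?_⟩
  rw [hσ, hz]; ring

theorem H3_of_pow_inv (hq : 2 ≤ q) (σ : k →+* k) (hσ : ∀ x, σ (x ^ q) = x) : H3 σ := by
  intro c
  obtain ⟨z, hz⟩ := exists_qpow_sub_eq q hq c
  refine ⟨z ^ q, ?_⟩
  rw [hσ]; linear_combination -hz

theorem H2_of_pow (hq : 2 ≤ q) (σ : k →+* k) (hσ : ∀ x, σ x = x ^ q) : H2 σ := by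
  intro n b hb
  have hq0 : 0 < q := by omega
  have hq1 : 1 < q := by omega
  have hiter : ∀ (m : ℕ) (y : k), (⇑σ)^[m] y = y ^ q ^ m := by
    intro m
    induction m with
    | zero => intro y; simp
    | succ m ih =>
      intro y
      rw [Function.iterate_succ_apply', ih, hσ, ← pow_mul, ← pow_succ]
  have he : Function.Injective (fun i : Fin (n + 1) => q ^ (i.val + 1) - 1) := by
    intro i j hij
    have hi := Nat.one_le_pow (i.val + 1) q hq0
    have hj := Nat.one_le_pow (j.val + 1) q hq0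
    have h1 : q ^ (i.val + 1) = q ^ (j.val + 1) := by
      simp only at hij
      omega
    have h2 := Nat.pow_right_injective hq h1
    exact Fin.ext (by omega)
  have hpos : ∀ i : Fin (n + 1), q ^ (i.val + 1) - 1 ≠ 0 := by
    intro i
    have := Nat.one_lt_pow (n := i.val + 1) (by omega) hq1
    omega
  have hc : (fun i : Fin (n + 1) => (b (Fin.rev i)) ^ q ^ i.val) ≠ 0 := by
    intro hc
    apply hb
    funext j
    have h1 := congrFun hc (Fin.rev j)
    simp only [Fin.rev_rev, Pi.zero_apply] at h1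
    exact pow_eq_zero_iff (pow_ne_zero _ (by omega)) |>.mp h1
  obtain ⟨w, hw0, hw⟩ := exists_root_sum _ _ he hpos hc
  refine ⟨w, hw0, ?_⟩
  simp only [hiter]
  have h1 : ∀ i : Fin (n + 1), w ^ q ^ (i.val + 1) = w * w ^ (q ^ (i.val + 1) - 1) := by
    intro i
    rw [← pow_succ', Nat.sub_add_cancel (Nat.one_le_pow _ _ hq0)]
  calc w = w * 1 := (mul_one w).symm
    _ = w * ∑ i : Fin (n + 1), (b (Fin.rev i)) ^ q ^ i.val * w ^ (q ^ (i.val + 1) - 1) := by
        rw [hw]
    _ = _ := by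
        rw [Finset.mul_sum]; apply Finset.sum_congr rfl; intro i _; rw [h1]; ring

theorem H2_of_pow_inv (hq : 2 ≤ q) (ψ : k →+* k) (hψpow : ∀ y : k, ψ (y ^ q) = y) : H2 ψ := by
  intro n b hb
  have hq0 : 0 < q := by omega
  have hq1 : 1 < q := by omega
  have hiter : ∀ (m l : ℕ) (y : k), (⇑ψ)^[m] (y ^ q ^ (m + l)) = y ^ q ^ l := by
    intro m
    induction m with
    | zero => intro l y; simp
    | succ m ih =>
      intro l y
      rw [Function.iterate_succ_apply, show m + 1 + l = (m + l) + 1 by omega, pow_succ, pow_mul,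
        hψpow, ih]
  have he : Function.Injective (fun i : Fin (n + 1) => q ^ (n + 1) - q ^ (n - i.val)) := by
    intro i j hij
    have hi : q ^ (n - i.val) < q ^ (n + 1) := Nat.pow_lt_pow_right hq1 (by omega)
    have hj : q ^ (n - j.val) < q ^ (n + 1) := Nat.pow_lt_pow_right hq1 (by omega)
    have h1 : q ^ (n - i.val) = q ^ (n - j.val) := by
      simp only at hij
      omega
    have h2 := Nat.pow_right_injective hq h1
    exact Fin.ext (by have := i.2; have := j.2; omega)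
  have hpos : ∀ i : Fin (n + 1), q ^ (n + 1) - q ^ (n - i.val) ≠ 0 := by
    intro i
    have hi : q ^ (n - i.val) < q ^ (n + 1) := Nat.pow_lt_pow_right hq1 (by omega)
    omega
  have hc : (fun i : Fin (n + 1) => (⇑ψ)^[i.val] (b (Fin.rev i))) ≠ 0 := by
    intro hc
    apply hb
    funext j
    have h1 := congrFun hc (Fin.rev j)
    simp only [Fin.rev_rev, Pi.zero_apply] at h1
    have hinj : Function.Injective (⇑ψ)^[(Fin.rev j).val] := (ψ.injective).iterate _
    exact hinj (h1.trans (iterate_map_zero ψ _).symm)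
  obtain ⟨w, hw0, hw⟩ := exists_root_sum _ _ he hpos hc
  have hz0 : w⁻¹ ≠ 0 := inv_ne_zero hw0
  refine ⟨w⁻¹ ^ q ^ (n + 1), pow_ne_zero _ hz0, ?_⟩
  have h1 : ∀ i : Fin (n + 1),
      (⇑ψ)^[i.val + 1] (w⁻¹ ^ q ^ (n + 1)) = w⁻¹ ^ q ^ (n - i.val) := by
    intro i
    have := hiter (i.val + 1) (n - i.val) w⁻¹
    rwa [show i.val + 1 + (n - i.val) = n + 1 by omega] at this
  simp only [h1]
  have h2 : ∀ i : Fin (n + 1),
      w⁻¹ ^ q ^ (n + 1) * w ^ (q ^ (n + 1) - q ^ (n - i.val)) = w⁻¹ ^ q ^ (n - i.val) := by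
    intro i
    have hle : q ^ (n - i.val) ≤ q ^ (n + 1) := Nat.pow_le_pow_right hq0 (by omega)
    have h3 : w⁻¹ ^ q ^ (n + 1) =
        w⁻¹ ^ q ^ (n - i.val) * w⁻¹ ^ (q ^ (n + 1) - q ^ (n - i.val)) := by
      rw [← pow_add, Nat.add_sub_cancel' hle]
    rw [h3, mul_assoc, ← mul_pow, inv_mul_cancel₀ hw0, one_pow, mul_one]
  calc w⁻¹ ^ q ^ (n + 1) = w⁻¹ ^ q ^ (n + 1) * 1 := (mul_one _).symm
    _ = w⁻¹ ^ q ^ (n + 1) * ∑ i : Fin (n + 1),
          (⇑ψ)^[i.val] (b (Fin.rev i)) * w ^ (q ^ (n + 1) - q ^ (n - i.val)) := by rw [hw]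
    _ = _ := by
      rw [Finset.mul_sum]; apply Finset.sum_congr rfl; intro i _
      rw [mul_comm ((⇑ψ)^[i.val] (b (Fin.rev i))) _, ← mul_assoc, h2]

end QPow

end Groth.Agent.Lib.helper24.SigmaLinLib
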