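import Groth.Agent.Lib.Helper24.SigmaLinLocal
import Groth.Agent.Lib.Helper24.SigmaLinFix
import Groth.Agent.Lib.Helper24.SigmaLinFrob
import Groth.Agent.Lib.Helper24.WittTrunc

/-!
# Semilinear maps over truncated Witt vectors: transport of the hypotheses to the residue field
-/

set_option autoImplicit false
set_option linter.unusedSectionVars false
universe u v

namespace Groth.Agent.Lib.helper24.SigmaLinLib

open IsLocalRing Groth.Agent.Lib.helper24.WittTrunc

section Conj

variable {K : Type*} {k : Type*} [Field K] [Field k] (e : K ≃+* k) (σ' : k →+* k)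

/-- conjugate of an endomorphism by a ring isomorphism. -/
def conj : K →+* K := e.symm.toRingHom.comp (σ'.comp e.toRingHom)

theorem conj_apply (x : K) : conj e σ' x = e.symm (σ' (e x)) := rfl

theorem conj_iterate (m : ℕ) (x : K) :
    (⇑(conj e σ'))^[m] x = e.symm ((⇑σ')^[m] (e x)) := by
  induction m generalizing x with
  | zero => simp
  | succ m ih =>
    rw [Function.iterate_succ_apply, ih, conj_apply, e.apply_symm_apply,
      Function.iterate_succ_apply]

theorem conj_surjective (hs : Function.Surjective σ') : Function.Surjective (conj e σ') := by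
  intro y
  obtain ⟨x, hx⟩ := hs (e y)
  exact ⟨e.symm x, by rw [conj_apply, e.apply_symm_apply, hx, e.symm_apply_apply]⟩

theorem H2_conj (h : H2 σ') : H2 (conj e σ') := by
  intro n b hb
  have hb' : (fun i => e (b i)) ≠ 0 := by
    intro h0
    apply hb
    funext i
    have := congrFun h0 i
    simpa using this
  obtain ⟨x, hx0, hx⟩ := h n (fun i => e (b i)) hb'
  refine ⟨e.symm x, by simpa using hx0, ?_⟩
  simp only [conj_iterate, e.apply_symm_apply]
  conv_lhs => rw [hx]
  rw [map_sum]
  simp only [map_mul]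

theorem H3_conj (h : H3 σ') : H3 (conj e σ') := by
  intro c
  obtain ⟨y, hy⟩ := h (e c)
  refine ⟨e.symm y, ?_⟩
  rw [conj_apply, e.apply_symm_apply]
  apply e.injective
  rw [map_add, map_sub, e.apply_symm_apply, e.apply_symm_apply, hy, map_zero]

end Conj

section Witt

variable (p : ℕ) [hp : Fact p.Prime] (k : Type u) [Field k] [CharP k p] [PerfectRing k p]
  (n : ℕ)

theorem witt_hσbar (σ' : k →+* k) (r : TruncatedWittVector p (n + 1) k) :
    conj (resEquiv p k n) σ' (residue _ r) =
      residue _ (WittGrp.truncMap p (n + 1) σ' r) := by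
  rw [conj_apply, resEquiv_residue, ← c0_truncMap, ← resEquiv_residue,
    RingEquiv.symm_apply_apply]

theorem witt_surjective (σ' : k →+* k) (hs : Function.Surjective σ') (h2 : H2 σ') (h3 : H3 σ')
    {M : Type v} [AddCommGroup M] [Module (TruncatedWittVector p (n + 1) k) M]
    [Module.Finite (TruncatedWittVector p (n + 1) k) M]
    (T : M →ₛₗ[WittGrp.truncMap p (n + 1) σ'] M) :
    Function.Surjective (fun m : M => m - T m) :=
  surjective_sub_of_local p (maximalIdeal_eq p k n) (n + 1) (p_pow_eq_zero p k (n + 1))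
    (witt_hσbar p k n σ') (conj_surjective _ _ hs) (H2_conj _ _ h2) (H3_conj _ _ h3) T

theorem subsingleton_zero : Subsingleton (TruncatedWittVector p 0 k) :=
  ⟨fun _ _ => TruncatedWittVector.ext (fun i => i.elim0)⟩

theorem witt_hlift (σ' : k →+* k) (x : ResidueField (TruncatedWittVector p (n + 1) k))
    (hx : conj (resEquiv p k n) σ' x = x) :
    ∃ r : TruncatedWittVector p (n + 1) k,
      WittGrp.truncMap p (n + 1) σ' r = r ∧ residue _ r = x := by
  have ha : σ' (resEquiv p k n x) = resEquiv p k n x := by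
    have := congrArg (resEquiv p k n) hx
    rwa [conj_apply, RingEquiv.apply_symm_apply] at this
  refine ⟨WittVector.truncate (n + 1) (WittVector.teichmuller p (resEquiv p k n x)), ?_, ?_⟩
  · rw [WittGrp.truncMap_truncate, WittVector.map_teichmuller, ha]
  · apply (resEquiv p k n).injective
    rw [resEquiv_residue, c0_truncate, WittVector.teichmuller_coeff_zero]

theorem witt_fixRing_finite (m : ℕ) (σ' : k →+* k) (hF : {a : k | σ' a = a}.Finite) :
    {r : TruncatedWittVector p m k | WittGrp.truncMap p m σ' r = r}.Finite := by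
  have hpi : (Set.pi Set.univ (fun _ : Fin m => {a : k | σ' a = a})).Finite :=
    Set.Finite.pi (fun _ => hF)
  refine (hpi.image (TruncatedWittVector.mk p)).subset ?_
  intro r hr
  have hr' : WittGrp.truncMap p m σ' r = r := hr
  refine ⟨fun i => r.coeff i, ?_, TruncatedWittVector.mk_coeff r⟩
  intro i _
  show σ' (r.coeff i) = r.coeff i
  rw [← WittGrp.coeff_truncMap, hr']

theorem finite_fixed_of_fg {R : Type*} {M : Type*} [CommRing R] [AddCommGroup M] [Module R M]
    (σ : R →+* R) (T : M → M) (hfin : {r : R | σ r = r}.Finite)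
    (h : ∃ s : Finset M, (∀ m ∈ s, T m = m) ∧
      ∀ m : M, T m = m → ∃ c : M → R, (∀ x ∈ s, σ (c x) = c x) ∧ m = ∑ x ∈ s, c x • x) :
    {m : M | T m = m}.Finite := by
  obtain ⟨s, -, hs⟩ := h
  have hpi : (Set.pi Set.univ (fun _ : s => {r : R | σ r = r})).Finite :=
    Set.Finite.pi (fun _ => hfin)
  refine (hpi.image (fun c : s → R => ∑ x ∈ s.attach, c x • (x : M))).subset ?_
  intro m hm
  obtain ⟨c, hc, hsum⟩ := hs m hm
  refine ⟨fun x => c x.1, ?_, ?_⟩
  · intro x _; exact hc x.1 x.2
  · show ∑ x ∈ s.attach, c x.1 • (x : M) = m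
    rw [hsum, Finset.sum_attach s (fun x => c x • x)]

theorem witt_fixed_finite (σ' : k →+* k) (hs : Function.Surjective σ') (h2 : H2 σ') (h3 : H3 σ')
    (hF : {a : k | σ' a = a}.Finite)
    {M : Type v} [AddCommGroup M] [Module (TruncatedWittVector p (n + 1) k) M]
    [Module.Finite (TruncatedWittVector p (n + 1) k) M]
    (T : M →ₛₗ[WittGrp.truncMap p (n + 1) σ'] M) :
    {m : M | T m = m}.Finite := by
  apply finite_fixed_of_fg (WittGrp.truncMap p (n + 1) σ') T (witt_fixRing_finite p k (n + 1) σ' hF)
  exact fixed_fg p (maximalIdeal_eq p k n) (n + 1) (p_pow_eq_zero p k (n + 1))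
    (witt_hσbar p k n σ') (conj_surjective _ _ hs) (H2_conj _ _ h2) (H3_conj _ _ h3)
    (witt_hlift p k n σ') T

open Polynomial in
theorem finite_frob_fixed : {a : k | frobenius k p a = a}.Finite := by
  have hne : (X ^ p - X : k[X]) ≠ 0 := FiniteField.X_pow_card_sub_X_ne_zero k hp.out.one_lt
  refine ((X ^ p - X : k[X]).rootSet_finite k).subset ?_
  intro a ha
  have ha' : a ^ p = a := ha
  rw [Polynomial.mem_rootSet]
  refine ⟨hne, ?_⟩
  simp [ha']

theorem finite_frobInv_fixed : {a : k | (frobeniusEquiv k p).symm.toRingHom a = a}.Finite := by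
  refine (finite_frob_fixed p k).subset ?_
  intro a ha
  have ha' : (frobeniusEquiv k p).symm a = a := ha
  show frobenius k p a = a
  conv_lhs => rw [← ha']
  exact frobenius_apply_frobeniusEquiv_symm k p a

end Witt

end Groth.Agent.Lib.helper24.SigmaLinLib
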