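import Groth.Prelude.Def_Isoc
import Mathlib

/-!
# The residue field of `W(k)` and the reduction of the powers of Frobenius
-/

set_option autoImplicit false
set_option linter.unusedSectionVars false
universe u

namespace Groth.Agent.Lib.helper24.WittRes

open IsLocalRing

variable (p : ℕ) [hp : Fact p.Prime] (k : Type u) [Field k] [CharP k p] [PerfectRing k p]

/-- the constant coefficient `W(k) → k`. -/
noncomputable def c0 : WittVector p k →+* k := WittVector.constantCoeff

theorem c0_apply (w : WittVector p k) : c0 p k w = w.coeff 0 := rfl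

theorem c0_surjective : Function.Surjective (c0 p k) := by
  intro x
  exact ⟨WittVector.teichmuller p x, WittVector.teichmuller_coeff_zero p x⟩

theorem mem_maximalIdeal_iff (w : WittVector p k) :
    w ∈ maximalIdeal (WittVector p k) ↔ c0 p k w = 0 := by
  rw [mem_maximalIdeal, mem_nonunits_iff]
  constructor
  · intro h
    by_contra h0
    exact h (WittVector.isUnit_of_coeff_zero_ne_zero w h0)
  · intro h hu
    exact (hu.map (c0 p k)).ne_zero h

theorem ker_c0 : maximalIdeal (WittVector p k) = RingHom.ker (c0 p k) := by
  ext w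
  rw [mem_maximalIdeal_iff, RingHom.mem_ker]

theorem maximalIdeal_eq :
    maximalIdeal (WittVector p k) = Ideal.span {(p : WittVector p k)} :=
  (WittVector.irreducible p (k := k)).maximalIdeal_eq

/-- the residue field of `W(k)` is `k`. -/
noncomputable def resEquiv : ResidueField (WittVector p k) ≃+* k :=
  (Ideal.quotEquivOfEq (ker_c0 p k)).trans
    (RingHom.quotientKerEquivOfSurjective (c0_surjective p k))

theorem resEquiv_residue (w : WittVector p k) :
    resEquiv p k (residue _ w) = c0 p k w := rfl

/-- compatibility of Frobenius on `W(k)` and on `k`. -/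
theorem c0_frobeniusEquiv (w : WittVector p k) :
    c0 p k (WittVector.frobeniusEquiv p k w) = frobeniusEquiv k p (c0 p k w) := by
  show (WittVector.frobenius w).coeff 0 = (w.coeff 0) ^ p
  exact WittVector.coeff_frobenius_charP (p := p) w 0

theorem c0_frobeniusEquiv_symm (w : WittVector p k) :
    c0 p k ((WittVector.frobeniusEquiv p k).symm w) = (frobeniusEquiv k p).symm (c0 p k w) := by
  apply (frobeniusEquiv k p).injective
  rw [← c0_frobeniusEquiv, RingEquiv.apply_symm_apply, RingEquiv.apply_symm_apply]

theorem c0_zpow (b : ℤ) (w : WittVector p k) :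
    c0 p k ((WittVector.frobeniusEquiv p k ^ b) w) = (frobeniusEquiv k p ^ b) (c0 p k w) := by
  induction b using Int.induction_on generalizing w with
  | zero => simp [RingAut.one_apply]
  | succ n ih =>
    rw [zpow_add_one, zpow_add_one, RingAut.mul_apply, RingAut.mul_apply, ih, c0_frobeniusEquiv]
  | pred n ih =>
    rw [zpow_sub_one, zpow_sub_one, RingAut.mul_apply, RingAut.mul_apply, ih,
      RingAut.inv_apply, RingAut.inv_apply, c0_frobeniusEquiv_symm]

theorem frobK_pow_apply (n : ℕ) (x : k) : (frobeniusEquiv k p ^ n) x = x ^ p ^ n := by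
  induction n generalizing x with
  | zero => simp [RingAut.one_apply]
  | succ n ih =>
    rw [pow_succ, RingAut.mul_apply, ih]
    show (x ^ p) ^ p ^ n = x ^ p ^ (n + 1)
    rw [← pow_mul, pow_succ']

theorem frobK_zpow_natCast_apply (n : ℕ) (x : k) :
    (frobeniusEquiv k p ^ (n : ℤ)) x = x ^ p ^ n := by
  rw [zpow_natCast, frobK_pow_apply]

theorem frobK_zpow_neg_apply (n : ℕ) (x : k) :
    (frobeniusEquiv k p ^ (-(n : ℤ))) (x ^ p ^ n) = x := by
  rw [zpow_neg, zpow_natCast, RingAut.inv_apply, ← frobK_pow_apply, RingEquiv.symm_apply_apply]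

end Groth.Agent.Lib.helper24.WittRes
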