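import Groth.Agent.Lib.Helper24.IsocDecomp
import Groth.Agent.Lib.Helper24.SigmaLinNak
import Groth.Agent.Lib.Helper24.SigmaLinWitt
import Groth.Agent.Lib.Helper24.WittRes

/-!
Dieudonné–Lang: a bijective `σ^b`-semilinear map (`b ≠ 0`) of a lattice over `W(k)`, `k`
algebraically closed, has `1 - G` surjective and its fixed vectors span (helper24).
-/

set_option autoImplicit false
set_option linter.unusedSectionVars false

noncomputable section

open scoped Pointwise Isocrystal

universe u v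

namespace Groth.Agent.Lib.helper24.IsocLib

open IsLocalRing Groth.Agent.Lib.helper24.SigmaLinLib Groth.Agent.Lib.helper24.WittRes

variable {p : ℕ} [Fact p.Prime] {k : Type u} [Field k] [CharP k p] [PerfectRing k p]
variable {N : Type v} [AddCommGroup N] [Module (WittVector p k) N] [Module K(p, k) N]
  [IsScalarTower (WittVector p k) K(p, k) N]

section Sig

/-- `σ^b` on `k`. -/
def sigK (p : ℕ) [Fact p.Prime] (k : Type u) [Field k] [CharP k p] [PerfectRing k p] (b : ℤ) :
    k →+* k := (frobeniusEquiv k p ^ b).toRingHom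

/-- `σ^b` on `W(k)`. -/
def sigW (p : ℕ) [Fact p.Prime] (k : Type u) [Field k] [CharP k p] [PerfectRing k p] (b : ℤ) :
    WittVector p k →+* WittVector p k := (WittVector.frobeniusEquiv p k ^ b).toRingHom

theorem sigW_apply (b : ℤ) (w : WittVector p k) :
    sigW p k b w = (WittVector.frobeniusEquiv p k ^ b) w := rfl

/-- `σ^b` on the residue field of `W(k)`. -/
def sigBar (p : ℕ) [Fact p.Prime] (k : Type u) [Field k] [CharP k p] [PerfectRing k p] (b : ℤ) :
    ResidueField (WittVector p k) →+* ResidueField (WittVector p k) :=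
  conj (resEquiv p k) (sigK p k b)

theorem sigBar_residue (b : ℤ) (w : WittVector p k) :
    sigBar p k b (residue _ w) = residue _ (sigW p k b w) := by
  rw [sigBar, conj_apply, resEquiv_residue]
  show (resEquiv p k).symm ((frobeniusEquiv k p ^ b) (c0 p k w)) = _
  rw [← c0_zpow, ← resEquiv_residue, RingEquiv.symm_apply_apply]
  rfl

theorem sigK_surjective (b : ℤ) : Function.Surjective (sigK p k b) :=
  (frobeniusEquiv k p ^ b).surjective

theorem two_le_p_pow {n : ℕ} (hn : n ≠ 0) : 2 ≤ p ^ n := by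
  have hp : p.Prime := Fact.out
  exact le_trans hp.two_le (Nat.le_self_pow hn p)

variable [IsAlgClosed k]

theorem H2_sigK {b : ℤ} (hb : b ≠ 0) : H2 (sigK p k b) := by
  rcases lt_or_gt_of_ne hb with h | h
  · obtain ⟨n, rfl⟩ : ∃ n : ℕ, b = -(n : ℤ) := ⟨b.natAbs, by omega⟩
    have hn : n ≠ 0 := by omega
    exact H2_of_pow_inv (p ^ n) (two_le_p_pow hn) (sigK p k _)
      (fun y => frobK_zpow_neg_apply p k n y)
  · obtain ⟨n, rfl⟩ : ∃ n : ℕ, b = (n : ℤ) := ⟨b.natAbs, by omega⟩
    have hn : n ≠ 0 := by omega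
    exact H2_of_pow (p ^ n) (two_le_p_pow hn) (sigK p k _)
      (fun x => frobK_zpow_natCast_apply p k n x)

theorem H3_sigK {b : ℤ} (hb : b ≠ 0) : H3 (sigK p k b) := by
  rcases lt_or_gt_of_ne hb with h | h
  · obtain ⟨n, rfl⟩ : ∃ n : ℕ, b = -(n : ℤ) := ⟨b.natAbs, by omega⟩
    have hn : n ≠ 0 := by omega
    exact H3_of_pow_inv (p ^ n) (two_le_p_pow hn) (sigK p k _)
      (fun y => frobK_zpow_neg_apply p k n y)
  · obtain ⟨n, rfl⟩ : ∃ n : ℕ, b = (n : ℤ) := ⟨b.natAbs, by omega⟩
    have hn : n ≠ 0 := by omega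
    exact H3_of_pow (p ^ n) (two_le_p_pow hn) (sigK p k _)
      (fun x => frobK_zpow_natCast_apply p k n x)

theorem H2_sigBar {b : ℤ} (hb : b ≠ 0) : H2 (sigBar p k b) := H2_conj _ _ (H2_sigK hb)

theorem H3_sigBar {b : ℤ} (hb : b ≠ 0) : H3 (sigBar p k b) := H3_conj _ _ (H3_sigK hb)

theorem sigBar_surjective (b : ℤ) : Function.Surjective (sigBar p k b) :=
  conj_surjective _ _ (sigK_surjective b)

end Sig

section DL

variable {b : ℤ} (G : N →ₛₗ[Isoc.frob p k b] N)

/-- restriction of `G` to a stable lattice, as a semilinear map over `W`. -/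
def latMap {M : Submodule (WittVector p k) N} (hst : ∀ x ∈ M, G x ∈ M) :
    ↥M →ₛₗ[sigW p k b] ↥M where
  toFun x := ⟨G x, hst x x.2⟩
  map_add' x y := Subtype.ext (by simp only [Submodule.coe_add, map_add])
  map_smul' w x := Subtype.ext (by
    simp only [Submodule.coe_smul]
    exact map_smul_W G w x)

theorem latMap_coe {M : Submodule (WittVector p k) N} (hst : ∀ x ∈ M, G x ∈ M) (x : ↥M) :
    ((latMap G hst x : ↥M) : N) = G (x : N) := rfl

theorem map_natCast_pow_smul (n : ℕ) (x : N) :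
    G (((p : WittVector p k) ^ n) • x) = ((p : WittVector p k) ^ n) • G x := by
  rw [map_smul_W, map_pow, map_natCast]

variable [IsAlgClosed k]

theorem dl_sub_surjective (hb : b ≠ 0) (hG : Isoc.IsIsoc G) {M : Submodule (WittVector p k) N}
    (hM : M.IsLattice K(p, k)) (heq : Isoc.latImg G 1 M = M) :
    ∀ u ∈ M, ∃ y ∈ M, y - G y = u := by
  have hfin : Module.Finite K(p, k) N := hG.finite
  have hst : ∀ x ∈ M, G x ∈ M := fun x hx => by
    rw [← heq]; exact (mem_latImg G).2 ⟨x, hx, rfl⟩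
  have hstle : Isoc.latImg G 1 M ≤ M := heq.le
  have hMfin : Module.Finite (WittVector p k) ↥M := Module.Finite.iff_fg.2 hM.fg
  have hstep := exists_approx (R := WittVector p k) (M := ↥M) p (maximalIdeal_eq p k)
    (sigBar_residue (p := p) (k := k) b) (sigBar_surjective b) (H2_sigBar hb) (H3_sigBar hb)
    (latMap G hst) 1
  choose Y S hYS using hstep
  intro u₀ hu₀
  -- the partial sums
  set y : ℕ → ↥M := fun n =>
    ∑ j ∈ Finset.range n, ((p : WittVector p k) ^ j) • Y (S^[j] ⟨u₀, hu₀⟩) with hy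
  have hrel : ∀ n, (⟨u₀, hu₀⟩ : ↥M) - (y n - latMap G hst (y n)) =
      ((p : WittVector p k) ^ n) • S^[n] ⟨u₀, hu₀⟩ := by
    intro n
    induction n with
    | zero => simp [hy]
    | succ n ih =>
      have h1 : y (n + 1) = y n + ((p : WittVector p k) ^ n) • Y (S^[n] ⟨u₀, hu₀⟩) := by
        simp only [hy, Finset.sum_range_succ]
      have h2 : latMap G hst (((p : WittVector p k) ^ n) • Y (S^[n] ⟨u₀, hu₀⟩)) =
          ((p : WittVector p k) ^ n) • latMap G hst (Y (S^[n] ⟨u₀, hu₀⟩)) := by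
        rw [map_smulₛₗ, map_pow, map_natCast]
      have h3 := hYS (S^[n] ⟨u₀, hu₀⟩)
      rw [pow_one] at h3
      rw [h1, map_add, h2, Function.iterate_succ_apply', pow_succ, mul_smul, ← h3, smul_sub,
        smul_sub, ← ih]
      abel
  have hc : ∀ n : ℕ, ((y (n + 1) : ↥M) : N) - ((y n : ↥M) : N) ∈ Isoc.pPow (n : ℤ) M := by
    intro n
    rw [mem_pPow_natCast]
    refine ⟨(Y (S^[n] ⟨u₀, hu₀⟩) : N), (Y _).2, ?_⟩
    simp only [hy, Finset.sum_range_succ, Submodule.coe_add, Submodule.coe_smul]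
    abel
  obtain ⟨z, hzM, hz⟩ := exists_limit hfin hM (fun n => ((y n : ↥M) : N)) (fun n => (y n).2) hc
  refine ⟨z, hzM, ?_⟩
  -- show u₀ - (z - G z) = 0
  have hzero : u₀ - (z - G z) = 0 := by
    apply eq_zero_of_forall_mem_pPow hM.fg
    intro n
    have h1 : u₀ - (z - G z) =
        (u₀ - (((y n : ↥M) : N) - G ((y n : ↥M) : N))) -
          ((z - ((y n : ↥M) : N)) - G (z - ((y n : ↥M) : N))) := by
      rw [map_sub]; abel
    rw [h1]
    apply Submodule.sub_mem
    · have h2 := congrArg (fun t : ↥M => (t : N)) (hrel n)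
      simp only [Submodule.coe_sub, Submodule.coe_smul, latMap_coe] at h2
      rw [h2, mem_pPow_natCast]
      exact ⟨_, (S^[n] ⟨u₀, hu₀⟩).2, rfl⟩
    · apply Submodule.sub_mem _ (hz n)
      exact iterate_mem_pPow_of_stable G hstle (hz n) 1
  exact (sub_eq_zero.1 hzero).symm

theorem dl_span_fixed (hb : b ≠ 0) (hG : Isoc.IsIsoc G) {M : Submodule (WittVector p k) N}
    (hM : M.IsLattice K(p, k)) (heq : Isoc.latImg G 1 M = M) :
    Submodule.span K(p, k) {x : N | G x = x} = ⊤ := by
  have hst : ∀ x ∈ M, G x ∈ M := fun x hx => by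
    rw [← heq]; exact (mem_latImg G).2 ⟨x, hx, rfl⟩
  have hMfin : Module.Finite (WittVector p k) ↥M := Module.Finite.iff_fg.2 hM.fg
  have hTsurj : Function.Surjective (latMap G hst) := by
    intro y
    have hy : (y : N) ∈ Isoc.latImg G 1 M := by rw [heq]; exact y.2
    obtain ⟨m, hm, hmy⟩ := (mem_latImg G).1 hy
    exact ⟨⟨m, hm⟩, Subtype.ext hmy⟩
  have hL1 : Function.Surjective (fun m : ↥M => m - latMap G hst m) := by
    intro u
    obtain ⟨y, hy, hyu⟩ := dl_sub_surjective G hb hG hM heq u u.2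
    exact ⟨⟨y, hy⟩, Subtype.ext hyu⟩
  have hspan := span_fixed_eq_top (R := WittVector p k) (M := ↥M) p (maximalIdeal_eq p k)
    (sigBar_residue (p := p) (k := k) b) (H2_sigBar hb) (H3_sigBar hb) (latMap G hst) hTsurj hL1
  -- every element of M is in the L-span of fixed vectors
  have hMle : (M : Set N) ⊆ Submodule.span K(p, k) {x : N | G x = x} := by
    intro m hm
    have h1 : (⟨m, hm⟩ : ↥M) ∈ Submodule.span (WittVector p k) {t : ↥M | latMap G hst t = t} := by
      rw [hspan]; trivial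
    refine Submodule.span_induction
      (p := fun t _ => ((t : ↥M) : N) ∈ Submodule.span K(p, k) {x : N | G x = x})
      ?_ ?_ ?_ ?_ h1
    · intro t ht
      apply Submodule.subset_span
      exact congrArg Subtype.val ht
    · exact Submodule.zero_mem _
    · intro s t _ _ hs ht
      exact Submodule.add_mem _ hs ht
    · intro w t _ ht
      rw [Submodule.coe_smul, ← algebraMap_smul K(p, k) w (t : N)]
      exact Submodule.smul_mem _ _ ht
  rw [eq_top_iff, ← hM.span_eq_top]
  exact Submodule.span_le.2 hMle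

end DL

end Groth.Agent.Lib.helper24.IsocLib
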