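import Groth.Agent.Lib.Helper24.IsocDet

/-!
Stable lattices, nilpotence modulo `p` and orders (helper24).
-/

set_option autoImplicit false
set_option linter.unusedSectionVars false

noncomputable section

open scoped Pointwise Isocrystal

universe u v

namespace Groth.Agent.Lib.helper24.IsocLib

variable {p : ℕ} [Fact p.Prime] {k : Type u} [Field k] [CharP k p] [PerfectRing k p]
variable {N : Type v} [AddCommGroup N] [Module (WittVector p k) N] [Module K(p, k) N]
  [IsScalarTower (WittVector p k) K(p, k) N]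

section Frob

variable {a : ℤ} (F : N →ₛₗ[Isoc.frob p k a] N)

theorem le_of_isOrd {M : Submodule (WittVector p k) N} {n : ℕ} {o c : ℤ}
    (ho : Isoc.IsOrd M F n o) (hc : Isoc.latImg F n M ≤ Isoc.pPow c M) : c ≤ o := by
  by_contra hlt
  push Not at hlt
  exact ho.2 (hc.trans (pPow_le_of_le (by omega) M))

theorem latImg_antitone_of_stable {M : Submodule (WittVector p k) N}
    (hst : Isoc.latImg F 1 M ≤ M) {i j : ℕ} (hij : i ≤ j) :
    Isoc.latImg F j M ≤ Isoc.latImg F i M := by
  have hle : ∀ n, Isoc.latImg F n M ≤ M := by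
    intro n
    induction n with
    | zero => rw [latImg_zero]
    | succ n ih =>
      rw [latImg_add]
      exact (latImg_mono F n hst).trans ih
  obtain ⟨d, rfl⟩ := Nat.exists_eq_add_of_le hij
  rw [latImg_add]
  exact latImg_mono F i (hle d)

theorem latImg_le_of_stable {M : Submodule (WittVector p k) N}
    (hst : Isoc.latImg F 1 M ≤ M) (n : ℕ) : Isoc.latImg F n M ≤ M := by
  have := latImg_antitone_of_stable F hst (Nat.zero_le n)
  rwa [latImg_zero] at this

theorem latImg_mul_le {M : Submodule (WittVector p k) N} {n : ℕ} {c : ℤ}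
    (hle : Isoc.latImg F n M ≤ Isoc.pPow c M) (j : ℕ) :
    Isoc.latImg F (n * j) M ≤ Isoc.pPow (c * j) M := by
  induction j with
  | zero => simp [latImg_zero, pPow_zero]
  | succ j ih =>
    rw [Nat.mul_succ, latImg_add]
    refine (latImg_mono F _ hle).trans ?_
    rw [latImg_pPow]
    refine (pPow_mono c ih).trans ?_
    rw [pPow_pPow]
    apply le_of_eq
    congr 1
    push_cast; ring

theorem p_smul_mem_pPow_one {M : Submodule (WittVector p k) N} {x : N} (hx : x ∈ M) :
    (p : WittVector p k) • x ∈ Isoc.pPow 1 M := by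
  rw [mem_pPow]
  refine ⟨x, hx, ?_⟩
  rw [zpow_one, ← algebraMap_smul K(p, k) (p : WittVector p k) x, map_natCast]

/-- If `F M ⊆ M` and `F^n M ⊆ p M` for some `n`, then already `F^h M ⊆ p M`, `h` the height. -/
theorem nilpotent_chain (hF : Isoc.IsIsoc F) {h : ℕ} (hh : Module.finrank K(p, k) N = h)
    {M : Submodule (WittVector p k) N} (hst : Isoc.latImg F 1 M ≤ M) {n : ℕ}
    (hn : Isoc.latImg F n M ≤ Isoc.pPow 1 M) : Isoc.latImg F h M ≤ Isoc.pPow 1 M := by
  set B : ℕ → Submodule (WittVector p k) N := fun i => Isoc.latImg F i M ⊔ Isoc.pPow 1 M with hB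
  have hBanti : ∀ i, B (i + 1) ≤ B i := fun i =>
    sup_le_sup_right (latImg_antitone_of_stable F hst (Nat.le_succ i)) _
  have hstep : ∀ i, B i ≤ B (i + 1) → B (i + 1) ≤ B (i + 2) := by
    intro i hi
    have h1 : Isoc.latImg F i M ≤ Isoc.latImg F (i + 1) M ⊔ Isoc.pPow 1 M := le_sup_left.trans hi
    have h2 := latImg_mono F 1 h1
    rw [latImg_sup, ← latImg_add, ← latImg_add, latImg_pPow] at h2
    apply sup_le _ le_sup_right
    have e1 : 1 + i = i + 1 := by ring
    have e2 : 1 + (i + 1) = i + 2 := by ring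
    rw [e1, e2] at h2
    exact h2.trans (sup_le_sup_left (pPow_mono 1 hst) _)
  have hprop : ∀ i, B i ≤ B (i + 1) → ∀ j, B (i + j) ≤ B (i + j + 1) := by
    intro i hi j
    induction j with
    | zero => exact hi
    | succ j ih => exact hstep (i + j) ih
  have hprop2 : ∀ i, B i ≤ B (i + 1) → ∀ j, B i ≤ B (i + j) := by
    intro i hi j
    induction j with
    | zero => exact le_rfl
    | succ j ih => exact ih.trans (hprop i hi j)
  have hconcl : ∀ i, B i ≤ B (i + 1) → Isoc.latImg F i M ≤ Isoc.pPow 1 M := by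
    intro i hi
    refine le_sup_left.trans ((hprop2 i hi n).trans ?_)
    exact sup_le ((latImg_antitone_of_stable F hst (Nat.le_add_left n i)).trans hn) le_rfl
  by_cases hex : ∃ i, i ≤ h ∧ B i ≤ B (i + 1)
  · obtain ⟨i, hih, hi⟩ := hex
    exact (latImg_antitone_of_stable F hst hih).trans (hconcl i hi)
  · exfalso
    push Not at hex
    have hlt : ∀ i, i ≤ h → B (i + 1) < B i := fun i hi => lt_of_le_not_ge (hBanti i) (hex i hi)
    refine no_long_chain (p := p) (k := k) hF.finite hh (fun i => B (h + 1 - i)) ?_ ?_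
    · intro i hi
      have e1 : h + 1 - i = (h - i) + 1 := by omega
      have e2 : h + 1 - (i + 1) = h - i := by omega
      simp only [e1, e2]
      exact hlt (h - i) (by omega)
    · intro x hx
      simp only [Nat.sub_self] at hx
      have hxM : x ∈ M := by
        have h1 : B 0 ≤ M := by
          simp only [hB, latImg_zero]
          exact sup_le le_rfl (pPow_natCast_le 1 M)
        exact h1 hx
      have h2 : (p : WittVector p k) • x ∈ Isoc.pPow 1 M := p_smul_mem_pPow_one hxM
      exact (le_sup_right : Isoc.pPow 1 M ≤ B (h + 1 - 0)) h2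

end Frob

end Groth.Agent.Lib.helper24.IsocLib

end
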