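import Groth.Agent.Lib.Helper24.IsocSplit
import Groth.Agent.S17141
import Groth.Agent.S17142
import Groth.Agent.S17143
import Groth.Agent.S17146

/-!
The slope decomposition of an isocrystal over a perfect field (helper24).
-/

set_option autoImplicit false
set_option linter.unusedSectionVars false

noncomputable section

open scoped Pointwise Isocrystal

universe u v

namespace Groth.Agent.Lib.helper24.IsocLib

variable {p : ℕ} [Fact p.Prime] {k : Type u} [Field k] [CharP k p] [PerfectRing k p]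
variable {N : Type v} [AddCommGroup N] [Module (WittVector p k) N] [Module K(p, k) N]
  [IsScalarTower (WittVector p k) K(p, k) N]

section Good

variable {a : ℤ} {F : N →ₛₗ[Isoc.frob p k a] N}

theorem detCoeff_ne_zero_of_bijective {τ : K(p, k) →+* K(p, k)} {h : ℕ}
    (b : Module.Basis (Fin h) K(p, k) N) (G : N →ₛₗ[τ] N) (hG : Function.Bijective G) :
    Isoc.detCoeff b G ≠ 0 := by
  set e := Equiv.ofBijective G hG with he
  have h1 : (⇑G ∘ ⇑e.symm) = id := by
    funext x
    exact e.apply_symm_apply x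
  have h2 := mat_comp b G (⇑e.symm)
  rw [h1, mat_id] at h2
  have h3 := congrArg Matrix.det h2
  rw [Matrix.det_one, Matrix.det_mul, ← detCoeff_eq_det_mat] at h3
  exact left_ne_zero_of_mul_eq_one h3.symm

/-- a lattice exists. -/
theorem exists_isLattice (hfin : Module.Finite K(p, k) N) :
    ∃ M : Submodule (WittVector p k) N, M.IsLattice K(p, k) := by
  set b := Module.finBasis K(p, k) N with hb
  refine ⟨Submodule.span (WittVector p k) (Set.range b), Submodule.fg_span (Set.finite_range _), ?_⟩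
  rw [eq_top_iff, ← b.span_eq]
  exact Submodule.span_mono Submodule.subset_span

/-- the lattice adapted to the first slope. -/
theorem exists_good_lattice (hF : Isoc.IsIsoc F) [Nontrivial N] :
    ∃ (r : ℤ) (s : ℕ) (M : Submodule (WittVector p k) N), 0 < s ∧ M.IsLattice K(p, k) ∧
      Isoc.latImg (twIter F (-r) s) 1 M ≤ M ∧
      ∀ n, ¬ Isoc.latImg (twIter F (-r) s) n M ≤ Isoc.pPow 1 M := by
  classical
  have hfin : Module.Finite K(p, k) N := hF.finite
  set h := Module.finrank K(p, k) N with hh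
  set b := Module.finBasis K(p, k) N with hb
  obtain ⟨d, hd⟩ := exists_isOrdP (detCoeff_ne_zero_of_bijective b F hF.bijective)
  obtain ⟨M₁, hM₁⟩ := exists_isLattice (p := p) (k := k) (N := N) hfin
  obtain ⟨o₁, ho₁, lam, hlim₁⟩ := Groth.Agent.S17141.result p k a N F hF M₁ hM₁
  have hlam : Isoc.IsFirstSlope F lam := ⟨M₁, hM₁, o₁, ho₁, hlim₁⟩
  obtain ⟨r, s, M, hs, hsh, hlamrs, hM, hord, -⟩ :=
    Groth.Agent.S17146.result p k a N F hF h b d hd lam hlam
  have hpos : 0 < h := lt_of_lt_of_le hs hsh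
  refine ⟨r, s, M, hs, hM, ?_, ?_⟩
  · rw [latImg_twIter]
    have h2 := pPow_mono (p := p) (k := k) (-r) hord.1
    rw [pPow_pPow, neg_add_cancel, pPow_zero] at h2
    simpa using h2
  have hst : Isoc.latImg (twIter F (-r) s) 1 M ≤ M := by
    rw [latImg_twIter]
    have h2 := pPow_mono (p := p) (k := k) (-r) hord.1
    rw [pPow_pPow, neg_add_cancel, pPow_zero] at h2
    simpa using h2
  have hF' : Isoc.IsIsoc (twIter F (-r) s) := isIsoc_twIter hF (-r) s
  have hslope' : Isoc.IsFirstSlope (twIter F (-r) s) (s * lam + ((-r : ℤ) : ℝ)) :=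
    Groth.Agent.S17143.result p k a N F hF lam hlam (-r) s
  have hzero : (s : ℝ) * lam + ((-r : ℤ) : ℝ) = 0 := by
    have hs' : (0 : ℝ) < s := by exact_mod_cast hs
    rw [hlamrs]
    push_cast
    field_simp
    ring
  rw [hzero] at hslope'
  obtain ⟨o₂, ho₂, lam₂, hlim₂⟩ :=
    Groth.Agent.S17141.result p k (a * s) N (twIter F (-r) s) hF' M hM
  obtain ⟨M₀, hM₀, o₀, ho₀, hlim₀⟩ := hslope'
  have hlameq : (0 : ℝ) = lam₂ := Groth.Agent.S17142.result p k (a * s) N (twIter F (-r) s) hF'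
    M₀ M hM₀ hM o₀ o₂ ho₀ ho₂ 0 lam₂ hlim₀ hlim₂
  rw [← hlameq] at hlim₂
  intro n hn
  have hh' := nilpotent_chain (twIter F (-r) s) hF' hh.symm hst hn
  have hmul := fun j => latImg_mul_le (twIter F (-r) s) hh' j
  have hoj : ∀ j : ℕ, 1 ≤ j → (j : ℤ) ≤ o₂ (h * j) := by
    intro j hj
    have h1 := le_of_isOrd (twIter F (-r) s) (ho₂ (h * j) (Nat.mul_pos hpos hj)) (hmul j)
    simpa using h1
  have hsub : Filter.Tendsto (fun j : ℕ => h * j) Filter.atTop Filter.atTop :=
    Filter.tendsto_atTop_mono (fun j => Nat.le_mul_of_pos_left j hpos) Filter.tendsto_id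
  have hlim3 := hlim₂.comp hsub
  have hhpos : (0 : ℝ) < h := by exact_mod_cast hpos
  have hge : 1 / (h : ℝ) ≤ 0 := by
    apply ge_of_tendsto hlim3
    filter_upwards [Filter.eventually_ge_atTop 1] with j hj
    simp only [Function.comp_apply]
    have h1 : ((j : ℤ) : ℝ) ≤ (o₂ (h * j) : ℝ) := by exact_mod_cast hoj j hj
    have hjpos : (0 : ℝ) < j := by exact_mod_cast hj
    rw [div_le_div_iff₀ hhpos (by positivity)]
    push_cast at h1 ⊢
    nlinarith
  have : (0 : ℝ) < 1 / (h : ℝ) := by positivity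
  linarith

end Good

section Split

variable {a : ℤ} {F : N →ₛₗ[Isoc.frob p k a] N}

theorem exists_pow_smul_mem_of_mem_span {X : Submodule (WittVector p k) N} {x : N}
    (hx : x ∈ Submodule.span K(p, k) (X : Set N)) : ∃ c : ℕ, ((p : K(p, k)) ^ c) • x ∈ X := by
  induction hx using Submodule.span_induction with
  | mem x hx => exact ⟨0, by simpa using hx⟩
  | zero => exact ⟨0, by simp⟩
  | add x y _ _ ihx ihy =>
    obtain ⟨cx, hcx⟩ := ihx
    obtain ⟨cy, hcy⟩ := ihy
    refine ⟨cx + cy, ?_⟩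
    rw [smul_add]
    refine X.add_mem ?_ ?_
    · rw [add_comm, pow_add, mul_smul]
      exact natPow_smul_mem cy hcx
    · rw [pow_add, mul_smul]
      exact natPow_smul_mem cx hcy
  | smul l x _ ihx =>
    obtain ⟨cx, hcx⟩ := ihx
    obtain ⟨c, w, hw⟩ := exists_pow_mul_eq_algebraMap (p := p) (k := k) l
    refine ⟨c + cx, ?_⟩
    have : ((p : K(p, k)) ^ (c + cx)) • l • x = w • (((p : K(p, k)) ^ cx) • x) := by
      rw [← algebraMap_smul K(p, k) w, ← hw, smul_smul, smul_smul]
      congr 1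
      ring
    rw [this]
    exact X.smul_mem _ hcx

theorem stable_span {X : Submodule (WittVector p k) N}
    (h : ∀ x ∈ X, F x ∈ Submodule.span K(p, k) (X : Set N)) :
    ∀ x ∈ Submodule.span K(p, k) (X : Set N), F x ∈ Submodule.span K(p, k) (X : Set N) := by
  intro x hx
  induction hx using Submodule.span_induction with
  | mem x hx => exact h x hx
  | zero => rw [map_zero]; exact Submodule.zero_mem _
  | add x y _ _ ihx ihy => rw [map_add]; exact Submodule.add_mem _ ihx ihy
  | smul c x _ ihx => rw [map_smulₛₗ]; exact Submodule.smul_mem _ _ ihx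

theorem fg_of_le_fg {X M : Submodule (WittVector p k) N} (hM : M.FG) (h : X ≤ M) : X.FG := by
  have hnoeth : IsNoetherian (WittVector p k) M := isNoetherian_of_fg_of_noetherian M hM
  have h1 : (Submodule.comap M.subtype X).FG := IsNoetherian.noetherian _
  have h2 := h1.map M.subtype
  rwa [Submodule.map_comap_subtype, inf_eq_right.2 h] at h2

theorem twIter_apply (m : ℤ) (n : ℕ) (x : N) :
    (twIter F m n) x = ((p : K(p, k)) ^ m) • (⇑F)^[n] x := rfl

theorem map_zpow_smul (m : ℤ) (x : N) :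
    F (((p : K(p, k)) ^ m) • x) = ((p : K(p, k)) ^ m) • F x := by
  rw [map_smulₛₗ, map_zpow₀, map_natCast]

theorem comm_twIter (m : ℤ) (n : ℕ) (t : ℕ) (x : N) :
    F ((⇑(twIter F m n))^[t] x) = (⇑(twIter F m n))^[t] (F x) := by
  induction t with
  | zero => rfl
  | succ t ih =>
    rw [Function.iterate_succ_apply', Function.iterate_succ_apply', ← ih, twIter_apply, twIter_apply,
      map_zpow_smul, ← Function.iterate_succ_apply' (⇑F), ← Function.iterate_succ_apply (⇑F)]

/-- Splitting off the part of smallest slope. -/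
theorem exists_split (hF : Isoc.IsIsoc F) [Nontrivial N] :
    ∃ (μ : ℚ) (N₀ N₁ : Submodule K(p, k) N), (∀ x ∈ N₀, F x ∈ N₀) ∧ (∀ x ∈ N₁, F x ∈ N₁) ∧
      N₀ ⊔ N₁ = ⊤ ∧ N₀ ⊓ N₁ = ⊥ ∧ N₀ ≠ ⊥ ∧ IsoIn F N₀ μ := by
  classical
  have hfin : Module.Finite K(p, k) N := hF.finite
  obtain ⟨r, s, M, hs, hM, hst, hkey⟩ := exists_good_lattice hF
  have hΦ : Isoc.IsIsoc (twIter F (-r) s) := isIsoc_twIter hF (-r) s
  set M₀ := bijPart (twIter F (-r) s) M with hM₀
  set M₁ := nilPart (twIter F (-r) s) M with hM₁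
  have hM₀le : M₀ ≤ M := bijPart_le _ M
  have hM₁le : M₁ ≤ M := nilPart_le _ M
  -- bound for F on M
  obtain ⟨c, hc⟩ := exists_pPow_le (p := p) (k := k) (latImg_fg F 1 hM.fg) hM.span_eq_top
  have hFM : ∀ m ∈ M, ((p : K(p, k)) ^ (c : ℤ)) • F m ∈ M := by
    intro m hm
    apply hc
    rw [mem_pPow]
    exact ⟨F m, (mem_latImg F).2 ⟨m, hm, rfl⟩, rfl⟩
  have hpc : ((p : K(p, k)) ^ (c : ℤ)) ≠ 0 := zpow_ne_zero _ p_ne_zero
  have hback : ∀ (X : Submodule (WittVector p k) N) (y : N),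
      ((p : K(p, k)) ^ (c : ℤ)) • y ∈ X → y ∈ Submodule.span K(p, k) (X : Set N) := by
    intro X y hy
    have h1 : y = ((p : K(p, k)) ^ (c : ℤ))⁻¹ • (((p : K(p, k)) ^ (c : ℤ)) • y) := by
      rw [smul_smul, inv_mul_cancel₀ hpc, one_smul]
    rw [h1]
    exact Submodule.smul_mem _ _ (Submodule.subset_span hy)
  have hN₀st : ∀ x ∈ Submodule.span K(p, k) (M₀ : Set N),
      F x ∈ Submodule.span K(p, k) (M₀ : Set N) := by
    apply stable_span
    intro x hx
    apply hback
    rw [hM₀, mem_bijPart]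
    intro n
    obtain ⟨m, hm, rfl⟩ := (mem_latImg _).1 ((mem_bijPart _).1 hx n)
    rw [comm_twIter, ← iterate_smul_pPow]
    exact (mem_latImg _).2 ⟨_, hFM m hm, rfl⟩
  have hN₁st : ∀ x ∈ Submodule.span K(p, k) (M₁ : Set N),
      F x ∈ Submodule.span K(p, k) (M₁ : Set N) := by
    apply stable_span
    intro x hx
    apply hback
    refine ⟨hFM x hx.1, fun j => ?_⟩
    obtain ⟨n₀, hn₀⟩ := hx.2 j
    refine ⟨n₀, fun n hn => ?_⟩
    rw [iterate_smul_pPow, ← comm_twIter]
    obtain ⟨m, hm, hmx⟩ := mem_pPow.1 (hn₀ n hn)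
    rw [← hmx, map_zpow_smul, smul_comm]
    exact mem_pPow.2 ⟨_, hFM m hm, rfl⟩
  refine ⟨(r : ℚ) / s, Submodule.span K(p, k) (M₀ : Set N), Submodule.span K(p, k) (M₁ : Set N),
    hN₀st, hN₁st, ?_, ?_, ?_, ?_⟩
  · -- sum
    rw [eq_top_iff, ← hM.span_eq_top, ← bijPart_sup_nilPart _ hΦ hM hst, Submodule.span_le]
    intro x hx
    obtain ⟨y, hy, z, hz, rfl⟩ := Submodule.mem_sup.1 hx
    exact Submodule.add_mem_sup (Submodule.subset_span hy) (Submodule.subset_span hz)
  · -- intersection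
    rw [eq_bot_iff]
    rintro x ⟨hx0, hx1⟩
    obtain ⟨c₀, hc₀⟩ := exists_pow_smul_mem_of_mem_span hx0
    obtain ⟨c₁, hc₁⟩ := exists_pow_smul_mem_of_mem_span hx1
    have h1 : ((p : K(p, k)) ^ (c₀ + c₁)) • x ∈ M₀ ⊓ M₁ := by
      constructor
      · rw [add_comm, pow_add, mul_smul]
        exact natPow_smul_mem c₁ hc₀
      · rw [pow_add, mul_smul]
        exact natPow_smul_mem c₀ hc₁
    rw [hM₀, hM₁, bijPart_inf_nilPart _ hΦ hM hst, Submodule.mem_bot] at h1
    rw [Submodule.mem_bot]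
    exact (smul_eq_zero.1 h1).resolve_left (pow_ne_zero _ p_ne_zero)
  · -- nonzero
    intro hbot
    have hM₀bot : M₀ = ⊥ := by
      rw [eq_bot_iff]
      intro x hx
      have : x ∈ Submodule.span K(p, k) (M₀ : Set N) := Submodule.subset_span hx
      rw [hbot] at this
      exact this
    obtain ⟨n₀, hn₀⟩ := exists_stabImg_eq (twIter F (-r) s) hfin hst 1
    apply hkey n₀
    intro x hx
    have h1 : x ∈ stabImg (twIter F (-r) s) M 1 := by
      rw [← hn₀ n₀ le_rfl]
      exact Submodule.mem_sup_left hx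
    obtain ⟨m₀, hm₀, hxm⟩ := exists_bijPart_approx _ hΦ hM hst 1 h1
    rw [← hM₀, hM₀bot, Submodule.mem_bot] at hm₀
    rw [hm₀, sub_zero] at hxm
    simpa using hxm
  · -- isoclinic
    refine ⟨M₀, fg_of_le_fg hM.fg hM₀le, rfl, r, s, hs, rfl, ?_⟩
    have h1 := latImg_one_bijPart (twIter F (-r) s) hΦ.bijective.1 hst
    rw [latImg_twIter] at h1
    have h2 := congrArg (Isoc.pPow r) h1
    rw [pPow_pPow] at h2
    have e1 : r + -r * ((1 : ℕ) : ℤ) = 0 := by push_cast; ring
    rw [e1, pPow_zero, Nat.mul_one] at h2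
    exact h2

end Split

section Main

theorem iSup_slopePart_eq_top_aux (a : ℤ) : ∀ (n : ℕ) (N : Type v) [AddCommGroup N]
    [Module (WittVector p k) N] [Module K(p, k) N] [IsScalarTower (WittVector p k) K(p, k) N]
    (F : N →ₛₗ[Isoc.frob p k a] N), Isoc.IsIsoc F → Module.finrank K(p, k) N = n →
      ⨆ μ : ℚ, Isoc.slopePart F μ = ⊤ := by
  intro n
  induction n using Nat.strong_induction_on with
  | _ n ih =>
    intro N _ _ _ _ F hF hn
    have hfin : Module.Finite K(p, k) N := hF.finite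
    rcases subsingleton_or_nontrivial N with hsub | hnt
    · exact ((Submodule.subsingleton_iff K(p, k)).2 hsub).elim _ _
    · obtain ⟨μ₀, N₀, N₁, h₀, h₁, hsup, hinf, hne, hiso⟩ := exists_split hF
      have hrank := Submodule.finrank_sup_add_finrank_inf_eq N₀ N₁
      rw [hsup, hinf, finrank_top, finrank_bot, add_zero, hn] at hrank
      have hpos : 0 < Module.finrank K(p, k) N₀ := by
        rcases Nat.eq_zero_or_pos (Module.finrank K(p, k) N₀) with h0 | h0
        · exact absurd (Submodule.finrank_eq_zero.1 h0) hne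
        · exact h0
      have hlt : Module.finrank K(p, k) N₁ < n := by omega
      have hF₁ := isIsoc_restrict hF h₁
      have h1 := ih _ hlt ↥N₁ (F.restrict h₁) hF₁ rfl
      have hN₁ : N₁ ≤ ⨆ μ : ℚ, Isoc.slopePart F μ := by
        have h2 : N₁ = (⨆ μ : ℚ, Isoc.slopePart (F.restrict h₁) μ).map N₁.subtype := by
          rw [h1, Submodule.map_subtype_top]
        rw [h2, Submodule.map_iSup]
        apply iSup_mono
        intro μ
        obtain ⟨hst, hiso'⟩ := slopePart_stable_isoIn hF₁ μ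
        refine le_slopePart ?_ (hiso'.map (F' := F) N₁.subtype (fun x => rfl))
        rintro _ ⟨x, hx, rfl⟩
        exact ⟨(F.restrict h₁) x, hst x hx, rfl⟩
      have hN₀ : N₀ ≤ ⨆ μ : ℚ, Isoc.slopePart F μ :=
        (le_slopePart h₀ hiso).trans (le_iSup (fun μ : ℚ => Isoc.slopePart F μ) μ₀)
      rw [eq_top_iff, ← hsup]
      exact sup_le hN₀ hN₁

theorem isInternal_slopePart {N : Type v} [AddCommGroup N]
    [Module (WittVector p k) N] [Module K(p, k) N] [IsScalarTower (WittVector p k) K(p, k) N]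
    {a : ℤ} (F : N →ₛₗ[Isoc.frob p k a] N) (hF : Isoc.IsIsoc F) :
    DirectSum.IsInternal (fun μ : ℚ => Isoc.slopePart F μ) := by
  rw [DirectSum.isInternal_submodule_iff_iSupIndep_and_iSup_eq_top]
  exact ⟨iSupIndep_slopePart hF, iSup_slopePart_eq_top_aux a _ N F hF rfl⟩

end Main

end Groth.Agent.Lib.helper24.IsocLib

end
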