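import Groth.Agent.Lib.Helper24.IsocCast
import Mathlib.LinearAlgebra.Matrix.Basis
import Mathlib.LinearAlgebra.Matrix.NonsingularInverse

/-!
`p`-adic orders of scalars and determinant coefficients of semilinear maps (helper24).
-/

set_option autoImplicit false
set_option linter.unusedSectionVars false

noncomputable section

open scoped Pointwise Isocrystal

universe u v

namespace Groth.Agent.Lib.helper24.IsocLib

variable {p : ℕ} [Fact p.Prime] {k : Type u} [Field k] [CharP k p] [PerfectRing k p]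
variable {N : Type v} [AddCommGroup N] [Module (WittVector p k) N] [Module K(p, k) N]
  [IsScalarTower (WittVector p k) K(p, k) N]

section OrdP

theorem algebraMap_unit_ne_zero (u : (WittVector p k)ˣ) :
    algebraMap (WittVector p k) K(p, k) (u : WittVector p k) ≠ 0 := by
  rw [Ne, map_eq_zero_iff _ (IsFractionRing.injective (WittVector p k) K(p, k))]
  exact u.ne_zero

theorem isOrdP_ne_zero {c : K(p, k)} {r : ℤ} (h : Isoc.IsOrdP c r) : c ≠ 0 := by
  obtain ⟨u, rfl⟩ := h
  exact mul_ne_zero (zpow_ne_zero _ p_ne_zero) (algebraMap_unit_ne_zero u)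

theorem isOrdP_mul {c c' : K(p, k)} {r r' : ℤ} (h : Isoc.IsOrdP c r) (h' : Isoc.IsOrdP c' r') :
    Isoc.IsOrdP (c * c') (r + r') := by
  obtain ⟨u, rfl⟩ := h
  obtain ⟨u', rfl⟩ := h'
  refine ⟨u * u', ?_⟩
  rw [zpow_add₀ p_ne_zero, Units.val_mul, map_mul]
  ring

theorem isOrdP_one : Isoc.IsOrdP (1 : K(p, k)) 0 := ⟨1, by simp⟩

theorem isOrdP_zpow_p (m : ℤ) : Isoc.IsOrdP ((p : K(p, k)) ^ m) m := ⟨1, by simp⟩

theorem isOrdP_pow {c : K(p, k)} {r : ℤ} (h : Isoc.IsOrdP c r) (n : ℕ) :
    Isoc.IsOrdP (c ^ n) (n * r) := by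
  induction n with
  | zero => simpa using isOrdP_one (p := p) (k := k)
  | succ n ih =>
    rw [pow_succ]
    have := isOrdP_mul ih h
    convert this using 1
    push_cast; ring

theorem isOrdP_frob {c : K(p, k)} {r : ℤ} (h : Isoc.IsOrdP c r) (a : ℤ) :
    Isoc.IsOrdP (Isoc.frob p k a c) r := by
  obtain ⟨u, rfl⟩ := h
  refine ⟨Units.map (WittVector.frobeniusEquiv p k ^ a : WittVector p k ≃+* WittVector p k).toRingHom.toMonoidHom u, ?_⟩
  rw [map_mul, map_zpow₀, map_natCast, Isoc.frob_algebraMap]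
  rfl

theorem isOrdP_algebraMap_natCast {u : (WittVector p k)ˣ} (m : ℕ) :
    Isoc.IsOrdP (algebraMap (WittVector p k) K(p, k) ((p : WittVector p k) ^ m * u)) (m : ℤ) :=
  ⟨u, by rw [map_mul, map_pow, map_natCast, zpow_natCast]⟩

theorem isOrdP_unique {c : K(p, k)} {r r' : ℤ} (h : Isoc.IsOrdP c r) (h' : Isoc.IsOrdP c r') :
    r = r' := by
  -- wlog r ≤ r'
  have key : ∀ {r r' : ℤ}, Isoc.IsOrdP c r → Isoc.IsOrdP c r' → r ≤ r' → r = r' := by
    intro r r' h h' hle
    obtain ⟨u, hu⟩ := h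
    obtain ⟨u', hu'⟩ := h'
    obtain ⟨n, hn⟩ := Int.le.dest hle
    have h1 : (p : K(p, k)) ^ r * algebraMap (WittVector p k) K(p, k) (u : WittVector p k) =
        (p : K(p, k)) ^ r * ((p : K(p, k)) ^ (n : ℤ) *
          algebraMap (WittVector p k) K(p, k) (u' : WittVector p k)) := by
      rw [← hu, hu', ← hn, zpow_add₀ p_ne_zero]; ring
    have h2 := mul_left_cancel₀ (zpow_ne_zero r (p_ne_zero (p := p) (k := k))) h1
    rw [zpow_natCast] at h2
    have h3 : (u : WittVector p k) = (p : WittVector p k) ^ n * u' := by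
      apply IsFractionRing.injective (WittVector p k) K(p, k)
      rw [h2, map_mul, map_pow, map_natCast]
    cases n with
    | zero => simpa using hn
    | succ n =>
      exfalso
      have hunit : IsUnit ((p : WittVector p k) * ((p : WittVector p k) ^ n * u')) := by
        have : (p : WittVector p k) * ((p : WittVector p k) ^ n * u') = u := by
          rw [h3, pow_succ']; ring
        rw [this]; exact u.isUnit
      exact (WittVector.irreducible p).not_isUnit (isUnit_of_mul_isUnit_left hunit)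
  rcases le_total r r' with hle | hle
  · exact key h h' hle
  · exact (key h' h hle).symm

theorem exists_isOrdP_algebraMap {w : WittVector p k} (hw : w ≠ 0) :
    ∃ m : ℕ, Isoc.IsOrdP (algebraMap (WittVector p k) K(p, k) w) (m : ℤ) ∧
      (m = 0 → IsUnit w) := by
  obtain ⟨m, b, hb⟩ := WittVector.exists_eq_pow_p_mul' w hw
  refine ⟨m, hb ▸ isOrdP_algebraMap_natCast m, ?_⟩
  rintro rfl
  rw [hb, pow_zero, one_mul]
  exact b.isUnit

theorem exists_isOrdP {c : K(p, k)} (hc : c ≠ 0) : ∃ r : ℤ, Isoc.IsOrdP c r := by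
  obtain ⟨n, w, hw⟩ := exists_pow_mul_eq_algebraMap (p := p) (k := k) c
  have hw0 : w ≠ 0 := by
    rintro rfl
    rw [map_zero] at hw
    exact (mul_ne_zero (pow_ne_zero _ p_ne_zero) hc) hw
  obtain ⟨m, hm, -⟩ := exists_isOrdP_algebraMap hw0
  refine ⟨-(n : ℤ) + m, ?_⟩
  have h1 := isOrdP_mul (isOrdP_zpow_p (p := p) (k := k) (-(n : ℤ))) hm
  convert h1 using 1
  rw [← hw, ← mul_assoc, zpow_neg, zpow_natCast, inv_mul_cancel₀ (pow_ne_zero _ p_ne_zero), one_mul]

end OrdP

section Mat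

variable {τ : K(p, k) →+* K(p, k)} {h : ℕ} (b : Module.Basis (Fin h) K(p, k) N)

/-- the matrix of a self-map in the basis `b` (columns: coordinates of the images of `b j`). -/
def mat (G : N → N) : Matrix (Fin h) (Fin h) K(p, k) := Matrix.of fun i j => b.repr (G (b j)) i

theorem mat_apply (G : N → N) (i j : Fin h) : mat b G i j = b.repr (G (b j)) i := rfl

theorem detCoeff_eq_det_mat (F : N →ₛₗ[τ] N) : Isoc.detCoeff b F = (mat b ⇑F).det := rfl

theorem repr_semilinear (F : N →ₛₗ[τ] N) (x : N) (i : Fin h) :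
    b.repr (F x) i = ∑ l, mat b F i l * τ (b.repr x l) := by
  conv_lhs => rw [← b.sum_repr x]
  rw [map_sum, map_sum, Finsupp.finsetSum_apply]
  apply Finset.sum_congr rfl
  intro l _
  rw [map_smulₛₗ, map_smul, Finsupp.smul_apply, smul_eq_mul, mul_comm]
  rfl

theorem mat_comp (F : N →ₛₗ[τ] N) (G : N → N) :
    mat b (⇑F ∘ G) = mat b F * (mat b G).map τ := by
  ext i j
  rw [Matrix.mul_apply]
  simp only [mat_apply, Function.comp_apply, Matrix.map_apply]
  exact repr_semilinear b F (G (b j)) i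

theorem mat_smul (c : K(p, k)) (G : N → N) : mat b (fun x => c • G x) = c • mat b G := by
  ext i j
  simp [mat_apply]

theorem mat_id : mat b (id : N → N) = 1 := by
  ext i j
  simp [mat_apply, Matrix.one_apply, Finsupp.single_apply, eq_comm]

theorem mat_change (F : N →ₛₗ[τ] N) (b' : Module.Basis (Fin h) K(p, k) N) :
    mat b F * (b.toMatrix b').map τ = b.toMatrix b' * mat b' F := by
  ext i j
  rw [Matrix.mul_apply, Matrix.mul_apply]
  simp only [Matrix.map_apply, Module.Basis.toMatrix_apply]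
  rw [← repr_semilinear b F (b' j) i]
  conv_lhs => rw [← b'.sum_repr (F (b' j))]
  rw [map_sum, Finsupp.finsetSum_apply]
  apply Finset.sum_congr rfl
  intro l _
  rw [map_smul, Finsupp.smul_apply, smul_eq_mul, mul_comm]
  rfl

theorem detCoeff_iter_succ (F : N →ₛₗ[τ] N) (n : ℕ) :
    Isoc.detCoeff b (Isoc.iter F (n + 1)) =
      Isoc.detCoeff b F * τ (Isoc.detCoeff b (Isoc.iter F n)) := by
  rw [detCoeff_eq_det_mat, detCoeff_eq_det_mat, detCoeff_eq_det_mat, Isoc.coe_iter, Isoc.coe_iter,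
    Function.iterate_succ', mat_comp, Matrix.det_mul, RingHom.map_det]
  rfl

theorem isOrdP_detCoeff_iter {a : ℤ} (F : N →ₛₗ[Isoc.frob p k a] N) {d : ℤ}
    (hd : Isoc.IsOrdP (Isoc.detCoeff b F) d) (n : ℕ) :
    Isoc.IsOrdP (Isoc.detCoeff b (Isoc.iter F n)) (n * d) := by
  induction n with
  | zero =>
    have h1 : Isoc.detCoeff b (Isoc.iter F 0) = 1 := by
      rw [detCoeff_eq_det_mat, Isoc.coe_iter, Function.iterate_zero, mat_id, Matrix.det_one]
    rw [h1]
    simpa using isOrdP_one (p := p) (k := k)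
  | succ n ih =>
    rw [detCoeff_iter_succ]
    have h2 := isOrdP_mul hd (isOrdP_frob ih a)
    convert h2 using 1
    push_cast; ring

theorem isOrdP_detCoeff_twIter {a : ℤ} (F : N →ₛₗ[Isoc.frob p k a] N) {d : ℤ}
    (hd : Isoc.IsOrdP (Isoc.detCoeff b F) d) (m : ℤ) (n : ℕ) :
    Isoc.IsOrdP (Isoc.detCoeff b (twIter F m n)) (h * m + n * d) := by
  have h1 : Isoc.detCoeff b (twIter F m n) =
      ((p : K(p, k)) ^ m) ^ h * Isoc.detCoeff b (Isoc.iter F n) := by
    rw [detCoeff_eq_det_mat, detCoeff_eq_det_mat]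
    have h2 : (⇑(twIter F m n) : N → N) = fun x => ((p : K(p, k)) ^ m) • (Isoc.iter F n) x := rfl
    rw [h2, mat_smul, Matrix.det_smul, Fintype.card_fin]
  rw [h1]
  exact isOrdP_mul (isOrdP_pow (isOrdP_zpow_p m) h) (isOrdP_detCoeff_iter b F hd n)

/-- A lattice has a `W`-basis indexed by `Fin h`. -/
theorem exists_basis_of_isLattice (b₀ : Module.Basis (Fin h) K(p, k) N)
    {M : Submodule (WittVector p k) N}
    (hM : M.IsLattice K(p, k)) : Nonempty (Module.Basis (Fin h) (WittVector p k) M) := by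
  have hfin : Module.Finite K(p, k) N := Module.Finite.of_basis b₀
  have h1 : Module.rank (WittVector p k) M = Module.rank K(p, k) N :=
    Submodule.IsLattice.rank' K(p, k) M
  have h2 : Module.rank K(p, k) N = (h : Cardinal) := by
    rw [rank_eq_card_basis b₀, Fintype.card_fin]
  have h3 : Module.finrank (WittVector p k) M = h :=
    Module.finrank_eq_of_rank_eq (h1.trans h2)
  exact ⟨Module.finBasisOfFinrankEq (WittVector p k) M h3⟩

/-- If a lattice `M` is stable under `F`, then `orddet F ≥ 0`, and if `orddet F = 0` then `F M = M`. -/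
theorem orddet_nonneg_of_stable {a : ℤ} (F : N →ₛₗ[Isoc.frob p k a] N)
    {M : Submodule (WittVector p k) N} (hM : M.IsLattice K(p, k))
    (hstab : Isoc.latImg F 1 M ≤ M) {e : ℤ} (he : Isoc.IsOrdP (Isoc.detCoeff b F) e) :
    0 ≤ e ∧ (e = 0 → M ≤ Isoc.latImg F 1 M) := by
  classical
  obtain ⟨eb⟩ := exists_basis_of_isLattice b hM
  have hst : ∀ x ∈ M, F x ∈ M := fun x hx => hstab ((mem_latImg F).2 ⟨x, hx, rfl⟩)
  set b' : Module.Basis (Fin h) K(p, k) N := eb.extendOfIsLattice K(p, k) with hb'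
  have hb'app : ∀ j, b' j = (eb j : N) := fun j => Module.Basis.extendOfIsLattice_apply _ eb j
  -- integral matrix
  set A : Matrix (Fin h) (Fin h) (WittVector p k) :=
    Matrix.of fun i j => eb.repr ⟨F (eb j), hst _ (eb j).2⟩ i with hA
  have hFe : ∀ j, F (eb j : N) = ∑ l, A l j • (eb l : N) := by
    intro j
    have h1 := eb.sum_repr ⟨F (eb j), hst _ (eb j).2⟩
    have h2 : ((∑ i, (eb.repr ⟨F (eb j), hst _ (eb j).2⟩) i • eb i : M) : N) = F (eb j) :=
      congrArg Subtype.val h1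
    rw [← h2, Submodule.coe_sum]
    rfl
  have hmat : mat b' F = A.map (algebraMap (WittVector p k) K(p, k)) := by
    ext i j
    rw [mat_apply, Matrix.map_apply, hb'app, hFe]
    have h1 : ∑ l, A l j • (eb l : N) =
        ∑ l, (algebraMap (WittVector p k) K(p, k) (A l j)) • b' l := by
      apply Finset.sum_congr rfl
      intro l _
      rw [hb'app, algebraMap_smul]
    rw [h1, Module.Basis.repr_sum_self]
  have hdet' : Isoc.detCoeff b' F = algebraMap (WittVector p k) K(p, k) A.det := by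
    rw [detCoeff_eq_det_mat, hmat, RingHom.map_det]
    rfl
  -- change of basis
  have hch := congrArg Matrix.det (mat_change b F b')
  rw [Matrix.det_mul, Matrix.det_mul, ← detCoeff_eq_det_mat, ← detCoeff_eq_det_mat] at hch
  have hP : (b.toMatrix b').det ≠ 0 := by
    have h1 := congrArg Matrix.det (Module.Basis.toMatrix_mul_toMatrix_flip b b')
    rw [Matrix.det_mul, Matrix.det_one] at h1
    exact left_ne_zero_of_mul_eq_one h1
  obtain ⟨q, hq⟩ := exists_isOrdP hP
  have hq' : Isoc.IsOrdP (((b.toMatrix b').map (Isoc.frob p k a)).det) q := by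
    have h1 := isOrdP_frob hq a
    rwa [RingHom.map_det] at h1
  have hlhs := isOrdP_mul he hq'
  rw [hch] at hlhs
  have hdetA : A.det ≠ 0 := by
    intro h0
    rw [hdet', h0, map_zero, mul_zero] at hlhs
    exact isOrdP_ne_zero hlhs rfl
  obtain ⟨m, hm, hunit⟩ := exists_isOrdP_algebraMap hdetA
  rw [← hdet'] at hm
  have hrhs := isOrdP_mul hq hm
  have heq : e + q = q + (m : ℤ) := isOrdP_unique hlhs hrhs
  have hem : e = (m : ℤ) := by omega
  refine ⟨by omega, fun he0 => ?_⟩
  have hm0 : m = 0 := by omega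
  have hAu : IsUnit A.det := hunit hm0
  have hAB : A * A⁻¹ = 1 := Matrix.mul_nonsing_inv A hAu
  have hmemF : ∀ j, F (eb j : N) ∈ Isoc.latImg F 1 M :=
    fun j => (mem_latImg F).2 ⟨_, (eb j).2, rfl⟩
  have hebi : ∀ i, (eb i : N) ∈ Isoc.latImg F 1 M := by
    intro i
    have h1 : ∑ j, (A⁻¹) j i • F (eb j : N) = (eb i : N) := by
      simp_rw [hFe, Finset.smul_sum, smul_smul]
      rw [Finset.sum_comm]
      simp_rw [← Finset.sum_smul]
      have h2 : ∀ l, ∑ j, (A⁻¹) j i * A l j = (1 : Matrix (Fin h) (Fin h) (WittVector p k)) l i := by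
        intro l
        rw [← hAB, Matrix.mul_apply]
        apply Finset.sum_congr rfl
        intro j _
        ring
      simp_rw [h2, Matrix.one_apply]
      simp
    rw [← h1]
    exact Submodule.sum_mem _ (fun j _ => Submodule.smul_mem _ _ (hmemF j))
  intro x hx
  have h1 := eb.sum_repr ⟨x, hx⟩
  have h2 := congrArg (Subtype.val) h1
  simp only [Submodule.coe_sum, Submodule.coe_smul] at h2
  rw [← h2]
  exact Submodule.sum_mem _ (fun j _ => Submodule.smul_mem _ _ (hebi j))

end Mat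

section Mat2

variable {τ : K(p, k) →+* K(p, k)} {h : ℕ} (b : Module.Basis (Fin h) K(p, k) N)

theorem isOrdP_inv {c : K(p, k)} {r : ℤ} (hc : Isoc.IsOrdP c r) : Isoc.IsOrdP c⁻¹ (-r) := by
  obtain ⟨u, rfl⟩ := hc
  refine ⟨u⁻¹, ?_⟩
  rw [mul_inv, zpow_neg]
  congr 1
  rw [eq_comm, ← mul_eq_one_iff_eq_inv₀ (algebraMap_unit_ne_zero u), ← map_mul, Units.inv_mul,
    map_one]

/-- Integral matrix of `F` in a `W`-basis of a stable lattice, together with the change of basis
relation to an arbitrary `L`-basis `b`. -/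
theorem exists_integral_mat {a : ℤ} (F : N →ₛₗ[Isoc.frob p k a] N)
    {M : Submodule (WittVector p k) N} (hM : M.IsLattice K(p, k))
    (hstab : Isoc.latImg F 1 M ≤ M) :
    ∃ (eb : Module.Basis (Fin h) (WittVector p k) M)
      (A : Matrix (Fin h) (Fin h) (WittVector p k)) (c : K(p, k)) (q : ℤ),
      Isoc.IsOrdP c q ∧ (∀ j, F (eb j : N) = ∑ l, A l j • (eb l : N)) ∧
      Isoc.detCoeff b F * Isoc.frob p k a c =
        c * algebraMap (WittVector p k) K(p, k) A.det := by
  classical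
  obtain ⟨eb⟩ := exists_basis_of_isLattice b hM
  have hst : ∀ x ∈ M, F x ∈ M := fun x hx => hstab ((mem_latImg F).2 ⟨x, hx, rfl⟩)
  set b' : Module.Basis (Fin h) K(p, k) N := eb.extendOfIsLattice K(p, k) with hb'
  have hb'app : ∀ j, b' j = (eb j : N) := fun j => Module.Basis.extendOfIsLattice_apply _ eb j
  set A : Matrix (Fin h) (Fin h) (WittVector p k) :=
    Matrix.of fun i j => eb.repr ⟨F (eb j), hst _ (eb j).2⟩ i with hA
  have hFe : ∀ j, F (eb j : N) = ∑ l, A l j • (eb l : N) := by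
    intro j
    have h1 := eb.sum_repr ⟨F (eb j), hst _ (eb j).2⟩
    have h2 : ((∑ i, (eb.repr ⟨F (eb j), hst _ (eb j).2⟩) i • eb i : M) : N) = F (eb j) :=
      congrArg Subtype.val h1
    rw [← h2, Submodule.coe_sum]
    rfl
  have hmat : mat b' F = A.map (algebraMap (WittVector p k) K(p, k)) := by
    ext i j
    rw [mat_apply, Matrix.map_apply, hb'app, hFe]
    have h1 : ∑ l, A l j • (eb l : N) =
        ∑ l, (algebraMap (WittVector p k) K(p, k) (A l j)) • b' l := by
      apply Finset.sum_congr rfl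
      intro l _
      rw [hb'app, algebraMap_smul]
    rw [h1, Module.Basis.repr_sum_self]
  have hdet' : Isoc.detCoeff b' F = algebraMap (WittVector p k) K(p, k) A.det := by
    rw [detCoeff_eq_det_mat, hmat, RingHom.map_det]
    rfl
  have hch := congrArg Matrix.det (mat_change b F b')
  rw [Matrix.det_mul, Matrix.det_mul, ← detCoeff_eq_det_mat, ← detCoeff_eq_det_mat] at hch
  have hP : (b.toMatrix b').det ≠ 0 := by
    have h1 := congrArg Matrix.det (Module.Basis.toMatrix_mul_toMatrix_flip b b')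
    rw [Matrix.det_mul, Matrix.det_one] at h1
    exact left_ne_zero_of_mul_eq_one h1
  obtain ⟨q, hq⟩ := exists_isOrdP hP
  refine ⟨eb, A, (b.toMatrix b').det, q, hq, hFe, ?_⟩
  rw [← hdet', ← hch, RingHom.map_det]
  rfl

/-- If `F M = M` for a lattice `M`, then `orddet F = 0`. -/
theorem isOrdP_detCoeff_zero_of_latImg_eq {a : ℤ} (F : N →ₛₗ[Isoc.frob p k a] N)
    {M : Submodule (WittVector p k) N} (hM : M.IsLattice K(p, k))
    (heq : Isoc.latImg F 1 M = M) : Isoc.IsOrdP (Isoc.detCoeff b F) 0 := by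
  classical
  obtain ⟨eb, A, c, q, hq, hFe, hrel⟩ := exists_integral_mat b F hM heq.le
  -- each eb i is in F(M)
  have hex : ∀ i, ∃ w : Fin h → WittVector p k, F (∑ j, w j • (eb j : N)) = (eb i : N) := by
    intro i
    have h1 : (eb i : N) ∈ Isoc.latImg F 1 M := heq.ge (eb i).2
    obtain ⟨m, hm, hmi⟩ := (mem_latImg F).1 h1
    refine ⟨fun j => eb.repr ⟨m, hm⟩ j, ?_⟩
    have h2 := congrArg Subtype.val (eb.sum_repr ⟨m, hm⟩)
    simp only [Submodule.coe_sum, Submodule.coe_smul] at h2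
    rw [h2]
    exact hmi
  choose w hw using hex
  set B : Matrix (Fin h) (Fin h) (WittVector p k) :=
    Matrix.of fun j i => (WittVector.frobeniusEquiv p k ^ a) (w i j) with hB
  have hAB : A * B = 1 := by
    ext l i
    have h1 : (eb i : N) = ∑ l, (∑ j, A l j * B j i) • (eb l : N) := by
      rw [← hw i, map_sum]
      simp_rw [map_smul_W, hFe, Finset.smul_sum, smul_smul]
      rw [Finset.sum_comm]
      apply Finset.sum_congr rfl
      intro l _
      rw [Finset.sum_smul]
      apply Finset.sum_congr rfl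
      intro j _
      rw [mul_comm]
      rfl
    -- compare coefficients in the basis eb
    have h2 : (eb i : M) = ∑ l, (∑ j, A l j * B j i) • eb l := by
      apply Subtype.val_injective
      simp only [Submodule.coe_sum, Submodule.coe_smul]
      exact h1
    have h3 := congrArg (fun x => eb.repr x l) h2
    simp only [Module.Basis.repr_self, Module.Basis.repr_sum_self] at h3
    rw [Matrix.mul_apply, ← h3, Matrix.one_apply, Finsupp.single_apply]
    simp [eq_comm]
  have hdetu : IsUnit A.det := by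
    have h1 := congrArg Matrix.det hAB
    rw [Matrix.det_mul, Matrix.det_one] at h1
    exact IsUnit.of_mul_eq_one _ h1
  obtain ⟨u, hu⟩ := hdetu
  have hA0 : Isoc.IsOrdP (algebraMap (WittVector p k) K(p, k) A.det) 0 := ⟨u, by rw [hu]; simp⟩
  have hc0 : Isoc.frob p k a c ≠ 0 := isOrdP_ne_zero (isOrdP_frob hq a)
  have h4 : Isoc.detCoeff b F =
      c * algebraMap (WittVector p k) K(p, k) A.det * (Isoc.frob p k a c)⁻¹ := by
    rw [← hrel, mul_assoc, mul_inv_cancel₀ hc0, mul_one]
  rw [h4]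
  have h5 := isOrdP_mul (isOrdP_mul hq hA0) (isOrdP_inv (isOrdP_frob hq a))
  convert h5 using 1
  ring

theorem detCoeff_ne_zero_of_iter {F : N →ₛₗ[τ] N} {n : ℕ} (hn : 1 ≤ n)
    (h0 : Isoc.detCoeff b (Isoc.iter F n) ≠ 0) : Isoc.detCoeff b F ≠ 0 := by
  obtain ⟨m, rfl⟩ : ∃ m, n = m + 1 := ⟨n - 1, by omega⟩
  rw [detCoeff_iter_succ] at h0
  exact left_ne_zero_of_mul h0

/-- If `F^s M = p^r M` for a lattice `M`, `s ≥ 1`, then `orddet F` exists and
`s * orddet F = h * r`. -/
theorem exists_isOrdP_detCoeff_of_latImg_eq {a : ℤ} (F : N →ₛₗ[Isoc.frob p k a] N)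
    {M : Submodule (WittVector p k) N} (hM : M.IsLattice K(p, k)) {s : ℕ} (hs : 1 ≤ s) {r : ℤ}
    (heq : Isoc.latImg F s M = Isoc.pPow r M) :
    ∃ d' : ℤ, Isoc.IsOrdP (Isoc.detCoeff b F) d' ∧ (s : ℤ) * d' = h * r := by
  have h1 : Isoc.latImg (twIter F (-r) s) 1 M = M := by
    rw [latImg_twIter, Nat.mul_one, heq, pPow_pPow]
    have e1 : -r * ((1 : ℕ) : ℤ) + r = 0 := by push_cast; ring
    rw [e1, pPow_zero]
  have h2 := isOrdP_detCoeff_zero_of_latImg_eq b (twIter F (-r) s) hM h1
  have h3 : Isoc.detCoeff b (twIter F (-r) s) =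
      ((p : K(p, k)) ^ (-r)) ^ h * Isoc.detCoeff b (Isoc.iter F s) := by
    rw [detCoeff_eq_det_mat, detCoeff_eq_det_mat]
    have h4 : (⇑(twIter F (-r) s) : N → N) =
        fun x => ((p : K(p, k)) ^ (-r)) • (Isoc.iter F s) x := rfl
    rw [h4, mat_smul, Matrix.det_smul, Fintype.card_fin]
  have h5 : Isoc.detCoeff b (Isoc.iter F s) ≠ 0 := by
    intro h0
    rw [h3, h0, mul_zero] at h2
    exact isOrdP_ne_zero h2 rfl
  obtain ⟨d', hd'⟩ := exists_isOrdP (detCoeff_ne_zero_of_iter b hs h5)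
  refine ⟨d', hd', ?_⟩
  have h6 := isOrdP_detCoeff_twIter b F hd' (-r) s
  have h7 := isOrdP_unique h6 h2
  linarith

end Mat2

end Groth.Agent.Lib.helper24.IsocLib

end
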