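import Groth.Agent.Lib.Helper24.IsocSlope
import Mathlib.RingTheory.WittVector.Complete

/-!
Descending chain condition modulo `p^j`, `p`-adic completeness of lattices and the Fitting
decomposition of a lattice with respect to a semilinear endomorphism (helper24).
-/

set_option autoImplicit false
set_option linter.unusedSectionVars false

noncomputable section

open scoped Pointwise Isocrystal

universe u v

namespace Groth.Agent.Lib.helper24.IsocLib

variable {p : ℕ} [Fact p.Prime] {k : Type u} [Field k] [CharP k p] [PerfectRing k p]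
variable {N : Type v} [AddCommGroup N] [Module (WittVector p k) N] [Module K(p, k) N]
  [IsScalarTower (WittVector p k) K(p, k) N]

section DCC

/-- descending sequences between `p X` and `X` stabilize. -/
theorem exists_stable_of_antitone_one (hfin : Module.Finite K(p, k) N)
    (X : Submodule (WittVector p k) N) (B : ℕ → Submodule (WittVector p k) N)
    (hanti : Antitone B) (hle : ∀ n, B n ≤ X) (hge : ∀ n, Isoc.pPow 1 X ≤ B n) :
    ∃ n₀, ∀ n, n₀ ≤ n → B n = B n₀ := by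
  by_contra hcon
  push Not at hcon
  have hex : ∀ n₀, ∃ n, n₀ ≤ n ∧ B n < B n₀ := by
    intro n₀
    obtain ⟨n, hn, hne⟩ := hcon n₀
    exact ⟨n, hn, lt_of_le_of_ne (hanti hn) hne⟩
  choose g hg1 hg2 using hex
  set f : ℕ → ℕ := fun i => g^[i] 0 with hf
  have hfs : ∀ i, B (f (i + 1)) < B (f i) := by
    intro i
    simp only [hf, Function.iterate_succ_apply']
    exact hg2 _
  set h := Module.finrank K(p, k) N with hh
  refine no_long_chain (p := p) (k := k) hfin hh.symm (fun i => B (f (h + 1 - i))) ?_ ?_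
  · intro i hi
    have e1 : h + 1 - i = (h - i) + 1 := by omega
    have e2 : h + 1 - (i + 1) = h - i := by omega
    simp only [e1, e2]
    exact hfs (h - i)
  · intro x hx
    simp only [Nat.sub_self] at hx
    exact hge _ (p_smul_mem_pPow_one (hle _ hx))

/-- descending sequences between `p^j X` and `X` stabilize. -/
theorem exists_stable_of_antitone (hfin : Module.Finite K(p, k) N) (j : ℕ)
    (X : Submodule (WittVector p k) N) (A : ℕ → Submodule (WittVector p k) N)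
    (hanti : Antitone A) (hle : ∀ n, A n ≤ X) (hge : ∀ n, Isoc.pPow (j : ℤ) X ≤ A n) :
    ∃ n₀, ∀ n, n₀ ≤ n → A n = A n₀ := by
  induction j generalizing X A with
  | zero =>
    refine ⟨0, fun n _ => ?_⟩
    have h1 : ∀ n, A n = X := fun n => le_antisymm (hle n) (by simpa [pPow_zero] using hge n)
    rw [h1, h1]
  | succ j ih =>
    obtain ⟨n₁, hn₁⟩ := exists_stable_of_antitone_one hfin X (fun n => A n ⊔ Isoc.pPow 1 X)
      (fun m n hmn => sup_le_sup_right (hanti hmn) _)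
      (fun n => sup_le (hle n) (pPow_natCast_le 1 X)) (fun n => le_sup_right)
    obtain ⟨n₂, hn₂⟩ := ih (Isoc.pPow 1 X) (fun n => A n ⊓ Isoc.pPow 1 X)
      (fun m n hmn => inf_le_inf_right _ (hanti hmn)) (fun n => inf_le_right)
      (fun n => le_inf (by
        refine le_trans (le_of_eq ?_) (hge n)
        rw [pPow_pPow, Nat.cast_succ]) (pPow_natCast_le j _))
    refine ⟨max n₁ n₂, fun n hn => ?_⟩
    have hn1 : n₁ ≤ n := le_trans (le_max_left _ _) hn
    have hn2 : n₂ ≤ n := le_trans (le_max_right _ _) hn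
    apply le_antisymm (hanti hn)
    intro x hx
    have h1 : x ∈ A n ⊔ Isoc.pPow 1 X := by
      have e1 := hn₁ n hn1
      have e2 := hn₁ (max n₁ n₂) (le_max_left _ _)
      rw [e1, ← e2]
      exact Submodule.mem_sup_left hx
    obtain ⟨a', ha', y, hy, rfl⟩ := Submodule.mem_sup.1 h1
    have hy2 : y ∈ A (max n₁ n₂) := by
      have : y = (a' + y) - a' := by abel
      rw [this]
      exact Submodule.sub_mem _ hx (hanti hn ha')
    have h2 : y ∈ A n ⊓ Isoc.pPow 1 X := by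
      have e1 := hn₂ n hn2
      have e2 := hn₂ (max n₁ n₂) (le_max_right _ _)
      rw [e1, ← e2]
      exact ⟨hy2, hy⟩
    exact Submodule.add_mem _ ha' h2.1

end DCC

section Complete

theorem W_complete (f : ℕ → WittVector p k)
    (hf : ∀ n, (p : WittVector p k) ^ n ∣ f (n + 1) - f n) :
    ∃ L : WittVector p k, ∀ n, (p : WittVector p k) ^ n ∣ L - f n := by
  have hcomp : IsPrecomplete (Ideal.span {(p : WittVector p k)}) (WittVector p k) :=
    (WittVector.isAdicCompleteIdealSpanP (p := p) (k := k)).toIsPrecomplete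
  have hmem : ∀ (n : ℕ) (x y : WittVector p k),
      x ≡ y [SMOD ((Ideal.span {(p : WittVector p k)}) ^ n • ⊤ : Submodule (WittVector p k) (WittVector p k))] ↔
        (p : WittVector p k) ^ n ∣ x - y := by
    intro n x y
    rw [SModEq.sub_mem, smul_eq_mul, Ideal.mul_top, Ideal.span_singleton_pow,
      Ideal.mem_span_singleton]
  have hcau : ∀ {m n : ℕ}, m ≤ n → f m ≡ f n
      [SMOD ((Ideal.span {(p : WittVector p k)}) ^ m • ⊤ : Submodule (WittVector p k) (WittVector p k))] := by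
    have hc : AdicCompletion.IsAdicCauchy (Ideal.span {(p : WittVector p k)})
        (WittVector p k) f :=
      (AdicCompletion.isAdicCauchy_iff (I := Ideal.span {(p : WittVector p k)})
      (M := WittVector p k) f).2 (fun n => by
        rw [hmem]
        have := hf n
        rwa [← neg_sub, dvd_neg])
    intro m n hmn
    exact hc hmn
  obtain ⟨L, hL⟩ := hcomp.prec' f hcau
  refine ⟨L, fun n => ?_⟩
  have := (hmem n _ _).1 (hL n)
  rwa [← neg_sub, dvd_neg] at this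

end Complete

section Complete2

theorem mem_pPow_natCast {n : ℕ} {M : Submodule (WittVector p k) N} {x : N} :
    x ∈ Isoc.pPow (n : ℤ) M ↔ ∃ m ∈ M, ((p : WittVector p k) ^ n) • m = x := by
  rw [mem_pPow]
  have h1 : ∀ m : N, ((p : K(p, k)) ^ (n : ℤ)) • m = ((p : WittVector p k) ^ n) • m := by
    intro m
    rw [zpow_natCast, ← algebraMap_smul K(p, k) ((p : WittVector p k) ^ n) m]
    simp
  simp_rw [h1]

/-- `p`-adic completeness of a lattice. -/
theorem exists_limit (hfin : Module.Finite K(p, k) N) {M : Submodule (WittVector p k) N}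
    (hM : M.IsLattice K(p, k)) (x : ℕ → N) (hx : ∀ n, x n ∈ M)
    (hc : ∀ n : ℕ, x (n + 1) - x n ∈ Isoc.pPow (n : ℤ) M) :
    ∃ y ∈ M, ∀ n : ℕ, y - x n ∈ Isoc.pPow (n : ℤ) M := by
  classical
  obtain ⟨eb⟩ := exists_basis_of_isLattice (Module.finBasis K(p, k) N) hM
  set c : Fin _ → ℕ → WittVector p k := fun i n => eb.repr ⟨x n, hx n⟩ i with hcdef
  have hdiv : ∀ i n, (p : WittVector p k) ^ n ∣ c i (n + 1) - c i n := by
    intro i n
    obtain ⟨m, hm, hmx⟩ := mem_pPow_natCast.1 (hc n)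
    have h1 : (⟨x (n + 1), hx (n + 1)⟩ : M) - ⟨x n, hx n⟩ =
        ((p : WittVector p k) ^ n) • (⟨m, hm⟩ : M) := by
      apply Subtype.ext
      simp only [Submodule.coe_sub, Submodule.coe_smul]
      exact hmx.symm
    have h2 := congrArg (fun z => eb.repr z i) h1
    simp only [map_sub, map_smul, Finsupp.coe_sub, Pi.sub_apply, Finsupp.coe_smul, Pi.smul_apply,
      smul_eq_mul] at h2
    exact ⟨_, h2⟩
  have hlim : ∀ i, ∃ L : WittVector p k, ∀ n, (p : WittVector p k) ^ n ∣ L - c i n :=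
    fun i => W_complete (c i) (hdiv i)
  choose L hL using hlim
  choose q hq using hL
  refine ⟨∑ i, L i • (eb i : N), Submodule.sum_mem _ (fun i _ => M.smul_mem _ (eb i).2), ?_⟩
  intro n
  rw [mem_pPow_natCast]
  refine ⟨∑ i, q i n • (eb i : N), Submodule.sum_mem _ (fun i _ => M.smul_mem _ (eb i).2), ?_⟩
  have h1 : x n = ∑ i, c i n • (eb i : N) := by
    have h2 := congrArg Subtype.val (eb.sum_repr ⟨x n, hx n⟩)
    simp only [Submodule.coe_sum, Submodule.coe_smul] at h2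
    exact h2.symm
  rw [h1, Finset.smul_sum, ← Finset.sum_sub_distrib]
  apply Finset.sum_congr rfl
  intro i _
  rw [smul_smul, ← hq i n, sub_smul]

/-- shifted version of `exists_limit`. -/
theorem exists_limit_shift (hfin : Module.Finite K(p, k) N) {M : Submodule (WittVector p k) N}
    (hM : M.IsLattice K(p, k)) (j : ℕ) (x : ℕ → N) (hx : ∀ n, x n ∈ M)
    (hc : ∀ n : ℕ, x (n + 1) - x n ∈ Isoc.pPow ((j + n : ℕ) : ℤ) M) :
    ∃ y ∈ M, ∀ n : ℕ, y - x n ∈ Isoc.pPow ((j + n : ℕ) : ℤ) M := by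
  obtain ⟨y, hy, hyx⟩ := exists_limit hfin hM (fun n => x (n - j)) (fun n => hx _) (by
    intro n
    by_cases hn : n < j
    · have e1 : n + 1 - j = 0 := by omega
      have e2 : n - j = 0 := by omega
      simp only [e1, e2, sub_self]
      exact Submodule.zero_mem _
    · have e1 : n + 1 - j = (n - j) + 1 := by omega
      simp only [e1]
      have h1 := hc (n - j)
      have e2 : j + (n - j) = n := by omega
      rwa [e2] at h1)
  refine ⟨y, hy, fun n => ?_⟩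
  have h1 := hyx (j + n)
  simp only [Nat.add_sub_cancel_left] at h1
  exact h1

end Complete2

section Fitting

variable {a : ℤ} (Φ : N →ₛₗ[Isoc.frob p k a] N)

theorem span_latImg_eq_top (hsurj : Function.Surjective Φ) {M : Submodule (WittVector p k) N}
    (hM : Submodule.span K(p, k) (M : Set N) = ⊤) (n : ℕ) :
    Submodule.span K(p, k) ((Isoc.latImg Φ n M : Submodule (WittVector p k) N) : Set N) = ⊤ := by
  rw [eq_top_iff]
  rintro y -
  obtain ⟨x, rfl⟩ := (hsurj.iterate n) y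
  have hx : x ∈ Submodule.span K(p, k) (M : Set N) := hM ▸ Submodule.mem_top
  induction hx using Submodule.span_induction with
  | mem x hx => exact Submodule.subset_span ((mem_latImg Φ).2 ⟨x, hx, rfl⟩)
  | zero => rw [iterate_zero']; exact Submodule.zero_mem _
  | add x y _ _ ihx ihy => rw [iterate_add']; exact Submodule.add_mem _ ihx ihy
  | smul c x _ ihx =>
    have h1 := (Isoc.iter Φ n).map_smulₛₗ c x
    rw [Isoc.coe_iter] at h1
    rw [h1]
    exact Submodule.smul_mem _ _ ihx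

theorem latImg_isLattice (hΦ : Isoc.IsIsoc Φ) {M : Submodule (WittVector p k) N}
    (hM : M.IsLattice K(p, k)) (n : ℕ) : (Isoc.latImg Φ n M).IsLattice K(p, k) :=
  ⟨latImg_fg Φ n hM.fg, span_latImg_eq_top Φ hΦ.bijective.2 hM.span_eq_top n⟩

theorem iterate_mem_of_stable {M : Submodule (WittVector p k) N} (hst : Isoc.latImg Φ 1 M ≤ M)
    {x : N} (hx : x ∈ M) (n : ℕ) : (⇑Φ)^[n] x ∈ M :=
  latImg_le_of_stable Φ hst n ((mem_latImg Φ).2 ⟨x, hx, rfl⟩)

theorem iterate_mem_pPow_of_stable {M : Submodule (WittVector p k) N}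
    (hst : Isoc.latImg Φ 1 M ≤ M) {x : N} {j : ℤ} (hx : x ∈ Isoc.pPow j M) (n : ℕ) :
    (⇑Φ)^[n] x ∈ Isoc.pPow j M := by
  have h1 : (⇑Φ)^[n] x ∈ Isoc.latImg Φ n (Isoc.pPow j M) := (mem_latImg Φ).2 ⟨x, hx, rfl⟩
  rw [latImg_pPow] at h1
  exact pPow_mono j (latImg_le_of_stable Φ hst n) h1

theorem iterate_mem_pPow_of_le {M : Submodule (WittVector p k) N}
    (hst : Isoc.latImg Φ 1 M ≤ M) {x : N} {j : ℤ} {n₀ n : ℕ} (hn : n₀ ≤ n)
    (hx : (⇑Φ)^[n₀] x ∈ Isoc.pPow j M) : (⇑Φ)^[n] x ∈ Isoc.pPow j M := by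
  obtain ⟨d, rfl⟩ := Nat.exists_eq_add_of_le hn
  rw [Nat.add_comm, Function.iterate_add_apply]
  exact iterate_mem_pPow_of_stable Φ hst hx d

theorem iterate_sub' (n : ℕ) (x y : N) : (⇑Φ)^[n] (x - y) = (⇑Φ)^[n] x - (⇑Φ)^[n] y :=
  (Isoc.iter Φ n).map_sub x y

/-- the part of `M` on which `Φ` is bijective: `⋂ Φ^n M`. -/
def bijPart (M : Submodule (WittVector p k) N) : Submodule (WittVector p k) N :=
  ⨅ n : ℕ, Isoc.latImg Φ n M

theorem mem_bijPart {M : Submodule (WittVector p k) N} {x : N} :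
    x ∈ bijPart Φ M ↔ ∀ n, x ∈ Isoc.latImg Φ n M := Submodule.mem_iInf _

theorem bijPart_le (M : Submodule (WittVector p k) N) : bijPart Φ M ≤ M :=
  (iInf_le _ 0).trans (latImg_zero Φ M).le

theorem latImg_one_bijPart (hinj : Function.Injective Φ) {M : Submodule (WittVector p k) N}
    (hst : Isoc.latImg Φ 1 M ≤ M) : Isoc.latImg Φ 1 (bijPart Φ M) = bijPart Φ M := by
  apply le_antisymm
  · intro y hy
    obtain ⟨x, hx, rfl⟩ := (mem_latImg Φ).1 hy
    rw [mem_bijPart] at hx ⊢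
    intro n
    have h1 : (⇑Φ)^[1] x ∈ Isoc.latImg Φ 1 (Isoc.latImg Φ n M) := (mem_latImg Φ).2 ⟨x, hx n, rfl⟩
    rw [← latImg_add] at h1
    exact latImg_antitone_of_stable Φ hst (by omega) h1
  · intro y hy
    rw [mem_bijPart] at hy
    obtain ⟨x₀, hx₀, hx₀y⟩ := (mem_latImg Φ).1 (hy 1)
    refine (mem_latImg Φ).2 ⟨x₀, ?_, hx₀y⟩
    rw [mem_bijPart]
    intro n
    have h1 := hy (1 + n)
    rw [latImg_add] at h1
    obtain ⟨z, hz, hzy⟩ := (mem_latImg Φ).1 h1
    have h2 : z = x₀ := by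
      apply hinj
      have e1 : (⇑Φ)^[1] z = Φ z := rfl
      have e2 : (⇑Φ)^[1] x₀ = Φ x₀ := rfl
      rw [← e1, ← e2, hzy, hx₀y]
    rw [← h2]; exact hz

theorem latImg_bijPart (hinj : Function.Injective Φ) {M : Submodule (WittVector p k) N}
    (hst : Isoc.latImg Φ 1 M ≤ M) (n : ℕ) : Isoc.latImg Φ n (bijPart Φ M) = bijPart Φ M := by
  induction n with
  | zero => exact latImg_zero Φ _
  | succ n ih => rw [latImg_add, latImg_one_bijPart Φ hinj hst, ih]

/-- the stable image modulo `p^j`. -/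
def stabImg (M : Submodule (WittVector p k) N) (j : ℕ) : Submodule (WittVector p k) N :=
  ⨅ n : ℕ, (Isoc.latImg Φ n M ⊔ Isoc.pPow (j : ℤ) M)

theorem exists_stabImg_eq (hfin : Module.Finite K(p, k) N) {M : Submodule (WittVector p k) N}
    (hst : Isoc.latImg Φ 1 M ≤ M) (j : ℕ) :
    ∃ n₀, ∀ n, n₀ ≤ n → Isoc.latImg Φ n M ⊔ Isoc.pPow (j : ℤ) M = stabImg Φ M j := by
  have hanti : Antitone (fun n : ℕ => Isoc.latImg Φ n M ⊔ Isoc.pPow (j : ℤ) M) :=
    fun m n hmn => sup_le_sup_right (latImg_antitone_of_stable Φ hst hmn) _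
  obtain ⟨n₀, hn₀⟩ := exists_stable_of_antitone hfin j M
    (fun n : ℕ => Isoc.latImg Φ n M ⊔ Isoc.pPow (j : ℤ) M) hanti
    (fun n => sup_le (latImg_le_of_stable Φ hst n) (pPow_natCast_le j M)) (fun n => le_sup_right)
  refine ⟨n₀, fun n hn => ?_⟩
  apply le_antisymm
  · apply le_iInf
    intro m
    rcases le_total m n with hmn | hmn
    · exact hanti hmn
    · rw [hn₀ n hn, ← hn₀ m (hn.trans hmn)]
  · exact iInf_le _ n

theorem pPow_le_stabImg (M : Submodule (WittVector p k) N) (j : ℕ) :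
    Isoc.pPow (j : ℤ) M ≤ stabImg Φ M j := le_iInf (fun _ => le_sup_right)

theorem bijPart_le_stabImg (M : Submodule (WittVector p k) N) (j : ℕ) :
    bijPart Φ M ≤ stabImg Φ M j := iInf_mono (fun _ => le_sup_left)

theorem stabImg_le_succ (hfin : Module.Finite K(p, k) N) {M : Submodule (WittVector p k) N}
    (hst : Isoc.latImg Φ 1 M ≤ M) (j : ℕ) :
    stabImg Φ M j ≤ stabImg Φ M (j + 1) ⊔ Isoc.pPow (j : ℤ) M := by
  obtain ⟨n₁, hn₁⟩ := exists_stabImg_eq Φ hfin hst j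
  obtain ⟨n₂, hn₂⟩ := exists_stabImg_eq Φ hfin hst (j + 1)
  rw [← hn₁ (max n₁ n₂) (le_max_left _ _), ← hn₂ (max n₁ n₂) (le_max_right _ _)]
  exact sup_le_sup_right le_sup_left _

end Fitting

section Fitting2

variable {a : ℤ} (Φ : N →ₛₗ[Isoc.frob p k a] N)

theorem stabImg_le {M : Submodule (WittVector p k) N} (j : ℕ) : stabImg Φ M j ≤ M := by
  refine (iInf_le _ 0).trans ?_
  rw [latImg_zero]
  exact sup_le le_rfl (pPow_natCast_le j M)

/-- every element of the stable image modulo `p^j` is congruent modulo `p^j M` to an element of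
`⋂ Φ^n M` (this uses `p`-adic completeness). -/
theorem exists_bijPart_approx (hΦ : Isoc.IsIsoc Φ) {M : Submodule (WittVector p k) N}
    (hM : M.IsLattice K(p, k)) (hst : Isoc.latImg Φ 1 M ≤ M) (j : ℕ) {x : N}
    (hx : x ∈ stabImg Φ M j) : ∃ m₀ ∈ bijPart Φ M, x - m₀ ∈ Isoc.pPow (j : ℤ) M := by
  classical
  have hfin := hΦ.finite
  have hstep : ∀ (i : ℕ) (y : N), y ∈ stabImg Φ M i →
      ∃ y' ∈ stabImg Φ M (i + 1), y' - y ∈ Isoc.pPow (i : ℤ) M := by
    intro i y hy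
    obtain ⟨y', hy', z, hz, rfl⟩ := Submodule.mem_sup.1 (stabImg_le_succ Φ hfin hst i hy)
    refine ⟨y', hy', ?_⟩
    have : y' - (y' + z) = -z := by abel
    rw [this]
    exact Submodule.neg_mem _ hz
  choose nxt hnxt1 hnxt2 using hstep
  let t : (i : ℕ) → {y : N // y ∈ stabImg Φ M (j + i)} := fun i =>
    Nat.rec (motive := fun i => {y : N // y ∈ stabImg Φ M (j + i)}) ⟨x, hx⟩
      (fun i ti => ⟨nxt (j + i) ti.1 ti.2, hnxt1 (j + i) ti.1 ti.2⟩) i
  have ht0 : (t 0).1 = x := rfl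
  have htsucc : ∀ i, (t (i + 1)).1 = nxt (j + i) (t i).1 (t i).2 := fun i => rfl
  obtain ⟨y, hyM, hy⟩ := exists_limit_shift hfin hM j (fun i => (t i).1)
    (fun i => stabImg_le Φ _ (t i).2) (by
      intro i
      simp only [htsucc]
      exact hnxt2 (j + i) (t i).1 (t i).2)
  have hystab : ∀ i, y ∈ stabImg Φ M (j + i) := by
    intro i
    have h1 : y = (t i).1 + (y - (t i).1) := by abel
    rw [h1]
    exact Submodule.add_mem _ (t i).2 (pPow_le_stabImg Φ M (j + i) (hy i))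
  refine ⟨y, ?_, ?_⟩
  · rw [mem_bijPart]
    intro n
    obtain ⟨c, hc⟩ := exists_pPow_le (p := p) (k := k) hM.fg
      (span_latImg_eq_top Φ hΦ.bijective.2 hM.span_eq_top n)
    obtain ⟨n₀, hn₀⟩ := exists_stabImg_eq Φ hfin hst (j + c)
    have h1 := hystab c
    rw [← hn₀ (max n n₀) (le_max_right _ _)] at h1
    refine (sup_le (latImg_antitone_of_stable Φ hst (le_max_left n n₀)) ?_) h1
    exact (pPow_le_of_le (by push_cast; omega) M).trans hc
  · have h1 := hy 0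
    simp only [ht0, Nat.add_zero] at h1
    have : x - y = -(y - x) := by abel
    rw [this]
    exact Submodule.neg_mem _ h1

/-- Fitting decomposition modulo `p^j`. -/
theorem exists_bijPart_sub_nil (hΦ : Isoc.IsIsoc Φ) {M : Submodule (WittVector p k) N}
    (hM : M.IsLattice K(p, k)) (hst : Isoc.latImg Φ 1 M ≤ M) (j : ℕ) {x : N} (hx : x ∈ M) :
    ∃ m₀ ∈ bijPart Φ M, ∃ n : ℕ, (⇑Φ)^[n] (x - m₀) ∈ Isoc.pPow (j : ℤ) M := by
  have hfin := hΦ.finite
  obtain ⟨n, hn⟩ := exists_stabImg_eq Φ hfin hst j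
  have h1 : (⇑Φ)^[n] x ∈ Isoc.latImg Φ (n + n) M ⊔ Isoc.pPow (j : ℤ) M := by
    rw [hn (n + n) (by omega), ← hn n le_rfl]
    exact Submodule.mem_sup_left ((mem_latImg Φ).2 ⟨x, hx, rfl⟩)
  obtain ⟨y2, hy2, z, hz, hyz⟩ := Submodule.mem_sup.1 h1
  obtain ⟨m, hm, rfl⟩ := (mem_latImg Φ).1 hy2
  rw [Function.iterate_add_apply] at hyz
  -- y := Φ^n m
  have hy : (⇑Φ)^[n] m ∈ stabImg Φ M j := by
    rw [← hn n le_rfl]
    exact Submodule.mem_sup_left ((mem_latImg Φ).2 ⟨m, hm, rfl⟩)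
  obtain ⟨m₀, hm₀, hm₀y⟩ := exists_bijPart_approx Φ hΦ hM hst j hy
  refine ⟨m₀, hm₀, n, ?_⟩
  have h2 : x - m₀ = (x - (⇑Φ)^[n] m) + ((⇑Φ)^[n] m - m₀) := by abel
  rw [h2, iterate_add', iterate_sub', ← hyz]
  refine Submodule.add_mem _ ?_ (iterate_mem_pPow_of_stable Φ hst hm₀y n)
  have : (⇑Φ)^[n] ((⇑Φ)^[n] m) + z - (⇑Φ)^[n] ((⇑Φ)^[n] m) = z := by abel
  rw [this]
  exact hz

end Fitting2

section Fitting3

variable {a : ℤ} (Φ : N →ₛₗ[Isoc.frob p k a] N)

theorem latImg_inf_le (n : ℕ) (X Y : Submodule (WittVector p k) N) :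
    Isoc.latImg Φ n (X ⊓ Y) ≤ Isoc.latImg Φ n X ⊓ Isoc.latImg Φ n Y :=
  le_inf (latImg_mono Φ n inf_le_left) (latImg_mono Φ n inf_le_right)

/-- on `⋂ Φ^n M` the map `Φ` does not increase divisibility: if `w ∈ ⋂ Φ^n M` and
`Φ^n w ∈ p^j M` then `w ∈ p^j M`. -/
theorem mem_pPow_of_iterate_mem (hΦ : Isoc.IsIsoc Φ) {M : Submodule (WittVector p k) N}
    (hst : Isoc.latImg Φ 1 M ≤ M) (j : ℕ) {w : N} (hw : w ∈ bijPart Φ M) {n : ℕ}
    (hn : (⇑Φ)^[n] w ∈ Isoc.pPow (j : ℤ) M) : w ∈ Isoc.pPow (j : ℤ) M := by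
  have hfin := hΦ.finite
  have hinj := hΦ.bijective.1
  set M₀ := bijPart Φ M with hM₀
  set Y := Isoc.pPow (j : ℤ) M ⊓ M₀ with hY
  have hM₀eq : ∀ m, Isoc.latImg Φ m M₀ = M₀ := latImg_bijPart Φ hinj hst
  have hYst : Isoc.latImg Φ 1 Y ≤ Y := by
    refine (latImg_inf_le Φ 1 _ _).trans (inf_le_inf ?_ (hM₀eq 1).le)
    rw [latImg_pPow]
    exact pPow_mono _ hst
  have hpM₀Y : Isoc.pPow (j : ℤ) M₀ ≤ Y :=
    le_inf (pPow_mono _ (bijPart_le Φ M)) (pPow_natCast_le j M₀)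
  -- DCC
  have hanti : Antitone (fun m : ℕ => Isoc.latImg Φ m Y ⊔ Isoc.pPow (j : ℤ) M₀) :=
    fun m n hmn => sup_le_sup_right (latImg_antitone_of_stable Φ hYst hmn) _
  obtain ⟨n₀, hn₀⟩ := exists_stable_of_antitone hfin j M₀
    (fun m : ℕ => Isoc.latImg Φ m Y ⊔ Isoc.pPow (j : ℤ) M₀) hanti
    (fun m => sup_le ((latImg_mono Φ m inf_le_right).trans (hM₀eq m).le) (pPow_natCast_le j M₀))
    (fun m => le_sup_right)
  have h1 : Isoc.latImg Φ n₀ Y ≤ Isoc.latImg Φ (n₀ + 1) Y := by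
    have h2 := hn₀ (n₀ + 1) (Nat.le_succ _)
    have h3 : Isoc.latImg Φ (n₀ + 1) Y ⊔ Isoc.pPow (j : ℤ) M₀ = Isoc.latImg Φ (n₀ + 1) Y := by
      apply sup_eq_left.2
      have h4 : Isoc.pPow (j : ℤ) M₀ = Isoc.latImg Φ (n₀ + 1) (Isoc.pPow (j : ℤ) M₀) := by
        rw [latImg_pPow, hM₀eq]
      rw [h4]
      exact latImg_mono Φ _ hpM₀Y
    rw [h3] at h2
    rw [h2]
    exact le_sup_left
  have hYeq : Y ≤ Isoc.latImg Φ 1 Y := by
    intro y hy
    have h2 : (⇑Φ)^[n₀] y ∈ Isoc.latImg Φ (n₀ + 1) Y := h1 ((mem_latImg Φ).2 ⟨y, hy, rfl⟩)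
    rw [latImg_add] at h2
    exact mem_of_iterate_mem_latImg Φ hinj h2
  have hYeq' : Isoc.latImg Φ 1 Y = Y := le_antisymm hYst hYeq
  have hYn : ∀ m, Isoc.latImg Φ m Y = Y := by
    intro m
    induction m with
    | zero => exact latImg_zero Φ _
    | succ m ih => rw [latImg_add, hYeq', ih]
  have h5 : (⇑Φ)^[n] w ∈ Y := by
    refine ⟨hn, ?_⟩
    have h6 : (⇑Φ)^[n] w ∈ Isoc.latImg Φ n M₀ := (mem_latImg Φ).2 ⟨w, hw, rfl⟩
    rwa [hM₀eq n] at h6
  rw [← hYn n] at h5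
  exact (mem_of_iterate_mem_latImg Φ hinj h5).1

/-- the topologically nilpotent part of `M`. -/
def nilPart (M : Submodule (WittVector p k) N) : Submodule (WittVector p k) N where
  carrier := {x | x ∈ M ∧ ∀ j : ℕ, ∃ n₀ : ℕ, ∀ n, n₀ ≤ n → (⇑Φ)^[n] x ∈ Isoc.pPow (j : ℤ) M}
  add_mem' := by
    rintro x y ⟨hx, hx'⟩ ⟨hy, hy'⟩
    refine ⟨M.add_mem hx hy, fun j => ?_⟩
    obtain ⟨n₁, hn₁⟩ := hx' j
    obtain ⟨n₂, hn₂⟩ := hy' j
    refine ⟨max n₁ n₂, fun n hn => ?_⟩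
    rw [iterate_add']
    exact Submodule.add_mem _ (hn₁ n (le_trans (le_max_left _ _) hn))
      (hn₂ n (le_trans (le_max_right _ _) hn))
  zero_mem' := ⟨M.zero_mem, fun j => ⟨0, fun n _ => by
    rw [iterate_zero']; exact Submodule.zero_mem _⟩⟩
  smul_mem' := by
    rintro c x ⟨hx, hx'⟩
    refine ⟨M.smul_mem c hx, fun j => ?_⟩
    obtain ⟨n₁, hn₁⟩ := hx' j
    refine ⟨n₁, fun n hn => ?_⟩
    rw [iterate_smul_W]
    exact Submodule.smul_mem _ _ (hn₁ n hn)

theorem mem_nilPart {M : Submodule (WittVector p k) N} {x : N} :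
    x ∈ nilPart Φ M ↔
      x ∈ M ∧ ∀ j : ℕ, ∃ n₀ : ℕ, ∀ n, n₀ ≤ n → (⇑Φ)^[n] x ∈ Isoc.pPow (j : ℤ) M := Iff.rfl

theorem nilPart_le (M : Submodule (WittVector p k) N) : nilPart Φ M ≤ M := fun _ hx => hx.1

theorem eq_zero_of_forall_mem_pPow {M : Submodule (WittVector p k) N} (hM : M.FG) {x : N}
    (hx : ∀ j : ℕ, x ∈ Isoc.pPow (j : ℤ) M) : x = 0 := by
  have h1 : Submodule.span (WittVector p k) {x} = ⊥ := by
    apply eq_bot_of_forall_le_pPow (p := p) (k := k) hM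
    intro n
    rw [Submodule.span_singleton_le_iff_mem]
    exact hx n
  rw [Submodule.span_singleton_eq_bot] at h1
  exact h1

theorem bijPart_inf_nilPart (hΦ : Isoc.IsIsoc Φ) {M : Submodule (WittVector p k) N}
    (hM : M.IsLattice K(p, k)) (hst : Isoc.latImg Φ 1 M ≤ M) :
    bijPart Φ M ⊓ nilPart Φ M = ⊥ := by
  rw [eq_bot_iff]
  rintro x ⟨hx0, hx1⟩
  rw [Submodule.mem_bot]
  apply eq_zero_of_forall_mem_pPow hM.fg
  intro j
  obtain ⟨n₀, hn₀⟩ := hx1.2 j
  exact mem_pPow_of_iterate_mem Φ hΦ hst j hx0 (hn₀ n₀ le_rfl)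

/-- The Fitting decomposition: `M = ⋂ Φ^n M + nilPart`. -/
theorem bijPart_sup_nilPart (hΦ : Isoc.IsIsoc Φ) {M : Submodule (WittVector p k) N}
    (hM : M.IsLattice K(p, k)) (hst : Isoc.latImg Φ 1 M ≤ M) :
    bijPart Φ M ⊔ nilPart Φ M = M := by
  classical
  have hfin := hΦ.finite
  apply le_antisymm (sup_le (bijPart_le Φ M) (nilPart_le Φ M))
  intro x hx
  have hex := fun j : ℕ => exists_bijPart_sub_nil Φ hΦ hM hst j hx
  choose m hm nn hnn using hex
  have hmM : ∀ j, m j ∈ M := fun j => bijPart_le Φ M (hm j)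
  have hcau : ∀ j : ℕ, m (j + 1) - m j ∈ Isoc.pPow (j : ℤ) M := by
    intro j
    have hw : m (j + 1) - m j ∈ bijPart Φ M := Submodule.sub_mem _ (hm (j + 1)) (hm j)
    apply mem_pPow_of_iterate_mem Φ hΦ hst j hw (n := max (nn j) (nn (j + 1)))
    have e1 : m (j + 1) - m j = (x - m j) - (x - m (j + 1)) := by abel
    rw [e1, iterate_sub']
    refine Submodule.sub_mem _ (iterate_mem_pPow_of_le Φ hst (le_max_left _ _) (hnn j)) ?_
    have h1 := iterate_mem_pPow_of_le Φ hst (le_max_right (nn j) (nn (j + 1))) (hnn (j + 1))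
    exact pPow_le_of_le (by push_cast; omega) M h1
  obtain ⟨y, hyM, hy⟩ := exists_limit hfin hM m hmM hcau
  have hy0 : y ∈ bijPart Φ M := by
    rw [mem_bijPart]
    intro n
    obtain ⟨c, hc⟩ := exists_pPow_le (p := p) (k := k) hM.fg
      (span_latImg_eq_top Φ hΦ.bijective.2 hM.span_eq_top n)
    have h1 : y = m c + (y - m c) := by abel
    rw [h1]
    exact Submodule.add_mem _ (mem_bijPart Φ |>.1 (hm c) n) (hc (hy c))
  have hxy : x - y ∈ nilPart Φ M := by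
    refine ⟨M.sub_mem hx hyM, fun j => ⟨nn j, fun n hn => ?_⟩⟩
    have e1 : x - y = (x - m j) - (y - m j) := by abel
    rw [e1, iterate_sub']
    exact Submodule.sub_mem _ (iterate_mem_pPow_of_le Φ hst hn (hnn j))
      (iterate_mem_pPow_of_stable Φ hst (hy j) n)
  have e2 : x = y + (x - y) := by abel
  rw [e2]
  exact Submodule.add_mem_sup hy0 hxy

theorem latImg_one_nilPart_le {M : Submodule (WittVector p k) N}
    (hst : Isoc.latImg Φ 1 M ≤ M) : Isoc.latImg Φ 1 (nilPart Φ M) ≤ nilPart Φ M := by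
  intro y hy
  obtain ⟨x, hx, rfl⟩ := (mem_latImg Φ).1 hy
  refine ⟨iterate_mem_of_stable Φ hst hx.1 1, fun j => ?_⟩
  obtain ⟨n₀, hn₀⟩ := hx.2 j
  refine ⟨n₀, fun n hn => ?_⟩
  rw [← Function.iterate_add_apply]
  exact hn₀ (n + 1) (by omega)

/-- some power of `Φ` maps the nilpotent part into `p` times itself. -/
theorem exists_latImg_nilPart_le (hΦ : Isoc.IsIsoc Φ) {M : Submodule (WittVector p k) N}
    (hM : M.IsLattice K(p, k)) (hst : Isoc.latImg Φ 1 M ≤ M) :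
    ∃ n : ℕ, 1 ≤ n ∧ Isoc.latImg Φ n (nilPart Φ M) ≤ Isoc.pPow 1 (nilPart Φ M) := by
  classical
  have hnoeth : IsNoetherian (WittVector p k) M := isNoetherian_of_fg_of_noetherian M hM.fg
  have hfg : (nilPart Φ M).FG := by
    have h1 : (Submodule.comap M.subtype (nilPart Φ M)).FG := IsNoetherian.noetherian _
    have h2 := h1.map M.subtype
    rwa [Submodule.map_comap_subtype, inf_eq_right.2 (nilPart_le Φ M)] at h2
  obtain ⟨S, hS⟩ := hfg
  -- for each generator a bound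
  have hgen : ∀ g ∈ nilPart Φ M, ∃ n₀ : ℕ, ∀ n, n₀ ≤ n →
      (⇑Φ)^[n] g ∈ Isoc.pPow 1 (nilPart Φ M) := by
    intro g hg
    obtain ⟨n₀, hn₀⟩ := hg.2 1
    refine ⟨n₀, fun n hn => ?_⟩
    have h1 := hn₀ n hn
    rw [Nat.cast_one] at h1
    rw [mem_pPow] at h1 ⊢
    obtain ⟨y, hyM, hy⟩ := h1
    refine ⟨y, ⟨hyM, fun j => ?_⟩, hy⟩
    obtain ⟨n₁, hn₁⟩ := hg.2 (j + 1)
    refine ⟨n₁, fun n' hn' => ?_⟩
    -- Φ^n' y = p^{-1} Φ^(n'+n) g
    have h2 : (⇑Φ)^[n'] ((⇑Φ)^[n] g) ∈ Isoc.pPow ((j + 1 : ℕ) : ℤ) M := by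
      rw [← Function.iterate_add_apply]
      exact hn₁ (n' + n) (by omega)
    rw [← hy, iterate_smul_pPow, mem_pPow] at h2
    obtain ⟨z, hzM, hz⟩ := h2
    rw [mem_pPow]
    refine ⟨z, hzM, ?_⟩
    have hp1 : ((p : K(p, k)) ^ (1 : ℤ)) ≠ 0 := zpow_ne_zero _ p_ne_zero
    apply smul_right_injective N hp1
    simp only
    rw [← hz, smul_smul, ← zpow_add₀ p_ne_zero]
    congr 2
    push_cast; ring
  choose! f hf using hgen
  refine ⟨S.sup f + 1, by omega, ?_⟩
  rw [← hS, latImg_span, Submodule.span_le]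
  rintro _ ⟨g, hg, rfl⟩
  have hgm : g ∈ nilPart Φ M := hS ▸ Submodule.subset_span hg
  rw [hS]
  exact hf g hgm _ (le_trans (Finset.le_sup (Finset.mem_coe.1 hg)) (Nat.le_succ _))

end Fitting3

end Groth.Agent.Lib.helper24.IsocLib

end
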