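import Groth.Agent.Lib.Helper24.IsocDecomp

/-!
Additivity of Newton multiplicities along a splitting `N = N₀ ⊕ N₁` with `N₀` isoclinic (helper24).
-/

set_option autoImplicit false
set_option linter.unusedSectionVars false

noncomputable section

open scoped Pointwise Isocrystal

universe u v w

namespace Groth.Agent.Lib.helper24.IsocLib

/-- In a modular lattice: a family below an independent family with supremum `⊤` is equal to it. -/
theorem eq_of_le_of_iSup_eq_top {ι : Type*} {α : Type*} [CompleteLattice α] [IsModularLattice α]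
    {S T : ι → α} (hS : iSupIndep S) (hle : ∀ i, T i ≤ S i) (htop : ⨆ i, T i = ⊤) (i : ι) :
    T i = S i := by
  apply le_antisymm (hle i)
  have h1 : S i = (T i ⊔ ⨆ (j) (_ : j ≠ i), T j) ⊓ S i := by
    rw [← iSup_split_single, htop, top_inf_eq]
  have h2 : (⨆ (j) (_ : j ≠ i), T j) ⊓ S i = ⊥ := by
    have h3 : (⨆ (j) (_ : j ≠ i), T j) ≤ ⨆ (j) (_ : j ≠ i), S j :=
      iSup₂_mono (fun j _ => hle j)
    have h4 := (hS i).mono_right h3
    rw [inf_comm]
    exact disjoint_iff.1 h4
  rw [h1, sup_inf_assoc_of_le _ (hle i), h2, sup_bot_eq]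

variable {p : ℕ} [Fact p.Prime] {k : Type u} [Field k] [CharP k p] [PerfectRing k p]
variable {N : Type v} [AddCommGroup N] [Module (WittVector p k) N] [Module K(p, k) N]
  [IsScalarTower (WittVector p k) K(p, k) N]
variable {a : ℤ} {F : N →ₛₗ[Isoc.frob p k a] N}

/-- the slope part of a stable subspace maps into the slope part. -/
theorem map_slopePart_restrict_le (hF : Isoc.IsIsoc F) {P : Submodule K(p, k) N}
    (hP : ∀ x ∈ P, F x ∈ P) (μ : ℚ) :
    (Isoc.slopePart (F.restrict hP) μ).map P.subtype ≤ Isoc.slopePart F μ := by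
  have hF₁ := isIsoc_restrict hF hP
  obtain ⟨hst, hiso'⟩ := slopePart_stable_isoIn hF₁ μ
  refine le_slopePart ?_ (hiso'.map (F' := F) P.subtype (fun x => rfl))
  rintro _ ⟨x, hx, rfl⟩
  exact ⟨(F.restrict hP) x, hst x hx, rfl⟩

/-- Newton multiplicities along a splitting with isoclinic first summand. -/
theorem newtonMult_split (hF : Isoc.IsIsoc F) {N₀ N₁ : Submodule K(p, k) N}
    (h₀ : ∀ x ∈ N₀, F x ∈ N₀) (h₁ : ∀ x ∈ N₁, F x ∈ N₁) (hsup : N₀ ⊔ N₁ = ⊤)
    (hinf : N₀ ⊓ N₁ = ⊥) {μ₀ : ℚ} (hiso : IsoIn F N₀ μ₀) (μ : ℚ) :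
    Isoc.newtonMult F μ = Isoc.newtonMult (F.restrict h₁) μ +
      (if μ = μ₀ then Module.finrank K(p, k) N₀ else 0) := by
  classical
  have hfin : Module.Finite K(p, k) N := hF.finite
  have hF₁ := isIsoc_restrict hF h₁
  set T : ℚ → Submodule K(p, k) N := fun ν =>
    (Isoc.slopePart (F.restrict h₁) ν).map N₁.subtype ⊔ (if ν = μ₀ then N₀ else ⊥) with hT
  have hle : ∀ ν, T ν ≤ Isoc.slopePart F ν := by
    intro ν
    refine sup_le (map_slopePart_restrict_le hF h₁ ν) ?_
    split_ifs with h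
    · subst h; exact le_slopePart h₀ hiso
    · exact bot_le
  have htop : ⨆ ν, T ν = ⊤ := by
    rw [eq_top_iff, ← hsup]
    refine sup_le ?_ ?_
    · refine le_trans ?_ (le_iSup T μ₀)
      have : T μ₀ = (Isoc.slopePart (F.restrict h₁) μ₀).map N₁.subtype ⊔ N₀ := by
        simp only [hT, if_true]
      rw [this]
      exact le_sup_right
    · have h1 := iSup_slopePart_eq_top_aux a _ ↥N₁ (F.restrict h₁) hF₁ rfl
      have h2 : N₁ = (⨆ ν : ℚ, Isoc.slopePart (F.restrict h₁) ν).map N₁.subtype := by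
        rw [h1, Submodule.map_subtype_top]
      rw [h2, Submodule.map_iSup]
      exact iSup_mono (fun ν => le_sup_left)
  have heq := eq_of_le_of_iSup_eq_top (iSupIndep_slopePart hF) hle htop μ
  unfold Isoc.newtonMult
  rw [← heq]
  by_cases h : μ = μ₀
  · have hTμ : T μ = (Isoc.slopePart (F.restrict h₁) μ).map N₁.subtype ⊔ N₀ := by
      simp only [hT, if_pos h]
    rw [if_pos h, hTμ]
    have hdisj : (Isoc.slopePart (F.restrict h₁) μ).map N₁.subtype ⊓ N₀ = ⊥ := by
      rw [eq_bot_iff, ← hinf]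
      exact le_inf inf_le_right (inf_le_left.trans (Submodule.map_subtype_le _ _))
    have hrank := Submodule.finrank_sup_add_finrank_inf_eq
      ((Isoc.slopePart (F.restrict h₁) μ).map N₁.subtype) N₀
    rw [hdisj, finrank_bot, add_zero] at hrank
    rw [hrank, Submodule.finrank_map_subtype_eq]
  · have hTμ : T μ = (Isoc.slopePart (F.restrict h₁) μ).map N₁.subtype := by
      simp only [hT, if_neg h, sup_bot_eq]
    rw [if_neg h, hTμ, add_zero, Submodule.finrank_map_subtype_eq]

/-- the set of slopes is finite. -/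
theorem finite_slopes (hF : Isoc.IsIsoc F) : {μ : ℚ | Isoc.newtonMult F μ ≠ 0}.Finite := by
  have hfin : Module.Finite K(p, k) N := hF.finite
  have h1 := WellFoundedGT.finite_ne_bot_of_iSupIndep (iSupIndep_slopePart hF)
  refine h1.subset ?_
  intro μ hμ h0
  apply hμ
  unfold Isoc.newtonMult
  rw [h0, finrank_bot]

/-- Newton multiplicities of an isoclinic isocrystal. -/
theorem newtonMult_of_isIsoclinic (hF : Isoc.IsIsoc F) {μ₀ : ℚ} (hiso : Isoc.IsIsoclinic F μ₀)
    (μ : ℚ) : Isoc.newtonMult F μ = if μ = μ₀ then Module.finrank K(p, k) N else 0 := by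
  have hfin : Module.Finite K(p, k) N := hF.finite
  have htop : ∀ x ∈ (⊤ : Submodule K(p, k) N), F x ∈ (⊤ : Submodule K(p, k) N) :=
    fun _ _ => Submodule.mem_top
  have hisoT : IsoIn F ⊤ μ₀ := by
    obtain ⟨M, hM, r, s, hs, hμ, heq⟩ := hiso
    exact ⟨M, hM.fg, hM.span_eq_top, r, s, hs, hμ, heq⟩
  unfold Isoc.newtonMult
  split_ifs with h
  · subst h
    have h1 : Isoc.slopePart F μ = ⊤ := eq_top_iff.2 (le_slopePart htop hisoT)
    rw [h1, finrank_top]
  · obtain ⟨hst, hiso'⟩ := slopePart_stable_isoIn hF μ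
    have h2 : IsoIn F (Isoc.slopePart F μ) μ₀ := hisoT.sub hF htop hst le_top
    have h3 := eq_bot_of_isoIn_of_ne hF hst hiso' h2 h
    rw [h3, finrank_bot]

end Groth.Agent.Lib.helper24.IsocLib

end
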