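import Groth.Agent.Lib.Helper24.IsocNewton
import Mathlib

/-!
The end point of the Newton polygon: `∑ μ · m_μ = orddet F` (helper24).
-/

set_option autoImplicit false
set_option linter.unusedSectionVars false

noncomputable section

open scoped Pointwise Isocrystal

universe u v w

namespace Groth.Agent.Lib.helper24.IsocLib

variable {p : ℕ} [Fact p.Prime] {k : Type u} [Field k] [CharP k p] [PerfectRing k p]
variable {N : Type v} [AddCommGroup N] [Module (WittVector p k) N] [Module K(p, k) N]
  [IsScalarTower (WittVector p k) K(p, k) N]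
variable {a : ℤ} (F : N →ₛₗ[Isoc.frob p k a] N)

theorem isOrdP_detCoeff_basis_indep {h : ℕ} (b b' : Module.Basis (Fin h) K(p, k) N) {d : ℤ}
    (hd : Isoc.IsOrdP (Isoc.detCoeff b F) d) : Isoc.IsOrdP (Isoc.detCoeff b' F) d := by
  classical
  have hch := congrArg Matrix.det (mat_change b F b')
  rw [Matrix.det_mul, Matrix.det_mul, ← detCoeff_eq_det_mat, ← detCoeff_eq_det_mat] at hch
  have hP : (b.toMatrix b').det ≠ 0 := by
    have h1 := congrArg Matrix.det (Module.Basis.toMatrix_mul_toMatrix_flip b b')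
    rw [Matrix.det_mul, Matrix.det_one] at h1
    exact left_ne_zero_of_mul_eq_one h1
  obtain ⟨q, hq⟩ := exists_isOrdP hP
  have h2 : ((b.toMatrix b').map (Isoc.frob p k a)).det = Isoc.frob p k a (b.toMatrix b').det := by
    rw [RingHom.map_det]; rfl
  rw [h2] at hch
  have h3 : Isoc.detCoeff b' F =
      (b.toMatrix b').det⁻¹ * (Isoc.detCoeff b F * Isoc.frob p k a (b.toMatrix b').det) := by
    rw [hch, ← mul_assoc, inv_mul_cancel₀ hP, one_mul]
  rw [h3]
  have h4 := isOrdP_mul (isOrdP_inv hq) (isOrdP_mul hd (isOrdP_frob hq a))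
  convert h4 using 1
  ring

theorem isOrdP_detCoeff_basis_indep' {h h' : ℕ} (b : Module.Basis (Fin h) K(p, k) N)
    (b' : Module.Basis (Fin h') K(p, k) N) {d : ℤ}
    (hd : Isoc.IsOrdP (Isoc.detCoeff b F) d) : Isoc.IsOrdP (Isoc.detCoeff b' F) d := by
  have hh : h = h' := by
    have h1 := Module.finrank_eq_card_basis b
    have h2 := Module.finrank_eq_card_basis b'
    rw [Fintype.card_fin] at h1 h2
    omega
  subst hh
  exact isOrdP_detCoeff_basis_indep F b b' hd

/-- block decomposition of the determinant coefficient. -/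
theorem exists_basis_detCoeff_mul {N₀ N₁ : Submodule K(p, k) N}
    (h₀ : ∀ x ∈ N₀, F x ∈ N₀) (h₁ : ∀ x ∈ N₁, F x ∈ N₁) (hc : IsCompl N₀ N₁) {n₀ n₁ : ℕ}
    (b₀ : Module.Basis (Fin n₀) K(p, k) N₀) (b₁ : Module.Basis (Fin n₁) K(p, k) N₁) :
    ∃ b' : Module.Basis (Fin (n₀ + n₁)) K(p, k) N,
      Isoc.detCoeff b' F = Isoc.detCoeff b₀ (F.restrict h₀) * Isoc.detCoeff b₁ (F.restrict h₁) := by
  classical
  set E := Submodule.prodEquivOfIsCompl N₀ N₁ hc with hE
  set bs : Module.Basis (Fin n₀ ⊕ Fin n₁) K(p, k) N := (b₀.prod b₁).map E with hbs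
  refine ⟨bs.reindex finSumFinEquiv, ?_⟩
  have hl : ∀ j, bs (Sum.inl j) = (b₀ j : N) := by
    intro j
    rw [hbs, Module.Basis.map_apply, hE, Submodule.coe_prodEquivOfIsCompl',
      Module.Basis.prod_apply_inl_fst, Module.Basis.prod_apply_inl_snd]
    simp
  have hr : ∀ j, bs (Sum.inr j) = (b₁ j : N) := by
    intro j
    rw [hbs, Module.Basis.map_apply, hE, Submodule.coe_prodEquivOfIsCompl',
      Module.Basis.prod_apply_inr_fst, Module.Basis.prod_apply_inr_snd]
    simp
  have hrepl : ∀ (y : N₀) (ii : Fin n₀ ⊕ Fin n₁), bs.repr (y : N) ii =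
      Sum.elim (fun i => b₀.repr y i) (fun _ => 0) ii := by
    intro y ii
    rw [hbs, Module.Basis.map_repr, LinearEquiv.trans_apply, hE,
      Submodule.prodEquivOfIsCompl_symm_apply_left]
    cases ii with
    | inl i => rw [Module.Basis.prod_repr_inl]; rfl
    | inr i => rw [Module.Basis.prod_repr_inr]; simp
  have hrepr : ∀ (y : N₁) (ii : Fin n₀ ⊕ Fin n₁), bs.repr (y : N) ii =
      Sum.elim (fun _ => 0) (fun i => b₁.repr y i) ii := by
    intro y ii
    rw [hbs, Module.Basis.map_repr, LinearEquiv.trans_apply, hE,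
      Submodule.prodEquivOfIsCompl_symm_apply_right]
    cases ii with
    | inl i => rw [Module.Basis.prod_repr_inl]; simp
    | inr i => rw [Module.Basis.prod_repr_inr]; rfl
  have hM : (Matrix.of fun ii jj => bs.repr (F (bs jj)) ii) =
      Matrix.fromBlocks (mat b₀ (F.restrict h₀)) 0 0 (mat b₁ (F.restrict h₁)) := by
    ext ii jj
    cases jj with
    | inl j =>
      have h1 : F (bs (Sum.inl j)) = (((F.restrict h₀) (b₀ j) : N₀) : N) := by rw [hl]; rfl
      rw [Matrix.of_apply, h1, hrepl]
      cases ii with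
      | inl i => rfl
      | inr i => rfl
    | inr j =>
      have h1 : F (bs (Sum.inr j)) = (((F.restrict h₁) (b₁ j) : N₁) : N) := by rw [hr]; rfl
      rw [Matrix.of_apply, h1, hrepr]
      cases ii with
      | inl i => rfl
      | inr i => rfl
  have hsub : (Matrix.of fun i j => (bs.reindex finSumFinEquiv).repr (F ((bs.reindex finSumFinEquiv) j)) i) =
      (Matrix.of fun ii jj => bs.repr (F (bs jj)) ii).submatrix finSumFinEquiv.symm
        finSumFinEquiv.symm := by
    ext i j
    rw [Matrix.submatrix_apply, Matrix.of_apply, Matrix.of_apply, Module.Basis.repr_reindex_apply,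
      Module.Basis.reindex_apply]
  unfold Isoc.detCoeff
  rw [hsub, Matrix.det_submatrix_equiv_self, hM, Matrix.det_fromBlocks_zero₂₁]
  rfl

theorem finsum_slopes_aux (a : ℤ) : ∀ (n : ℕ) (N : Type v) [AddCommGroup N]
    [Module (WittVector p k) N] [Module K(p, k) N] [IsScalarTower (WittVector p k) K(p, k) N]
    (F : N →ₛₗ[Isoc.frob p k a] N), Isoc.IsIsoc F → Module.finrank K(p, k) N = n →
    ∀ (h : ℕ) (b : Module.Basis (Fin h) K(p, k) N) (d : ℤ),
      Isoc.IsOrdP (Isoc.detCoeff b F) d →
      ∑ᶠ μ : ℚ, μ * (Isoc.newtonMult F μ : ℚ) = d := by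
  intro n
  induction n using Nat.strong_induction_on with
  | _ n ih =>
    intro N _ _ _ _ F hF hn h b d hd
    have hfin : Module.Finite K(p, k) N := hF.finite
    rcases subsingleton_or_nontrivial N with hsub | hnt
    · have h1 : ∀ μ : ℚ, Isoc.newtonMult F μ = 0 := by
        intro μ
        unfold Isoc.newtonMult
        exact Module.finrank_zero_of_subsingleton
      have h2 : h = 0 := by
        have h3 := Module.finrank_eq_card_basis b
        rw [Fintype.card_fin, Module.finrank_zero_of_subsingleton] at h3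
        exact h3.symm
      subst h2
      have h4 : Isoc.detCoeff b F = 1 := by
        unfold Isoc.detCoeff
        exact Matrix.det_isEmpty
      rw [h4] at hd
      have h5 := isOrdP_unique hd (isOrdP_one (p := p) (k := k))
      simp [h1, h5]
    · obtain ⟨μ₀, N₀, N₁, h₀, h₁, hsup, hinf, hne, hiso⟩ := exists_split hF
      have hrank := Submodule.finrank_sup_add_finrank_inf_eq N₀ N₁
      rw [hsup, hinf, finrank_top, finrank_bot, add_zero, hn] at hrank
      have hpos : 0 < Module.finrank K(p, k) N₀ := by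
        rcases Nat.eq_zero_or_pos (Module.finrank K(p, k) N₀) with h0 | h0
        · exact absurd (Submodule.finrank_eq_zero.1 h0) hne
        · exact h0
      have hlt : Module.finrank K(p, k) N₁ < n := by omega
      have hF₀ := isIsoc_restrict hF h₀
      have hF₁ := isIsoc_restrict hF h₁
      have hc : IsCompl N₀ N₁ := ⟨disjoint_iff.2 hinf, codisjoint_iff.2 hsup⟩
      set b₀ := Module.finBasis K(p, k) N₀ with hb₀
      set b₁ := Module.finBasis K(p, k) N₁ with hb₁
      have hiso₀ : Isoc.IsIsoclinic (F.restrict h₀) μ₀ :=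
        (isIsoclinic_restrict_iff_isoIn F h₀ μ₀).2 hiso
      obtain ⟨M, hM, r, s, hs, hμ, heq⟩ := hiso₀
      obtain ⟨d₀, hd₀, hrel⟩ := exists_isOrdP_detCoeff_of_latImg_eq b₀ (F.restrict h₀) hM hs heq
      obtain ⟨d₁, hd₁⟩ := exists_isOrdP (detCoeff_ne_zero_of_bijective b₁ (F.restrict h₁) hF₁.bijective)
      have hih := ih _ hlt ↥N₁ (F.restrict h₁) hF₁ rfl _ b₁ d₁ hd₁
      obtain ⟨b', hb'⟩ := exists_basis_detCoeff_mul F h₀ h₁ hc b₀ b₁
      have hd' : Isoc.IsOrdP (Isoc.detCoeff b' F) (d₀ + d₁) := by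
        rw [hb']; exact isOrdP_mul hd₀ hd₁
      have hdd : d = d₀ + d₁ := isOrdP_unique hd (isOrdP_detCoeff_basis_indep' F b' b hd')
      -- the sum
      have hfun : (fun μ : ℚ => μ * (Isoc.newtonMult F μ : ℚ)) = fun μ : ℚ =>
          μ * (Isoc.newtonMult (F.restrict h₁) μ : ℚ) +
            μ * ((if μ = μ₀ then Module.finrank K(p, k) N₀ else 0 : ℕ) : ℚ) := by
        funext μ
        rw [newtonMult_split hF h₀ h₁ hsup hinf hiso μ]
        push_cast
        ring
      have hsupp1 : (Function.support fun μ : ℚ =>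
          μ * (Isoc.newtonMult (F.restrict h₁) μ : ℚ)).Finite := by
        refine (finite_slopes hF₁).subset ?_
        intro μ hμ'
        rw [Function.mem_support] at hμ'
        show Isoc.newtonMult (F.restrict h₁) μ ≠ 0
        intro h0
        apply hμ'
        rw [h0]; simp
      have hsupp2 : (Function.support fun μ : ℚ =>
          μ * ((if μ = μ₀ then Module.finrank K(p, k) N₀ else 0 : ℕ) : ℚ)).Finite := by
        refine (Set.finite_singleton μ₀).subset ?_
        intro μ hμ'
        rw [Function.mem_support] at hμ'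
        by_contra hne'
        apply hμ'
        have hne'' : ¬ μ = μ₀ := hne'
        rw [if_neg hne'']; simp
      rw [hfun, finsum_add_distrib hsupp1 hsupp2, hih]
      have h6 : ∑ᶠ μ : ℚ, μ * ((if μ = μ₀ then Module.finrank K(p, k) N₀ else 0 : ℕ) : ℚ) =
          μ₀ * (Module.finrank K(p, k) N₀ : ℚ) := by
        rw [finsum_eq_single _ μ₀]
        · rw [if_pos rfl]
        · intro μ hμ'; rw [if_neg hμ']; simp
      rw [h6, hdd]
      have hs0 : (s : ℚ) ≠ 0 := by exact_mod_cast hs.ne'
      have hrelQ : (s : ℚ) * (d₀ : ℚ) = (Module.finrank K(p, k) N₀ : ℚ) * (r : ℚ) := by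
        exact_mod_cast hrel
      rw [← hμ]
      push_cast
      field_simp
      linarith

end Groth.Agent.Lib.helper24.IsocLib

end
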