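import Groth.Agent.Lib.Helper24.IsocNewton
import Mathlib

/-!
Newton slopes of an isocrystal over a finite field from the roots of the characteristic polynomial of
the linear Frobenius (helper24).
-/

set_option autoImplicit false
set_option linter.unusedSectionVars false

noncomputable section

open scoped Pointwise Isocrystal

universe u v w

namespace Groth.Agent.Lib.helper24.IsocLib

section GenLA

variable {L : Type*} {Ω : Type*} {V : Type*} [Field L] [Field Ω] [Algebra L Ω]
  [AddCommGroup V] [Module L V] [Module.Finite L V]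

theorem charpoly_eq_mul_of_isCompl (f : V →ₗ[L] V) {P Q : Submodule L V} (hc : IsCompl P Q)
    (hP : ∀ x ∈ P, f x ∈ P) (hQ : ∀ x ∈ Q, f x ∈ Q) :
    f.charpoly = (f.restrict hP).charpoly * (f.restrict hQ).charpoly := by
  have h1 : (Submodule.prodEquivOfIsCompl P Q hc).conj ((f.restrict hP).prodMap (f.restrict hQ)) = f := by
    apply LinearMap.ext
    intro x
    obtain ⟨y, rfl⟩ := (Submodule.prodEquivOfIsCompl P Q hc).surjective x
    rw [LinearEquiv.conj_apply_apply, LinearEquiv.symm_apply_apply]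
    obtain ⟨y₁, y₂⟩ := y
    simp only [LinearMap.prodMap_apply, Submodule.coe_prodEquivOfIsCompl', map_add]
    rfl
  rw [← LinearMap.charpoly_prodMap, ← LinearEquiv.charpoly_conj (Submodule.prodEquivOfIsCompl P Q hc),
    h1]

theorem isRoot_charpoly_smul_pow (f : V →ₗ[L] V) (c : L) (s : ℕ) {α : Ω}
    (hα : (f.charpoly.map (algebraMap L Ω)).IsRoot α) :
    (((c • f ^ s : Module.End L V)).charpoly.map (algebraMap L Ω)).IsRoot
      (algebraMap L Ω c * α ^ s) := by
  rw [← LinearMap.charpoly_baseChange, ← Module.End.hasEigenvalue_iff_isRoot_charpoly] at hα ⊢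
  obtain ⟨v, hv⟩ := hα.exists_hasEigenvector
  refine Module.End.hasEigenvalue_of_hasEigenvector (x := v) ⟨?_, hv.2⟩
  rw [Module.End.mem_eigenspace_iff, LinearMap.baseChange_smul, LinearMap.baseChange_pow,
    LinearMap.smul_apply, hv.pow_apply, ← algebraMap_smul Ω c, smul_smul]

theorem isRoot_charpoly_inv (f g : Module.End L V) (hgf : g * f = 1) {β : Ω} (hβ0 : β ≠ 0)
    (hβ : (f.charpoly.map (algebraMap L Ω)).IsRoot β) :
    (g.charpoly.map (algebraMap L Ω)).IsRoot β⁻¹ := by
  rw [← LinearMap.charpoly_baseChange, ← Module.End.hasEigenvalue_iff_isRoot_charpoly] at hβ ⊢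
  obtain ⟨v, hv⟩ := hβ.exists_hasEigenvector
  refine Module.End.hasEigenvalue_of_hasEigenvector (x := v) ⟨?_, hv.2⟩
  rw [Module.End.mem_eigenspace_iff]
  have h1 : (g.baseChange Ω) ((f.baseChange Ω) v) = v := by
    rw [← Module.End.mul_apply, ← LinearMap.baseChange_mul, hgf, LinearMap.baseChange_one]
    rfl
  have h2 : (f.baseChange Ω) v = β • v := Module.End.mem_eigenspace_iff.1 hv.1
  rw [h2, map_smul] at h1
  rw [← h1, smul_smul, inv_mul_cancel₀ hβ0, one_smul]
  conv_lhs => rw [h1]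

theorem ne_zero_of_isRoot_of_injective (f : V →ₗ[L] V) (hf : Function.Injective f) {α : Ω}
    (hα : (f.charpoly.map (algebraMap L Ω)).IsRoot α) : α ≠ 0 := by
  rintro rfl
  rw [Polynomial.IsRoot.def, Polynomial.eval_zero_map] at hα
  have h1 : f.charpoly.IsRoot 0 := (algebraMap L Ω).injective (by rw [hα, map_zero])
  rw [← Module.End.hasEigenvalue_iff_isRoot_charpoly] at h1
  obtain ⟨v, hv⟩ := h1.exists_hasEigenvector
  have h2 : f v = (0 : L) • v := Module.End.mem_eigenspace_iff.1 hv.1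
  rw [zero_smul] at h2
  exact hv.2 (hf (by rw [h2, map_zero]))

end GenLA

section Witt

variable {p : ℕ} [Fact p.Prime] {k : Type u} [Field k] [CharP k p] [PerfectRing k p]
variable {N : Type v} [AddCommGroup N] [Module (WittVector p k) N] [Module K(p, k) N]
  [IsScalarTower (WittVector p k) K(p, k) N]
variable {Ω : Type w} [Field Ω] [Algebra (WittVector p k) Ω] [Algebra K(p, k) Ω]
  [IsScalarTower (WittVector p k) K(p, k) Ω]

/-- eigenvalues of a linear map stabilising a lattice are integral. -/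
theorem isIntegral_root_of_stable [Module.Finite K(p, k) N]
    {M : Submodule (WittVector p k) N} (hM : M.IsLattice K(p, k)) (ρ : N →ₗ[K(p, k)] N)
    (hρ : ∀ x ∈ M, ρ x ∈ M) {β : Ω} (hβ : (ρ.charpoly.map (algebraMap K(p, k) Ω)).IsRoot β) :
    IsIntegral (WittVector p k) β := by
  classical
  have := hM
  let eb := Module.Free.chooseBasis (WittVector p k) M
  let b' := eb.extendOfIsLattice K(p, k)
  let ρM : M →ₗ[WittVector p k] M := (ρ.restrictScalars (WittVector p k)).restrict hρ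
  have hmat : LinearMap.toMatrix b' b' ρ =
      (LinearMap.toMatrix eb eb ρM).map (algebraMap (WittVector p k) K(p, k)) := by
    ext i j
    rw [LinearMap.toMatrix_apply, Matrix.map_apply, LinearMap.toMatrix_apply]
    have h1 : ρ (b' j) = ((ρM (eb j) : M) : N) := by
      rw [Module.Basis.extendOfIsLattice_apply]; rfl
    have h2 := eb.sum_repr (ρM (eb j))
    have h3 : ((ρM (eb j) : M) : N) =
        ∑ l, algebraMap (WittVector p k) K(p, k) (eb.repr (ρM (eb j)) l) • b' l := by
      conv_lhs => rw [← h2]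
      rw [Submodule.coe_sum]
      apply Finset.sum_congr rfl
      intro l _
      rw [Module.Basis.extendOfIsLattice_apply, algebraMap_smul]; rfl
    rw [h1, h3, Module.Basis.repr_sum_self]
  have hchar : ρ.charpoly = ρM.charpoly.map (algebraMap (WittVector p k) K(p, k)) := by
    rw [← LinearMap.charpoly_toMatrix ρ b', hmat, Matrix.charpoly_map, LinearMap.charpoly_toMatrix]
  rw [hchar, Polynomial.map_map, ← IsScalarTower.algebraMap_eq] at hβ
  refine ⟨ρM.charpoly, LinearMap.charpoly_monic _, ?_⟩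
  rw [← Polynomial.eval_map]
  exact hβ

/-- `p` is not a unit of the integral closure of `W` in `Ω`. -/
theorem not_isIntegral_zpow {e : ℤ} (he : e ≠ 0)
    (h1 : IsIntegral (WittVector p k) ((algebraMap K(p, k) Ω (p : K(p, k))) ^ e))
    (h2 : IsIntegral (WittVector p k) ((algebraMap K(p, k) Ω (p : K(p, k))) ^ (-e))) : False := by
  -- reduce to a negative exponent
  have key : ∀ j : ℕ, 0 < j →
      IsIntegral (WittVector p k) ((algebraMap K(p, k) Ω (p : K(p, k))) ^ (-(j : ℤ))) → False := by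
    intro j hj h
    rw [zpow_neg, zpow_natCast, ← inv_pow] at h
    have h3 := IsIntegral.of_pow hj h
    rw [← map_inv₀] at h3
    have h4 : IsIntegral (WittVector p k) ((p : K(p, k))⁻¹) :=
      (isIntegral_algebraMap_iff (algebraMap K(p, k) Ω).injective).1 h3
    obtain ⟨y, hy⟩ := IsIntegrallyClosed.isIntegral_iff.1 h4
    have h5 : algebraMap (WittVector p k) K(p, k) ((p : WittVector p k) * y) = 1 := by
      rw [map_mul, hy, map_natCast, mul_inv_cancel₀ p_ne_zero]
    have h6 : (p : WittVector p k) * y = 1 :=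
      IsFractionRing.injective (WittVector p k) K(p, k) (by rw [h5, map_one])
    exact (WittVector.irreducible p).not_isUnit (IsUnit.of_mul_eq_one _ h6)
  rcases lt_or_gt_of_ne he with hlt | hgt
  · obtain ⟨j, hj⟩ : ∃ j : ℕ, e = -(j : ℤ) := ⟨(-e).toNat, by omega⟩
    subst hj
    exact key j (by omega) h1
  · obtain ⟨j, hj⟩ : ∃ j : ℕ, e = (j : ℤ) := ⟨e.toNat, by omega⟩
    subst hj
    exact key j (by omega) h2

end Witt

section Witt2

variable (p : ℕ) [Fact p.Prime] (k : Type u) [Field k] [CharP k p] [PerfectRing k p]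
variable {N : Type v} [AddCommGroup N] [Module (WittVector p k) N] [Module K(p, k) N]
  [IsScalarTower (WittVector p k) K(p, k) N]
variable {Ω : Type w} [Field Ω] [Algebra (WittVector p k) Ω] [Algebra K(p, k) Ω]
  [IsScalarTower (WittVector p k) K(p, k) Ω]

/-- the unit property of the statement: `α ^ den * p ^ (-num * m)` and its inverse are integral. -/
def UnitProp (m : ℕ) (μ : ℚ) (α : Ω) : Prop :=
  IsIntegral (WittVector p k)
      (α ^ μ.den * (algebraMap K(p, k) Ω (p : K(p, k))) ^ (-(μ.num * (m : ℤ)))) ∧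
    IsIntegral (WittVector p k)
      (α ^ μ.den * (algebraMap K(p, k) Ω (p : K(p, k))) ^ (-(μ.num * (m : ℤ))))⁻¹

theorem zpow_combine {α P : Ω} (hα : α ≠ 0) (hP : P ≠ 0) (d₀ d : ℕ) (z₀ z : ℤ) :
    (α ^ d₀ * P ^ z₀) ^ d * ((α ^ d * P ^ z)⁻¹) ^ d₀ = P ^ (z₀ * d - z * d₀) := by
  have hA : (α ^ d₀) ^ d = (α ^ d) ^ d₀ := by rw [← pow_mul, ← pow_mul, mul_comm]
  rw [mul_pow, inv_pow, mul_pow, mul_inv, hA, ← zpow_natCast (P ^ z₀), ← zpow_mul,
    ← zpow_natCast (P ^ z), ← zpow_mul, sub_eq_add_neg, zpow_add₀ hP, zpow_neg]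
  have h1 : (α ^ d) ^ d₀ ≠ 0 := pow_ne_zero _ (pow_ne_zero _ hα)
  field_simp

variable {p k}

theorem not_unitProp_of_ne {m : ℕ} (hm : 0 < m) {μ μ₀ : ℚ} (hne : μ ≠ μ₀) {α : Ω} (hα0 : α ≠ 0)
    (h0 : UnitProp p k m μ₀ α) (h : UnitProp p k m μ α) : False := by
  set P : Ω := algebraMap K(p, k) Ω (p : K(p, k)) with hP
  have hP0 : P ≠ 0 := by rw [hP]; exact (map_ne_zero _).2 p_ne_zero
  set e : ℤ := -(μ₀.num * (m : ℤ)) * μ.den - -(μ.num * (m : ℤ)) * μ₀.den with he
  have he' : e = (m : ℤ) * (μ.num * μ₀.den - μ₀.num * μ.den) := by rw [he]; ring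
  have he0 : e ≠ 0 := by
    intro h0'
    apply hne
    rw [Rat.eq_iff_mul_eq_mul]
    have hm' : (m : ℤ) ≠ 0 := by exact_mod_cast hm.ne'
    rw [he'] at h0'
    rcases mul_eq_zero.1 h0' with h | h
    · exact absurd h hm'
    · linarith
  have h1 : IsIntegral (WittVector p k) (P ^ e) := by
    rw [he, ← zpow_combine hα0 hP0]
    exact IsIntegral.mul (h0.1.pow _) (h.2.pow _)
  have h2 : IsIntegral (WittVector p k) (P ^ (-e)) := by
    have : -e = -(μ.num * (m : ℤ)) * μ₀.den - -(μ₀.num * (m : ℤ)) * μ.den := by rw [he]; ring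
    rw [this, ← zpow_combine hα0 hP0]
    exact IsIntegral.mul (h.1.pow _) (h0.2.pow _)
  exact not_isIntegral_zpow he0 h1 h2

theorem unitProp_of_isIsoclinic [Module.Finite K(p, k) N] {a : ℤ} {F : N →ₛₗ[Isoc.frob p k a] N}
    (hF : Isoc.IsIsoc F) {m : ℕ} (π : N →ₗ[K(p, k)] N) (hπ : ∀ x, π x = (⇑F)^[m] x) {μ₀ : ℚ}
    (hiso : Isoc.IsIsoclinic F μ₀) {α : Ω}
    (hα : (π.charpoly.map (algebraMap K(p, k) Ω)).IsRoot α) : UnitProp p k m μ₀ α := by
  obtain ⟨M, hM, r, s, hs, hμ, heq⟩ := hiso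
  have hπinj : Function.Injective π := by
    intro x y hxy
    rw [hπ, hπ] at hxy
    exact (hF.bijective.1.iterate m) hxy
  have hα0 : α ≠ 0 := ne_zero_of_isRoot_of_injective π hπinj hα
  set P : Ω := algebraMap K(p, k) Ω (p : K(p, k)) with hP
  have hP0 : P ≠ 0 := by rw [hP]; exact (map_ne_zero _).2 p_ne_zero
  set c : K(p, k) := (p : K(p, k)) ^ (-(r * (m : ℤ))) with hc
  have hc0 : c ≠ 0 := zpow_ne_zero _ p_ne_zero
  set ρ : Module.End K(p, k) N := c • π ^ s with hρ
  have hπpow : ∀ x, (π ^ s) x = (⇑F)^[s * m] x := by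
    intro x
    rw [Module.End.pow_apply]
    have h1 : (⇑π : N → N) = (⇑F)^[m] := funext hπ
    rw [h1, ← Function.iterate_mul, mul_comm]
  have hρapp : ∀ x, ρ x = c • (⇑F)^[s * m] x := fun x => by
    rw [hρ, LinearMap.smul_apply, hπpow]
  have heq' : Isoc.latImg F (s * m) M = Isoc.pPow (r * m) M := latImg_mul_of_eq F heq m
  have hcc : c * (p : K(p, k)) ^ (r * (m : ℤ)) = 1 := by
    rw [hc, ← zpow_add₀ p_ne_zero, neg_add_cancel, zpow_zero]
  have hρM : ∀ x ∈ M, ρ x ∈ M := by
    intro x hx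
    have h1 : (⇑F)^[s * m] x ∈ Isoc.pPow (r * (m : ℤ)) M := by
      rw [← heq']; exact (mem_latImg F).2 ⟨x, hx, rfl⟩
    obtain ⟨y, hy, hxy⟩ := mem_pPow.1 h1
    rw [hρapp, ← hxy, smul_smul, hcc, one_smul]
    exact hy
  have hρsurj : ∀ x ∈ M, ∃ y ∈ M, ρ y = x := by
    intro x hx
    have h1 : ((p : K(p, k)) ^ (r * (m : ℤ))) • x ∈ Isoc.latImg F (s * m) M := by
      rw [heq']; exact mem_pPow.2 ⟨x, hx, rfl⟩
    obtain ⟨y, hy, hxy⟩ := (mem_latImg F).1 h1
    refine ⟨y, hy, ?_⟩
    rw [hρapp, hxy, smul_smul, hcc, one_smul]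
  have hρinj : Function.Injective ρ := by
    intro x y hxy
    rw [hρapp, hρapp] at hxy
    exact (hF.bijective.1.iterate (s * m)) (smul_right_injective N hc0 hxy)
  set ρ' : Module.End K(p, k) N :=
    ((LinearEquiv.ofInjectiveEndo ρ hρinj).symm : N →ₗ[K(p, k)] N) with hρ'
  have hinv : ρ' * ρ = 1 := LinearEquiv.ofInjectiveEndo_left_inv ρ hρinj
  have hρ'M : ∀ x ∈ M, ρ' x ∈ M := by
    intro x hx
    obtain ⟨y, hy, rfl⟩ := hρsurj x hx
    have h1 : ρ' (ρ y) = y := (LinearEquiv.ofInjectiveEndo ρ hρinj).symm_apply_apply y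
    rw [h1]; exact hy
  set β : Ω := algebraMap K(p, k) Ω c * α ^ s with hβ
  have hβroot : (ρ.charpoly.map (algebraMap K(p, k) Ω)).IsRoot β :=
    isRoot_charpoly_smul_pow π c s hα
  have hβ0 : β ≠ 0 := mul_ne_zero ((map_ne_zero _).2 hc0) (pow_ne_zero _ hα0)
  have hβint : IsIntegral (WittVector p k) β := isIntegral_root_of_stable hM ρ hρM hβroot
  have hβinv : IsIntegral (WittVector p k) β⁻¹ :=
    isIntegral_root_of_stable hM ρ' hρ'M (isRoot_charpoly_inv ρ ρ' hinv hβ0 hβroot)
  -- lowest terms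
  have hs0 : (s : ℤ) ≠ 0 := by exact_mod_cast hs.ne'
  obtain ⟨c₀, hc₁, hc₂⟩ := Rat.exists_eq_mul_div_num_and_eq_mul_div_den r hs0
  have hμ' : ((r : ℚ) / ((s : ℤ) : ℚ)) = μ₀ := by rw [← hμ]; norm_cast
  rw [hμ'] at hc₁ hc₂
  have hc₀pos : 0 < c₀ := by
    have hden : (0 : ℤ) < μ₀.den := by exact_mod_cast μ₀.den_pos
    have hspos : (0 : ℤ) < s := by exact_mod_cast hs
    rw [hc₂] at hspos
    exact (pos_iff_pos_of_mul_pos hspos).2 hden
  obtain ⟨c₁, rfl⟩ : ∃ c₁ : ℕ, c₀ = c₁ := ⟨c₀.toNat, by omega⟩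
  have hc₁pos : 0 < c₁ := by exact_mod_cast hc₀pos
  have hs' : s = c₁ * μ₀.den := by exact_mod_cast hc₂
  set γ : Ω := α ^ μ₀.den * P ^ (-(μ₀.num * (m : ℤ))) with hγ
  have hγpow : γ ^ c₁ = β := by
    rw [hγ, mul_pow, ← pow_mul, ← zpow_natCast (P ^ (-(μ₀.num * (m : ℤ)))), ← zpow_mul, hβ, hc,
      map_zpow₀, mul_comm (P ^ _) (α ^ s)]
    congr 2
    · rw [hs']; ring
    · rw [hc₁]; ring
  exact ⟨IsIntegral.of_pow hc₁pos (by rw [hγpow]; exact hβint),
    IsIntegral.of_pow hc₁pos (by rw [inv_pow, hγpow]; exact hβinv)⟩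

end Witt2

section Main

variable {p : ℕ} [Fact p.Prime] {k : Type u} [Field k] [CharP k p] [PerfectRing k p]
variable {Ω : Type w} [Field Ω] [Algebra (WittVector p k) Ω] [Algebra K(p, k) Ω]
  [IsScalarTower (WittVector p k) K(p, k) Ω]

theorem iterate_mem_of_stable' {N : Type v} [AddCommGroup N] [Module K(p, k) N] {a : ℤ}
    (F : N →ₛₗ[Isoc.frob p k a] N) {P : Submodule K(p, k) N} (hP : ∀ x ∈ P, F x ∈ P) (t : ℕ)
    {x : N} (hx : x ∈ P) : (⇑F)^[t] x ∈ P := by
  induction t with
  | zero => exact hx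
  | succ t ih =>
    rw [Function.iterate_succ_apply']
    exact hP _ ih

theorem newtonMult_eq_countP_aux (m : ℕ) (hm : 0 < m) (a : ℤ) [IsAlgClosed Ω] :
    ∀ (n : ℕ) (N : Type v) [AddCommGroup N] [Module (WittVector p k) N] [Module K(p, k) N]
      [IsScalarTower (WittVector p k) K(p, k) N] [Module.Finite K(p, k) N]
      (F : N →ₛₗ[Isoc.frob p k a] N), Isoc.IsIsoc F → Module.finrank K(p, k) N = n →
      ∀ (π : N →ₗ[K(p, k)] N), (∀ x, π x = (⇑F)^[m] x) →
      ∀ (μ : ℚ) [DecidablePred (UnitProp p k (Ω := Ω) m μ)],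
      Isoc.newtonMult F μ = Multiset.countP (UnitProp p k m μ)
        ((π.charpoly.map (algebraMap K(p, k) Ω)).roots) := by
  intro n
  induction n using Nat.strong_induction_on with
  | _ n ih =>
    intro N _ _ _ _ _ F hF hn π hπ μ _
    rcases subsingleton_or_nontrivial N with hsub | hnt
    · have h1 : Isoc.newtonMult F μ = 0 := by
        unfold Isoc.newtonMult
        exact Module.finrank_zero_of_subsingleton
      have h2 : π.charpoly = 1 := by
        apply Polynomial.eq_one_of_monic_natDegree_zero (LinearMap.charpoly_monic π)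
        rw [LinearMap.charpoly_natDegree]
        exact Module.finrank_zero_of_subsingleton
      rw [h1, h2, Polynomial.map_one, Polynomial.roots_one]
      rfl
    · obtain ⟨μ₀, N₀, N₁, h₀, h₁, hsup, hinf, hne, hiso⟩ := exists_split hF
      have hrank := Submodule.finrank_sup_add_finrank_inf_eq N₀ N₁
      rw [hsup, hinf, finrank_top, finrank_bot, add_zero, hn] at hrank
      have hpos : 0 < Module.finrank K(p, k) N₀ := by
        rcases Nat.eq_zero_or_pos (Module.finrank K(p, k) N₀) with h0 | h0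
        · exact absurd (Submodule.finrank_eq_zero.1 h0) hne
        · exact h0
      have hlt : Module.finrank K(p, k) N₁ < n := by omega
      have hF₀ := isIsoc_restrict hF h₀
      have hF₁ := isIsoc_restrict hF h₁
      have hπ₀ : ∀ x ∈ N₀, π x ∈ N₀ := fun x hx => by
        rw [hπ]; exact iterate_mem_of_stable' F h₀ m hx
      have hπ₁ : ∀ x ∈ N₁, π x ∈ N₁ := fun x hx => by
        rw [hπ]; exact iterate_mem_of_stable' F h₁ m hx
      have hπ₀' : ∀ x : N₀, (π.restrict hπ₀) x = (⇑(F.restrict h₀))^[m] x := by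
        intro x
        apply Subtype.ext
        rw [LinearMap.coe_restrict_apply, hπ, coe_iterate_restrict]
      have hπ₁' : ∀ x : N₁, (π.restrict hπ₁) x = (⇑(F.restrict h₁))^[m] x := by
        intro x
        apply Subtype.ext
        rw [LinearMap.coe_restrict_apply, hπ, coe_iterate_restrict]
      have hc : IsCompl N₀ N₁ := ⟨disjoint_iff.2 hinf, codisjoint_iff.2 hsup⟩
      have hchar := charpoly_eq_mul_of_isCompl π hc hπ₀ hπ₁
      have hroots : (π.charpoly.map (algebraMap K(p, k) Ω)).roots =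
          ((π.restrict hπ₀).charpoly.map (algebraMap K(p, k) Ω)).roots +
            ((π.restrict hπ₁).charpoly.map (algebraMap K(p, k) Ω)).roots := by
        rw [hchar, Polynomial.map_mul, Polynomial.roots_mul]
        exact mul_ne_zero ((LinearMap.charpoly_monic _).map _).ne_zero
          ((LinearMap.charpoly_monic _).map _).ne_zero
      rw [newtonMult_split hF h₀ h₁ hsup hinf hiso μ, hroots, Multiset.countP_add,
        ih _ hlt ↥N₁ (F.restrict h₁) hF₁ rfl (π.restrict hπ₁) hπ₁' μ, add_comm]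
      congr 1
      have hiso₀ : Isoc.IsIsoclinic (F.restrict h₀) μ₀ :=
        (isIsoclinic_restrict_iff_isoIn F h₀ μ₀).2 hiso
      have hall : ∀ α ∈ ((π.restrict hπ₀).charpoly.map (algebraMap K(p, k) Ω)).roots,
          UnitProp p k m μ₀ α := by
        intro α hα
        exact unitProp_of_isIsoclinic hF₀ (π.restrict hπ₀) hπ₀' hiso₀
          (Polynomial.isRoot_of_mem_roots hα)
      have hinj₀ : Function.Injective (π.restrict hπ₀) := by
        intro x y hxy
        rw [hπ₀', hπ₀'] at hxy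
        exact (hF₀.bijective.1.iterate m) hxy
      split_ifs with h
      · subst h
        rw [Multiset.countP_eq_card.2 hall,
          IsAlgClosed.card_roots_map_eq_natDegree_of_injective _ (algebraMap K(p, k) Ω).injective,
          LinearMap.charpoly_natDegree]
      · symm
        rw [Multiset.countP_eq_zero]
        intro α hα hU
        have hα' := Polynomial.isRoot_of_mem_roots hα
        have hα0 : α ≠ 0 := ne_zero_of_isRoot_of_injective (π.restrict hπ₀) hinj₀ hα'
        exact not_unitProp_of_ne hm h hα0 (hall α hα) hU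

end Main

end Groth.Agent.Lib.helper24.IsocLib

end
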