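import Groth.Agent.Lib.Helper24.IsocFitting
import Groth.Agent.S17148
import Groth.Agent.S17150
import Groth.Agent.S17151

/-!
Isoclinic subspaces in ambient form, transport along equivariant maps, independence of the slope
parts (helper24).
-/

set_option autoImplicit false
set_option linter.unusedSectionVars false

noncomputable section

open scoped Pointwise Isocrystal

universe u v w

namespace Groth.Agent.Lib.helper24.IsocLib

variable {p : ℕ} [Fact p.Prime] {k : Type u} [Field k] [CharP k p] [PerfectRing k p]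
variable {N : Type v} [AddCommGroup N] [Module (WittVector p k) N] [Module K(p, k) N]
  [IsScalarTower (WittVector p k) K(p, k) N]
variable {N' : Type w} [AddCommGroup N'] [Module (WittVector p k) N'] [Module K(p, k) N']
  [IsScalarTower (WittVector p k) K(p, k) N']

section IsoIn

variable {a : ℤ} (F : N →ₛₗ[Isoc.frob p k a] N) (F' : N' →ₛₗ[Isoc.frob p k a] N')

/-- `P` is spanned by a finitely generated `W`-module `M` with `F^s M = p^r M`, `r/s = μ`. -/
def IsoIn (P : Submodule K(p, k) N) (μ : ℚ) : Prop :=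
  ∃ M : Submodule (WittVector p k) N, M.FG ∧ Submodule.span K(p, k) (M : Set N) = P ∧
    ∃ (r : ℤ) (s : ℕ), 0 < s ∧ (r : ℚ) / s = μ ∧ Isoc.latImg F s M = Isoc.pPow r M

theorem isIsoclinic_restrict_iff_isoIn {P : Submodule K(p, k) N} (hP : ∀ x ∈ P, F x ∈ P)
    (μ : ℚ) : Isoc.IsIsoclinic (F.restrict hP) μ ↔ IsoIn F P μ :=
  isIsoclinic_restrict_iff F hP μ

variable {F F'}

/-- transport of `W`-submodules along an equivariant `L`-linear map. -/
theorem map_latImg_of_equivariant (q : N →ₗ[K(p, k)] N') (hq : ∀ x, q (F x) = F' (q x)) (s : ℕ)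
    (M : Submodule (WittVector p k) N) :
    (Isoc.latImg F s M).map (q.restrictScalars (WittVector p k)) =
      Isoc.latImg F' s (M.map (q.restrictScalars (WittVector p k))) := by
  have hiter : ∀ (t : ℕ) (x : N), q ((⇑F)^[t] x) = (⇑F')^[t] (q x) := by
    intro t
    induction t with
    | zero => intro x; rfl
    | succ t ih =>
      intro x
      rw [Function.iterate_succ_apply', Function.iterate_succ_apply', hq, ih]
  ext y
  rw [Submodule.mem_map, mem_latImg]
  constructor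
  · rintro ⟨z, hz, rfl⟩
    obtain ⟨m, hm, rfl⟩ := (mem_latImg F).1 hz
    exact ⟨q m, ⟨m, hm, rfl⟩, (hiter s m).symm⟩
  · rintro ⟨_, ⟨m, hm, rfl⟩, rfl⟩
    exact ⟨(⇑F)^[s] m, (mem_latImg F).2 ⟨m, hm, rfl⟩, hiter s m⟩

omit [PerfectRing k p] in
theorem map_pPow_of_linear (q : N →ₗ[K(p, k)] N') (r : ℤ) (M : Submodule (WittVector p k) N) :
    (Isoc.pPow r M).map (q.restrictScalars (WittVector p k)) =
      Isoc.pPow r (M.map (q.restrictScalars (WittVector p k))) := by
  ext y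
  rw [Submodule.mem_map, mem_pPow]
  constructor
  · rintro ⟨z, hz, rfl⟩
    obtain ⟨m, hm, rfl⟩ := mem_pPow.1 hz
    exact ⟨q m, ⟨m, hm, rfl⟩, (map_smul q _ m).symm⟩
  · rintro ⟨_, ⟨m, hm, rfl⟩, rfl⟩
    exact ⟨((p : K(p, k)) ^ r) • m, mem_pPow.2 ⟨m, hm, rfl⟩, map_smul q _ m⟩

theorem IsoIn.map {P : Submodule K(p, k) N} {μ : ℚ} (h : IsoIn F P μ)
    (q : N →ₗ[K(p, k)] N') (hq : ∀ x, q (F x) = F' (q x)) : IsoIn F' (P.map q) μ := by
  obtain ⟨M, hMfg, hMspan, r, s, hs, hμ, heq⟩ := h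
  refine ⟨M.map (q.restrictScalars (WittVector p k)), hMfg.map _, ?_, r, s, hs, hμ, ?_⟩
  · rw [← hMspan, Submodule.map_span]
    rfl
  · rw [← map_latImg_of_equivariant q hq, heq, map_pPow_of_linear]

end IsoIn

section Sub

variable {a : ℤ} {F : N →ₛₗ[Isoc.frob p k a] N}

theorem isIsoc_restrict (hF : Isoc.IsIsoc F) {P : Submodule K(p, k) N}
    (hP : ∀ x ∈ P, F x ∈ P) : Isoc.IsIsoc (F.restrict hP) := by
  have hfin : Module.Finite K(p, k) N := hF.finite
  have hinj : Function.Injective (F.restrict hP) := by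
    intro x y hxy
    apply Subtype.ext
    apply hF.bijective.injective
    exact congrArg (fun z : ↥P => (z : N)) hxy
  exact ⟨inferInstance, hinj, semilinear_surjective_of_injective
    (frob_bijective (p := p) (k := k) a).surjective (F.restrict hP) hinj⟩

/-- a stable subspace is mapped onto itself. -/
theorem exists_preimage_of_stable (hF : Isoc.IsIsoc F) {P : Submodule K(p, k) N}
    (hP : ∀ x ∈ P, F x ∈ P) {y : N} (hy : y ∈ P) : ∃ x ∈ P, F x = y := by
  obtain ⟨x, hx⟩ := (isIsoc_restrict hF hP).bijective.2 ⟨y, hy⟩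
  exact ⟨x, x.2, congrArg Subtype.val hx⟩

theorem mem_of_map_mem_of_stable (hF : Isoc.IsIsoc F) {P : Submodule K(p, k) N}
    (hP : ∀ x ∈ P, F x ∈ P) {x : N} (hx : F x ∈ P) : x ∈ P := by
  obtain ⟨x', hx', hxx⟩ := exists_preimage_of_stable hF hP hx
  rwa [← hF.bijective.1 hxx]

theorem isIsoc_mapQ (hF : Isoc.IsIsoc F) (C : Submodule K(p, k) N) (hC : C ≤ C.comap F) :
    Isoc.IsIsoc (C.mapQ C F hC) := by
  have hfin : Module.Finite K(p, k) N := hF.finite
  refine ⟨inferInstance, ?_, ?_⟩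
  · intro x y hxy
    obtain ⟨x, rfl⟩ := C.mkQ_surjective x
    obtain ⟨y, rfl⟩ := C.mkQ_surjective y
    have h1 : C.mkQ (F x) = C.mkQ (F y) := hxy
    have h2 : F (x - y) ∈ C := by
      rw [map_sub]
      exact (Submodule.Quotient.eq C).1 h1
    have hC' : ∀ z ∈ C, F z ∈ C := fun z hz => hC hz
    have h3 : x - y ∈ C := mem_of_map_mem_of_stable hF hC' h2
    exact (Submodule.Quotient.eq C).2 h3
  · intro y
    obtain ⟨y, rfl⟩ := C.mkQ_surjective y
    obtain ⟨x, rfl⟩ := hF.bijective.2 y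
    exact ⟨C.mkQ x, rfl⟩

/-- a stable subspace of an isoclinic stable subspace is isoclinic of the same slope. -/
theorem IsoIn.sub (hF : Isoc.IsIsoc F) {P X : Submodule K(p, k) N} {μ : ℚ}
    (hP : ∀ x ∈ P, F x ∈ P) (h : IsoIn F P μ) (hX : ∀ x ∈ X, F x ∈ X) (hXP : X ≤ P) :
    IsoIn F X μ := by
  have hFP := isIsoc_restrict hF hP
  have hμP : Isoc.IsIsoclinic (F.restrict hP) μ := (isIsoclinic_restrict_iff_isoIn F hP μ).2 h
  have hX' : ∀ x ∈ X.comap P.subtype, (F.restrict hP) x ∈ X.comap P.subtype := by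
    intro x hx
    exact hX _ hx
  have h1 := Groth.Agent.S17148.result p k a ↥P (F.restrict hP) hFP μ hμP (X.comap P.subtype) hX'
  have h2 := (isIsoclinic_restrict_iff_isoIn (F.restrict hP) hX' μ).1 h1
  have h3 := h2.map (F' := F) P.subtype (fun x => rfl)
  rwa [Submodule.map_comap_subtype, inf_eq_right.2 hXP] at h3

/-- a stable subspace that is isoclinic of two different slopes is zero. -/
theorem eq_bot_of_isoIn_of_ne (hF : Isoc.IsIsoc F) {Y : Submodule K(p, k) N} {μ ν : ℚ}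
    (hY : ∀ x ∈ Y, F x ∈ Y) (h1 : IsoIn F Y μ) (h2 : IsoIn F Y ν) (hne : μ ≠ ν) : Y = ⊥ := by
  have hFY := isIsoc_restrict hF hY
  have hμ := (isIsoclinic_restrict_iff_isoIn F hY μ).2 h1
  have hν := (isIsoclinic_restrict_iff_isoIn F hY ν).2 h2
  have h3 := Groth.Agent.S17150.result p k a ↥Y ↥Y (F.restrict hY) (F.restrict hY) hFY hFY μ ν hμ hν
    hne LinearMap.id (fun x => rfl)
  rw [eq_bot_iff]
  intro y hy
  have h4 := congrArg (fun f : ↥Y →ₗ[K(p, k)] ↥Y => ((f ⟨y, hy⟩ : ↥Y) : N)) h3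
  simpa using h4

theorem slopePart_stable_isoIn (hF : Isoc.IsIsoc F) (μ : ℚ) :
    (∀ x ∈ Isoc.slopePart F μ, F x ∈ Isoc.slopePart F μ) ∧ IsoIn F (Isoc.slopePart F μ) μ := by
  obtain ⟨hP, h⟩ := Groth.Agent.S17151.result p k a N F hF μ
  exact ⟨hP, (isIsoclinic_restrict_iff_isoIn F hP μ).1 h⟩

theorem le_slopePart {P : Submodule K(p, k) N} {μ : ℚ} (hP : ∀ x ∈ P, F x ∈ P)
    (h : IsoIn F P μ) : P ≤ Isoc.slopePart F μ := by
  unfold Isoc.slopePart
  exact le_sSup ⟨hP, (isIsoclinic_restrict_iff_isoIn F hP μ).2 h⟩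

end Sub

section Indep

variable {a : ℤ} {F : N →ₛₗ[Isoc.frob p k a] N}

theorem stable_sup {P Q : Submodule K(p, k) N} (hP : ∀ x ∈ P, F x ∈ P) (hQ : ∀ x ∈ Q, F x ∈ Q) :
    ∀ x ∈ P ⊔ Q, F x ∈ P ⊔ Q := by
  intro x hx
  obtain ⟨y, hy, z, hz, rfl⟩ := Submodule.mem_sup.1 hx
  rw [map_add]
  exact Submodule.add_mem_sup (hP y hy) (hQ z hz)

theorem stable_inf {P Q : Submodule K(p, k) N} (hP : ∀ x ∈ P, F x ∈ P) (hQ : ∀ x ∈ Q, F x ∈ Q) :
    ∀ x ∈ P ⊓ Q, F x ∈ P ⊓ Q := fun x hx => ⟨hP x hx.1, hQ x hx.2⟩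

theorem stable_finset_sup_slopePart (hF : Isoc.IsIsoc F) (T : Finset ℚ) :
    ∀ x ∈ T.sup (Isoc.slopePart F), F x ∈ T.sup (Isoc.slopePart F) := by
  classical
  induction T using Finset.induction_on with
  | empty =>
    intro x hx
    simp only [Finset.sup_empty, Submodule.mem_bot] at hx ⊢
    rw [hx, map_zero]
  | insert ν T _ ih =>
    rw [Finset.sup_insert]
    exact stable_sup (slopePart_stable_isoIn hF ν).1 ih

/-- an isoclinic stable subspace of slope `μ` inside a finite sum of slope parts of slopes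
different from `μ` is zero. -/
theorem eq_bot_of_le_finset_sup (hF : Isoc.IsIsoc F) (T : Finset ℚ) :
    ∀ (X : Submodule K(p, k) N) (μ : ℚ), μ ∉ T → (∀ x ∈ X, F x ∈ X) → IsoIn F X μ →
      X ≤ T.sup (Isoc.slopePart F) → X = ⊥ := by
  classical
  induction T using Finset.induction_on with
  | empty =>
    intro X μ _ _ _ hle
    simpa using hle
  | insert ν₀ T' hν₀ ih =>
    intro X μ hμ hX hiso hle
    rw [Finset.sup_insert] at hle
    have hμν : μ ≠ ν₀ := fun h => hμ (h ▸ Finset.mem_insert_self _ _)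
    have hμT' : μ ∉ T' := fun h => hμ (Finset.mem_insert_of_mem h)
    set B := Isoc.slopePart F ν₀ with hB
    set C := T'.sup (Isoc.slopePart F) with hC
    have hCst : ∀ x ∈ C, F x ∈ C := stable_finset_sup_slopePart hF T'
    have hCle : C ≤ C.comap F := fun x hx => hCst x hx
    obtain ⟨hBst, hBiso⟩ := slopePart_stable_isoIn hF ν₀
    have hFq := isIsoc_mapQ hF C hCle
    have hq : ∀ x, C.mkQ (F x) = (C.mapQ C F hCle) (C.mkQ x) := fun x => rfl
    have hXq : IsoIn (C.mapQ C F hCle) (X.map C.mkQ) μ := hiso.map C.mkQ hq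
    have hBq : IsoIn (C.mapQ C F hCle) (B.map C.mkQ) ν₀ := hBiso.map C.mkQ hq
    have hXBq : X.map C.mkQ ≤ B.map C.mkQ := by
      rintro _ ⟨x, hx, rfl⟩
      obtain ⟨b, hb, c, hc, rfl⟩ := Submodule.mem_sup.1 (hle hx)
      refine ⟨b, hb, ?_⟩
      have hc0 : C.mkQ c = 0 := (Submodule.Quotient.mk_eq_zero C).2 hc
      rw [map_add, hc0, add_zero]
    have hstq : ∀ (P : Submodule K(p, k) N), (∀ x ∈ P, F x ∈ P) →
        ∀ y ∈ P.map C.mkQ, (C.mapQ C F hCle) y ∈ P.map C.mkQ := by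
      rintro P hP _ ⟨x, hx, rfl⟩
      exact ⟨F x, hP x hx, hq x⟩
    have hXq' : IsoIn (C.mapQ C F hCle) (X.map C.mkQ) ν₀ :=
      hBq.sub hFq (hstq B hBst) (hstq X hX) hXBq
    have hbot : X.map C.mkQ = ⊥ :=
      eq_bot_of_isoIn_of_ne hFq (hstq X hX) hXq hXq' hμν
    have hXC : X ≤ C := by
      have := (LinearMap.le_ker_iff_map (f := C.mkQ) (p := X)).2 hbot
      rwa [Submodule.ker_mkQ] at this
    exact ih X μ hμT' hX hiso hXC

theorem iSupIndep_slopePart (hF : Isoc.IsIsoc F) : iSupIndep (fun μ : ℚ => Isoc.slopePart F μ) := by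
  classical
  rw [iSupIndep_iff_supIndep]
  intro s t _ μ _ hμt
  rw [disjoint_iff]
  obtain ⟨hst, hiso⟩ := slopePart_stable_isoIn hF μ
  have hX : ∀ x ∈ Isoc.slopePart F μ ⊓ t.sup (fun μ : ℚ => Isoc.slopePart F μ),
      F x ∈ Isoc.slopePart F μ ⊓ t.sup (fun μ : ℚ => Isoc.slopePart F μ) :=
    stable_inf hst (stable_finset_sup_slopePart hF t)
  exact eq_bot_of_le_finset_sup hF t _ μ hμt hX (hiso.sub hF hst hX inf_le_left) inf_le_right

end Indep

end Groth.Agent.Lib.helper24.IsocLib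

end
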