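import Groth.Agent.Lib.Helper24.IsocSlope

/-!
The standard isocrystal: iterates, bijectivity, isoclinicity (helper24).
-/

set_option autoImplicit false
set_option linter.unusedSectionVars false

noncomputable section

open scoped Pointwise Isocrystal

universe u v

namespace Groth.Agent.Lib.helper24.IsocLib

variable {p : ℕ} [Fact p.Prime] {k : Type u} [Field k] [CharP k p] [PerfectRing k p]

section Std

variable (τ : K(p, k) →+* K(p, k)) (d : ℤ) (h : ℕ)

/-- the coefficient of the standard isocrystal at index `i`. -/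
def stdC (i : Fin h) : K(p, k) := if i.val = 0 then (p : K(p, k)) ^ d else 1

theorem map_stdC (i : Fin h) : τ (stdC (p := p) (k := k) d h i) = stdC d h i := by
  unfold stdC
  split_ifs
  · rw [map_zpow₀, map_natCast]
  · rw [map_one]

theorem stdC_ne_zero (i : Fin h) : stdC (p := p) (k := k) d h i ≠ 0 := by
  unfold stdC
  split_ifs
  · exact zpow_ne_zero _ p_ne_zero
  · exact one_ne_zero

theorem stdIsoc_iterate (j : ℕ) (x : Fin h → K(p, k)) (i : Fin h) :
    ((⇑(Isoc.stdIsoc τ d h))^[j] x) i =
      (∏ t ∈ Finset.range j, stdC d h (((finRotate h).symm)^[t] i)) *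
        (⇑τ)^[j] (x (((finRotate h).symm)^[j] i)) := by
  induction j generalizing i with
  | zero => simp
  | succ j ih =>
    rw [Function.iterate_succ_apply', Isoc.stdIsoc_apply, ih, map_mul, map_prod,
      Finset.prod_range_succ', Function.iterate_succ_apply', Function.iterate_succ_apply]
    simp only [map_stdC, Function.iterate_succ_apply, Function.iterate_zero, id_eq]
    have : (if i.val = 0 then (p : K(p, k)) ^ d else 1) = stdC d h i := rfl
    rw [this]
    ring

open Fin.NatCast Fin.CommRing in
theorem iterate_rot_symm [NeZero h] (t : ℕ) (i : Fin h) :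
    ((finRotate h).symm)^[t] i = i - (t : Fin h) := by
  induction t with
  | zero => simp
  | succ t ih =>
    rw [Function.iterate_succ_apply', ih, finRotate_symm_apply, Nat.cast_succ]
    ring

open Fin.NatCast Fin.CommRing in
theorem iterate_rot_symm_self [NeZero h] (i : Fin h) :
    ((finRotate h).symm)^[h] i = i := by
  rw [iterate_rot_symm]
  simp

open Fin.NatCast Fin.CommRing in
theorem prod_stdC [NeZero h] (i : Fin h) :
    ∏ t ∈ Finset.range h, stdC (p := p) (k := k) d h (((finRotate h).symm)^[t] i) =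
      (p : K(p, k)) ^ d := by
  classical
  simp_rw [iterate_rot_symm]
  rw [Finset.prod_range (fun t => stdC (p := p) (k := k) d h (i - (t : Fin h)))]
  have h1 : ∀ t : Fin h, stdC (p := p) (k := k) d h (i - ((t : ℕ) : Fin h)) =
      stdC d h (Equiv.subLeft i t) := by
    intro t
    rw [Fin.cast_val_eq_self]
    rfl
  simp_rw [h1]
  rw [Equiv.prod_comp (Equiv.subLeft i) (fun j => stdC (p := p) (k := k) d h j)]
  unfold stdC
  have h2 : ∀ j : Fin h, (j.val = 0) ↔ (j = 0) := fun j => by
    rw [Fin.ext_iff]; rfl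
  simp_rw [h2]
  rw [Finset.prod_ite_eq']
  simp

theorem stdIsoc_iterate_height [NeZero h] (x : Fin h → K(p, k)) (i : Fin h) :
    ((⇑(Isoc.stdIsoc τ d h))^[h] x) i = (p : K(p, k)) ^ d * (⇑τ)^[h] (x i) := by
  rw [stdIsoc_iterate, prod_stdC, iterate_rot_symm_self]

theorem stdIsoc_injective (hτ : Function.Injective τ) :
    Function.Injective (Isoc.stdIsoc (p := p) (k := k) τ d h) := by
  rw [← LinearMap.ker_eq_bot, eq_bot_iff]
  intro x hx
  rw [LinearMap.mem_ker] at hx
  rw [Submodule.mem_bot]
  ext i
  have h1 := congrFun hx ((finRotate h) i)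
  rw [Isoc.stdIsoc_apply, Equiv.symm_apply_apply, Pi.zero_apply] at h1
  have h2 : τ (x i) = 0 := by
    rcases mul_eq_zero.1 h1 with h3 | h3
    · exact absurd h3 (stdC_ne_zero d h _)
    · exact h3
  rw [Pi.zero_apply]
  exact hτ (h2.trans (map_zero τ).symm)

end Std

section StdFrob

variable (a : ℤ) (d : ℤ) (h : ℕ)

theorem stdIsoc_isIsoc : Isoc.IsIsoc (Isoc.stdIsoc (Isoc.frob p k a) d h) := by
  refine ⟨inferInstance, ?_⟩
  have hinj := stdIsoc_injective (Isoc.frob p k a) d h (frob_bijective a).1
  exact ⟨hinj, semilinear_surjective_of_injective (frob_bijective a).2 _ hinj⟩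

/-- the standard lattice `W^h`. -/
def stdLat : Submodule (WittVector p k) (Fin h → K(p, k)) :=
  Submodule.span (WittVector p k) (Set.range fun i : Fin h => (Pi.single i 1 : Fin h → K(p, k)))

theorem stdLat_isLattice : (stdLat (p := p) (k := k) h).IsLattice K(p, k) where
  fg := Submodule.fg_span (Set.finite_range _)
  span_eq_top := by
    rw [eq_top_iff, ← (Pi.basisFun K(p, k) (Fin h)).span_eq]
    apply Submodule.span_mono
    rintro _ ⟨i, rfl⟩
    apply Submodule.subset_span
    exact ⟨i, by simp [Pi.basisFun_apply]⟩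

theorem iterate_frob_one (n : ℕ) : (⇑(Isoc.frob p k a))^[n] 1 = 1 := by
  induction n with
  | zero => rfl
  | succ n ih => rw [Function.iterate_succ_apply', ih, map_one]

theorem iterate_frob_zero (n : ℕ) : (⇑(Isoc.frob p k a))^[n] 0 = 0 := by
  induction n with
  | zero => rfl
  | succ n ih => rw [Function.iterate_succ_apply', ih, map_zero]

theorem stdIsoc_latImg_stdLat [NeZero h] :
    Isoc.latImg (Isoc.stdIsoc (Isoc.frob p k a) d h) h (stdLat h) = Isoc.pPow d (stdLat h) := by
  classical
  unfold stdLat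
  rw [latImg_span, pPow_span, ← Set.range_comp, ← Set.range_comp]
  congr 2
  ext i l
  simp only [Function.comp_apply]
  rw [stdIsoc_iterate_height, Pi.smul_apply, smul_eq_mul]
  congr 1
  by_cases hil : l = i
  · subst hil
    simp [iterate_frob_one]
  · simp [Pi.single_apply, hil, iterate_frob_zero]

theorem stdIsoc_isIsoclinic (hh : 0 < h) :
    Isoc.IsIsoclinic (Isoc.stdIsoc (Isoc.frob p k a) d h) ((d : ℚ) / h) := by
  have : NeZero h := ⟨hh.ne'⟩
  exact ⟨stdLat h, stdLat_isLattice h, d, h, hh, rfl, stdIsoc_latImg_stdLat a d h⟩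

end StdFrob

end Groth.Agent.Lib.helper24.IsocLib

end
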