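import Mathlib

/-!
# Gradient at a rational point and first-order Taylor expansion (helper24)

For `a : Fin n → k` we define the gradient `D a : k[T] →ₗ[k] kⁿ`, the linear forms
`ell a c = Σ c_j (T_j - a_j)`, the ideal `nn a = (T_j - a_j)` and prove
`f - f(a) - ell a (D a f) ∈ (nn a)^2`, `ker (eval a) = nn a` and the description of
`{c | ell a c ∈ nn a ^ 2 ⊔ (F_1, …, F_r)}` as the row space of the Jacobian matrix.
-/

set_option autoImplicit false
universe u

namespace Groth.Agent.Lib.Helper24.JacRat1

open MvPolynomial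

variable {k : Type u} [Field k] {n : ℕ} (a : Fin n → k)

/-- The gradient at `a`. -/
noncomputable def D : MvPolynomial (Fin n) k →ₗ[k] (Fin n → k) :=
  LinearMap.pi fun j =>
    (MvPolynomial.aeval a : MvPolynomial (Fin n) k →ₐ[k] k).toLinearMap ∘ₗ
      (MvPolynomial.pderiv j : Derivation k (MvPolynomial (Fin n) k) (MvPolynomial (Fin n) k)).toLinearMap

theorem D_apply (f : MvPolynomial (Fin n) k) (j : Fin n) :
    D a f j = eval a (pderiv j f) := by
  simp [D, MvPolynomial.coe_aeval_eq_eval]

theorem D_mul (f g : MvPolynomial (Fin n) k) :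
    D a (f * g) = eval a f • D a g + eval a g • D a f := by
  funext j
  simp only [D_apply, Pi.add_apply, Pi.smul_apply, smul_eq_mul, Derivation.leibniz, map_add,
    map_mul]

theorem D_C (c : k) : D a (C c : MvPolynomial (Fin n) k) = 0 := by
  funext j
  simp [D_apply]

theorem D_X (i : Fin n) : D a (X i : MvPolynomial (Fin n) k) = Pi.single i 1 := by
  funext j
  simp [D_apply, pderiv_X, Pi.single_apply, eq_comm]

/-- The linear form `Σ c_j (T_j - a_j)`. -/
noncomputable def ell : (Fin n → k) →ₗ[k] MvPolynomial (Fin n) k where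
  toFun c := ∑ j, C (c j) * (X j - C (a j))
  map_add' c d := by
    simp only [Pi.add_apply, map_add, add_mul, Finset.sum_add_distrib]
  map_smul' t c := by
    simp only [Pi.smul_apply, smul_eq_mul, map_mul, RingHom.id_apply, Finset.smul_sum,
      MvPolynomial.smul_eq_C_mul, mul_assoc]

theorem ell_apply (c : Fin n → k) : ell a c = ∑ j, C (c j) * (X j - C (a j)) := rfl

/-- The ideal `(T_j - a_j)`. -/
noncomputable def nn : Ideal (MvPolynomial (Fin n) k) :=
  Ideal.span (Set.range fun j => (X j - C (a j) : MvPolynomial (Fin n) k))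

theorem X_sub_C_mem (j : Fin n) : (X j - C (a j) : MvPolynomial (Fin n) k) ∈ nn a :=
  Ideal.subset_span ⟨j, rfl⟩

theorem ell_mem (c : Fin n → k) : ell a c ∈ nn a := by
  rw [ell_apply]
  exact Ideal.sum_mem _ fun j _ => Ideal.mul_mem_left _ _ (X_sub_C_mem a j)

theorem eval_X_sub_C (j : Fin n) : eval a (X j - C (a j) : MvPolynomial (Fin n) k) = 0 := by
  simp

theorem nn_le_ker : nn a ≤ RingHom.ker (eval a) := by
  rw [nn, Ideal.span_le]
  rintro _ ⟨j, rfl⟩
  exact eval_X_sub_C a j

theorem eval_ell (c : Fin n → k) : eval a (ell a c) = 0 := nn_le_ker a (ell_mem a c)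

theorem D_ell (c : Fin n → k) : D a (ell a c) = c := by
  rw [ell_apply, map_sum]
  funext i
  rw [Finset.sum_apply]
  have : ∀ j, D a (C (c j) * (X j - C (a j))) i = if j = i then c j else 0 := by
    intro j
    rw [D_mul, map_sub, D_X, D_C, sub_zero, eval_X_sub_C, zero_smul, add_zero, eval_C]
    simp [Pi.single_apply, eq_comm]
  simp [this]

theorem taylor (f : MvPolynomial (Fin n) k) :
    f - C (eval a f) - ell a (D a f) ∈ nn a ^ 2 := by
  induction f using MvPolynomial.induction_on with
  | C c => simp [D_C]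
  | add f g hf hg =>
    have : f + g - C (eval a (f + g)) - ell a (D a (f + g)) =
        (f - C (eval a f) - ell a (D a f)) + (g - C (eval a g) - ell a (D a g)) := by
      simp only [map_add]; ring
    rw [this]
    exact Ideal.add_mem _ hf hg
  | mul_X f i hf =>
    have h1 : D a (f * X i) = eval a f • Pi.single i 1 + a i • D a f := by
      rw [D_mul, D_X, eval_X]
    have h2 : ell a (Pi.single i 1 : Fin n → k) = X i - C (a i) := by
      rw [ell_apply, Finset.sum_eq_single i]
      · simp
      · intro j _ hj; simp [Pi.single_apply, hj]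
      · intro h; exact absurd (Finset.mem_univ i) h
    have : f * X i - C (eval a (f * X i)) - ell a (D a (f * X i)) =
        (f - C (eval a f) - ell a (D a f)) * X i + ell a (D a f) * (X i - C (a i)) := by
      rw [h1, map_add, map_smul, map_smul, h2, map_mul, eval_X, map_mul,
        MvPolynomial.smul_eq_C_mul, MvPolynomial.smul_eq_C_mul]
      ring
    rw [this]
    refine Ideal.add_mem _ (Ideal.mul_mem_right _ _ hf) ?_
    rw [sq]
    exact Ideal.mul_mem_mul (ell_mem a _) (X_sub_C_mem a i)

theorem ker_eval : RingHom.ker (eval a) = nn a := by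
  refine le_antisymm (fun f hf => ?_) (nn_le_ker a)
  have h := taylor a f
  rw [RingHom.mem_ker] at hf
  rw [hf, map_zero, sub_zero] at h
  have h' : f - ell a (D a f) ∈ nn a := Ideal.pow_le_self two_ne_zero h
  have := Ideal.add_mem _ h' (ell_mem a (D a f))
  simpa using this

theorem D_eq_zero_of_mem_sq {f : MvPolynomial (Fin n) k} (hf : f ∈ nn a ^ 2) : D a f = 0 := by
  rw [sq] at hf
  refine Submodule.mul_induction_on hf ?_ ?_
  · intro p hp q hq
    rw [D_mul, (nn_le_ker a hp : eval a p = 0), (nn_le_ker a hq : eval a q = 0), zero_smul,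
      zero_smul, add_zero]
  · intro p q hp hq
    rw [map_add, hp, hq, add_zero]

theorem D_mem_of_mem_span {r : ℕ} (F : Fin r → MvPolynomial (Fin n) k)
    (hF : ∀ i, eval a (F i) = 0) {f : MvPolynomial (Fin n) k}
    (hf : f ∈ Ideal.span (Set.range F)) :
    D a f ∈ Submodule.span k (Set.range fun i => D a (F i)) := by
  refine Submodule.span_induction ?_ ?_ ?_ ?_ hf
  · rintro _ ⟨i, rfl⟩
    exact Submodule.subset_span ⟨i, rfl⟩
  · simp
  · intro p q _ _ hp hq
    rw [map_add]
    exact Submodule.add_mem _ hp hq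
  · intro g p hp hDp
    have hp0 : eval a p = 0 := by
      have : Ideal.span (Set.range F) ≤ RingHom.ker (eval a) := by
        rw [Ideal.span_le]; rintro _ ⟨i, rfl⟩; exact hF i
      exact this hp
    rw [smul_eq_mul, D_mul, hp0, zero_smul, add_zero]
    exact Submodule.smul_mem _ _ hDp

theorem ell_mem_iff {r : ℕ} (F : Fin r → MvPolynomial (Fin n) k)
    (hF : ∀ i, eval a (F i) = 0) (c : Fin n → k) :
    ell a c ∈ nn a ^ 2 ⊔ Ideal.span (Set.range F) ↔
      c ∈ Submodule.span k (Set.range fun i => D a (F i)) := by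
  constructor
  · intro h
    obtain ⟨p, hp, q, hq, hpq⟩ := Submodule.mem_sup.mp h
    have : c = D a q := by
      rw [← D_ell a c, ← hpq, map_add, D_eq_zero_of_mem_sq a hp, zero_add]
    rw [this]
    exact D_mem_of_mem_span a F hF hq
  · intro h
    refine Submodule.span_induction ?_ ?_ ?_ ?_ h
    · rintro _ ⟨i, rfl⟩
      have h1 := taylor a (F i)
      rw [hF i, map_zero, sub_zero] at h1
      have : ell a (D a (F i)) = -(F i - ell a (D a (F i))) + F i := by ring
      rw [this]
      exact Submodule.add_mem_sup (Ideal.neg_mem_iff _ |>.mpr h1) (Ideal.subset_span ⟨i, rfl⟩)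
    · rw [map_zero]; exact Submodule.zero_mem _
    · intro x y _ _ hx hy
      rw [map_add]; exact Submodule.add_mem _ hx hy
    · intro t x _ hx
      rw [map_smul, MvPolynomial.smul_eq_C_mul]
      exact Ideal.mul_mem_left _ _ hx

end Groth.Agent.Lib.Helper24.JacRat1
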