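import Groth.Agent.Lib.Helper24.JacRat1

/-!
# Jacobian criterion at a rational point: dimension of the cotangent space (helper24)
-/

set_option autoImplicit false
universe u

namespace Groth.Agent.Lib.Helper24.JacRat2

open MvPolynomial IsLocalRing
open Groth.Agent.Lib.Helper24.JacRat1

theorem sum_aux {R : Type*} [CommRing R] {n : ℕ} (b o m : Fin n → R) :
    ∑ j, b j * m j - ∑ j, o j * m j = -∑ j, (o j - b j) * m j := by
  rw [← Finset.sum_sub_distrib, ← Finset.sum_neg_distrib]
  exact Finset.sum_congr rfl fun j _ => by ring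

section

variable {k : Type u} [Field k] {n r : ℕ}
    (F : Fin r → MvPolynomial (Fin n) k) (a : Fin n → k)
    (𝔪 : Ideal (MvPolynomial (Fin n) k ⧸ Ideal.span (Set.range F))) [𝔪.IsMaximal]
    (h𝔪 : 𝔪.comap (Ideal.Quotient.mk (Ideal.span (Set.range F))) = RingHom.ker (MvPolynomial.eval a))

include h𝔪

theorem eval_F (i : Fin r) : eval a (F i) = 0 := by
  have : F i ∈ 𝔪.comap (Ideal.Quotient.mk (Ideal.span (Set.range F))) := by
    rw [Ideal.mem_comap,
      Ideal.Quotient.eq_zero_iff_mem.mpr (Ideal.subset_span (Set.mem_range_self i))]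
    exact Ideal.zero_mem _
  rw [h𝔪] at this
  exact this

theorem m_eq : 𝔪 = (nn a).map (Ideal.Quotient.mk (Ideal.span (Set.range F))) := by
  rw [← ker_eval, ← h𝔪, Ideal.map_comap_of_surjective _ Ideal.Quotient.mk_surjective]

theorem max_eq : maximalIdeal (Localization.AtPrime 𝔪) =
    (nn a).map (algebraMap (MvPolynomial (Fin n) k) (Localization.AtPrime 𝔪)) := by
  rw [← Localization.AtPrime.map_eq_maximalIdeal, IsScalarTower.algebraMap_eq
    (MvPolynomial (Fin n) k) (MvPolynomial (Fin n) k ⧸ Ideal.span (Set.range F))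
    (Localization.AtPrime 𝔪), ← Ideal.map_map, Ideal.Quotient.algebraMap_eq, ← m_eq F a 𝔪 h𝔪]

theorem algebraMap_mem_max {f : MvPolynomial (Fin n) k} (hf : f ∈ nn a) :
    algebraMap (MvPolynomial (Fin n) k) (Localization.AtPrime 𝔪) f ∈
      maximalIdeal (Localization.AtPrime 𝔪) := by
  rw [max_eq F a 𝔪 h𝔪]
  exact Ideal.mem_map_of_mem _ hf

theorem mem_sq_iff (f : MvPolynomial (Fin n) k) :
    algebraMap (MvPolynomial (Fin n) k) (Localization.AtPrime 𝔪) f ∈
      maximalIdeal (Localization.AtPrime 𝔪) ^ 2 ↔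
    f ∈ nn a ^ 2 ⊔ Ideal.span (Set.range F) := by
  have h1 : algebraMap (MvPolynomial (Fin n) k) (Localization.AtPrime 𝔪) f ∈
      maximalIdeal (Localization.AtPrime 𝔪) ^ 2 ↔
      Ideal.Quotient.mk (Ideal.span (Set.range F)) f ∈ 𝔪 ^ 2 := by
    rw [← IsLocalization.AtPrime.under_maximalIdeal_pow 𝔪 (Localization.AtPrime 𝔪) 2,
      Ideal.under_def, Ideal.mem_comap]
    rfl
  rw [h1, m_eq F a 𝔪 h𝔪, ← Ideal.map_pow, ← Ideal.mem_comap,
    Ideal.comap_map_of_surjective _ Ideal.Quotient.mk_surjective, ← RingHom.ker_eq_comap_bot,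
    Ideal.mk_ker]

theorem exists_sub_mem (o : Localization.AtPrime 𝔪) :
    ∃ c : k, o - algebraMap k (Localization.AtPrime 𝔪) c ∈ maximalIdeal (Localization.AtPrime 𝔪) := by
  obtain ⟨x, hx⟩ := (IsLocalization.AtPrime.equivQuotMaximalIdeal 𝔪 (Localization.AtPrime 𝔪)).surjective
    (Ideal.Quotient.mk _ o)
  obtain ⟨x, rfl⟩ := Ideal.Quotient.mk_surjective x
  obtain ⟨f, rfl⟩ := Ideal.Quotient.mk_surjective x
  rw [IsLocalization.AtPrime.equivQuotMaximalIdeal_apply_mk, Ideal.Quotient.eq] at hx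
  refine ⟨eval a f, ?_⟩
  have h2 : f - C (eval a f) ∈ nn a := by
    rw [← ker_eval, RingHom.mem_ker]; simp
  have h3 := algebraMap_mem_max F a 𝔪 h𝔪 h2
  have h4 : o - algebraMap k (Localization.AtPrime 𝔪) (eval a f) =
      algebraMap (MvPolynomial (Fin n) k) (Localization.AtPrime 𝔪) (f - C (eval a f)) -
      (algebraMap (MvPolynomial (Fin n) k ⧸ Ideal.span (Set.range F)) (Localization.AtPrime 𝔪)
        (Ideal.Quotient.mk _ f) - o) := by
    rw [map_sub, IsScalarTower.algebraMap_apply (MvPolynomial (Fin n) k)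
      (MvPolynomial (Fin n) k ⧸ Ideal.span (Set.range F)) (Localization.AtPrime 𝔪) f,
      Ideal.Quotient.algebraMap_eq,
      IsScalarTower.algebraMap_apply k (MvPolynomial (Fin n) k) (Localization.AtPrime 𝔪),
      MvPolynomial.algebraMap_eq]
    ring
  rw [h4]
  exact Ideal.sub_mem _ h3 hx

/-- The `k`-linear map `kⁿ → 𝔪/𝔪²`, `c ↦ class of Σ c_j (T_j - a_j)`. -/
noncomputable def psi : (Fin n → k) →ₗ[k] CotangentSpace (Localization.AtPrime 𝔪) where
  toFun c := (maximalIdeal (Localization.AtPrime 𝔪)).toCotangent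
    ⟨algebraMap (MvPolynomial (Fin n) k) (Localization.AtPrime 𝔪) (ell a c),
      algebraMap_mem_max F a 𝔪 h𝔪 (ell_mem a c)⟩
  map_add' c d := by
    rw [← map_add]
    congr 1
    ext
    simp [map_add]
  map_smul' t c := by
    rw [RingHom.id_apply, ← LinearMap.map_smul_of_tower]
    congr 1
    ext
    show algebraMap (MvPolynomial (Fin n) k) (Localization.AtPrime 𝔪) (ell a (t • c)) =
      t • algebraMap (MvPolynomial (Fin n) k) (Localization.AtPrime 𝔪) (ell a c)
    rw [map_smul]
    exact map_smul (IsScalarTower.toAlgHom k (MvPolynomial (Fin n) k) (Localization.AtPrime 𝔪)) t _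

theorem psi_apply (c : Fin n → k) : psi F a 𝔪 h𝔪 c =
    (maximalIdeal (Localization.AtPrime 𝔪)).toCotangent
    ⟨algebraMap (MvPolynomial (Fin n) k) (Localization.AtPrime 𝔪) (ell a c),
      algebraMap_mem_max F a 𝔪 h𝔪 (ell_mem a c)⟩ := rfl

theorem ker_psi : LinearMap.ker (psi F a 𝔪 h𝔪) =
    Submodule.span k (Set.range fun i => D a (F i)) := by
  ext c
  rw [LinearMap.mem_ker, psi_apply, Ideal.toCotangent_eq_zero, mem_sq_iff F a 𝔪 h𝔪,
    ell_mem_iff a F (eval_F F a 𝔪 h𝔪)]

theorem psi_surjective : Function.Surjective (psi F a 𝔪 h𝔪) := by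
  intro y
  obtain ⟨⟨x, hx⟩, rfl⟩ := Ideal.toCotangent_surjective _ y
  have hx' := hx
  rw [max_eq F a 𝔪 h𝔪, nn, Ideal.map_span, ← Set.range_comp,
    Ideal.mem_span_range_iff_exists_fun] at hx'
  obtain ⟨o, ho⟩ := hx'
  choose c hc using fun j => exists_sub_mem F a 𝔪 h𝔪 (o j)
  refine ⟨c, ?_⟩
  rw [psi_apply, Ideal.toCotangent_eq]
  simp only
  have : algebraMap (MvPolynomial (Fin n) k) (Localization.AtPrime 𝔪) (ell a c) - x =
      - ∑ j, (o j - algebraMap k (Localization.AtPrime 𝔪) (c j)) *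
        algebraMap (MvPolynomial (Fin n) k) (Localization.AtPrime 𝔪) (X j - C (a j)) := by
    have e1 : algebraMap (MvPolynomial (Fin n) k) (Localization.AtPrime 𝔪) (ell a c) =
        ∑ j, algebraMap k (Localization.AtPrime 𝔪) (c j) *
          algebraMap (MvPolynomial (Fin n) k) (Localization.AtPrime 𝔪) (X j - C (a j)) := by
      rw [ell_apply, map_sum]
      refine Finset.sum_congr rfl fun j _ => ?_
      rw [map_mul,
        IsScalarTower.algebraMap_apply k (MvPolynomial (Fin n) k) (Localization.AtPrime 𝔪),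
        MvPolynomial.algebraMap_eq]
    have e2 : x = ∑ j, o j *
          algebraMap (MvPolynomial (Fin n) k) (Localization.AtPrime 𝔪) (X j - C (a j)) := by
      rw [← ho]; rfl
    rw [e1, e2]
    exact sum_aux (R := Localization.AtPrime 𝔪)
      (fun j => algebraMap k (Localization.AtPrime 𝔪) (c j)) o
      (fun j => algebraMap (MvPolynomial (Fin n) k) (Localization.AtPrime 𝔪) (X j - C (a j)))
  rw [this, sq]
  refine Ideal.neg_mem_iff _ |>.mpr (Ideal.sum_mem _ fun j _ => ?_)
  exact Ideal.mul_mem_mul (hc j) (algebraMap_mem_max F a 𝔪 h𝔪 (X_sub_C_mem a j))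

theorem finrank_k_add_rank :
    Module.finrank k (CotangentSpace (Localization.AtPrime 𝔪)) +
      (Matrix.of fun i j => MvPolynomial.eval a (MvPolynomial.pderiv j (F i))).rank = n := by
  have h1 := LinearMap.finrank_range_add_finrank_ker (psi F a 𝔪 h𝔪)
  rw [LinearMap.range_eq_top.mpr (psi_surjective F a 𝔪 h𝔪), finrank_top, ker_psi,
    Module.finrank_fin_fun] at h1
  rw [Matrix.rank_eq_finrank_span_row]
  have : (Matrix.of fun i j => MvPolynomial.eval a (MvPolynomial.pderiv j (F i))).row =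
      fun i => D a (F i) := by
    funext i j
    rw [D_apply]
    rfl
  rw [this]
  exact h1

theorem bijective_algebraMap :
    Function.Bijective (algebraMap k (ResidueField (Localization.AtPrime 𝔪))) := by
  refine ⟨(algebraMap k (ResidueField (Localization.AtPrime 𝔪))).injective, fun y => ?_⟩
  obtain ⟨o, rfl⟩ := IsLocalRing.residue_surjective y
  obtain ⟨c, hc⟩ := exists_sub_mem F a 𝔪 h𝔪 o
  refine ⟨c, ?_⟩
  show residue _ (algebraMap k (Localization.AtPrime 𝔪) c) = residue _ o
  symm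
  rw [← sub_eq_zero, ← map_sub]
  exact (IsLocalRing.residue_eq_zero_iff _).mpr hc

theorem finrank_eq :
    Module.finrank (ResidueField (Localization.AtPrime 𝔪))
      (CotangentSpace (Localization.AtPrime 𝔪)) =
    Module.finrank k (CotangentSpace (Localization.AtPrime 𝔪)) := by
  unfold Module.finrank
  congr 1
  symm
  refine rank_eq_of_equiv_equiv (algebraMap k (ResidueField (Localization.AtPrime 𝔪)))
    (AddEquiv.refl _) (bijective_algebraMap F a 𝔪 h𝔪) fun t x => ?_
  rw [AddEquiv.refl_apply, AddEquiv.refl_apply]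
  show t • x = residue _ (algebraMap k (Localization.AtPrime 𝔪) t) • x
  rw [← algebraMap_smul (Localization.AtPrime 𝔪) t x]
  rfl

/-- **Jacobian criterion at a rational point**: `dim 𝔪/𝔪² + rank J(a) = n`. -/
theorem main :
    Module.finrank (ResidueField (Localization.AtPrime 𝔪))
        (CotangentSpace (Localization.AtPrime 𝔪)) +
      (Matrix.of fun i j => MvPolynomial.eval a (MvPolynomial.pderiv j (F i))).rank = n := by
  rw [finrank_eq F a 𝔪 h𝔪]
  exact finrank_k_add_rank F a 𝔪 h𝔪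

end

end Groth.Agent.Lib.Helper24.JacRat2
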