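import Mathlib
import Groth.Prelude.Def_Found
import Groth.Agent.Lib.Helper13.PIns2
import Groth.Agent.Lib.Helper26.TotalFracNormal

/-!
# Stabilization of reduced base changes of finite subalgebras (helper24), part 1: ring lemmas
(EGA 0_IV 23.1.x)
-/

set_option autoImplicit false
universe u
open TensorProduct

namespace Groth.Agent.Lib.Helper24.JapStab

/-- N-1 for the quotient of a finite `B`-algebra by a prime whose contraction has N-2 quotient. -/
theorem finite_integralClosure_quotient (B R : Type u) [CommRing B] [CommRing R] [Algebra B R]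
    [Module.Finite B R] (p : Ideal R) [p.IsPrime]
    (hN2 : CAlg.IsN2 (B ⧸ p.comap (algebraMap B R))) :
    Module.Finite (R ⧸ p) (integralClosure (R ⧸ p) (FractionRing (R ⧸ p))) := by
  haveI : Module.Finite B (R ⧸ p) := inferInstance
  haveI : Module.Finite (B ⧸ p.comap (algebraMap B R)) (R ⧸ p) :=
    Module.Finite.of_restrictScalars_finite B _ _
  haveI : FaithfulSMul (B ⧸ p.comap (algebraMap B R)) (R ⧸ p) :=
    (faithfulSMul_iff_algebraMap_injective _ _).mpr Ideal.algebraMap_quotient_injective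
  exact Groth.Agent.Lib.helper13.PIns.finite_integralClosure_of_finite_injective
    hN2 (FractionRing (R ⧸ p)) (FractionRing (R ⧸ p))

theorem mk_mem_nonZeroDivisors_nilradical (R₀ : Type u) [CommRing R₀] (r : R₀)
    (hr : r ∈ nonZeroDivisors R₀) :
    Ideal.Quotient.mk (nilradical R₀) r ∈ nonZeroDivisors (R₀ ⧸ nilradical R₀) := by
  rw [mem_nonZeroDivisors_iff_right]
  intro y hy
  obtain ⟨y, rfl⟩ := Ideal.Quotient.mk_surjective y
  rw [← map_mul, Ideal.Quotient.eq_zero_iff_mem, mem_nilradical] at hy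
  obtain ⟨n, hn⟩ := hy
  rw [Ideal.Quotient.eq_zero_iff_mem, mem_nilradical]
  refine ⟨n, ?_⟩
  rw [mul_pow] at hn
  exact (mul_right_mem_nonZeroDivisors_eq_zero_iff (pow_mem hr n)).mp hn

theorem comap_mk_mem_minimalPrimes (R₀ : Type u) [CommRing R₀]
    (p : Ideal (R₀ ⧸ nilradical R₀)) (hp : p ∈ minimalPrimes (R₀ ⧸ nilradical R₀)) :
    p.comap (Ideal.Quotient.mk (nilradical R₀)) ∈ minimalPrimes R₀ := by
  have h1 : p.comap (Ideal.Quotient.mk (nilradical R₀)) ∈ (nilradical R₀).minimalPrimes := by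
    rw [Ideal.minimalPrimes_eq_comap]
    exact ⟨p, hp, rfl⟩
  refine ⟨⟨h1.1.1, bot_le⟩, ?_⟩
  rintro q' ⟨hq'prime, -⟩ hle
  exact h1.2 ⟨hq'prime, nilradical_le_prime q'⟩ hle

/-- Minimal primes of `R₀` contract to minimal primes of `B` when `R₀` embeds into a flat
`B`-algebra. -/
theorem comap_mem_minimalPrimes_of_flat (B R₀ T : Type u) [CommRing B] [CommRing R₀] [CommRing T]
    [Algebra B R₀] [Algebra B T] [Module.Flat B T] (φ : R₀ →+* T) (hφ : Function.Injective φ)
    (hcomp : φ.comp (algebraMap B R₀) = algebraMap B T)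
    (p₀ : Ideal R₀) (hp₀ : p₀ ∈ minimalPrimes R₀) :
    p₀.comap (algebraMap B R₀) ∈ minimalPrimes B := by
  haveI : p₀.IsPrime := hp₀.1.1
  have hker : (⊥ : Ideal T).comap φ = ⊥ := by
    rw [← RingHom.ker_eq_comap_bot]
    exact (RingHom.injective_iff_ker_eq_bot φ).mp hφ
  obtain ⟨P, hP, hPp⟩ := Ideal.exists_minimalPrimes_comap_eq φ p₀ (I := ⊥) (by rw [hker]; exact hp₀)
  haveI : P.IsPrime := hP.1.1
  have hq : p₀.comap (algebraMap B R₀) = P.comap (algebraMap B T) := by
    rw [← hPp, Ideal.comap_comap, hcomp]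
  rw [hq]
  refine ⟨⟨inferInstance, bot_le⟩, ?_⟩
  rintro q' ⟨hq'prime, -⟩ hle
  haveI := hq'prime
  haveI : P.LiesOver (P.comap (algebraMap B T)) := ⟨rfl⟩
  obtain ⟨P', hP'P, hP'prime, hP'lo⟩ :=
    Ideal.exists_ideal_le_liesOver_of_le (p := q') (q := P.comap (algebraMap B T)) P hle
  have hPP' : P ≤ P' := hP.2 ⟨hP'prime, bot_le⟩ hP'P
  have heq : P = P' := le_antisymm hPP' hP'P
  rw [heq]
  exact hP'lo.over.symm.le

end Groth.Agent.Lib.Helper24.JapStab
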