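import Mathlib
import Groth.Agent.Lib.Helper24.JapStab1

/-!
# Stabilization of reduced base changes of finite subalgebras (helper24), part 2:
the generic stabilization lemma (EGA 0_IV 23.1.x)

`R₀` a Noetherian ring, `R = R₀_red`, `T` a localization of `R₀` at nonzerodivisors.  If the
normalization of `R` is finite, any nonempty family of `R₀`-submodules of `T` made of integral
elements has a member `V₀` with `V ⊆ V₀ + nil(T)` for all members `V ⊇ V₀`.
-/

set_option autoImplicit false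
universe u
open TensorProduct

namespace Groth.Agent.Lib.Helper24.JapStab

section generic

variable (R₀ R T : Type u) [CommRing R₀] [CommRing R] [CommRing T]
  [Algebra R₀ R] [Algebra R₀ T]

theorem isReduced_of_ker (hsurj : Function.Surjective (algebraMap R₀ R))
    (hker : ∀ r : R₀, algebraMap R₀ R r = 0 ↔ IsNilpotent r) : IsReduced R := by
  refine ⟨fun x hx => ?_⟩
  obtain ⟨r, rfl⟩ := hsurj x
  obtain ⟨n, hn⟩ := hx
  rw [← map_pow, hker] at hn
  rw [hker]
  obtain ⟨m, hm⟩ := hn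
  exact ⟨n * m, by rw [pow_mul]; exact hm⟩

theorem map_mem_nonZeroDivisors_of_ker (hsurj : Function.Surjective (algebraMap R₀ R))
    (hker : ∀ r : R₀, algebraMap R₀ R r = 0 ↔ IsNilpotent r) (s : R₀)
    (hs : s ∈ nonZeroDivisors R₀) : algebraMap R₀ R s ∈ nonZeroDivisors R := by
  rw [mem_nonZeroDivisors_iff_right]
  intro y hy
  obtain ⟨y, rfl⟩ := hsurj y
  rw [← map_mul, hker] at hy
  obtain ⟨n, hn⟩ := hy
  rw [hker]
  refine ⟨n, ?_⟩
  rw [mul_pow] at hn
  exact (mul_right_mem_nonZeroDivisors_eq_zero_iff (pow_mem hs n)).mp hn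

theorem stab_generic [IsNoetherianRing R₀]
    (hsurj : Function.Surjective (algebraMap R₀ R))
    (hker : ∀ r : R₀, algebraMap R₀ R r = 0 ↔ IsNilpotent r)
    (hN1 : ∀ (p : Ideal R) (_ : p ∈ minimalPrimes R),
      Module.Finite (R ⧸ p) (integralClosure (R ⧸ p) (FractionRing (R ⧸ p))))
    (S : Submonoid R₀) (hS : S ≤ nonZeroDivisors R₀) [IsLocalization S T]
    (𝒮 : Set (Submodule R₀ T)) (hne : 𝒮.Nonempty)
    (hint : ∀ V ∈ 𝒮, ∀ t ∈ V, IsIntegral R₀ t) :
    ∃ V₀ ∈ 𝒮, ∀ V ∈ 𝒮, V₀ ≤ V → ∀ y ∈ V, ∃ x ∈ V₀, IsNilpotent (x - y) := by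
  classical
  haveI : IsReduced R := isReduced_of_ker R₀ R hsurj hker
  haveI : IsNoetherianRing R := isNoetherianRing_of_surjective R₀ R (algebraMap R₀ R) hsurj
  have hfin : Module.Finite R (integralClosure R (FractionRing R)) :=
    Groth.Agent.Lib.helper26.TotalFrac.finite_integralClosure hN1
  -- the map `ψ : T → Q`
  let g : R₀ →+* FractionRing R := (algebraMap R (FractionRing R)).comp (algebraMap R₀ R)
  have hg : ∀ y : S, IsUnit (g y) := by
    intro y
    have h1 := map_mem_nonZeroDivisors_of_ker R₀ R hsurj hker y.1 (hS y.2)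
    exact IsLocalization.map_units (FractionRing R) ⟨_, h1⟩
  let ψ : T →+* FractionRing R := IsLocalization.lift hg
  have hψ : ∀ r : R₀, ψ (algebraMap R₀ T r) = g r := fun r => IsLocalization.lift_eq hg r
  have hψker : ∀ t : T, ψ t = 0 → IsNilpotent t := by
    intro t ht
    obtain ⟨⟨r, s⟩, hrs⟩ := IsLocalization.surj S t
    dsimp only at hrs
    have h1 : g r = 0 := by
      rw [← hψ, ← hrs, map_mul, ht, zero_mul]
    have h2 : algebraMap R₀ R r = 0 :=
      IsFractionRing.injective R (FractionRing R) (h1.trans (map_zero _).symm)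
    rw [hker] at h2
    have h3 : IsNilpotent (t * algebraMap R₀ T s) := by
      rw [hrs]; exact h2.map _
    obtain ⟨u, hu⟩ := IsLocalization.map_units T s
    obtain ⟨n, hn⟩ := h3
    refine ⟨n, ?_⟩
    rw [mul_pow, ← hu] at hn
    exact (Units.mul_left_eq_zero (u ^ n)).mp (by simpa using hn)
  have hgalg : algebraMap R₀ (FractionRing R) = g := IsScalarTower.algebraMap_eq _ _ _
  let ψa : T →ₐ[R₀] FractionRing R :=
    { ψ with commutes' := fun r => by rw [hgalg]; exact hψ r }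
  have hψa : ∀ t, ψa t = ψ t := fun _ => rfl
  -- the normalization as an `R₀`-submodule
  let J : Submodule R₀ (FractionRing R) :=
    (Subalgebra.toSubmodule (integralClosure R (FractionRing R))).restrictScalars R₀
  have hJfg : J.FG := by
    have h1 : (Subalgebra.toSubmodule (integralClosure R (FractionRing R))).FG :=
      Module.Finite.iff_fg.mp hfin
    obtain ⟨s, hs⟩ := h1
    refine ⟨s, ?_⟩
    rw [← Submodule.restrictScalars_span R₀ R hsurj, hs]
  haveI : IsNoetherian R₀ J := isNoetherian_of_fg_of_noetherian J hJfg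
  have hle : ∀ V ∈ 𝒮, Submodule.map ψa.toLinearMap V ≤ J := by
    rintro V hV _ ⟨t, ht, rfl⟩
    have h1 : IsIntegral R₀ (ψa t) := (hint V hV t ht).map ψa
    exact h1.tower_top
  -- maximal member
  let F : Set (Submodule R₀ J) :=
    { U | ∃ V ∈ 𝒮, U = Submodule.comap J.subtype (Submodule.map ψa.toLinearMap V) }
  have hFne : F.Nonempty := by
    obtain ⟨V, hV⟩ := hne
    exact ⟨_, V, hV, rfl⟩
  obtain ⟨U₀, ⟨V₀, hV₀, rfl⟩, hmax⟩ := set_has_maximal_iff_noetherian.mpr ‹_› F hFne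
  refine ⟨V₀, hV₀, ?_⟩
  intro V hV hV₀V y hy
  have hle2 : Submodule.comap J.subtype (Submodule.map ψa.toLinearMap V₀) ≤
      Submodule.comap J.subtype (Submodule.map ψa.toLinearMap V) :=
    Submodule.comap_mono (Submodule.map_mono hV₀V)
  have hnlt := hmax _ ⟨V, hV, rfl⟩
  have heq : Submodule.comap J.subtype (Submodule.map ψa.toLinearMap V₀) =
      Submodule.comap J.subtype (Submodule.map ψa.toLinearMap V) := by
    by_contra hne'
    exact hnlt (lt_of_le_of_ne hle2 hne')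
  have hyJ : ψa y ∈ J := hle V hV ⟨y, hy, rfl⟩
  have h1 : (⟨ψa y, hyJ⟩ : J) ∈ Submodule.comap J.subtype (Submodule.map ψa.toLinearMap V) :=
    ⟨y, hy, rfl⟩
  rw [← heq] at h1
  obtain ⟨x, hx, hxy⟩ := h1
  refine ⟨x, hx, hψker _ ?_⟩
  have h2 : ψa x = ψa y := hxy
  rw [map_sub, ← hψa, ← hψa, h2, sub_self]

end generic

section generic2

variable (B R₀ T : Type u) [CommRing B] [CommRing R₀] [CommRing T]
  [Algebra B R₀] [Module.Finite B R₀] [IsNoetherianRing B]
  [Algebra R₀ T] [Algebra B T] [IsScalarTower B R₀ T] [Module.Flat B T]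

theorem stab_generic2
    (hJ : ∀ (q : Ideal B) [q.IsPrime], q ∈ minimalPrimes B → CAlg.IsN2 (B ⧸ q))
    (hinj : Function.Injective (algebraMap R₀ T))
    (S : Submonoid R₀) (hS : S ≤ nonZeroDivisors R₀) [IsLocalization S T]
    (𝒮 : Set (Submodule R₀ T)) (hne : 𝒮.Nonempty)
    (hint : ∀ V ∈ 𝒮, ∀ t ∈ V, IsIntegral R₀ t) :
    ∃ V₀ ∈ 𝒮, ∀ V ∈ 𝒮, V₀ ≤ V → ∀ y ∈ V, ∃ x ∈ V₀, IsNilpotent (x - y) := by
  haveI : IsNoetherianRing R₀ := IsNoetherianRing.of_finite B R₀
  have hsurj : Function.Surjective (algebraMap R₀ (R₀ ⧸ nilradical R₀)) :=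
    Ideal.Quotient.mk_surjective
  have hker : ∀ r : R₀, algebraMap R₀ (R₀ ⧸ nilradical R₀) r = 0 ↔ IsNilpotent r := by
    intro r
    rw [Ideal.Quotient.algebraMap_eq, Ideal.Quotient.eq_zero_iff_mem, mem_nilradical]
  have hN1 : ∀ (p : Ideal (R₀ ⧸ nilradical R₀)) (_ : p ∈ minimalPrimes (R₀ ⧸ nilradical R₀)),
      Module.Finite ((R₀ ⧸ nilradical R₀) ⧸ p)
        (integralClosure ((R₀ ⧸ nilradical R₀) ⧸ p)
          (FractionRing ((R₀ ⧸ nilradical R₀) ⧸ p))) := by
    intro p hp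
    haveI : p.IsPrime := hp.1.1
    have hp₀ := comap_mk_mem_minimalPrimes R₀ p hp
    have hq := comap_mem_minimalPrimes_of_flat B R₀ T (algebraMap R₀ T) hinj
      (IsScalarTower.algebraMap_eq B R₀ T).symm _ hp₀
    haveI := hq.1.1
    have hN2 := hJ _ hq
    exact finite_integralClosure_quotient B _ p hN2
  exact stab_generic R₀ (R₀ ⧸ nilradical R₀) T hsurj hker hN1 S hS 𝒮 hne hint

end generic2

end Groth.Agent.Lib.Helper24.JapStab
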