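import Mathlib
import Groth.Agent.Lib.Helper24.JapStab2

/-!
# Stabilization of reduced base changes of finite subalgebras (helper24), part 3:
application to `B ⊗[A] C`, `C` running through the finite subalgebras of `K'` (EGA 0_IV 23.1.x)
-/

set_option autoImplicit false
universe u
open TensorProduct

namespace Groth.Agent.Lib.Helper24.JapStab

section app

variable (A : Type u) [CommRing A]
  (B : Type u) [CommRing B] [Algebra A B]
  (K' : Type u) [Field K'] [Algebra A K']

/-- the inclusion `B ⊗ C → B ⊗ K'`. -/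
noncomputable def φ (C : Subalgebra A K') : B ⊗[A] C →ₐ[B] B ⊗[A] K' :=
  Algebra.TensorProduct.map (AlgHom.id B B) C.val

theorem φ_injective [Module.Flat A B] (C : Subalgebra A K') :
    Function.Injective (φ A B K' C) := by
  have := Module.Flat.lTensor_preserves_injective_linearMap (M := B) C.val.toLinearMap
    Subtype.val_injective
  exact this

theorem φ_comp {C C' : Subalgebra A K'} (hle : C ≤ C') (x : B ⊗[A] C) :
    φ A B K' C' (Algebra.TensorProduct.map (AlgHom.id B B) (Subalgebra.inclusion hle) x) =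
      φ A B K' C x := by
  induction x using TensorProduct.induction_on with
  | zero => simp
  | tmul b c => simp [φ]
  | add x y hx hy => simp only [map_add, hx, hy]

/-- nonzero elements of `C₀` are nonzerodivisors on `B ⊗ C₀`. -/
theorem one_tmul_mem_nonZeroDivisors [Module.Flat A B] (C₀ : Subalgebra A K') (c : C₀)
    (hc : c ≠ 0) :
    (1 : B) ⊗ₜ[A] c ∈ nonZeroDivisors (B ⊗[A] C₀) := by
  have key : ∀ y : B ⊗[A] C₀,
      (LinearMap.lTensor B (LinearMap.mulLeft A c)) y = y * ((1 : B) ⊗ₜ[A] c) := by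
    intro y
    induction y using TensorProduct.induction_on with
    | zero => simp
    | tmul b d =>
      rw [LinearMap.lTensor_tmul, Algebra.TensorProduct.tmul_mul_tmul, mul_one,
        LinearMap.mulLeft_apply, mul_comm]
    | add x y hx hy => rw [map_add, hx, hy, add_mul]
  rw [mem_nonZeroDivisors_iff_right]
  intro y hy
  have hinj : Function.Injective (LinearMap.mulLeft A c) := by
    intro a b hab
    exact mul_left_cancel₀ hc hab
  have h2 := Module.Flat.lTensor_preserves_injective_linearMap (M := B) (LinearMap.mulLeft A c) hinj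
  apply h2
  rw [map_zero, key]
  exact hy

/-- the property of the subalgebras in the family. -/
def PC (C : Subalgebra A K') : Prop :=
  Module.Finite A C ∧ ∀ x : K', ∃ a b : C, (b : K') ≠ 0 ∧ x * b = a

theorem isFractionRing_of_PC (C : Subalgebra A K') (h : PC A K' C) : IsFractionRing C K' := by
  refine IsFractionRing.of_field (R := C) (K := K') ?_
  intro z
  obtain ⟨a, b, hb, hab⟩ := h.2 z
  refine ⟨a, b, ?_⟩
  show z = (a : K') / (b : K')
  rw [eq_div_iff hb]
  exact hab

theorem PC_mono {C C' : Subalgebra A K'} (hle : C ≤ C') (h : PC A K' C)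
    (hfin : Module.Finite A C') : PC A K' C' := by
  refine ⟨hfin, fun x => ?_⟩
  obtain ⟨a, b, hb, hab⟩ := h.2 x
  exact ⟨Subalgebra.inclusion hle a, Subalgebra.inclusion hle b, hb, hab⟩

end app

section main

variable (A : Type u) [CommRing A] [IsDomain A]
  (B : Type u) [CommRing B] [Algebra A B] [Module.Flat A B] [IsNoetherianRing B]
  (K' : Type u) [Field K'] [Algebra A K'] [Module.Flat A K']

theorem isNilpotent_of_map_injective {X Y : Type u} [CommRing X] [CommRing Y] (f : X →+* Y)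
    (hf : Function.Injective f) (x : X) (h : IsNilpotent (f x)) : IsNilpotent x := by
  obtain ⟨n, hn⟩ := h
  refine ⟨n, hf ?_⟩
  rw [map_pow, hn, map_zero]

omit [IsDomain A] in
theorem stab_tensor
    (hJ : ∀ (q : Ideal B) [q.IsPrime], q ∈ minimalPrimes B → CAlg.IsN2 (B ⧸ q))
    (C₀ : Subalgebra A K') (hC₀ : PC A K' C₀) :
    ∃ Cα : Subalgebra A K', PC A K' Cα ∧ C₀ ≤ Cα ∧
      ∀ C : Subalgebra A K', PC A K' C → ∀ hle : Cα ≤ C, ∀ y : B ⊗[A] C, ∃ x : B ⊗[A] Cα,
        IsNilpotent
          (Algebra.TensorProduct.map (AlgHom.id B B) (Subalgebra.inclusion hle) x - y) := by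
  classical
  haveI : Module.Finite A C₀ := hC₀.1
  haveI : IsFractionRing C₀ K' := isFractionRing_of_PC A K' C₀ hC₀
  letI : Algebra (B ⊗[A] C₀) (B ⊗[A] K') := (φ A B K' C₀).toRingHom.toAlgebra
  have halg : ∀ r : B ⊗[A] C₀, algebraMap (B ⊗[A] C₀) (B ⊗[A] K') r = φ A B K' C₀ r :=
    fun _ => rfl
  haveI : IsScalarTower B (B ⊗[A] C₀) (B ⊗[A] K') :=
    IsScalarTower.of_algebraMap_eq (fun b => ((φ A B K' C₀).commutes b).symm)
  have H : (algebraMap (B ⊗[A] C₀) (B ⊗[A] K')).comp
      (Algebra.TensorProduct.includeRight (R := A) (A := B) (B := C₀)).toRingHom =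
      (Algebra.TensorProduct.includeRight (R := A) (A := B) (B := K')).toRingHom.comp
        (algebraMap C₀ K') := by
    ext c
    simp [halg, φ]
  haveI hloc : IsLocalization ((nonZeroDivisors C₀).map
      (Algebra.TensorProduct.includeRight (R := A) (A := B))) (B ⊗[A] K') :=
    IsLocalization.tensorProduct_tensorProduct_right A B (nonZeroDivisors C₀) K' H
  haveI : Module.Flat B (B ⊗[A] K') := inferInstance
  haveI : Module.Finite B (B ⊗[A] C₀) := inferInstance
  have hS : (nonZeroDivisors C₀).map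
      (Algebra.TensorProduct.includeRight (R := A) (A := B)) ≤ nonZeroDivisors (B ⊗[A] C₀) := by
    rintro _ ⟨c, hc, rfl⟩
    exact one_tmul_mem_nonZeroDivisors A B K' C₀ c (nonZeroDivisors.ne_zero hc)
  let Vof : ∀ C : Subalgebra A K', C₀ ≤ C → Submodule (B ⊗[A] C₀) (B ⊗[A] K') := fun C hle =>
    { carrier := Set.range (φ A B K' C)
      add_mem' := by rintro _ _ ⟨x, rfl⟩ ⟨y, rfl⟩; exact ⟨x + y, map_add _ _ _⟩
      zero_mem' := ⟨0, map_zero _⟩
      smul_mem' := by
        rintro r _ ⟨x, rfl⟩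
        refine ⟨Algebra.TensorProduct.map (AlgHom.id B B) (Subalgebra.inclusion hle) r * x, ?_⟩
        rw [map_mul, φ_comp, Algebra.smul_def, halg] }
  have hVof : ∀ (C : Subalgebra A K') (hle : C₀ ≤ C) (t : B ⊗[A] K'),
      t ∈ Vof C hle ↔ ∃ x, φ A B K' C x = t := fun _ _ _ => Iff.rfl
  let 𝒮 : Set (Submodule (B ⊗[A] C₀) (B ⊗[A] K')) :=
    { V | ∃ (C : Subalgebra A K') (hle : C₀ ≤ C), PC A K' C ∧ V = Vof C hle }
  have hne : 𝒮.Nonempty := ⟨_, C₀, le_refl _, hC₀, rfl⟩
  have hint : ∀ V ∈ 𝒮, ∀ t ∈ V, IsIntegral (B ⊗[A] C₀) t := by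
    rintro _ ⟨C, hle, hC, rfl⟩ t ht
    obtain ⟨x, rfl⟩ := (hVof C hle t).mp ht
    haveI : Module.Finite A C := hC.1
    haveI : Module.Finite B (B ⊗[A] C) := inferInstance
    have h1 : IsIntegral B x := Algebra.IsIntegral.isIntegral x
    have h2 : IsIntegral B (φ A B K' C x) := h1.map (φ A B K' C)
    exact h2.tower_top
  obtain ⟨_, ⟨Cα, hα, hPα, rfl⟩, hmax⟩ := stab_generic2 B (B ⊗[A] C₀) (B ⊗[A] K') hJ
    (φ_injective A B K' C₀) _ hS 𝒮 hne hint
  refine ⟨Cα, hPα, hα, ?_⟩
  intro C hC hle y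
  have hV : Vof C (hα.trans hle) ∈ 𝒮 := ⟨C, hα.trans hle, hC, rfl⟩
  have hVle : Vof Cα hα ≤ Vof C (hα.trans hle) := by
    intro t ht
    obtain ⟨x, rfl⟩ := (hVof Cα hα t).mp ht
    exact (hVof C (hα.trans hle) _).mpr ⟨_, φ_comp A B K' hle x⟩
  obtain ⟨_, hx, hnil⟩ := hmax _ hV hVle (φ A B K' C y)
    ((hVof C (hα.trans hle) _).mpr ⟨y, rfl⟩)
  obtain ⟨x, rfl⟩ := (hVof Cα hα _).mp hx
  refine ⟨x, ?_⟩
  apply isNilpotent_of_map_injective (φ A B K' C).toRingHom (φ_injective A B K' C)
  show IsNilpotent (φ A B K' C _)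
  rw [map_sub, φ_comp]
  exact hnil

end main

end Groth.Agent.Lib.Helper24.JapStab
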