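import Mathlib
import Groth.Agent.Lib.Helper24.JapStab3

/-!
# Stabilization of reduced base changes of finite subalgebras (helper24), part 4:
the final form (EGA 0_IV 23.1.x), with the radiciality clause
-/

set_option autoImplicit false
universe u
open TensorProduct AlgebraicGeometry CategoryTheory

namespace Groth.Agent.Lib.Helper24.JapStab

section specIff

variable {A C : Type u} [CommRing A] [CommRing C] (ψ : A →+* C)

theorem universallyInjective_Spec_of
    (h : ∀ (K : Type u) [Field K] (χ₁ χ₂ : C →+* K), χ₁.comp ψ = χ₂.comp ψ → χ₁ = χ₂) :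
    UniversallyInjective (Spec.map (CommRingCat.ofHom ψ)) := by
  refine ((tfae_universallyInjective _).out 0 1).2 ?_
  intro K _ g₁ g₂ hg
  obtain ⟨φ₁, rfl⟩ := Spec.map_surjective g₁
  obtain ⟨φ₂, rfl⟩ := Spec.map_surjective g₂
  dsimp only at hg
  rw [← Spec.map_comp, ← Spec.map_comp] at hg
  have := Spec.map_injective hg
  have h3 : φ₁.hom.comp ψ = φ₂.hom.comp ψ := by
    have := congrArg CommRingCat.Hom.hom this
    simpa using this
  have h4 := h K φ₁.hom φ₂.hom h3
  congr 1
  exact CommRingCat.hom_ext h4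

end specIff

section core

variable (A : Type u) [CommRing A] (B : Type u) [CommRing B] [Algebra A B]
  (K' : Type u) [Field K'] [Algebra A K']

theorem eq_of_nilpotent [Module.FaithfullyFlat A B]
    {Cα C : Subalgebra A K'} (hle : Cα ≤ C) (s : C) (x : B ⊗[A] Cα)
    (hx : IsNilpotent (Algebra.TensorProduct.map (AlgHom.id B B) (Subalgebra.inclusion hle) x -
      (1 : B) ⊗ₜ[A] s))
    (Ω : Type u) [Field Ω] [Algebra A Ω] (f₁ f₂ : C →ₐ[A] Ω)
    (hf : ∀ c : Cα, f₁ (Subalgebra.inclusion hle c) = f₂ (Subalgebra.inclusion hle c)) :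
    f₁ s = f₂ s := by
  by_contra hne
  let θ₁ : B ⊗[A] C →ₐ[B] B ⊗[A] Ω := Algebra.TensorProduct.map (AlgHom.id B B) f₁
  let θ₂ : B ⊗[A] C →ₐ[B] B ⊗[A] Ω := Algebra.TensorProduct.map (AlgHom.id B B) f₂
  have hagree : ∀ z : B ⊗[A] Cα,
      θ₁ (Algebra.TensorProduct.map (AlgHom.id B B) (Subalgebra.inclusion hle) z) =
      θ₂ (Algebra.TensorProduct.map (AlgHom.id B B) (Subalgebra.inclusion hle) z) := by
    intro z
    induction z using TensorProduct.induction_on with
    | zero => simp
    | tmul b c => simp [θ₁, θ₂, hf c]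
    | add z w hz hw => simp only [map_add, hz, hw]
  have h1 := hx.map θ₁
  have h2 := hx.map θ₂
  have h3 : θ₂ (Algebra.TensorProduct.map (AlgHom.id B B) (Subalgebra.inclusion hle) x -
      (1 : B) ⊗ₜ[A] s) - θ₁ (Algebra.TensorProduct.map (AlgHom.id B B)
        (Subalgebra.inclusion hle) x - (1 : B) ⊗ₜ[A] s) = (1 : B) ⊗ₜ[A] (f₁ s - f₂ s) := by
    rw [map_sub, map_sub, hagree]
    simp [θ₁, θ₂, TensorProduct.tmul_sub]
  have h4 : IsNilpotent ((1 : B) ⊗ₜ[A] (f₁ s - f₂ s)) := by
    rw [← h3]
    exact (Commute.all _ _).isNilpotent_sub h2 h1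
  have hunit : IsUnit ((1 : B) ⊗ₜ[A] (f₁ s - f₂ s)) := by
    have h5 : IsUnit (f₁ s - f₂ s) := (sub_ne_zero.mpr hne).isUnit
    exact h5.map (Algebra.TensorProduct.includeRight : Ω →ₐ[A] B ⊗[A] Ω)
  haveI : Nontrivial (B ⊗[A] Ω) :=
    (Module.FaithfullyFlat.nontrivial_tensorProduct_iff_right A B).mpr inferInstance
  obtain ⟨n, hn⟩ := h4
  have h6 := hunit.pow n
  rw [hn] at h6
  exact not_isUnit_zero h6

theorem comm_map {C C' : Subalgebra A K'} (hle : C ≤ C') (x : B ⊗[A] C) :
    Algebra.TensorProduct.comm A B C'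
      (Algebra.TensorProduct.map (AlgHom.id B B) (Subalgebra.inclusion hle) x) =
    Algebra.TensorProduct.map (Subalgebra.inclusion hle) (AlgHom.id A B)
      (Algebra.TensorProduct.comm A B C x) := by
  induction x using TensorProduct.induction_on with
  | zero => simp
  | tmul b c => simp
  | add x y hx hy => simp only [map_add, hx, hy]

end core

section main

variable (A : Type u) [CommRing A]
  (B : Type u) [CommRing B] [Algebra A B] [Module.Flat A B] [IsNoetherianRing B]
  (K' : Type u) [Field K'] [Algebra A K'] [Module.Flat A K']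

theorem main
    (hJ : ∀ (q : Ideal B) [q.IsPrime], q ∈ minimalPrimes B → CAlg.IsN2 (B ⧸ q))
    (hex : ∃ C₀ : Subalgebra A K', PC A K' C₀) :
    ∃ Cα : Subalgebra A K', PC A K' Cα ∧
      (∀ C : Subalgebra A K', PC A K' C → ∀ hle : Cα ≤ C,
        (∀ x : ↥Cα ⊗[A] B, IsNilpotent (Algebra.TensorProduct.map (Subalgebra.inclusion hle)
            (AlgHom.id A B) x) → IsNilpotent x) ∧
        (∀ y : ↥C ⊗[A] B, ∃ x : ↥Cα ⊗[A] B,
          IsNilpotent (Algebra.TensorProduct.map (Subalgebra.inclusion hle)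
            (AlgHom.id A B) x - y))) ∧
      (Module.FaithfullyFlat A B → ∀ hint : Cα ≤ integralClosure A K',
        UniversallyInjective
          (Spec.map (CommRingCat.ofHom (Subalgebra.inclusion hint).toRingHom))) := by
  classical
  obtain ⟨C₀, hC₀⟩ := hex
  obtain ⟨Cα, hPα, -, hstab⟩ := stab_tensor A B K' hJ C₀ hC₀
  refine ⟨Cα, hPα, ?_, ?_⟩
  · intro C hC hle
    constructor
    · intro x hx
      have hinj : Function.Injective (Algebra.TensorProduct.map (Subalgebra.inclusion hle)
          (AlgHom.id A B)) :=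
        Module.Flat.rTensor_preserves_injective_linearMap (M := B)
          (Subalgebra.inclusion hle).toLinearMap (Subalgebra.inclusion_injective hle)
      exact isNilpotent_of_map_injective (Algebra.TensorProduct.map (Subalgebra.inclusion hle)
          (AlgHom.id A B)).toRingHom hinj x hx
    · have key : ∀ y : ↥C ⊗[A] B,
          Algebra.TensorProduct.comm A B C (Algebra.TensorProduct.comm A C B y) = y := by
        intro y
        induction y using TensorProduct.induction_on with
        | zero => simp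
        | tmul c b => simp
        | add y z hy hz => simp only [map_add, hy, hz]
      intro y
      obtain ⟨x', hx'⟩ := hstab C hC hle (Algebra.TensorProduct.comm A C B y)
      refine ⟨Algebra.TensorProduct.comm A B Cα x', ?_⟩
      rw [← comm_map]
      have h1 := hx'.map (Algebra.TensorProduct.comm A B C)
      rw [map_sub, key] at h1
      exact h1
  · intro hff hint
    haveI := hff
    apply universallyInjective_Spec_of
    intro Ω _ χ₁ χ₂ hχ
    letI : Algebra A Ω := (χ₁.comp (algebraMap A (integralClosure A K'))).toAlgebra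
    ext ⟨s, hs⟩
    have hsfin : Module.Finite A (Algebra.adjoin A {s}) :=
      Module.Finite.iff_fg.mpr (IsIntegral.fg_adjoin_singleton hs)
    haveI : Module.Finite A Cα := hPα.1
    have hfin : Module.Finite A ↥(Cα ⊔ Algebra.adjoin A {s}) := Subalgebra.finite_sup _ _
    have hle : Cα ≤ Cα ⊔ Algebra.adjoin A {s} := le_sup_left
    have hC : PC A K' (Cα ⊔ Algebra.adjoin A {s}) := PC_mono A K' hle hPα hfin
    have hCA' : Cα ⊔ Algebra.adjoin A {s} ≤ integralClosure A K' :=
      sup_le hint (Algebra.adjoin_le (by simpa using hs))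
    have hsC : s ∈ Cα ⊔ Algebra.adjoin A {s} :=
      (le_sup_right : Algebra.adjoin A {s} ≤ _) (Algebra.subset_adjoin (Set.mem_singleton s))
    obtain ⟨x, hx⟩ := hstab _ hC hle ((1 : B) ⊗ₜ[A] (⟨s, hsC⟩ : ↥(Cα ⊔ Algebra.adjoin A {s})))
    let f₁ : ↥(Cα ⊔ Algebra.adjoin A {s}) →ₐ[A] Ω :=
      { toRingHom := χ₁.comp (Subalgebra.inclusion hCA').toRingHom
        commutes' := fun a => rfl }
    let f₂ : ↥(Cα ⊔ Algebra.adjoin A {s}) →ₐ[A] Ω :=
      { toRingHom := χ₂.comp (Subalgebra.inclusion hCA').toRingHom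
        commutes' := fun a => by
          have h1 := RingHom.congr_fun hχ (algebraMap A Cα a)
          exact h1.symm }
    have hf : ∀ c : Cα, f₁ (Subalgebra.inclusion hle c) = f₂ (Subalgebra.inclusion hle c) :=
      fun c => RingHom.congr_fun hχ c
    exact eq_of_nilpotent A B K' hle ⟨s, hsC⟩ x hx Ω f₁ f₂ hf

end main

end Groth.Agent.Lib.Helper24.JapStab
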