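import Mathlib
import Groth.Agent.Lib.Helper24.JapStab4

/-!
# Consequences of the stabilization theorem for the integral closure of a Noetherian local domain
(helper24): `A'` is semi-local with residue fields finite over `A` (EGA 0_IV 23.2.x)
-/

set_option autoImplicit false
universe u
open TensorProduct IsLocalRing

namespace Groth.Agent.Lib.Helper24.JapStab

section semilocal

variable (A : Type u) [CommRing A] [IsLocalRing A] [IsNoetherianRing A]
  (K' : Type u) [Field K'] [Algebra A K']

omit [IsNoetherianRing A] in
/-- Key lemma: modulo the maximal ideal of `A`, every reduced quotient of `A'` is already a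
quotient of `Cα`. -/
theorem exists_eq_of_isReduced (Cα : Subalgebra A K') (hPα : PC A K' Cα)
    (hstab : ∀ C : Subalgebra A K', PC A K' C → ∀ hle : Cα ≤ C,
      ∀ y : ↥C ⊗[A] AdicCompletion (maximalIdeal A) A,
        ∃ x : ↥Cα ⊗[A] AdicCompletion (maximalIdeal A) A,
          IsNilpotent (Algebra.TensorProduct.map (Subalgebra.inclusion hle)
            (AlgHom.id A (AdicCompletion (maximalIdeal A) A)) x - y))
    (hint : Cα ≤ integralClosure A K')
    (F : Type u) [CommRing F] [IsReduced F] (π : integralClosure A K' →+* F)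
    (hπ : ∀ a ∈ maximalIdeal A, π (algebraMap A (integralClosure A K') a) = 0)
    (s : integralClosure A K') : ∃ c : Cα, π (Subalgebra.inclusion hint c) = π s := by
  classical
  obtain ⟨s, hs⟩ := s
  have hsfin : Module.Finite A (Algebra.adjoin A {s}) :=
    Module.Finite.iff_fg.mpr (IsIntegral.fg_adjoin_singleton hs)
  haveI : Module.Finite A Cα := hPα.1
  have hfin : Module.Finite A ↥(Cα ⊔ Algebra.adjoin A {s}) := Subalgebra.finite_sup _ _
  have hle : Cα ≤ Cα ⊔ Algebra.adjoin A {s} := le_sup_left
  have hC : PC A K' (Cα ⊔ Algebra.adjoin A {s}) := PC_mono A K' hle hPα hfin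
  have hCA' : Cα ⊔ Algebra.adjoin A {s} ≤ integralClosure A K' :=
    sup_le hint (Algebra.adjoin_le (by simpa using hs))
  have hsC : s ∈ Cα ⊔ Algebra.adjoin A {s} :=
    (le_sup_right : Algebra.adjoin A {s} ≤ _) (Algebra.subset_adjoin (Set.mem_singleton s))
  obtain ⟨x, hx⟩ := hstab _ hC hle
    ((⟨s, hsC⟩ : ↥(Cα ⊔ Algebra.adjoin A {s})) ⊗ₜ[A] (1 : AdicCompletion (maximalIdeal A) A))
  letI : Algebra A F := (π.comp (algebraMap A (integralClosure A K'))).toAlgebra
  have halgF : ∀ a : A, algebraMap A F a = π (algebraMap A (integralClosure A K') a) :=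
    fun _ => rfl
  have h0 : ∀ a ∈ maximalIdeal A, (Algebra.ofId A F) a = 0 :=
    fun a ha => by rw [Algebra.ofId_apply, halgF]; exact hπ a ha
  let ε : AdicCompletion (maximalIdeal A) A →ₐ[A] F :=
    (Ideal.Quotient.liftₐ (maximalIdeal A) (Algebra.ofId A F) h0).comp
      (AdicCompletion.evalOneₐ (maximalIdeal A))
  let g : ↥(Cα ⊔ Algebra.adjoin A {s}) →ₐ[A] F :=
    { toRingHom := π.comp (Subalgebra.inclusion hCA').toRingHom
      commutes' := fun a => rfl }
  let lam : ↥(Cα ⊔ Algebra.adjoin A {s}) ⊗[A] AdicCompletion (maximalIdeal A) A →ₐ[A] F :=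
    Algebra.TensorProduct.lift g ε (fun _ _ => Commute.all _ _)
  have hrange : ∀ z : ↥Cα ⊗[A] AdicCompletion (maximalIdeal A) A,
      lam (Algebra.TensorProduct.map (Subalgebra.inclusion hle)
        (AlgHom.id A (AdicCompletion (maximalIdeal A) A)) z) ∈
        (π.comp (Subalgebra.inclusion hint).toRingHom).range := by
    intro z
    induction z using TensorProduct.induction_on with
    | zero => simp
    | tmul c a =>
      have h1 : lam (Algebra.TensorProduct.map (Subalgebra.inclusion hle)
          (AlgHom.id A (AdicCompletion (maximalIdeal A) A)) (c ⊗ₜ[A] a)) =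
          π (Subalgebra.inclusion hint c) * ε a := by
        simp only [Algebra.TensorProduct.map_tmul, AlgHom.coe_id, id_eq, lam,
          Algebra.TensorProduct.lift_tmul]
        rfl
      rw [h1]
      refine Subring.mul_mem _ ⟨c, rfl⟩ ?_
      obtain ⟨a₀, ha₀⟩ := Ideal.Quotient.mk_surjective
        (AdicCompletion.evalOneₐ (maximalIdeal A) a)
      refine ⟨algebraMap A Cα a₀, ?_⟩
      show π (Subalgebra.inclusion hint (algebraMap A Cα a₀)) = ε a
      have h2 : ε a = algebraMap A F a₀ := by
        show (Ideal.Quotient.liftₐ (maximalIdeal A) (Algebra.ofId A F) h0)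
          (AdicCompletion.evalOneₐ (maximalIdeal A) a) = _
        rw [← ha₀]
        rfl
      rw [h2, halgF]
      rfl
    | add z w hz hw =>
      rw [map_add, map_add]
      exact Subring.add_mem _ hz hw
  have hnil := hx.map lam
  rw [map_sub] at hnil
  have hzero := hnil.eq_zero
  obtain ⟨c, hc⟩ := hrange x
  refine ⟨c, ?_⟩
  have h3 : lam ((⟨s, hsC⟩ : ↥(Cα ⊔ Algebra.adjoin A {s})) ⊗ₜ[A]
      (1 : AdicCompletion (maximalIdeal A) A)) = π ⟨s, hs⟩ := by
    simp only [lam, Algebra.TensorProduct.lift_tmul, map_one, mul_one]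
    rfl
  rw [h3, sub_eq_zero] at hzero
  rw [← hzero]
  exact hc

omit [IsNoetherianRing A] [IsLocalRing A] in
theorem le_integralClosure_of_finite (C : Subalgebra A K') [Module.Finite A C] :
    C ≤ integralClosure A K' := by
  intro x hx
  have h1 : IsIntegral A (⟨x, hx⟩ : C) := Algebra.IsIntegral.isIntegral _
  exact h1.map C.val

omit [IsNoetherianRing A] in
theorem comap_algebraMap_eq_maximalIdeal (m : Ideal (integralClosure A K')) (hm : m.IsMaximal) :
    m.comap (algebraMap A (integralClosure A K')) = maximalIdeal A := by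
  haveI := hm
  have h1 : (m.comap (algebraMap A (integralClosure A K'))).IsMaximal :=
    Ideal.isMaximal_comap_of_isIntegral_of_isMaximal m
  exact IsLocalRing.eq_maximalIdeal h1

omit [IsNoetherianRing A] in
theorem semilocal_of_stab (Cα : Subalgebra A K') (hPα : PC A K' Cα)
    (hstab : ∀ C : Subalgebra A K', PC A K' C → ∀ hle : Cα ≤ C,
      ∀ y : ↥C ⊗[A] AdicCompletion (maximalIdeal A) A,
        ∃ x : ↥Cα ⊗[A] AdicCompletion (maximalIdeal A) A,
          IsNilpotent (Algebra.TensorProduct.map (Subalgebra.inclusion hle)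
            (AlgHom.id A (AdicCompletion (maximalIdeal A) A)) x - y)) :
    {m : Ideal (integralClosure A K') | m.IsMaximal}.Finite ∧
      ∀ (m : Ideal (integralClosure A K')), m.IsMaximal →
        Module.Finite A (integralClosure A K' ⧸ m) := by
  classical
  haveI : Module.Finite A Cα := hPα.1
  have hint : Cα ≤ integralClosure A K' := le_integralClosure_of_finite A K' Cα
  have hincl_int : (Subalgebra.inclusion hint).toRingHom.IsIntegral := by
    intro s
    have h1 : (algebraMap A (integralClosure A K')).IsIntegralElem s :=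
      Algebra.IsIntegral.isIntegral (R := A) s
    have h2 : algebraMap A (integralClosure A K') =
        (Subalgebra.inclusion hint).toRingHom.comp (algebraMap A Cα) := by
      ext a; rfl
    rw [h2] at h1
    exact h1.of_comp
  constructor
  · -- maximal ideals of `Cα`
    have hfinα : {n : Ideal Cα | n.IsMaximal}.Finite := by
      have hfin := Algebra.QuasiFinite.finite_primesOver (R := A) (S := Cα) (maximalIdeal A)
      refine hfin.subset ?_
      intro n hn
      haveI : n.IsMaximal := hn
      refine ⟨hn.isPrime, ⟨?_⟩⟩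
      have h1 : (n.comap (algebraMap A Cα)).IsMaximal :=
        Ideal.isMaximal_comap_of_isIntegral_of_isMaximal n
      exact (IsLocalRing.eq_maximalIdeal h1).symm
    refine Set.Finite.of_injOn (f := fun m => m.comap (Subalgebra.inclusion hint).toRingHom)
      ?_ ?_ hfinα
    · intro m hm
      haveI : m.IsMaximal := hm
      exact Ideal.isMaximal_comap_of_isIntegral_of_isMaximal' _ hincl_int m
    · intro m₁ hm₁ m₂ hm₂ heq
      by_contra hne
      have hm₁' : m₁.IsMaximal := hm₁
      have hm₂' : m₂.IsMaximal := hm₂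
      have hcop := hm₁'.coprime_of_ne hm₂' hne
      have h1 : (1 : integralClosure A K') ∈ m₁ ⊔ m₂ := by rw [hcop]; trivial
      obtain ⟨s, hs, t, ht, hst⟩ := Submodule.mem_sup.mp h1
      have hrad : (m₁ ⊓ m₂).IsRadical :=
        (hm₁'.isPrime.isRadical).inf (hm₂'.isPrime.isRadical)
      haveI : IsReduced (integralClosure A K' ⧸ (m₁ ⊓ m₂)) :=
        (Ideal.isRadical_iff_quotient_reduced _).mp hrad
      have hπ : ∀ a ∈ maximalIdeal A, Ideal.Quotient.mk (m₁ ⊓ m₂)
          (algebraMap A (integralClosure A K') a) = 0 := by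
        intro a ha
        rw [Ideal.Quotient.eq_zero_iff_mem]
        constructor
        · have := comap_algebraMap_eq_maximalIdeal A K' m₁ hm₁'
          rw [← this] at ha
          exact ha
        · have := comap_algebraMap_eq_maximalIdeal A K' m₂ hm₂'
          rw [← this] at ha
          exact ha
      obtain ⟨c, hc⟩ := exists_eq_of_isReduced A K' Cα hPα hstab hint _
        (Ideal.Quotient.mk (m₁ ⊓ m₂)) hπ s
      rw [Ideal.Quotient.eq] at hc
      have hc1 : Subalgebra.inclusion hint c ∈ m₁ := by
        have := m₁.add_mem hc.1 hs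
        simpa using this
      have hc2 : Subalgebra.inclusion hint c ∈ m₂ := by
        have h2 : c ∈ m₁.comap (Subalgebra.inclusion hint).toRingHom := hc1
        have h3 : c ∈ m₂.comap (Subalgebra.inclusion hint).toRingHom := by
          have heq' : m₁.comap (Subalgebra.inclusion hint).toRingHom =
            m₂.comap (Subalgebra.inclusion hint).toRingHom := heq
          rw [← heq']; exact h2
        exact h3
      have hs2 : s ∈ m₂ := by
        have := m₂.sub_mem hc2 hc.2
        simpa using this
      have h1' : (1 : integralClosure A K') ∈ m₂ := by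
        rw [← hst]; exact m₂.add_mem hs2 ht
      exact hm₂'.ne_top ((Ideal.eq_top_iff_one _).mpr h1')
  · intro m hm
    haveI := hm
    have hπ : ∀ a ∈ maximalIdeal A, Ideal.Quotient.mk m
        (algebraMap A (integralClosure A K') a) = 0 := by
      intro a ha
      rw [Ideal.Quotient.eq_zero_iff_mem]
      have := comap_algebraMap_eq_maximalIdeal A K' m hm
      rw [← this] at ha
      exact ha
    let f : Cα →ₐ[A] integralClosure A K' ⧸ m :=
      (Ideal.Quotient.mkₐ A m).comp (Subalgebra.inclusion hint)
    have hsurj : Function.Surjective f := by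
      intro z
      obtain ⟨s, rfl⟩ := Ideal.Quotient.mk_surjective z
      obtain ⟨c, hc⟩ := exists_eq_of_isReduced A K' Cα hPα hstab hint _
        (Ideal.Quotient.mk m) hπ s
      exact ⟨c, hc⟩
    exact Module.Finite.of_surjective f.toLinearMap hsurj

end semilocal

end Groth.Agent.Lib.Helper24.JapStab
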