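import Groth.Agent.Lib.Helper24.SigmaLinFrob

/-!
# Frobenius-semilinear maps over a separably closed field: fixed points and Lang's theorem
-/

set_option autoImplicit false
universe u v

namespace Groth.Agent.Lib.Helper24.LangField

open Polynomial Groth.Agent.Lib.helper24.SigmaLinLib

section SepClosed

variable {k : Type u} [Field k] [IsSepClosed k]

theorem exists_root_of_coeff_ne_zero_sep (P : k[X]) (m : ℕ) (hm : m ≠ 0) (h : P.coeff m ≠ 0)
    (hsep : P.Separable) : ∃ z : k, P.eval z = 0 := by
  have hdeg : P.degree ≠ 0 := by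
    intro h0
    have hC := Polynomial.eq_C_of_degree_eq_zero h0
    rw [hC, Polynomial.coeff_C, if_neg hm] at h
    exact h rfl
  obtain ⟨z, hz⟩ := IsSepClosed.exists_root P hdeg hsep
  exact ⟨z, hz⟩

theorem exists_root_sum_sep {ι : Type*} [Fintype ι] (c : ι → k) (e : ι → ℕ)
    (he : Function.Injective e) (hpos : ∀ i, e i ≠ 0) (hc : c ≠ 0)
    (hsep : (∑ i, C (c i) * X ^ e i - 1 : k[X]).Separable) :
    ∃ w : k, w ≠ 0 ∧ ∑ i, c i * w ^ e i = 1 := by
  classical
  obtain ⟨i₀, hi₀⟩ : ∃ i₀, c i₀ ≠ 0 := by
    by_contra hall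
    push Not at hall
    exact hc (funext hall)
  set P : k[X] := ∑ i, C (c i) * X ^ e i - 1 with hP
  have hcoeff : P.coeff (e i₀) = c i₀ := by
    rw [hP, coeff_sub, finsetSum_coeff, coeff_one, if_neg (hpos i₀), sub_zero]
    simp only [coeff_C_mul, coeff_X_pow]
    rw [Finset.sum_eq_single i₀]
    · simp
    · intro i _ hi
      rw [if_neg (fun h => hi (he h.symm)), mul_zero]
    · intro h; exact absurd (Finset.mem_univ _) h
  obtain ⟨w, hw⟩ := exists_root_of_coeff_ne_zero_sep P (e i₀) (hpos i₀)
    (by rw [hcoeff]; exact hi₀) hsep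
  have hw' : ∑ i, c i * w ^ e i = 1 := by
    rw [hP, eval_sub, eval_finsetSum, eval_one, sub_eq_zero] at hw
    simpa [eval_mul, eval_C, eval_pow, eval_X] using hw
  refine ⟨w, ?_, hw'⟩
  rintro rfl
  have : ∑ i, c i * (0 : k) ^ e i = 0 :=
    Finset.sum_eq_zero (fun i _ => by rw [zero_pow (hpos i), mul_zero])
  rw [this] at hw'
  exact zero_ne_one hw'

variable (p : ℕ) [Fact p.Prime] [CharP k p]

theorem H3_frobenius_sep : H3 (frobenius k p) := by
  intro c
  have hp : p.Prime := Fact.out
  set P : k[X] := X ^ p - X + C c with hP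
  have hder : derivative P = -1 := by
    rw [hP, derivative_add, derivative_sub, derivative_X_pow, derivative_X, derivative_C,
      CharP.cast_eq_zero, map_zero, zero_mul, zero_sub, add_zero]
  have hsep : P.Separable := by
    rw [separable_def, hder]
    exact isCoprime_one_right.neg_right
  have hcoeff : P.coeff p = 1 := by
    have h1 : ¬ (1 = p) := fun h => hp.one_lt.ne h
    have h0 : p ≠ 0 := hp.ne_zero
    simp [hP, coeff_X_pow, coeff_X, coeff_C, h0, h1]
  obtain ⟨z, hz⟩ := exists_root_of_coeff_ne_zero_sep P p hp.ne_zero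
    (by rw [hcoeff]; exact one_ne_zero) hsep
  refine ⟨z, ?_⟩
  rw [frobenius_def]
  simpa [hP] using hz

theorem H2_frobenius_sep : H2 (frobenius k p) := by
  intro n b hb
  have hp : p.Prime := Fact.out
  have hiter : ∀ (m : ℕ) (y : k), (⇑(frobenius k p))^[m] y = y ^ p ^ m :=
    fun m y => iterate_frobenius p m y
  have he : Function.Injective (fun i : Fin (n + 1) => p ^ (i.val + 1) - 1) := by
    intro i j hij
    have hi := Nat.one_le_pow (i.val + 1) p hp.pos
    have hj := Nat.one_le_pow (j.val + 1) p hp.pos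
    have h1 : p ^ (i.val + 1) = p ^ (j.val + 1) := by
      simp only at hij
      omega
    have h2 := Nat.pow_right_injective hp.two_le h1
    exact Fin.ext (by omega)
  have hpos : ∀ i : Fin (n + 1), p ^ (i.val + 1) - 1 ≠ 0 := by
    intro i
    have := Nat.one_lt_pow (n := i.val + 1) (by omega) hp.one_lt
    omega
  have hc : (fun i : Fin (n + 1) => (b (Fin.rev i)) ^ p ^ i.val) ≠ 0 := by
    intro hc
    apply hb
    funext j
    have h1 := congrFun hc (Fin.rev j)
    simp only [Fin.rev_rev, Pi.zero_apply] at h1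
    exact pow_eq_zero_iff (pow_ne_zero _ hp.ne_zero) |>.mp h1
  have hsep : (∑ i : Fin (n + 1), C ((b (Fin.rev i)) ^ p ^ i.val) * X ^ (p ^ (i.val + 1) - 1) - 1 :
      k[X]).Separable := by
    have hX : (X : k[X]) * (∑ i : Fin (n + 1), C ((b (Fin.rev i)) ^ p ^ i.val) *
        X ^ (p ^ (i.val + 1) - 1) - 1) =
        ∑ i : Fin (n + 1), C ((b (Fin.rev i)) ^ p ^ i.val) * X ^ (p ^ (i.val + 1)) - X := by
      rw [mul_sub, mul_one, Finset.mul_sum]
      congr 1
      apply Finset.sum_congr rfl
      intro i _
      have h1 : p ^ (i.val + 1) = (p ^ (i.val + 1) - 1) + 1 :=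
        (Nat.sub_add_cancel (Nat.one_le_pow _ _ hp.pos)).symm
      conv_rhs => rw [h1, pow_succ]
      ring
    have hder : derivative (∑ i : Fin (n + 1), C ((b (Fin.rev i)) ^ p ^ i.val) *
        X ^ (p ^ (i.val + 1)) - X : k[X]) = -1 := by
      rw [derivative_sub, derivative_X, derivative_sum]
      have h0 : ∀ i ∈ (Finset.univ : Finset (Fin (n + 1))),
          derivative (C ((b (Fin.rev i)) ^ p ^ i.val) * X ^ (p ^ (i.val + 1)) : k[X]) = 0 := by
        intro i _
        rw [derivative_C_mul, derivative_X_pow]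
        have : ((p ^ (i.val + 1) : ℕ) : k) = 0 := by
          rw [Nat.cast_pow, CharP.cast_eq_zero, zero_pow (Nat.succ_ne_zero _)]
        rw [this, map_zero, zero_mul, mul_zero]
      rw [Finset.sum_eq_zero h0, zero_sub]
    have hsepX : ((X : k[X]) * (∑ i : Fin (n + 1), C ((b (Fin.rev i)) ^ p ^ i.val) *
        X ^ (p ^ (i.val + 1) - 1) - 1)).Separable := by
      rw [hX, separable_def, hder]
      exact isCoprime_one_right.neg_right
    exact hsepX.of_mul_right
  obtain ⟨w, hw0, hw⟩ := exists_root_sum_sep _ _ he hpos hc hsep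
  refine ⟨w, hw0, ?_⟩
  simp only [hiter]
  have h1 : ∀ i : Fin (n + 1), w ^ p ^ (i.val + 1) = w * w ^ (p ^ (i.val + 1) - 1) := by
    intro i
    rw [← pow_succ', Nat.sub_add_cancel (Nat.one_le_pow _ _ hp.pos)]
  calc w = w * 1 := (mul_one w).symm
    _ = w * ∑ i : Fin (n + 1), (b (Fin.rev i)) ^ p ^ i.val * w ^ (p ^ (i.val + 1) - 1) := by
        rw [hw]
    _ = _ := by
        rw [Finset.mul_sum]; apply Finset.sum_congr rfl; intro i _; rw [h1]; ring

/-- the number of Frobenius fixed points of the field. -/
theorem card_frobenius_fixed : Nat.card {x : k // x ^ p = x} = p := by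
  exact (Nat.card_congr (Equiv.subtypeEquivRight
    (fun x => (Subfield.mem_bot_iff_pow_eq_self k p).symm))).trans (Subfield.card_bot k p)

/-- **Lang's theorem over a separably closed field**: for a Frobenius-semilinear endomorphism `T`
of a finite dimensional space whose image spans, `T - 1` is surjective with `p ^ dim` fixed
points. -/
theorem card_fixed_and_surjective {V : Type v} [AddCommGroup V] [Module k V]
    [FiniteDimensional k V] (T : V →ₛₗ[frobenius k p] V)
    (h1 : Submodule.span k (Set.range ⇑T) = ⊤) :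
    Function.Surjective (fun v : V => T v - v) ∧
      Nat.card {v : V // T v = v} = p ^ Module.finrank k V := by
  classical
  have htop := fixedSpan_eq_top T h1 (H2_frobenius_sep p) (H3_frobenius_sep p)
  constructor
  · intro u
    obtain ⟨v, hv⟩ := surjective_sub_of_fixedSpan_eq_top T (H3_frobenius_sep p) htop (-u)
    refine ⟨v, ?_⟩
    have hv' : v - T v = -u := hv
    show T v - v = u
    rw [← neg_sub, hv', neg_neg]
  · obtain ⟨c, hc⟩ := exists_fixed_basis T htop
    have hTsum : ∀ t : Fin (Module.finrank k V) → k,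
        T (∑ i, t i • c i) = ∑ i, (t i) ^ p • c i := by
      intro t
      rw [map_sum]
      apply Finset.sum_congr rfl
      intro i _
      rw [map_smulₛₗ, hc, frobenius_def]
    have hiff : ∀ v : V, T v = v ↔ ∀ i, (c.equivFun v i) ^ p = c.equivFun v i := by
      intro v
      have hv : v = ∑ i, c.equivFun v i • c i := (c.sum_equivFun v).symm
      constructor
      · intro h i
        have h2 : T v = ∑ i, (c.equivFun v i) ^ p • c i := by
          conv_lhs => rw [hv]
          exact hTsum _
        rw [h] at h2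
        have h3 := congrArg (fun w => c.equivFun w i) h2
        simp only [Module.Basis.equivFun_apply, map_sum, map_smul, Module.Basis.repr_self,
          Finset.sum_apply, Pi.smul_apply,
          Finsupp.single_apply, smul_eq_mul, mul_ite, mul_one, mul_zero,
          Finset.sum_ite_eq', Finset.mem_univ, if_true] at h3
        simpa [Module.Basis.equivFun_apply] using h3.symm
      · intro h
        conv_lhs => rw [hv]
        rw [hTsum]
        conv_rhs => rw [hv]
        apply Finset.sum_congr rfl
        intro i _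
        rw [h i]
    have e1 : {v : V // T v = v} ≃
        {t : Fin (Module.finrank k V) → k // ∀ i, t i ^ p = t i} :=
      Equiv.subtypeEquiv c.equivFun.toEquiv (fun v => hiff v)
    have e2 : {t : Fin (Module.finrank k V) → k // ∀ i, t i ^ p = t i} ≃
        (Fin (Module.finrank k V) → {x : k // x ^ p = x}) :=
      Equiv.subtypePiEquivPi (β := fun _ : Fin (Module.finrank k V) => k)
        (p := fun _ x => x ^ p = x)
    rw [Nat.card_congr (e1.trans e2), Nat.card_fun, card_frobenius_fixed, Nat.card_eq_fintype_card,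
      Fintype.card_fin]

end SepClosed

end Groth.Agent.Lib.Helper24.LangField
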