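import Groth.Agent.Lib.Helper24.LangField
import Groth.Agent.Lib.Helper24.HenselSolutions

/-!
# Lang's theorem over a strictly henselian local ring of characteristic `p` (coordinate form)
-/

set_option autoImplicit false
universe u v

namespace Groth.Agent.Lib.Helper24.LangHensel

open IsLocalRing MvPolynomial

section Sys

variable {R : Type u} [CommRing R] (p : ℕ) {n : ℕ}

/-- the Lang system `∑ᵢ aⱼᵢ Xᵢ^p - Xⱼ - yⱼ`. -/
noncomputable def sys (a : Matrix (Fin n) (Fin n) R) (y : Fin n → R) :
    Fin n → MvPolynomial (Fin n) R :=
  fun j => ∑ i, C (a j i) * X i ^ p - X j - C (y j)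

theorem eval_sys (a : Matrix (Fin n) (Fin n) R) (y : Fin n → R) (r : Fin n → R) (j : Fin n) :
    eval r (sys p a y j) = ∑ i, a j i * r i ^ p - r j - y j := by
  simp [sys]

theorem eval_map_sys {S : Type*} [CommRing S] (φ : R →+* S) (a : Matrix (Fin n) (Fin n) R)
    (y : Fin n → R) (s : Fin n → S) (j : Fin n) :
    eval s (map φ (sys p a y j)) = ∑ i, φ (a j i) * s i ^ p - s j - φ (y j) := by
  simp [sys]

theorem pderiv_sys [CharP R p] (a : Matrix (Fin n) (Fin n) R) (y : Fin n → R) (i j : Fin n) :
    pderiv i (sys p a y j) = if i = j then -1 else 0 := by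
  classical
  have hp0 : ((p : ℕ) : MvPolynomial (Fin n) R) = 0 := by
    rw [← map_natCast (C : R →+* MvPolynomial (Fin n) R), CharP.cast_eq_zero, map_zero]
  have h1 : ∀ l : Fin n, pderiv i (C (a j l) * X l ^ p : MvPolynomial (Fin n) R) = 0 := by
    intro l
    rw [pderiv_C_mul, Derivation.leibniz_pow, nsmul_eq_mul, hp0, zero_mul, mul_zero]
  rw [sys, map_sub, map_sub, map_sum, Finset.sum_eq_zero (fun l _ => h1 l), pderiv_C, pderiv_X,
    zero_sub, sub_zero]
  by_cases hij : i = j
  · subst hij
    simp
  · rw [if_neg hij, Pi.single_eq_of_ne (Ne.symm hij), neg_zero]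

theorem etale_sys [CharP R p] (a : Matrix (Fin n) (Fin n) R) (y : Fin n → R) :
    Algebra.Etale R (MvPolynomial (Fin n) R ⧸ Ideal.span (Set.range (sys p a y))) := by
  classical
  set Pre := Algebra.PreSubmersivePresentation.naive (R := R) (v := sys p a y) id
    Function.injective_id with hPre
  have hmat : Pre.jacobiMatrix = -1 := by
    ext i j
    rw [hPre, Algebra.PreSubmersivePresentation.jacobiMatrix_naive, id, pderiv_sys]
    by_cases hij : i = j
    · subst hij
      simp
    · rw [if_neg hij, Matrix.neg_apply, Matrix.one_apply_ne hij, neg_zero]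
  have hjac : IsUnit Pre.jacobian := by
    rw [Algebra.PreSubmersivePresentation.jacobian_eq_jacobiMatrix_det, hmat]
    apply IsUnit.map
    rw [Matrix.det_neg, Matrix.det_one, mul_one]
    exact (isUnit_one.neg).pow _
  let SP : Algebra.SubmersivePresentation R
      (MvPolynomial (Fin n) R ⧸ Ideal.span (Set.range (sys p a y))) _ _ :=
    { toPreSubmersivePresentation := Pre
      jacobian_isUnit := hjac }
  have : Algebra.IsStandardSmoothOfRelativeDimension 0 R
      (MvPolynomial (Fin n) R ⧸ Ideal.span (Set.range (sys p a y))) :=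
    ⟨_, _, _, inferInstance, SP, by simp [Algebra.Presentation.dimension]⟩
  infer_instance

end Sys

section Field

variable {k : Type u} [Field k] (p : ℕ) [Fact p.Prime] [CharP k p] {n : ℕ}

/-- the Frobenius-semilinear map with matrix `a`. -/
noncomputable def frobMap (a : Matrix (Fin n) (Fin n) k) :
    (Fin n → k) →ₛₗ[frobenius k p] (Fin n → k) where
  toFun v := fun j => ∑ i, a j i * v i ^ p
  map_add' v w := by
    funext j
    simp only [Pi.add_apply, add_pow_char, mul_add, Finset.sum_add_distrib]
  map_smul' c v := by
    funext j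
    simp only [Pi.smul_apply, smul_eq_mul, mul_pow, frobenius_def, Finset.mul_sum]
    apply Finset.sum_congr rfl
    intro i _
    ring

theorem frobMap_apply (a : Matrix (Fin n) (Fin n) k) (v : Fin n → k) (j : Fin n) :
    frobMap p a v j = ∑ i, a j i * v i ^ p := rfl

end Field

section Main

variable {R : Type u} [CommRing R] [HenselianLocalRing R] [IsSepClosed (ResidueField R)]
  (p : ℕ) [Fact p.Prime] [CharP R p] {n : ℕ}

theorem charP_residueField : CharP (ResidueField R) p := by
  have hp : p.Prime := Fact.out
  rw [CharP.charP_iff_prime_eq_zero hp]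
  rw [← map_natCast (residue R), CharP.cast_eq_zero, map_zero]

theorem main (a : Matrix (Fin n) (Fin n) R)
    (hspan : haveI := charP_residueField (R := R) p
      Submodule.span (ResidueField R) (Set.range ⇑(frobMap p (a.map (residue R)))) = ⊤) :
    (∀ y : Fin n → R, ∃ r : Fin n → R, ∀ j, ∑ i, a j i * r i ^ p - r j = y j) ∧
      Nat.card {r : Fin n → R // ∀ j, ∑ i, a j i * r i ^ p = r j} = p ^ n := by
  classical
  haveI := charP_residueField (R := R) p
  obtain ⟨hsurj, hcard⟩ :=
    Groth.Agent.Lib.Helper24.LangField.card_fixed_and_surjective p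
      (frobMap p (a.map (residue R))) hspan
  have hbij : ∀ y : Fin n → R, Set.BijOn (fun r : Fin n → R => residue R ∘ r)
      {r : Fin n → R | ∀ i, eval r (sys p a y i) = 0}
      {s : Fin n → ResidueField R | ∀ i, eval s (map (residue R) (sys p a y i)) = 0} := by
    intro y
    haveI := etale_sys p a y
    exact Groth.Agent.Lib.helper24.HenselSolutions.etale_solutions_bijOn R (ResidueField R)
      (residue R) n (sys p a y)
  constructor
  · intro y
    obtain ⟨s, hs⟩ := hsurj (residue R ∘ y)
    have hs' : s ∈ {s : Fin n → ResidueField R |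
        ∀ i, eval s (map (residue R) (sys p a y i)) = 0} := by
      intro j
      rw [eval_map_sys]
      have := congrFun hs j
      simp only [Pi.sub_apply, frobMap_apply, Matrix.map_apply, Function.comp_apply] at this
      rw [this, sub_self]
    obtain ⟨r, hr, -⟩ := (hbij y).surjOn hs'
    refine ⟨r, fun j => ?_⟩
    have := hr j
    rw [eval_sys, sub_eq_zero] at this
    exact this
  · have e1 : {r : Fin n → R // ∀ j, ∑ i, a j i * r i ^ p = r j} ≃
        {r : Fin n → R | ∀ i, eval r (sys p a 0 i) = 0} :=
      Equiv.subtypeEquivRight (fun r => by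
        simp only [Set.mem_ofPred_eq, eval_sys, Pi.zero_apply, sub_zero, sub_eq_zero])
    have e2 : {s : Fin n → ResidueField R |
        ∀ i, eval s (map (residue R) (sys p a 0 i)) = 0} ≃
        {v : Fin n → ResidueField R // frobMap p (a.map (residue R)) v = v} :=
      Equiv.subtypeEquivRight (fun s => by
        simp only [Set.mem_ofPred_eq, eval_map_sys, Pi.zero_apply, map_zero, sub_zero, sub_eq_zero]
        constructor
        · intro h
          funext j
          rw [frobMap_apply]
          simpa [Matrix.map_apply] using h j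
        · intro h j
          have := congrFun h j
          rw [frobMap_apply] at this
          simpa [Matrix.map_apply] using this)
    rw [Nat.card_congr ((e1.trans (Set.BijOn.equiv _ (hbij 0))).trans e2), hcard,
      Module.finrank_fin_fun]

end Main

end Groth.Agent.Lib.Helper24.LangHensel
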