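import Mathlib

/-!
# Left invertibility of `u : M → N` (`M` finite, `N` projective) is local and descends along
faithfully flat maps (helper24)

* `exists_section` : `u' ; π'` exact, `π'` surjective, `u'` left invertible ⇒ `π'` has a section.
* `exists_leftInverse_of_section` : converse for injective `u`.
* `exists_factor_finite_free` : `u : M → N` with `M` finite, `N` projective factors as
  `β ∘ α ∘ u = u` through a finite free module `ι → A`.
-/

set_option autoImplicit false
universe u
open TensorProduct

namespace Groth.Agent.Lib.Helper24.LeftInv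

section Abstract

variable {B : Type*} [CommRing B] {M' L' C' : Type*} [AddCommGroup M'] [Module B M']
  [AddCommGroup L'] [Module B L'] [AddCommGroup C'] [Module B C']

theorem exists_section (u' : M' →ₗ[B] L') (π' : L' →ₗ[B] C') (hex : Function.Exact u' π')
    (hsurj : Function.Surjective π') (w' : L' →ₗ[B] M') (hw : w' ∘ₗ u' = LinearMap.id) :
    ∃ s : C' →ₗ[B] L', π' ∘ₗ s = LinearMap.id := by
  let h : L' →ₗ[B] L' := LinearMap.id - u' ∘ₗ w'
  have hker : LinearMap.ker π' ≤ LinearMap.ker h := by
    intro x hx
    obtain ⟨y, rfl⟩ := (hex x).mp hx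
    have h1 : w' (u' y) = y := LinearMap.congr_fun hw y
    simp [h, h1]
  let e := π'.quotKerEquivOfSurjective hsurj
  let s : C' →ₗ[B] L' := (LinearMap.ker π').liftQ h hker ∘ₗ e.symm.toLinearMap
  refine ⟨s, ?_⟩
  ext c
  obtain ⟨x, rfl⟩ := hsurj c
  have h1 : e.symm (π' x) = Submodule.Quotient.mk x := by
    rw [LinearEquiv.symm_apply_eq]; rfl
  have h2 : π' (u' (w' x)) = 0 := hex.apply_apply_eq_zero _
  simp only [s, LinearMap.comp_apply, LinearEquiv.coe_coe, h1, Submodule.liftQ_apply,
    LinearMap.id_apply, h, LinearMap.sub_apply, map_sub, h2, sub_zero]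

theorem exists_leftInverse_of_section (u' : M' →ₗ[B] L') (π' : L' →ₗ[B] C')
    (hex : Function.Exact u' π') (hinj : Function.Injective u') (σ : C' →ₗ[B] L')
    (hσ : π' ∘ₗ σ = LinearMap.id) : ∃ w : L' →ₗ[B] M', w ∘ₗ u' = LinearMap.id := by
  let ρ : L' →ₗ[B] L' := LinearMap.id - σ ∘ₗ π'
  have hρ : ∀ x, ρ x ∈ LinearMap.range u' := by
    intro x
    rw [← LinearMap.exact_iff.mp hex, LinearMap.mem_ker]
    have h1 : π' (σ (π' x)) = π' x := LinearMap.congr_fun hσ (π' x)
    simp [ρ, h1]
  let e := LinearEquiv.ofInjective u' hinj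
  refine ⟨e.symm.toLinearMap ∘ₗ ρ.codRestrict (LinearMap.range u') hρ, ?_⟩
  ext x
  apply hinj
  have h1 : π' (u' x) = 0 := hex.apply_apply_eq_zero _
  have h2 : ρ (u' x) = u' x := by simp [ρ, h1]
  have h3 : ∀ y : LinearMap.range u', u' (e.symm y) = y := fun y =>
    congrArg Subtype.val (e.apply_symm_apply y)
  simp only [LinearMap.comp_apply, LinearEquiv.coe_coe, LinearMap.id_apply]
  rw [h3]
  exact h2

end Abstract

section Factor

variable {A : Type u} [CommRing A]

theorem exists_factor_finite_free {M N : Type u} [AddCommGroup M] [Module A M] [Module.Finite A M]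
    [AddCommGroup N] [Module A N] [Module.Projective A N] (u : M →ₗ[A] N) :
    ∃ (ι : Type u) (_ : Fintype ι) (α : N →ₗ[A] (ι → A)) (β : (ι → A) →ₗ[A] N),
      β ∘ₗ α ∘ₗ u = u := by
  classical
  obtain ⟨s, hs⟩ := Module.projective_def'.mp (inferInstance : Module.Projective A N)
  obtain ⟨T, hT⟩ := (Module.Finite.fg_top : (⊤ : Submodule A M).FG)
  let S : Finset N := T.biUnion (fun t => (s (u t)).support)
  have hsupp : ∀ x : M, (s (u x)).support ⊆ S := by
    intro x
    have hx : x ∈ Submodule.span A (T : Set M) := by rw [hT]; trivial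
    induction hx using Submodule.span_induction with
    | mem t ht => exact Finset.subset_biUnion_of_mem (fun t => (s (u t)).support) ht
    | zero => simp
    | add x y _ _ hx hy =>
      rw [map_add, map_add]
      exact Finsupp.support_add.trans (Finset.union_subset hx hy)
    | smul a x _ hx =>
      rw [map_smul, map_smul]
      exact (Finsupp.support_smul (b := a) (g := s (u x))).trans hx
  refine ⟨↥S, inferInstance, LinearMap.pi (fun i => (Finsupp.lapply i.1) ∘ₗ s),
    Fintype.linearCombination A (fun i : ↥S => (i : N)), ?_⟩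
  ext x
  have h1 : Finsupp.linearCombination A id (s (u x)) = u x := LinearMap.congr_fun hs (u x)
  simp only [LinearMap.comp_apply, Fintype.linearCombination_apply, LinearMap.pi_apply,
    Finsupp.lapply_apply]
  rw [Finset.sum_coe_sort S (fun n => (s (u x)) n • n)]
  have h3 : ∑ n ∈ (s (u x)).support, (s (u x)) n • (n : N) = ∑ n ∈ S, (s (u x)) n • n :=
    Finset.sum_subset (hsupp x) (fun n _ hn => by
      rw [Finsupp.notMem_support_iff.mp hn, zero_smul])
  have h4 : ∑ n ∈ (s (u x)).support, (s (u x)) n • (n : N) =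
      Finsupp.linearCombination A id (s (u x)) := by
    rw [Finsupp.linearCombination_apply, Finsupp.sum]
    rfl
  rw [← h3, h4, h1]

end Factor

end Groth.Agent.Lib.Helper24.LeftInv
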