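import Mathlib
import Groth.Agent.Lib.Helper24.LeftInv1

/-!
# Left invertibility is local / descends along faithfully flat maps, part 2 (helper24)
-/

set_option autoImplicit false
universe u
open TensorProduct

namespace Groth.Agent.Lib.Helper24.LeftInv

variable {A : Type u} [CommRing A] {M N : Type u} [AddCommGroup M] [Module A M]
  [Module.Finite A M] [AddCommGroup N] [Module A N]

theorem fp_coker {ι : Type u} [Fintype ι] (u₀ : M →ₗ[A] (ι → A)) :
    Module.FinitePresentation A ((ι → A) ⧸ LinearMap.range u₀) := by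
  refine Module.finitePresentation_of_free_of_surjective (LinearMap.range u₀).mkQ
    (Submodule.mkQ_surjective _) ?_
  rw [Submodule.ker_mkQ, LinearMap.range_eq_map]
  exact Module.Finite.fg_top.map u₀

theorem map_comp_apply {M₁ M₂ M₃ : Type u} [AddCommGroup M₁] [Module A M₁] [AddCommGroup M₂]
    [Module A M₂] [AddCommGroup M₃] [Module A M₃] (S : Submonoid A) (f : M₁ →ₗ[A] M₂)
    (g : M₂ →ₗ[A] M₃) (x : LocalizedModule S M₁) :
    LocalizedModule.map S g (LocalizedModule.map S f x) = LocalizedModule.map S (g ∘ₗ f) x := by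
  induction x using LocalizedModule.induction_on with
  | h x s => simp only [LocalizedModule.map_mk, LinearMap.comp_apply]

variable [Module.Projective A N] (u : M →ₗ[A] N)

theorem leftInverse_of_localized
    (h : ∀ (m : Ideal A) [m.IsMaximal],
      ∃ w : LocalizedModule m.primeCompl N →ₗ[A] LocalizedModule m.primeCompl M,
        w ∘ₗ (LocalizedModule.map m.primeCompl u).restrictScalars A = LinearMap.id) :
    ∃ w : N →ₗ[A] M, w ∘ₗ u = LinearMap.id := by
  obtain ⟨ι, _, α, β, hβα⟩ := exists_factor_finite_free u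
  set u₀ : M →ₗ[A] (ι → A) := α ∘ₗ u with hu₀
  let π := (LinearMap.range u₀).mkQ
  have hex : Function.Exact u₀ π := LinearMap.exact_map_mkQ_range u₀
  have hsurj : Function.Surjective π := Submodule.mkQ_surjective _
  haveI := fp_coker u₀
  have hloc : ∀ (m : Ideal A) [m.IsMaximal],
      ∃ w₀ : LocalizedModule m.primeCompl (ι → A) →ₗ[A] LocalizedModule m.primeCompl M,
        w₀ ∘ₗ (LocalizedModule.map m.primeCompl u₀).restrictScalars A = LinearMap.id := by
    intro m _
    obtain ⟨w, hw⟩ := h m
    refine ⟨w ∘ₗ (LocalizedModule.map m.primeCompl β).restrictScalars A, ?_⟩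
    rw [← hw]
    refine LinearMap.ext fun x => ?_
    simp only [LinearMap.comp_apply, LinearMap.restrictScalars_apply]
    rw [map_comp_apply, hu₀, hβα]
  have hinj : Function.Injective u₀ := by
    apply injective_of_localized_maximal
    intro J _
    obtain ⟨w₀, hw₀⟩ := hloc J
    intro x y hxy
    have hx := LinearMap.congr_fun hw₀ x
    have hy := LinearMap.congr_fun hw₀ y
    simp only [LinearMap.comp_apply, LinearMap.restrictScalars_apply, LinearMap.id_apply] at hx hy
    rw [← hx, ← hy, hxy]
  have hsec : ∀ (I : Ideal A) (_ : I.IsMaximal),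
      ∃ g : LocalizedModule I.primeCompl ((ι → A) ⧸ LinearMap.range u₀) →ₗ[Localization.AtPrime I]
        LocalizedModule I.primeCompl (ι → A),
        (LocalizedModule.map I.primeCompl π).comp g = LinearMap.id := by
    intro I hI
    obtain ⟨w₀, hw₀⟩ := hloc I
    obtain ⟨s, hs⟩ := exists_section
      ((LocalizedModule.map I.primeCompl u₀).restrictScalars A)
      ((LocalizedModule.map I.primeCompl π).restrictScalars A)
      (LocalizedModule.map_exact I.primeCompl u₀ π hex)
      (LocalizedModule.map_surjective _ π hsurj) w₀ hw₀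
    refine ⟨LinearMap.extendScalarsOfIsLocalization I.primeCompl (Localization.AtPrime I) s, ?_⟩
    refine LinearMap.ext fun x => ?_
    exact LinearMap.congr_fun hs x
  obtain ⟨σ, hσ⟩ := LinearMap.split_surjective_of_localization_maximal π hsec
  obtain ⟨w₀, hw₀⟩ := exists_leftInverse_of_section u₀ π hex hinj σ hσ
  exact ⟨w₀ ∘ₗ α, by rw [LinearMap.comp_assoc]; exact hw₀⟩

theorem leftInverse_of_baseChange (A' : Type u) [CommRing A'] [Algebra A A']
    [Module.FaithfullyFlat A A']
    (h : ∃ w : A' ⊗[A] N →ₗ[A'] A' ⊗[A] M, w ∘ₗ u.baseChange A' = LinearMap.id) :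
    ∃ w : N →ₗ[A] M, w ∘ₗ u = LinearMap.id := by
  obtain ⟨ι, _, α, β, hβα⟩ := exists_factor_finite_free u
  set u₀ : M →ₗ[A] (ι → A) := α ∘ₗ u with hu₀
  let π := (LinearMap.range u₀).mkQ
  have hex : Function.Exact u₀ π := LinearMap.exact_map_mkQ_range u₀
  have hsurj : Function.Surjective π := Submodule.mkQ_surjective _
  haveI := fp_coker u₀
  obtain ⟨w, hw⟩ := h
  have hw₀ : (w ∘ₗ β.baseChange A') ∘ₗ u₀.baseChange A' = LinearMap.id := by
    rw [LinearMap.comp_assoc, ← LinearMap.baseChange_comp, hu₀, hβα, hw]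
  have hex' : Function.Exact (u₀.baseChange A') (π.baseChange A') := by
    have h1 := lTensor_exact A' hex hsurj
    intro x
    exact h1 x
  have hsurj' : Function.Surjective (π.baseChange A') := by
    have h1 := LinearMap.lTensor_surjective A' hsurj
    exact h1
  obtain ⟨s, hs⟩ := exists_section (u₀.baseChange A') (π.baseChange A') hex' hsurj' _ hw₀
  haveI : Module.Flat A' (A' ⊗[A] ((ι → A) ⧸ LinearMap.range u₀)) :=
    Module.Flat.of_retract s (π.baseChange A') hs
  haveI : Module.Flat A ((ι → A) ⧸ LinearMap.range u₀) :=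
    Module.Flat.of_flat_tensorProduct A _ A'
  haveI : Module.Projective A ((ι → A) ⧸ LinearMap.range u₀) :=
    Module.Flat.projective_of_finitePresentation
  obtain ⟨σ, hσ⟩ := Module.projective_lifting_property π LinearMap.id hsurj
  have hinj : Function.Injective u₀ := by
    rw [← Module.FaithfullyFlat.lTensor_injective_iff_injective A A']
    intro x y hxy
    have hx := LinearMap.congr_fun hw₀ x
    have hy := LinearMap.congr_fun hw₀ y
    simp only [LinearMap.comp_apply, LinearMap.id_apply] at hx hy
    have hxy' : (u₀.baseChange A') x = (u₀.baseChange A') y := hxy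
    rw [← hx, ← hy, hxy']
  obtain ⟨w₀, hw₀'⟩ := exists_leftInverse_of_section u₀ π hex hinj σ hσ
  exact ⟨w₀ ∘ₗ α, by rw [LinearMap.comp_assoc]; exact hw₀'⟩

end Groth.Agent.Lib.Helper24.LeftInv
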