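import Groth.Agent.Lib.Helper24.Isoc
import Mathlib.RingTheory.Localization.Module
import Mathlib.LinearAlgebra.Dimension.Finite
import Mathlib.RingTheory.Finiteness.Basic

/-!
Manin's lemma for isocrystals: if `F^(h+1) M ⊆ p^(-1) M` with `h` the height, then some lattice is
`F`-stable (helper24).
-/

set_option autoImplicit false
set_option linter.unusedSectionVars false

noncomputable section

open scoped Pointwise Isocrystal

universe u v

namespace Groth.Agent.Lib.helper24.IsocLib

variable {p : ℕ} [Fact p.Prime] {k : Type u} [Field k] [CharP k p] [PerfectRing k p]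
variable {N : Type v} [AddCommGroup N] [Module (WittVector p k) N] [Module K(p, k) N]
  [IsScalarTower (WittVector p k) K(p, k) N]

theorem isUnit_or_p_dvd (w : WittVector p k) : IsUnit w ∨ (p : WittVector p k) ∣ w := by
  by_cases hw : w = 0
  · right; rw [hw]; exact dvd_zero _
  · obtain ⟨m, b, hb⟩ := WittVector.exists_eq_pow_p_mul' w hw
    cases m with
    | zero => left; rw [hb, pow_zero, one_mul]; exact b.isUnit
    | succ m => right; rw [hb, pow_succ']; exact ⟨(p : WittVector p k) ^ m * b, by ring⟩

theorem eq_zero_of_forall_p_pow_dvd (w : WittVector p k)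
    (h : ∀ n : ℕ, (p : WittVector p k) ^ n ∣ w) : w = 0 := by
  by_contra hw
  obtain ⟨m, b, hb⟩ := WittVector.exists_eq_pow_p_mul' w hw
  obtain ⟨c, hc⟩ := h (m + 1)
  have hpm : (p : WittVector p k) ^ m ≠ 0 := pow_ne_zero _ (WittVector.p_nonzero p k)
  have hbc : (b : WittVector p k) = p * c := by
    apply mul_left_cancel₀ hpm
    rw [← hb, hc]; ring
  have hunit : IsUnit ((p : WittVector p k) * c) := hbc ▸ b.isUnit
  exact (WittVector.irreducible p).not_isUnit (isUnit_of_mul_isUnit_left hunit)

theorem p_smul_eq_zero {x : N} (h : (p : WittVector p k) • x = 0) : x = 0 := by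
  rw [← algebraMap_smul K(p, k) (p : WittVector p k) x, map_natCast] at h
  exact (smul_eq_zero.1 h).resolve_left p_ne_zero

/-- No strict chain of `h + 2` `W`-submodules `A 0 < ... < A (h+1)` with `p • A (h+1) ⊆ A 0` in an
`L`-space of dimension `h`. -/
theorem no_long_chain (hfin : Module.Finite K(p, k) N) {h : ℕ}
    (hh : Module.finrank K(p, k) N = h)
    (A : ℕ → Submodule (WittVector p k) N) (hlt : ∀ i, i ≤ h → A i < A (i + 1))
    (hp : ∀ x ∈ A (h + 1), (p : WittVector p k) • x ∈ A 0) : False := by
  classical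
  have hmono : ∀ i j, i ≤ j → j ≤ h + 1 → A i ≤ A j := by
    intro i j hij
    induction j, hij using Nat.le_induction with
    | base => intro _; exact le_rfl
    | succ j hij ih => intro hj; exact (ih (by omega)).trans (hlt j (by omega)).le
  have hx : ∀ i : Fin (h + 1), ∃ x, x ∈ A ((i : ℕ) + 1) ∧ x ∉ A (i : ℕ) :=
    fun i => SetLike.exists_of_lt (hlt i (by omega))
  choose x hx1 hx2 using hx
  have claimA : ∀ c : Fin (h + 1) → WittVector p k, ∑ i, c i • x i = 0 →
      ∀ i, (p : WittVector p k) ∣ c i := by
    intro c hc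
    by_contra hcon
    push Not at hcon
    let S : Finset (Fin (h + 1)) := Finset.univ.filter (fun i => ¬ (p : WittVector p k) ∣ c i)
    have hS : S.Nonempty := by
      obtain ⟨i, hi⟩ := hcon
      exact ⟨i, by simp [S, hi]⟩
    set i₀ := S.max' hS with hi₀
    have hi₀S : i₀ ∈ S := S.max'_mem hS
    have hi₀nd : ¬ (p : WittVector p k) ∣ c i₀ := by simpa [S] using hi₀S
    have hunit : IsUnit (c i₀) := (isUnit_or_p_dvd (c i₀)).resolve_right hi₀nd
    have hrest : ∀ j, j ≠ i₀ → c j • x j ∈ A (i₀ : ℕ) := by
      intro j hj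
      rcases lt_or_gt_of_ne hj with hlt' | hgt
      · apply Submodule.smul_mem
        have h1 : (j : ℕ) + 1 ≤ (i₀ : ℕ) := by
          have : (j : ℕ) < (i₀ : ℕ) := hlt'
          omega
        exact hmono _ _ h1 (by omega) (hx1 j)
      · have hd : (p : WittVector p k) ∣ c j := by
          by_contra hnd
          have hjS : j ∈ S := by simp [S, hnd]
          exact absurd (S.le_max' j hjS) (not_le.2 hgt)
        obtain ⟨c', hc'⟩ := hd
        rw [hc', mul_comm, mul_smul]
        apply Submodule.smul_mem
        exact hmono 0 _ (Nat.zero_le _) (by omega)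
          (hp _ (hmono _ (h + 1) (by omega) le_rfl (hx1 j)))
    have hsum : c i₀ • x i₀ = - ∑ j ∈ Finset.univ.erase i₀, c j • x j := by
      rw [eq_neg_iff_add_eq_zero, Finset.add_sum_erase _ (fun j => c j • x j) (Finset.mem_univ i₀)]
      exact hc
    have hmem : c i₀ • x i₀ ∈ A (i₀ : ℕ) := by
      rw [hsum]
      apply Submodule.neg_mem
      apply Submodule.sum_mem
      intro j hj
      exact hrest j (Finset.ne_of_mem_erase hj)
    obtain ⟨u, hu⟩ := hunit
    have hxi : x i₀ ∈ A (i₀ : ℕ) := by
      have h2 := Submodule.smul_mem (A (i₀ : ℕ)) (↑u⁻¹ : WittVector p k) hmem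
      rwa [← hu, smul_smul, Units.inv_mul, one_smul] at h2
    exact hx2 i₀ hxi
  have claimB : ∀ n : ℕ, ∀ c : Fin (h + 1) → WittVector p k, ∑ i, c i • x i = 0 →
      ∀ i, (p : WittVector p k) ^ n ∣ c i := by
    intro n
    induction n with
    | zero => intro c _ i; simp
    | succ n ih =>
      intro c hc i
      have hA := claimA c hc
      choose c' hc' using hA
      have hc'0 : ∑ i, c' i • x i = 0 := by
        apply p_smul_eq_zero (p := p) (k := k)
        rw [Finset.smul_sum, ← hc]
        apply Finset.sum_congr rfl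
        intro j _
        rw [smul_smul, ← hc' j]
      obtain ⟨e, he⟩ := ih c' hc'0 i
      exact ⟨e, by rw [hc' i, he, pow_succ']; ring⟩
  have hli : LinearIndependent (WittVector p k) x := by
    rw [Fintype.linearIndependent_iff]
    intro c hc i
    exact eq_zero_of_forall_p_pow_dvd (c i) (fun n => claimB n c hc i)
  have hli' : LinearIndependent K(p, k) x :=
    (LinearIndependent.iff_fractionRing (WittVector p k) K(p, k)).1 hli
  have hcard := hli'.fintype_card_le_finrank
  rw [Fintype.card_fin, hh] at hcard
  omega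

section Frob

variable {a : ℤ} (F : N →ₛₗ[Isoc.frob p k a] N)

theorem latImg_zero (M : Submodule (WittVector p k) N) : Isoc.latImg F 0 M = M := by
  apply SetLike.coe_injective
  rw [coe_latImg]
  simp

theorem latImg_finset_sup {ι : Type*} (s : ℕ) (t : Finset ι)
    (f : ι → Submodule (WittVector p k) N) :
    Isoc.latImg F s (t.sup f) = t.sup (fun i => Isoc.latImg F s (f i)) := by
  classical
  induction t using Finset.induction_on with
  | empty => simp only [Finset.sup_empty]; exact latImg_bot F s
  | insert i t hi ih => rw [Finset.sup_insert, Finset.sup_insert, latImg_sup, ih]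

theorem pPow_finset_sup {ι : Type*} (r : ℤ) (t : Finset ι)
    (f : ι → Submodule (WittVector p k) N) :
    Isoc.pPow r (t.sup f) = t.sup (fun i => Isoc.pPow r (f i)) := by
  classical
  induction t using Finset.induction_on with
  | empty => simp only [Finset.sup_empty]; exact pPow_bot r
  | insert i t hi ih => rw [Finset.sup_insert, Finset.sup_insert, pPow_sup, ih]

/-- `M + F M + ... + F^j M`. -/
def sumImg (M : Submodule (WittVector p k) N) (j : ℕ) : Submodule (WittVector p k) N :=
  (Finset.range (j + 1)).sup (fun i => Isoc.latImg F i M)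

theorem le_sumImg (M : Submodule (WittVector p k) N) {i j : ℕ} (h : i ≤ j) :
    Isoc.latImg F i M ≤ sumImg F M j :=
  Finset.le_sup (f := fun i => Isoc.latImg F i M) (Finset.mem_range.2 (by omega))

theorem sumImg_mono (M : Submodule (WittVector p k) N) {i j : ℕ} (h : i ≤ j) :
    sumImg F M i ≤ sumImg F M j :=
  Finset.sup_mono (Finset.range_subset_range.2 (by omega))

theorem self_le_sumImg (M : Submodule (WittVector p k) N) (j : ℕ) : M ≤ sumImg F M j := by
  have := le_sumImg F M (Nat.zero_le j)
  rwa [latImg_zero] at this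

theorem sumImg_isLattice {M : Submodule (WittVector p k) N} (hM : M.IsLattice K(p, k)) (j : ℕ) :
    (sumImg F M j).IsLattice K(p, k) where
  fg := Submodule.fg_finset_sup _ _ (fun i _ => latImg_fg F i hM.fg)
  span_eq_top := by
    rw [eq_top_iff, ← hM.span_eq_top]
    exact Submodule.span_mono (self_le_sumImg F M j)

theorem latImg_one_sumImg_le (M : Submodule (WittVector p k) N) (j : ℕ) :
    Isoc.latImg F 1 (sumImg F M j) ≤ sumImg F M (j + 1) := by
  unfold sumImg
  rw [latImg_finset_sup]
  apply Finset.sup_le
  intro i hi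
  rw [← latImg_add]
  exact Finset.le_sup (f := fun i => Isoc.latImg F i M)
    (Finset.mem_range.2 (by have := Finset.mem_range.1 hi; omega))

theorem self_le_pPow_neg_one (M : Submodule (WittVector p k) N) : M ≤ Isoc.pPow (-1) M := by
  have := pPow_le_of_le (p := p) (k := k) (show (-1 : ℤ) ≤ 0 by norm_num) M
  rwa [pPow_zero] at this

theorem sumImg_le_pPow (M : Submodule (WittVector p k) N) (n : ℕ)
    (h : Isoc.latImg F (n + 1) M ≤ Isoc.pPow (-1) M) :
    sumImg F M (2 * n + 1) ≤ Isoc.pPow (-1) (sumImg F M n) := by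
  apply Finset.sup_le
  intro i hi
  have hi' := Finset.mem_range.1 hi
  by_cases hin : i ≤ n
  · exact (le_sumImg F M hin).trans (self_le_pPow_neg_one _)
  · have hi2 : i = (i - (n + 1)) + (n + 1) := by omega
    rw [hi2, latImg_add]
    refine (latImg_mono F _ h).trans ?_
    rw [latImg_pPow]
    exact pPow_mono _ (le_sumImg F M (by omega))

/-- Manin's lemma. -/
theorem manin (hF : Isoc.IsIsoc F) {h : ℕ} (hh : Module.finrank K(p, k) N = h)
    {M : Submodule (WittVector p k) N} (hM : M.IsLattice K(p, k))
    (hFM : Isoc.latImg F (h + 1) M ≤ Isoc.pPow (-1) M) : Isoc.IsEffective F := by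
  by_contra hne
  have hstrict : ∀ j, sumImg F M j < sumImg F M (j + 1) := by
    intro j
    refine lt_of_le_of_ne (sumImg_mono F M (Nat.le_succ j)) (fun heq => hne ?_)
    refine ⟨sumImg F M j, sumImg_isLattice F hM j, ?_⟩
    exact (latImg_one_sumImg_le F M j).trans heq.ge
  refine no_long_chain (p := p) (k := k) hF.finite hh (fun i => sumImg F M (h + i))
    (fun i _ => hstrict (h + i)) ?_
  intro x hx
  have hx' : x ∈ Isoc.pPow (-1) (sumImg F M h) := by
    apply sumImg_le_pPow F M h hFM
    have : 2 * h + 1 = h + (h + 1) := by ring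
    rw [this]; exact hx
  rw [mem_pPow] at hx'
  obtain ⟨m, hm, rfl⟩ := hx'
  have : (p : WittVector p k) • ((p : K(p, k)) ^ (-1 : ℤ)) • m = m := by
    rw [← algebraMap_smul K(p, k) (p : WittVector p k), map_natCast, smul_smul, zpow_neg_one,
      mul_inv_cancel₀ p_ne_zero, one_smul]
  rw [this]
  simpa using hm

end Frob

end Groth.Agent.Lib.helper24.IsocLib

end
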