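import Mathlib
import Groth.Prelude.Def_Found
import Groth.Agent.Lib.Helper24.NorOpen

/-!
# The local criterion for N-1 (helper24)

`R` a Noetherian domain with fraction field `K`, `f ≠ 0` with `R_f` integrally closed.
`Mn n = {z ∈ K integral over R | fⁿ z ∈ R}` is an increasing chain of finite `R`-modules whose union
is the integral closure `R'`; if `Mn (n+1) = Mn n` then the chain is stationary from `n` on.  The
colon ideals `In n = (Mn n : Mn (n+1))` increase; if `R'_m` is finite over `R_m` for each maximal `m`,
some `In n` is not contained in `m`; hence the stationary value of `In` is the unit ideal.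

* `isN1_of_isLocalization` : N-1 passes to localizations.
* `finite_integralClosure_of_chain`, `isN1_of_local` : Stacks 0333, the hard direction.
* `finite_integralClosure_of_isN1`, `isN1_of_finite_integralClosure` : N-1 via any fraction field.
-/

set_option autoImplicit false
universe u

namespace Groth.Agent.Lib.Helper24.N1Crit

open Groth.Agent.Lib.Helper24.NorOpen

section chain

variable {R : Type u} [CommRing R] [IsDomain R] (K : Type u) [Field K] [Algebra R K]
  [IsFractionRing R K] (f : R)

/-- `Mn n = {z ∈ K integral over R | fⁿ z ∈ R}`. -/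
def Mn (n : ℕ) : Submodule R K where
  carrier := {z | IsIntegral R z ∧ ∃ b : R, algebraMap R K (f ^ n) * z = algebraMap R K b}
  add_mem' := by
    rintro a b ⟨ha, c, hc⟩ ⟨hb, d, hd⟩
    exact ⟨ha.add hb, c + d, by rw [mul_add, hc, hd, map_add]⟩
  zero_mem' := ⟨isIntegral_zero, 0, by simp⟩
  smul_mem' := by
    rintro c a ⟨ha, b, hb⟩
    refine ⟨?_, c * b, ?_⟩
    · rw [Algebra.smul_def]; exact isIntegral_algebraMap.mul ha
    · rw [Algebra.smul_def, map_mul, ← hb]; ring

omit [IsDomain R] [IsFractionRing R K] in
theorem mem_Mn {n : ℕ} {z : K} : z ∈ Mn K f n ↔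
    IsIntegral R z ∧ ∃ b : R, algebraMap R K (f ^ n) * z = algebraMap R K b := Iff.rfl

omit [IsDomain R] [IsFractionRing R K] in
theorem Mn_mono {n m : ℕ} (h : n ≤ m) : Mn K f n ≤ Mn K f m := by
  rintro z ⟨hz, b, hb⟩
  refine ⟨hz, f ^ (m - n) * b, ?_⟩
  rw [map_mul, ← hb, ← mul_assoc, ← map_mul, ← pow_add, Nat.sub_add_cancel h]

theorem Mn_fg [IsNoetherianRing R] (hf : f ≠ 0) (n : ℕ) : (Mn K f n).FG := by
  have hfK : algebraMap R K (f ^ n) ≠ 0 := by
    rw [Ne, map_eq_zero_iff _ (IsFractionRing.injective R K)]
    exact pow_ne_zero _ hf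
  refine Submodule.FG.of_le (Submodule.fg_span_singleton ((algebraMap R K (f ^ n))⁻¹)) ?_
  rintro z ⟨-, b, hb⟩
  rw [Submodule.mem_span_singleton]
  refine ⟨b, ?_⟩
  rw [Algebra.smul_def, ← hb]
  field_simp

/-- The colon ideals `(Mn n : Mn (n+1))`. -/
def In (n : ℕ) : Ideal R := (Mn K f n).colon (Mn K f (n + 1) : Set K)

omit [IsDomain R] [IsFractionRing R K] in
theorem mem_In {n : ℕ} {r : R} : r ∈ In K f n ↔ ∀ z ∈ Mn K f (n + 1), r • z ∈ Mn K f n :=
  Submodule.mem_colon

omit [IsDomain R] [IsFractionRing R K] in
theorem In_le_succ (n : ℕ) : In K f n ≤ In K f (n + 1) := by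
  intro r hr
  rw [mem_In] at hr ⊢
  rintro z ⟨hz, b, hb⟩
  have h1 : f • z ∈ Mn K f (n + 1) := by
    refine ⟨?_, b, ?_⟩
    · rw [Algebra.smul_def]; exact isIntegral_algebraMap.mul hz
    · rw [Algebra.smul_def, ← hb, pow_succ (f) (n + 1), map_mul]; ring
  obtain ⟨-, c, hc⟩ := hr _ h1
  refine ⟨?_, c, ?_⟩
  · rw [Algebra.smul_def]; exact isIntegral_algebraMap.mul hz
  · rw [← hc, Algebra.smul_def, Algebra.smul_def, Algebra.smul_def, pow_succ, map_mul]; ring

omit [IsDomain R] [IsFractionRing R K] in
theorem In_mono : Monotone (In K f) := monotone_nat_of_le_succ (In_le_succ K f)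

omit [IsDomain R] [IsFractionRing R K] in
theorem Mn_succ_le_of_In_eq_top {n : ℕ} (h : In K f n = ⊤) : Mn K f (n + 1) ≤ Mn K f n := by
  intro z hz
  have h1 : (1 : R) ∈ In K f n := by rw [h]; trivial
  have := (mem_In K f).mp h1 z hz
  rwa [one_smul] at this

/-- **Stacks 0333, hard direction** in terms of the chain `Mn`. -/
theorem finite_integralClosure_of_chain [IsNoetherianRing R] (hf : f ≠ 0)
    (hpow : ∀ z : K, IsIntegral R z → ∃ n : ℕ, z ∈ Mn K f n)
    (hloc : ∀ m : Ideal R, m.IsMaximal → ∃ N : ℕ, ∃ t : R, t ∉ m ∧ t ∈ In K f N) :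
    Module.Finite R (integralClosure R K) := by
  obtain ⟨n0, hn0⟩ := (monotone_stabilizes_iff_noetherian (R := R) (M := R)).mpr inferInstance
    ⟨In K f, In_mono K f⟩
  have htop : In K f n0 = ⊤ := by
    by_contra hne
    obtain ⟨m, hm, hle⟩ := Ideal.exists_le_maximal _ hne
    obtain ⟨N, t, htm, htN⟩ := hloc m hm
    apply htm
    apply hle
    have h1 : In K f N ≤ In K f (max N n0) := In_mono K f (le_max_left _ _)
    have h2 : In K f n0 = In K f (max N n0) := hn0 _ (le_max_right _ _)
    rw [h2]
    exact h1 htN
  have hstab : ∀ k, n0 ≤ k → Mn K f k ≤ Mn K f n0 := by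
    intro k hk
    induction k, hk using Nat.le_induction with
    | base => exact le_rfl
    | succ k hk ih =>
      have h2 : In K f n0 = In K f k := hn0 _ hk
      exact (Mn_succ_le_of_In_eq_top K f (h2 ▸ htop)).trans ih
  have heq : Subalgebra.toSubmodule (integralClosure R K) = Mn K f n0 := by
    apply le_antisymm
    · intro z hz
      obtain ⟨n, hn⟩ := hpow z hz
      exact hstab _ (le_max_right n n0) (Mn_mono K f (le_max_left n n0) hn)
    · intro z hz
      exact hz.1
  have hfg : (Subalgebra.toSubmodule (integralClosure R K)).FG := by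
    rw [heq]
    exact Mn_fg K f hf n0
  exact Module.Finite.iff_fg.mpr hfg

end chain

section local_claim

variable {R : Type u} [CommRing R] [IsDomain R] (K : Type u) [Field K] [Algebra R K]
  [IsFractionRing R K] (f : R) (p : Ideal R) [p.IsPrime] (S : Type u) [CommRing S] [Algebra R S]
  [IsLocalization.AtPrime S p] [Algebra S K] [IsScalarTower R S K]

/-- `Pn N = {w ∈ K | f^N w ∈ S}` as an `S`-submodule of `K`. -/
def Pn (N : ℕ) : Submodule S K where
  carrier := {w | ∃ y : S, algebraMap R K (f ^ N) * w = algebraMap S K y}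
  add_mem' := by
    rintro a b ⟨c, hc⟩ ⟨d, hd⟩
    exact ⟨c + d, by rw [mul_add, hc, hd, map_add]⟩
  zero_mem' := ⟨0, by simp⟩
  smul_mem' := by
    rintro c a ⟨b, hb⟩
    exact ⟨c * b, by rw [Algebra.smul_def, map_mul, ← hb]; ring⟩

omit [IsDomain R] [IsFractionRing R K] in
theorem Pn_mono {n m : ℕ} (h : n ≤ m) : Pn K f S n ≤ Pn K f S m := by
  rintro z ⟨b, hb⟩
  refine ⟨algebraMap R S (f ^ (m - n)) * b, ?_⟩
  rw [map_mul, ← hb, ← IsScalarTower.algebraMap_apply, ← mul_assoc, ← map_mul, ← pow_add,
    Nat.sub_add_cancel h]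

omit [IsDomain R] [IsFractionRing R K] in
include p in
theorem exists_mem_Pn (hpow : ∀ z : K, IsIntegral R z → ∃ n : ℕ, z ∈ Mn K f n) (w : K)
    (hw : IsIntegral S w) : ∃ n : ℕ, w ∈ Pn K f S n := by
  obtain ⟨t, ht⟩ := IsIntegral.exists_multiple_integral_of_isLocalization p.primeCompl w hw
  obtain ⟨n, -, b, hb⟩ := hpow _ ht
  refine ⟨n, IsLocalization.mk' S b t, ?_⟩
  have hunit : IsUnit (algebraMap S K (algebraMap R S (t : R))) :=
    (IsLocalization.map_units S t).map _
  apply hunit.mul_left_cancel
  rw [← map_mul, IsLocalization.mk'_spec', ← IsScalarTower.algebraMap_apply,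
    ← IsScalarTower.algebraMap_apply, ← hb, Submonoid.smul_def, Algebra.smul_def]
  ring

omit [IsDomain R] [IsFractionRing R K] in
include p in
theorem exists_forall_mem_Pn (hpow : ∀ z : K, IsIntegral R z → ∃ n : ℕ, z ∈ Mn K f n)
    (hfin : Module.Finite S (integralClosure S K)) :
    ∃ N : ℕ, ∀ w : K, IsIntegral S w → w ∈ Pn K f S N := by
  classical
  obtain ⟨s, hs⟩ := hfin.fg_top
  have hfs : ∀ s : Finset (integralClosure S K), ∃ N : ℕ, ∀ w ∈ s, (w : K) ∈ Pn K f S N := by
    intro s
    induction s using Finset.induction_on with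
    | empty => exact ⟨0, fun w hw => absurd hw (Finset.notMem_empty w)⟩
    | insert a s _ ih =>
      obtain ⟨N, hN⟩ := ih
      obtain ⟨n, hn⟩ := exists_mem_Pn K f p S hpow a.1 a.2
      refine ⟨max n N, fun w hw => ?_⟩
      rcases Finset.mem_insert.mp hw with rfl | hw
      · exact Pn_mono K f S (le_max_left _ _) hn
      · exact Pn_mono K f S (le_max_right _ _) (hN w hw)
  obtain ⟨N, hN⟩ := hfs s
  refine ⟨N, fun w hw => ?_⟩
  have hx : (⟨w, hw⟩ : integralClosure S K) ∈ Submodule.span S (s : Set (integralClosure S K)) := by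
    rw [hs]; trivial
  have key : ∀ x : integralClosure S K, x ∈ Submodule.span S (s : Set (integralClosure S K)) →
      (x : K) ∈ Pn K f S N := by
    intro x hx
    induction hx using Submodule.span_induction with
    | mem x hx => exact hN x hx
    | zero => exact (Pn K f S N).zero_mem
    | add x y _ _ hx hy => exact (Pn K f S N).add_mem hx hy
    | smul a x _ hx => exact (Pn K f S N).smul_mem a hx
  exact key _ hx

include p in
/-- The local finiteness at `p` gives an element `t ∉ p` of some colon ideal `In N`. -/
theorem exists_mem_In [IsNoetherianRing R] (hf : f ≠ 0)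
    (hpow : ∀ z : K, IsIntegral R z → ∃ n : ℕ, z ∈ Mn K f n)
    (hfin : Module.Finite S (integralClosure S K)) :
    ∃ N : ℕ, ∃ t : R, t ∉ p ∧ t ∈ In K f N := by
  classical
  obtain ⟨N, hN⟩ := exists_forall_mem_Pn K f p S hpow hfin
  refine ⟨N, ?_⟩
  -- for every integral `z` there is `t ∉ p` with `t f^N z ∈ R`
  have h1 : ∀ z : K, IsIntegral R z → ∃ t : R, t ∉ p ∧ t • z ∈ Mn K f N := by
    intro z hz
    obtain ⟨y, hy⟩ := hN z hz.tower_top
    obtain ⟨⟨a, t⟩, hat⟩ := IsLocalization.surj p.primeCompl y
    refine ⟨t, t.2, ?_, a, ?_⟩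
    · rw [Algebra.smul_def]; exact isIntegral_algebraMap.mul hz
    · have := congrArg (algebraMap S K) hat
      rw [map_mul, ← IsScalarTower.algebraMap_apply, ← IsScalarTower.algebraMap_apply, ← hy] at this
      rw [← this, Algebra.smul_def]
      ring
  obtain ⟨G, hG⟩ := Mn_fg K f hf (N + 1)
  have hGint : ∀ g ∈ G, IsIntegral R g := by
    intro g hg
    have : g ∈ Mn K f (N + 1) := by rw [← hG]; exact Submodule.subset_span hg
    exact this.1
  have h2 : ∀ G : Finset K, (∀ g ∈ G, IsIntegral R g) →
      ∃ t : R, t ∉ p ∧ ∀ g ∈ G, t • g ∈ Mn K f N := by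
    intro G
    induction G using Finset.induction_on with
    | empty => exact fun _ => ⟨1, by rw [← Ideal.eq_top_iff_one]; exact Ideal.IsPrime.ne_top ‹_›,
        fun g hg => absurd hg (Finset.notMem_empty g)⟩
    | insert a s _ ih =>
      intro hint
      obtain ⟨t, htp, ht⟩ := ih (fun g hg => hint g (Finset.mem_insert_of_mem hg))
      obtain ⟨t', ht'p, ht'⟩ := h1 a (hint a (Finset.mem_insert_self _ _))
      refine ⟨t * t', fun h => (Ideal.IsPrime.mem_or_mem ‹_› h).elim htp ht'p, fun g hg => ?_⟩
      rcases Finset.mem_insert.mp hg with rfl | hg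
      · rw [mul_smul]; exact (Mn K f N).smul_mem t ht'
      · rw [mul_comm, mul_smul]; exact (Mn K f N).smul_mem t' (ht g hg)
  obtain ⟨t, htp, ht⟩ := h2 G hGint
  refine ⟨t, htp, ?_⟩
  rw [mem_In]
  intro z hz
  rw [← hG] at hz
  induction hz using Submodule.span_induction with
  | mem x hx => exact ht x hx
  | zero => rw [smul_zero]; exact (Mn K f N).zero_mem
  | add x y _ _ hx hy => rw [smul_add]; exact (Mn K f N).add_mem hx hy
  | smul a x _ hx => rw [smul_comm]; exact (Mn K f N).smul_mem a hx

end local_claim

section localization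

/-- N-1 in terms of an arbitrary fraction field. -/
theorem finite_integralClosure_of_isN1 {A : Type u} [CommRing A] [IsDomain A] (hA : CAlg.IsN1 A)
    (K : Type u) [Field K] [Algebra A K] [IsFractionRing A K] :
    Module.Finite A (integralClosure A K) := by
  haveI : Module.Finite A (integralClosure A (FractionRing A)) := hA
  exact Module.Finite.equiv (FractionRing.algEquiv A K).mapIntegralClosure.toLinearEquiv

theorem isN1_of_finite_integralClosure {A : Type u} [CommRing A] [IsDomain A]
    (K : Type u) [Field K] [Algebra A K] [IsFractionRing A K]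
    (h : Module.Finite A (integralClosure A K)) : CAlg.IsN1 A := by
  haveI := h
  exact Module.Finite.equiv (FractionRing.algEquiv A K).symm.mapIntegralClosure.toLinearEquiv

/-- N-1 passes to localizations (which are domains). -/
theorem isN1_of_isLocalization {B : Type u} [CommRing B] [IsDomain B] (hB : CAlg.IsN1 B)
    (M : Submonoid B) (B' : Type u) [CommRing B'] [IsDomain B'] [Algebra B B']
    [IsLocalization M B'] : CAlg.IsN1 B' := by
  classical
  let K' := FractionRing B'
  have hM : M ≤ nonZeroDivisors B := by
    intro m hm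
    rw [mem_nonZeroDivisors_iff_ne_zero]
    rintro rfl
    have h1 : IsUnit (algebraMap B B' 0) := IsLocalization.map_units B' ⟨0, hm⟩
    rw [map_zero] at h1
    exact not_isUnit_zero h1
  have hinjBB' : Function.Injective (algebraMap B B') := IsLocalization.injective B' hM
  have hST2 : IsScalarTower B B' K' := inferInstance
  have hfrac : IsFractionRing B K' := by
    have h1 : IsLocalization ((nonZeroDivisors B').comap (algebraMap B B')) K' :=
      IsLocalization.localization_localization_isLocalization_of_has_all_units M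
        (nonZeroDivisors B') K' (fun x hx => hx.mem_nonZeroDivisors)
    have h2 : (nonZeroDivisors B').comap (algebraMap B B') = nonZeroDivisors B := by
      ext x
      rw [Submonoid.mem_comap, mem_nonZeroDivisors_iff_ne_zero, mem_nonZeroDivisors_iff_ne_zero,
        Ne, Ne, map_eq_zero_iff _ hinjBB']
    rw [h2] at h1
    exact h1
  have hC : Module.Finite B (integralClosure B K') := finite_integralClosure_of_isN1 hB K'
  have hC' : (Subalgebra.toSubmodule (integralClosure B K')).FG := Module.Finite.iff_fg.mp hC
  obtain ⟨G, hG⟩ := hC'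
  have hGint : ∀ g ∈ G, IsIntegral B g := by
    intro g hg
    have : g ∈ Subalgebra.toSubmodule (integralClosure B K') := by
      rw [← hG]; exact Submodule.subset_span hg
    exact this
  have heq : Subalgebra.toSubmodule (integralClosure B' K') = Submodule.span B' (G : Set K') := by
    apply le_antisymm
    · intro x hx
      obtain ⟨m, hm⟩ := IsIntegral.exists_multiple_integral_of_isLocalization M (Rₘ := B') x hx
      have h1 : m • x ∈ Submodule.span B (G : Set K') := by
        rw [hG]; exact hm
      have h2 : m • x ∈ Submodule.span B' (G : Set K') :=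
        Submodule.span_le_restrictScalars B B' (G : Set K') h1
      have h3 : x = (IsLocalization.mk' B' (1 : B) m) • (m • x) := by
        rw [Submonoid.smul_def, ← algebraMap_smul B' (m : B) x, smul_smul,
          IsLocalization.mk'_spec, map_one, one_smul]
      rw [h3]
      exact Submodule.smul_mem _ _ h2
    · rw [Submodule.span_le]
      intro g hg
      exact IsIntegral.tower_top (A := B') (hGint g hg)
  have hfg : (Subalgebra.toSubmodule (integralClosure B' K')).FG := by
    rw [heq]
    exact Submodule.fg_span G.finite_toSet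
  exact Module.Finite.iff_fg.mpr hfg

end localization

section main

variable (R : Type u) [CommRing R] [IsDomain R] [IsNoetherianRing R]

/-- **Stacks 0333, hard direction**: a Noetherian domain with a normal nonempty basic open, all of
whose localizations at maximal ideals are N-1, is N-1. -/
theorem isN1_of_local (f : R) (hf : f ≠ 0) (hn : IsIntegrallyClosed (Localization.Away f))
    (hloc : ∀ (m : Ideal R) [m.IsMaximal], CAlg.IsN1 (Localization.AtPrime m)) : CAlg.IsN1 R := by
  have hpow : ∀ z : FractionRing R, IsIntegral R z → ∃ n : ℕ, z ∈ Mn (FractionRing R) f n := by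
    have hle : Submonoid.powers f ≤ nonZeroDivisors R :=
      Submonoid.powers_le.mpr (mem_nonZeroDivisors_of_ne_zero hf)
    letI : Algebra (Localization.Away f) (FractionRing R) :=
      IsLocalization.localizationAlgebraOfSubmonoidLe (Localization.Away f) (FractionRing R)
        (Submonoid.powers f) (nonZeroDivisors R) hle
    haveI : IsScalarTower R (Localization.Away f) (FractionRing R) :=
      IsLocalization.localization_isScalarTower_of_submonoid_le (Localization.Away f)
        (FractionRing R) (Submonoid.powers f) (nonZeroDivisors R) hle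
    intro z hz
    obtain ⟨u, ⟨n, rfl⟩, b, hb⟩ :=
      (isIntegrallyClosed_iff_denominators (Submonoid.powers f) (Localization.Away f)
        (FractionRing R)).mp hn z hz
    exact ⟨n, hz, b, hb⟩
  show Module.Finite R (integralClosure R (FractionRing R))
  apply finite_integralClosure_of_chain (FractionRing R) f hf hpow
  intro m hm
  haveI := hm
  have hle : m.primeCompl ≤ nonZeroDivisors R := by
    intro x hx
    rw [mem_nonZeroDivisors_iff_ne_zero]
    rintro rfl
    exact hx m.zero_mem
  letI : Algebra (Localization.AtPrime m) (FractionRing R) :=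
    IsLocalization.localizationAlgebraOfSubmonoidLe (Localization.AtPrime m) (FractionRing R)
      m.primeCompl (nonZeroDivisors R) hle
  haveI : IsScalarTower R (Localization.AtPrime m) (FractionRing R) :=
    IsLocalization.localization_isScalarTower_of_submonoid_le (Localization.AtPrime m)
      (FractionRing R) m.primeCompl (nonZeroDivisors R) hle
  haveI : IsFractionRing (Localization.AtPrime m) (FractionRing R) :=
    IsFractionRing.isFractionRing_of_isDomain_of_isLocalization m.primeCompl
      (Localization.AtPrime m) (FractionRing R)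
  exact exists_mem_In (FractionRing R) f m (Localization.AtPrime m) hf hpow
    (finite_integralClosure_of_isN1 (hloc m) (FractionRing R))

end main

end Groth.Agent.Lib.Helper24.N1Crit
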