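import Mathlib
import Groth.Prelude.Def_Found

/-!
# N-2 descends along finite injective extensions of Noetherian domains (helper24)

Stacks 03GH-type: `A ⊆ B` finite extension of domains, `A` Noetherian, `B` N-2 ⇒ `A` N-2.
-/

set_option autoImplicit false
universe u
open TensorProduct

namespace Groth.Agent.Lib.Helper24.N2Descent

theorem isN2_of_finite_of_isN2 {A B : Type u} [CommRing A] [IsDomain A] [IsNoetherianRing A]
    [CommRing B] [IsDomain B] [Algebra A B] [Module.Finite A B] [FaithfulSMul A B]
    (hB : CAlg.IsN2 B) : CAlg.IsN2 A := by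
  intro L _ _ _ _ hfd
  letI : Algebra (FractionRing A) (FractionRing B) := FractionRing.liftAlgebra A (FractionRing B)
  haveI : IsScalarTower A (FractionRing A) (FractionRing B) :=
    FractionRing.isScalarTower_liftAlgebra A (FractionRing B)
  -- the field `M`
  haveI : Nontrivial (FractionRing B ⊗[FractionRing A] L) := inferInstance
  obtain ⟨𝔪, h𝔪⟩ := Ideal.exists_maximal (FractionRing B ⊗[FractionRing A] L)
  haveI := h𝔪
  letI : Field ((FractionRing B ⊗[FractionRing A] L) ⧸ 𝔪) := Ideal.Quotient.field 𝔪
  -- `L → M`
  let jA : L →ₐ[A] (FractionRing B ⊗[FractionRing A] L) ⧸ 𝔪 :=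
    { toRingHom := (Ideal.Quotient.mk 𝔪).comp
        (Algebra.TensorProduct.includeRight :
          L →ₐ[FractionRing A] FractionRing B ⊗[FractionRing A] L).toRingHom
      commutes' := fun a => by
        show Ideal.Quotient.mk 𝔪 ((Algebra.TensorProduct.includeRight :
          L →ₐ[FractionRing A] FractionRing B ⊗[FractionRing A] L) (algebraMap A L a)) =
            algebraMap A _ a
        rw [IsScalarTower.algebraMap_apply A (FractionRing A) L, AlgHom.commutes,
          IsScalarTower.algebraMap_apply A (FractionRing B ⊗[FractionRing A] L)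
            ((FractionRing B ⊗[FractionRing A] L) ⧸ 𝔪),
          IsScalarTower.algebraMap_apply A (FractionRing A)
            (FractionRing B ⊗[FractionRing A] L)]
        rfl }
  have hjinj : Function.Injective jA := jA.toRingHom.injective
  haveI hfinB : Module.Finite B (integralClosure B ((FractionRing B ⊗[FractionRing A] L) ⧸ 𝔪)) :=
    hB _ inferInstance
  haveI : Module.Finite A (integralClosure B ((FractionRing B ⊗[FractionRing A] L) ⧸ 𝔪)) :=
    Module.Finite.trans B _
  let Φ : integralClosure A L →ₗ[A]
      integralClosure B ((FractionRing B ⊗[FractionRing A] L) ⧸ 𝔪) :=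
    { toFun := fun x => ⟨jA x, (x.2.map jA).tower_top⟩
      map_add' := fun x y => Subtype.ext (map_add jA _ _)
      map_smul' := fun a x => Subtype.ext (by
        show jA (a • (x : L)) = a • jA (x : L)
        rw [map_smul]) }
  have hΦ : Function.Injective Φ := by
    intro x y hxy
    exact Subtype.ext (hjinj (congrArg Subtype.val hxy))
  exact Module.Finite.of_injective Φ hΦ

end Groth.Agent.Lib.Helper24.N2Descent
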