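import Mathlib

/-!
# Stalk maps of morphisms of presheaves of modules over a presheaf of (non-commutative) rings (helper24)

`stalkAdd`, `stalkLin`: the stalk map of `ψ : M ⟶ N` in `PresheafOfModules R`, `R : X.Presheaf RingCat`,
as an additive map and as an `R.stalk x`-linear map (for the module structure on stalks of
`Mathlib.Algebra.Category.ModuleCat.Stalk`); `stalkLin_germ`.
-/


set_option autoImplicit false
universe u
open CategoryTheory CategoryTheory.Limits AlgebraicGeometry TopologicalSpace Opposite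

namespace Groth.Agent.Lib.Helper24.NCStalk

variable {X : TopCat.{u}} {R : X.Presheaf RingCat.{u}}

/-- the stalk map of a morphism of presheaves of modules, as an additive map -/
noncomputable def stalkAdd {M N : PresheafOfModules.{u} R} (ψ : M ⟶ N) (x : X) :
    ↑(TopCat.Presheaf.stalk (C := Ab.{u}) M.presheaf x) →+
      ↑(TopCat.Presheaf.stalk (C := Ab.{u}) N.presheaf x) :=
  ((TopCat.Presheaf.stalkFunctor Ab.{u} x).map ((PresheafOfModules.toPresheaf R).map ψ)).hom

theorem stalkAdd_germ {M N : PresheafOfModules.{u} R} (ψ : M ⟶ N) (x : X) (U : Opens X)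
    (hx : x ∈ U) (s : M.obj (op U)) :
    stalkAdd ψ x (TopCat.Presheaf.germ M.presheaf U x hx s) =
      TopCat.Presheaf.germ N.presheaf U x hx ((ψ.app (op U)).hom s) := by
  unfold stalkAdd
  exact TopCat.Presheaf.stalkFunctor_map_germ_apply U x hx
    ((PresheafOfModules.toPresheaf R).map ψ) s

/-- the stalk map is linear over the stalk of the ring presheaf -/
theorem stalkAdd_smul {M N : PresheafOfModules.{u} R} (ψ : M ⟶ N) (x : X) (r : R.stalk x)
    (m : ↑(TopCat.Presheaf.stalk (C := Ab.{u}) M.presheaf x)) :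
    stalkAdd ψ x (r • m) = r • stalkAdd ψ x m := by
  obtain ⟨U, hxU, a, rfl⟩ := TopCat.Presheaf.exists_germ_eq R r
  obtain ⟨V, hxV, s, rfl⟩ := TopCat.Presheaf.exists_germ_eq M.presheaf m
  have hW : x ∈ U ⊓ V := ⟨hxU, hxV⟩
  obtain ⟨a', ha⟩ : ∃ a' : R.obj (op (U ⊓ V)), R.germ U x hxU a = R.germ (U ⊓ V) x hW a' :=
    ⟨R.map (homOfLE inf_le_left).op a,
      (TopCat.Presheaf.germ_res_apply R (homOfLE inf_le_left) x hW a).symm⟩
  obtain ⟨s', hs⟩ : ∃ s' : M.obj (op (U ⊓ V)), TopCat.Presheaf.germ M.presheaf V x hxV s =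
      TopCat.Presheaf.germ M.presheaf (U ⊓ V) x hW s' :=
    ⟨M.presheaf.map (homOfLE inf_le_right).op s,
      (TopCat.Presheaf.germ_res_apply M.presheaf (homOfLE inf_le_right) x hW s).symm⟩
  rw [ha, hs, ← PresheafOfModules.germ_ringCat_smul, stalkAdd_germ, stalkAdd_germ, map_smul,
    PresheafOfModules.germ_ringCat_smul]

noncomputable def stalkLin {M N : PresheafOfModules.{u} R} (ψ : M ⟶ N) (x : X) :
    ↑(TopCat.Presheaf.stalk (C := Ab.{u}) M.presheaf x) →ₗ[R.stalk x]
      ↑(TopCat.Presheaf.stalk (C := Ab.{u}) N.presheaf x) where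
  toFun := stalkAdd ψ x
  map_add' := map_add _
  map_smul' := stalkAdd_smul ψ x

theorem stalkLin_germ {M N : PresheafOfModules.{u} R} (ψ : M ⟶ N) (x : X) (U : Opens X)
    (hx : x ∈ U) (s : M.obj (op U)) :
    stalkLin ψ x (TopCat.Presheaf.germ M.presheaf U x hx s) =
      TopCat.Presheaf.germ N.presheaf U x hx ((ψ.app (op U)).hom s) :=
  stalkAdd_germ ψ x U hx s

end Groth.Agent.Lib.Helper24.NCStalk
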