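import Mathlib
import Groth.Prelude.Def_EGA4b
import Groth.Agent.Lib.Helper24.NFLoc2
import Groth.Agent.Lib.Helper26.Reflexive

/-!
# Normal flatness along a nilpotent ideal: `(S_n)` and codepth (helper24)
-/

set_option autoImplicit false

noncomputable section

namespace Groth.Agent.Lib.Helper24.NFLoc
open IsLocalRing LocCoh
universe u

section Supp

variable {A : Type u} [CommRing A] (S : Submonoid A)
  (M : Type u) [AddCommGroup M] [Module A M]

/-- full support passes to localizations -/
theorem support_localizedModule_eq_univ (hsupp : Module.support A M = Set.univ) :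
    Module.support (Localization S) (LocalizedModule S M) = Set.univ := by
  rw [Set.eq_univ_iff_forall]
  intro Q
  have hq : (⟨Q.asIdeal.comap (algebraMap A (Localization S)), inferInstance⟩ :
      PrimeSpectrum A) ∈ Module.support A M := by
    rw [hsupp]; exact Set.mem_univ _
  rw [Module.mem_support_iff'] at hq ⊢
  obtain ⟨m, hm⟩ := hq
  refine ⟨LocalizedModule.mkLinearMap S M m, ?_⟩
  intro b hb hzero
  apply hb
  obtain ⟨⟨a, s⟩, hbs⟩ := IsLocalization.surj S b
  simp only at hbs
  -- `a • m` is killed by some `t ∈ S`
  have h1 : LocalizedModule.mkLinearMap S M (a • m) = 0 := by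
    rw [map_smul, ← algebraMap_smul (Localization S) a, ← hbs, mul_comm, mul_smul, hzero,
      smul_zero]
  obtain ⟨t, ht⟩ := (IsLocalizedModule.eq_zero_iff S (LocalizedModule.mkLinearMap S M)).mp h1
  have h2 : ((t : A) * a) • m = 0 := by
    rw [mul_smul]; exact ht
  have h3 : (t : A) * a ∈ Q.asIdeal.comap (algebraMap A (Localization S)) := by
    by_contra hcon
    exact hm _ hcon h2
  rw [Ideal.mem_comap, map_mul] at h3
  have hunit : ∀ u : S, algebraMap A (Localization S) u ∉ Q.asIdeal := by
    intro u hu
    exact Q.2.ne_top (Ideal.eq_top_of_isUnit_mem _ hu (IsLocalization.map_units _ u))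
  have h4 : algebraMap A (Localization S) a ∈ Q.asIdeal :=
    (Q.2.mem_or_mem h3).resolve_left (hunit t)
  rw [← hbs] at h4
  exact (Q.2.mem_or_mem h4).resolve_right (hunit s)

end Supp

section Main

variable {A : Type u} [CommRing A] [IsNoetherianRing A] {I : Ideal A}
  {M : Type u} [AddCommGroup M] [Module A M] [Module.Finite A M]

/-- `(S_n)` for `M` versus `A/I`, globally. -/
theorem hasSk_iff (n : ℕ) (hI : IsNilpotent I) (hsupp : Module.support A M = Set.univ)
    (hM : EGA4.IsNormallyFlat I M) : HasSk n A M ↔ HasSk n A (A ⧸ I) := by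
  have key : ∀ (p : Ideal A) [p.IsPrime],
      depth (Localization.AtPrime p) (LocalizedModule p.primeCompl M) =
        depth (Localization.AtPrime p) (LocalizedModule p.primeCompl (A ⧸ I)) ∧
      Module.supportDim (Localization.AtPrime p) (LocalizedModule p.primeCompl M) =
        Module.supportDim (Localization.AtPrime p) (LocalizedModule p.primeCompl (A ⧸ I)) := by
    intro p _
    haveI : Nontrivial (LocalizedModule p.primeCompl M) := by
      have : (⟨p, inferInstance⟩ : PrimeSpectrum A) ∈ Module.support A M := by
        rw [hsupp]; exact Set.mem_univ _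
      exact Module.mem_support_iff.mp this
    exact core hI hM p
  constructor
  · intro h p _
    rw [← (key p).1, ← (key p).2]
    exact h p
  · intro h p _
    rw [(key p).1, (key p).2]
    exact h p

theorem main (n : ℕ) (hI : IsNilpotent I) (hsupp : Module.support A M = Set.univ)
    (hM : EGA4.IsNormallyFlat I M) (p : Ideal A) [p.IsPrime] :
    (EGA4.HasSkAt n A M p ↔ EGA4.HasSkAt n A (A ⧸ I) p) ∧
      (Module.supportDim (Localization.AtPrime p) (LocalizedModule p.primeCompl M) ≤
          ((LocCoh.depth (Localization.AtPrime p) (LocalizedModule p.primeCompl M) : ℕ∞) :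
            WithBot ℕ∞) + n ↔
        Module.supportDim (Localization.AtPrime p) (LocalizedModule p.primeCompl (A ⧸ I)) ≤
          ((LocCoh.depth (Localization.AtPrime p) (LocalizedModule p.primeCompl (A ⧸ I)) : ℕ∞) :
            WithBot ℕ∞) + n) := by
  constructor
  · unfold EGA4.HasSkAt
    have h1 := hasSk_iff (A := Localization.AtPrime p)
      (I := I.map (algebraMap A (Localization.AtPrime p)))
      (M := LocalizedModule p.primeCompl M) n (isNilpotent_map hI p.primeCompl)
      (support_localizedModule_eq_univ p.primeCompl M hsupp)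
      (isNormallyFlat_localizedModule A I p.primeCompl M hM)
    rw [h1]
    have e := quotEquiv I p.primeCompl
    exact ⟨fun h => Groth.Agent.Lib.helper26.Depth.hasSk_congr n e.symm h,
      fun h => Groth.Agent.Lib.helper26.Depth.hasSk_congr n e h⟩
  · haveI : Nontrivial (LocalizedModule p.primeCompl M) := by
      have : (⟨p, inferInstance⟩ : PrimeSpectrum A) ∈ Module.support A M := by
        rw [hsupp]; exact Set.mem_univ _
      exact Module.mem_support_iff.mp this
    obtain ⟨h1, h2⟩ := core hI hM p
    rw [h1, h2]

end Main

end Groth.Agent.Lib.Helper24.NFLoc
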