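import Mathlib

/-!
# Power series over a Noetherian normal domain form a normal domain (helper24)

Stacks 0BI0-type argument with almost integral elements: `R` Noetherian integrally closed domain
⇒ `R⟦X⟧` integrally closed.
-/

set_option autoImplicit false
set_option linter.unusedSectionVars false
universe u
open PowerSeries

namespace Groth.Agent.Lib.Helper24.PSNormal

variable (R : Type u) [CommRing R] [IsDomain R]
  (K : Type u) [Field K] [Algebra R K] [IsFractionRing R K]

/-- `R⟦X⟧ → K⟦X⟧`. -/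
noncomputable abbrev ι : R⟦X⟧ →+* K⟦X⟧ := PowerSeries.map (algebraMap R K)

theorem ι_injective : Function.Injective (ι R K) :=
  PowerSeries.map_injective _ (IsFractionRing.injective R K)

/-- cancelling a power of `X`. -/
theorem exists_of_X_pow_mul (m : ℕ) (y : K⟦X⟧) (c : R⟦X⟧) (h : (X : K⟦X⟧) ^ m * y = ι R K c) :
    ∃ c' : R⟦X⟧, c = X ^ m * c' ∧ y = ι R K c' := by
  have hdvd : (X : R⟦X⟧) ^ m ∣ c := by
    rw [PowerSeries.X_pow_dvd_iff]
    intro j hj
    have h1 : coeff j (ι R K c) = 0 := by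
      rw [← h, PowerSeries.coeff_X_pow_mul', if_neg (not_le.mpr hj)]
    rw [PowerSeries.coeff_map] at h1
    exact (IsFractionRing.injective R K) (h1.trans (map_zero _).symm)
  obtain ⟨c', rfl⟩ := hdvd
  refine ⟨c', rfl, ?_⟩
  rw [map_mul, map_pow, PowerSeries.map_X] at h
  exact mul_left_cancel₀ (pow_ne_zero m PowerSeries.X_ne_zero) h

theorem algebraMap_eq : algebraMap R⟦X⟧ K⟦X⟧ = ι R K := rfl

/-- dividing an almost integral power series by `X^m`. -/
theorem isAlmostIntegral_of_X_pow_mul (m : ℕ) (p : K⟦X⟧)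
    (h : IsAlmostIntegral R⟦X⟧ ((X : K⟦X⟧) ^ m * p)) : IsAlmostIntegral R⟦X⟧ p := by
  obtain ⟨r, hr, hr'⟩ := h
  refine ⟨r, hr, fun n => ?_⟩
  obtain ⟨c, hc⟩ := hr' n
  rw [Algebra.smul_def, mul_pow, ← pow_mul, mul_left_comm] at hc
  obtain ⟨c', -, hc'⟩ := exists_of_X_pow_mul R K (m * n) _ c hc.symm
  exact ⟨c', by rw [Algebra.smul_def]; exact hc'.symm⟩

/-- the constant coefficient of an almost integral power series is almost integral. -/
theorem isAlmostIntegral_constantCoeff (p : K⟦X⟧) (h : IsAlmostIntegral R⟦X⟧ p) :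
    IsAlmostIntegral R (constantCoeff p) := by
  obtain ⟨r, hr, hr'⟩ := h
  have hr0 : r ≠ 0 := nonZeroDivisors.ne_zero hr
  -- write `r = X^m * r₁` with nonzero constant coefficient
  obtain ⟨m, r₁, hr₁, hrr⟩ : ∃ (m : ℕ) (r₁ : R⟦X⟧), constantCoeff r₁ ≠ 0 ∧ r = X ^ m * r₁ := by
    have hfin : r.order ≠ ⊤ := by
      rw [Ne, PowerSeries.order_eq_top]
      exact hr0
    obtain ⟨c', hc'⟩ := PowerSeries.X_pow_order_dvd (φ := r)
    have h1 := PowerSeries.coeff_order (φ := r) hr0
    generalize r.order.toNat = m at hc' h1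
    refine ⟨m, c', ?_, hc'⟩
    intro h0
    apply h1
    rw [hc', PowerSeries.coeff_X_pow_mul', if_pos le_rfl, Nat.sub_self,
      PowerSeries.coeff_zero_eq_constantCoeff_apply]
    exact h0
  refine ⟨constantCoeff r₁, mem_nonZeroDivisors_of_ne_zero hr₁, fun n => ?_⟩
  obtain ⟨c, hc⟩ := hr' n
  rw [Algebra.smul_def, hrr, algebraMap_eq, map_mul, map_pow, PowerSeries.map_X, mul_assoc] at hc
  obtain ⟨c', -, hc'⟩ := exists_of_X_pow_mul R K m _ c hc.symm
  refine ⟨constantCoeff c', ?_⟩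
  have h2 := congrArg constantCoeff hc'
  rw [map_mul, map_pow] at h2
  rw [Algebra.smul_def]
  have h3 : constantCoeff (ι R K r₁) = algebraMap R K (constantCoeff r₁) := by
    rw [← PowerSeries.coeff_zero_eq_constantCoeff_apply, PowerSeries.coeff_map,
      PowerSeries.coeff_zero_eq_constantCoeff_apply]
  have h4 : constantCoeff (ι R K c') = algebraMap R K (constantCoeff c') := by
    rw [← PowerSeries.coeff_zero_eq_constantCoeff_apply, PowerSeries.coeff_map,
      PowerSeries.coeff_zero_eq_constantCoeff_apply]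
  rw [h3, h4] at h2
  exact h2.symm

section normal

variable [IsNoetherianRing R] [IsIntegrallyClosed R]

theorem constantCoeff_mem_range (p : K⟦X⟧) (h : IsAlmostIntegral R⟦X⟧ p) :
    constantCoeff p ∈ (algebraMap R K).range := by
  have h1 := isAlmostIntegral_constantCoeff R K p h
  haveI : FaithfulSMul R K := (faithfulSMul_iff_algebraMap_injective R K).mpr
    (IsFractionRing.injective R K)
  have h2 : IsIntegral R (constantCoeff p) := h1.isIntegral
  exact IsIntegrallyClosed.isIntegral_iff.mp h2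

theorem coeff_mem_range : ∀ (i : ℕ) (p : K⟦X⟧), IsAlmostIntegral R⟦X⟧ p →
    coeff i p ∈ (algebraMap R K).range := by
  intro i
  induction i with
  | zero =>
    intro p h
    rw [PowerSeries.coeff_zero_eq_constantCoeff_apply]
    exact constantCoeff_mem_range R K p h
  | succ i ih =>
    intro p h
    obtain ⟨a, ha⟩ := constantCoeff_mem_range R K p h
    have h1 : IsAlmostIntegral R⟦X⟧ (p - algebraMap R⟦X⟧ K⟦X⟧ (C a)) :=
      (completeIntegralClosure R⟦X⟧ K⟦X⟧).sub_mem h (Subalgebra.algebraMap_mem _ _)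
    have h2 : (X : K⟦X⟧) ∣ p - algebraMap R⟦X⟧ K⟦X⟧ (C a) := by
      rw [PowerSeries.X_dvd_iff, map_sub, algebraMap_eq, PowerSeries.map_C,
        PowerSeries.constantCoeff_C, ha, sub_self]
    obtain ⟨p', hp'⟩ := h2
    have h3 : IsAlmostIntegral R⟦X⟧ p' :=
      isAlmostIntegral_of_X_pow_mul R K 1 p' (by rw [pow_one, ← hp']; exact h1)
    have h4 := ih p' h3
    have h5 : coeff (i + 1) p = coeff i p' := by
      have h6 : p = X * p' + C (algebraMap R K a) := by
        rw [← hp', algebraMap_eq, PowerSeries.map_C]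
        ring
      rw [h6, map_add, PowerSeries.coeff_succ_X_mul, PowerSeries.coeff_C,
        if_neg (Nat.succ_ne_zero i), add_zero]
    rw [h5]
    exact h4

theorem mem_range_of_isAlmostIntegral (p : K⟦X⟧) (h : IsAlmostIntegral R⟦X⟧ p) :
    ∃ q : R⟦X⟧, ι R K q = p := by
  choose c hc using fun i => coeff_mem_range R K i p h
  refine ⟨PowerSeries.mk c, ?_⟩
  ext i
  rw [PowerSeries.coeff_map, PowerSeries.coeff_mk, hc]

end normal

section main

variable [IsNoetherianRing R] [IsIntegrallyClosed R]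

include K in
/-- divisibility form of normality of `R⟦X⟧`. -/
theorem dvd_of_forall_pow (f g h : R⟦X⟧) (hg : g ≠ 0) (hh : h ≠ 0)
    (key : ∀ n : ℕ, ∃ c : R⟦X⟧, h * f ^ n = c * g ^ n) : g ∣ f := by
  have hG : ι R K g ≠ 0 := fun h0 => hg (ι_injective R K (h0.trans (map_zero _).symm))
  have hH : ι R K h ≠ 0 := fun h0 => hh (ι_injective R K (h0.trans (map_zero _).symm))
  -- step 1 : `ι g ∣ ι f` in `K⟦X⟧`
  obtain ⟨w, hw⟩ : ∃ w : K⟦X⟧, w * ι R K g = ι R K f := by
    have haG : algebraMap K⟦X⟧ (FractionRing K⟦X⟧) (ι R K g) ≠ 0 := by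
      intro h0
      exact hG (IsFractionRing.injective K⟦X⟧ (FractionRing K⟦X⟧) (h0.trans (map_zero _).symm))
    have hai : IsAlmostIntegral K⟦X⟧
        (algebraMap K⟦X⟧ (FractionRing K⟦X⟧) (ι R K f) /
          algebraMap K⟦X⟧ (FractionRing K⟦X⟧) (ι R K g)) := by
      refine ⟨ι R K h, mem_nonZeroDivisors_of_ne_zero hH, fun n => ?_⟩
      obtain ⟨c, hc⟩ := key n
      refine ⟨ι R K c, ?_⟩
      rw [Algebra.smul_def, div_pow, ← mul_div_assoc, eq_div_iff (pow_ne_zero n haG),
        ← map_pow, ← map_pow, ← map_mul, ← map_mul, ← map_pow, ← map_pow, ← map_mul, ← map_mul,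
        hc]
    have hint : IsIntegral K⟦X⟧ (algebraMap K⟦X⟧ (FractionRing K⟦X⟧) (ι R K f) /
          algebraMap K⟦X⟧ (FractionRing K⟦X⟧) (ι R K g)) := hai.isIntegral
    obtain ⟨w, hw⟩ := IsIntegrallyClosed.isIntegral_iff.mp hint
    refine ⟨w, ?_⟩
    apply IsFractionRing.injective K⟦X⟧ (FractionRing K⟦X⟧)
    rw [map_mul, hw, div_mul_cancel₀ _ haG]
  -- step 2 : `w` is almost integral over `R⟦X⟧`
  have hwai : IsAlmostIntegral R⟦X⟧ w := by
    refine ⟨h, mem_nonZeroDivisors_of_ne_zero hh, fun n => ?_⟩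
    obtain ⟨c, hc⟩ := key n
    refine ⟨c, ?_⟩
    rw [Algebra.smul_def]
    apply mul_right_cancel₀ (pow_ne_zero n hG)
    show ι R K c * ι R K g ^ n = ι R K h * w ^ n * ι R K g ^ n
    rw [mul_assoc, ← mul_pow, hw, ← map_pow, ← map_pow, ← map_mul, ← map_mul, hc]
  obtain ⟨q, hq⟩ := mem_range_of_isAlmostIntegral R K w hwai
  refine ⟨q, ?_⟩
  apply ι_injective R K
  rw [map_mul, hq, ← hw, mul_comm]

end main

/-- **Power series over a Noetherian integrally closed domain are integrally closed.** -/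
theorem isIntegrallyClosed_powerSeries (R : Type u) [CommRing R] [IsDomain R] [IsNoetherianRing R]
    [IsIntegrallyClosed R] : IsIntegrallyClosed R⟦X⟧ := by
  rw [isIntegrallyClosed_iff (FractionRing R⟦X⟧)]
  intro x hx
  obtain ⟨f, g, rfl⟩ := IsLocalization.exists_mk'_eq (nonZeroDivisors R⟦X⟧) x
  have hg : (g : R⟦X⟧) ≠ 0 := nonZeroDivisors.ne_zero g.2
  have hai : IsAlmostIntegral R⟦X⟧ (IsLocalization.mk' (FractionRing R⟦X⟧) f g) :=
    hx.isAlmostIntegral
  obtain ⟨h, hh, hn⟩ := hai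
  have key : ∀ n : ℕ, ∃ c : R⟦X⟧, h * f ^ n = c * (g : R⟦X⟧) ^ n := by
    intro n
    obtain ⟨c, hc⟩ := hn n
    refine ⟨c, ?_⟩
    apply IsFractionRing.injective R⟦X⟧ (FractionRing R⟦X⟧)
    rw [Algebra.smul_def] at hc
    have h1 : algebraMap R⟦X⟧ (FractionRing R⟦X⟧) f =
        IsLocalization.mk' (FractionRing R⟦X⟧) f g * algebraMap R⟦X⟧ (FractionRing R⟦X⟧) g :=
      (IsLocalization.mk'_spec _ f g).symm
    rw [map_mul, map_mul, map_pow, map_pow, hc, h1, mul_pow, mul_assoc]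
  obtain ⟨q, hq⟩ := dvd_of_forall_pow R (FractionRing R) f g h hg (nonZeroDivisors.ne_zero hh) key
  refine ⟨q, ?_⟩
  rw [eq_comm, IsLocalization.mk'_eq_iff_eq_mul, hq, map_mul, mul_comm]

end Groth.Agent.Lib.Helper24.PSNormal
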