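import Mathlib
import Groth.Agent.Lib.Helper24.PSNormal
import Groth.Agent.Lib.Helper13.PIns2
import Groth.Agent.S0569

/-!
# Power series rings over Noetherian N-2 domains are N-2 (helper24)

Stacks 0331/0332 via Tate's lemma (`S0569`) and normality of `R⟦X⟧`.
-/

set_option autoImplicit false
universe u
open PowerSeries

namespace Groth.Agent.Lib.Helper24.PSN2

theorem isN2_of_ringEquiv {A₀ A : Type u} [CommRing A₀] [IsDomain A₀] [CommRing A] [IsDomain A]
    (e : A₀ ≃+* A) (h : CAlg.IsN2 A₀) : CAlg.IsN2 A := by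
  letI : Algebra A₀ A := e.toRingHom.toAlgebra
  haveI : Module.Finite A₀ A :=
    Module.Finite.of_surjective (Algebra.linearMap A₀ A) e.surjective
  haveI : FaithfulSMul A₀ A := (faithfulSMul_iff_algebraMap_injective _ _).mpr e.injective
  intro L _ _ _ _ hfd
  exact Groth.Agent.Lib.helper13.PIns.finite_integralClosure_of_finite_injective h
    (FractionRing A) L

/-- `B ≃ B⟦X⟧/(X)`. -/
noncomputable def quotXEquiv (B : Type u) [CommRing B] :
    B ≃+* B⟦X⟧ ⧸ Ideal.span {(X : B⟦X⟧)} :=
  RingEquiv.ofBijective ((Ideal.Quotient.mk _).comp (C : B →+* B⟦X⟧)) (by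
    constructor
    · rw [injective_iff_map_eq_zero]
      intro a ha
      rw [RingHom.comp_apply, Ideal.Quotient.eq_zero_iff_mem, Ideal.mem_span_singleton,
        PowerSeries.X_dvd_iff, PowerSeries.constantCoeff_C] at ha
      exact ha
    · intro z
      obtain ⟨p, rfl⟩ := Ideal.Quotient.mk_surjective z
      refine ⟨constantCoeff p, ?_⟩
      rw [RingHom.comp_apply, Ideal.Quotient.eq, Ideal.mem_span_singleton,
        PowerSeries.X_dvd_iff, map_sub, PowerSeries.constantCoeff_C, sub_self])

/-- Tate's lemma applied to `B⟦X⟧` for a normal Noetherian N-2 domain `B`. -/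
theorem isN2_powerSeries_of_normal (B : Type u) [CommRing B] [IsDomain B] [IsNoetherianRing B]
    [IsIntegrallyClosed B] (h : CAlg.IsN2 B) : CAlg.IsN2 B⟦X⟧ := by
  haveI := Groth.Agent.Lib.Helper24.PSNormal.isIntegrallyClosed_powerSeries B
  haveI : (Ideal.span {(X : B⟦X⟧)}).IsPrime := PowerSeries.span_X_isPrime
  exact Groth.Agent.S0569.result B⟦X⟧ X (isN2_of_ringEquiv (quotXEquiv B) h)

/-- the package of properties -/
def Good (B : Type u) [CommRing B] : Prop :=
  ∃ (_ : IsDomain B), IsNoetherianRing B ∧ IsIntegrallyClosed B ∧ CAlg.IsN2 B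

theorem Good.of_ringEquiv {B B' : Type u} [CommRing B] [CommRing B'] (e : B ≃+* B')
    (h : Good B) : Good B' := by
  obtain ⟨hd, hN, hic, hN2⟩ := h
  haveI : IsDomain B' := e.symm.toMulEquiv.isDomain
  exact ⟨inferInstance, isNoetherianRing_of_ringEquiv B e, IsIntegrallyClosed.of_equiv e,
    isN2_of_ringEquiv e hN2⟩

theorem Good.powerSeries {B : Type u} [CommRing B] (h : Good B) : Good B⟦X⟧ := by
  obtain ⟨hd, hN, hic, hN2⟩ := h
  exact ⟨inferInstance, inferInstance,
    Groth.Agent.Lib.Helper24.PSNormal.isIntegrallyClosed_powerSeries B,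
    isN2_powerSeries_of_normal B hN2⟩

theorem good_mvPowerSeries (A : Type u) [CommRing A] (h : Good A) :
    ∀ r : ℕ, Good (MvPowerSeries (Fin r) A) := by
  intro r
  induction r with
  | zero => exact h.of_ringEquiv (MvPowerSeries.isEmptyEquiv (σ := Fin 0) (R := A)).symm.toRingEquiv
  | succ r ih =>
    exact (Good.powerSeries ih).of_ringEquiv (MvPowerSeries.finSuccEquiv A r).symm.toRingEquiv

end Groth.Agent.Lib.Helper24.PSN2
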