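import Mathlib
import Groth.Agent.Lib.Helper24.AnUnram2
import Groth.Agent.Lib.Helper24.SmoothReduced
import Groth.Agent.Lib.Helper24.NoethLimit
import Groth.Agent.Lib.Helper24.PSN2

/-!
# The Nagata property descends along smooth faithfully flat ring maps (helper24)
-/

set_option autoImplicit false
universe u
open TensorProduct

namespace Groth.Agent.Lib.Helper24.NagSmooth

attribute [local instance] Algebra.TensorProduct.rightAlgebra

/-- The domain case. -/
theorem isN2_of_smooth_faithfullyFlat (A Â : Type u) [CommRing A] [IsDomain A]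
    [IsNoetherianRing A] [CommRing Â] [Algebra A Â] [Algebra.Smooth A Â]
    [Module.FaithfullyFlat A Â] [IsNoetherianRing Â]
    (hnag : ∀ (q : Ideal Â) [q.IsPrime], CAlg.IsN2 (Â ⧸ q)) : CAlg.IsN2 A := by
  intro L _ _ _ _ hfd
  haveI : IsScalarTower A Â (FractionRing A ⊗[A] Â) :=
    IsScalarTower.of_algebraMap_eq (fun a => by
      show algebraMap A (FractionRing A ⊗[A] Â) a =
        (Algebra.TensorProduct.includeRight : Â →ₐ[A] FractionRing A ⊗[A] Â) (algebraMap A Â a)
      rw [AlgHom.commutes])
  have hQinj : Function.Injective (algebraMap Â (FractionRing A ⊗[A] Â)) :=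
    Algebra.TensorProduct.includeRight_injective (IsFractionRing.injective A (FractionRing A))
  haveI : Algebra.Smooth (FractionRing A) (FractionRing A ⊗[A] Â) := inferInstance
  haveI : Algebra.Smooth L (L ⊗[FractionRing A] (FractionRing A ⊗[A] Â)) := inferInstance
  haveI : IsReduced (L ⊗[FractionRing A] (FractionRing A ⊗[A] Â)) :=
    Groth.Agent.Lib.Helper24.SmoothReduced.isReduced_of_smooth L
      (L ⊗[FractionRing A] (FractionRing A ⊗[A] Â))
  exact Groth.Agent.Lib.Helper24.AnUnram.finite_integralClosure_of_reduced_tensor A Â hnag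
    (FractionRing A ⊗[A] Â) hQinj (FractionRing A) L

/-- **The Nagata property descends along smooth ring maps surjective on spectra.** -/
theorem isNagata_of_smooth (R S : Type u) [CommRing R] [CommRing S] [Algebra R S]
    [Algebra.Smooth R S]
    (hs : Function.Surjective (PrimeSpectrum.comap (algebraMap R S))) (hS : CAlg.IsNagata S) :
    CAlg.IsNagata R := by
  haveI := hS.1
  haveI : Module.Flat R S := inferInstance
  haveI : Module.FaithfullyFlat R S := Module.FaithfullyFlat.of_comap_surjective hs
  haveI hN : IsNoetherianRing R :=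
    Groth.Agent.Lib.Helper24.NoethLimit.isNoetherianRing_of_faithfullyFlat R S
  refine ⟨hN, fun p _ => ?_⟩
  have hsurj : Function.Surjective
      (Algebra.TensorProduct.includeRight : S →ₐ[R] (R ⧸ p) ⊗[R] S) := by
    intro z
    induction z using TensorProduct.induction_on with
    | zero => exact ⟨0, map_zero _⟩
    | tmul a s =>
      obtain ⟨r, rfl⟩ := Ideal.Quotient.mk_surjective a
      refine ⟨r • s, ?_⟩
      rw [Algebra.TensorProduct.includeRight_apply]
      have h1 : (1 : R ⧸ p) ⊗ₜ[R] (r • s) = (r • (1 : R ⧸ p)) ⊗ₜ[R] s :=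
        (TensorProduct.smul_tmul r (1 : R ⧸ p) s).symm
      rw [h1]
      congr 1
      rw [Algebra.smul_def, mul_one]
      rfl
    | add x y hx hy =>
      obtain ⟨x', rfl⟩ := hx
      obtain ⟨y', rfl⟩ := hy
      exact ⟨x' + y', map_add _ _ _⟩
  haveI : IsNoetherianRing ((R ⧸ p) ⊗[R] S) :=
    isNoetherianRing_of_surjective S _
      (Algebra.TensorProduct.includeRight : S →ₐ[R] (R ⧸ p) ⊗[R] S).toRingHom hsurj
  refine isN2_of_smooth_faithfullyFlat (R ⧸ p) ((R ⧸ p) ⊗[R] S) ?_
  intro q _
  let f : S →+* ((R ⧸ p) ⊗[R] S) ⧸ q :=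
    (Ideal.Quotient.mk q).comp
      (Algebra.TensorProduct.includeRight : S →ₐ[R] (R ⧸ p) ⊗[R] S).toRingHom
  have hf : Function.Surjective f := Ideal.Quotient.mk_surjective.comp hsurj
  haveI : (RingHom.ker f).IsPrime := RingHom.ker_isPrime f
  exact Groth.Agent.Lib.Helper24.PSN2.isN2_of_ringEquiv
    (RingHom.quotientKerEquivOfSurjective hf) (hS.2 (RingHom.ker f))

end Groth.Agent.Lib.Helper24.NagSmooth
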