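import Mathlib
import Groth.Prelude.Def_AssocGrMod

/-!
# Normal flatness: a module with "locally finite" retractions onto flat modules is flat

`flat_of_locally_finite_retracts`: if `G` has maps `ι n : Q n → G`, `ρ n : G → Q n` with
every `g` equal to the (eventually constant) finite sums `∑ ι n (ρ n g)`, and all `Q n` are flat,
then `G` is flat.
-/

set_option autoImplicit false

open TensorProduct

namespace Groth.Agent.Lib.Helper24.NormFlat1

universe u v w

theorem flat_of_locally_finite_retracts {R : Type u} [CommRing R] {G : Type v} [AddCommGroup G]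
    [Module R G] (Q : ℕ → Type w) [∀ n, AddCommGroup (Q n)] [∀ n, Module R (Q n)]
    (ι : ∀ n, Q n →ₗ[R] G) (ρ : ∀ n, G →ₗ[R] Q n)
    (hfin : ∀ g : G, ∃ S : Finset ℕ, ∀ S' : Finset ℕ, S ⊆ S' → ∑ n ∈ S', ι n (ρ n g) = g)
    (hQ : ∀ n, Module.Flat R (Q n)) : Module.Flat R G := by
  rw [Module.Flat.iff_lTensor_injective']
  intro J
  rw [injective_iff_map_eq_zero]
  intro x hx
  -- local finiteness on the tensor product
  have key : ∀ x : G ⊗[R] J, ∃ S : Finset ℕ, ∀ S' : Finset ℕ, S ⊆ S' →
      ∑ n ∈ S', LinearMap.rTensor J (ι n ∘ₗ ρ n) x = x := by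
    intro x
    induction x using TensorProduct.induction_on with
    | zero => exact ⟨∅, fun S' _ => by simp⟩
    | tmul g j =>
      obtain ⟨S, hS⟩ := hfin g
      refine ⟨S, fun S' hS' => ?_⟩
      simp only [LinearMap.rTensor_tmul, LinearMap.comp_apply]
      rw [← TensorProduct.sum_tmul, hS S' hS']
    | add x y hx hy =>
      obtain ⟨S₁, h₁⟩ := hx
      obtain ⟨S₂, h₂⟩ := hy
      refine ⟨S₁ ∪ S₂, fun S' hS' => ?_⟩
      simp only [map_add]
      rw [Finset.sum_add_distrib, h₁ S' (Finset.union_subset_left hS'),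
        h₂ S' (Finset.union_subset_right hS')]
  obtain ⟨S, hS⟩ := key x
  have hz : ∀ n, LinearMap.rTensor J (ρ n) x = 0 := by
    intro n
    have hinj := (Module.Flat.iff_lTensor_injective'.mp (hQ n)) J
    apply hinj
    rw [map_zero, ← LinearMap.comp_apply, LinearMap.lTensor_comp_rTensor,
      ← LinearMap.rTensor_comp_lTensor, LinearMap.comp_apply, hx, map_zero]
  rw [← hS S le_rfl]
  refine Finset.sum_eq_zero fun n _ => ?_
  rw [LinearMap.rTensor_comp, LinearMap.comp_apply, hz n, map_zero]

end Groth.Agent.Lib.Helper24.NormFlat1
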