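import Mathlib
import Groth.Prelude.Def_AssocGrMod
import Groth.Agent.Lib.Helper24.NormFlat1

/-!
# Normal flatness: the graded pieces `IⁿM / I·IⁿM` are retracts of `gr_I(M)`

Maps `ιA n : IⁿM / I·IⁿM → gr_I(M)`, `ρA n : gr_I(M) → IⁿM / I·IⁿM`, with `ρA n ∘ ιA n = id` and
every element of `gr_I(M)` the finite sum of `ιA n (ρA n g)`.
-/

set_option autoImplicit false

open AssocGr

namespace Groth.Agent.Lib.Helper24.NormFlat2

universe u

variable {A : Type u} [CommRing A] (I : Ideal A) (M : Type u) [AddCommGroup M] [Module A M]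

/-- the `n`-th piece of the definition of normal flatness -/
abbrev Q (n : ℕ) : Type u :=
  ↥(I ^ n • (⊤ : Submodule A M)) ⧸ (I • (⊤ : Submodule A ↥(I ^ n • (⊤ : Submodule A M))))

theorem mem_smul_top_of_coe_mem (N : Submodule A M) (x : N) (hx : (x : M) ∈ I • N) :
    x ∈ I • (⊤ : Submodule A N) := by
  have h : (I • (⊤ : Submodule A N)).map N.subtype = I • N := by
    rw [Submodule.map_smul'', Submodule.map_top, Submodule.range_subtype]
  rw [← h] at hx
  obtain ⟨y, hy, hyx⟩ := hx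
  have : y = x := Subtype.ext hyx
  rwa [this] at hy

theorem coe_mem_of_mem_smul_top (N : Submodule A M) (x : N) (hx : x ∈ I • (⊤ : Submodule A N)) :
    (x : M) ∈ I • N := by
  have h : (I • (⊤ : Submodule A N)).map N.subtype = I • N := by
    rw [Submodule.map_smul'', Submodule.map_top, Submodule.range_subtype]
  rw [← h]
  exact ⟨x, hx, rfl⟩

theorem smul_pow_smul_top (n : ℕ) :
    I • (I ^ n • (⊤ : Submodule A M)) = I ^ (n + 1) • (⊤ : Submodule A M) := by
  rw [pow_succ', Submodule.mul_smul]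

/-- `x ↦ class of x·Xⁿ`, as an `A`-linear map. -/
noncomputable def jn (n : ℕ) : ↥(I ^ n • (⊤ : Submodule A M)) →ₗ[A] GrMod (Rees.powFilt I M) where
  toFun x := (inDegM (Rees.powFilt I M) n x : GrMod (Rees.powFilt I M))
  map_add' x y :=
    congrArg Subtype.val ((inDegM (Rees.powFilt I M) n).map_add x y)
  map_smul' a x := by
    rw [RingHom.id_apply]
    exact coe_inDegM_smul (Rees.powFilt I M) n a x

theorem jn_apply (n : ℕ) (x : ↥(I ^ n • (⊤ : Submodule A M))) :
    jn I M n x = mkGM (Rees.powFilt I M) (monomM (Rees.powFilt I M) n x) := rfl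

theorem le_ker_jn (n : ℕ) :
    I • (⊤ : Submodule A ↥(I ^ n • (⊤ : Submodule A M))) ≤ LinearMap.ker (jn I M n) := by
  intro x hx
  rw [LinearMap.mem_ker]
  refine Submodule.smul_induction_on hx (fun a ha y _ => ?_) (fun x y hx hy => ?_)
  · rw [map_smul]
    exact isTorsionBySet_base (Rees.powFilt I M) (x := jn I M n y) (a := ⟨a, ha⟩)
  · rw [map_add, hx, hy, add_zero]

/-- the inclusion of the `n`-th piece into the associated graded module -/
noncomputable def ιA (n : ℕ) : Q I M n →ₗ[A] GrMod (Rees.powFilt I M) :=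
  (I • (⊤ : Submodule A ↥(I ^ n • (⊤ : Submodule A M)))).liftQ (jn I M n) (le_ker_jn I M n)

theorem ιA_mk (n : ℕ) (x : ↥(I ^ n • (⊤ : Submodule A M))) :
    ιA I M n (Submodule.Quotient.mk x) =
      mkGM (Rees.powFilt I M) (monomM (Rees.powFilt I M) n x) := rfl

/-- the `n`-th coefficient map from the Rees module to the `n`-th piece -/
noncomputable def cn (n : ℕ) : ReesM (Rees.powFilt I M) →ₗ[A] Q I M n where
  toFun y := Submodule.Quotient.mk
    (⟨ReesM.coeff (Rees.powFilt I M) y n, ReesM.coeff_mem (Rees.powFilt I M) y n⟩ :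
      ↥(I ^ n • (⊤ : Submodule A M)))
  map_add' y y' := by
    rw [← Submodule.Quotient.mk_add]
    congr 1
  map_smul' a y := by
    rw [RingHom.id_apply, ← Submodule.Quotient.mk_smul]
    congr 1

theorem cn_apply (n : ℕ) (y : ReesM (Rees.powFilt I M)) :
    cn I M n y = Submodule.Quotient.mk
      (⟨ReesM.coeff (Rees.powFilt I M) y n, ReesM.coeff_mem (Rees.powFilt I M) y n⟩ :
        ↥(I ^ n • (⊤ : Submodule A M))) := rfl

theorem ker_mkGM_le_ker_cn (n : ℕ) :
    LinearMap.ker (mkGM (Rees.powFilt I M)) ≤ LinearMap.ker (cn I M n) := by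
  intro y hy
  rw [LinearMap.mem_ker] at hy ⊢
  rw [mkGM_eq_zero_iff, mem_succMod_iff] at hy
  rw [cn_apply, Submodule.Quotient.mk_eq_zero]
  apply mem_smul_top_of_coe_mem
  rw [smul_pow_smul_top]
  exact hy n

/-- the projection of the associated graded module onto its `n`-th piece -/
noncomputable def ρA (n : ℕ) : GrMod (Rees.powFilt I M) →ₗ[A] Q I M n :=
  ((LinearMap.ker (mkGM (Rees.powFilt I M))).liftQ (cn I M n) (ker_mkGM_le_ker_cn I M n)) ∘ₗ
    (LinearMap.quotKerEquivOfSurjective (mkGM (Rees.powFilt I M))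
      (mkGM_surjective (Rees.powFilt I M))).symm.toLinearMap

theorem ρA_mkGM (n : ℕ) (y : ReesM (Rees.powFilt I M)) :
    ρA I M n (mkGM (Rees.powFilt I M) y) = cn I M n y := by
  have h : (LinearMap.quotKerEquivOfSurjective (mkGM (Rees.powFilt I M))
      (mkGM_surjective (Rees.powFilt I M))).symm (mkGM (Rees.powFilt I M) y) =
      Submodule.Quotient.mk y := by
    rw [LinearEquiv.symm_apply_eq]
    rfl
  rw [ρA, LinearMap.comp_apply, LinearEquiv.coe_coe, h]
  rfl

theorem ρA_ιA (n : ℕ) (q : Q I M n) : ρA I M n (ιA I M n q) = q := by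
  obtain ⟨x, rfl⟩ := Submodule.Quotient.mk_surjective _ q
  rw [ιA_mk, ρA_mkGM, cn_apply]
  congr 1
  apply Subtype.ext
  exact (ReesM.coeff_monomM (Rees.powFilt I M) n x n).trans (if_pos rfl)

theorem sum_ιA_ρA (g : GrMod (Rees.powFilt I M)) :
    ∃ S : Finset ℕ, ∀ S' : Finset ℕ, S ⊆ S' → ∑ n ∈ S', ιA I M n (ρA I M n g) = g := by
  obtain ⟨y, rfl⟩ := mkGM_surjective (Rees.powFilt I M) g
  refine ⟨((toReesM (Rees.powFilt I M)).symm y : PolynomialModule A M).coeff.support,
    fun S' hS' => ?_⟩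
  have h1 : ∀ n, ιA I M n (ρA I M n (mkGM (Rees.powFilt I M) y)) =
      mkGM (Rees.powFilt I M) (termM (Rees.powFilt I M) y n) := by
    intro n
    rw [ρA_mkGM, cn_apply, ιA_mk]
    rfl
  simp only [h1]
  rw [← map_sum]
  congr 1
  refine ReesM.ext (Rees.powFilt I M) fun m => ?_
  rw [← ReesM.coeffHom_apply, map_sum]
  simp only [ReesM.coeffHom_apply, termM, ReesM.coeff_monomM, Finset.sum_ite_eq']
  split_ifs with h
  · rfl
  · have : m ∉ ((toReesM (Rees.powFilt I M)).symm y : PolynomialModule A M).coeff.support :=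
      fun hm => h (hS' hm)
    exact (Finsupp.notMem_support_iff.mp this).symm

/-- `ιA` as an `A ⧸ I`-linear map. -/
noncomputable def ι (n : ℕ) : Q I M n →ₗ[A ⧸ I] GrMod (Rees.powFilt I M) :=
  LinearMap.extendScalarsOfSurjective Ideal.Quotient.mk_surjective (ιA I M n)

/-- `ρA` as an `A ⧸ I`-linear map. -/
noncomputable def ρ (n : ℕ) : GrMod (Rees.powFilt I M) →ₗ[A ⧸ I] Q I M n :=
  LinearMap.extendScalarsOfSurjective Ideal.Quotient.mk_surjective (ρA I M n)

theorem ρ_comp_ι (n : ℕ) : (ρ I M n).comp (ι I M n) = LinearMap.id :=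
  LinearMap.ext fun q => ρA_ιA I M n q

theorem sum_ι_ρ (g : GrMod (Rees.powFilt I M)) :
    ∃ S : Finset ℕ, ∀ S' : Finset ℕ, S ⊆ S' → ∑ n ∈ S', ι I M n (ρ I M n g) = g :=
  sum_ιA_ρA I M g

theorem main :
    (∀ n : ℕ, Module.Flat (A ⧸ I) (Q I M n)) ↔
      Module.Flat (A ⧸ I) (GrMod (Rees.powFilt I M)) := by
  constructor
  · intro h
    exact NormFlat1.flat_of_locally_finite_retracts (Q I M) (ι I M) (ρ I M) (sum_ι_ρ I M) h
  · intro h n
    exact Module.Flat.of_retract (ι I M n) (ρ I M n) (ρ_comp_ι I M n)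

end Groth.Agent.Lib.Helper24.NormFlat2
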