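import Mathlib

/-!
# `R'⟦X⟧` is finite over `R⟦X⟧` when `R'` is finite over `R` (helper24)
-/

set_option autoImplicit false
universe u
open PowerSeries

namespace Groth.Agent.Lib.Helper24.PSFinite

theorem finite_powerSeries (R R' : Type u) [CommRing R] [CommRing R'] [Algebra R R']
    [Module.Finite R R'] : Module.Finite R⟦X⟧ R'⟦X⟧ := by
  classical
  obtain ⟨n, s, hs⟩ := Module.Finite.exists_fin (R := R) (M := R')
  have hex : ∀ y : R', ∃ c : Fin n → R, ∑ i, c i • s i = y := by
    intro y
    have hy : y ∈ Submodule.span R (Set.range s) := by rw [hs]; trivial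
    exact (Submodule.mem_span_range_iff_exists_fun R).mp hy
  refine ⟨Finset.univ.image (fun i => (C (s i) : R'⟦X⟧)), ?_⟩
  rw [eq_top_iff]
  intro q _
  choose c hc using fun j : ℕ => hex (coeff j q)
  have hq : q = ∑ i, (PowerSeries.mk (fun j => c j i) : R⟦X⟧) • (C (s i) : R'⟦X⟧) := by
    ext j
    rw [map_sum, ← hc j]
    refine Finset.sum_congr rfl (fun i _ => ?_)
    have h1 : (PowerSeries.mk (fun j => c j i) : R⟦X⟧) • (C (s i) : R'⟦X⟧) =
        C (s i) * PowerSeries.map (algebraMap R R') (PowerSeries.mk fun j => c j i) := by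
      rw [Algebra.smul_def, mul_comm]
      rfl
    rw [h1, PowerSeries.coeff_C_mul, PowerSeries.coeff_map, PowerSeries.coeff_mk,
      Algebra.smul_def, mul_comm]
  rw [hq]
  refine Submodule.sum_mem _ (fun i _ => Submodule.smul_mem _ _ (Submodule.subset_span ?_))
  exact Finset.mem_coe.mpr (Finset.mem_image_of_mem _ (Finset.mem_univ i))

end Groth.Agent.Lib.Helper24.PSFinite
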