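import Mathlib

/-!
# Direct limits of henselian pairs (helper24)

For a directed system of rings `B i` with ideals `K i` (transition maps sending `K i` into `K j`),
the union ideal `limIdeal` of the direct limit, and the fact that a direct limit of henselian pairs
is a henselian pair.
-/

set_option autoImplicit false
set_option linter.unusedSectionVars false

noncomputable section

namespace Groth.Agent.Lib.Helper24.PairLimit

open Polynomial

universe u

variable {ι : Type u} [Preorder ι] [IsDirectedOrder ι] [Nonempty ι]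
  (B : ι → Type u) [∀ i, CommRing (B i)] (g : ∀ i j : ι, i ≤ j → (B i →+* B j))
  [DirectedSystem B (fun i j h => g i j h)] (K : ∀ i, Ideal (B i))
  (hK : ∀ i j (h : i ≤ j), (K i).map (g i j h) ≤ K j)

theorem of_g (i j : ι) (h : i ≤ j) (x : B i) :
    DirectLimit.Ring.of B g j (g i j h x) = DirectLimit.Ring.of B g i x :=
  DirectLimit.Ring.of_f (G := B) (f := g) h x

theorem exists_of (z : DirectLimit B g) : ∃ i x, DirectLimit.Ring.of B g i x = z := by
  obtain ⟨i, x, rfl⟩ := DirectLimit.exists_eq_mk (f := g) z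
  exact ⟨i, x, rfl⟩

theorem of_eq_of {i j : ι} {x : B i} {y : B j}
    (h : DirectLimit.Ring.of B g i x = DirectLimit.Ring.of B g j y) :
    ∃ (k : ι) (hik : i ≤ k) (hjk : j ≤ k), g i k hik x = g j k hjk y := by
  have h' : (⟦⟨i, x⟩⟧ : DirectLimit B g) = ⟦⟨j, y⟩⟧ := h
  exact Quotient.eq.mp h'

include hK in
theorem g_mem (i j : ι) (h : i ≤ j) {x : B i} (hx : x ∈ K i) : g i j h x ∈ K j :=
  hK i j h (Ideal.mem_map_of_mem _ hx)

/-- The union of the ideals `K i` in the direct limit. -/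
def limIdeal (hK : ∀ i j (h : i ≤ j), (K i).map (g i j h) ≤ K j) : Ideal (DirectLimit B g) where
  carrier := {z | ∃ j w, w ∈ K j ∧ DirectLimit.Ring.of B g j w = z}
  zero_mem' := ⟨Classical.arbitrary ι, 0, zero_mem _, map_zero _⟩
  add_mem' := by
    rintro _ _ ⟨j₁, w₁, h₁, rfl⟩ ⟨j₂, w₂, h₂, rfl⟩
    obtain ⟨k, h1k, h2k⟩ := exists_ge_ge j₁ j₂
    refine ⟨k, g j₁ k h1k w₁ + g j₂ k h2k w₂,
      add_mem (g_mem B g K hK _ _ _ h₁) (g_mem B g K hK _ _ _ h₂), ?_⟩
    rw [map_add, of_g, of_g]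
  smul_mem' := by
    rintro c _ ⟨j₁, w₁, h₁, rfl⟩
    obtain ⟨j₀, c', rfl⟩ := exists_of B g c
    obtain ⟨k, h0k, h1k⟩ := exists_ge_ge j₀ j₁
    refine ⟨k, g j₀ k h0k c' * g j₁ k h1k w₁, Ideal.mul_mem_left _ _ (g_mem B g K hK _ _ _ h₁), ?_⟩
    rw [map_mul, of_g, of_g]
    rfl

theorem mem_limIdeal (z : DirectLimit B g) :
    z ∈ limIdeal B g K hK ↔ ∃ j w, w ∈ K j ∧ DirectLimit.Ring.of B g j w = z := Iff.rfl

theorem iSup_map_eq :
    (⨆ i, (K i).map (DirectLimit.Ring.of B g i)) = limIdeal B g K hK := by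
  apply le_antisymm
  · refine iSup_le fun i => ?_
    rw [Ideal.map_le_iff_le_comap]
    intro x hx
    exact ⟨i, x, hx, rfl⟩
  · rintro z ⟨j, w, hw, rfl⟩
    exact Ideal.mem_iSup_of_mem j (Ideal.mem_map_of_mem _ hw)

theorem of_mem_limIdeal {j : ι} {z : B j}
    (h : DirectLimit.Ring.of B g j z ∈ limIdeal B g K hK) :
    ∃ (k : ι) (hjk : j ≤ k), g j k hjk z ∈ K k := by
  obtain ⟨l, w, hw, hwz⟩ := h
  obtain ⟨k, hlk, hjk, hk⟩ := of_eq_of B g hwz
  exact ⟨k, hjk, hk ▸ g_mem B g K hK _ _ _ hw⟩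

theorem g_g (i j k : ι) (hij : i ≤ j) (hjk : j ≤ k) (x : B i) :
    g j k hjk (g i j hij x) = g i k (hij.trans hjk) x :=
  DirectedSystem.map_map (f := fun i j h => g i j h) hij hjk x

theorem exists_poly (p : (DirectLimit B g)[X]) :
    ∃ (j : ι) (q : (B j)[X]), q.map (DirectLimit.Ring.of B g j) = p := by
  induction p using Polynomial.induction_on with
  | C a =>
    obtain ⟨j, x, rfl⟩ := exists_of B g a
    exact ⟨j, C x, by rw [Polynomial.map_C]⟩
  | add p₁ p₂ h₁ h₂ =>
    obtain ⟨j₁, q₁, rfl⟩ := h₁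
    obtain ⟨j₂, q₂, rfl⟩ := h₂
    obtain ⟨k, h1k, h2k⟩ := exists_ge_ge j₁ j₂
    refine ⟨k, q₁.map (g j₁ k h1k) + q₂.map (g j₂ k h2k), ?_⟩
    rw [Polynomial.map_add, Polynomial.map_map, Polynomial.map_map]
    congr 2 <;> · ext x; exact of_g B g _ _ _ x
  | monomial n a h =>
    obtain ⟨j, q, hq⟩ := h
    refine ⟨j, q * X, ?_⟩
    rw [Polynomial.map_mul, hq, Polynomial.map_X, pow_succ, mul_assoc]

theorem map_of_g (i j : ι) (h : i ≤ j) (q : (B i)[X]) :
    (q.map (g i j h)).map (DirectLimit.Ring.of B g j) = q.map (DirectLimit.Ring.of B g i) := by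
  rw [Polynomial.map_map]
  congr 1
  ext x
  exact of_g B g _ _ _ x

theorem eval_map_of (j : ι) (q : (B j)[X]) (x : B j) :
    (q.map (DirectLimit.Ring.of B g j)).eval (DirectLimit.Ring.of B g j x) =
      DirectLimit.Ring.of B g j (q.eval x) := by
  rw [Polynomial.eval_map, Polynomial.eval₂_hom]

theorem eval_map_g (i j : ι) (h : i ≤ j) (q : (B i)[X]) (x : B i) :
    (q.map (g i j h)).eval (g i j h x) = g i j h (q.eval x) := by
  rw [Polynomial.eval_map, Polynomial.eval₂_hom]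

include hK in
theorem henselianRing_limit (hH : ∀ i, HenselianRing (B i) (K i)) :
    HenselianRing (DirectLimit B g) (limIdeal B g K hK) := by
  constructor
  · rintro x ⟨j, w, hw, rfl⟩
    rw [Ideal.mem_jacobson_bot]
    intro y
    obtain ⟨l, y', rfl⟩ := exists_of B g y
    obtain ⟨k, hjk, hlk⟩ := exists_ge_ge j l
    have h1 : g j k hjk w ∈ Ideal.jacobson (⊥ : Ideal (B k)) :=
      (hH k).jac (g_mem B g K hK _ _ _ hw)
    rw [Ideal.mem_jacobson_bot] at h1
    have h2 := (h1 (g l k hlk y')).map (DirectLimit.Ring.of B g k)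
    rw [map_add, map_mul, map_one, of_g, of_g] at h2
    exact h2
  · intro f hf a₀ h0 h1
    rcases subsingleton_or_nontrivial (DirectLimit B g) with hsub | hnt
    · exact ⟨a₀, Subsingleton.elim _ _, by rw [sub_self]; exact zero_mem _⟩
    -- descend everything to one stage
    obtain ⟨j₁, q₁, hq₁⟩ := exists_poly B g f
    have hlift : f ∈ Polynomial.lifts (DirectLimit.Ring.of B g j₁) :=
      (Polynomial.mem_lifts _).2 ⟨q₁, hq₁⟩
    obtain ⟨q, hq, -, hqm⟩ := Polynomial.lifts_and_degree_eq_and_monic hlift hf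
    obtain ⟨j₂, a', rfl⟩ := exists_of B g a₀
    obtain ⟨u, hu⟩ := h1
    obtain ⟨c, hc⟩ := Ideal.Quotient.mk_surjective (u⁻¹ : (DirectLimit B g ⧸ limIdeal B g K hK)ˣ).1
    have hcmem : f.derivative.eval (DirectLimit.Ring.of B g j₂ a') * c - 1 ∈ limIdeal B g K hK := by
      rw [← Ideal.Quotient.eq_zero_iff_mem, map_sub, map_mul, map_one, hc, ← hu, Units.mul_inv,
        sub_self]
    obtain ⟨j₃, c', rfl⟩ := exists_of B g c
    obtain ⟨m₀, h1m, h2m⟩ := exists_ge_ge j₁ j₂
    obtain ⟨m, h0m, h3m⟩ := exists_ge_ge m₀ j₃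
    have h1m' := h1m.trans h0m
    have h2m' := h2m.trans h0m
    set qm := q.map (g j₁ m h1m') with hqm_def
    set am := g j₂ m h2m' a' with ham
    set cm := g j₃ m h3m c' with hcm
    have hqmf : qm.map (DirectLimit.Ring.of B g m) = f := by rw [hqm_def, map_of_g, hq]
    have ham' : DirectLimit.Ring.of B g m am = DirectLimit.Ring.of B g j₂ a' := of_g B g _ _ _ _
    have hcm' : DirectLimit.Ring.of B g m cm = DirectLimit.Ring.of B g j₃ c' := of_g B g _ _ _ _
    have hz1 : DirectLimit.Ring.of B g m (qm.eval am) ∈ limIdeal B g K hK := by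
      rw [← eval_map_of, hqmf, ham']
      exact h0
    have hz2 : DirectLimit.Ring.of B g m (qm.derivative.eval am * cm - 1) ∈
        limIdeal B g K hK := by
      rw [map_sub, map_mul, map_one, ← eval_map_of, ← Polynomial.derivative_map, hqmf, ham', hcm']
      exact hcmem
    obtain ⟨n₁, hmn₁, hn₁⟩ := of_mem_limIdeal B g K hK hz1
    obtain ⟨n₂, hmn₂, hn₂⟩ := of_mem_limIdeal B g K hK hz2
    obtain ⟨n, h1n, h2n⟩ := exists_ge_ge n₁ n₂
    have hmn := hmn₁.trans h1n
    have hn₁' : g m n hmn (qm.eval am) ∈ K n := by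
      rw [← g_g B g m n₁ n hmn₁ h1n]
      exact g_mem B g K hK _ _ _ hn₁
    have hn₂' : g m n hmn (qm.derivative.eval am * cm - 1) ∈ K n := by
      rw [← g_g B g m n₂ n hmn₂ h2n]
      exact g_mem B g K hK _ _ _ hn₂
    set qn := qm.map (g m n hmn) with hqn
    have hqn_monic : qn.Monic := (hqm.map _).map _
    have hev : qn.eval (g m n hmn am) ∈ K n := by
      rw [hqn, eval_map_g]
      exact hn₁'
    have hunit : IsUnit (Ideal.Quotient.mk (K n) (qn.derivative.eval (g m n hmn am))) := by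
      refine IsUnit.of_mul_eq_one (Ideal.Quotient.mk (K n) (g m n hmn cm)) ?_
      rw [← map_mul, ← map_one (Ideal.Quotient.mk (K n)), ← sub_eq_zero, ← map_sub,
        Ideal.Quotient.eq_zero_iff_mem, hqn, Polynomial.derivative_map, eval_map_g, ← map_mul]
      have := hn₂'
      rw [map_sub, map_one] at this
      exact this
    obtain ⟨a, ha, ha'⟩ := (hH n).is_henselian qn hqn_monic (g m n hmn am) hev hunit
    refine ⟨DirectLimit.Ring.of B g n a, ?_, ?_⟩
    · have hqnf : qn.map (DirectLimit.Ring.of B g n) = f := by rw [hqn, map_of_g, hqmf]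
      rw [Polynomial.IsRoot.def, ← hqnf, eval_map_of, ha, map_zero]
    · refine ⟨n, a - g m n hmn am, ha', ?_⟩
      rw [map_sub, of_g, ham']

end Groth.Agent.Lib.Helper24.PairLimit
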