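import Mathlib
import Groth.Prelude.Def_EGA4b
import Groth.Agent.Lib.Helper24.FlatDepth3
import Groth.Agent.Lib.Helper26.Depth2

/-!
# Fibre modules of flat families, part 1 (helper24): exactness and the depth lemma

`A → S` a ring map, `E` an `A`-module, `𝔔` a prime of `S`.  For an `S`-module `X` (with compatible
`A`-structure) we consider the `S_𝔔`-module `(X ⊗[A] E)_𝔔`.  Short exact sequences
`0 → X₁ → X₂ → X₃ → 0` with `X₃` flat over `A` stay exact, hence the depth lemma applies.
-/

set_option autoImplicit false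
set_option linter.unusedSectionVars false
universe u
open TensorProduct IsLocalRing LocCoh Function
open Groth.Agent.Lib.helper26.Depth

namespace Groth.Agent.Lib.Helper24.PerfFib

section exact

variable (A : Type u) {S : Type u} [CommRing A] [CommRing S] [Algebra A S]
  (E : Type u) [AddCommGroup E] [Module A E]
  {X₁ X₂ X₃ : Type u}
  [AddCommGroup X₁] [Module S X₁] [Module A X₁] [IsScalarTower A S X₁]
  [AddCommGroup X₂] [Module S X₂] [Module A X₂] [IsScalarTower A S X₂]
  [AddCommGroup X₃] [Module S X₃] [Module A X₃] [IsScalarTower A S X₃]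
  (f : X₁ →ₗ[S] X₂) (g : X₂ →ₗ[S] X₃)

/-- the `S`-linear map `f ⊗ id`. -/
noncomputable abbrev tmap : X₁ ⊗[A] E →ₗ[S] X₂ ⊗[A] E :=
  TensorProduct.AlgebraTensorModule.rTensor A E f

theorem tmap_eq (x : X₁ ⊗[A] E) :
    tmap A E f x = LinearMap.rTensor E (f.restrictScalars A) x := by
  induction x using TensorProduct.induction_on with
  | zero => simp
  | tmul x e => rfl
  | add a b ha hb => rw [map_add, map_add, ha, hb]

theorem tmap_surjective (hg : Surjective g) : Surjective (tmap A E g) := by
  intro y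
  obtain ⟨x, hx⟩ := LinearMap.rTensor_surjective E (g := g.restrictScalars A) hg y
  exact ⟨x, by rw [tmap_eq, hx]⟩

theorem tmap_exact (hg : Surjective g) (hfg : Exact f g) : Exact (tmap A E f) (tmap A E g) := by
  have h := rTensor_exact E (f := f.restrictScalars A) (g := g.restrictScalars A) hfg hg
  intro y
  rw [tmap_eq, h y]
  constructor
  · rintro ⟨x, hx⟩
    exact ⟨x, by rw [tmap_eq, hx]⟩
  · rintro ⟨x, hx⟩
    exact ⟨x, by rw [← tmap_eq, hx]⟩

theorem tmap_injective [Module.Flat A X₃] (hf : Injective f) (hg : Surjective g)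
    (hfg : Exact f g) : Injective (tmap A E f) := by
  have h := LinearMap.lTensor_injective_of_exact_of_flat (g.restrictScalars A) hg
    (f.restrictScalars A) hf hfg E
  have h2 : Injective (LinearMap.rTensor E (f.restrictScalars A)) := by
    rw [← LinearMap.comm_comp_lTensor_comp_comm_eq]
    exact (TensorProduct.comm A E X₂).injective.comp
      (h.comp (TensorProduct.comm A X₁ E).injective)
  intro x y hxy
  rw [tmap_eq, tmap_eq] at hxy
  exact h2 hxy

end exact

section fib

variable (A : Type u) {S : Type u} [CommRing A] [CommRing S] [Algebra A S]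
  [IsNoetherianRing A] [IsNoetherianRing S]
  (𝔔 : Ideal S) [𝔔.IsPrime] (E : Type u) [AddCommGroup E] [Module A E] [Module.Finite A E]

/-- `(X ⊗[A] E)_𝔔`. -/
abbrev Fib (X : Type u) [AddCommGroup X] [Module S X] [Module A X] [IsScalarTower A S X] :
    Type u :=
  LocalizedModule 𝔔.primeCompl (X ⊗[A] E)

/-- the depth of `(X ⊗[A] E)_𝔔` over `S_𝔔`. -/
noncomputable abbrev dFib (X : Type u) [AddCommGroup X] [Module S X] [Module A X]
    [IsScalarTower A S X] : ℕ∞ :=
  depth (Localization.AtPrime 𝔔) (Fib A 𝔔 E X)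

/-- the dimension of `(X ⊗[A] E)_𝔔` over `S_𝔔`. -/
noncomputable abbrev sFib (X : Type u) [AddCommGroup X] [Module S X] [Module A X]
    [IsScalarTower A S X] : WithBot ℕ∞ :=
  Module.supportDim (Localization.AtPrime 𝔔) (Fib A 𝔔 E X)

instance finite_tensor' (X : Type u) [AddCommGroup X] [Module S X] [Module A X]
    [IsScalarTower A S X] [Module.Finite S X] : Module.Finite S (X ⊗[A] E) :=
  Groth.Agent.Lib.Helper24.FlatDepth.finite_tensor A S X E

variable {X₁ X₂ X₃ : Type u}
  [AddCommGroup X₁] [Module S X₁] [Module A X₁] [IsScalarTower A S X₁] [Module.Finite S X₁]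
  [AddCommGroup X₂] [Module S X₂] [Module A X₂] [IsScalarTower A S X₂] [Module.Finite S X₂]
  [AddCommGroup X₃] [Module S X₃] [Module A X₃] [IsScalarTower A S X₃] [Module.Finite S X₃]
  [Module.Flat A X₃]
  (f : X₁ →ₗ[S] X₂) (g : X₂ →ₗ[S] X₃) (hf : Injective f) (hg : Surjective g) (hfg : Exact f g)

include hf hg hfg

theorem dFib_X₂ : min (dFib A 𝔔 E X₁) (dFib A 𝔔 E X₃) ≤ dFib A 𝔔 E X₂ :=
  min_le_idealDepth_X₂ _ (LocalizedModule.map 𝔔.primeCompl (tmap A E f))
    (LocalizedModule.map 𝔔.primeCompl (tmap A E g))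
    (LocalizedModule.map_injective _ _ (tmap_injective A E f g hf hg hfg))
    (LocalizedModule.map_surjective _ _ (tmap_surjective A E g hg))
    (LocalizedModule.map_exact _ _ _ (tmap_exact A E f g hg hfg))

theorem dFib_X₃ : min (dFib A 𝔔 E X₂) (dFib A 𝔔 E X₁ - 1) ≤ dFib A 𝔔 E X₃ :=
  min_le_idealDepth_X₃ _ (LocalizedModule.map 𝔔.primeCompl (tmap A E f))
    (LocalizedModule.map 𝔔.primeCompl (tmap A E g))
    (LocalizedModule.map_injective _ _ (tmap_injective A E f g hf hg hfg))
    (LocalizedModule.map_surjective _ _ (tmap_surjective A E g hg))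
    (LocalizedModule.map_exact _ _ _ (tmap_exact A E f g hg hfg))

theorem dFib_X₁ : min (dFib A 𝔔 E X₂) (dFib A 𝔔 E X₃ + 1) ≤ dFib A 𝔔 E X₁ :=
  min_le_idealDepth_X₁ _ (LocalizedModule.map 𝔔.primeCompl (tmap A E f))
    (LocalizedModule.map 𝔔.primeCompl (tmap A E g))
    (LocalizedModule.map_injective _ _ (tmap_injective A E f g hf hg hfg))
    (LocalizedModule.map_surjective _ _ (tmap_surjective A E g hg))
    (LocalizedModule.map_exact _ _ _ (tmap_exact A E f g hg hfg))

end fib

end Groth.Agent.Lib.Helper24.PerfFib
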