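import Mathlib
import Groth.Prelude.Def_EGA4b
import Groth.Agent.Lib.Helper24.PerfFib1
import Groth.Agent.Lib.Helper24.CodepthReg2
import Groth.Agent.Lib.Helper24.GenLoc4
import Groth.Agent.Lib.Helper26.SkFlat1
import Groth.Agent.Lib.Helper26.FibMod2
import Groth.Agent.Lib.Helper26.FibBC

/-!
# Fibre modules of flat families, part 6 (helper24): translation to fibre local rings

`A → S → B` with `S → B` surjective and `B` flat over `A`, `Q` a prime of `B` with contractions
`𝔔 ⊆ S`, `p ⊆ A`.  Then depth and dimension of the `S_𝔔`-module `(B ⊗[A] A/p)_𝔔` are the depth and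
dimension of the fibre local ring `B_Q / p B_Q`.
-/

set_option autoImplicit false
set_option linter.unusedSectionVars false
universe u
open TensorProduct IsLocalRing LocCoh Function
open Groth.Agent.Lib.helper26.Depth Groth.Agent.Lib.helper26.SkFlat

namespace Groth.Agent.Lib.Helper24.PerfFib

section base

variable (A : Type u) [CommRing A] [IsNoetherianRing A] (p : Ideal A) [p.IsPrime]

theorem supportDim_residue :
    Module.supportDim (Localization.AtPrime p) (LocalizedModule p.primeCompl (A ⧸ p)) = 0 := by
  have h := Groth.Agent.Lib.helper24.GenLoc.ε_eq p p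
  unfold Groth.Agent.Lib.helper24.GenLoc.ε at h
  rw [h, Localization.AtPrime.map_eq_maximalIdeal]
  exact ringKrullDim_eq_zero_of_isField
    ((Ideal.Quotient.maximal_ideal_iff_isField_quotient _).mp inferInstance)

theorem nontrivial_residue : Nontrivial (LocalizedModule p.primeCompl (A ⧸ p)) := by
  rw [← Module.mem_support_iff (p := (⟨p, inferInstance⟩ : PrimeSpectrum A)),
    support_quotient_ideal, PrimeSpectrum.mem_zeroLocus]

theorem depth_residue :
    depth (Localization.AtPrime p) (LocalizedModule p.primeCompl (A ⧸ p)) = 0 := by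
  haveI := nontrivial_residue A p
  have h := depth_le_supportDim (A := Localization.AtPrime p)
    (LocalizedModule p.primeCompl (A ⧸ p))
  rw [supportDim_residue] at h
  have : ((depth (Localization.AtPrime p) (LocalizedModule p.primeCompl (A ⧸ p)) : ℕ∞) :
      WithBot ℕ∞) ≤ ((0 : ℕ∞) : WithBot ℕ∞) := h
  exact le_antisymm (WithBot.coe_le_coe.mp this) bot_le

end base

section tr

variable (A S B : Type u) [CommRing A] [CommRing S] [CommRing B] [Algebra A S] [Algebra S B]
  [Algebra A B] [IsScalarTower A S B] [IsNoetherianRing A] [IsNoetherianRing S]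
  [IsNoetherianRing B] (hs : Surjective (algebraMap S B)) [Module.Flat A B]
  (Q : Ideal B) [Q.IsPrime]

include hs in
/-- depth and dimension of `(B ⊗[A] A/p)_𝔔` over `S_𝔔` are those of the fibre local ring
`B_Q/pB_Q`. -/
theorem dFib_sFib_eq :
    haveI := isLocalRing_fibLocRing A B Q
    dFib A (Q.comap (algebraMap S B)) (A ⧸ Q.comap (algebraMap A B)) B =
        depth (EGA4.FibLocRing A B Q) (EGA4.FibLocRing A B Q) ∧
      sFib A (Q.comap (algebraMap S B)) (A ⧸ Q.comap (algebraMap A B)) B =
        ringKrullDim (EGA4.FibLocRing A B Q) := by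
  haveI hloc := isLocalRing_fibLocRing A B Q
  have h1 := Groth.Agent.Lib.helper24.CodepthReg.depth_supportDim_comap hs
    (B ⊗[A] (A ⧸ Q.comap (algebraMap A B))) Q
  have h2 := depth_supportDim_localization_tensor A B Q (A ⧸ Q.comap (algebraMap A B)) B
  have hsurj : Surjective (algebraMap (Localization.AtPrime Q) (EGA4.FibLocRing A B Q)) :=
    Ideal.Quotient.mk_surjective
  haveI hlh : IsLocalHom (algebraMap (Localization.AtPrime Q) (EGA4.FibLocRing A B Q)) :=
    IsLocalHom.of_surjective _ hsurj
  haveI : Module.Finite (Localization.AtPrime Q) (EGA4.FibLocRing A B Q) :=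
    Module.Finite.of_surjective (Algebra.linearMap _ _) hsurj
  constructor
  · unfold dFib Fib
    rw [← h1.1, h2.1, depth_residue, zero_add]
    have h3 : depth (Localization.AtPrime Q) (EGA4.FibLocMod A B Q B) =
        depth (Localization.AtPrime Q) (EGA4.FibLocRing A B Q) :=
      (idealDepth_congr (Groth.Agent.Lib.helper26.FibMod.fibLocModSelfEquiv A B Q)).symm
    rw [h3]
    exact depth_eq_of_isLocalHom (A := Localization.AtPrime Q) (B := EGA4.FibLocRing A B Q) _
  · unfold sFib Fib
    rw [← h1.2, h2.2, supportDim_residue, zero_add]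
    have h3 : Module.supportDim (Localization.AtPrime Q) (EGA4.FibLocMod A B Q B) =
        Module.supportDim (Localization.AtPrime Q) (EGA4.FibLocRing A B Q) :=
      (Module.supportDim_eq_of_equiv (Groth.Agent.Lib.helper26.FibMod.fibLocModSelfEquiv A B Q)).symm
    rw [h3, supportDim_eq_of_surjective hsurj, Module.supportDim_self_eq_ringKrullDim]

end tr

end Groth.Agent.Lib.Helper24.PerfFib
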