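import Mathlib
import Groth.Prelude.Def_EGA4b
import Groth.Agent.Lib.Helper24.PerfFib1
import Groth.Agent.Lib.Helper15.NilFlat

/-!
# Fibre modules of flat families, part 2 (helper24): freeness lifts from the closed fibre

`A → S` a local homomorphism of Noetherian local rings, `N` a finite `S`-module flat over `A`.
If `N / 𝔪_A N` is free over `S / 𝔪_A S` then `N` is free over `S`.
-/

set_option autoImplicit false
set_option linter.unusedSectionVars false
universe u
open TensorProduct IsLocalRing LocCoh Function

namespace Groth.Agent.Lib.Helper24.PerfFib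

variable (A S : Type u) [CommRing A] [CommRing S] [Algebra A S]
  [IsLocalRing A] [IsLocalRing S] [IsNoetherianRing S] [IsLocalHom (algebraMap A S)]

/-- the ideal `𝔪_A S`. -/
abbrev mS : Ideal S := (maximalIdeal A).map (algebraMap A S)

omit [IsNoetherianRing S] in
theorem mS_le_jacobson : mS A S ≤ Ideal.jacobson ⊥ := by
  rw [IsLocalRing.jacobson_eq_maximalIdeal ⊥ bot_ne_top]
  exact IsLocalRing.map_maximalIdeal_le _

variable (N : Type u) [AddCommGroup N] [Module S N] [Module A N] [IsScalarTower A S N]
  [Module.Finite S N] [Module.Flat A N]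

theorem exists_equiv_of_free_fibre
    (hfree : Module.Free (S ⧸ mS A S) (N ⧸ mS A S • (⊤ : Submodule S N))) :
    ∃ r : ℕ, Nonempty ((Fin r → S) ≃ₗ[S] N) := by
  haveI : Module.Finite (S ⧸ mS A S) (N ⧸ mS A S • (⊤ : Submodule S N)) :=
    Module.Finite.of_restrictScalars_finite S _ _
  let b := Module.finBasis (S ⧸ mS A S) (N ⧸ mS A S • (⊤ : Submodule S N))
  set r := Module.finrank (S ⧸ mS A S) (N ⧸ mS A S • (⊤ : Submodule S N)) with hr
  have hlift : ∀ i, ∃ n : N, Submodule.Quotient.mk n = b i :=
    fun i => Submodule.Quotient.mk_surjective _ (b i)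
  choose n hn using hlift
  let f : (Fin r → S) →ₗ[S] N := Fintype.linearCombination S n
  have hfmk : ∀ v : Fin r → S, (Submodule.Quotient.mk (f v) : N ⧸ mS A S • (⊤ : Submodule S N)) =
      ∑ i, Ideal.Quotient.mk (mS A S) (v i) • b i := by
    intro v
    change Submodule.Quotient.mk (Fintype.linearCombination S n v) = _
    rw [Fintype.linearCombination_apply]
    have : (Submodule.Quotient.mk (∑ i, v i • n i) : N ⧸ mS A S • (⊤ : Submodule S N)) =
        ∑ i, Submodule.Quotient.mk (v i • n i) := map_sum (Submodule.mkQ _) _ _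
    rw [this]
    refine Finset.sum_congr rfl fun i _ => ?_
    rw [← hn i, Module.Quotient.mk_smul_mk]
  -- surjectivity by Nakayama
  have hsurj : Surjective f := by
    rw [← LinearMap.range_eq_top, eq_top_iff]
    refine Submodule.le_of_le_smul_of_le_jacobson_bot (I := mS A S) (Module.Finite.fg_top)
      (mS_le_jacobson A S) ?_
    intro y _
    obtain ⟨c, hc⟩ : ∃ c : Fin r → S, ∀ i,
        Ideal.Quotient.mk (mS A S) (c i) = b.repr (Submodule.Quotient.mk y) i := by
      have : ∀ i, ∃ s : S, Ideal.Quotient.mk (mS A S) s = b.repr (Submodule.Quotient.mk y) i :=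
        fun i => Ideal.Quotient.mk_surjective _
      choose c hc using this
      exact ⟨c, hc⟩
    have hy : (Submodule.Quotient.mk (y - f c) : N ⧸ mS A S • (⊤ : Submodule S N)) = 0 := by
      rw [Submodule.Quotient.mk_sub, hfmk c, sub_eq_zero]
      conv_lhs => rw [← b.sum_repr (Submodule.Quotient.mk y)]
      exact Finset.sum_congr rfl fun i _ => by rw [hc i]
    rw [Submodule.Quotient.mk_eq_zero] at hy
    have : y = f c + (y - f c) := by abel
    rw [this]
    exact Submodule.add_mem_sup (LinearMap.mem_range_self f c) hy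
  refine ⟨r, ⟨LinearEquiv.ofBijective f ⟨?_, hsurj⟩⟩⟩
  -- injectivity
  rw [← LinearMap.ker_eq_bot]
  refine Submodule.eq_bot_of_le_smul_of_le_jacobson_bot (mS A S) _
    (IsNoetherian.noetherian _) ?_ (mS_le_jacobson A S)
  intro z hz
  rw [LinearMap.mem_ker] at hz
  -- coordinates of `z` lie in `𝔪_A S`
  have hcoord : ∀ i, z i ∈ mS A S := by
    intro i
    have h0 : ∑ i, Ideal.Quotient.mk (mS A S) (z i) • b i = 0 := by
      rw [← hfmk z, hz, Submodule.Quotient.mk_zero]
    have := Fintype.linearIndependent_iff.mp b.linearIndependent _ h0 i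
    exact Ideal.Quotient.eq_zero_iff_mem.mp this
  have hzI : z ∈ (maximalIdeal A) • (⊤ : Submodule A (Fin r → S)) := by
    have h1 : z ∈ mS A S • (⊤ : Submodule S (Fin r → S)) := by
      have hz' : z = ∑ i, z i • (Pi.single i (1 : S) : Fin r → S) := by
        ext j
        simp [Finset.sum_apply, Pi.single_apply]
      rw [hz']
      exact Submodule.sum_mem _ fun i _ => Submodule.smul_mem_smul (hcoord i) trivial
    have h2 := Ideal.smul_restrictScalars (maximalIdeal A) (⊤ : Submodule S (Fin r → S))
    rw [Submodule.restrictScalars_top] at h2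
    rw [← h2, Submodule.restrictScalars_mem]
    exact h1
  have h3 := Groth.Agent.Lib.helper15.NilFlat.mem_smul_ker_of_flat (maximalIdeal A)
    (f.restrictScalars A) hsurj z hz hzI
  have h4 := Ideal.smul_restrictScalars (maximalIdeal A) (LinearMap.ker f)
  have h5 : (LinearMap.ker f).restrictScalars A = LinearMap.ker (f.restrictScalars A) := by
    ext x
    simp
  rw [h5] at h4
  rw [← h4, Submodule.restrictScalars_mem] at h3
  exact h3

end Groth.Agent.Lib.Helper24.PerfFib
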