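import Mathlib
import Groth.Prelude.Def_EGA4b
import Groth.Agent.Lib.Helper24.PerfFib2
import Groth.Agent.Lib.Helper26.Depth7
import Groth.Agent.Lib.Helper26.DepthCR2
import Groth.Agent.Lib.Helper26.DepthLoc2
import Groth.Agent.Lib.Helper26.SkFlat1
import Groth.Agent.Lib.Helper3.ResBaseChange

/-!
# Fibre modules of flat families, part 3 (helper24): free modules and the base case

* `dFib_congr`: `(X ⊗ E)_𝔔` only depends on the isomorphism class of `X`;
* `dFib_free`: `depth (S ⊗ E)_𝔔 ≤ depth (Sʳ ⊗ E)_𝔔`;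
* `dCl_eq`: the depth of the closed fibre module;
* `exists_equiv_of_dCl_le`: if `S/𝔪_A S` is regular and `depth (S/𝔪_A S) ≤ depth (N/𝔪_A N)` for a
  finite `S`-module `N` flat over `A` then `N` is free.
-/

set_option autoImplicit false
set_option linter.unusedSectionVars false
universe u
open TensorProduct IsLocalRing LocCoh Function
open Groth.Agent.Lib.helper26.Depth

namespace Groth.Agent.Lib.Helper24.PerfFib

section general

variable (A : Type u) {S : Type u} [CommRing A] [CommRing S] [Algebra A S]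
  [IsNoetherianRing A] [IsNoetherianRing S]
  (𝔔 : Ideal S) [𝔔.IsPrime] (E : Type u) [AddCommGroup E] [Module A E] [Module.Finite A E]

/-- the `S_𝔔`-linear equivalence `(X ⊗ E)_𝔔 ≃ (Y ⊗ E)_𝔔` induced by `X ≃ Y`. -/
noncomputable def fibEquiv {X Y : Type u} [AddCommGroup X] [Module S X] [Module A X]
    [IsScalarTower A S X] [AddCommGroup Y] [Module S Y] [Module A Y] [IsScalarTower A S Y]
    (e : X ≃ₗ[S] Y) : Fib A 𝔔 E X ≃ₗ[Localization.AtPrime 𝔔] Fib A 𝔔 E Y :=
  localizedEquiv 𝔔 (TensorProduct.AlgebraTensorModule.congr e (LinearEquiv.refl A E))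

theorem dFib_congr {X Y : Type u} [AddCommGroup X] [Module S X] [Module A X]
    [IsScalarTower A S X] [AddCommGroup Y] [Module S Y] [Module A Y] [IsScalarTower A S Y]
    (e : X ≃ₗ[S] Y) : dFib A 𝔔 E X = dFib A 𝔔 E Y :=
  idealDepth_congr (fibEquiv A 𝔔 E e)

theorem sFib_congr {X Y : Type u} [AddCommGroup X] [Module S X] [Module A X]
    [IsScalarTower A S X] [AddCommGroup Y] [Module S Y] [Module A Y] [IsScalarTower A S Y]
    (e : X ≃ₗ[S] Y) : sFib A 𝔔 E X = sFib A 𝔔 E Y :=
  Module.supportDim_eq_of_equiv (fibEquiv A 𝔔 E e)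

theorem dFib_of_subsingleton (X : Type u) [AddCommGroup X] [Module S X] [Module A X]
    [IsScalarTower A S X] [Subsingleton X] : dFib A 𝔔 E X = ⊤ := by
  haveI : Subsingleton (X ⊗[A] E) := inferInstance
  haveI : Subsingleton (Fib A 𝔔 E X) := inferInstance
  exact Groth.Agent.Lib.Helper24.FlatDepth.idealDepth_of_subsingleton _ _ _

variable [Module.Flat A S]

/-- `depth (S ⊗ E)_𝔔 ≤ depth (Sʳ ⊗ E)_𝔔`. -/
theorem dFib_free (r : ℕ) : dFib A 𝔔 E S ≤ dFib A 𝔔 E (Fin r → S) := by
  induction r with
  | zero =>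
    rw [dFib_of_subsingleton A 𝔔 E (Fin 0 → S)]
    exact le_top
  | succ r ih =>
    haveI : Module.Flat A (Fin r → S) := Groth.Agent.Lib.helper3.ResBaseChange.flat_pi_fin r
    let f : S →ₗ[S] (Fin (r + 1) → S) := LinearMap.single S (fun _ => S) 0
    let g : (Fin (r + 1) → S) →ₗ[S] (Fin r → S) := LinearMap.funLeft S S Fin.succ
    have hf : Injective f := by
      intro a b hab
      have := congrFun hab 0
      simpa [f] using this
    have hg : Surjective g := by
      intro v
      refine ⟨Fin.cons 0 v, ?_⟩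
      ext i
      simp [g, LinearMap.funLeft_apply]
    have hfg : Exact f g := by
      intro v
      constructor
      · intro hv
        refine ⟨v 0, ?_⟩
        ext i
        refine Fin.cases ?_ (fun j => ?_) i
        · simp [f]
        · have := congrFun hv j
          simp only [g, LinearMap.funLeft_apply, Pi.zero_apply] at this
          simp [f, this]
      · rintro ⟨s, rfl⟩
        ext j
        simp [f, g, LinearMap.funLeft_apply]
    have h := dFib_X₂ A 𝔔 E f g hf hg hfg
    exact (le_min le_rfl ih).trans h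

end general

section loc

variable (A S : Type u) [CommRing A] [CommRing S] [Algebra A S]
  [IsLocalRing A] [IsLocalRing S] [IsNoetherianRing A] [IsNoetherianRing S]
  [IsLocalHom (algebraMap A S)]

/-- depth of the closed fibre module `X/𝔪_A X` (in localized tensor form). -/
noncomputable abbrev dCl (X : Type u) [AddCommGroup X] [Module S X] [Module A X]
    [IsScalarTower A S X] : ℕ∞ :=
  dFib A (maximalIdeal S) (A ⧸ maximalIdeal A) X

theorem dCl_eq (X : Type u) [AddCommGroup X] [Module S X] [Module A X]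
    [IsScalarTower A S X] [Module.Finite S X] :
    dCl A S X = depth S (X ⧸ mS A S • (⊤ : Submodule S X)) := by
  have h1 := (Groth.Agent.Lib.helper26.SkFlat.depth_supportDim_localization_maximalIdeal S
    (X ⊗[A] (A ⧸ maximalIdeal A))).1
  have h2 : depth S (X ⊗[A] (A ⧸ maximalIdeal A)) =
      depth S (X ⧸ mS A S • (⊤ : Submodule S X)) :=
    idealDepth_congr (Groth.Agent.Lib.Helper24.FlatDepth.tensorQuotEquiv A S X (maximalIdeal A))
  exact h1.trans h2

/-- **Base case**: if the closed fibre of `S` is regular and the closed fibre of `N` is a maximal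
Cohen–Macaulay module over it, then `N` is free. -/
theorem exists_equiv_of_dCl_le [IsRegularLocalRing (S ⧸ mS A S)]
    (N : Type u) [AddCommGroup N] [Module S N] [Module A N] [IsScalarTower A S N]
    [Module.Finite S N] [Module.Flat A N] (h : dCl A S S ≤ dCl A S N) :
    ∃ r : ℕ, Nonempty ((Fin r → S) ≃ₗ[S] N) := by
  rw [dCl_eq, dCl_eq] at h
  have e0 : (S ⧸ mS A S • (⊤ : Submodule S S)) ≃ₗ[S] (S ⧸ mS A S) :=
    Submodule.quotEquivOfEq _ _ (by rw [smul_eq_mul, Ideal.mul_top])
  have h0 : depth S (S ⧸ mS A S • (⊤ : Submodule S S)) = depth S (S ⧸ mS A S) :=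
    idealDepth_congr e0
  rw [h0] at h
  haveI : IsLocalHom (algebraMap S (S ⧸ mS A S)) :=
    IsLocalHom.of_surjective _ Ideal.Quotient.mk_surjective
  have h1 : depth S (S ⧸ mS A S) = depth (S ⧸ mS A S) (S ⧸ mS A S) :=
    depth_eq_of_isLocalHom (A := S) (B := S ⧸ mS A S) (S ⧸ mS A S)
  haveI : Module.Finite (S ⧸ mS A S) (N ⧸ mS A S • (⊤ : Submodule S N)) :=
    Module.Finite.of_restrictScalars_finite S _ _
  have h2 : depth S (N ⧸ mS A S • (⊤ : Submodule S N)) =
      depth (S ⧸ mS A S) (N ⧸ mS A S • (⊤ : Submodule S N)) :=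
    depth_eq_of_isLocalHom (A := S) (B := S ⧸ mS A S) _
  rw [h1, h2] at h
  have h3 := depth_eq_ringKrullDim_of_isRegularLocalRing (S ⧸ mS A S)
  apply exists_equiv_of_free_fibre A S N
  by_cases hsub : Subsingleton (N ⧸ mS A S • (⊤ : Submodule S N))
  · exact Module.Free.of_subsingleton _ _
  rw [not_subsingleton_iff_nontrivial] at hsub
  apply free_of_depth_eq_ringKrullDim
  apply le_antisymm
  · exact (depth_le_supportDim (A := S ⧸ mS A S) _).trans (Module.supportDim_le_ringKrullDim _ _)
  · rw [← h3]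
    exact_mod_cast h

end loc

end Groth.Agent.Lib.Helper24.PerfFib
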