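import Mathlib
import Groth.Prelude.Def_EGA4b
import Groth.Agent.Lib.Helper24.PerfFib3

/-!
# Fibre modules of flat families, part 4 (helper24): depth of the fibres of a "perfect" module

`A → S` a flat local homomorphism of Noetherian local rings with regular closed fibre `S/𝔪_A S`,
`N` a finite `S`-module flat over `A`.  If `depth (S/𝔪_A S) ≤ depth (N/𝔪_A N) + c` (i.e. the closed
fibre of `N` has projective dimension `≤ c`), then for every prime `𝔔` of `S` and every finite
`A`-module `E`: `depth (S ⊗ E)_𝔔 ≤ depth (N ⊗ E)_𝔔 + c`.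
-/

set_option autoImplicit false
set_option linter.unusedSectionVars false
universe u
open TensorProduct IsLocalRing LocCoh Function
open Groth.Agent.Lib.helper26.Depth

namespace Groth.Agent.Lib.Helper24.PerfFib

theorem enat_aux1 {a x y z : ℕ∞} (c : ℕ) (h1 : a ≤ x + ((c + 1 : ℕ) : ℕ∞)) (h2 : a ≤ y)
    (h3 : min y (x + 1) ≤ z) : a ≤ z + (c : ℕ∞) := by
  rcases min_le_iff.mp h3 with h | h
  · exact (h2.trans h).trans le_self_add
  · refine h1.trans ?_
    have : x + ((c + 1 : ℕ) : ℕ∞) = (x + 1) + (c : ℕ∞) := by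
      push_cast
      ring
    rw [this]
    exact add_le_add_left h _

theorem enat_aux2 {a y z w : ℕ∞} (c : ℕ) (h1 : a ≤ z + (c : ℕ∞)) (h2 : a ≤ y)
    (h3 : min y (z - 1) ≤ w) : a ≤ w + ((c + 1 : ℕ) : ℕ∞) := by
  rcases min_le_iff.mp h3 with h | h
  · exact (h2.trans h).trans le_self_add
  · refine h1.trans ?_
    have h4 : z ≤ w + 1 := le_tsub_add.trans (add_le_add_left h _)
    have : w + ((c + 1 : ℕ) : ℕ∞) = (w + 1) + (c : ℕ∞) := by
      push_cast
      ring
    rw [this]
    exact add_le_add_left h4 _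

variable (A S : Type u) [CommRing A] [CommRing S] [Algebra A S]
  [IsLocalRing A] [IsLocalRing S] [IsNoetherianRing A] [IsNoetherianRing S]
  [IsLocalHom (algebraMap A S)] [Module.Flat A S] [IsRegularLocalRing (S ⧸ mS A S)]

/-- the kernel of an `S`-linear surjection of `A`-flat modules is `A`-flat. -/
theorem flat_ker {X Y : Type u} [AddCommGroup X] [Module S X] [Module A X] [IsScalarTower A S X]
    [AddCommGroup Y] [Module S Y] [Module A Y] [IsScalarTower A S Y] [Module.Flat A X]
    [Module.Flat A Y] (g : X →ₗ[S] Y) (hg : Surjective g) : Module.Flat A (LinearMap.ker g) := by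
  haveI := Groth.Agent.Lib.helper3.ResBaseChange.flat_ker_of_surjective (g.restrictScalars A) hg
  let e : LinearMap.ker g ≃ₗ[A] LinearMap.ker (g.restrictScalars A) :=
    { toFun := fun z => ⟨z.1, z.2⟩
      invFun := fun z => ⟨z.1, z.2⟩
      map_add' := fun _ _ => rfl
      map_smul' := fun _ _ => rfl
      left_inv := fun _ => rfl
      right_inv := fun _ => rfl }
  exact Module.Flat.of_linearEquiv e

/-- **Depth of the fibres of a module whose closed fibre has projective dimension `≤ c`.** -/
theorem dFib_le_add (c : ℕ) : ∀ (N : Type u) [AddCommGroup N] [Module S N] [Module A N]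
    [IsScalarTower A S N] [Module.Finite S N] [Module.Flat A N],
    dCl A S S ≤ dCl A S N + (c : ℕ∞) →
    ∀ (𝔔 : Ideal S) [𝔔.IsPrime] (E : Type u) [AddCommGroup E] [Module A E] [Module.Finite A E],
      dFib A 𝔔 E S ≤ dFib A 𝔔 E N + (c : ℕ∞) := by
  induction c with
  | zero =>
    intro N _ _ _ _ _ _ h 𝔔 _ E _ _ _
    obtain ⟨r, ⟨e⟩⟩ := exists_equiv_of_dCl_le A S N (by simpa using h)
    rw [← dFib_congr A 𝔔 E e]
    simpa using dFib_free A 𝔔 E r
  | succ c ih =>
    intro N _ _ _ _ _ _ h 𝔔 _ E _ _ _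
    obtain ⟨r, g, hg⟩ := Module.Finite.exists_fin' S N
    haveI : Module.Flat A (Fin r → S) := Groth.Agent.Lib.helper3.ResBaseChange.flat_pi_fin r
    haveI : Module.Flat A (LinearMap.ker g) := flat_ker A S g hg
    have hf : Injective (LinearMap.ker g).subtype := Submodule.injective_subtype _
    have hfg : Exact (LinearMap.ker g).subtype g := LinearMap.exact_subtype_ker_map g
    have hcl := dFib_X₁ A (maximalIdeal S) (A ⧸ maximalIdeal A) (LinearMap.ker g).subtype g
      hf hg hfg
    have hF := dFib_free A (maximalIdeal S) (A ⧸ maximalIdeal A) (S := S) r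
    have hZ : dCl A S S ≤ dCl A S (LinearMap.ker g) + (c : ℕ∞) := enat_aux1 c h hF hcl
    have hih := ih (LinearMap.ker g) hZ 𝔔 E
    have hfib := dFib_X₃ A 𝔔 E (LinearMap.ker g).subtype g hf hg hfg
    have hF' := dFib_free A 𝔔 E (S := S) r
    exact enat_aux2 c hih hF' hfib

end Groth.Agent.Lib.Helper24.PerfFib
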