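import Mathlib
import Groth.Prelude.Def_EGA4b
import Groth.Agent.Lib.Helper24.PerfFib4
import Groth.Agent.Lib.Helper24.GenLoc1

/-!
# Fibre modules of flat families, part 5 (helper24): dimension of the fibres of a quotient

`A → S` a local homomorphism of Noetherian local rings, `N` a finite `S`-module flat over `A`,
`xs` a sequence in `S` which is weakly regular on the closed fibre `N/𝔪_A N`.  If `N → B'` is a
surjection onto a module killed by `xs` then `dim (B' ⊗ E)_𝔔 + |xs| ≤ dim (N ⊗ E)_𝔔` for every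
prime `𝔔 ∋ xs` and every finite `A`-module `E`.
-/

set_option autoImplicit false
set_option linter.unusedSectionVars false
universe u
open TensorProduct IsLocalRing LocCoh Function RingTheory.Sequence
open Groth.Agent.Lib.helper26.Depth Groth.Agent.Lib.Helper24.FlatDepth
open scoped Pointwise

namespace Groth.Agent.Lib.Helper24.PerfFib

variable (A S : Type u) [CommRing A] [CommRing S] [Algebra A S]
  [IsLocalRing A] [IsLocalRing S] [IsNoetherianRing A] [IsNoetherianRing S]
  [IsLocalHom (algebraMap A S)]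

theorem sFib_le_of_surjective (𝔔 : Ideal S) [𝔔.IsPrime] (E : Type u) [AddCommGroup E]
    [Module A E] [Module.Finite A E]
    {X Y : Type u} [AddCommGroup X] [Module S X] [Module A X] [IsScalarTower A S X]
    [AddCommGroup Y] [Module S Y] [Module A Y] [IsScalarTower A S Y]
    (π : X →ₗ[S] Y) (hπ : Surjective π) : sFib A 𝔔 E Y ≤ sFib A 𝔔 E X :=
  Module.supportDim_le_of_surjective (LocalizedModule.map 𝔔.primeCompl (tmap A E π))
    (LocalizedModule.map_surjective _ _ (tmap_surjective A E π hπ))

theorem sFib_add_length_le (xs : List S) : ∀ (N : Type u) [AddCommGroup N] [Module S N]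
    [Module A N] [IsScalarTower A S N] [Module.Finite S N] [Module.Flat A N]
    (B' : Type u) [AddCommGroup B'] [Module S B'] [Module A B'] [IsScalarTower A S B']
    (π : N →ₗ[S] B'), Surjective π → (∀ x ∈ xs, ∀ b : B', x • b = 0) →
    IsWeaklyRegular (N ⊗[A] (A ⧸ maximalIdeal A)) xs →
    ∀ (𝔔 : Ideal S) [𝔔.IsPrime], (∀ x ∈ xs, x ∈ 𝔔) →
    ∀ (E : Type u) [AddCommGroup E] [Module A E] [Module.Finite A E],
      sFib A 𝔔 E B' + ((xs.length : ℕ) : WithBot ℕ∞) ≤ sFib A 𝔔 E N := by
  induction xs with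
  | nil =>
    intro N _ _ _ _ _ _ B' _ _ _ _ π hπ _ _ 𝔔 _ _ E _ _ _
    simpa using sFib_le_of_surjective A S 𝔔 E π hπ
  | cons x xs ih =>
    intro N _ _ _ _ _ _ B' _ _ _ _ π hπ hann hreg 𝔔 _ hmem E _ _ _
    rw [isWeaklyRegular_cons_iff] at hreg
    obtain ⟨hx, hxs⟩ := hreg
    haveI : Module.Flat A (QuotSMulTop x N) := flat_quotSMulTop A S N x hx
    -- the induced surjection `N/xN → B'`
    have hle : x • (⊤ : Submodule S N) ≤ LinearMap.ker π := by
      intro n hn
      obtain ⟨m, -, rfl⟩ := (Submodule.mem_smul_pointwise_iff_exists _ _ _).mp hn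
      rw [LinearMap.mem_ker, map_smul]
      exact hann x List.mem_cons_self _
    let π' : QuotSMulTop x N →ₗ[S] B' := Submodule.liftQ _ π hle
    have hπ' : Surjective π' := by
      intro b
      obtain ⟨n, rfl⟩ := hπ b
      exact ⟨Submodule.Quotient.mk n, rfl⟩
    have hxs' : IsWeaklyRegular ((QuotSMulTop x N) ⊗[A] (A ⧸ maximalIdeal A)) xs :=
      ((quotEquivLeft A S N (A ⧸ maximalIdeal A) x).isWeaklyRegular_congr xs).mp hxs
    have h1 := ih (QuotSMulTop x N) B' π' hπ' (fun y hy => hann y (List.mem_cons_of_mem _ hy)) hxs'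
      𝔔 (fun y hy => hmem y (List.mem_cons_of_mem _ hy)) E
    -- the dimension drops by one
    have hxE : IsSMulRegular (N ⊗[A] E) x := isSMulRegular_tensor A S N x hx E
    have hxloc : IsSMulRegular (LocalizedModule 𝔔.primeCompl (N ⊗[A] E))
        (algebraMap S (Localization.AtPrime 𝔔) x) := by
      rw [Groth.Agent.Lib.helper24.GenLoc.isSMulRegular_localization_iff]
      intro m hm
      exact ⟨1, by rw [one_smul]; exact hxE.right_eq_zero_of_smul hm⟩
    have h2 := (Groth.Agent.Lib.helper24.GenLoc.depth_supportDim_localization_quotSMulTop' 𝔔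
      (N ⊗[A] E) x (hmem x List.mem_cons_self) hxloc).2
    have h3 : sFib A 𝔔 E (QuotSMulTop x N) = Module.supportDim (Localization.AtPrime 𝔔)
        (LocalizedModule 𝔔.primeCompl (QuotSMulTop x (N ⊗[A] E))) :=
      Module.supportDim_eq_of_equiv (localizedEquiv 𝔔 (quotEquivLeft A S N E x)).symm
    rw [← h3] at h2
    rw [List.length_cons]
    have : sFib A 𝔔 E B' + ((xs.length + 1 : ℕ) : WithBot ℕ∞) =
        (sFib A 𝔔 E B' + ((xs.length : ℕ) : WithBot ℕ∞)) + 1 := by
      push_cast
      rw [add_assoc]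
    rw [this]
    refine le_trans (add_le_add_left h1 1) (le_of_eq ?_)
    exact h2

end Groth.Agent.Lib.Helper24.PerfFib
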