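import Mathlib
import Groth.Prelude.Def_EGA4b
import Groth.Agent.Lib.Helper24.PerfFib5
import Groth.Agent.Lib.Helper26.CM3
import Groth.Agent.Lib.Helper26.CM4

/-!
# Fibre modules of flat families, part 7 (helper24): Cohen–Macaulay fibres of a quotient

`A → S` a flat local homomorphism of Noetherian local rings with regular closed fibre `S/𝔪_A S`;
`B` a cyclic `S`-module (`π : S → B` surjective), flat over `A`, whose closed fibre `B/𝔪_A B` is a
Cohen–Macaulay module.  If `(S ⊗ E)_𝔔` is Cohen–Macaulay, then `dim (B ⊗ E)_𝔔 ≤ depth (B ⊗ E)_𝔔`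
for every prime `𝔔 ⊇ ker π`.
-/

set_option autoImplicit false
set_option linter.unusedSectionVars false
universe u
open TensorProduct IsLocalRing LocCoh Function RingTheory.Sequence
open Groth.Agent.Lib.helper26.Depth Groth.Agent.Lib.Helper24.FlatDepth
open scoped Pointwise

namespace Groth.Agent.Lib.Helper24.PerfFib

theorem withBot_cancel {a : WithBot ℕ∞} {d : ℕ∞} (c : ℕ)
    (h : a + ((c : ℕ) : WithBot ℕ∞) ≤ ((d + (c : ℕ∞) : ℕ∞) : WithBot ℕ∞)) :
    a ≤ ((d : ℕ∞) : WithBot ℕ∞) := by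
  induction a using WithBot.recBotCoe with
  | bot => exact bot_le
  | coe a =>
    have h' : ((a + (c : ℕ∞) : ℕ∞) : WithBot ℕ∞) ≤ ((d + (c : ℕ∞) : ℕ∞) : WithBot ℕ∞) := by
      refine le_trans (le_of_eq ?_) h
      push_cast
      rfl
    rw [WithBot.coe_le_coe] at h'
    exact WithBot.coe_le_coe.mpr ((ENat.add_le_add_iff_right (ENat.natCast_ne_top c)).mp h')

variable (A S : Type u) [CommRing A] [CommRing S] [Algebra A S]
  [IsLocalRing A] [IsLocalRing S] [IsNoetherianRing A] [IsNoetherianRing S]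
  [IsLocalHom (algebraMap A S)]

/-- dimension of the closed fibre module `X/𝔪_A X` (in localized tensor form). -/
noncomputable abbrev sCl (X : Type u) [AddCommGroup X] [Module S X] [Module A X]
    [IsScalarTower A S X] : WithBot ℕ∞ :=
  sFib A (maximalIdeal S) (A ⧸ maximalIdeal A) X

theorem dCl_eq' (X : Type u) [AddCommGroup X] [Module S X] [Module A X]
    [IsScalarTower A S X] [Module.Finite S X] :
    dCl A S X = depth S (X ⊗[A] (A ⧸ maximalIdeal A)) :=
  (Groth.Agent.Lib.helper26.SkFlat.depth_supportDim_localization_maximalIdeal S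
    (X ⊗[A] (A ⧸ maximalIdeal A))).1

theorem sCl_eq' (X : Type u) [AddCommGroup X] [Module S X] [Module A X]
    [IsScalarTower A S X] [Module.Finite S X] :
    sCl A S X = Module.supportDim S (X ⊗[A] (A ⧸ maximalIdeal A)) :=
  (Groth.Agent.Lib.helper26.SkFlat.depth_supportDim_localization_maximalIdeal S
    (X ⊗[A] (A ⧸ maximalIdeal A))).2

/-- the closed fibre of `S` is a Cohen–Macaulay module when `S/𝔪_A S` is regular. -/
theorem sCl_self [IsRegularLocalRing (S ⧸ mS A S)] :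
    sCl A S S = ((dCl A S S : ℕ∞) : WithBot ℕ∞) := by
  rw [dCl_eq, sCl_eq']
  have e0 : (S ⧸ mS A S • (⊤ : Submodule S S)) ≃ₗ[S] (S ⧸ mS A S) :=
    Submodule.quotEquivOfEq _ _ (by rw [smul_eq_mul, Ideal.mul_top])
  have h0 : depth S (S ⧸ mS A S • (⊤ : Submodule S S)) = depth S (S ⧸ mS A S) :=
    idealDepth_congr e0
  haveI : IsLocalHom (algebraMap S (S ⧸ mS A S)) :=
    IsLocalHom.of_surjective _ Ideal.Quotient.mk_surjective
  have h1 : depth S (S ⧸ mS A S) = depth (S ⧸ mS A S) (S ⧸ mS A S) :=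
    depth_eq_of_isLocalHom (A := S) (B := S ⧸ mS A S) (S ⧸ mS A S)
  rw [h0, h1, depth_eq_ringKrullDim_of_isRegularLocalRing (S ⧸ mS A S)]
  rw [Module.supportDim_eq_of_equiv
    ((tensorQuotEquiv A S S (maximalIdeal A)).trans e0)]
  rw [Groth.Agent.Lib.helper26.SkFlat.supportDim_eq_of_surjective
    (B := S) (F := S ⧸ mS A S) Ideal.Quotient.mk_surjective,
    Module.supportDim_self_eq_ringKrullDim]

variable [Module.Flat A S] [IsRegularLocalRing (S ⧸ mS A S)]

/-- `(S ⊗ k)/J(S ⊗ k) ≃ B ⊗ k` for a surjection `π : S → B` with kernel `J`. -/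
noncomputable def closedFibreQuotEquiv (B : Type u) [AddCommGroup B] [Module S B] [Module A B]
    [IsScalarTower A S B] (π : S →ₗ[S] B) (hπ : Surjective π) :
    ((S ⊗[A] (A ⧸ maximalIdeal A)) ⧸
      (LinearMap.ker π : Ideal S) • (⊤ : Submodule S (S ⊗[A] (A ⧸ maximalIdeal A)))) ≃ₗ[S]
      B ⊗[A] (A ⧸ maximalIdeal A) :=
  (TensorProduct.quotTensorEquivQuotSMul (S ⊗[A] (A ⧸ maximalIdeal A))
      (LinearMap.ker π : Ideal S)).symm ≪≫ₗ
    (TensorProduct.AlgebraTensorModule.cancelBaseChange A S S (S ⧸ (LinearMap.ker π : Ideal S))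
      (A ⧸ maximalIdeal A)) ≪≫ₗ
    (TensorProduct.AlgebraTensorModule.congr (π.quotKerEquivOfSurjective hπ)
      (LinearEquiv.refl A (A ⧸ maximalIdeal A)))

/-- **Cohen–Macaulay fibres of a flat quotient with Cohen–Macaulay closed fibre.** -/
theorem sFib_le_dFib (B : Type u) [AddCommGroup B] [Module S B] [Module A B]
    [IsScalarTower A S B] [Module.Finite S B] [Module.Flat A B] [Nontrivial B]
    (π : S →ₗ[S] B) (hπ : Surjective π)
    (hB : sCl A S B = ((dCl A S B : ℕ∞) : WithBot ℕ∞))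
    (𝔔 : Ideal S) [𝔔.IsPrime] (h𝔔 : (LinearMap.ker π : Ideal S) ≤ 𝔔)
    (E : Type u) [AddCommGroup E] [Module A E] [Module.Finite A E]
    (hS : sFib A 𝔔 E S = ((dFib A 𝔔 E S : ℕ∞) : WithBot ℕ∞)) :
    sFib A 𝔔 E B ≤ ((dFib A 𝔔 E B : ℕ∞) : WithBot ℕ∞) := by
  set J : Ideal S := LinearMap.ker π with hJ
  set M := S ⊗[A] (A ⧸ maximalIdeal A) with hM
  -- `J` is proper
  have hJtop : J ≠ ⊤ := by
    intro h
    have h1 : (1 : S) ∈ J := by rw [h]; trivial
    have h2 : π 1 = 0 := LinearMap.mem_ker.mp h1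
    obtain ⟨b, hb⟩ := exists_ne (0 : B)
    obtain ⟨s, rfl⟩ := hπ b
    apply hb
    have : π s = s • π 1 := by rw [← map_smul, smul_eq_mul, mul_one]
    rw [this, h2, smul_zero]
  -- `M` is a nontrivial Cohen–Macaulay module
  have hMcm : IsCohenMacaulayModule S M := by
    unfold IsCohenMacaulayModule
    rw [← sCl_eq' A S S, ← dCl_eq' A S S]
    exact sCl_self A S
  haveI hMnt : Nontrivial M :=
    Groth.Agent.Lib.helper26.Depth.nontrivial_of_isCohenMacaulayModule M hMcm
  have hJM : J • (⊤ : Submodule S M) ≠ ⊤ := smul_top_ne_top_of_ne_top J hJtop M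
  obtain ⟨c, hc⟩ := ENat.ne_top_iff_exists.mp (idealDepth_ne_top J M hJM)
  obtain ⟨xs, hlen, hmem, hreg⟩ := exists_isWeaklyRegular_of_le hJM (le_of_eq hc)
  -- the dimension formula on the closed fibre
  have h3 := supportDim_eq_supportDim_quotient_add_idealDepth J hJtop M hMcm
  rw [Module.supportDim_eq_of_equiv (closedFibreQuotEquiv A S B π hπ), ← sCl_eq' A S B,
    ← sCl_eq' A S S, sCl_self A S, hB, ← hc] at h3
  have h4 : dCl A S S = dCl A S B + (c : ℕ∞) := by
    have : ((dCl A S S : ℕ∞) : WithBot ℕ∞) = ((dCl A S B + (c : ℕ∞) : ℕ∞) : WithBot ℕ∞) := by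
      rw [h3]
      push_cast
      rfl
    exact WithBot.coe_injective this
  -- depth
  have h5 := dFib_le_add A S c B (le_of_eq h4) 𝔔 E
  -- dimension
  have hann : ∀ x ∈ xs, ∀ b : B, x • b = 0 := by
    intro x hx b
    obtain ⟨s, rfl⟩ := hπ b
    have h1 : π x = 0 := LinearMap.mem_ker.mp (hmem x hx)
    have : x • π s = s • π x := by
      rw [← map_smul, ← map_smul, smul_eq_mul, smul_eq_mul, mul_comm]
    rw [this, h1, smul_zero]
  have h6 := sFib_add_length_le A S xs S B π hπ hann hreg 𝔔 (fun x hx => h𝔔 (hmem x hx)) E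
  rw [hlen, hS] at h6
  apply withBot_cancel c
  exact h6.trans (WithBot.coe_le_coe.mpr h5)

end Groth.Agent.Lib.Helper24.PerfFib
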