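import Mathlib
import Groth.Prelude.Def_EGA4b
import Groth.Agent.Lib.Helper24.PerfFib6
import Groth.Agent.Lib.Helper24.PerfFib7

/-!
# Fibre modules of flat families, part 8 (helper24): Cohen–Macaulay fibres, ring form

`A → S` a flat local homomorphism of Noetherian local rings with regular closed fibre and
Cohen–Macaulay fibre local rings; `B` a quotient ring of `S`, flat over `A`, with Cohen–Macaulay
closed fibre.  Then all fibre local rings `B_Q/pB_Q` of `A → B` are Cohen–Macaulay.
-/

set_option autoImplicit false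
set_option linter.unusedSectionVars false
universe u
open TensorProduct IsLocalRing LocCoh Function
open Groth.Agent.Lib.helper26.Depth Groth.Agent.Lib.helper26.SkFlat

namespace Groth.Agent.Lib.Helper24.PerfFib

theorem dFib_sFib_congr {A S : Type u} [CommRing A] [CommRing S] [Algebra A S]
    (X : Type u) [AddCommGroup X] [Module S X] [Module A X] [IsScalarTower A S X]
    (𝔔 𝔔' : Ideal S) [𝔔.IsPrime] [𝔔'.IsPrime] (h : 𝔔 = 𝔔') (p p' : Ideal A) (h' : p = p') :
    dFib A 𝔔 (A ⧸ p) X = dFib A 𝔔' (A ⧸ p') X ∧ sFib A 𝔔 (A ⧸ p) X = sFib A 𝔔' (A ⧸ p') X := by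
  subst h
  subst h'
  exact ⟨rfl, rfl⟩

variable (A S B : Type u) [CommRing A] [CommRing S] [CommRing B] [Algebra A S] [Algebra S B]
  [Algebra A B] [IsScalarTower A S B]
  [IsLocalRing A] [IsLocalRing S] [IsLocalRing B] [IsNoetherianRing A] [IsNoetherianRing S]
  [IsNoetherianRing B]
  [IsLocalHom (algebraMap A S)] [Module.Flat A S] [IsRegularLocalRing (S ⧸ mS A S)]
  (hs : Surjective (algebraMap S B)) [Module.Flat A B]

include hs in
/-- **Cohen–Macaulay fibres of a flat quotient** (EGA IV 7.5.1, core step). -/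
theorem cm_fibLocRing
    (hS : ∀ (𝔔 : Ideal S) [𝔔.IsPrime], IsCohenMacaulayLocalRing (EGA4.FibLocRing A S 𝔔))
    (hB : IsCohenMacaulayLocalRing (EGA4.FibLocRing A B (maximalIdeal B)))
    (Q : Ideal B) [Q.IsPrime] : IsCohenMacaulayLocalRing (EGA4.FibLocRing A B Q) := by
  haveI : IsLocalHom (algebraMap S B) := IsLocalHom.of_surjective _ hs
  have hAB : algebraMap A B = (algebraMap S B).comp (algebraMap A S) :=
    IsScalarTower.algebraMap_eq A S B
  haveI : IsLocalHom (algebraMap A B) := by
    rw [hAB]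
    infer_instance
  -- the CM property of the fibres of `S`, module form
  have hSmod : ∀ (𝔔 : Ideal S) [𝔔.IsPrime],
      sFib A 𝔔 (A ⧸ 𝔔.comap (algebraMap A S)) S =
        ((dFib A 𝔔 (A ⧸ 𝔔.comap (algebraMap A S)) S : ℕ∞) : WithBot ℕ∞) := by
    intro 𝔔 _
    have h1 := dFib_sFib_eq A S S (fun x => ⟨x, rfl⟩) 𝔔
    have h2 := dFib_sFib_congr (A := A) S (𝔔.comap (algebraMap S S)) 𝔔 (Ideal.comap_id 𝔔)
      (𝔔.comap (algebraMap A S)) (𝔔.comap (algebraMap A S)) rfl
    rw [← h2.1, ← h2.2, h1.1, h1.2]
    have := (hS 𝔔).supportDim_eq_depth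
    rwa [Module.supportDim_self_eq_ringKrullDim] at this
  -- the closed fibre of `B`
  have hBmod : sCl A S B = ((dCl A S B : ℕ∞) : WithBot ℕ∞) := by
    have h1 := dFib_sFib_eq A S B hs (maximalIdeal B)
    have e1 : (maximalIdeal B).comap (algebraMap S B) = maximalIdeal S := by
      have h := (IsLocalRing.local_hom_TFAE (algebraMap S B)).out 0 4
      exact h.mp ‹_›
    have e2 : (maximalIdeal B).comap (algebraMap A B) = maximalIdeal A := by
      have h := (IsLocalRing.local_hom_TFAE (algebraMap A B)).out 0 4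
      exact h.mp ‹_›
    have h2 := dFib_sFib_congr (A := A) B ((maximalIdeal B).comap (algebraMap S B))
      (maximalIdeal S) e1 ((maximalIdeal B).comap (algebraMap A B)) (maximalIdeal A) e2
    unfold sCl dCl
    rw [← h2.1, ← h2.2, h1.1, h1.2]
    have := hB.supportDim_eq_depth
    rwa [Module.supportDim_self_eq_ringKrullDim] at this
  -- apply the main theorem
  haveI : Module.Finite S B := Module.Finite.of_surjective (Algebra.linearMap S B) hs
  have hker : (LinearMap.ker (Algebra.linearMap S B) : Ideal S) ≤ Q.comap (algebraMap S B) := by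
    intro x hx
    rw [Ideal.mem_comap]
    have : algebraMap S B x = 0 := LinearMap.mem_ker.mp hx
    rw [this]
    exact Q.zero_mem
  have hp : (Q.comap (algebraMap S B)).comap (algebraMap A S) = Q.comap (algebraMap A B) := by
    rw [Ideal.comap_comap, ← hAB]
  have h3 := hSmod (Q.comap (algebraMap S B))
  have h4 := dFib_sFib_congr (A := A) S (Q.comap (algebraMap S B)) (Q.comap (algebraMap S B)) rfl
    ((Q.comap (algebraMap S B)).comap (algebraMap A S)) (Q.comap (algebraMap A B)) hp
  rw [h4.1, h4.2] at h3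
  have h5 := sFib_le_dFib A S B (Algebra.linearMap S B) hs hBmod (Q.comap (algebraMap S B)) hker
    (A ⧸ Q.comap (algebraMap A B)) h3
  have h6 := dFib_sFib_eq A S B hs Q
  rw [h6.1, h6.2] at h5
  haveI := isLocalRing_fibLocRing A B Q
  haveI : IsNoetherianRing (EGA4.FibLocRing A B Q) := inferInstance
  refine { supportDim_eq_depth := ?_ }
  rw [Module.supportDim_self_eq_ringKrullDim]
  exact le_antisymm h5 (depth_self_le_ringKrullDim _)

end Groth.Agent.Lib.Helper24.PerfFib
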