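import Mathlib
import Groth.Prelude.Def_EGA4b
import Groth.Agent.Lib.Helper24.PerfFib8
import Groth.Agent.Lib.Helper24.PerfFib9
import Groth.Agent.Lib.Helper24.CohenFlat7
import Groth.Agent.Lib.Helper24.CplCatenary
import Groth.Agent.Lib.Helper24.CodepthReg1
import Groth.Agent.Lib.Helper24.FlatQuot

/-!
# Cohen–Macaulay fibres of flat local homomorphisms of complete local rings (helper24)

`A → B` a flat local homomorphism of complete Noetherian local rings whose closed fibre is
Cohen–Macaulay.  Then all fibre local rings `B_Q/pB_Q` are Cohen–Macaulay (EGA IV 7.5.1 for the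
property "Cohen–Macaulay", complete case).  The proof uses a flat Cohen presentation
(`CohenFlat.exists_presentation`) and `PerfFib.cm_fibLocRing`.
-/

set_option autoImplicit false
set_option linter.unusedSectionVars false
universe u
open TensorProduct IsLocalRing LocCoh Function

namespace Groth.Agent.Lib.Helper24.PerfFib

section basechange

variable {A' A B : Type u} [CommRing A'] [CommRing A] [CommRing B] [Algebra A B] [Algebra A' B]

/-- the fibre local rings do not change when the base is replaced by an isomorphic ring. -/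
noncomputable def fibLocRingEquivOfRingEquiv (e : A' ≃+* A)
    (he : algebraMap A' B = (algebraMap A B).comp e.toRingHom) (Q : Ideal B) [Q.IsPrime] :
    EGA4.FibLocRing A' B Q ≃+* EGA4.FibLocRing A B Q :=
  Ideal.quotEquivOfEq (by
    rw [IsScalarTower.algebraMap_eq A' B (Localization.AtPrime Q),
      IsScalarTower.algebraMap_eq A B (Localization.AtPrime Q), ← Ideal.map_map, ← Ideal.map_map]
    congr 1
    rw [he, ← Ideal.comap_comap, ← Ideal.map_map]
    congr 1
    exact Ideal.map_comap_of_surjective _ e.surjective _)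

end basechange

section quot

variable (R S : Type u) [CommRing R] [CommRing S] [Algebra R S] [IsLocalRing R] [IsLocalRing S]
  [IsLocalHom (algebraMap R S)] (I : Ideal R) (hI : I ≠ ⊤)

include hI in
/-- the closed fibre of `R/I → S/IS` is the closed fibre of `R → S`. -/
theorem nonempty_closedFibre_quotient_equiv :
    letI : Nontrivial (R ⧸ I) := Ideal.Quotient.nontrivial_iff.mpr hI
    letI : IsLocalRing (R ⧸ I) := .of_surjective' _ Ideal.Quotient.mk_surjective
    Nonempty (((S ⧸ I.map (algebraMap R S)) ⧸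
      (maximalIdeal (R ⧸ I)).map (algebraMap (R ⧸ I) (S ⧸ I.map (algebraMap R S)))) ≃+*
      (S ⧸ (maximalIdeal R).map (algebraMap R S))) := by
  letI : Nontrivial (R ⧸ I) := Ideal.Quotient.nontrivial_iff.mpr hI
  letI : IsLocalRing (R ⧸ I) := .of_surjective' _ Ideal.Quotient.mk_surjective
  have hm : maximalIdeal (R ⧸ I) = (maximalIdeal R).map (Ideal.Quotient.mk I) := by
    symm
    apply IsLocalRing.eq_maximalIdeal
    refine Ideal.IsMaximal.map_of_surjective_of_ker_le Ideal.Quotient.mk_surjective ?_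
    rw [Ideal.mk_ker]
    exact IsLocalRing.le_maximalIdeal hI
  have hmap : (maximalIdeal (R ⧸ I)).map (algebraMap (R ⧸ I) (S ⧸ I.map (algebraMap R S))) =
      ((maximalIdeal R).map (algebraMap R S)).map (Ideal.Quotient.mk (I.map (algebraMap R S))) := by
    rw [hm, Ideal.map_map, Ideal.map_map]
    rfl
  have hle : I.map (algebraMap R S) ≤ (maximalIdeal R).map (algebraMap R S) :=
    Ideal.map_mono (IsLocalRing.le_maximalIdeal hI)
  exact ⟨(Ideal.quotEquivOfEq hmap).trans (DoubleQuot.quotQuotEquivQuotOfLE hle)⟩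

end quot

section presentation

variable (A B R S : Type u) [CommRing A] [CommRing B] [CommRing R] [CommRing S]
  [IsLocalRing A] [IsLocalRing B] [IsNoetherianRing A] [IsNoetherianRing B]
  [Algebra A B] [IsLocalHom (algebraMap A B)] [Module.Flat A B]
  [IsLocalRing R] [IsNoetherianRing R] [IsLocalRing S] [IsNoetherianRing S]
  [Algebra R S] [Module.Flat R S]

theorem cm_fibLocRing_of_presentation (hScm : IsCohenMacaulayRing S)
    (ρ : R →+* A) (σ : S →+* B) (hρ : Surjective ρ) (hσ : Surjective σ)
    (hcomm : σ.comp (algebraMap R S) = (algebraMap A B).comp ρ)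
    (hreg : IsRegularRing (S ⧸ (maximalIdeal R).map (algebraMap R S)))
    (hB : IsCohenMacaulayLocalRing (EGA4.FibLocRing A B (maximalIdeal B)))
    (Q : Ideal B) [Q.IsPrime] : IsCohenMacaulayLocalRing (EGA4.FibLocRing A B Q) := by
  -- `R → S` is local
  haveI hρloc : IsLocalHom ρ := IsLocalHom.of_surjective ρ hρ
  haveI hσloc : IsLocalHom σ := IsLocalHom.of_surjective σ hσ
  haveI hτloc : IsLocalHom (algebraMap R S) := by
    constructor
    intro x hx
    have h1 : IsUnit (σ (algebraMap R S x)) := hx.map σ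
    have h2 : σ (algebraMap R S x) = algebraMap A B (ρ x) := by
      have := congrArg (fun f => f x) hcomm
      simpa using this
    rw [h2] at h1
    exact isUnit_of_map_unit ρ x (isUnit_of_map_unit (algebraMap A B) _ h1)
  set I : Ideal R := RingHom.ker ρ with hI
  have hItop : I ≠ ⊤ := RingHom.ker_ne_top ρ
  letI : Nontrivial (R ⧸ I) := Ideal.Quotient.nontrivial_iff.mpr hItop
  letI : IsLocalRing (R ⧸ I) := .of_surjective' _ Ideal.Quotient.mk_surjective
  letI : Nontrivial (S ⧸ I.map (algebraMap R S)) :=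
    Ideal.Quotient.nontrivial_iff.mpr (Groth.Agent.Lib.Helper24.FlatQuot.map_ne_top R S I hItop)
  letI : IsLocalRing (S ⧸ I.map (algebraMap R S)) :=
    .of_surjective' _ Ideal.Quotient.mk_surjective
  haveI := Groth.Agent.Lib.Helper24.FlatQuot.flat_quotient R S I
  haveI := Groth.Agent.Lib.Helper24.FlatQuot.isLocalHom_quotient R S I hItop
  -- regular closed fibre
  haveI hregloc : IsRegularLocalRing ((S ⧸ I.map (algebraMap R S)) ⧸
      mS (R ⧸ I) (S ⧸ I.map (algebraMap R S))) := by
    obtain ⟨e⟩ := nonempty_closedFibre_quotient_equiv R S I hItop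
    haveI := Groth.Agent.Lib.Helper24.FlatDimFormula.isLocalRing_quotient (R ⧸ I)
      (S ⧸ I.map (algebraMap R S))
    haveI : IsRegularRing ((S ⧸ I.map (algebraMap R S)) ⧸
        mS (R ⧸ I) (S ⧸ I.map (algebraMap R S))) := IsRegularRing.of_ringEquiv e.symm
    exact IsRegularLocalRing.of_isRegularRing_of_isLocalRing _
  -- the base ring isomorphism
  let eA : (R ⧸ I) ≃+* A := RingHom.quotientKerEquivOfSurjective hρ
  have heA : ∀ r : R, eA (Ideal.Quotient.mk I r) = ρ r := fun r => rfl
  letI algA'B : Algebra (R ⧸ I) B := ((algebraMap A B).comp eA.toRingHom).toAlgebra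
  -- `S/IS → B`
  have hσI : ∀ x ∈ I.map (algebraMap R S), σ x = 0 := by
    intro x hx
    have hle : I.map (algebraMap R S) ≤ RingHom.ker σ := by
      rw [Ideal.map_le_iff_le_comap]
      intro r hr
      rw [Ideal.mem_comap, RingHom.mem_ker]
      have := congrArg (fun f => f r) hcomm
      simp only [RingHom.comp_apply] at this
      rw [this, (RingHom.mem_ker).mp hr, map_zero]
    exact hle hx
  let σ' : (S ⧸ I.map (algebraMap R S)) →+* B := Ideal.Quotient.lift _ σ hσI
  letI algS'B : Algebra (S ⧸ I.map (algebraMap R S)) B := σ'.toAlgebra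
  haveI : IsScalarTower (R ⧸ I) (S ⧸ I.map (algebraMap R S)) B :=
    IsScalarTower.of_algebraMap_eq' (by
      apply Ideal.Quotient.ringHom_ext
      ext r
      have h1 : algebraMap (R ⧸ I) B (Ideal.Quotient.mk I r) = algebraMap A B (ρ r) := rfl
      have h2 : algebraMap (S ⧸ I.map (algebraMap R S)) B
          (algebraMap (R ⧸ I) (S ⧸ I.map (algebraMap R S)) (Ideal.Quotient.mk I r)) =
          σ (algebraMap R S r) := rfl
      have h3 := congrArg (fun f => f r) hcomm
      simp only [RingHom.comp_apply] at h3 ⊢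
      rw [h1, h2, h3])
  have hs' : Surjective (algebraMap (S ⧸ I.map (algebraMap R S)) B) := by
    intro b
    obtain ⟨s, rfl⟩ := hσ b
    exact ⟨Ideal.Quotient.mk _ s, rfl⟩
  -- flatness of `B` over `R/I`
  haveI : Module.Flat (R ⧸ I) B := by
    letI : Algebra (R ⧸ I) A := eA.toRingHom.toAlgebra
    haveI : IsScalarTower (R ⧸ I) A B := IsScalarTower.of_algebraMap_eq' rfl
    haveI : Module.Flat (R ⧸ I) A := Module.Flat.of_linearEquiv
      (LinearEquiv.ofBijective (Algebra.linearMap (R ⧸ I) A) eA.bijective).symm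
    exact Module.Flat.trans (R ⧸ I) A B
  -- the closed fibre over `R/I`
  have hB' : IsCohenMacaulayLocalRing (EGA4.FibLocRing (R ⧸ I) B (maximalIdeal B)) :=
    Groth.Agent.S9808.cm_of_ringEquiv (R := EGA4.FibLocRing A B (maximalIdeal B))
      (S := EGA4.FibLocRing (R ⧸ I) B (maximalIdeal B))
      (fibLocRingEquivOfRingEquiv eA rfl (maximalIdeal B)).symm
  haveI := cm_fibLocRing (R ⧸ I) (S ⧸ I.map (algebraMap R S)) B hs'
    (fun 𝔔 _ => cm_fibLocRing_quotient R S hScm I 𝔔) hB' Q
  exact Groth.Agent.S9808.cm_of_ringEquiv (R := EGA4.FibLocRing (R ⧸ I) B Q)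
    (S := EGA4.FibLocRing A B Q) (fibLocRingEquivOfRingEquiv eA rfl Q)

end presentation

section complete

variable (A B : Type u) [CommRing A] [CommRing B] [IsLocalRing A] [IsLocalRing B]
  [IsNoetherianRing A] [IsNoetherianRing B]
  [IsAdicComplete (maximalIdeal A) A] [IsAdicComplete (maximalIdeal B) B]
  [Algebra A B] [IsLocalHom (algebraMap A B)] [Module.Flat A B]

/-- **EGA IV 7.5.1 for "Cohen–Macaulay", complete case**: a flat local homomorphism of complete
Noetherian local rings with Cohen–Macaulay closed fibre has Cohen–Macaulay fibres. -/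
theorem cm_fibLocRing_of_complete
    (hB : IsCohenMacaulayLocalRing (EGA4.FibLocRing A B (maximalIdeal B)))
    (Q : Ideal B) [Q.IsPrime] : IsCohenMacaulayLocalRing (EGA4.FibLocRing A B Q) := by
  obtain ⟨Λ, Λ', instΛ, instΛ', locΛ, n, m, ρ, σ, τ, hcases, hρ, hσ, hcomm, hτ, hreg⟩ :=
    Groth.Agent.Lib.Helper24.CohenFlat.exists_presentation (A := A) (B := B)
  have hΛ : IsField Λ ∨ CAlg.IsCohenRing Λ := by
    rcases hcases with ⟨-, h, -⟩ | ⟨-, h, -⟩
    · exact Or.inl h
    · exact Or.inr h
  have hΛ' : IsField Λ' ∨ CAlg.IsCohenRing Λ' := by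
    rcases hcases with ⟨-, -, h⟩ | ⟨-, -, h⟩
    · exact Or.inl h
    · exact Or.inr h
  haveI hRreg : IsRegularLocalRing (MvPowerSeries (Fin n) Λ) :=
    Groth.Agent.Lib.Helper24.CplCatenary.isRegularLocalRing_mvPowerSeries_of_field_or_cohen Λ hΛ n
  haveI hSreg : IsRegularLocalRing (MvPowerSeries (Fin m) Λ') :=
    Groth.Agent.Lib.Helper24.CplCatenary.isRegularLocalRing_mvPowerSeries_of_field_or_cohen Λ' hΛ' m
  letI algRS : Algebra (MvPowerSeries (Fin n) Λ) (MvPowerSeries (Fin m) Λ') := τ.toAlgebra
  haveI : Module.Flat (MvPowerSeries (Fin n) Λ) (MvPowerSeries (Fin m) Λ') := hτ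
  have hScm : IsCohenMacaulayRing (MvPowerSeries (Fin m) Λ') := by
    haveI := Groth.Agent.Lib.helper24.CodepthReg.isCohenMacaulayLocalRing_of_isRegularLocalRing
      (MvPowerSeries (Fin m) Λ')
    exact Groth.Agent.Lib.helper26.Unmixed.isCohenMacaulayRing_of_local _
  exact cm_fibLocRing_of_presentation A B (MvPowerSeries (Fin n) Λ) (MvPowerSeries (Fin m) Λ')
    hScm ρ σ hρ hσ hcomm hreg hB Q

end complete

end Groth.Agent.Lib.Helper24.PerfFib
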