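import Mathlib
import Groth.Prelude.Def_EGA4b
import Groth.Agent.Lib.Helper24.PerfFib10
import Groth.Agent.Lib.Helper24.FlatDepth7
import Groth.Agent.Lib.Helper24.CMDescent
import Groth.Agent.Lib.Helper24.FibreFF
import Groth.Agent.Lib.Helper24.CplFlat
import Groth.Agent.Lib.Helper24.CplCM
import Groth.Agent.Lib.Helper24.FormalEquidimLoc

/-!
# EGA IV 7.5.1 for the property "Cohen–Macaulay" (helper24)

`A → B` a flat local homomorphism of Noetherian local rings, the formal fibres of `A`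
Cohen–Macaulay, the closed fibre of `B̂` Cohen–Macaulay.  Then all fibres of `A → B` are
Cohen–Macaulay.
-/

set_option autoImplicit false
set_option linter.unusedSectionVars false
universe u
open TensorProduct IsLocalRing LocCoh Function

namespace Groth.Agent.Lib.Helper24.PerfFib

open Groth.Agent.Lib.Helper24.CplFlat

theorem cm_fiber_congr_ideal {A B : Type u} [CommRing A] [CommRing B] [Algebra A B]
    (p p' : Ideal A) [p.IsPrime] [p'.IsPrime] (h : p = p')
    (hcm : IsCohenMacaulayRing (p.Fiber B)) : IsCohenMacaulayRing (p'.Fiber B) := by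
  subst h
  exact hcm

/-- the fibre local ring does not change along `A → A'` when `(Q ∩ A) A' = Q ∩ A'`. -/
noncomputable def fibLocRingEquivOfTower (A A' B : Type u) [CommRing A] [CommRing A']
    [CommRing B] [Algebra A A'] [Algebra A' B] [Algebra A B] [IsScalarTower A A' B]
    (Q : Ideal B) [Q.IsPrime]
    (h : (Q.comap (algebraMap A B)).map (algebraMap A A') = Q.comap (algebraMap A' B)) :
    EGA4.FibLocRing A B Q ≃+* EGA4.FibLocRing A' B Q :=
  Ideal.quotEquivOfEq (by
    rw [← h, IsScalarTower.algebraMap_eq A' B (Localization.AtPrime Q),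
      IsScalarTower.algebraMap_eq A B (Localization.AtPrime Q),
      IsScalarTower.algebraMap_eq A A' B, ← Ideal.map_map, ← Ideal.map_map, ← Ideal.map_map])

section main

variable (A B : Type u) [CommRing A] [CommRing B]
  [IsNoetherianRing A] [IsNoetherianRing B] [IsLocalRing A] [IsLocalRing B] [Algebra A B]
  [IsLocalHom (algebraMap A B)] [Module.Flat A B]

/-- **EGA IV 7.5.1 for "Cohen–Macaulay"**: all fibre rings of `A → B` are Cohen–Macaulay. -/
theorem cm_fibres (hA : EGA4.HasCMFormalFibres A)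
    (h : IsCohenMacaulayRing ((maximalIdeal A).Fiber (EGA4.Cpl B)))
    (p : Ideal A) [p.IsPrime] : IsCohenMacaulayRing (p.Fiber B) := by
  letI : Algebra (EGA4.Cpl A) (EGA4.Cpl B) := (cplMap A B).toAlgebra
  haveI : IsScalarTower A (EGA4.Cpl A) (EGA4.Cpl B) :=
    IsScalarTower.of_algebraMap_eq' (cplMap_comp_algebraMap A B).symm
  haveI : IsNoetherianRing (EGA4.Cpl A) :=
    Groth.Agent.S0542.result A _ (maximalIdeal A).fg_of_isNoetherianRing
  haveI : IsNoetherianRing (EGA4.Cpl B) :=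
    Groth.Agent.S0542.result B _ (maximalIdeal B).fg_of_isNoetherianRing
  haveI : IsAdicComplete (maximalIdeal (EGA4.Cpl A)) (EGA4.Cpl A) :=
    Groth.Agent.Lib.Helper24.FormalEquidimLoc.isAdicComplete_cpl A
  haveI : IsAdicComplete (maximalIdeal (EGA4.Cpl B)) (EGA4.Cpl B) :=
    Groth.Agent.Lib.Helper24.FormalEquidimLoc.isAdicComplete_cpl B
  haveI : Module.Flat (EGA4.Cpl A) (EGA4.Cpl B) := flat_cplMap A B
  haveI hloc1 : IsLocalHom (algebraMap (EGA4.Cpl A) (EGA4.Cpl B)) := isLocalHom_cplMap A B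
  haveI hloc2 : IsLocalHom (algebraMap A (EGA4.Cpl A)) :=
    Groth.Agent.Lib.Helper24.CplCM.isLocalHom_cpl A
  haveI hloc3 : IsLocalHom (algebraMap A (EGA4.Cpl B)) := by
    rw [IsScalarTower.algebraMap_eq A (EGA4.Cpl A) (EGA4.Cpl B)]
    infer_instance
  -- the closed fibre of `Â → B̂`
  have e1 : (maximalIdeal (EGA4.Cpl B)).comap (algebraMap A (EGA4.Cpl B)) = maximalIdeal A := by
    have h' := (IsLocalRing.local_hom_TFAE (algebraMap A (EGA4.Cpl B))).out 0 4
    exact h'.mp ‹_›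
  have e2 : (maximalIdeal (EGA4.Cpl B)).comap (algebraMap (EGA4.Cpl A) (EGA4.Cpl B)) =
      maximalIdeal (EGA4.Cpl A) := by
    have h' := (IsLocalRing.local_hom_TFAE (algebraMap (EGA4.Cpl A) (EGA4.Cpl B))).out 0 4
    exact h'.mp ‹_›
  haveI h1 : IsCohenMacaulayLocalRing
      (EGA4.FibLocRing A (EGA4.Cpl B) (maximalIdeal (EGA4.Cpl B))) := by
    apply cm_fibLocRing_of_cm_fiber
    exact cm_fiber_congr_ideal _ _ e1.symm h
  have hcl : IsCohenMacaulayLocalRing
      (EGA4.FibLocRing (EGA4.Cpl A) (EGA4.Cpl B) (maximalIdeal (EGA4.Cpl B))) := by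
    refine Groth.Agent.S9808.cm_of_ringEquiv
      (R := EGA4.FibLocRing A (EGA4.Cpl B) (maximalIdeal (EGA4.Cpl B)))
      (fibLocRingEquivOfTower A (EGA4.Cpl A) (EGA4.Cpl B) (maximalIdeal (EGA4.Cpl B)) ?_)
    rw [e1, e2]
    exact Groth.Agent.Lib.Helper24.CplCM.map_maximalIdeal_cpl A
  -- the complete case
  have hcore : ∀ (P : Ideal (EGA4.Cpl A)) [P.IsPrime],
      IsCohenMacaulayRing (P.Fiber (EGA4.Cpl B)) := fun P _ =>
    cm_fiber_of_cm_fibLocRing (EGA4.Cpl A) (EGA4.Cpl B) P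
      (fun Q _ _ => cm_fibLocRing_of_complete (EGA4.Cpl A) (EGA4.Cpl B) hcl Q)
  -- composition with the formal fibres of `A`
  haveI : Module.Flat A (EGA4.Cpl A) := Groth.Agent.Lib.Helper24.CplCM.flat_cpl A
  haveI hcomp : IsCohenMacaulayRing (p.Fiber (EGA4.Cpl B)) :=
    Groth.Agent.Lib.Helper24.FlatDepth.cm_fiber_comp A (EGA4.Cpl A) (EGA4.Cpl B) p (hA p) hcore
  -- descent along `B → B̂`
  haveI : Module.FaithfullyFlat B (EGA4.Cpl B) := Module.FaithfullyFlat.of_flat_of_isLocalHom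
  exact Groth.Agent.Lib.Helper24.CMDescent.isCohenMacaulayRing_of_faithfullyFlat_ringHom _
    (Groth.Agent.Lib.Helper24.FibreFF.faithfullyFlat_map_left A B (EGA4.Cpl B) p.ResidueField)

end main

end Groth.Agent.Lib.Helper24.PerfFib
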