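import Groth.Agent.Lib.Helper24.SkEquidim
import Groth.Agent.Lib.Helper24.GRk12
import Groth.Agent.Lib.Helper24.GRk6
import Groth.Agent.Lib.Helper24.FibreRegular
import Groth.Agent.S0553
import Groth.Agent.Lib.Helper26.FibBC
import Groth.Agent.Lib.Helper26.DimFormula7
import Groth.Agent.Lib.Helper26.CMPoly3

/-!
# `S_k`-morphisms near a point (helper24), part 1: ring level

For `A → B` flat of finite presentation and `k ≥ 2`: the fibre local rings are catenary, hence `(S_k)`
implies equidimensional, hence the `(S_k)`-locus of the fibres is the open set `eqSkLocus A B B k`.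
-/

set_option autoImplicit false
universe u

namespace Groth.Agent.Lib.Helper24.QGorSk

open LocCoh Groth.Agent.Lib.Helper24.FibCod Groth.Agent.Lib.Helper24.FibSk
  Groth.Agent.Lib.Helper24.GRk

attribute [local instance] Groth.Agent.Lib.helper26.SkFlat.isLocalRing_fibLocRing

section cat

variable (A B : Type u) [CommRing A] [CommRing B] [Algebra A B] [Algebra.FiniteType A B]

/-- the fibre local rings of a finite type algebra are catenary. -/
theorem isCatenary_fibLocRing (Q : Ideal B) [Q.IsPrime] :
    CAlg.IsCatenary (EGA4.FibLocRing A B Q) := by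
  set p : Ideal A := Q.comap (algebraMap A B) with hp
  haveI : p.IsPrime := Ideal.comap_isPrime _ _
  haveI : Q.LiesOver p := ⟨rfl⟩
  obtain ⟨𝔮, h𝔮, h⟩ := Groth.Agent.Lib.Helper24.FibreRegular.exists_fiber_prime A B p Q
  obtain ⟨e⟩ := Groth.Agent.Lib.helper26.FibBC.nonempty_fibLocRingEquiv A B p 𝔮 Q h.symm
  have h1 : CAlg.IsCatenary (p.Fiber B) :=
    (Groth.Agent.Lib.helper26.DimFormula.isUniversallyCatenary_field p.ResidueField).2
      (p.Fiber B) inferInstance
  have h2 : CAlg.IsCatenary (Localization.AtPrime 𝔮) :=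
    Groth.Agent.S0553.isCatenary_of_isLocalization 𝔮.primeCompl _ h1
  exact Groth.Agent.Lib.helper26.CMPoly.isCatenary_of_ringEquiv e h2

end cat

section ring

variable (A B : Type u) [CommRing A] [CommRing B] [Algebra A B] [Algebra.FinitePresentation A B]

/-- for `k ≥ 2`, the fibre local ring at `Q` is `(S_k)` iff `Q` lies in the open set
`eqSkLocus A B B k`. -/
theorem mem_eqSkLocus_self_iff_hasSk (k : ℕ) (hk : 2 ≤ k) (Q : PrimeSpectrum B) :
    Q ∈ eqSkLocus A B B k ↔
      HasSk k (EGA4.FibLocRing A B Q.asIdeal) (EGA4.FibLocRing A B Q.asIdeal) := by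
  haveI : Algebra.FiniteType A B := Algebra.FiniteType.of_finitePresentation
  haveI : IsNoetherianRing (EGA4.FibLocRing A B Q.asIdeal) :=
    isNoetherianRing_fibLocRing A B Q.asIdeal
  rw [mem_eqSkLocus_iff A B k (by omega) Q,
    ← isEquidimModule_congr (fibLocModSelfEquiv' A B Q.asIdeal),
    ← isEquidim_iff_isEquidimModule]
  constructor
  · rintro ⟨-, h2⟩
    exact Groth.Agent.Lib.helper26.Depth.hasSk_congr k
      (fibLocModSelfEquiv' A B Q.asIdeal).symm h2
  · intro h
    refine ⟨?_, Groth.Agent.Lib.helper26.Depth.hasSk_congr k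
      (fibLocModSelfEquiv' A B Q.asIdeal) h⟩
    refine Groth.Agent.Lib.Helper24.SkEquidim.isEquidim_of_hasSk_two _
      (isCatenary_fibLocRing A B Q.asIdeal) ?_
    exact Groth.Agent.Lib.Helper24.SerreNormal.hasSk_mono hk _ h

end ring

end Groth.Agent.Lib.Helper24.QGorSk
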