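import Groth.Agent.Lib.Helper24.QGorSk3

/-!
# `S_k`-morphisms near a point (helper24), part 4: the neighbourhood theorem

EGA IV 12.1.6-type statement: for `f : Y ⟶ T` flat, locally of finite type between locally
Noetherian schemes, `k ≥ 2`, and `y` a point at which the fibre is `(S_k)`: there is an open
neighbourhood `U` of `y` such that `U → T` is an `S_k`-morphism of pure relative dimension, and the
codimension in the fibres of the complement of a given open is preserved.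
-/

set_option autoImplicit false
universe u

namespace Groth.Agent.Lib.Helper24.QGorSk

open AlgebraicGeometry CategoryTheory IsLocalRing LocCoh
  Groth.Agent.Lib.Helper24.FibCod Groth.Agent.Lib.Helper24.GRk Groth.Agent.Lib.Helper24.FibRd

attribute [local instance] Groth.Agent.Lib.helper26.SkFlat.isLocalRing_fibLocRing

/-- a bound `c ≤ d` with `d` a natural number is a bound by a natural number. -/
theorem exists_nat_le_iff (c : WithBot ℕ∞) (d₀ : ℕ) (h : c ≤ ((d₀ : ℕ) : WithBot ℕ∞)) :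
    ∃ n : ℕ, ∀ d : ℕ, c ≤ ((d : ℕ) : WithBot ℕ∞) ↔ n ≤ d := by
  induction c using WithBot.recBotCoe with
  | bot => exact ⟨0, fun d => by simp⟩
  | coe c =>
    induction c using ENat.recTopCoe with
    | top =>
      exfalso
      have h' : ((⊤ : ℕ∞) : WithBot ℕ∞) ≤ (((d₀ : ℕ) : ℕ∞) : WithBot ℕ∞) := h
      rw [WithBot.coe_le_coe] at h'
      simp at h'
    | coe n =>
      refine ⟨n, fun d => ?_⟩
      constructor
      · intro hd
        have h' : (((n : ℕ) : ℕ∞) : WithBot ℕ∞) ≤ (((d : ℕ) : ℕ∞) : WithBot ℕ∞) := hd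
        rw [WithBot.coe_le_coe] at h'
        exact_mod_cast h'
      · intro hd
        have h' : (((n : ℕ) : ℕ∞) : WithBot ℕ∞) ≤ (((d : ℕ) : ℕ∞) : WithBot ℕ∞) := by
          rw [WithBot.coe_le_coe]
          exact_mod_cast hd
        exact h'

theorem exists_nhd_isSkMor {Y T : Scheme.{u}} (f : Y ⟶ T) [IsLocallyNoetherian Y]
    [IsLocallyNoetherian T] [Flat f] [LocallyOfFiniteType f] (k : ℕ) (hk : 2 ≤ k) (y : Y)
    (hy : RelCanon.SkAt k (Coh.structureModule (f.fiber (f y))) (f.asFiber y))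
    (Yo : Y.Opens) (hyo : y ∉ Yo) (c : WithBot ℕ∞)
    (hc : ∀ z : Y, f z = f y → z ∉ Yo → z ⤳ y →
      c ≤ ringKrullDim ((f.fiber (f z)).presheaf.stalk (f.asFiber z))) :
    ∃ U : Y.Opens, y ∈ U ∧ RelCanon.IsSkMor (U.ι ≫ f) k ∧
      (∃ e : ℕ, Cyc.HasRelDim (U.ι ≫ f) e) ∧
      ∀ z : Y, z ∈ U → z ∉ Yo →
        c ≤ ringKrullDim ((f.fiber (f z)).presheaf.stalk (f.asFiber z)) := by
  obtain ⟨_, ⟨V, hV : IsAffineOpen V, rfl⟩, hfyV, -⟩ :=
    T.isBasis_affineOpens.exists_subset_of_mem_open (Set.mem_univ (f y)) isOpen_univ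
  obtain ⟨_, ⟨U₀, hU : IsAffineOpen U₀, rfl⟩, hyU, hUV'⟩ :=
    Y.isBasis_affineOpens.exists_subset_of_mem_open
      (show y ∈ (f ⁻¹ᵁ V : Set Y) from hfyV) (f ⁻¹ᵁ V).isOpen
  have hUV : U₀ ≤ f ⁻¹ᵁ V := fun z hz => hUV' hz
  have hfp : (f.appLE V U₀ hUV).hom.FinitePresentation := f.finitePresentation_appLE hV hU hUV
  have hft : (f.appLE V U₀ hUV).hom.FiniteType := RingHom.FiniteType.of_finitePresentation hfp
  letI := (f.appLE V U₀ hUV).hom.toAlgebra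
  haveI : Algebra.FinitePresentation Γ(T, V) Γ(Y, U₀) := hfp
  haveI : Algebra.FiniteType Γ(T, V) Γ(Y, U₀) := hft
  haveI : Module.Flat Γ(T, V) Γ(Y, U₀) :=
    flat_sections_of_forall_flat_stalkMap f hV hU hUV (fun z _ => Flat.stalkMap f z)
  -- the dictionary
  have key : ∀ (z : Y) (hz : z ∈ U₀),
      Nonempty ((f.fiber (f z)).presheaf.stalk (f.asFiber z) ≃+*
        EGA4.FibLocRing Γ(T, V) Γ(Y, U₀) (hU.primeIdealOf ⟨z, hz⟩).asIdeal) := fun z hz =>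
    nonempty_fibre_stalk_equiv_fibLocRing f hV hU hUV z hz
  have keySk : ∀ (z : Y) (hz : z ∈ U₀),
      RelCanon.SkAt k (Coh.structureModule (f.fiber (f z))) (f.asFiber z) ↔
        HasSk k (EGA4.FibLocRing Γ(T, V) Γ(Y, U₀) (hU.primeIdealOf ⟨z, hz⟩).asIdeal)
          (EGA4.FibLocRing Γ(T, V) Γ(Y, U₀) (hU.primeIdealOf ⟨z, hz⟩).asIdeal) := by
    intro z hz
    obtain ⟨ε⟩ := key z hz
    haveI : IsNoetherianRing (EGA4.FibLocRing Γ(T, V) Γ(Y, U₀)
        (hU.primeIdealOf ⟨z, hz⟩).asIdeal) := isNoetherianRing_fibLocRing _ _ _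
    haveI : IsNoetherianRing ((f.fiber (f z)).presheaf.stalk (f.asFiber z)) :=
      isNoetherianRing_of_ringEquiv _ ε.symm
    rw [skAt_structureModule_iff]
    exact hasSk_iff_of_ringEquiv k ε
  have keyDim : ∀ (z : Y) (hz : z ∈ U₀),
      ringKrullDim ((f.fiber (f z)).presheaf.stalk (f.asFiber z)) =
        ringKrullDim (EGA4.FibLocRing Γ(T, V) Γ(Y, U₀) (hU.primeIdealOf ⟨z, hz⟩).asIdeal) := by
    intro z hz
    obtain ⟨ε⟩ := key z hz
    exact ringKrullDim_eq_of_ringEquiv ε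
  -- the bound `c`
  set Q := hU.primeIdealOf ⟨y, hyU⟩ with hQ
  obtain ⟨dy, hdy⟩ := exists_nat_dim_fibLocRing' Γ(T, V) Q.asIdeal
  have hcy : c ≤ ((dy : ℕ) : WithBot ℕ∞) := by
    rw [← hdy, ← keyDim y hyU]
    exact hc y rfl hyo specializes_rfl
  obtain ⟨n, hn⟩ := exists_nat_le_iff c dy hcy
  have hcn : ∀ (Q' : PrimeSpectrum Γ(Y, U₀)),
      c ≤ ringKrullDim (EGA4.FibLocRing Γ(T, V) Γ(Y, U₀) Q'.asIdeal) ↔
        ((n : ℕ) : WithBot ℕ∞) ≤ ringKrullDim (EGA4.FibLocRing Γ(T, V) Γ(Y, U₀) Q'.asIdeal) := by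
    intro Q'
    obtain ⟨d, hd⟩ := exists_nat_dim_fibLocRing' Γ(T, V) Q'.asIdeal
    rw [hd, hn d]
    exact_mod_cast Iff.rfl
  -- the closed set
  set C : Set (PrimeSpectrum Γ(Y, U₀)) := (hU.fromSpec ⁻¹' (Yo : Set Y))ᶜ with hC
  have hCc : IsClosed C :=
    (Yo.isOpen.preimage hU.fromSpec.continuous).isClosed_compl
  have hQsk : HasSk k (EGA4.FibLocRing Γ(T, V) Γ(Y, U₀) Q.asIdeal)
      (EGA4.FibLocRing Γ(T, V) Γ(Y, U₀) Q.asIdeal) := (keySk y hyU).mp hy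
  have hbound : ∀ q : PrimeSpectrum Γ(Y, U₀), q.asIdeal ≤ Q.asIdeal →
      q.asIdeal.comap (algebraMap Γ(T, V) Γ(Y, U₀)) =
        Q.asIdeal.comap (algebraMap Γ(T, V) Γ(Y, U₀)) → q ∈ C →
      ((n : ℕ) : WithBot ℕ∞) ≤ ringKrullDim (EGA4.FibLocRing Γ(T, V) Γ(Y, U₀) q.asIdeal) := by
    intro q hle hfib hqC
    have hzU : hU.fromSpec q ∈ U₀ := fromSpec_mem hU q
    have hq' : hU.primeIdealOf ⟨hU.fromSpec q, hzU⟩ = q := primeIdealOf_fromSpec hU q hzU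
    have hsp : hU.fromSpec q ⤳ y := by
      rw [← primeIdealOf_le_iff hU y _ hyU hzU, hq']
      exact hle
    have hfz : f (hU.fromSpec q) = f y := by
      rw [← comap_primeIdealOf_eq_iff f hV hU hUV y _ hyU hzU, hq']
      exact hfib
    have h1 := hc _ hfz hqC hsp
    rw [keyDim _ hzU, hq'] at h1
    exact (hcn q).mp h1
  obtain ⟨O, lam, hOo, hQO, hOsk, hOdim, hOC⟩ :=
    exists_open_nhd Γ(T, V) Γ(Y, U₀) k hk C hCc Q hQsk n hbound
  -- the neighbourhood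
  let W : Y.Opens := ⟨hU.fromSpec '' O, hU.fromSpec.isOpenEmbedding.isOpenMap _ hOo⟩
  have hW : ∀ z : Y, z ∈ W → ∃ hz : z ∈ U₀, hU.primeIdealOf ⟨z, hz⟩ ∈ O := by
    rintro _ ⟨q, hq, rfl⟩
    have hzU : hU.fromSpec q ∈ U₀ := fromSpec_mem hU q
    refine ⟨hzU, ?_⟩
    rw [primeIdealOf_fromSpec hU q hzU]
    exact hq
  have hWι : ∀ u : W, W.ι u ∈ W := fun u => u.2
  refine ⟨W, ⟨Q, hQO, hU.fromSpec_primeIdealOf ⟨y, hyU⟩⟩, ⟨inferInstance, inferInstance, ?_⟩,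
    ⟨lam, ?_⟩, ?_⟩
  · intro u
    obtain ⟨hz, hzO⟩ := hW _ (hWι u)
    obtain ⟨E⟩ := nonempty_fibre_stalk_equiv_of_isOpenImmersion W.ι f u
    obtain ⟨ε⟩ := key _ hz
    haveI : IsNoetherianRing (EGA4.FibLocRing Γ(T, V) Γ(Y, U₀)
        (hU.primeIdealOf ⟨W.ι u, hz⟩).asIdeal) := isNoetherianRing_fibLocRing _ _ _
    haveI : IsNoetherianRing ((f.fiber (f (W.ι u))).presheaf.stalk (f.asFiber (W.ι u))) :=
      isNoetherianRing_of_ringEquiv _ ε.symm
    haveI : IsNoetherianRing (((W.ι ≫ f).fiber ((W.ι ≫ f) u)).presheaf.stalk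
        ((W.ι ≫ f).asFiber u)) := isNoetherianRing_of_ringEquiv _ E.symm
    rw [skAt_structureModule_iff, hasSk_iff_of_ringEquiv k E, hasSk_iff_of_ringEquiv k ε]
    exact hOsk _ hzO
  · refine Groth.Agent.Lib.helper3.RelDim.hasRelDim_of_forall_fibreDimAt (W.ι ≫ f) lam fun u => ?_
    obtain ⟨hz, hzO⟩ := hW _ (hWι u)
    rw [Groth.Agent.Lib.helper5.FibreDimLocal.fibreDimAt_eq_of_comm W.ι (𝟙 T) (W.ι ≫ f) f
      (Category.comp_id _).symm W.ι.isOpenEmbedding Function.injective_id u]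
    obtain ⟨d, hd⟩ := exists_nat_dim_fibLocRing' Γ(T, V) (hU.primeIdealOf ⟨W.ι u, hz⟩).asIdeal
    rw [fibreDimAt_eq_chart f hV hU hUV hft (W.ι u) hz d hd]
    have h1 := hOdim _ hzO
    rw [hd] at h1
    have h2 : d + tdN Γ(T, V) (hU.primeIdealOf ⟨W.ι u, hz⟩).asIdeal = lam := by exact_mod_cast h1
    have h3 : tdN Γ(T, V) (hU.primeIdealOf ⟨W.ι u, hz⟩).asIdeal + d = lam := by omega
    rw [h3]
  · intro z hzW hzo
    obtain ⟨hz, hzO⟩ := hW z hzW
    rw [keyDim z hz, hcn]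
    refine hOC _ hzO (fun h => hzo ?_)
    have h' : hU.fromSpec (hU.primeIdealOf ⟨z, hz⟩) ∈ Yo := h
    rwa [hU.fromSpec_primeIdealOf ⟨z, hz⟩] at h'

end Groth.Agent.Lib.Helper24.QGorSk
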