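import Mathlib
import Groth.Prelude.Def_EGA4b
import Groth.Agent.Lib.Helper16.DivSum5
import Groth.Agent.Lib.Helper16.CohStalk
import Groth.Agent.Lib.Helper19.Falt2
import Groth.Agent.Lib.Helper15.Regular
import Groth.Agent.Lib.Helper24.FibCod12

/-!
# Rectified depth on regular biequidimensional schemes (helper24), part 1 (EGA IV 10.8.x)

* `dim_generizations`: the space of generizations of a point has the dimension of the local ring.
* `generizations_subset_component`: if `O_{X,x}` is a domain, the generizations of `x` all lie in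
  the irreducible component through `x`.
* `rectifiedDepth_add_pd`: on a regular biequidimensional Noetherian scheme,
  `depth F_x + dim cl{x} + pd F_x = dim X` on the support of a coherent module `F`.
-/

set_option autoImplicit false
universe u

namespace Groth.Agent.Lib.Helper24.RdReg

open AlgebraicGeometry CategoryTheory IsLocalRing LocCoh TopologicalSpace
  Groth.Agent.Lib.helper16.OrdGen Groth.Agent.Lib.helper16.DivSum

/-- the space of generizations of `x` has the dimension of `O_{X,x}`. -/
theorem dim_generizations (X : Scheme.{u}) (x : X) :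
    topologicalKrullDim ↥{t : X | t ⤳ x} = ringKrullDim (X.presheaf.stalk x) := by
  have hemb : Topology.IsEmbedding (X.fromSpecStalk x) := (X.fromSpecStalk x).isEmbedding
  have hr : Set.range (X.fromSpecStalk x) = {t | t ⤳ x} := Scheme.range_fromSpecStalk
  have h1 := IsHomeomorph.topologicalKrullDim_eq _ hemb.toHomeomorph.isHomeomorph
  rw [← hr, ← h1]
  exact PrimeSpectrum.topologicalKrullDim_eq_ringKrullDim (X.presheaf.stalk x)

/-- if `O_{X,x}` is a domain, all generizations of `x` lie in the irreducible component through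
`x`. -/
theorem generizations_subset_component (X : Scheme.{u}) (x : X) [IsDomain (X.presheaf.stalk x)]
    (T : Set X) (hT : T ∈ irreducibleComponents X) (hx : x ∈ T) :
    {t : X | t ∈ T ∧ t ⤳ x} = {t : X | t ⤳ x} := by
  ext t
  refine ⟨fun h => h.2, fun ht => ⟨?_, ht⟩⟩
  have ht' : t ⤳ x := ht
  have hTirr : IsIrreducible T := hT.1
  have hTcl : IsClosed T := isClosed_of_mem_irreducibleComponents T hT
  obtain ⟨η, hη⟩ := QuasiSober.sober hTirr hTcl
  have hηx : η ⤳ x := by
    rw [specializes_iff_mem_closure, hη.def]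
    exact hx
  set ζ := X.fromSpecStalk x (⟨⊥, Ideal.isPrime_bot⟩ : PrimeSpectrum (X.presheaf.stalk x)) with hζ
  have hζx : ζ ⤳ x := specializes_fromSpecStalk x _
  have hpζ : pOf hζx = ⊥ := pOf_fromSpecStalk x _ hζx
  have hζη : ζ ⤳ η := (specializes_iff_pOf_le hζx hηx).mpr (by rw [hpζ]; exact bot_le)
  have hζt : ζ ⤳ t := (specializes_iff_pOf_le hζx ht').mpr (by rw [hpζ]; exact bot_le)
  have hsub : T ⊆ closure {ζ} := by
    rw [← hη.def]
    exact closure_minimal (Set.singleton_subset_iff.mpr hζη.mem_closure) isClosed_closure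
  have hirr : IsIrreducible (closure ({ζ} : Set X)) := isIrreducible_singleton.closure
  have hle : closure ({ζ} : Set X) ⊆ T := hT.2 hirr hsub
  exact hle hζt.mem_closure

/-- bookkeeping in `WithBot ℕ∞`. -/
theorem arith_aux {δ : ℕ∞} {c : WithBot ℕ∞} {k h : ℕ} (hkd : (k : ℕ∞) + δ = (h : ℕ∞)) :
    ((δ : ℕ∞) : WithBot ℕ∞) + c + ((k : ℕ) : WithBot ℕ∞) = c + ((h : ℕ) : WithBot ℕ∞) := by
  have h1 : ((k : ℕ) : WithBot ℕ∞) = (((k : ℕ∞)) : WithBot ℕ∞) := rfl
  have h2 : ((h : ℕ) : WithBot ℕ∞) = (((h : ℕ∞)) : WithBot ℕ∞) := rfl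
  rw [h1, h2, ← hkd, WithBot.coe_add]
  abel

/-- **EGA IV 10.8.x**: on a regular biequidimensional Noetherian scheme the rectified depth of a
coherent module is `dim X - pd`. -/
theorem rectifiedDepth_add_pd (X : Scheme.{u})
    (hreg : ∀ x : X, IsRegularLocalRing ↑(X.presheaf.stalk x))
    (hcomp : ∀ C ∈ irreducibleComponents (X : Type u),
      topologicalKrullDim ↥C = topologicalKrullDim X)
    (hchain : ∀ (y : X) (T : Set X), IsClosed T → IsIrreducible T → y ∈ T →
      topologicalKrullDim ↥T = topologicalKrullDim ↥(closure ({y} : Set X)) +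
        topologicalKrullDim ↥{t : X | t ∈ T ∧ t ⤳ y})
    (F : X.Modules) (hF : Coh.IsCoh F) (x : X) (hx : x ∈ CohB1.support F) :
    ((LocCoh.depth ↑(X.presheaf.stalk x) ↑(F.presheaf.stalk x) : ℕ∞) : WithBot ℕ∞) +
        topologicalKrullDim ↥(closure ({x} : Set X)) +
        projectiveDimension (ModuleCat.of ↑(X.presheaf.stalk x) ↑(F.presheaf.stalk x)) =
      topologicalKrullDim X := by
  haveI := hreg x
  haveI : IsDomain (X.presheaf.stalk x) :=
    Groth.Agent.Lib.helper15.isDomain_of_isRegularLocalRing _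
  haveI : Module.Finite (X.presheaf.stalk x) (F.presheaf.stalk x) :=
    Groth.Agent.Lib.helper16.CohStalk.finite_stalk_of_isCoh F hF x
  haveI : Nontrivial (F.presheaf.stalk x) := not_subsingleton_iff_nontrivial.mp hx
  obtain ⟨h, hh⟩ := Groth.Agent.Lib.Helper24.FibCod.exists_nat_ringKrullDim (X.presheaf.stalk x)
  have hh' : ringKrullDim (X.presheaf.stalk x) = (((h : ℕ∞)) : WithBot ℕ∞) := hh
  obtain ⟨k, hk, hkd⟩ := Groth.Agent.Lib.helper19.Falt.pd_add_depth (X.presheaf.stalk x)
    (F.presheaf.stalk x) (h : ℕ∞) hh'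
  have hT : irreducibleComponent x ∈ irreducibleComponents X :=
    irreducibleComponent_mem_irreducibleComponents x
  have hxT : x ∈ irreducibleComponent x := mem_irreducibleComponent
  have e1 := hcomp _ hT
  have e2 := hchain x _ (isClosed_of_mem_irreducibleComponents _ hT) hT.1 hxT
  rw [generizations_subset_component X x _ hT hxT, dim_generizations, hh] at e2
  rw [← e1, e2, hk]
  exact arith_aux hkd

end Groth.Agent.Lib.Helper24.RdReg
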