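import Mathlib
import Groth.Prelude.Def_EGA4b
import Groth.Agent.Lib.Helper24.RdReg1
import Groth.Agent.Lib.Helper16.CohFinite
import Groth.Agent.Lib.Helper26.DepthLoc3
import Groth.Agent.Lib.Helper24.FlatDepth5

/-!
# Rectified depth on regular biequidimensional schemes (helper24), part 2: lower semicontinuity

On a regular biequidimensional Noetherian scheme of finite dimension the rectified depth
`x ↦ depth F_x + dim cl{x}` of a coherent module is lower semicontinuous (EGA IV 10.8.x).
-/

set_option autoImplicit false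
universe u

namespace Groth.Agent.Lib.Helper24.RdReg

open AlgebraicGeometry CategoryTheory IsLocalRing LocCoh TopologicalSpace
  Groth.Agent.Lib.helper16.CohStalk

section dim

variable (X : Scheme.{u})
  (hreg : ∀ x : X, IsRegularLocalRing ↑(X.presheaf.stalk x))
  (hcomp : ∀ C ∈ irreducibleComponents (X : Type u),
    topologicalKrullDim ↥C = topologicalKrullDim X)
  (hchain : ∀ (y : X) (T : Set X), IsClosed T → IsIrreducible T → y ∈ T →
    topologicalKrullDim ↥T = topologicalKrullDim ↥(closure ({y} : Set X)) +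
      topologicalKrullDim ↥{t : X | t ∈ T ∧ t ⤳ y})

include hreg hcomp hchain in
/-- the dimension formula `dim cl{x} + dim O_x = dim X`. -/
theorem dim_closure_add_dim_stalk (x : X) :
    topologicalKrullDim ↥(closure ({x} : Set X)) + ringKrullDim (X.presheaf.stalk x) =
      topologicalKrullDim X := by
  haveI := hreg x
  haveI : IsDomain (X.presheaf.stalk x) :=
    Groth.Agent.Lib.helper15.isDomain_of_isRegularLocalRing _
  have hT : irreducibleComponent x ∈ irreducibleComponents X :=
    irreducibleComponent_mem_irreducibleComponents x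
  have hxT : x ∈ irreducibleComponent x := mem_irreducibleComponent
  have e1 := hcomp _ hT
  have e2 := hchain x _ (isClosed_of_mem_irreducibleComponents _ hT) hT.1 hxT
  rw [generizations_subset_component X x _ hT hxT, dim_generizations] at e2
  rw [← e1, e2]

end dim

section arith

/-- bookkeeping: the rectified depth condition through `dim O_x`. -/
theorem le_rdepth_iff {δ : ℕ∞} {c : WithBot ℕ∞} {h D n : ℕ}
    (hc : c + ((h : ℕ) : WithBot ℕ∞) = ((D : ℕ) : WithBot ℕ∞)) (hδ : δ ≠ ⊤ → δ ≤ (h : ℕ∞)) :
    ((n : ℕ) : WithBot ℕ∞) ≤ ((δ : ℕ∞) : WithBot ℕ∞) + c ↔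
      (δ = ⊤ ∨ (h : ℕ∞) < ((D + 1 - n : ℕ) : ℕ∞) + δ) := by
  -- `c` is a natural number
  obtain ⟨c', rfl⟩ : ∃ c' : ℕ, c = ((c' : ℕ) : WithBot ℕ∞) := by
    induction c using WithBot.recBotCoe with
    | bot =>
      exfalso
      rw [WithBot.bot_add] at hc
      exact WithBot.bot_ne_coe hc
    | coe c =>
      induction c using ENat.recTopCoe with
      | top =>
        exfalso
        have h1 : ((⊤ : ℕ∞) : WithBot ℕ∞) + ((h : ℕ) : WithBot ℕ∞) =
            (((⊤ : ℕ∞) + (h : ℕ∞) : ℕ∞) : WithBot ℕ∞) := rfl
        rw [h1, top_add] at hc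
        have h2 : ((D : ℕ) : WithBot ℕ∞) = (((D : ℕ∞)) : WithBot ℕ∞) := rfl
        rw [h2] at hc
        exact ENat.top_ne_natCast D (WithBot.coe_injective hc)
      | coe c' => exact ⟨c', rfl⟩
  have hcD : c' + h = D := by exact_mod_cast hc
  induction δ using ENat.recTopCoe with
  | top =>
    constructor
    · intro _; exact Or.inl rfl
    · intro _
      have h1 : (((⊤ : ℕ∞)) : WithBot ℕ∞) + ((c' : ℕ) : WithBot ℕ∞) =
          (((⊤ : ℕ∞) + (c' : ℕ∞) : ℕ∞) : WithBot ℕ∞) := rfl
      rw [h1, top_add]
      exact le_top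
  | coe d =>
    have hd : d ≤ h := by
      have := hδ (ENat.natCast_ne_top d)
      exact_mod_cast this
    constructor
    · intro hle
      right
      have h1 : n ≤ d + c' := by exact_mod_cast hle
      have h2 : h < (D + 1 - n) + d := by omega
      exact_mod_cast h2
    · rintro (htop | hlt)
      · exact absurd htop (ENat.natCast_ne_top d)
      · have h2 : h < (D + 1 - n) + d := by exact_mod_cast hlt
        have h1 : n ≤ d + c' := by omega
        exact_mod_cast h1

end arith

section chart

variable {X : Scheme.{u}} [IsNoetherian X]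
  (hreg : ∀ x : X, IsRegularLocalRing ↑(X.presheaf.stalk x))
  (hcomp : ∀ C ∈ irreducibleComponents (X : Type u),
    topologicalKrullDim ↥C = topologicalKrullDim X)
  (hchain : ∀ (y : X) (T : Set X), IsClosed T → IsIrreducible T → y ∈ T →
    topologicalKrullDim ↥T = topologicalKrullDim ↥(closure ({y} : Set X)) +
      topologicalKrullDim ↥{t : X | t ∈ T ∧ t ⤳ y})
  (F : X.Modules) (hF : Coh.IsCoh F) {U : X.Opens} (hU : IsAffineOpen U)

include hreg hcomp hchain hF in
/-- the chart: the rectified depth condition at `x ∈ U` through the projective dimension of the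
localization of `Γ(F, U)` at the prime of `x`. -/
theorem le_rdepth_iff_pdlt (D : ℕ) (hD : topologicalKrullDim X = ((D : ℕ) : WithBot ℕ∞))
    (n : ℕ) (x : X) (hx : x ∈ U) :
    ((n : ℕ) : WithBot ℕ∞) ≤
        ((depth ↑(X.presheaf.stalk x) ↑(F.presheaf.stalk x) : ℕ∞) : WithBot ℕ∞) +
          topologicalKrullDim ↥(closure ({x} : Set X)) ↔
      HasProjectiveDimensionLT
        (ModuleCat.of (Localization.AtPrime (hU.primeIdealOf ⟨x, hx⟩).asIdeal)
          (LocalizedModule (hU.primeIdealOf ⟨x, hx⟩).asIdeal.primeCompl Γ(F, U))) (D + 1 - n) := by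
  haveI : F.IsQuasicoherent := hF.1
  haveI : IsNoetherianRing Γ(X, U) := IsLocallyNoetherian.component_noetherian ⟨U, hU⟩
  haveI : Module.Finite Γ(X, U) Γ(F, U) :=
    Groth.Agent.Lib.helper16.CohFinite.finite_sections_of_isCoh F hF hU
  set q := (hU.primeIdealOf ⟨x, hx⟩).asIdeal with hq
  letI algBS : Algebra Γ(X, U) (X.presheaf.stalk x) :=
    TopCat.Presheaf.algebra_section_stalk X.presheaf (⟨x, hx⟩ : U)
  haveI : IsLocalization.AtPrime (X.presheaf.stalk x) q := hU.isLocalization_stalk ⟨x, hx⟩
  letI modBN : Module Γ(X, U) (F.presheaf.stalk x) := modStalk F x hx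
  haveI : IsScalarTower Γ(X, U) (X.presheaf.stalk x) (F.presheaf.stalk x) :=
    isScalarTower_stalk F x hx
  haveI : IsLocalizedModule q.primeCompl (germLin F x hx) := isLocalizedModule_stalk F hU x hx
  haveI := hreg x
  -- regularity of the localization
  let σ : X.presheaf.stalk x ≃ₐ[Γ(X, U)] Localization.AtPrime q :=
    IsLocalization.algEquiv q.primeCompl (X.presheaf.stalk x) (Localization.AtPrime q)
  haveI : IsRegularLocalRing (Localization.AtPrime q) :=
    IsRegularLocalRing.of_ringEquiv σ.toRingEquiv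
  -- transport of the invariants
  have hdepth : depth (X.presheaf.stalk x) (F.presheaf.stalk x) =
      depth (Localization.AtPrime q) (LocalizedModule q.primeCompl Γ(F, U)) :=
    Groth.Agent.Lib.helper26.Depth.depth_eq_of_isLocalizedModule q Γ(F, U) (X.presheaf.stalk x)
      (F.presheaf.stalk x) (germLin F x hx)
  have hdimring : ringKrullDim (X.presheaf.stalk x) = ringKrullDim (Localization.AtPrime q) :=
    ringKrullDim_eq_of_ringEquiv σ.toRingEquiv
  -- numbers
  obtain ⟨h, hh⟩ := Groth.Agent.Lib.Helper24.FibCod.exists_nat_ringKrullDim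
    (Localization.AtPrime q)
  have hheight : ((q.height : ℕ∞) : WithBot ℕ∞) = ((h : ℕ) : WithBot ℕ∞) := by
    rw [← hh]
    exact (IsLocalization.AtPrime.ringKrullDim_eq_height q (Localization.AtPrime q)).symm
  have hheight' : q.height = (h : ℕ∞) := by exact_mod_cast hheight
  have hc := dim_closure_add_dim_stalk X hreg hcomp hchain x
  rw [hdimring, hh, hD] at hc
  have hδ : depth (Localization.AtPrime q) (LocalizedModule q.primeCompl Γ(F, U)) ≠ ⊤ →
      depth (Localization.AtPrime q) (LocalizedModule q.primeCompl Γ(F, U)) ≤ (h : ℕ∞) := by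
    intro hne
    rcases subsingleton_or_nontrivial (LocalizedModule q.primeCompl Γ(F, U)) with hsub | hnt
    · exact absurd (Groth.Agent.Lib.Helper24.FlatDepth.idealDepth_of_subsingleton
        (Localization.AtPrime q) (maximalIdeal (Localization.AtPrime q))
        (LocalizedModule q.primeCompl Γ(F, U))) hne
    · have h1 := Groth.Agent.Lib.helper26.Depth.depth_le_supportDim
        (A := Localization.AtPrime q) (LocalizedModule q.primeCompl Γ(F, U))
      have h2 := Module.supportDim_le_ringKrullDim (Localization.AtPrime q)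
        (LocalizedModule q.primeCompl Γ(F, U))
      have h3 := h1.trans h2
      rw [hh] at h3
      exact_mod_cast h3
  rw [hdepth, le_rdepth_iff hc hδ, Groth.Agent.Lib.helper19.Falt.pdAt_lt_iff Γ(F, U) q (D + 1 - n),
    hheight']
  constructor
  · rintro (htop | hlt)
    · left
      by_contra hns
      rw [not_subsingleton_iff_nontrivial] at hns
      exact Groth.Agent.Lib.helper26.Depth.depth_ne_top (A := Localization.AtPrime q)
        (LocalizedModule q.primeCompl Γ(F, U)) htop
    · exact Or.inr hlt
  · rintro (hsub | hlt)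
    · left
      exact Groth.Agent.Lib.Helper24.FlatDepth.idealDepth_of_subsingleton
        (Localization.AtPrime q) (maximalIdeal (Localization.AtPrime q))
        (LocalizedModule q.primeCompl Γ(F, U))
    · exact Or.inr hlt

include hreg hcomp hchain hF in
/-- **EGA IV 10.8.x**: lower semicontinuity of the rectified depth on a regular biequidimensional
scheme. -/
theorem isOpen_setOf_le_rdepth (hfin : topologicalKrullDim X < ⊤) (n : ℕ) :
    IsOpen {x : X | ((n : ℕ) : WithBot ℕ∞) ≤
      ((depth ↑(X.presheaf.stalk x) ↑(F.presheaf.stalk x) : ℕ∞) : WithBot ℕ∞) +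
        topologicalKrullDim ↥(closure ({x} : Set X))} := by
  rw [isOpen_iff_forall_mem_open]
  intro x hx
  -- the dimension is a natural number
  obtain ⟨D, hD⟩ : ∃ D : ℕ, topologicalKrullDim X = ((D : ℕ) : WithBot ℕ∞) := by
    have hne : topologicalKrullDim X ≠ ⊥ := by
      haveI : Nonempty (IrreducibleCloseds X) :=
        ⟨⟨closure {x}, isIrreducible_singleton.closure, isClosed_closure⟩⟩
      exact Order.krullDim_ne_bot_iff.mpr inferInstance
    generalize topologicalKrullDim X = d at hfin hne
    induction d using WithBot.recBotCoe with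
    | bot => exact absurd rfl hne
    | coe d =>
      induction d using ENat.recTopCoe with
      | top => exact absurd hfin (lt_irrefl _)
      | coe D => exact ⟨D, rfl⟩
  obtain ⟨_, ⟨U, hU : IsAffineOpen U, rfl⟩, hxU, -⟩ :=
    X.isBasis_affineOpens.exists_subset_of_mem_open (Set.mem_univ x) isOpen_univ
  haveI : IsNoetherianRing Γ(X, U) := IsLocallyNoetherian.component_noetherian ⟨U, hU⟩
  haveI : Module.Finite Γ(X, U) Γ(F, U) :=
    Groth.Agent.Lib.helper16.CohFinite.finite_sections_of_isCoh F hF hU
  have hclosed := Groth.Agent.Lib.helper19.Falt.isClosed_setOf_not_pd_lt (R := Γ(X, U)) Γ(F, U)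
    (D + 1 - n)
  have key := le_rdepth_iff_pdlt hreg hcomp hchain F hF hU D hD n
  set L : Set (PrimeSpectrum Γ(X, U)) := {p | HasProjectiveDimensionLT
    (ModuleCat.of (Localization.AtPrime p.asIdeal)
      (LocalizedModule p.asIdeal.primeCompl Γ(F, U))) (D + 1 - n)} with hL
  have hopen : IsOpen L := by
    have : L = {p : PrimeSpectrum Γ(X, U) | ¬ HasProjectiveDimensionLT
        (ModuleCat.of (Localization.AtPrime p.asIdeal)
          (LocalizedModule p.asIdeal.primeCompl Γ(F, U))) (D + 1 - n)}ᶜ := by
      ext p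
      simp [hL]
    rw [this]
    exact hclosed.isOpen_compl
  refine ⟨hU.fromSpec '' L, ?_, hU.fromSpec.isOpenEmbedding.isOpenMap _ hopen, ?_⟩
  · rintro _ ⟨p, hp, rfl⟩
    have hyU : hU.fromSpec p ∈ U := by
      rw [← SetLike.mem_coe, ← hU.range_fromSpec]
      exact ⟨p, rfl⟩
    have hprime : hU.primeIdealOf ⟨hU.fromSpec p, hyU⟩ = p := by
      apply hU.fromSpec.isOpenEmbedding.injective
      rw [hU.fromSpec_primeIdealOf]
    refine (key _ hyU).mpr ?_
    rw [hprime]
    exact hp
  · refine ⟨hU.primeIdealOf ⟨x, hxU⟩, (key x hxU).mp hx, ?_⟩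
    rw [hU.fromSpec_primeIdealOf]

end chart

end Groth.Agent.Lib.Helper24.RdReg
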