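import Mathlib
import Groth.Prelude.Def_EGA4b
import Groth.Agent.Lib.Helper24.RedFib5
import Groth.Agent.Lib.Helper24.FormalEquidimLoc
import Groth.Agent.Lib.Helper24.AnUnram2
import Groth.Agent.Lib.Helper24.GeomReducedFinite

/-!
# Reduced fibres of flat local homomorphisms (helper24), part 6: EGA IV 7.5.1 for "reduced"
-/

set_option autoImplicit false
universe u
open TensorProduct IsLocalRing

namespace Groth.Agent.Lib.Helper24.RedFib

open Groth.Agent.Lib.Helper24.CplFlat

section

variable (A B : Type u) [CommRing A] [CommRing B]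
    [IsNoetherianRing A] [IsNoetherianRing B] [IsLocalRing A] [IsLocalRing B] [Algebra A B]
    [IsLocalHom (algebraMap A B)]

/-- finite over `Â` and killed by `𝔪` implies finite over `A`. -/
theorem finite_of_finite_cpl (k' : Type u) [Field k'] [Algebra A k']
    [Algebra (EGA4.Cpl A) k'] [IsScalarTower A (EGA4.Cpl A) k'] [Module.Finite (EGA4.Cpl A) k']
    (hI : ∀ a ∈ maximalIdeal A, algebraMap A k' a = 0) : Module.Finite A k' := by
  obtain ⟨S, hS⟩ := (Module.finite_def (R := EGA4.Cpl A) (M := k')).mp inferInstance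
  refine ⟨⟨S, ?_⟩⟩
  rw [eq_top_iff]
  rintro y -
  have hy : y ∈ Submodule.span (EGA4.Cpl A) (S : Set k') := by rw [hS]; trivial
  induction hy using Submodule.span_induction with
  | mem x hx => exact Submodule.subset_span hx
  | zero => exact Submodule.zero_mem _
  | add x y _ _ hx hy => exact Submodule.add_mem _ hx hy
  | smul r' x _ hx =>
    obtain ⟨a, ha⟩ := exists_sub_mem (maximalIdeal A) (maximalIdeal A).fg_of_isNoetherianRing 1 r'
    rw [pow_one] at ha
    have hker : (maximalIdeal A).map (algebraMap A (EGA4.Cpl A)) ≤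
        RingHom.ker (algebraMap (EGA4.Cpl A) k') := by
      rw [Ideal.map_le_iff_le_comap]
      intro a ha
      rw [Ideal.mem_comap, RingHom.mem_ker, ← IsScalarTower.algebraMap_apply]
      exact hI a ha
    have h0 : (r' - algebraMap A (EGA4.Cpl A) a) • x = 0 := by
      rw [Algebra.smul_def, (RingHom.mem_ker).mp (hker ha), zero_mul]
    have : r' • x = a • x := by
      rw [sub_smul, sub_eq_zero, algebraMap_smul] at h0
      exact h0
    rw [this]
    exact Submodule.smul_mem _ _ hx

variable [Module.Flat A B]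

/-- The closed fibre hypothesis for `Â → B̂`. -/
theorem H_cpl
    (h : Algebra.IsGeometricallyReduced (maximalIdeal A).ResidueField
      ((maximalIdeal A).Fiber (EGA4.Cpl B))) :
    letI : Algebra (EGA4.Cpl A) (EGA4.Cpl B) := (cplMap A B).toAlgebra
    H (EGA4.Cpl A) (EGA4.Cpl B) := by
  letI : Algebra (EGA4.Cpl A) (EGA4.Cpl B) := (cplMap A B).toAlgebra
  haveI : IsScalarTower A (EGA4.Cpl A) (EGA4.Cpl B) :=
    IsScalarTower.of_algebraMap_eq' (cplMap_comp_algebraMap A B).symm
  intro k' _ _ _
  letI : Algebra A k' := Algebra.compHom k' (algebraMap A (EGA4.Cpl A))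
  haveI : IsScalarTower A (EGA4.Cpl A) k' := IsScalarTower.of_algebraMap_eq' rfl
  -- the kernel of `Â → k'` is the maximal ideal
  have hkermax : (RingHom.ker (algebraMap (EGA4.Cpl A) k')).IsMaximal := by
    haveI : Algebra.IsIntegral (EGA4.Cpl A) k' := inferInstance
    have := Ideal.isMaximal_comap_of_isIntegral_of_isMaximal (R := EGA4.Cpl A) (S := k')
      (⊥ : Ideal k')
    exact this
  have hker : RingHom.ker (algebraMap (EGA4.Cpl A) k') = maximalIdeal (EGA4.Cpl A) :=
    IsLocalRing.eq_maximalIdeal hkermax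
  have hI : ∀ a ∈ maximalIdeal A, algebraMap A k' a = 0 := by
    intro a ha
    rw [IsScalarTower.algebraMap_apply A (EGA4.Cpl A) k', ← RingHom.mem_ker, hker]
    rw [mem_maximalIdeal, mem_nonunits_iff] at ha ⊢
    intro hu
    exact ha (isUnit_of_map_unit (algebraMap A (EGA4.Cpl A)) a hu)
  have hsurj : ∀ r' : EGA4.Cpl A, ∃ a : A, r' - algebraMap A (EGA4.Cpl A) a ∈
      (maximalIdeal A).map (algebraMap A (EGA4.Cpl A)) := by
    intro r'
    obtain ⟨a, ha⟩ := exists_sub_mem (maximalIdeal A) (maximalIdeal A).fg_of_isNoetherianRing 1 r'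
    rw [pow_one] at ha
    exact ⟨a, ha⟩
  refine isReduced_tensor_of_surj A (EGA4.Cpl A) (maximalIdeal A) hsurj k' hI (EGA4.Cpl B) ?_
  -- now over `A`
  haveI : Module.Finite A k' := finite_of_finite_cpl A k' hI
  have hf₁ : maximalIdeal A ≤ RingHom.ker (algebraMap A k') :=
    fun a ha => (RingHom.mem_ker).mpr (hI a ha)
  have hf₂ : (maximalIdeal A).primeCompl ≤ (IsUnit.submonoid k').comap (algebraMap A k') := by
    intro a ha
    have hu : IsUnit a := by
      by_contra hnu
      exact ha ((mem_maximalIdeal a).mpr hnu)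
    exact hu.map (algebraMap A k')
  let f : (maximalIdeal A).ResidueField →+* k' :=
    Ideal.ResidueField.lift (maximalIdeal A) (algebraMap A k') hf₁ hf₂
  letI : Algebra (maximalIdeal A).ResidueField k' := f.toAlgebra
  haveI : IsScalarTower A (maximalIdeal A).ResidueField k' :=
    IsScalarTower.of_algebraMap_eq' (by
      ext a
      exact (Ideal.ResidueField.lift_algebraMap (maximalIdeal A) (algebraMap A k') hf₁ hf₂ a).symm)
  haveI : Module.Finite (maximalIdeal A).ResidueField k' :=
    Module.Finite.of_restrictScalars_finite A _ _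
  haveI : Algebra.IsAlgebraic (maximalIdeal A).ResidueField k' := Algebra.IsAlgebraic.of_finite _ _
  haveI := h
  haveI : IsReduced (k' ⊗[(maximalIdeal A).ResidueField]
      ((maximalIdeal A).ResidueField ⊗[A] EGA4.Cpl B)) := inferInstance
  let e := Algebra.TensorProduct.cancelBaseChange A (maximalIdeal A).ResidueField
    (maximalIdeal A).ResidueField k' (EGA4.Cpl B)
  exact isReduced_of_injective e.symm.toRingEquiv e.symm.injective

/-- **EGA IV 7.5.1 for reducedness**: a flat local homomorphism `A → B` of Noetherian local rings,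
`A` with geometrically reduced formal fibres, the closed fibre of `B̂` geometrically reduced. Then
all fibres of `A → B` are geometrically reduced. -/
theorem geomReduced_fibres (hA : EGA4.HasGeomReducedFormalFibres A)
    (h : Algebra.IsGeometricallyReduced (maximalIdeal A).ResidueField
      ((maximalIdeal A).Fiber (EGA4.Cpl B)))
    (p : Ideal A) [p.IsPrime] : Algebra.IsGeometricallyReduced p.ResidueField (p.Fiber B) := by
  apply Groth.Agent.Lib.Helper24.GeomReducedFinite.isGeometricallyReduced_of_forall_finite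
  intro K _ _ hK
  haveI := hK
  letI : Algebra A K := Algebra.compHom K (algebraMap A p.ResidueField)
  haveI : IsScalarTower A p.ResidueField K := IsScalarTower.of_algebraMap_eq' rfl
  suffices hKB : IsReduced (K ⊗[A] B) by
    let e := Algebra.TensorProduct.cancelBaseChange A p.ResidueField p.ResidueField K B
    exact isReduced_of_injective e.toRingEquiv e.injective
  -- descent to `B̂`
  haveI : Module.FaithfullyFlat B (EGA4.Cpl B) := Module.FaithfullyFlat.of_flat_of_isLocalHom
  apply isReduced_of_faithfullyFlat_tensor A K B (EGA4.Cpl B)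
  -- a finite subalgebra with fraction field `K`
  letI : Algebra (A ⧸ p) K :=
    ((algebraMap p.ResidueField K).comp (algebraMap (A ⧸ p) p.ResidueField)).toAlgebra
  haveI : IsScalarTower (A ⧸ p) p.ResidueField K := IsScalarTower.of_algebraMap_eq' rfl
  haveI : IsScalarTower A (A ⧸ p) K := IsScalarTower.of_algebraMap_eq' (by
    ext a
    change algebraMap p.ResidueField K (algebraMap A p.ResidueField a) =
      algebraMap p.ResidueField K (algebraMap (A ⧸ p) p.ResidueField (algebraMap A (A ⧸ p) a))
    rw [← IsScalarTower.algebraMap_apply A (A ⧸ p) p.ResidueField])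
  haveI : IsDomain (A ⧸ p) := Ideal.Quotient.isDomain p
  haveI : FiniteDimensional p.ResidueField K := hK
  obtain ⟨C, hCfin, hCfrac⟩ :=
    Groth.Agent.Lib.Helper24.AnUnram.exists_finite_subalgebra (A ⧸ p) p.ResidueField K
  haveI := hCfin
  haveI := hCfrac
  haveI : Module.Finite A C := Module.Finite.trans (A ⧸ p) C
  apply isReduced_tensor_fractionRing A C K (EGA4.Cpl B)
  -- theorem R
  letI : Algebra (EGA4.Cpl A) (EGA4.Cpl B) := (cplMap A B).toAlgebra
  haveI : IsScalarTower A (EGA4.Cpl A) (EGA4.Cpl B) :=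
    IsScalarTower.of_algebraMap_eq' (cplMap_comp_algebraMap A B).symm
  haveI : IsNoetherianRing (EGA4.Cpl A) :=
    Groth.Agent.S0542.result A _ (maximalIdeal A).fg_of_isNoetherianRing
  haveI : IsNoetherianRing (EGA4.Cpl B) :=
    Groth.Agent.S0542.result B _ (maximalIdeal B).fg_of_isNoetherianRing
  haveI : IsAdicComplete (maximalIdeal (EGA4.Cpl A)) (EGA4.Cpl A) :=
    Groth.Agent.Lib.Helper24.FormalEquidimLoc.isAdicComplete_cpl A
  haveI : Module.Flat (EGA4.Cpl A) (EGA4.Cpl B) := flat_cplMap A B
  haveI : IsLocalHom (algebraMap (EGA4.Cpl A) (EGA4.Cpl B)) := isLocalHom_cplMap A B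
  have hJ : (maximalIdeal (EGA4.Cpl A)).map (algebraMap (EGA4.Cpl A) (EGA4.Cpl B)) ≤
      Ideal.jacobson ⊥ := by
    rw [IsLocalRing.jacobson_eq_maximalIdeal ⊥ bot_ne_top]
    exact IsLocalRing.map_maximalIdeal_le _
  refine isReduced_tensor_of_complete A (EGA4.Cpl A) (EGA4.Cpl B) C hJ (H_cpl A B h) ?_
  -- `Â ⊗ C` embeds into `Â ⊗ K`, which is reduced by the formal fibre hypothesis
  let ι : C →ₐ[A] K := IsScalarTower.toAlgHom A C K
  have hι : Function.Injective ι := fun x y hxy => Subtype.ext hxy
  let G : EGA4.Cpl A ⊗[A] C →ₐ[A] EGA4.Cpl A ⊗[A] K :=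
    Algebra.TensorProduct.map (AlgHom.id A _) ι
  have hG : Function.Injective G := by
    have := Module.Flat.lTensor_preserves_injective_linearMap (M := EGA4.Cpl A) ι.toLinearMap hι
    exact this
  haveI : Algebra.IsAlgebraic p.ResidueField K := Algebra.IsAlgebraic.of_finite _ _
  haveI := hA p
  haveI : IsReduced (K ⊗[p.ResidueField] (p.ResidueField ⊗[A] EGA4.Cpl A)) := inferInstance
  let e1 := Algebra.TensorProduct.comm A (EGA4.Cpl A) K
  let e2 := Algebra.TensorProduct.cancelBaseChange A p.ResidueField p.ResidueField K (EGA4.Cpl A)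
  let f : EGA4.Cpl A ⊗[A] C →+* K ⊗[p.ResidueField] (p.ResidueField ⊗[A] EGA4.Cpl A) :=
    (e2.symm.toRingEquiv.toRingHom.comp e1.toRingEquiv.toRingHom).comp G.toRingHom
  have hf : Function.Injective f := (e2.symm.injective.comp e1.injective).comp hG
  exact isReduced_of_injective f hf

end

end Groth.Agent.Lib.Helper24.RedFib
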