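import Groth.Agent.Lib.Helper24.RelAssBC1
import Groth.Agent.S2069

/-!
# Base change of the relative assassin (helper24), part 2: associated points of a flat pullback

* `maximalIdeal_mem_ass_tensor_iff`: for a flat local homomorphism `R → S` with `R` Noetherian and an
  `R`-module `M`: `𝔪_S ∈ Ass_S (S ⊗ M)` iff `𝔪_R ∈ Ass_R M` and `𝔪_S ∈ Ass_S (S / 𝔪_R S)`.
-/

set_option autoImplicit false
universe u

namespace Groth.Agent.Lib.Helper24.RelAssBC

open AlgebraicGeometry CategoryTheory IsLocalRing TensorProduct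

section alg

variable {R S : Type u} [CommRing R] [CommRing S] [Algebra R S]

/-- for a flat `R`-algebra `S`, a prime `p` of `R` and `r ∉ p`, multiplication by `r` is injective on
`S / pS`. -/
theorem isSMulRegular_quot_map_of_flat [Module.Flat R S] (p : Ideal R) [p.IsPrime] (r : R)
    (hr : r ∉ p) : IsSMulRegular (S ⧸ p.map (algebraMap R S)) (algebraMap R S r) := by
  let e : S ⊗[R] (R ⧸ p) ≃ₗ[S] (S ⧸ p.map (algebraMap R S)) := (p.qoutMapEquivTensorQout S).symm
  let f : (R ⧸ p) →ₗ[R] (S ⧸ p.map (algebraMap R S)) :=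
    (e.restrictScalars R).toLinearMap ∘ₗ (TensorProduct.mk R S (R ⧸ p) 1)
  have hf : IsBaseChange S f := IsBaseChange.of_equiv e (fun x => rfl)
  have reg : IsSMulRegular (R ⧸ p) r := by
    intro a b hab
    obtain ⟨a, rfl⟩ := Ideal.Quotient.mk_surjective a
    obtain ⟨b, rfl⟩ := Ideal.Quotient.mk_surjective b
    change r • Ideal.Quotient.mk p a = r • Ideal.Quotient.mk p b at hab
    rw [Algebra.smul_def, Algebra.smul_def, Ideal.Quotient.algebraMap_eq, ← map_mul, ← map_mul,
      Ideal.Quotient.eq, ← mul_sub] at hab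
    rw [Ideal.Quotient.eq]
    exact (Ideal.IsPrime.mem_or_mem inferInstance hab).resolve_left hr
  exact reg.of_flat_of_isBaseChange hf

variable [IsLocalRing R] [IsLocalRing S] [IsLocalHom (algebraMap R S)]

/-- if `𝔪_S` is associated to `S / pS` for a prime `p` of `R` and `S` is `R`-flat, then `p = 𝔪_R`. -/
theorem eq_maximalIdeal_of_mem_ass_quot [Module.Flat R S] (p : Ideal R) [p.IsPrime]
    (h : maximalIdeal S ∈ associatedPrimes S
      (S ⧸ p.map (algebraMap R S) • (⊤ : Submodule S S))) : p = maximalIdeal R := by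
  have hJ : p.map (algebraMap R S) • (⊤ : Submodule S S) = p.map (algebraMap R S) := by
    rw [smul_eq_mul, Ideal.mul_top]
  obtain ⟨-, ξ, hξ⟩ := h
  obtain ⟨s, rfl⟩ := Submodule.Quotient.mk_surjective _ ξ
  by_contra hne
  have hle : p ≤ maximalIdeal R := IsLocalRing.le_maximalIdeal (Ideal.IsPrime.ne_top inferInstance)
  obtain ⟨r, hrm, hrp⟩ : ∃ r ∈ maximalIdeal R, r ∉ p := by
    by_contra hcon
    push Not at hcon
    exact hne (le_antisymm hle hcon)
  have h1 : algebraMap R S r ∈ maximalIdeal S := by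
    rw [mem_maximalIdeal, mem_nonunits_iff]
    intro hu
    exact (mem_nonunits_iff.mp ((mem_maximalIdeal _).mp hrm)) (isUnit_of_map_unit (algebraMap R S) r hu)
  rw [hξ] at h1
  obtain ⟨n, hn⟩ := h1
  rw [Submodule.mem_colon_singleton, Submodule.mem_bot, ← map_pow, ← Submodule.Quotient.mk_smul,
    Submodule.Quotient.mk_eq_zero, hJ, smul_eq_mul] at hn
  have hreg := isSMulRegular_quot_map_of_flat (S := S) p (r ^ n)
    (fun h => hrp (Ideal.IsPrime.mem_of_pow_mem inferInstance n h))
  have h2 : (Ideal.Quotient.mk (p.map (algebraMap R S)) s) = 0 := by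
    apply hreg
    change algebraMap R S (r ^ n) • Ideal.Quotient.mk (p.map (algebraMap R S)) s =
      algebraMap R S (r ^ n) • 0
    rw [smul_zero]
    change Ideal.Quotient.mk (p.map (algebraMap R S)) (algebraMap R S (r ^ n)) *
      Ideal.Quotient.mk (p.map (algebraMap R S)) s = 0
    rw [← map_mul, Ideal.Quotient.eq_zero_iff_mem]
    exact hn
  rw [Ideal.Quotient.eq_zero_iff_mem] at h2
  have h3 : (Submodule.Quotient.mk s : S ⧸ p.map (algebraMap R S) • (⊤ : Submodule S S)) = 0 := by
    rw [Submodule.Quotient.mk_eq_zero, hJ]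
    exact h2
  rw [h3] at hξ
  have h4 : (1 : S) ∈ maximalIdeal S := by
    rw [hξ]
    refine Ideal.le_radical ?_
    rw [Submodule.mem_colon_singleton, smul_zero]
    exact (Submodule.mem_bot S).mpr rfl
  exact (Ideal.ne_top_iff_one _).mp (Ideal.IsPrime.ne_top inferInstance) h4

/-- **Associated primes of a flat base change, local form.** -/
theorem maximalIdeal_mem_ass_tensor_iff [IsNoetherianRing R] [Module.Flat R S] (M : Type u)
    [AddCommGroup M] [Module R M] :
    maximalIdeal S ∈ associatedPrimes S (S ⊗[R] M) ↔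
      maximalIdeal R ∈ associatedPrimes R M ∧
      maximalIdeal S ∈ associatedPrimes S
        (S ⧸ (maximalIdeal R).map (algebraMap R S) • (⊤ : Submodule S S)) := by
  rw [Groth.Agent.S2069.result (R := R) (S := S) (M := M) (N := S)]
  simp only [Set.mem_iUnion, exists_prop]
  constructor
  · rintro ⟨p, hp, h⟩
    haveI := hp.isPrime
    obtain rfl := eq_maximalIdeal_of_mem_ass_quot p h
    exact ⟨hp, h⟩
  · rintro ⟨h1, h2⟩
    exact ⟨_, h1, h2⟩

end alg

section lemmaF

open Groth.Agent.Lib.helper17.StalkPullback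

/-- **Lemma F**: associated points of the pullback of a quasi-coherent module along a morphism which
is flat at `z'`, over a Noetherian local ring. -/
theorem isAssPoint_pullback_iff_of_flat {Z' Z : Scheme.{u}} (π : Z' ⟶ Z) (G : Z.Modules)
    [G.IsQuasicoherent] (z' : Z') [IsNoetherianRing (Z.presheaf.stalk (π z'))]
    (hfl : (π.stalkMap z').hom.Flat) :
    Curv2.IsAssPoint ((Scheme.Modules.pullback π).obj G) z' ↔
      Curv2.IsAssPoint G (π z') ∧
      IsAssociatedPrime (maximalIdeal (Z'.presheaf.stalk z'))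
        (Z'.presheaf.stalk z' ⧸ (maximalIdeal (Z.presheaf.stalk (π z'))).map (π.stalkMap z').hom •
          (⊤ : Submodule (Z'.presheaf.stalk z') (Z'.presheaf.stalk z'))) := by
  letI alg : Algebra (Z.presheaf.stalk (π z')) (Z'.presheaf.stalk z') :=
    (π.stalkMap z').hom.toAlgebra
  letI m1 := FlatMod.moduleStalkOver π ((Scheme.Modules.pullback π).obj G) z'
  haveI := isScalarTower_moduleStalkOver π ((Scheme.Modules.pullback π).obj G) z'
  haveI : IsLocalHom (algebraMap (Z.presheaf.stalk (π z')) (Z'.presheaf.stalk z')) :=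
    inferInstanceAs (IsLocalHom (π.stalkMap z').hom)
  haveI : Module.Flat (Z.presheaf.stalk (π z')) (Z'.presheaf.stalk z') := hfl
  obtain ⟨ψ, hψ⟩ := exists_isBaseChange_stalk_pullback π G z'
  have h1 := LinearEquiv.AssociatedPrimes.eq hψ.equiv
  have h2 := maximalIdeal_mem_ass_tensor_iff (R := Z.presheaf.stalk (π z'))
    (S := Z'.presheaf.stalk z') (G.presheaf.stalk (π z'))
  rw [h1] at h2
  exact h2

end lemmaF

end Groth.Agent.Lib.Helper24.RelAssBC
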