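import Mathlib
import Groth.Agent.Lib.Helper24.HartogsProd
import Groth.Prelude.Def_FDesc
import Groth.Agent.Lib.Helper24.TensFlat3
import Groth.Agent.Lib.Helper24.RelAssBC2

/-!
# Reduced modules and field extensions (helper24), part 1: the fibres of `X ⊗_k K → X`

* `nonempty_fiber_iso`: the fibre of `X ⊗_k K → X` over `x` is `Spec (K ⊗_k κ(x))`.
-/

set_option autoImplicit false
universe u
open CategoryTheory CategoryTheory.Limits AlgebraicGeometry TopologicalSpace IsLocalRing
open TensorProduct

namespace Groth.Agent.Lib.Helper24.RedMod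

open Groth.Agent.Lib.Helper24.HartogsProd

section alg

variable {S : Type u} [CommRing S] [IsLocalRing S]

omit [IsLocalRing S] in
theorem smul_top_eq (I : Ideal S) : I • (⊤ : Submodule S S) = I := by
  rw [smul_eq_mul, Ideal.mul_top]

/-- a radical ideal `I` such that the maximal ideal is associated to `S / I` is the maximal ideal -/
theorem eq_maximalIdeal_of_isRadical [IsNoetherianRing S] (I : Ideal S) (hI : I.IsRadical)
    (h : IsAssociatedPrime (maximalIdeal S) (S ⧸ (I • (⊤ : Submodule S S)))) :
    I = maximalIdeal S := by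
  obtain ⟨hprime, m, hm⟩ := (isAssociatedPrime_iff).1 h
  obtain ⟨a, rfl⟩ := Submodule.Quotient.mk_surjective _ m
  have hmem : ∀ s : S, s ∈ maximalIdeal S ↔ s * a ∈ I := by
    intro s
    rw [hm, Submodule.mem_colon_singleton, ← Submodule.Quotient.mk_smul,
      Submodule.mem_bot, Submodule.Quotient.mk_eq_zero, smul_top_eq, smul_eq_mul]
  have ha : a ∉ maximalIdeal S := by
    intro ha
    have h1 : a * a ∈ I := (hmem a).mp ha
    have h2 : a ∈ I := hI ⟨2, by rw [pow_two]; exact h1⟩
    have h3 : (1 : S) ∈ maximalIdeal S := (hmem 1).mpr (by rw [one_mul]; exact h2)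
    exact (Ideal.ne_top_iff_one _).mp hprime.ne_top h3
  have hu : IsUnit a := by
    by_contra hna
    exact ha ((IsLocalRing.mem_maximalIdeal a).mpr hna)
  apply le_antisymm
  · apply IsLocalRing.le_maximalIdeal
    intro htop
    have h3 : (1 : S) ∈ maximalIdeal S := (hmem 1).mpr (by rw [htop]; trivial)
    exact (Ideal.ne_top_iff_one _).mp hprime.ne_top h3
  · intro s hs
    have h1 := (hmem s).mp hs
    obtain ⟨u, rfl⟩ := hu
    have : s = s * ↑u * ↑u⁻¹ := by rw [mul_assoc, Units.mul_inv, mul_one]
    rw [this]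
    exact I.mul_mem_right _ h1

theorem length_quot_eq_one_iff (I : Ideal S) :
    Module.length S (S ⧸ (I • (⊤ : Submodule S S))) = 1 ↔ I = maximalIdeal S := by
  rw [Module.length_eq_one_iff, isSimpleModule_iff_isCoatom, smul_top_eq]
  constructor
  · intro h
    exact IsLocalRing.eq_maximalIdeal (Ideal.isMaximal_def.mpr h)
  · rintro rfl
    exact Ideal.isMaximal_def.mp inferInstance

/-- zero-dimensional fibre: the maximal ideal is associated -/
theorem isAssociatedPrime_quot_of_forall_prime [IsNoetherianRing S] (I : Ideal S) (hI : I ≠ ⊤)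
    (h : ∀ q : Ideal S, q.IsPrime → I ≤ q → q = maximalIdeal S) :
    IsAssociatedPrime (maximalIdeal S) (S ⧸ (I • (⊤ : Submodule S S))) := by
  haveI : Nontrivial (S ⧸ (I • (⊤ : Submodule S S))) := by
    rw [Submodule.Quotient.nontrivial_iff, smul_top_eq]
    exact hI
  obtain ⟨q, hq⟩ := associatedPrimes.nonempty S (S ⧸ (I • (⊤ : Submodule S S)))
  have hq' : IsAssociatedPrime q (S ⧸ (I • (⊤ : Submodule S S))) := hq
  obtain ⟨hprime, m, hm⟩ := (isAssociatedPrime_iff).1 hq'
  have hle : I ≤ q := by
    intro i hi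
    obtain ⟨a, rfl⟩ := Submodule.Quotient.mk_surjective _ m
    rw [hm, Submodule.mem_colon_singleton, ← Submodule.Quotient.mk_smul,
      Submodule.mem_bot, Submodule.Quotient.mk_eq_zero, smul_top_eq, smul_eq_mul]
    exact I.mul_mem_right _ hi
  rw [← h q hprime hle]
  exact hq'

end alg

section fib

open Groth.Agent.Lib.helper17.FibreStalk

variable {X' X : Scheme.{u}} (π : X' ⟶ X)

/-- the ideal `m_{π z} O_z` -/
noncomputable abbrev fibIdeal (z : X') : Ideal (X'.presheaf.stalk z) :=
  (maximalIdeal (X.presheaf.stalk (π z))).map (π.stalkMap z).hom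

theorem fibIdeal_le (z : X') : fibIdeal π z ≤ maximalIdeal (X'.presheaf.stalk z) :=
  IsLocalRing.map_maximalIdeal_le (π.stalkMap z).hom

theorem fibIdeal_ne_top (z : X') : fibIdeal π z ≠ ⊤ := fun h =>
  (IsLocalRing.maximalIdeal.isMaximal _).ne_top (top_le_iff.mp (h ▸ fibIdeal_le π z))

/-- reduced fibre: `m_{π z} O_z` is radical -/
theorem isRadical_fibIdeal (z : X') [IsReduced (π.fiber (π z))] : (fibIdeal π z).IsRadical := by
  obtain ⟨e⟩ := nonempty_asFiber_stalk_equiv π z
  haveI : _root_.IsReduced (FibRing π z) := isReduced_of_injective e.toRingHom e.injective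
  exact (Ideal.isRadical_iff_quotient_reduced _).mpr this

/-- in a scheme with discrete topology all local rings have a unique prime -/
theorem eq_maximalIdeal_of_discreteTopology {W : Scheme.{u}} [DiscreteTopology W] (w : W)
    (p : Ideal (W.presheaf.stalk w)) [hp : p.IsPrime] : p = maximalIdeal (W.presheaf.stalk w) := by
  have h1 : W.fromSpecStalk w ⟨p, hp⟩ ∈ Set.range (W.fromSpecStalk w) := ⟨_, rfl⟩
  rw [Scheme.range_fromSpecStalk] at h1
  have h2 : W.fromSpecStalk w ⟨p, hp⟩ = w := (h1 : _ ⤳ w).eq
  have h3 : W.fromSpecStalk w ⟨p, hp⟩ =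
      W.fromSpecStalk w (IsLocalRing.closedPoint (W.presheaf.stalk w)) := by
    rw [h2, Scheme.fromSpecStalk_closedPoint]
  have h4 := (W.fromSpecStalk w).isEmbedding.injective h3
  exact congrArg PrimeSpectrum.asIdeal h4

/-- discrete fibre: the only prime containing `m_{π z} O_z` is the maximal ideal -/
theorem eq_maximalIdeal_of_fibIdeal_le (z : X') [DiscreteTopology (π.fiber (π z))]
    (q : Ideal (X'.presheaf.stalk z)) [hq : q.IsPrime] (h : fibIdeal π z ≤ q) :
    q = maximalIdeal (X'.presheaf.stalk z) := by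
  obtain ⟨e⟩ := nonempty_asFiber_stalk_equiv π z
  set ρ : X'.presheaf.stalk z →+* (π.fiber (π z)).presheaf.stalk (π.asFiber z) :=
    e.toRingHom.comp (Ideal.Quotient.mk (fibIdeal π z)) with hρ
  have hsurj : Function.Surjective ρ := e.surjective.comp Ideal.Quotient.mk_surjective
  have hker : RingHom.ker ρ = fibIdeal π z := by
    ext s
    rw [RingHom.mem_ker, hρ, RingHom.comp_apply]
    change e _ = 0 ↔ _
    rw [map_eq_zero_iff e e.injective, Ideal.Quotient.eq_zero_iff_mem]
  haveI : (q.map ρ).IsPrime := Ideal.map_isPrime_of_surjective hsurj (hker ▸ h)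
  have h1 := eq_maximalIdeal_of_discreteTopology (π.asFiber z) (q.map ρ)
  have h2 : (q.map ρ).comap ρ = q := by
    rw [Ideal.comap_map_of_surjective ρ hsurj, ← RingHom.ker_eq_comap_bot, hker]
    exact sup_eq_left.mpr h
  rw [h1] at h2
  rw [← h2]
  haveI : (Ideal.comap ρ (maximalIdeal _)).IsMaximal :=
    Ideal.comap_isMaximal_of_surjective ρ hsurj
  exact IsLocalRing.eq_maximalIdeal inferInstance

/-- if `m_{π z} O_z = m_z` for all `z` in the fibre, the fibre is reduced -/
theorem isReduced_fiber_of_forall (x : X)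
    (h : ∀ z : X', π z = x → fibIdeal π z = maximalIdeal (X'.presheaf.stalk z)) :
    IsReduced (π.fiber x) := by
  haveI : ∀ w : π.fiber x, _root_.IsReduced ((π.fiber x).presheaf.stalk w) := by
    intro w
    have e := fiberStalkEquiv π x w
    have hmem : π.fiberι x w ∈ π ⁻¹' {x} := by
      rw [← π.range_fiberι x]; exact ⟨w, rfl⟩
    have hz := h (π.fiberι x w) hmem
    haveI : _root_.IsReduced (FibRing π (π.fiberι x w)) := by
      rw [← Ideal.isRadical_iff_quotient_reduced]
      change (fibIdeal π (π.fiberι x w)).IsRadical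
      rw [hz]
      exact (IsLocalRing.maximalIdeal.isMaximal _).isPrime.isRadical
    exact isReduced_of_injective e.symm.toRingHom e.symm.injective
  exact isReduced_of_isReduced_stalk _

end fib

variable {k : Type u} [Field k] {X : Scheme.{u}} (f : X ⟶ Spec (CommRingCat.of k))

/-- the ring map `k → κ(x)` -/
theorem exists_residue_hom (x : X) :
    ∃ φ : k →+* X.residueField x,
      Spec.map (CommRingCat.ofHom φ) = X.fromSpecResidueField x ≫ f := by
  obtain ⟨ψ, hψ⟩ := Spec.map_surjective (X.fromSpecResidueField x ≫ f)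
  exact ⟨ψ.hom, hψ⟩

theorem nonempty_fiber_iso (K : Type u) [Field K] [Algebra k K] (x : X)
    (φ : k →+* X.residueField x)
    (hφ : Spec.map (CommRingCat.ofHom φ) = X.fromSpecResidueField x ≫ f) :
    letI := φ.toAlgebra
    Nonempty ((FBase.bcπ f K).fiber x ≅ Spec (CommRingCat.of (K ⊗[k] X.residueField x))) := by
  letI := φ.toAlgebra
  have h1 := isPullback_fiber f (Spec.map (CommRingCat.ofHom (algebraMap k K))) x
  rw [← hφ] at h1
  exact ⟨h1.isoPullback ≪≫ (pullbackSpecIso k K (X.residueField x))⟩

section fibk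

variable (K : Type u) [Field K] [Algebra k K] (x : X) (φ : k →+* X.residueField x)
  (hφ : Spec.map (CommRingCat.ofHom φ) = X.fromSpecResidueField x ≫ f)

include hφ

theorem isReduced_fiber_of_isReduced_tensor
    (h : letI := φ.toAlgebra; _root_.IsReduced (K ⊗[k] X.residueField x)) :
    IsReduced ((FBase.bcπ f K).fiber x) := by
  letI := φ.toAlgebra
  obtain ⟨e⟩ := nonempty_fiber_iso f K x φ hφ
  haveI : _root_.IsReduced (K ⊗[k] X.residueField x) := h
  haveI : IsReduced (Spec (CommRingCat.of (K ⊗[k] X.residueField x))) :=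
    (affine_isReduced_iff _).mpr h
  exact isReduced_of_isOpenImmersion e.hom

theorem isReduced_tensor_of_isReduced_fiber (h : IsReduced ((FBase.bcπ f K).fiber x)) :
    letI := φ.toAlgebra; _root_.IsReduced (K ⊗[k] X.residueField x) := by
  letI := φ.toAlgebra
  obtain ⟨e⟩ := nonempty_fiber_iso f K x φ hφ
  haveI : IsReduced (Spec (CommRingCat.of (K ⊗[k] X.residueField x))) :=
    isReduced_of_isOpenImmersion e.inv
  exact (affine_isReduced_iff (CommRingCat.of (K ⊗[k] X.residueField x))).mp inferInstance

theorem discreteTopology_fiber_of_finite [Module.Finite k K] :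
    DiscreteTopology ((FBase.bcπ f K).fiber x) := by
  letI := φ.toAlgebra
  obtain ⟨e⟩ := nonempty_fiber_iso f K x φ hφ
  haveI : IsArtinianRing (X.residueField x ⊗[k] K) :=
    IsArtinianRing.of_finite (X.residueField x) _
  haveI : IsArtinianRing (K ⊗[k] X.residueField x) :=
    (Algebra.TensorProduct.comm k (X.residueField x) K).toRingEquiv.isArtinianRing
  haveI : IsArtinianRing (CommRingCat.of (K ⊗[k] X.residueField x)) := ‹_›
  haveI : DiscreteTopology (Spec (CommRingCat.of (K ⊗[k] X.residueField x))) := inferInstance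
  exact DiscreteTopology.of_continuous_injective e.hom.continuous
    e.hom.isOpenEmbedding.injective

end fibk

end Groth.Agent.Lib.Helper24.RedMod
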