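import Mathlib
import Groth.Agent.Lib.Helper24.GeomFG3
import Groth.Agent.Lib.Helper24.SmoothReduced

/-!
# Reduced modules and field extensions (helper24), part 2: separability of a field extension

* `geomStable_isReduced`.
* `isReduced_tensor_of_forall_pi`: if `l ⊗[k] L` is reduced for all finite purely inseparable `l/k`
  then `K ⊗[k] L` is reduced for every field extension `K/k`.
-/

set_option autoImplicit false
universe u
open TensorProduct

namespace Groth.Agent.Lib.Helper24.RedMod

open Groth.Agent.Lib.Helper24.GeomFG

theorem geomStable_isReduced : GeomStable (fun R _ => IsReduced R) where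
  iso := fun R R' _ _ e h => by
    haveI := h
    exact isReduced_of_injective e.symm.toRingHom e.symm.injective
  loc := fun R R' _ _ _ M _ h => by
    haveI := h
    exact isReduced_localizationPreserves M R' h
  smooth := fun A B _ _ _ _ h => by
    haveI := h
    exact Groth.Agent.Lib.Helper24.SmoothReduced.isReduced_of_smooth A B
  desc := fun A B _ _ _ _ h => by
    haveI := h
    exact isReduced_of_injective (algebraMap A B) (FaithfulSMul.algebraMap_injective A B)

theorem isReduced_tensor_of_forall_pi (k L : Type u) [Field k] [Field L] [Algebra k L]
    (h : ∀ (l : Type u) [Field l] [Algebra k l], Module.Finite k l → IsPurelyInseparable k l →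
      IsReduced (l ⊗[k] L)) (K : Type u) [Field K] [Algebra k K] : IsReduced (K ⊗[k] L) := by
  have hfg : ∀ (K' : Type u) [Field K'] [Algebra k K'] [Algebra.EssFiniteType k K'],
      IsReduced (K' ⊗[k] L) := fun K' _ _ _ => of_fg geomStable_isReduced k L h K'
  suffices hs : IsReduced (L ⊗[k] K) by
    haveI := hs
    exact isReduced_of_injective (Algebra.TensorProduct.comm k K L).toRingEquiv.toRingHom
      (Algebra.TensorProduct.comm k K L).injective
  apply IsReduced.tensorProduct_of_flat_of_forall_fg
  intro B hB
  haveI : Algebra.FiniteType k B := (Subalgebra.fg_iff_finiteType B).mp hB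
  haveI : Algebra.EssFiniteType k (FractionRing B) :=
    Algebra.EssFiniteType.comp k B (FractionRing B)
  haveI : IsReduced (FractionRing B ⊗[k] L) := hfg (FractionRing B)
  haveI : IsReduced (L ⊗[k] FractionRing B) :=
    isReduced_of_injective (Algebra.TensorProduct.comm k L (FractionRing B)).toRingEquiv.toRingHom
      (Algebra.TensorProduct.comm k L (FractionRing B)).injective
  refine isReduced_of_injective
    (Algebra.TensorProduct.map (AlgHom.id k L) (IsScalarTower.toAlgHom k B (FractionRing B))) ?_
  exact Module.Flat.lTensor_preserves_injective_linearMap
    (IsScalarTower.toAlgHom k B (FractionRing B)).toLinearMap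
    (IsFractionRing.injective B (FractionRing B))

end Groth.Agent.Lib.Helper24.RedMod
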