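import Mathlib
import Groth.Agent.Lib.Helper24.RedMod1
import Groth.Agent.Lib.Helper24.RedMod2
import Groth.Agent.Lib.Helper2.DepthPull

/-!
# Reduced modules and field extensions (helper24), part 3: EGA IV 4.6.?? for modules

`F` coherent on a locally Noetherian `k`-scheme `X`: if `F ⊗_k k'` is a reduced module for every
finite purely inseparable `k'/k`, then `F ⊗_k K` is a reduced module for every field extension `K/k`
with `X ⊗_k K` locally Noetherian.
-/

set_option autoImplicit false
universe u
open CategoryTheory CategoryTheory.Limits AlgebraicGeometry TopologicalSpace IsLocalRing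
open TensorProduct

namespace Groth.Agent.Lib.Helper24.RedMod

open Groth.Agent.Lib.Helper24.HartogsProd Groth.Agent.Lib.helper17.StalkPullback
  Groth.Agent.Lib.Helper24.RelAssBC Groth.Agent.Lib.Helper24.TensFlat

section general

variable {X' X : Scheme.{u}} (π : X' ⟶ X) [Flat π] [IsLocallyNoetherian X]
  [IsLocallyNoetherian X'] (F : X.Modules) [F.IsQuasicoherent]

/-- associated points of a flat pullback -/
theorem mem_ass_pullback_iff (z : X') :
    z ∈ AssSch.Ass ((Scheme.Modules.pullback π).obj F) ↔
      π z ∈ AssSch.Ass F ∧ IsAssociatedPrime (maximalIdeal (X'.presheaf.stalk z))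
        (X'.presheaf.stalk z ⧸ (fibIdeal π z • (⊤ : Submodule (X'.presheaf.stalk z)
          (X'.presheaf.stalk z)))) :=
  isAssPoint_pullback_iff_of_flat π F z (Flat.stalkMap π z)

/-- length one of the stalk of a flat pullback -/
theorem length_stalk_pullback_eq_one_iff (z : X') :
    Module.length (X'.presheaf.stalk z)
        (((Scheme.Modules.pullback π).obj F).presheaf.stalk z) = 1 ↔
      Module.length (X.presheaf.stalk (π z)) (F.presheaf.stalk (π z)) = 1 ∧
        fibIdeal π z = maximalIdeal (X'.presheaf.stalk z) := by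
  letI := (π.stalkMap z).hom.toAlgebra
  letI := FlatMod.moduleStalkOver π ((Scheme.Modules.pullback π).obj F) z
  haveI := isScalarTower_moduleStalkOver π ((Scheme.Modules.pullback π).obj F) z
  obtain ⟨ψ, hψ⟩ := exists_isBaseChange_stalk_pullback π F z
  haveI : Module.Flat (X.presheaf.stalk (π z)) (X'.presheaf.stalk z) := Flat.stalkMap π z
  haveI : IsLocalHom (algebraMap (X.presheaf.stalk (π z)) (X'.presheaf.stalk z)) :=
    inferInstanceAs (IsLocalHom (π.stalkMap z).hom)
  haveI : Module.FaithfullyFlat (X.presheaf.stalk (π z)) (X'.presheaf.stalk z) :=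
    faithfullyFlat_of_local (S := X'.presheaf.stalk z)
  rw [← hψ.equiv.length_eq, length_tensor_eq_one_iff (R := X.presheaf.stalk (π z))
    (S := X'.presheaf.stalk z) (N := X'.presheaf.stalk z) (F.presheaf.stalk (π z))]
  exact and_congr_right fun _ => length_quot_eq_one_iff (fibIdeal π z)

end general

section main

variable {k : Type u} [Field k] {X : Scheme.{u}} [IsLocallyNoetherian X]
  (f : X ⟶ Spec (CommRingCat.of k)) (F : X.Modules) [F.IsQuasicoherent]

instance flat_bcπ (K : Type u) [Field K] [Algebra k K] : Flat (FBase.bcπ f K) :=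
  inferInstanceAs (Flat (pullback.fst f (Spec.map (CommRingCat.ofHom (algebraMap k K)))))

instance surjective_bcπ (K : Type u) [Field K] [Algebra k K] : Surjective (FBase.bcπ f K) :=
  inferInstanceAs (Surjective (pullback.fst f (Spec.map (CommRingCat.ofHom (algebraMap k K)))))

theorem isLocallyNoetherian_bc_of_finite (k' : Type u) [Field k'] [Algebra k k']
    [Module.Finite k k'] : IsLocallyNoetherian (FBase.bc f k') := by
  haveI : LocallyOfFiniteType (Spec.map (CommRingCat.ofHom (algebraMap k k'))) := by
    rw [HasRingHomProperty.Spec_iff (P := @LocallyOfFiniteType)]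
    exact RingHom.finiteType_algebraMap.mpr inferInstance
  haveI : LocallyOfFiniteType (FBase.bcπ f k') :=
    inferInstanceAs (LocallyOfFiniteType
      (pullback.fst f (Spec.map (CommRingCat.ofHom (algebraMap k k')))))
  exact LocallyOfFiniteType.isLocallyNoetherian (FBase.bcπ f k')

/-- finite extension: every point over an associated point of `F` is associated to the pullback;
if the pullback is reduced, the fibre ideal is maximal and `F_x` has length one. -/
theorem step1 (k' : Type u) [Field k'] [Algebra k k'] [Module.Finite k k']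
    (z : ↑(FBase.bc f k')) (hx : FBase.bcπ f k' z ∈ AssSch.Ass F) :
    z ∈ AssSch.Ass ((Scheme.Modules.pullback (FBase.bcπ f k')).obj F) := by
  haveI := isLocallyNoetherian_bc_of_finite f k'
  obtain ⟨φ, hφ⟩ := exists_residue_hom f (FBase.bcπ f k' z)
  haveI := discreteTopology_fiber_of_finite f k' (FBase.bcπ f k' z) φ hφ
  have hA := isAssociatedPrime_quot_of_forall_prime (fibIdeal (FBase.bcπ f k') z)
    (fibIdeal_ne_top _ z) (fun q hq hle => by
      haveI := hq
      exact eq_maximalIdeal_of_fibIdeal_le (FBase.bcπ f k') z q hle)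
  exact (mem_ass_pullback_iff (FBase.bcπ f k') F z).mpr ⟨hx, hA⟩

theorem step1' (k' : Type u) [Field k'] [Algebra k k'] [Module.Finite k k']
    (H : AssSch.IsReducedMod ((Scheme.Modules.pullback (FBase.bcπ f k')).obj F))
    (z : ↑(FBase.bc f k')) (hx : FBase.bcπ f k' z ∈ AssSch.Ass F) :
    Module.length (X.presheaf.stalk (FBase.bcπ f k' z)) (F.presheaf.stalk (FBase.bcπ f k' z)) = 1 ∧
      fibIdeal (FBase.bcπ f k') z = maximalIdeal ((FBase.bc f k').presheaf.stalk z) := by
  haveI := isLocallyNoetherian_bc_of_finite f k'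
  exact (length_stalk_pullback_eq_one_iff (FBase.bcπ f k') F z).mp (H.2 z (step1 f F k' z hx))

variable (H : ∀ (k' : Type u) [Field k'] [Algebra k k'] [FiniteDimensional k k']
    [IsPurelyInseparable k k'],
    AssSch.IsReducedMod ((Scheme.Modules.pullback (FBase.bcπ f k')).obj F))

include H

theorem length_eq_one_of_mem_ass (x : X) (hx : x ∈ AssSch.Ass F) :
    Module.length (X.presheaf.stalk x) (F.presheaf.stalk x) = 1 := by
  obtain ⟨z, rfl⟩ := (FBase.bcπ f k).surjective x
  exact (step1' f F k (H k) z hx).1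

theorem noEmbedded_of_forall : AssSch.NoEmbedded F := by
  intro x hx y hy hyx
  obtain ⟨z, rfl⟩ := (FBase.bcπ f k).surjective x
  obtain ⟨z', hz'z, rfl, -⟩ :=
    Groth.Agent.Lib.helper2.DepthPull.exists_lift_generization (FBase.bcπ f k) z y hyx
  have h1 := step1 f F k z hx
  have h2 := step1 f F k z' hy
  rw [(H k).1 z h1 z' h2 hz'z]

theorem isReduced_tensor_of_mem_ass (x : X) (hx : x ∈ AssSch.Ass F) (φ : k →+* X.residueField x)
    (hφ : Spec.map (CommRingCat.ofHom φ) = X.fromSpecResidueField x ≫ f)
    (K : Type u) [Field K] [Algebra k K] :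
    letI := φ.toAlgebra; _root_.IsReduced (K ⊗[k] X.residueField x) := by
  letI := φ.toAlgebra
  refine isReduced_tensor_of_forall_pi k (X.residueField x) ?_ K
  intro l _ _ hfin hpi
  haveI := hfin
  haveI := hpi
  refine isReduced_tensor_of_isReduced_fiber f l x φ hφ ?_
  refine isReduced_fiber_of_forall (FBase.bcπ f l) x ?_
  rintro z rfl
  exact (step1' f F l (H l) z hx).2

theorem isReducedMod_pullback (K : Type u) [Field K] [Algebra k K]
    [IsLocallyNoetherian (FBase.bc f K)] :
    AssSch.IsReducedMod ((Scheme.Modules.pullback (FBase.bcπ f K)).obj F) := by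
  -- the key fact: at an associated point the fibre ideal is maximal
  have key : ∀ z : ↑(FBase.bc f K),
      z ∈ AssSch.Ass ((Scheme.Modules.pullback (FBase.bcπ f K)).obj F) →
      FBase.bcπ f K z ∈ AssSch.Ass F ∧
      fibIdeal (FBase.bcπ f K) z = maximalIdeal ((FBase.bc f K).presheaf.stalk z) := by
    intro z hz
    obtain ⟨hx, hA⟩ := (mem_ass_pullback_iff (FBase.bcπ f K) F z).mp hz
    refine ⟨hx, ?_⟩
    obtain ⟨φ, hφ⟩ := exists_residue_hom f (FBase.bcπ f K z)
    haveI : IsReduced ((FBase.bcπ f K).fiber (FBase.bcπ f K z)) :=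
      isReduced_fiber_of_isReduced_tensor f K _ φ hφ
        (isReduced_tensor_of_mem_ass f F H _ hx φ hφ K)
    exact eq_maximalIdeal_of_isRadical _ (isRadical_fibIdeal (FBase.bcπ f K) z) hA
  constructor
  · intro z hz z' hz' hz'z
    obtain ⟨hx, hI⟩ := key z hz
    obtain ⟨hx', -⟩ := key z' hz'
    have hxx : FBase.bcπ f K z = FBase.bcπ f K z' :=
      noEmbedded_of_forall f F H _ hx _ hx' (hz'z.map (FBase.bcπ f K).continuous)
    -- `z'` is a generization of `z` in the same fibre
    have hr : z' ∈ Set.range ((FBase.bc f K).fromSpecStalk z) := by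
      rw [Scheme.range_fromSpecStalk]; exact hz'z
    obtain ⟨q, hq⟩ := hr
    have hcomp := Scheme.SpecMap_stalkMap_fromSpecStalk (FBase.bcπ f K) (x := z)
    have h1 : X.fromSpecStalk (FBase.bcπ f K z)
        (Spec.map ((FBase.bcπ f K).stalkMap z) q) = FBase.bcπ f K z' := by
      rw [← hq]
      exact congrArg (fun g : Spec ((FBase.bc f K).presheaf.stalk z) ⟶ X => g q) hcomp
    rw [← hxx] at h1
    have h2 : X.fromSpecStalk (FBase.bcπ f K z) (Spec.map ((FBase.bcπ f K).stalkMap z) q) =
        X.fromSpecStalk (FBase.bcπ f K z) (IsLocalRing.closedPoint _) := by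
      rw [h1, Scheme.fromSpecStalk_closedPoint]
    have h3 := (X.fromSpecStalk (FBase.bcπ f K z)).isEmbedding.injective h2
    have h4 : fibIdeal (FBase.bcπ f K) z ≤ q.asIdeal := by
      rw [Ideal.map_le_iff_le_comap]
      have h5 := congrArg PrimeSpectrum.asIdeal h3
      exact h5.ge
    rw [hI] at h4
    have h6 : q = IsLocalRing.closedPoint _ :=
      PrimeSpectrum.ext ((IsLocalRing.maximalIdeal.isMaximal _).eq_of_le q.isPrime.ne_top h4).symm
    rw [← hq, h6, Scheme.fromSpecStalk_closedPoint]
  · intro z hz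
    obtain ⟨hx, hI⟩ := key z hz
    exact (length_stalk_pullback_eq_one_iff (FBase.bcπ f K) F z).mpr
      ⟨length_eq_one_of_mem_ass f F H _ hx, hI⟩

end main

end Groth.Agent.Lib.Helper24.RedMod
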