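import Mathlib
import Groth.Agent.Lib.Helper24.RedMod3
import Groth.Agent.Lib.Helper24.AssTens4
import Groth.Agent.Lib.Helper24.NoethFib

/-!
# Reduced modules and field extensions (helper24), part 4: tensor products over a field

`F` geometrically reduced coherent on `X`, `G` reduced coherent on `Y`: `F ⊗_k G` is reduced on
`X ×_k Y` (length part).
-/

set_option autoImplicit false
universe u
open CategoryTheory CategoryTheory.Limits AlgebraicGeometry TopologicalSpace IsLocalRing
open TensorProduct

namespace Groth.Agent.Lib.Helper24.RedMod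

open Groth.Agent.Lib.Helper24.HartogsProd Groth.Agent.Lib.helper17.StalkPullback
  Groth.Agent.Lib.Helper24.RelAssBC Groth.Agent.Lib.Helper24.TensFlat
  Groth.Agent.Lib.Helper24.AssTens

section field

variable {k : Type u} [Field k]

theorem maximalIdeal_stalk_spec_field (s : ↑(Spec (CommRingCat.of k))) :
    maximalIdeal ((Spec (CommRingCat.of k)).presheaf.stalk s) = ⊥ := by
  haveI : (⊥ : Ideal ((Spec (CommRingCat.of k)).presheaf.stalk s)).IsPrime := Ideal.isPrime_bot
  exact (eq_maximalIdeal_of_discreteTopology s ⊥).symm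

theorem mem_ass_structureModule_spec_field (s : ↑(Spec (CommRingCat.of k))) :
    s ∈ AssSch.Ass (Coh.structureModule (Spec (CommRingCat.of k))) := by
  change Curv2.IsAssPoint _ s
  rw [isAssPoint_structureModule_iff, maximalIdeal_stalk_spec_field s]
  refine (isAssociatedPrime_iff).2 ⟨Ideal.isPrime_bot, 1, ?_⟩
  ext a
  rw [Submodule.mem_colon_singleton, Submodule.mem_bot, Ideal.mem_bot, smul_eq_mul, mul_one]

theorem isFlatOver_field {Y : Scheme.{u}} (g : Y ⟶ Spec (CommRingCat.of k)) (G : Y.Modules) :
    FlatMod.IsFlatOver g G := by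
  intro y
  unfold FlatMod.IsFlatOverAt
  letI := FlatMod.moduleStalkOver g G y
  have hf : IsField ((Spec (CommRingCat.of k)).presheaf.stalk (g.base y)) :=
    IsLocalRing.isField_iff_maximalIdeal_eq.mpr (maximalIdeal_stalk_spec_field _)
  letI := hf.toField
  infer_instance

end field

section fibsq

variable {k : Type u} [Field k]

/-- fibres of a base change of `Spec L → Spec k` along `g : Y → Spec k` -/
theorem isReduced_fiber_of_isPullback {W Y : Scheme.{u}} {L : Type u} [Field L] (φ : k →+* L)
    {ρ : W ⟶ Y} {σ : W ⟶ Spec (CommRingCat.of L)} {g : Y ⟶ Spec (CommRingCat.of k)}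
    (sq : IsPullback ρ σ g (Spec.map (CommRingCat.ofHom φ))) (y : Y)
    (ψ : k →+* Y.residueField y)
    (hψ : Spec.map (CommRingCat.ofHom ψ) = Y.fromSpecResidueField y ≫ g)
    (hred : letI := φ.toAlgebra; letI := ψ.toAlgebra;
      _root_.IsReduced (Y.residueField y ⊗[k] L)) :
    IsReduced (ρ.fiber y) := by
  letI := φ.toAlgebra
  letI := ψ.toAlgebra
  have h1 := (IsPullback.of_hasPullback ρ (Y.fromSpecResidueField y)).paste_horiz sq.flip
  rw [← hψ] at h1
  have e : ρ.fiber y ≅ Spec (CommRingCat.of (Y.residueField y ⊗[k] L)) :=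
    h1.flip.isoPullback ≪≫ pullbackSpecIso k (Y.residueField y) L
  haveI : _root_.IsReduced (Y.residueField y ⊗[k] L) := hred
  haveI : IsReduced (Spec (CommRingCat.of (Y.residueField y ⊗[k] L))) :=
    (affine_isReduced_iff _).mpr hred
  exact isReduced_of_isOpenImmersion e.hom

end fibsq

section main

variable {k : Type u} [Field k] {X Y : Scheme.{u}} [IsLocallyNoetherian X] [IsLocallyNoetherian Y]
  (f : X ⟶ Spec (CommRingCat.of k)) (g : Y ⟶ Spec (CommRingCat.of k))
  [IsLocallyNoetherian (pullback f g)] (F : X.Modules) [F.IsQuasicoherent] (G : Y.Modules)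
  [G.IsQuasicoherent]

/-- the length part, in terms of a point of the fibre of `X ×_k Y → X` -/
theorem length_tensS_fiberι (hG : Coh.IsCoh G)
    (H : ∀ (k' : Type u) [Field k'] [Algebra k k'] [FiniteDimensional k k']
      [IsPurelyInseparable k k'],
      AssSch.IsReducedMod ((Scheme.Modules.pullback (FBase.bcπ f k')).obj F))
    (hGr : AssSch.IsReducedMod G) (x : X) (w : (pullback.fst f g).fiber x)
    (hw : (pullback.fst f g).fiberι x w ∈ AssSch.Ass (tensS f g F G)) :
    Module.length ((pullback f g).presheaf.stalk ((pullback.fst f g).fiberι x w))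
      ((tensS f g F G).presheaf.stalk ((pullback.fst f g).fiberι x w)) = 1 := by
  have hGfl : FlatMod.IsFlatOver g G := isFlatOver_field g G
  have hc : IsPullback (pullback.fst f g) (pullback.snd f g) f g := IsPullback.of_hasPullback f g
  obtain ⟨hx, hy, hw'⟩ := (fiberι_mem_ass_tensS_iff f g F G hGfl x w).mp hw
  set z := (pullback.fst f g).fiberι x w with hz
  have hpz : pullback.fst f g z = x := by
    have h : z ∈ Set.range ((pullback.fst f g).fiberι x) := ⟨w, rfl⟩
    rw [Scheme.Hom.range_fiberι] at h
    exact h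
  -- `y ∈ Ass G`
  have hyA : pullback.snd f g z ∈ AssSch.Ass G :=
    (isAssPoint_iff_of_isFlatOver g G _ (hGfl _)).mpr ⟨mem_ass_structureModule_spec_field _, hy⟩
  have hlenG := hGr.2 _ hyA
  -- the module `q^* G`
  have hQc : Coh.IsCoh ((Scheme.Modules.pullback (pullback.snd f g)).obj G) :=
    ⟨Groth.Agent.Lib.helper16.QCohPullback.isQuasicoherent_pullback _ G,
      Groth.Agent.Lib.helper16.QCohPullback2.isFiniteType_pullback _ G hG.2⟩
  haveI : ((Scheme.Modules.pullback (pullback.snd f g)).obj G).IsQuasicoherent := hQc.1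
  have hfl : FlatMod.IsFlatOverAt (pullback.fst f g)
      ((Scheme.Modules.pullback (pullback.snd f g)).obj G) z :=
    (Groth.Agent.Lib.helper17.FlatOver6.isFlatOverAt_baseChange_both hc.flip G z).1 (hGfl _)
  -- the fibre `W` and `ρ : W → Y`
  haveI : IsLocallyNoetherian ((pullback.fst f g).fiber x) :=
    Groth.Agent.Lib.Helper24.NoethFib.isLocallyNoetherian_fiber_of_isLocallyNoetherian _ x
  haveI : Flat ((pullback.fst f g).fiberι x ≫ pullback.snd f g) := flat_fiber_snd f g x
  -- reducedness of the fibre of `ρ`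
  obtain ⟨φ, hφ⟩ := exists_residue_hom f x
  obtain ⟨ψ, hψ⟩ := exists_residue_hom g
    (((pullback.fst f g).fiberι x ≫ pullback.snd f g) w)
  have sq := isPullback_fiber f g x
  rw [← hφ] at sq
  haveI hred : IsReduced (((pullback.fst f g).fiberι x ≫ pullback.snd f g).fiber
      (((pullback.fst f g).fiberι x ≫ pullback.snd f g) w)) := by
    refine isReduced_fiber_of_isPullback φ sq _ ψ hψ ?_
    letI := ψ.toAlgebra
    exact isReduced_tensor_of_mem_ass f F H x hx φ hφ _
  have hI : fibIdeal ((pullback.fst f g).fiberι x ≫ pullback.snd f g) w =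
      maximalIdeal (((pullback.fst f g).fiber x).presheaf.stalk w) :=
    eq_maximalIdeal_of_isRadical _ (isRadical_fibIdeal _ w)
      ((mem_relAss_structureModule_iff _ w).mp hw')
  -- the length of the stalk of `ρ^* G`
  have hlen1 : Module.length (((pullback.fst f g).fiber x).presheaf.stalk w)
      (((Scheme.Modules.pullback ((pullback.fst f g).fiberι x ≫ pullback.snd f g)).obj
        G).presheaf.stalk w) = 1 :=
    (length_stalk_pullback_eq_one_iff _ G w).mpr ⟨hlenG, hI⟩
  have hlen2 : Module.length (((pullback.fst f g).fiber x).presheaf.stalk w)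
      (((Scheme.Modules.pullback ((pullback.fst f g).fiberι x)).obj
        ((Scheme.Modules.pullback (pullback.snd f g)).obj G)).presheaf.stalk w) = 1 := by
    rw [← hlen1]
    exact (Groth.Agent.Lib.helper17.FlatOver7.stalkLinEquiv
      ((Scheme.Modules.pullbackComp ((pullback.fst f g).fiberι x) (pullback.snd f g)).app G)
      w).length_eq
  rw [length_stalk_fibre (pullback.fst f g)
    ((Scheme.Modules.pullback (pullback.snd f g)).obj G) x w] at hlen2
  -- nontriviality of the stalk of `q^* G`
  have hnt : Nontrivial (((Scheme.Modules.pullback (pullback.snd f g)).obj G).presheaf.stalk z) := by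
    by_contra hsub
    rw [not_nontrivial_iff_subsingleton] at hsub
    haveI := hsub
    rw [Module.length_eq_zero] at hlen2
    exact zero_ne_one hlen2
  refine (length_stalk_tensor_eq_one_iff (pullback.fst f g) F
    ((Scheme.Modules.pullback (pullback.snd f g)).obj G) hQc z hfl hnt).mpr ⟨?_, hlen2⟩
  rw [hpz]
  exact length_eq_one_of_mem_ass f F H x hx

end main

end Groth.Agent.Lib.Helper24.RedMod
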