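import Mathlib
import Groth.Agent.Lib.Helper24.RedMod3
import Groth.Agent.Lib.Helper3.GeomIrr2

/-!
# Reduced modules and field extensions (helper24), part 5: integral modules

`F` coherent on a locally Noetherian `k`-scheme: if `F ⊗_k k'` is integral (exactly one associated
point, of length one) for all finite `k'/k`, then so is `F ⊗_k K` for all `K/k` with `X ⊗_k K`
locally Noetherian.
-/

set_option autoImplicit false
universe u
open CategoryTheory CategoryTheory.Limits AlgebraicGeometry TopologicalSpace IsLocalRing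
open TensorProduct

namespace Groth.Agent.Lib.Helper24.RedMod

open Groth.Agent.Lib.Helper24.HartogsProd Groth.Agent.Lib.helper17.StalkPullback
  Groth.Agent.Lib.Helper24.RelAssBC Groth.Agent.Lib.Helper24.TensFlat
  Groth.Agent.Lib.helper17.FibreStalk

section gen

variable {X' X : Scheme.{u}} (π : X' ⟶ X)

/-- a point of the fibre at which the fibre ideal is maximal is the generic point of an integral
fibre -/
theorem eq_fiberι_genericPoint (x : X) [IsIntegral (π.fiber x)] (z : X') (hz : π z = x)
    (hI : fibIdeal π z = maximalIdeal (X'.presheaf.stalk z)) :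
    z = π.fiberι x (genericPoint (π.fiber x)) := by
  subst hz
  obtain ⟨e⟩ := nonempty_asFiber_stalk_equiv π z
  set w := π.asFiber z with hw
  have hbot : maximalIdeal ((π.fiber (π z)).presheaf.stalk w) = ⊥ := by
    rw [eq_bot_iff]
    intro t ht
    obtain ⟨s, rfl⟩ := e.surjective t
    obtain ⟨s', rfl⟩ := Ideal.Quotient.mk_surjective s
    have hs' : s' ∈ maximalIdeal (X'.presheaf.stalk z) := by
      by_contra hns
      have hu : IsUnit s' := by
        by_contra hnu
        exact hns ((IsLocalRing.mem_maximalIdeal s').mpr hnu)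
      have : IsUnit (e (Ideal.Quotient.mk _ s')) := (hu.map (Ideal.Quotient.mk _)).map e
      exact ((IsLocalRing.mem_maximalIdeal _).mp ht) this
    rw [← hI] at hs'
    rw [Ideal.mem_bot, (Ideal.Quotient.eq_zero_iff_mem).mpr hs', map_zero]
  have hgen : genericPoint (π.fiber (π z)) = w := by
    have hr : genericPoint (π.fiber (π z)) ∈ Set.range ((π.fiber (π z)).fromSpecStalk w) := by
      rw [Scheme.range_fromSpecStalk]; exact genericPoint_specializes w
    obtain ⟨p, hp⟩ := hr
    have hpc : p = IsLocalRing.closedPoint ((π.fiber (π z)).presheaf.stalk w) := by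
      apply PrimeSpectrum.ext
      have h1 : p.asIdeal ≤ maximalIdeal ((π.fiber (π z)).presheaf.stalk w) :=
        IsLocalRing.le_maximalIdeal p.isPrime.ne_top
      rw [hbot, le_bot_iff] at h1
      rw [h1]
      exact hbot.symm
    rw [← hp, hpc, Scheme.fromSpecStalk_closedPoint]
  rw [hgen, hw, π.fiberι_asFiber z]

/-- at the generic point of an integral fibre the fibre ideal is maximal -/
theorem fibIdeal_fiberι_genericPoint (x : X) [IsIntegral (π.fiber x)] :
    fibIdeal π (π.fiberι x (genericPoint (π.fiber x))) =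
      maximalIdeal (X'.presheaf.stalk (π.fiberι x (genericPoint (π.fiber x)))) := by
  have e := fiberStalkEquiv π x (genericPoint (π.fiber x))
  have hf : IsField ((π.fiber x).presheaf.stalk (genericPoint (π.fiber x))) :=
    Field.toIsField (π.fiber x).functionField
  have hf' : IsField (FibRing π (π.fiberι x (genericPoint (π.fiber x)))) :=
    e.toMulEquiv.isField hf
  have hmax : (fibIdeal π (π.fiberι x (genericPoint (π.fiber x)))).IsMaximal :=
    Ideal.Quotient.maximal_of_isField _ hf'
  exact IsLocalRing.eq_maximalIdeal hmax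

end gen

section main

open Groth.Agent.Lib.helper3.GeomIrr

variable {k : Type u} [Field k] {X : Scheme.{u}} [IsLocallyNoetherian X]
  (f : X ⟶ Spec (CommRingCat.of k)) (F : X.Modules) [F.IsQuasicoherent]

theorem fiberι_apply (K : Type u) [Field K] [Algebra k K] (x : X)
    (w : (FBase.bcπ f K).fiber x) : FBase.bcπ f K ((FBase.bcπ f K).fiberι x w) = x := by
  have h : (FBase.bcπ f K).fiberι x w ∈ Set.range ((FBase.bcπ f K).fiberι x) := ⟨w, rfl⟩
  rw [Scheme.Hom.range_fiberι] at h
  exact h

variable (H : ∀ (k' : Type u) [Field k'] [Algebra k k'] [FiniteDimensional k k'],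
  ∃ x' : ↥(FBase.bc f k'),
    AssSch.Ass ((Scheme.Modules.pullback (FBase.bcπ f k')).obj F) = {x'} ∧
    Module.length ↑((FBase.bc f k').presheaf.stalk x')
      ↑(((Scheme.Modules.pullback (FBase.bcπ f k')).obj F).presheaf.stalk x') = 1)

include H

theorem isReducedMod_of_integral (k' : Type u) [Field k'] [Algebra k k'] [FiniteDimensional k k'] :
    AssSch.IsReducedMod ((Scheme.Modules.pullback (FBase.bcπ f k')).obj F) := by
  obtain ⟨x', hA, hl⟩ := H k'
  refine ⟨fun x hx y hy _ => ?_, fun x hx => ?_⟩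
  · rw [hA, Set.mem_singleton_iff] at hx hy
    rw [hx, hy]
  · rw [hA, Set.mem_singleton_iff] at hx
    subst hx
    exact hl

theorem exists_ass_eq_singleton : ∃ x0 : X, AssSch.Ass F = {x0} := by
  haveI := isLocallyNoetherian_bc_of_finite f k
  obtain ⟨z0, hA, -⟩ := H k
  have hz0 : z0 ∈ AssSch.Ass ((Scheme.Modules.pullback (FBase.bcπ f k)).obj F) := by
    rw [hA]; rfl
  refine ⟨FBase.bcπ f k z0, ?_⟩
  ext x
  rw [Set.mem_singleton_iff]
  constructor
  · intro hx
    obtain ⟨z, rfl⟩ := (FBase.bcπ f k).surjective x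
    have h1 := step1 f F k z hx
    rw [hA, Set.mem_singleton_iff] at h1
    rw [h1]
  · rintro rfl
    exact ((mem_ass_pullback_iff (FBase.bcπ f k) F z0).mp hz0).1

theorem subsingleton_fiber (k' : Type u) [Field k'] [Algebra k k'] [FiniteDimensional k k']
    (x0 : X) (hx0 : x0 ∈ AssSch.Ass F) : Subsingleton ((FBase.bcπ f k').fiber x0) := by
  obtain ⟨x', hA, -⟩ := H k'
  refine ⟨fun w1 w2 => ?_⟩
  have h1 := step1 f F k' ((FBase.bcπ f k').fiberι x0 w1) (by rw [fiberι_apply]; exact hx0)
  have h2 := step1 f F k' ((FBase.bcπ f k').fiberι x0 w2) (by rw [fiberι_apply]; exact hx0)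
  rw [hA, Set.mem_singleton_iff] at h1 h2
  exact ((FBase.bcπ f k').fiberι x0).isEmbedding.injective (h1.trans h2.symm)

theorem irreducibleSpace_tensor (x0 : X) (hx0 : x0 ∈ AssSch.Ass F) (φ : k →+* X.residueField x0)
    (hφ : Spec.map (CommRingCat.ofHom φ) = X.fromSpecResidueField x0 ≫ f)
    (K : Type u) [Field K] [Algebra k K] :
    letI := φ.toAlgebra; IrreducibleSpace (PrimeSpectrum (K ⊗[k] X.residueField x0)) := by
  letI := φ.toAlgebra
  refine geomIrr_of_algebraicClosure (irr_algebraicClosure_of_separableClosure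
    (irr_separableClosure_of_finite_separable ?_)) K
  intro k' _ _ _ _
  obtain ⟨e⟩ := nonempty_fiber_iso f k' x0 φ hφ
  haveI := subsingleton_fiber f F H k' x0 hx0
  haveI : Subsingleton ↥(Spec (CommRingCat.of (k' ⊗[k] X.residueField x0))) :=
    e.inv.isOpenEmbedding.injective.subsingleton
  obtain ⟨z, hz⟩ := (FBase.bcπ f k').surjective x0
  haveI : Nonempty ↥(Spec (CommRingCat.of (k' ⊗[k] X.residueField x0))) := by
    subst hz
    exact ⟨e.hom ((FBase.bcπ f k').asFiber z)⟩
  exact (⟨inferInstance⟩ : IrreducibleSpace ↥(Spec (CommRingCat.of (k' ⊗[k] X.residueField x0))))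

theorem exists_ass_pullback_eq_singleton (K : Type u) [Field K] [Algebra k K]
    [IsLocallyNoetherian (FBase.bc f K)] :
    ∃ x' : ↥(FBase.bc f K),
      AssSch.Ass ((Scheme.Modules.pullback (FBase.bcπ f K)).obj F) = {x'} ∧
      Module.length ↑((FBase.bc f K).presheaf.stalk x')
        ↑(((Scheme.Modules.pullback (FBase.bcπ f K)).obj F).presheaf.stalk x') = 1 := by
  obtain ⟨x0, hA0⟩ := exists_ass_eq_singleton f F H
  have hx0 : x0 ∈ AssSch.Ass F := by rw [hA0]; rfl
  have Hred : ∀ (k' : Type u) [Field k'] [Algebra k k'] [FiniteDimensional k k']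
      [IsPurelyInseparable k k'],
      AssSch.IsReducedMod ((Scheme.Modules.pullback (FBase.bcπ f k')).obj F) :=
    fun k' _ _ _ _ => isReducedMod_of_integral f F H k'
  obtain ⟨φ, hφ⟩ := exists_residue_hom f x0
  haveI : IsReduced ((FBase.bcπ f K).fiber x0) :=
    isReduced_fiber_of_isReduced_tensor f K x0 φ hφ
      (isReduced_tensor_of_mem_ass f F Hred x0 hx0 φ hφ K)
  haveI : IrreducibleSpace ↥((FBase.bcπ f K).fiber x0) := by
    letI := φ.toAlgebra
    obtain ⟨e⟩ := nonempty_fiber_iso f K x0 φ hφ
    have h1 : IrreducibleSpace ↥(Spec (CommRingCat.of (K ⊗[k] X.residueField x0))) :=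
      irreducibleSpace_tensor f F H x0 hx0 φ hφ K
    exact e.hom.homeomorph.irreducibleSpace_iff.mpr h1
  haveI : IsIntegral ((FBase.bcπ f K).fiber x0) :=
    isIntegral_of_irreducibleSpace_of_isReduced _
  have hred := isReducedMod_pullback f F Hred K
  set zη := (FBase.bcπ f K).fiberι x0 (genericPoint ((FBase.bcπ f K).fiber x0)) with hzη
  have hI := fibIdeal_fiberι_genericPoint (FBase.bcπ f K) x0
  have hmem : zη ∈ AssSch.Ass ((Scheme.Modules.pullback (FBase.bcπ f K)).obj F) := by
    refine (mem_ass_pullback_iff (FBase.bcπ f K) F zη).mpr ⟨?_, ?_⟩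
    · rw [hzη, fiberι_apply]; exact hx0
    · rw [hI]
      refine isAssociatedPrime_quot_of_forall_prime _
        (IsLocalRing.maximalIdeal.isMaximal _).ne_top (fun q hq hle => ?_)
      exact ((IsLocalRing.maximalIdeal.isMaximal _).eq_of_le hq.ne_top hle).symm
  refine ⟨zη, ?_, hred.2 zη hmem⟩
  ext z
  rw [Set.mem_singleton_iff]
  constructor
  · intro hz
    have h1 := ((mem_ass_pullback_iff (FBase.bcπ f K) F z).mp hz).1
    rw [hA0, Set.mem_singleton_iff] at h1
    have h2 := ((length_stalk_pullback_eq_one_iff (FBase.bcπ f K) F z).mp (hred.2 z hz)).2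
    exact eq_fiberι_genericPoint (FBase.bcπ f K) x0 z h1 h2
  · rintro rfl
    exact hmem

end main

end Groth.Agent.Lib.Helper24.RedMod
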