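import Mathlib
import Groth.Prelude.Def_Found
import Groth.Agent.Lib.Helper24.FibLoc2

/-!
# Regularity of a ring map is local (helper24)

* `isRegularHom_localization`: `R → Λ` regular ⟹ `R_{q ∩ R} → Λ_q` regular.
* `isRegularHom_of_localization_maximal`: `Λ` Noetherian, `R_{n ∩ R} → Λ_n` regular for all
  maximal `n` ⟹ `R → Λ` regular.
-/

set_option autoImplicit false
universe u

open TensorProduct

namespace Groth.Agent.Lib.Helper24.RegHomLoc

open Groth.Agent.Lib.Helper24.FibLoc

theorem regular_of_eq (R : Type u) [CommRing R] (I J : Ideal R) [hI : I.IsPrime] [hJ : J.IsPrime]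
    (h : I = J) (hreg : IsRegularLocalRing (Localization.AtPrime J)) :
    IsRegularLocalRing (Localization.AtPrime I) := by
  subst h
  exact hreg

/-- If `T'` is a localization of `T` and `T'` is regular at `Q'`, then `T` is regular at
`Q' ∩ T`. -/
theorem regular_comap_of_isLocalization (S S' : Type u) [CommRing S] [CommRing S'] [Algebra S S']
    (M : Submonoid S) [IsLocalization M S'] (Q' : Ideal S') [Q'.IsPrime]
    (hreg : IsRegularLocalRing (Localization.AtPrime Q')) :
    IsRegularLocalRing (Localization.AtPrime (Q'.comap (algebraMap S S'))) := by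
  haveI h1 : IsLocalization.AtPrime (Localization.AtPrime Q') (Q'.comap (algebraMap S S')) :=
    IsLocalization.isLocalization_isLocalization_atPrime_isLocalization M
      (Localization.AtPrime Q') Q'
  exact IsRegularLocalRing.of_ringEquiv
    (IsLocalization.algEquiv (Q'.comap (algebraMap S S')).primeCompl
      (Localization.AtPrime (Q'.comap (algebraMap S S'))) (Localization.AtPrime Q')).symm.toRingEquiv

/-- If a localization `T'` of `T` at `M` is a regular ring and `Q` is a prime of `T` disjoint
from `M`, then `T_Q` is regular. -/
theorem regular_at_of_isLocalization (T T' : Type u) [CommRing T] [CommRing T'] [Algebra T T']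
    (M : Submonoid T) [IsLocalization M T'] [IsRegularRing T'] (Q : Ideal T) [Q.IsPrime]
    (hQ : Disjoint (M : Set T) (Q : Set T)) :
    IsRegularLocalRing (Localization.AtPrime Q) := by
  haveI hQ' : (Q.map (algebraMap T T')).IsPrime :=
    IsLocalization.isPrime_of_isPrime_disjoint M T' Q inferInstance hQ
  have hc : (Q.map (algebraMap T T')).comap (algebraMap T T') = Q :=
    IsLocalization.under_map_of_isPrime_disjoint M T' inferInstance hQ
  have h1 : IsRegularLocalRing (Localization.AtPrime (Q.map (algebraMap T T'))) := inferInstance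
  have h2 := regular_comap_of_isLocalization T T' M (Q.map (algebraMap T T')) h1
  exact regular_of_eq T _ _ hc.symm h2

section

variable (A B : Type u) [CommRing A] [CommRing B] [Algebra A B] (S : Submonoid A)
  (M : Submonoid B)
  (A' B' : Type u) [CommRing A'] [CommRing B'] [Algebra A A'] [Algebra B B'] [Algebra A' B']
  [Algebra A B'] [IsScalarTower A A' B'] [IsScalarTower A B B'] [IsLocalization S A']
  [IsLocalization M B']

include M in
/-- `K ⊗[A] B'` regular ⟹ `K ⊗[A] B` is regular at the primes not meeting `M`. -/
theorem regular_at_tensor (K : Type u) [CommRing K] [Algebra A K] [IsRegularRing (K ⊗[A] B')]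
    (Q : Ideal (K ⊗[A] B)) [Q.IsPrime]
    (hQ : ∀ s ∈ M, Algebra.TensorProduct.includeRight (R := A) (A := K) (B := B) s ∉ Q) :
    IsRegularLocalRing (Localization.AtPrime Q) := by
  letI : Algebra (K ⊗[A] B) (K ⊗[A] B') :=
    (Algebra.TensorProduct.map (AlgHom.id K K) (IsScalarTower.toAlgHom A B B')).toRingHom.toAlgebra
  haveI : IsScalarTower K (K ⊗[A] B) (K ⊗[A] B') :=
    IsScalarTower.of_algebraMap_eq' (by
      ext x
      simp [RingHom.algebraMap_toAlgebra])
  have H : (algebraMap (K ⊗[A] B) (K ⊗[A] B')).comp
      (Algebra.TensorProduct.includeRight (R := A) (A := K) (B := B)).toRingHom =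
      (Algebra.TensorProduct.includeRight (R := A) (A := K) (B := B')).toRingHom.comp
        (algebraMap B B') := by
    ext x
    simp [RingHom.algebraMap_toAlgebra]
  haveI := IsLocalization.tensorProduct_tensorProduct_right A K M B' H
  refine regular_at_of_isLocalization (K ⊗[A] B) (K ⊗[A] B')
    (M.map (Algebra.TensorProduct.includeRight (R := A) (A := K))) Q ?_
  rw [Set.disjoint_left]
  rintro x ⟨s, hs, rfl⟩ hx
  exact hQ s hs hx

include S in
/-- From the fibre of `A' → B'` back to `K ⊗[A] B'`. -/
theorem untransfer {P : ∀ (R : Type u) [CommRing R], Prop} (hP : LocStable P)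
    (p' : Ideal A') [p'.IsPrime] (p : Ideal A) [p.IsPrime]
    (hpp : p'.comap (algebraMap A A') = p)
    (K : Type u) [Field K] [Algebra p.ResidueField K] [Algebra A K]
    [IsScalarTower A p.ResidueField K] :
    ∃ (_ : Algebra p'.ResidueField K),
      (Module.Finite p.ResidueField K → Module.Finite p'.ResidueField K) ∧
      (P (K ⊗[p'.ResidueField] p'.Fiber B') → P (K ⊗[A] B')) := by
  subst hpp
  set p : Ideal A := p'.comap (algebraMap A A') with hp
  let σ : p.ResidueField →+* p'.ResidueField :=
    Ideal.ResidueField.map p p' (algebraMap A A') rfl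
  have hσ : Function.Bijective σ :=
    (RingHom.surjectiveOnStalks_of_isLocalization (M := S) A').residueFieldMap_bijective p p' rfl
  let e : p.ResidueField ≃+* p'.ResidueField := RingEquiv.ofBijective σ hσ
  letI iκ : Algebra p.ResidueField p'.ResidueField := σ.toAlgebra
  letI iK : Algebra p'.ResidueField K :=
    ((algebraMap p.ResidueField K).comp (e.symm : p'.ResidueField →+* p.ResidueField)).toAlgebra
  haveI : IsScalarTower p.ResidueField p'.ResidueField K :=
    IsScalarTower.of_algebraMap_eq (fun x => by
      show algebraMap p.ResidueField K x = algebraMap p.ResidueField K (e.symm (σ x))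
      rw [show σ x = e x from rfl, RingEquiv.symm_apply_apply])
  letI iA'K : Algebra A' K :=
    ((algebraMap p'.ResidueField K).comp (algebraMap A' p'.ResidueField)).toAlgebra
  haveI : IsScalarTower A' p'.ResidueField K := IsScalarTower.of_algebraMap_eq' rfl
  haveI : IsScalarTower A A' K := IsScalarTower.of_algebraMap_eq (fun a => by
    show algebraMap A K a = algebraMap p.ResidueField K
      (e.symm (algebraMap A' p'.ResidueField (algebraMap A A' a)))
    have h1 : e.symm (algebraMap A' p'.ResidueField (algebraMap A A' a)) =
        algebraMap A p.ResidueField a := by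
      rw [RingEquiv.symm_apply_eq]
      show algebraMap A' p'.ResidueField (algebraMap A A' a) = σ (algebraMap A p.ResidueField a)
      rw [Ideal.ResidueField.map_algebraMap]
    rw [h1, ← IsScalarTower.algebraMap_apply])
  refine ⟨iK, ?_, ?_⟩
  · intro hfin
    exact Module.Finite.of_restrictScalars_finite p.ResidueField p'.ResidueField K
  · intro h
    have h3 : P (K ⊗[A'] B') :=
      hP.iso _ _ (Algebra.TensorProduct.cancelBaseChange A' p'.ResidueField K K B').toRingEquiv h
    exact hP.iso _ _ (IsLocalization.algebraTensorEquiv S A' K B').toRingEquiv h3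

end

section main

variable (R Λ : Type u) [CommRing R] [CommRing Λ] [Algebra R Λ]

theorem isNoetherianRing_fibre [IsNoetherianRing Λ] (p : Ideal R) [p.IsPrime] :
    IsNoetherianRing (p.ResidueField ⊗[R] Λ) := by
  have h1 : IsNoetherianRing (Λ ⊗[R] p.ResidueField) :=
    Algebra.EssFiniteType.isNoetherianRing Λ _
  exact isNoetherianRing_of_ringEquiv _ (Algebra.TensorProduct.comm R Λ p.ResidueField).toRingEquiv

/-- `R → Λ` regular ⟹ `R_{q ∩ R} → Λ_q` regular. -/
theorem isRegularHom_localization (h : CAlg.IsRegularHom R Λ) (q : Ideal Λ) [q.IsPrime] :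
    letI := (Localization.localRingHom (Ideal.comap (algebraMap R Λ) q) q (algebraMap R Λ)
      rfl).toAlgebra
    CAlg.IsRegularHom (Localization.AtPrime (Ideal.comap (algebraMap R Λ) q))
      (Localization.AtPrime q) := by
  letI : Algebra (Localization.AtPrime (q.comap (algebraMap R Λ))) (Localization.AtPrime q) :=
    (Localization.localRingHom (q.comap (algebraMap R Λ)) q (algebraMap R Λ) rfl).toAlgebra
  haveI : IsScalarTower R (Localization.AtPrime (q.comap (algebraMap R Λ)))
      (Localization.AtPrime q) := IsScalarTower.of_algebraMap_eq (by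
    intro x
    rw [RingHom.algebraMap_toAlgebra, Localization.localRingHom_to_map,
      ← IsScalarTower.algebraMap_apply])
  obtain ⟨hflat, hfib⟩ := h
  haveI := hflat
  refine ⟨?_, fun p' _ => ⟨?_, ?_⟩⟩
  · haveI : Module.Flat Λ (Localization.AtPrime q) := IsLocalization.flat _ q.primeCompl
    haveI : Module.Flat R (Localization.AtPrime q) := Module.Flat.trans R Λ _
    exact (Module.flat_iff_of_isLocalization (Localization.AtPrime (q.comap (algebraMap R Λ)))
      (q.comap (algebraMap R Λ)).primeCompl (Localization.AtPrime q)).mpr inferInstance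
  · exact transfer_fiber R Λ (q.comap (algebraMap R Λ)).primeCompl q.primeCompl
      (Localization.AtPrime (q.comap (algebraMap R Λ))) (Localization.AtPrime q)
      locStable_isNoetherianRing p' (hfib _).1
  · intro K _ _ hfin
    obtain ⟨inst, hfin', -, htr⟩ := transfer2' R Λ (q.comap (algebraMap R Λ)).primeCompl
      q.primeCompl (Localization.AtPrime (q.comap (algebraMap R Λ))) (Localization.AtPrime q)
      locStable_isRegularRing p' K
    exact htr ((hfib _).2 K (hfin' hfin))

/-- `Λ` Noetherian, `R_{n ∩ R} → Λ_n` regular for all maximal `n` ⟹ `R → Λ` regular. -/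
theorem isRegularHom_of_localization_maximal [IsNoetherianRing Λ]
    (h : ∀ (n : Ideal Λ) [n.IsMaximal],
      letI := (Localization.localRingHom (Ideal.comap (algebraMap R Λ) n) n (algebraMap R Λ)
        rfl).toAlgebra
      CAlg.IsRegularHom (Localization.AtPrime (Ideal.comap (algebraMap R Λ) n))
        (Localization.AtPrime n)) :
    CAlg.IsRegularHom R Λ := by
  refine ⟨?_, fun p _ => ⟨isNoetherianRing_fibre R Λ p, ?_⟩⟩
  · refine Module.flat_of_isLocalized_maximal Λ Λ (fun P _ => Localization.AtPrime P)
      (fun P _ => Algebra.linearMap Λ (Localization.AtPrime P)) ?_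
    intro n _
    letI : Algebra (Localization.AtPrime (n.comap (algebraMap R Λ))) (Localization.AtPrime n) :=
      (Localization.localRingHom (n.comap (algebraMap R Λ)) n (algebraMap R Λ) rfl).toAlgebra
    haveI : IsScalarTower R (Localization.AtPrime (n.comap (algebraMap R Λ)))
        (Localization.AtPrime n) := IsScalarTower.of_algebraMap_eq (by
      intro x
      rw [RingHom.algebraMap_toAlgebra, Localization.localRingHom_to_map,
        ← IsScalarTower.algebraMap_apply])
    haveI := (h n).1
    exact Module.Flat.trans R (Localization.AtPrime (n.comap (algebraMap R Λ)))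
      (Localization.AtPrime n)
  · intro K _ _ hfin
    letI iRK : Algebra R K :=
      ((algebraMap p.ResidueField K).comp (algebraMap R p.ResidueField)).toAlgebra
    haveI : IsScalarTower R p.ResidueField K := IsScalarTower.of_algebraMap_eq' rfl
    suffices hT : IsRegularRing (K ⊗[R] Λ) from
      locStable_isRegularRing.iso _ _
        (Algebra.TensorProduct.cancelBaseChange R p.ResidueField K K Λ).symm.toRingEquiv hT
    haveI : Algebra.EssFiniteType R K := Algebra.EssFiniteType.comp R p.ResidueField K
    haveI hTN : IsNoetherianRing (K ⊗[R] Λ) := by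
      have h1 : IsNoetherianRing (Λ ⊗[R] K) := Algebra.EssFiniteType.isNoetherianRing Λ _
      exact isNoetherianRing_of_ringEquiv _ (Algebra.TensorProduct.comm R Λ K).toRingEquiv
    rw [isRegularRing_iff]
    intro Q _
    -- the prime of `Λ` below `Q` and a maximal ideal above it
    set q0 : Ideal Λ := Q.comap (Algebra.TensorProduct.includeRight (R := R) (A := K) (B := Λ))
      with hq0
    have hq0ne : q0 ≠ ⊤ := (Ideal.IsPrime.comap _).ne_top
    obtain ⟨n, hnmax, hq0n⟩ := Ideal.exists_le_maximal q0 hq0ne
    haveI := hnmax
    letI : Algebra (Localization.AtPrime (n.comap (algebraMap R Λ))) (Localization.AtPrime n) :=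
      (Localization.localRingHom (n.comap (algebraMap R Λ)) n (algebraMap R Λ) rfl).toAlgebra
    haveI : IsScalarTower R (Localization.AtPrime (n.comap (algebraMap R Λ)))
        (Localization.AtPrime n) := IsScalarTower.of_algebraMap_eq (by
      intro x
      rw [RingHom.algebraMap_toAlgebra, Localization.localRingHom_to_map,
        ← IsScalarTower.algebraMap_apply])
    obtain ⟨-, hfibn⟩ := h n
    -- `p ≤ n ∩ R`
    have hker : ∀ r ∈ p, algebraMap R K r = 0 := by
      intro r hr
      show algebraMap p.ResidueField K (algebraMap R p.ResidueField r) = 0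
      rw [(Ideal.algebraMap_residueField_eq_zero (I := p)).2 hr, map_zero]
    have hpn : p ≤ n.comap (algebraMap R Λ) := by
      intro r hr
      rw [Ideal.mem_comap]
      apply hq0n
      rw [hq0, Ideal.mem_comap]
      have : Algebra.TensorProduct.includeRight (R := R) (A := K) (B := Λ) (algebraMap R Λ r) =
          algebraMap R K r ⊗ₜ[R] (1 : Λ) := by
        rw [Algebra.TensorProduct.includeRight_apply, Algebra.algebraMap_eq_smul_one,
          Algebra.algebraMap_eq_smul_one, TensorProduct.smul_tmul]
      rw [this, hker r hr, TensorProduct.zero_tmul]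
      exact Q.zero_mem
    have hdisj : Disjoint ((n.comap (algebraMap R Λ)).primeCompl : Set R) (p : Set R) := by
      rw [Set.disjoint_left]
      intro r hr hrp
      exact hr (hpn hrp)
    set p' : Ideal (Localization.AtPrime (n.comap (algebraMap R Λ))) :=
      p.map (algebraMap R (Localization.AtPrime (n.comap (algebraMap R Λ)))) with hp'
    haveI hp'prime : p'.IsPrime :=
      IsLocalization.isPrime_of_isPrime_disjoint (n.comap (algebraMap R Λ)).primeCompl _ p
        inferInstance hdisj
    have hpp : p'.comap (algebraMap R (Localization.AtPrime (n.comap (algebraMap R Λ)))) = p :=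
      IsLocalization.under_map_of_isPrime_disjoint (n.comap (algebraMap R Λ)).primeCompl _
        inferInstance hdisj
    obtain ⟨inst, hfin', htr⟩ := untransfer R (n.comap (algebraMap R Λ)).primeCompl
      (Localization.AtPrime (n.comap (algebraMap R Λ))) (Localization.AtPrime n)
      locStable_isRegularRing p' p hpp K
    haveI hreg : IsRegularRing (K ⊗[R] Localization.AtPrime n) :=
      htr ((hfibn p').2 K (hfin' hfin))
    refine regular_at_tensor R Λ n.primeCompl (Localization.AtPrime n) K Q ?_
    intro s hs hsQ
    exact hs (hq0n hsQ)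

end main

end Groth.Agent.Lib.Helper24.RegHomLoc
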