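import Mathlib
import Groth.Prelude.Def_EGA4b
import Groth.Agent.Lib.Helper11.GenFree9
import Groth.Agent.S0565

/-!
# Descent of "regular locus contains a nonempty open" along finite type extensions of domains
(helper24)

* `regular_comap_of_flat`: `R → S` flat, `R` Noetherian, `S_Q` regular ⟹ `R_{Q ∩ R}` regular.
* `regular_atPrime_of_isLocalization`: regularity of `S_{Q' ∩ S}` gives that of `S'_{Q'}` for a
  localization `S'` of `S`.
* `exists_open_regLocus`: the statement of Stacks 07P?: `R ⊆ S` finite type, domains, `R` Noetherian:
  if `Reg(S)` contains a nonempty open so does `Reg(R)`.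
-/

set_option autoImplicit false

namespace Groth.Agent.Lib.Helper24.RegLocDesc

universe u

open TensorProduct

theorem regular_of_eq (R : Type u) [CommRing R] (I J : Ideal R) [hI : I.IsPrime] [hJ : J.IsPrime]
    (h : I = J) (hreg : IsRegularLocalRing (Localization.AtPrime J)) :
    IsRegularLocalRing (Localization.AtPrime I) := by
  subst h
  exact hreg

theorem regular_comap_of_flat (R S : Type u) [CommRing R] [IsNoetherianRing R] [CommRing S]
    [Algebra R S] [Module.Flat R S] (Q : Ideal S) [Q.IsPrime]
    (hreg : IsRegularLocalRing (Localization.AtPrime Q)) :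
    IsRegularLocalRing (Localization.AtPrime (Q.comap (algebraMap R S))) := by
  letI : Algebra (Localization.AtPrime (Q.comap (algebraMap R S))) (Localization.AtPrime Q) :=
    (Localization.localRingHom (Q.comap (algebraMap R S)) Q (algebraMap R S) rfl).toAlgebra
  haveI : IsScalarTower R (Localization.AtPrime (Q.comap (algebraMap R S)))
      (Localization.AtPrime Q) := IsScalarTower.of_algebraMap_eq (by
    intro x
    rw [RingHom.algebraMap_toAlgebra, Localization.localRingHom_to_map,
      ← IsScalarTower.algebraMap_apply])
  haveI : IsLocalHom (algebraMap (Localization.AtPrime (Q.comap (algebraMap R S)))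
      (Localization.AtPrime Q)) := by
    rw [RingHom.algebraMap_toAlgebra]
    infer_instance
  haveI : Module.Flat S (Localization.AtPrime Q) := IsLocalization.flat _ Q.primeCompl
  haveI : Module.Flat R (Localization.AtPrime Q) := Module.Flat.trans R S _
  haveI : Module.Flat (Localization.AtPrime (Q.comap (algebraMap R S))) (Localization.AtPrime Q) :=
    (Module.flat_iff_of_isLocalization (Localization.AtPrime (Q.comap (algebraMap R S)))
      (Q.comap (algebraMap R S)).primeCompl (Localization.AtPrime Q)).mpr inferInstance
  exact Groth.Agent.S0565.result (Localization.AtPrime (Q.comap (algebraMap R S)))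
    (Localization.AtPrime Q)

theorem regular_atPrime_of_isLocalization (S S' : Type u) [CommRing S] [CommRing S'] [Algebra S S']
    (M : Submonoid S) [IsLocalization M S'] (Q' : Ideal S') [Q'.IsPrime]
    (hreg : IsRegularLocalRing (Localization.AtPrime (Q'.comap (algebraMap S S')))) :
    IsRegularLocalRing (Localization.AtPrime Q') := by
  haveI h1 : IsLocalization.AtPrime (Localization.AtPrime Q') (Q'.comap (algebraMap S S')) :=
    IsLocalization.isLocalization_isLocalization_atPrime_isLocalization M
      (Localization.AtPrime Q') Q'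
  exact IsRegularLocalRing.of_ringEquiv
    (IsLocalization.algEquiv (Q'.comap (algebraMap S S')).primeCompl
      (Localization.AtPrime (Q'.comap (algebraMap S S'))) (Localization.AtPrime Q')).toRingEquiv

attribute [local instance] Algebra.TensorProduct.rightAlgebra

theorem exists_open_regLocus (R S : Type u) [CommRing R]
    [IsDomain R] [IsNoetherianRing R] [CommRing S] [IsDomain S] [Algebra R S] [Algebra.FiniteType R S]
    (hinj : Function.Injective (algebraMap R S))
    (hS : ∃ U : Set (PrimeSpectrum S), IsOpen U ∧ U.Nonempty ∧ U ⊆ EGA4.regLocus S) :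
    ∃ U : Set (PrimeSpectrum R), IsOpen U ∧ U.Nonempty ∧ U ⊆ EGA4.regLocus R := by
  classical
  obtain ⟨U, hUo, hUne, hUreg⟩ := hS
  obtain ⟨f, hf0, -, hfree, hfp, -⟩ :=
    Groth.Agent.Lib.helper11.GenFree.generic_freeness_full (R := R) S S
  haveI := hfree
  haveI := hfp
  haveI hloc : IsLocalization.Away (algebraMap R S f) (Localization.Away f ⊗[R] S) :=
    IsLocalization.Away.tensorRight f (Localization.Away f)
  haveI hflat1 : Module.Flat (Localization.Away f) (Localization.Away f ⊗[R] S) :=
    Module.Flat.of_free
  have hopen1 : IsOpenMap (PrimeSpectrum.comap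
      (algebraMap (Localization.Away f) (Localization.Away f ⊗[R] S))) :=
    PrimeSpectrum.isOpenMap_comap_of_hasGoingDown_of_finitePresentation
  have hopen2 : IsOpenMap (PrimeSpectrum.comap (algebraMap R (Localization.Away f))) :=
    (PrimeSpectrum.localization_away_isOpenEmbedding (Localization.Away f) f).isOpenMap
  set U' : Set (PrimeSpectrum (Localization.Away f ⊗[R] S)) :=
    PrimeSpectrum.comap (algebraMap S (Localization.Away f ⊗[R] S)) ⁻¹' U with hU'
  have hU'o : IsOpen U' := hUo.preimage (PrimeSpectrum.continuous_comap _)
  have hfS : algebraMap R S f ≠ 0 := by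
    rw [Ne, map_eq_zero_iff _ hinj]
    exact hf0
  have hU'ne : U'.Nonempty := by
    have hne : (U ∩ (PrimeSpectrum.basicOpen (algebraMap R S f) : Set (PrimeSpectrum S))).Nonempty := by
      refine nonempty_preirreducible_inter hUo (PrimeSpectrum.basicOpen _).isOpen hUne ?_
      refine ⟨⟨⊥, Ideal.isPrime_bot⟩, ?_⟩
      rw [SetLike.mem_coe, PrimeSpectrum.mem_basicOpen]
      simpa using hfS
    obtain ⟨Q, hQU, hQf⟩ := hne
    have hr : Q ∈ Set.range (PrimeSpectrum.comap (algebraMap S (Localization.Away f ⊗[R] S))) := by
      rw [PrimeSpectrum.localization_away_comap_range (Localization.Away f ⊗[R] S)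
        (algebraMap R S f)]
      exact hQf
    obtain ⟨Q', rfl⟩ := hr
    exact ⟨Q', hQU⟩
  refine ⟨PrimeSpectrum.comap (algebraMap R (Localization.Away f)) ''
    (PrimeSpectrum.comap (algebraMap (Localization.Away f) (Localization.Away f ⊗[R] S)) '' U'),
    hopen2 _ (hopen1 _ hU'o), (hU'ne.image _).image _, ?_⟩
  rintro _ ⟨_, ⟨Q', hQ', rfl⟩, rfl⟩
  haveI : Module.Flat R (Localization.Away f) := IsLocalization.flat _ (Submonoid.powers f)
  haveI : Module.Flat R (Localization.Away f ⊗[R] S) :=
    Module.Flat.trans R (Localization.Away f) _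
  have hregS : IsRegularLocalRing (Localization.AtPrime
      (Q'.asIdeal.comap (algebraMap S (Localization.Away f ⊗[R] S)))) := hUreg hQ'
  have hregS' : IsRegularLocalRing (Localization.AtPrime Q'.asIdeal) :=
    regular_atPrime_of_isLocalization S (Localization.Away f ⊗[R] S)
      (Submonoid.powers (algebraMap R S f)) Q'.asIdeal hregS
  have key := regular_comap_of_flat R (Localization.Away f ⊗[R] S) Q'.asIdeal hregS'
  have heq : (PrimeSpectrum.comap (algebraMap R (Localization.Away f))
      (PrimeSpectrum.comap (algebraMap (Localization.Away f) (Localization.Away f ⊗[R] S)) Q')).asIdeal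
      = Q'.asIdeal.comap (algebraMap R (Localization.Away f ⊗[R] S)) := by
    simp only [PrimeSpectrum.comap_asIdeal, Ideal.comap_comap]
    rw [← IsScalarTower.algebraMap_eq]
  show IsRegularLocalRing (Localization.AtPrime _)
  exact regular_of_eq R _ _ heq key

end Groth.Agent.Lib.Helper24.RegLocDesc
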