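import Mathlib
import Groth.Agent.Lib.Helper24.RegUnram1
import Groth.Agent.Lib.Helper24.SmoothRegularIff
import Groth.Agent.Lib.Helper24.CplCatenary
import Groth.Agent.S9125

/-!
# Regularity at unramified primes (helper24), part 2: the local ring is regular

`P` a regular local domain, `A` a catenary Noetherian local ring, finite over `P`, `p` a prime of
`A` at which `A` is unramified over `P`, lying on an irreducible component `V(q)` with
`dim A/q = dim P`.  Then `A_p` is a regular local ring of dimension `ht (p ∩ P)`.
-/

set_option autoImplicit false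
universe u

open IsLocalRing

namespace Groth.Agent.Lib.Helper24.RegUnram

theorem spanFinrank_map_le {R S : Type*} [CommRing R] [CommRing S] (f : R →+* S) (I : Ideal R)
    (hI : I.FG) : (I.map f).spanFinrank ≤ I.spanFinrank := by
  classical
  obtain ⟨s, hs, hspan⟩ := Submodule.FG.exists_span_finset_card_eq_spanFinrank hI
  have h1 : I.map f = Ideal.span (f '' (s : Set R)) := by
    rw [← Ideal.map_span]
    congr 1
    exact hspan.symm
  rw [h1]
  have hfin : (f '' (s : Set R)).Finite := (s.finite_toSet).image f
  refine (Submodule.spanFinrank_span_le_ncard_of_finite hfin).trans ?_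
  refine (Set.ncard_image_le s.finite_toSet).trans ?_
  rw [Set.ncard_coe_finset, hs]

section

variable (P A : Type u) [CommRing P] [CommRing A] [IsRegularLocalRing P] [IsDomain P]
  [IsLocalRing A] [IsNoetherianRing A] [Algebra P A] [Module.Finite P A]
  (p : Ideal A) [p.IsPrime]

theorem isRegularLocalRing_atPrime (hA : CAlg.IsCatenary A) [Algebra.IsUnramifiedAt P p]
    (q : Ideal A) (hq : q ∈ minimalPrimes A) (hqp : q ≤ p)
    (hdim : ringKrullDim (A ⧸ q) = ringKrullDim P) :
    IsRegularLocalRing (Localization.AtPrime p) ∧
      ringKrullDim (Localization.AtPrime p) =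
        ((p.comap (algebraMap P A)).height : WithBot ℕ∞) := by
  haveI : q.IsPrime := hq.1.1
  haveI h𝔭₀ : (p.comap (algebraMap P A)).IsPrime := Ideal.comap_isPrime _ _
  haveI hlo : p.LiesOver (p.comap (algebraMap P A)) := ⟨rfl⟩
  haveI : IsDomain (A ⧸ q) := Ideal.Quotient.isDomain q
  haveI : Nontrivial (A ⧸ q) := inferInstance
  haveI : IsLocalRing (A ⧸ q) := .of_surjective' _ Ideal.Quotient.mk_surjective
  have hDcat : CAlg.IsCatenary (A ⧸ q) := Groth.Agent.S9125.result A q hA
  have hPcat : CAlg.IsCatenary P :=
    Groth.Agent.Lib.Helper24.CplCatenary.isCatenary_of_isRegularLocalRing P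
  have hinj : Function.Injective (algebraMap P (A ⧸ q)) :=
    Groth.Agent.Lib.Helper24.SopFinite.injective_of_isIntegral_of_dim_le (algebraMap P (A ⧸ q))
      Algebra.IsIntegral.isIntegral (le_of_eq hdim.symm)
  have hsurj : Function.Surjective (Ideal.Quotient.mk q) := Ideal.Quotient.mk_surjective
  haveI hpbar : (p.map (Ideal.Quotient.mk q)).IsPrime :=
    Ideal.map_isPrime_of_surjective hsurj (by rwa [Ideal.mk_ker])
  have hcomap : (p.map (Ideal.Quotient.mk q)).comap (Ideal.Quotient.mk q) = p := by
    rw [Ideal.comap_map_of_surjective _ hsurj, ← RingHom.ker_eq_comap_bot, Ideal.mk_ker,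
      sup_eq_left.mpr hqp]
  have hcomapP : (p.map (Ideal.Quotient.mk q)).comap (algebraMap P (A ⧸ q)) =
      p.comap (algebraMap P A) := by
    rw [IsScalarTower.algebraMap_eq P A (A ⧸ q), ← Ideal.comap_comap,
      Ideal.Quotient.algebraMap_eq, hcomap]
  have h1 := height_comap_eq P (A ⧸ q) hinj hPcat hDcat (p.map (Ideal.Quotient.mk q))
  rw [hcomapP] at h1
  have h2 : (p.map (Ideal.Quotient.mk q)).height ≤ p.height := by
    have := height_le_height_comap_of_surjective (Ideal.Quotient.mk q) hsurj
      (p.map (Ideal.Quotient.mk q))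
    rwa [hcomap] at this
  have h3 : (p.comap (algebraMap P A)).height ≤ p.height := h1 ▸ h2
  have h4 : ringKrullDim (Localization.AtPrime p) = p.height :=
    IsLocalization.AtPrime.ringKrullDim_eq_height p _
  letI := Localization.AtPrime.algebraOfLiesOver (p.comap (algebraMap P A)) p
  have hmap : (p.comap (algebraMap P A)).map (algebraMap P (Localization.AtPrime p)) =
      maximalIdeal (Localization.AtPrime p) :=
    ((Algebra.isUnramifiedAt_iff_map_eq P (p.comap (algebraMap P A)) p).mp inferInstance).2
  haveI : IsRegularRing P :=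
    Groth.Agent.Lib.Helper24.SmoothRegularIff.isRegularRing_of_isRegularLocalRing P
  haveI hreg0 : IsRegularLocalRing (Localization.AtPrime (p.comap (algebraMap P A))) :=
    IsRegularRing.isRegularLocalRing_localization _
  have h5 : ((maximalIdeal (Localization.AtPrime (p.comap (algebraMap P A)))).spanFinrank :
      WithBot ℕ∞) = ringKrullDim (Localization.AtPrime (p.comap (algebraMap P A))) :=
    hreg0.spanFinrank_maximalIdeal
  have h6 : ringKrullDim (Localization.AtPrime (p.comap (algebraMap P A))) =
      (p.comap (algebraMap P A)).height :=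
    IsLocalization.AtPrime.ringKrullDim_eq_height _ _
  have h7 : (maximalIdeal (Localization.AtPrime (p.comap (algebraMap P A)))).map
      (algebraMap (Localization.AtPrime (p.comap (algebraMap P A))) (Localization.AtPrime p)) =
      maximalIdeal (Localization.AtPrime p) := by
    rw [← Localization.AtPrime.map_eq_maximalIdeal, Ideal.map_map, ← IsScalarTower.algebraMap_eq,
      hmap]
  have h8 : (maximalIdeal (Localization.AtPrime p)).spanFinrank ≤
      (maximalIdeal (Localization.AtPrime (p.comap (algebraMap P A)))).spanFinrank := by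
    rw [← h7]
    exact spanFinrank_map_le _ _ (IsNoetherian.noetherian _)
  have h9 : ((maximalIdeal (Localization.AtPrime p)).spanFinrank : WithBot ℕ∞) ≤
      ((p.comap (algebraMap P A)).height : WithBot ℕ∞) := by
    rw [← h6, ← h5]
    exact_mod_cast h8
  have h10 : ((maximalIdeal (Localization.AtPrime p)).spanFinrank : WithBot ℕ∞) ≤
      ringKrullDim (Localization.AtPrime p) := by
    rw [h4]
    exact h9.trans (by exact_mod_cast h3)
  haveI hreg : IsRegularLocalRing (Localization.AtPrime p) :=
    IsRegularLocalRing.of_spanFinrank_maximalIdeal_le _ h10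
  refine ⟨hreg, le_antisymm ?_ ?_⟩
  · rw [← hreg.spanFinrank_maximalIdeal]
    exact h9
  · rw [h4]
    exact_mod_cast h3

end

end Groth.Agent.Lib.Helper24.RegUnram
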