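import Mathlib
import Groth.Agent.Lib.Helper24.RegUnram2
import Groth.Agent.Lib.Helper17.Miracle

/-!
# Regularity at unramified primes (helper24), part 3: flatness and étaleness

In the situation of part 2, `A_p` is flat over `P_{p ∩ P}` (miracle flatness, helper17) and `A` is
étale over `P` at `p`.
-/

set_option autoImplicit false
universe u

open IsLocalRing TensorProduct

namespace Groth.Agent.Lib.Helper24.RegUnram

section

variable (P A : Type u) [CommRing P] [CommRing A] [IsRegularLocalRing P] [IsDomain P]
  [IsLocalRing A] [IsNoetherianRing A] [Algebra P A] [Module.Finite P A]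
  (p : Ideal A) [p.IsPrime]

local notation "𝓀[" R "]" => ResidueField R

theorem supportDim_quotient_maximalIdeal_smul_top (B : Type u) [CommRing B] [IsLocalRing B]
    (N : Submodule B B) (hN : N = maximalIdeal B) : Module.supportDim B (B ⧸ N) = 0 := by
  subst hN
  rw [Module.supportDim_quotient_eq_ringKrullDim]
  exact ringKrullDim_eq_zero_of_isField
    ((Ideal.Quotient.maximal_ideal_iff_isField_quotient _).mp inferInstance)

set_option maxHeartbeats 1000000 in
theorem isEtaleAt (hA : CAlg.IsCatenary A) [Algebra.IsUnramifiedAt P p]
    (q : Ideal A) (hq : q ∈ minimalPrimes A) (hqp : q ≤ p)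
    (hdim : ringKrullDim (A ⧸ q) = ringKrullDim P) :
    Algebra.IsEtaleAt P p := by
  obtain ⟨hreg, hdimAp⟩ := isRegularLocalRing_atPrime P A p hA q hq hqp hdim
  haveI h𝔭₀ : (p.comap (algebraMap P A)).IsPrime := Ideal.comap_isPrime _ _
  haveI hlo : p.LiesOver (p.comap (algebraMap P A)) := ⟨rfl⟩
  letI := Localization.AtPrime.algebraOfLiesOver (p.comap (algebraMap P A)) p
  haveI hloc : IsLocalHom (algebraMap (Localization.AtPrime (p.comap (algebraMap P A)))
      (Localization.AtPrime p)) := by
    rw [Localization.AtPrime.IsLiesOverAlgebra.algebraMap_eq]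
    exact Localization.isLocalHom_localRingHom _ _ _ Ideal.LiesOver.over
  have hmap : (p.comap (algebraMap P A)).map (algebraMap P (Localization.AtPrime p)) =
      maximalIdeal (Localization.AtPrime p) :=
    ((Algebra.isUnramifiedAt_iff_map_eq P (p.comap (algebraMap P A)) p).mp inferInstance).2
  haveI : IsRegularRing P :=
    Groth.Agent.Lib.Helper24.SmoothRegularIff.isRegularRing_of_isRegularLocalRing P
  haveI hreg0 : IsRegularLocalRing (Localization.AtPrime (p.comap (algebraMap P A))) :=
    IsRegularRing.isRegularLocalRing_localization _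
  have h6 : ringKrullDim (Localization.AtPrime (p.comap (algebraMap P A))) =
      (p.comap (algebraMap P A)).height :=
    IsLocalization.AtPrime.ringKrullDim_eq_height _ _
  have h7 : (maximalIdeal (Localization.AtPrime (p.comap (algebraMap P A)))).map
      (algebraMap (Localization.AtPrime (p.comap (algebraMap P A))) (Localization.AtPrime p)) =
      maximalIdeal (Localization.AtPrime p) := by
    rw [← Localization.AtPrime.map_eq_maximalIdeal, Ideal.map_map, ← IsScalarTower.algebraMap_eq,
      hmap]
  -- flatness
  haveI hflat : Module.Flat (Localization.AtPrime (p.comap (algebraMap P A)))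
      (Localization.AtPrime p) := by
    refine Groth.Agent.Lib.helper17.Miracle.flat_of_cm
      (Localization.AtPrime (p.comap (algebraMap P A))) (Localization.AtPrime p)
      (Localization.AtPrime p)
      (Groth.Agent.Lib.Helper24.CplCatenary.isCohenMacaulayModule_of_isRegularLocalRing _) ?_
    rw [Module.supportDim_self_eq_ringKrullDim, hdimAp, h6,
      supportDim_quotient_maximalIdeal_smul_top (Localization.AtPrime p) _
        (by rw [h7]; exact Ideal.mul_top _), add_zero]
  -- étaleness
  let Rp := Localization.AtPrime (p.comap (algebraMap P A))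
  let Sp := Localization (Algebra.algebraMapSubmonoid A (p.comap (algebraMap P A)).primeCompl)
  let Sq := Localization.AtPrime p
  let f : Sp →ₐ[A] Sq := IsLocalization.liftAlgHom
      (M := Algebra.algebraMapSubmonoid A (p.comap (algebraMap P A)).primeCompl)
      (f := Algebra.ofId _ _) (by
      rintro ⟨_, x, hx, rfl⟩
      simpa using! IsLocalization.map_units (M := p.primeCompl) Sq ⟨algebraMap _ _ x,
        by simpa using hx⟩)
  algebraize [f.toRingHom]
  have : IsScalarTower P Sp Sq := .to₁₃₄ _ A _ _
  have : IsScalarTower Rp Sp Sq := .of_algebraMap_eq' <| by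
    apply IsLocalization.ringHom_ext (p.comap (algebraMap P A)).primeCompl
    simp only [RingHom.comp_assoc, ← IsScalarTower.algebraMap_eq]
  have : IsLocalization (Algebra.algebraMapSubmonoid Sp p.primeCompl) Sq :=
    .isLocalization_of_submonoid_le _ _
      (Algebra.algebraMapSubmonoid A (p.comap (algebraMap P A)).primeCompl) _
      (by rintro _ ⟨x, hx, rfl⟩; simpa using hx)
  haveI : Algebra.FinitePresentation P A :=
    Algebra.FinitePresentation.of_finiteType.mp inferInstance
  have : Algebra.FinitePresentation Rp Sp := by
    have : Algebra.IsPushout P Rp A Sp :=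
      .symm <| Algebra.isPushout_of_isLocalization (p.comap (algebraMap P A)).primeCompl _ _ _
    exact .equiv (Algebra.IsPushout.equiv P Rp A Sp)
  have : Algebra.FormallySmooth 𝓀[Rp] (𝓀[Rp] ⊗[Rp] Sq) := by
    haveI : Algebra.FormallyUnramified Rp Sq := .of_restrictScalars P _ _
    haveI : Algebra.EssFiniteType Rp Sq := .of_comp P _ _
    haveI : Algebra.FormallyEtale 𝓀[Rp] (𝓀[Rp] ⊗[Rp] Sq) :=
      .of_formallyUnramified_of_field _ _
    infer_instance
  have := Algebra.FormallySmooth.of_formallySmooth_residueField_tensor
    (R := Rp) (S := Sq) (P := Sp) (Algebra.algebraMapSubmonoid _ p.primeCompl)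
  have : Algebra.FormallySmooth P Sq := .comp P Rp Sq
  exact Algebra.FormallyEtale.iff_formallyUnramified_and_formallySmooth.mpr ⟨inferInstance, this⟩

end

end Groth.Agent.Lib.Helper24.RegUnram
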