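import Mathlib
import Groth.Agent.Lib.Helper24.DerTower6

/-!
# Regularity at unramified primes (helper24), part 4: freeness of the completed differentials

* `free_of_le_rank`: a module over a domain `R` generated by `n` elements whose generic rank is at
  least `n` is free of rank `n`;
* `le_rank_of_injective`: `dim A/q ≤ rank_K (K ⊗_A Ω̂_{A/k})` for every field `K ⊇ A/q`;
* `free_localizedModule_completedKaehler`: if `A_p` is a domain, `q ⊆ p` a minimal prime with
  `dim A/q = n` and `Ω̂_p` is generated by `n` elements then `Ω̂_p` is free of rank `n`.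
-/

set_option autoImplicit false
universe u

open IsLocalRing TensorProduct

namespace Groth.Agent.Lib.Helper24.RegUnram

section general

variable (R : Type u) [CommRing R] [IsDomain R] (M : Type u) [AddCommGroup M] [Module R M]
  (K : Type u) [Field K] [Algebra R K]

theorem free_of_le_rank (hK : Function.Injective (algebraMap R K)) (n : ℕ) (s : Fin n → M)
    (hs : Submodule.span R (Set.range s) = ⊤)
    (hrank : (n : Cardinal.{u}) ≤ Module.rank K (K ⊗[R] M)) :
    Module.Free R M ∧ Module.finrank R M = n := by
  classical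
  let φ : (Fin n → R) →ₗ[R] M := Fintype.linearCombination R s
  have hφ : Function.Surjective φ := by
    rw [← LinearMap.range_eq_top, Fintype.range_linearCombination, hs]
  haveI : Module.Finite R M := Module.Finite.of_surjective φ hφ
  let ψ : K ⊗[R] (Fin n → R) →ₗ[K] K ⊗[R] M := φ.baseChange K
  have hψ : Function.Surjective ψ := by
    have : (ψ : K ⊗[R] (Fin n → R) → K ⊗[R] M) = φ.lTensor K := by
      ext x; rfl
    rw [this]
    exact LinearMap.lTensor_surjective K hφ
  have h1 : Module.finrank K (K ⊗[R] (Fin n → R)) = n := by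
    rw [Module.finrank_baseChange, Module.finrank_fin_fun]
  have h2 : n ≤ Module.finrank K (K ⊗[R] M) := by
    have := Module.finrank_eq_rank K (K ⊗[R] M)
    rw [← this] at hrank
    exact_mod_cast hrank
  have h3 := LinearMap.finrank_range_add_finrank_ker ψ
  rw [LinearMap.range_eq_top.mpr hψ, finrank_top, h1] at h3
  have h4 : Module.finrank K (LinearMap.ker ψ) = 0 := by omega
  have hψinj : Function.Injective ψ := by
    rw [← LinearMap.ker_eq_bot]
    exact Submodule.finrank_eq_zero.mp h4
  have hφinj : Function.Injective φ := by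
    rw [injective_iff_map_eq_zero]
    intro x hx
    have h5 : ψ ((1 : K) ⊗ₜ[R] x) = 0 := by
      show (1 : K) ⊗ₜ[R] φ x = 0
      rw [hx, tmul_zero]
    have h6 : (1 : K) ⊗ₜ[R] x = 0 := hψinj (h5.trans (map_zero ψ).symm)
    have h7 := congrArg (TensorProduct.piScalarRight R K K (Fin n)) h6
    rw [map_zero, TensorProduct.piScalarRight_apply, TensorProduct.piScalarRightHom_tmul] at h7
    funext i
    have h8 := congrFun h7 i
    simp only [Pi.zero_apply] at h8
    rw [← Algebra.algebraMap_eq_smul_one] at h8
    exact hK (h8.trans (map_zero _).symm)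
  let e : (Fin n → R) ≃ₗ[R] M := LinearEquiv.ofBijective φ ⟨hφinj, hφ⟩
  refine ⟨Module.Free.of_equiv e, ?_⟩
  rw [← e.finrank_eq, Module.finrank_fin_fun]

end general

section main

variable (k A : Type u) [Field k] [CommRing A] [IsLocalRing A] [IsNoetherianRing A] [Algebra k A]
  [IsAdicComplete (maximalIdeal A) A] [Module.Finite k (ResidueField A)]

theorem le_rank_of_injective (q : Ideal A) [q.IsPrime] (K : Type u) [Field K]
    [Algebra (A ⧸ q) K] [Algebra A K] [IsScalarTower A (A ⧸ q) K] [Algebra k K]
    [IsScalarTower k A K] (hK : Function.Injective (algebraMap (A ⧸ q) K)) :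
    ∃ n : ℕ, ringKrullDim (A ⧸ q) ≤ n ∧ (n : Cardinal.{u}) ≤
      Module.rank K (K ⊗[A] AdicCompletion (maximalIdeal A) (Ω[A⁄k])) := by
  classical
  haveI : Nontrivial (A ⧸ q) := Ideal.Quotient.nontrivial_iff.mpr (Ideal.IsPrime.ne_top inferInstance)
  haveI : IsLocalRing (A ⧸ q) := .of_surjective' _ Ideal.Quotient.mk_surjective
  haveI : IsAdicComplete (maximalIdeal (A ⧸ q)) (A ⧸ q) := by
    rw [← IsLocalRing.map_maximalIdeal_of_surjective (Ideal.Quotient.mk q)
      Ideal.Quotient.mk_surjective]
    have h1 : IsAdicComplete (maximalIdeal A) (A ⧸ q) :=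
      Groth.Agent.S16981.isAdicComplete_of_finite (maximalIdeal A) (A ⧸ q)
    exact (IsAdicComplete.map_algebraMap_iff (S := A ⧸ q) (maximalIdeal A) (A ⧸ q)).mpr h1
  haveI : Module.Finite k (ResidueField (A ⧸ q)) := by
    have hle : maximalIdeal A ≤ (maximalIdeal (A ⧸ q)).comap (Ideal.Quotient.mkₐ k q) := by
      rw [← Ideal.map_le_iff_le_comap]
      exact le_of_eq (IsLocalRing.map_maximalIdeal_of_surjective (Ideal.Quotient.mk q)
        Ideal.Quotient.mk_surjective)
    let g : (A ⧸ maximalIdeal A) →ₐ[k] (A ⧸ q) ⧸ maximalIdeal (A ⧸ q) :=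
      Ideal.quotientMapₐ (maximalIdeal (A ⧸ q)) (Ideal.Quotient.mkₐ k q) hle
    have hg : Function.Surjective g := by
      intro z
      obtain ⟨z', rfl⟩ := Ideal.Quotient.mk_surjective z
      obtain ⟨a, rfl⟩ := Ideal.Quotient.mk_surjective z'
      exact ⟨Ideal.Quotient.mk _ a, rfl⟩
    haveI : Module.Finite k (A ⧸ maximalIdeal A) :=
      inferInstanceAs (Module.Finite k (ResidueField A))
    exact (Module.Finite.of_surjective g.toLinearMap hg :
      Module.Finite k ((A ⧸ q) ⧸ maximalIdeal (A ⧸ q)))
  obtain ⟨n, w, hwinj, hwloc, hwfin⟩ := Groth.Agent.S2460.result (k₀ := k) (A := A ⧸ q)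
  letI : Algebra (MvPowerSeries (Fin n) k) (A ⧸ q) := w.toRingHom.toAlgebra
  haveI : IsScalarTower k (MvPowerSeries (Fin n) k) (A ⧸ q) :=
    IsScalarTower.of_algebraMap_eq fun c => (w.commutes c).symm
  haveI : Module.Finite (MvPowerSeries (Fin n) k) (A ⧸ q) := hwfin
  have hG := Groth.Agent.Lib.Helper24.DerTower.good_of_finite k n (A ⧸ q) K hK hwinj
  refine ⟨n, ?_, Groth.Agent.Lib.Helper24.DerTower.le_rank_of_good k A (A ⧸ q) K
    Ideal.Quotient.mk_surjective n hG⟩
  refine (Groth.Agent.Lib.Helper24.SopFinite.ringKrullDim_le_of_isIntegral w.toRingHom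
    hwfin.to_isIntegral).trans ?_
  exact Groth.Agent.Lib.Helper24.PSDim.ringKrullDim_mvPowerSeries_field_le k n

theorem free_localizedModule_completedKaehler (p : Ideal A) [p.IsPrime]
    [IsDomain (Localization.AtPrime p)]
    (q : Ideal A) (hq : q ∈ minimalPrimes A) (hqp : q ≤ p) (n : ℕ)
    (hdim : ringKrullDim (A ⧸ q) = n)
    (s : Fin n → LocalizedModule p.primeCompl (AdicCompletion (maximalIdeal A) (Ω[A⁄k])))
    (hs : Submodule.span (Localization.AtPrime p) (Set.range s) = ⊤) :
    Module.Free (Localization.AtPrime p)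
        (LocalizedModule p.primeCompl (AdicCompletion (maximalIdeal A) (Ω[A⁄k]))) ∧
      Module.finrank (Localization.AtPrime p)
        (LocalizedModule p.primeCompl (AdicCompletion (maximalIdeal A) (Ω[A⁄k]))) = n := by
  haveI : q.IsPrime := hq.1.1
  have hle : RingHom.ker (algebraMap A (Localization.AtPrime p)) ≤ q := by
    intro a ha
    rw [RingHom.mem_ker, IsLocalization.map_eq_zero_iff p.primeCompl] at ha
    obtain ⟨m, hm⟩ := ha
    have h1 : (m : A) * a ∈ q := by rw [hm]; exact zero_mem _
    exact (Ideal.IsPrime.mem_or_mem inferInstance h1).resolve_left (fun h => m.2 (hqp h))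
  have hge : q ≤ RingHom.ker (algebraMap A (Localization.AtPrime p)) :=
    hq.2 ⟨RingHom.ker_isPrime _, bot_le⟩ hle
  have hkerK : ∀ a ∈ q, algebraMap A (FractionRing (Localization.AtPrime p)) a = 0 := by
    intro a ha
    rw [IsScalarTower.algebraMap_apply A (Localization.AtPrime p)
      (FractionRing (Localization.AtPrime p)), (RingHom.mem_ker.mp (hge ha)), map_zero]
  letI : Algebra (A ⧸ q) (FractionRing (Localization.AtPrime p)) :=
    (Ideal.Quotient.lift q (algebraMap A (FractionRing (Localization.AtPrime p))) hkerK).toAlgebra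
  haveI : IsScalarTower A (A ⧸ q) (FractionRing (Localization.AtPrime p)) :=
    IsScalarTower.of_algebraMap_eq fun a => rfl
  have hinjK : Function.Injective
      (algebraMap (A ⧸ q) (FractionRing (Localization.AtPrime p))) := by
    rw [injective_iff_map_eq_zero]
    intro x hx
    obtain ⟨a, rfl⟩ := Ideal.Quotient.mk_surjective x
    have h1 : algebraMap A (FractionRing (Localization.AtPrime p)) a = 0 := hx
    rw [IsScalarTower.algebraMap_apply A (Localization.AtPrime p)
      (FractionRing (Localization.AtPrime p))] at h1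
    have h0 := IsFractionRing.injective (Localization.AtPrime p)
      (FractionRing (Localization.AtPrime p)) (h1.trans (map_zero _).symm)
    exact Ideal.Quotient.eq_zero_iff_mem.mpr (hle (RingHom.mem_ker.mpr h0))
  obtain ⟨n', hn1, hn2⟩ :=
    le_rank_of_injective k A q (FractionRing (Localization.AtPrime p)) hinjK
  have hnn' : n ≤ n' := by
    rw [hdim] at hn1
    exact_mod_cast hn1
  let e1 := (AlgebraTensorModule.cancelBaseChange A (Localization.AtPrime p)
    (FractionRing (Localization.AtPrime p)) (FractionRing (Localization.AtPrime p))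
    (AdicCompletion (maximalIdeal A) (Ω[A⁄k]))).symm
  let e2 : FractionRing (Localization.AtPrime p) ⊗[Localization.AtPrime p]
      (Localization.AtPrime p ⊗[A] AdicCompletion (maximalIdeal A) (Ω[A⁄k]))
        ≃ₗ[FractionRing (Localization.AtPrime p)]
      FractionRing (Localization.AtPrime p) ⊗[Localization.AtPrime p]
        LocalizedModule p.primeCompl (AdicCompletion (maximalIdeal A) (Ω[A⁄k])) :=
    AlgebraTensorModule.congr (LinearEquiv.refl (FractionRing (Localization.AtPrime p))
      (FractionRing (Localization.AtPrime p)))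
      (LocalizedModule.equivTensorProduct p.primeCompl
        (AdicCompletion (maximalIdeal A) (Ω[A⁄k]))).symm
  have hrank : (n : Cardinal.{u}) ≤ Module.rank (FractionRing (Localization.AtPrime p))
      (FractionRing (Localization.AtPrime p) ⊗[Localization.AtPrime p]
        LocalizedModule p.primeCompl (AdicCompletion (maximalIdeal A) (Ω[A⁄k]))) := by
    rw [← (e1.trans e2).rank_eq]
    exact (Nat.cast_le.mpr hnn').trans hn2
  exact free_of_le_rank (Localization.AtPrime p) _ (FractionRing (Localization.AtPrime p))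
    (IsFractionRing.injective _ _) n s hs hrank

end main

end Groth.Agent.Lib.Helper24.RegUnram
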