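import Mathlib
import Groth.Agent.Lib.Helper24.RegUnram2
import Groth.Agent.Lib.Helper24.SmoothRegular
import Groth.Agent.Lib.Helper24.PSDim
import Groth.Agent.LibObs29d

/-!
# Regularity at unramified primes (helper24), part 5: geometric regularity

* `isRegularLocalRing_tensor_of_finite`: `P` a regular local `k`-algebra with a `k`-algebra
  retraction `ε : P → k` (so the residue field is `k`), `k'` a finite field extension of `k`:
  `P ⊗_k k'` is a regular local ring;
* `isRegularRing_tensor_mvPowerSeries`: `k' ⊗_k k[[T₁..T_n]]` is a regular ring;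
* `isRegularRing_of_isLocalization`: localizations of regular rings are regular rings;
* `isGeometricallyRegular_atPrime`: if `A` is finite over `k[[T₁..T_n]]` and étale over it at the
  prime `p`, then `A_p` is geometrically regular over `k`.
-/

set_option autoImplicit false
universe u

open IsLocalRing TensorProduct

namespace Groth.Agent.Lib.Helper24.RegUnram

section tensor

variable (k : Type u) [Field k] (P : Type u) [CommRing P] [Algebra k P] [IsRegularLocalRing P]
  (k' : Type u) [Field k'] [Algebra k k'] [Module.Finite k k']

theorem isRegularLocalRing_tensor_of_finite (ε : P →ₐ[k] k) :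
    IsRegularLocalRing (P ⊗[k] k') := by
  have hε : Function.Surjective ε := fun c => ⟨algebraMap k P c, by simp⟩
  have hkerε : RingHom.ker ε = maximalIdeal P :=
    IsLocalRing.eq_maximalIdeal (RingHom.ker_isMaximal_of_surjective ε hε)
  -- the quotient map onto `k'`
  let π : P ⊗[k] k' →ₐ[k] k' :=
    (Algebra.TensorProduct.lid k k').toAlgHom.comp
      (Algebra.TensorProduct.map ε (AlgHom.id k k'))
  have hπ : Function.Surjective π := by
    intro c
    refine ⟨(1 : P) ⊗ₜ[k] c, ?_⟩
    simp [π]
  have hkerπ : RingHom.ker π = (maximalIdeal P).map (algebraMap P (P ⊗[k] k')) := by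
    have h1 : RingHom.ker π = RingHom.ker (Algebra.TensorProduct.map ε (AlgHom.id k k')) := by
      ext x
      simp only [RingHom.mem_ker, π, AlgHom.comp_apply]
      exact (Algebra.TensorProduct.lid k k').map_eq_zero_iff
    rw [h1, Algebra.TensorProduct.rTensor_ker ε hε, hkerε]
    rfl
  have hImax : ((maximalIdeal P).map (algebraMap P (P ⊗[k] k'))).IsMaximal := by
    rw [← hkerπ]
    exact RingHom.ker_isMaximal_of_surjective π hπ
  haveI : IsLocalRing (P ⊗[k] k') := by
    refine IsLocalRing.of_unique_max_ideal ⟨_, hImax, fun 𝔫 h𝔫 => ?_⟩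
    haveI := h𝔫
    have h2 : (𝔫.comap (algebraMap P (P ⊗[k] k'))).IsMaximal :=
      Ideal.isMaximal_comap_of_isIntegral_of_isMaximal 𝔫
    have h3 : 𝔫.comap (algebraMap P (P ⊗[k] k')) = maximalIdeal P :=
      IsLocalRing.eq_maximalIdeal h2
    have h4 : (maximalIdeal P).map (algebraMap P (P ⊗[k] k')) ≤ 𝔫 := by
      rw [← h3]
      exact Ideal.map_comap_le
    exact (hImax.eq_of_le h𝔫.ne_top h4).symm
  have hmax : maximalIdeal (P ⊗[k] k') = (maximalIdeal P).map (algebraMap P (P ⊗[k] k')) :=
    (IsLocalRing.eq_maximalIdeal hImax).symm
  haveI : IsNoetherianRing (P ⊗[k] k') := Algebra.FiniteType.isNoetherianRing P _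
  apply IsRegularLocalRing.of_spanFinrank_maximalIdeal_le
  have hinj : Function.Injective (algebraMap P (P ⊗[k] k')) :=
    Algebra.TensorProduct.includeLeft_injective (S := P) (algebraMap k k').injective
  have h5 : ringKrullDim P ≤ ringKrullDim (P ⊗[k] k') :=
    ringKrullDim_le_of_isIntegral_of_injective _ Algebra.IsIntegral.isIntegral hinj
  refine le_trans ?_ h5
  rw [← IsRegularLocalRing.spanFinrank_maximalIdeal (R := P), hmax]
  exact_mod_cast spanFinrank_map_le _ _ (IsNoetherian.noetherian _)

end tensor

section ps

variable (k : Type u) [Field k] (n : ℕ) (k' : Type u) [Field k'] [Algebra k k'] [Module.Finite k k']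

theorem isRegularRing_tensor_mvPowerSeries :
    IsRegularRing (k' ⊗[k] MvPowerSeries (Fin n) k) := by
  haveI := Groth.Agent.LibObs29.isRegularLocalRing_mvPowerSeries k n
  let ε : MvPowerSeries (Fin n) k →ₐ[k] k :=
    { MvPowerSeries.constantCoeff (σ := Fin n) (R := k) with
      commutes' := fun c => by simp [MvPowerSeries.algebraMap_apply] }
  haveI := isRegularLocalRing_tensor_of_finite k (MvPowerSeries (Fin n) k) k' ε
  haveI : IsRegularRing (MvPowerSeries (Fin n) k ⊗[k] k') :=
    Groth.Agent.Lib.Helper24.SmoothRegularIff.isRegularRing_of_isRegularLocalRing _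
  exact IsRegularRing.of_ringEquiv
    (Algebra.TensorProduct.comm k (MvPowerSeries (Fin n) k) k').toRingEquiv

end ps

theorem isRegularRing_of_isLocalization (R S : Type u) [CommRing R] [CommRing S] [Algebra R S]
    (M : Submonoid R) [IsLocalization M S] [IsRegularRing R] : IsRegularRing S := by
  haveI : IsNoetherianRing S := IsLocalization.isNoetherianRing M S inferInstance
  rw [isRegularRing_iff]
  intro Q' hQ'
  haveI h1 : IsLocalization.AtPrime (Localization.AtPrime Q') (Q'.comap (algebraMap R S)) :=
    IsLocalization.isLocalization_isLocalization_atPrime_isLocalization M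
      (Localization.AtPrime Q') Q'
  exact IsRegularLocalRing.of_ringEquiv
    (IsLocalization.algEquiv (Q'.comap (algebraMap R S)).primeCompl
      (Localization.AtPrime (Q'.comap (algebraMap R S))) (Localization.AtPrime Q')).toRingEquiv

section main

variable (k : Type u) [Field k] (n : ℕ) (A : Type u) [CommRing A] [Algebra k A]
  [Algebra (MvPowerSeries (Fin n) k) A] [IsScalarTower k (MvPowerSeries (Fin n) k) A]
  [Module.Finite (MvPowerSeries (Fin n) k) A] (p : Ideal A) [p.IsPrime]

theorem isGeometricallyRegular_atPrime [Algebra.IsEtaleAt (MvPowerSeries (Fin n) k) p] :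
    CAlg.IsGeometricallyRegular k (Localization.AtPrime p) := by
  intro k' _ _ hfin
  haveI := hfin
  haveI : Algebra.FinitePresentation (MvPowerSeries (Fin n) k) A :=
    Algebra.FinitePresentation.of_finiteType.mp inferInstance
  obtain ⟨f, hf, hét⟩ := Algebra.exists_etale_of_isEtaleAt (R := MvPowerSeries (Fin n) k) p
  haveI := hét
  have h1 : IsRegularRing (k' ⊗[k] MvPowerSeries (Fin n) k) :=
    isRegularRing_tensor_mvPowerSeries k n k'
  haveI h2 : IsRegularRing (k' ⊗[k] Localization.Away f) :=
    Groth.Agent.Lib.Helper24.SmoothRegular.isRegularRing_tensor_of_smooth k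
      (MvPowerSeries (Fin n) k) (Localization.Away f) k' h1
  have hle : Submonoid.powers f ≤ p.primeCompl := by
    rintro _ ⟨m, rfl⟩
    exact fun h => hf (Ideal.IsPrime.mem_of_pow_mem inferInstance _ h)
  letI : Algebra (Localization.Away f) (Localization.AtPrime p) :=
    IsLocalization.localizationAlgebraOfSubmonoidLe _ _ (Submonoid.powers f) p.primeCompl hle
  haveI : IsScalarTower A (Localization.Away f) (Localization.AtPrime p) :=
    IsLocalization.localization_isScalarTower_of_submonoid_le _ _ (Submonoid.powers f)
      p.primeCompl hle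
  haveI : IsLocalization (Submonoid.map (algebraMap A (Localization.Away f)) p.primeCompl)
      (Localization.AtPrime p) :=
    IsLocalization.isLocalization_of_submonoid_le _ _ (Submonoid.powers f) p.primeCompl hle
  haveI : IsScalarTower k (Localization.Away f) (Localization.AtPrime p) :=
    IsScalarTower.of_algebraMap_eq' (by
      rw [IsScalarTower.algebraMap_eq k A (Localization.AtPrime p),
        IsScalarTower.algebraMap_eq A (Localization.Away f) (Localization.AtPrime p),
        RingHom.comp_assoc, ← IsScalarTower.algebraMap_eq k A (Localization.Away f)])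
  letI : Algebra (k' ⊗[k] Localization.Away f) (k' ⊗[k] Localization.AtPrime p) :=
    (Algebra.TensorProduct.map (AlgHom.id k k')
      (IsScalarTower.toAlgHom k (Localization.Away f) (Localization.AtPrime p))).toAlgebra
  haveI : IsScalarTower k' (k' ⊗[k] Localization.Away f) (k' ⊗[k] Localization.AtPrime p) :=
    .of_algebraMap_eq <| by
      intro x
      show _ = (Algebra.TensorProduct.map (AlgHom.id k k')
        (IsScalarTower.toAlgHom k (Localization.Away f) (Localization.AtPrime p)))
          (algebraMap k' (k' ⊗[k] Localization.Away f) x)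
      simp [Algebra.TensorProduct.algebraMap_apply]
  haveI := IsLocalization.tensorProduct_tensorProduct_right k k'
    (Submonoid.map (algebraMap A (Localization.Away f)) p.primeCompl) (Localization.AtPrime p)
    (by ext; simp [RingHom.algebraMap_toAlgebra])
  exact isRegularRing_of_isLocalization (k' ⊗[k] Localization.Away f)
    (k' ⊗[k] Localization.AtPrime p)
    ((Submonoid.map (algebraMap A (Localization.Away f)) p.primeCompl).map
      (Algebra.TensorProduct.includeRight (R := k) (A := k')))

end main

end Groth.Agent.Lib.Helper24.RegUnram
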