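import Groth.Agent.Lib.Helper24.RelAssBC5

/-!
# Base change of the relative assassin (helper24), part 6: the main theorem

* `fibCond_iff_maximal`: the fibre condition of `isAssPoint_fibre_baseChange_iff` means that the point
  is maximal in its fibre of `fibMap`.
* `isAssPoint_fibre_baseChange_iff_maximal`, `mem_relAss_baseChange_iff` (EGA IV 4.2.? / Stacks 05DC-type):
  base change of the relative assassin along an arbitrary morphism.
-/

set_option autoImplicit false
universe u

namespace Groth.Agent.Lib.Helper24.RelAssBC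

open AlgebraicGeometry CategoryTheory CategoryTheory.Limits IsLocalRing TensorProduct

section general

/-- maximal points of a fibre, as points of the source. -/
theorem maximal_fiberι_iff {Z' Z : Scheme.{u}} (π : Z' ⟶ Z) (z : Z) (t : π.fiber z) :
    (∀ w : π.fiber z, w ⤳ t → w = t) ↔
      ∀ w : Z', π w = z → w ⤳ π.fiberι z t → w = π.fiberι z t := by
  constructor
  · intro hmax w hw hwt
    have hwr : w ∈ Set.range (π.fiberι z) := by
      rw [Scheme.Hom.range_fiberι]
      exact hw
    obtain ⟨w₀, rfl⟩ := hwr
    have h1 : w₀ ⤳ t := (π.fiberι z).isEmbedding.isInducing.specializes_iff.mp hwt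
    rw [hmax w₀ h1]
  · intro hmax w hw
    have h1 : π.fiberι z w ⤳ π.fiberι z t := hw.map (π.fiberι z).continuous
    have h2 : π (π.fiberι z w) = z := by
      have : π.fiberι z w ∈ Set.range (π.fiberι z) := ⟨w, rfl⟩
      rw [Scheme.Hom.range_fiberι] at this
      exact this
    exact (π.fiberι z).isEmbedding.injective (hmax _ h2 h1)

/-- every point of a locally Noetherian scheme has a maximal generization. -/
theorem exists_maximal_generization' {T : Scheme.{u}} [IsLocallyNoetherian T] (t : T) :
    ∃ ξ : T, ξ ⤳ t ∧ ∀ w : T, w ⤳ ξ → w = ξ := by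
  have hcoh : Coh.IsCoh (Coh.structureModule T) :=
    Groth.Agent.Lib.helper16.SpFun.isCoh_structureModule T
  have hnt : ∀ w : T, Nontrivial ((Coh.structureModule T).presheaf.stalk w) := by
    intro w
    obtain ⟨e⟩ := Groth.Agent.Lib.Helper24.QGorSk.nonempty_stalk_structureModule_equiv (X := T) w
    exact e.toEquiv.nontrivial
  obtain ⟨ξ, h1, -, h3⟩ :=
    Groth.Agent.Lib.helper16.LenSemi.exists_maximal_generization _ hcoh (hnt t)
  exact ⟨ξ, h1, fun w hw => h3 w (hnt w) hw⟩

end general

section main

variable {P X Y Z : Scheme.{u}} {fst : P ⟶ X} {snd : P ⟶ Y} {f : X ⟶ Z} {g : Y ⟶ Z}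
  (h : IsPullback fst snd f g) (y : Y) [LocallyOfFiniteType f]

theorem fibCond_fiberι_iff_maximal (z : f.fiber (g y)) (t : (fibMap h y).fiber z) :
    IsAssociatedPrime (maximalIdeal ((snd.fiber y).presheaf.stalk ((fibMap h y).fiberι z t)))
        ((snd.fiber y).presheaf.stalk ((fibMap h y).fiberι z t) ⧸
          (maximalIdeal ((f.fiber (g y)).presheaf.stalk
            (fibMap h y ((fibMap h y).fiberι z t)))).map
            ((fibMap h y).stalkMap ((fibMap h y).fiberι z t)).hom •
          (⊤ : Submodule ((snd.fiber y).presheaf.stalk ((fibMap h y).fiberι z t))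
            ((snd.fiber y).presheaf.stalk ((fibMap h y).fiberι z t)))) ↔
      ∀ w : snd.fiber y, fibMap h y w = z → w ⤳ (fibMap h y).fiberι z t →
        w = (fibMap h y).fiberι z t := by
  haveI := isLocallyNoetherian_fibre_fibMap h y z
  rw [isAssociatedPrime_fibRing_iff,
    isAssPoint_structureModule_iff_maximal (noEmbedded_fibre_fibMap h y z)]
  exact maximal_fiberι_iff (fibMap h y) z t

theorem fibCond_iff_maximal (z' : snd.fiber y) :
    IsAssociatedPrime (maximalIdeal ((snd.fiber y).presheaf.stalk z'))
        ((snd.fiber y).presheaf.stalk z' ⧸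
          (maximalIdeal ((f.fiber (g y)).presheaf.stalk (fibMap h y z'))).map
            ((fibMap h y).stalkMap z').hom •
          (⊤ : Submodule ((snd.fiber y).presheaf.stalk z') ((snd.fiber y).presheaf.stalk z'))) ↔
      ∀ w : snd.fiber y, fibMap h y w = fibMap h y z' → w ⤳ z' → w = z' := by
  have h1 := fibCond_fiberι_iff_maximal h y (fibMap h y z') ((fibMap h y).asFiber z')
  rw [(fibMap h y).fiberι_asFiber z'] at h1
  exact h1

/-- **Base change of associated points of fibres**: a point `z'` of the fibre of `snd` over `y` is an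
associated point of the restriction of `fst^* F` iff its image in `X` is in the relative assassin of
`F` and `z'` is maximal among the points of the fibre with the same image in the fibre of `f`. -/
theorem isAssPoint_fibre_baseChange_iff_maximal (F : X.Modules) [F.IsQuasicoherent]
    (z' : snd.fiber y) :
    Curv2.IsAssPoint
        ((Scheme.Modules.pullback (snd.fiberι y)).obj ((Scheme.Modules.pullback fst).obj F)) z' ↔
      fst (snd.fiberι y z') ∈ MoreMor.relAss f F ∧
        ∀ w : snd.fiber y, fibMap h y w = fibMap h y z' → w ⤳ z' → w = z' := by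
  rw [isAssPoint_fibre_baseChange_iff h y F z', fibCond_iff_maximal h y z']

omit [LocallyOfFiniteType f] in
/-- the maximality condition, in terms of points of `P`. -/
theorem maximal_fibre_iff (z' : snd.fiber y) :
    (∀ w : snd.fiber y, fibMap h y w = fibMap h y z' → w ⤳ z' → w = z') ↔
      ∀ x'' : P, snd x'' = y → fst x'' = fst (snd.fiberι y z') → x'' ⤳ snd.fiberι y z' →
        x'' = snd.fiberι y z' := by
  have hinj := (f.fiberι (g y)).isEmbedding.injective
  constructor
  · intro hmax x'' h1 h2 h3
    have hr : x'' ∈ Set.range (snd.fiberι y) := by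
      rw [Scheme.Hom.range_fiberι]
      exact h1
    obtain ⟨w, rfl⟩ := hr
    have e1 : fibMap h y w = fibMap h y z' := by
      apply hinj
      rw [fibMap_fiberι_apply, fibMap_fiberι_apply, h2]
    have e2 : w ⤳ z' := (snd.fiberι y).isEmbedding.isInducing.specializes_iff.mp h3
    rw [hmax w e1 e2]
  · intro hmax w h1 h2
    have e0 : snd (snd.fiberι y w) = y := by
      have : snd.fiberι y w ∈ Set.range (snd.fiberι y) := ⟨w, rfl⟩
      rw [Scheme.Hom.range_fiberι] at this
      exact this
    have e1 : fst (snd.fiberι y w) = fst (snd.fiberι y z') := by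
      rw [← fibMap_fiberι_apply h, h1, fibMap_fiberι_apply]
    have e2 : snd.fiberι y w ⤳ snd.fiberι y z' := h2.map (snd.fiberι y).continuous
    exact (snd.fiberι y).isEmbedding.injective (hmax _ e0 e1 e2)

include h in
/-- **Base change of the relative assassin** (stalk-level form). -/
theorem mem_relAss_baseChange_iff (F : X.Modules) [F.IsQuasicoherent] (x' : P) :
    x' ∈ MoreMor.relAss snd ((Scheme.Modules.pullback fst).obj F) ↔
      fst x' ∈ MoreMor.relAss f F ∧
        ∀ x'' : P, snd x'' = snd x' → fst x'' = fst x' → x'' ⤳ x' → x'' = x' := by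
  haveI : ((Scheme.Modules.pullback fst).obj F).IsQuasicoherent :=
    Groth.Agent.Lib.helper16.QCohPullback.isQuasicoherent_pullback _ F
  rw [← isAssPoint_asFiber_iff, isAssPoint_fibre_baseChange_iff_maximal h (snd x') F,
    maximal_fibre_iff h (snd x'), snd.fiberι_asFiber x']

include h in
/-- every point of the relative assassin lifts to the relative assassin of a base change, over any
prescribed point of the new base. -/
theorem exists_mem_relAss_baseChange (F : X.Modules) [F.IsQuasicoherent] (x : X)
    (hx : x ∈ MoreMor.relAss f F) (y : Y) (hxy : f x = g y) :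
    ∃ x' : P, fst x' = x ∧ snd x' = y ∧
      x' ∈ MoreMor.relAss snd ((Scheme.Modules.pullback fst).obj F) := by
  obtain ⟨x'₀, h1, h2⟩ := Scheme.exists_preimage_of_isPullback h x y hxy
  have hr : x'₀ ∈ Set.range (snd.fiberι y) := by
    rw [Scheme.Hom.range_fiberι]
    exact h2
  obtain ⟨z'₀, hz'₀⟩ := hr
  haveI := isLocallyNoetherian_fibre_fibMap h y (fibMap h y z'₀)
  obtain ⟨t₁, -, hmax⟩ := exists_maximal_generization' ((fibMap h y).asFiber z'₀)
  have hπ : fibMap h y ((fibMap h y).fiberι (fibMap h y z'₀) t₁) = fibMap h y z'₀ := by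
    have : (fibMap h y).fiberι (fibMap h y z'₀) t₁ ∈
        Set.range ((fibMap h y).fiberι (fibMap h y z'₀)) := ⟨t₁, rfl⟩
    rw [Scheme.Hom.range_fiberι] at this
    exact this
  have e1 : fst (snd.fiberι y ((fibMap h y).fiberι (fibMap h y z'₀) t₁)) = x := by
    rw [← fibMap_fiberι_apply h, hπ, fibMap_fiberι_apply, hz'₀, h1]
  have e2 : snd (snd.fiberι y ((fibMap h y).fiberι (fibMap h y z'₀) t₁)) = y := by
    have : snd.fiberι y ((fibMap h y).fiberι (fibMap h y z'₀) t₁) ∈
        Set.range (snd.fiberι y) := ⟨_, rfl⟩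
    rw [Scheme.Hom.range_fiberι] at this
    exact this
  refine ⟨snd.fiberι y ((fibMap h y).fiberι (fibMap h y z'₀) t₁), e1, e2, ?_⟩
  rw [mem_relAss_baseChange_iff h F, e1]
  refine ⟨hx, ?_⟩
  have m1 := (maximal_fiberι_iff (fibMap h y) (fibMap h y z'₀) t₁).mp hmax
  have m2 := (maximal_fibre_iff h y ((fibMap h y).fiberι (fibMap h y z'₀) t₁)).mp
    (fun w hw hw' => m1 w (hw.trans hπ) hw')
  intro x'' a1 a2 a3
  exact m2 x'' (a1.trans e2) (a2.trans e1.symm) a3

end main

end Groth.Agent.Lib.Helper24.RelAssBC
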