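import Groth.Agent.Lib.Helper11.GenFree9
import Groth.Agent.Lib.Helper11.FPExt1

/-!
# Generic finite presentation, bridging lemmas (helper24)

* `finitePresentation_tensor_of_away`: if `M_{a'}` is finitely presented over `S_{a'}` (standard
  localizations), then `T' ⊗_S M` is finitely presented over every localization `T'` of `S` at `a'`.
* `finitePresentation_includeRight`: `R_a → S ⊗_R R_a` is of finite presentation when
  `R_a → R_a ⊗_R S` is.
* `exists_generic_fp`: packaged generic finite presentation over a domain.
-/

set_option autoImplicit false
universe u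

namespace Groth.Agent.Lib.Helper24.RelAssGen

open TensorProduct

section alg

theorem finitePresentation_tensor_of_away {S : Type u} [CommRing S] (a' : S) (M : Type u)
    [AddCommGroup M] [Module S M]
    (h4 : Module.FinitePresentation (Localization.Away a')
      (LocalizedModule (Submonoid.powers a') M))
    (T' : Type u) [CommRing T'] [Algebra S T'] [IsLocalization.Away a' T'] :
    Module.FinitePresentation T' (T' ⊗[S] M) := by
  let σ : Localization.Away a' ≃ₐ[S] T' := IsLocalization.algEquiv (Submonoid.powers a') _ _
  haveI hloc : IsLocalizedModule (Submonoid.powers a') (TensorProduct.mk S T' M 1) :=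
    (isLocalizedModule_iff_isBaseChange (Submonoid.powers a') T' _).mpr
      (TensorProduct.isBaseChange S M T')
  let e : LocalizedModule (Submonoid.powers a') M ≃ₗ[S] T' ⊗[S] M :=
    IsLocalizedModule.iso (Submonoid.powers a') (TensorProduct.mk S T' M 1)
  have hsemi : ∀ (r : Localization.Away a') (m : LocalizedModule (Submonoid.powers a') M),
      e (r • m) = σ r • e m := by
    intro r m
    obtain ⟨s, t, rfl⟩ := IsLocalization.exists_mk'_eq (Submonoid.powers a') r
    have hinj := IsLocalizedModule.smul_injective (TensorProduct.mk S T' M 1) t
    apply hinj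
    have h1 : (t : S) • (IsLocalization.mk' (Localization.Away a') s t • m) = s • m := by
      rw [← algebraMap_smul (Localization.Away a') (t : S), smul_smul,
        IsLocalization.mk'_spec', algebraMap_smul]
    have h2 : (t : S) • (σ (IsLocalization.mk' (Localization.Away a') s t) • e m) = s • e m := by
      rw [← algebraMap_smul T' (t : S), smul_smul, ← σ.commutes (t : S), ← map_mul,
        IsLocalization.mk'_spec', σ.commutes, algebraMap_smul]
    change (t : S) • e (_ • m) = (t : S) • (_ • e m)
    rw [← LinearEquiv.map_smul e (t : S), h1, h2, LinearEquiv.map_smul]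
  exact Groth.Agent.Lib.helper11.FPExt.fp_of_ringEquiv_semilinear σ.toRingEquiv e.toAddEquiv hsemi

theorem finitePresentation_includeRight {R : Type u} [CommRing R] (S : Type u) [CommRing S]
    [Algebra R S] (Ra : Type u) [CommRing Ra] [Algebra R Ra]
    (h3 : Algebra.FinitePresentation Ra (Ra ⊗[R] S)) :
    (Algebra.TensorProduct.includeRight.toRingHom : Ra →+* S ⊗[R] Ra).FinitePresentation := by
  have h : (algebraMap Ra (Ra ⊗[R] S)).FinitePresentation :=
    RingHom.finitePresentation_algebraMap.mpr h3
  have h' := RingHom.finitePresentation_respectsIso.1 (algebraMap Ra (Ra ⊗[R] S))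
    (Algebra.TensorProduct.comm R Ra S).toRingEquiv h
  convert h' using 1
  ext x
  simp

end alg

end Groth.Agent.Lib.Helper24.RelAssGen
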