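import Groth.Agent.Lib.Helper24.RelAssGen9

/-!
# Generic points of fibres of the closure of a point of the relative assassin: globalization
(helper24)

* `genAss_relAss` and `generic_points_fibres_in_relAss` (S1446).
-/

set_option autoImplicit false
universe u

namespace Groth.Agent.Lib.Helper24.RelAssGen

open AlgebraicGeometry CategoryTheory CategoryTheory.Limits TensorProduct

/-- transfer along a base change by a monomorphism which is a topological embedding. -/
theorem genAss_of_baseChange {P X Y Z : Scheme.{u}} {fst : P ⟶ X} {snd : P ⟶ Y} {f : X ⟶ Z}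
    {g : Y ⟶ Z} (h : IsPullback fst snd f g) [LocallyOfFiniteType f] [Mono g]
    (hemb : Topology.IsEmbedding fst) (F : X.Modules) [F.IsQuasicoherent] (ξ' : P)
    (O : Set X) (hO : IsOpen O) (hξO : fst ξ' ∈ O) (hOr : closure {fst ξ'} ∩ O ⊆ Set.range fst)
    (hP : GenAss (fun x : P => snd x)
      (MoreMor.relAss snd ((Scheme.Modules.pullback fst).obj F)) ξ') :
    GenAss (fun x : X => f x) (MoreMor.relAss f F) (fst ξ') := by
  refine GenAss.transfer (fun x : P => fst x) hemb.isInducing hemb.injective (fun x : X => f x)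
    (fun x : P => snd x) (fun y : Y => g y) ?_ _ _ ?_ ξ' O hO hξO hOr hP
  · intro x'
    have := congrArg (fun φ => φ.base x') h.w
    simpa using this
  · intro x' hx'
    exact (Groth.Agent.Lib.Helper24.RelAssBC.mem_relAss_baseChange_iff_of_mono h F x').mp hx'

/-- Step A: affine source, affine integral target, `ξ` over the generic point. -/
theorem genAss_affine_integral {X Y : Scheme.{u}} [IsAffine X] [IsAffine Y] [IsIntegral Y]
    (f : X ⟶ Y) [LocallyOfFiniteType f] (F : X.Modules) (hF : Coh.IsCoh F) (ξ : X)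
    (hξ : ξ ∈ MoreMor.relAss f F) (hfξ : f ξ = genericPoint Y) :
    GenAss (fun x : X => f x) (MoreMor.relAss f F) ξ := by
  haveI : F.IsQuasicoherent := hF.1
  obtain ⟨X', Y', fst, g, k, hsq, hk, hX', hY', hYi, hg, hG⟩ := exists_fp_square f F hF
  haveI := hk
  haveI := hX'
  haveI := hY'
  haveI := hYi
  haveI := hg
  have hkη : k (genericPoint Y') = genericPoint Y := genericPoint_eq_of_isOpenImmersion k
  obtain ⟨ξ', hξ'1, hξ'2⟩ := Scheme.exists_preimage_of_isPullback hsq ξ (genericPoint Y')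
    (by rw [hfξ, hkη])
  haveI : IsOpenImmersion fst := MorphismProperty.of_isPullback hsq.flip hk
  have hξ'ass : ξ' ∈ MoreMor.relAss g ((Scheme.Modules.pullback fst).obj F) := by
    rw [Groth.Agent.Lib.Helper24.RelAssBC.mem_relAss_baseChange_iff_of_mono hsq F ξ', hξ'1]
    exact hξ
  have h1 := genAss_fp g _ hG ξ' hξ'ass hξ'2
  have h2 := genAss_of_baseChange hsq fst.isOpenEmbedding.isEmbedding F ξ' (Set.range fst)
    fst.isOpenEmbedding.isOpen_range ⟨ξ', rfl⟩ Set.inter_subset_right h1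
  rwa [hξ'1] at h2

/-- Step B: affine source, target the spectrum of a ring. -/
theorem genAss_affine_Spec {X : Scheme.{u}} [IsAffine X] {R : CommRingCat.{u}} (f : X ⟶ Spec R)
    [LocallyOfFiniteType f] (F : X.Modules) (hF : Coh.IsCoh F) (ξ : X)
    (hξ : ξ ∈ MoreMor.relAss f F) :
    GenAss (fun x : X => f x) (MoreMor.relAss f F) ξ := by
  haveI : F.IsQuasicoherent := hF.1
  obtain ⟨y, hy⟩ : ∃ y : PrimeSpectrum R, y = f ξ := ⟨f ξ, rfl⟩
  let κ : Spec (CommRingCat.of (R ⧸ y.asIdeal)) ⟶ Spec R :=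
    Spec.map (CommRingCat.ofHom (Ideal.Quotient.mk y.asIdeal))
  haveI : IsClosedImmersion κ :=
    IsClosedImmersion.spec_of_surjective _ Ideal.Quotient.mk_surjective
  haveI : IsDomain (R ⧸ y.asIdeal) := Ideal.Quotient.isDomain _
  haveI : IsIntegral (Spec (CommRingCat.of (R ⧸ y.asIdeal))) := inferInstance
  have hκη : κ (genericPoint _) = f ξ := by
    rw [genericPoint_eq_bot_of_affine, ← hy]
    apply PrimeSpectrum.ext
    change Ideal.comap (Ideal.Quotient.mk y.asIdeal) ⊥ = y.asIdeal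
    rw [← RingHom.ker_eq_comap_bot, Ideal.mk_ker]
  have hsq : IsPullback (pullback.fst f κ) (pullback.snd f κ) f κ := IsPullback.of_hasPullback f κ
  obtain ⟨ξ', hξ'1, hξ'2⟩ := Scheme.exists_preimage_of_isPullback hsq ξ (genericPoint _) hκη.symm
  have hF' : Coh.IsCoh ((Scheme.Modules.pullback (pullback.fst f κ)).obj F) :=
    ⟨Groth.Agent.Lib.helper16.QCohPullback.isQuasicoherent_pullback _ F,
      Groth.Agent.Lib.helper16.QCohPullback2.isFiniteType_pullback _ F hF.2⟩
  have hξ'ass : ξ' ∈ MoreMor.relAss (pullback.snd f κ)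
      ((Scheme.Modules.pullback (pullback.fst f κ)).obj F) := by
    rw [Groth.Agent.Lib.Helper24.RelAssBC.mem_relAss_baseChange_iff_of_mono hsq F ξ', hξ'1]
    exact hξ
  have h1 := genAss_affine_integral (pullback.snd f κ) _ hF' ξ' hξ'ass hξ'2
  have hcl : closure {pullback.fst f κ ξ'} ∩ Set.univ ⊆ Set.range (pullback.fst f κ) := by
    rw [Set.inter_univ, Scheme.Pullback.range_fst, hξ'1]
    apply closure_minimal
    · rw [Set.singleton_subset_iff]
      exact ⟨genericPoint _, hκη⟩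
    · exact κ.isClosedEmbedding.isClosed_range.preimage f.continuous
  have h2 := genAss_of_baseChange hsq (pullback.fst f κ).isClosedEmbedding.isEmbedding F ξ'
    Set.univ isOpen_univ trivial hcl h1
  rwa [hξ'1] at h2

/-- Step B': affine source and target. -/
theorem genAss_affine {X Y : Scheme.{u}} [IsAffine X] [IsAffine Y] (f : X ⟶ Y)
    [LocallyOfFiniteType f] (F : X.Modules) (hF : Coh.IsCoh F) (ξ : X)
    (hξ : ξ ∈ MoreMor.relAss f F) :
    GenAss (fun x : X => f x) (MoreMor.relAss f F) ξ := by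
  have hR3 := Groth.Agent.Lib.Helper24.RelAssBC.relAss_comp_openImmersion_target f Y.isoSpec.hom F
  have h1 := genAss_affine_Spec (f ≫ Y.isoSpec.hom) F hF ξ (by rw [hR3]; exact hξ)
  rw [hR3] at h1
  obtain ⟨G, hG, hξG, hV⟩ := h1
  refine ⟨G, hG, hξG, fun x hx hmx => hV x hx fun t ht hft htx => hmx t ht ?_ htx⟩
  have hinj : Function.Injective Y.isoSpec.hom := Y.isoSpec.hom.isOpenEmbedding.injective
  apply hinj
  simpa using hft

/-- **S1446**, pointwise form. -/
theorem genAss_relAss {X S : Scheme.{u}} (f : X ⟶ S) [LocallyOfFiniteType f]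
    (F : X.Modules) (hF : Coh.IsCoh F) (ξ : X) (hξ : ξ ∈ MoreMor.relAss f F) :
    GenAss (fun x : X => f x) (MoreMor.relAss f F) ξ := by
  haveI : F.IsQuasicoherent := hF.1
  obtain ⟨_, ⟨S0, hS0 : IsAffineOpen S0, rfl⟩, hfξS0, -⟩ :=
    S.isBasis_affineOpens.exists_subset_of_mem_open (Set.mem_univ (f ξ)) isOpen_univ
  obtain ⟨_, ⟨W, hW : IsAffineOpen W, rfl⟩, hξW, hWS0⟩ :=
    X.isBasis_affineOpens.exists_subset_of_mem_open
      (show ξ ∈ (f ⁻¹ᵁ S0 : Set X) from hfξS0) (f ⁻¹ᵁ S0).isOpen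
  obtain ⟨S0, rfl⟩ : ∃ S0' : S.Opens, S0' = S0 := ⟨S0, rfl⟩
  obtain ⟨W, rfl⟩ : ∃ W' : X.Opens, W' = W := ⟨W, rfl⟩
  have e : W ≤ f ⁻¹ᵁ S0 := hWS0
  haveI : IsAffine W.toScheme := hW
  haveI : IsAffine S0.toScheme := hS0
  let f' : W.toScheme ⟶ S0.toScheme := f.resLE S0 W e
  have hcomp : f' ≫ S0.ι = W.ι ≫ f := Scheme.Hom.resLE_comp_ι f e
  haveI : LocallyOfFiniteType f' := inferInstanceAs (LocallyOfFiniteType (f.resLE S0 W e))
  have hjF : Coh.IsCoh ((Scheme.Modules.pullback W.ι).obj F) :=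
    ⟨Groth.Agent.Lib.helper16.QCohPullback.isQuasicoherent_pullback _ F,
      Groth.Agent.Lib.helper16.QCohPullback2.isFiniteType_pullback _ F hF.2⟩
  have hR : ∀ w : W.toScheme, w ∈ MoreMor.relAss f' ((Scheme.Modules.pullback W.ι).obj F) ↔
      W.ι w ∈ MoreMor.relAss f F := by
    intro w
    rw [← Groth.Agent.Lib.Helper24.RelAssBC.relAss_comp_openImmersion_target f' S0.ι, hcomp]
    exact Groth.Agent.Lib.Helper24.RelAssBC.mem_relAss_comp_openImmersion_iff W.ι f F w
  have h1 := genAss_affine f' _ hjF ⟨ξ, hξW⟩ ((hR _).mpr hξ)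
  have h2 := GenAss.transfer (fun w : W.toScheme => W.ι w) W.ι.isOpenEmbedding.isInducing
    W.ι.isOpenEmbedding.injective (fun x : X => f x) (fun w : W.toScheme => f' w)
    (fun s : S0.toScheme => S0.ι s) (by
      intro w
      have := congrArg (fun φ => φ.base w) hcomp
      simpa using this.symm) (MoreMor.relAss f F) _ (fun w hw => (hR w).mp hw) ⟨ξ, hξW⟩
    (W : Set X) W.2 hξW (by
      rintro x ⟨-, hxW⟩
      exact ⟨⟨x, hxW⟩, rfl⟩) h1
  exact h2

/-- **S1446**. -/
theorem generic_points_fibres_in_relAss {X S : Scheme.{u}} (f : X ⟶ S) [LocallyOfFiniteType f]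
    (F : X.Modules) (hF : Coh.IsCoh F) (ξ : X) (hξ : ξ ∈ MoreMor.relAss f F) :
    ∃ V : Set X, V ⊆ closure {ξ} ∧
      IsOpen (Subtype.val ⁻¹' V : Set ↑(closure ({ξ} : Set X))) ∧ V.Nonempty ∧
      ∀ (x : X) (hx : x ∈ V), (∃ C ∈ irreducibleComponents ↑(V ∩ f ⁻¹' {f x}),
        IsGenericPoint (⟨x, hx, rfl⟩ : ↑(V ∩ f ⁻¹' {f x})) C) → x ∈ MoreMor.relAss f F :=
  GenAss.result (fun x : X => f x) (MoreMor.relAss f F) ξ (genAss_relAss f F hF ξ hξ)

end Groth.Agent.Lib.Helper24.RelAssGen
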