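import Groth.Agent.Lib.Helper24.RelAssOpen1
import Groth.Agent.Lib.Helper24.RelAssBC6

/-!
# Base change of the relative assassin along a monomorphism (helper24)

* `mem_relAss_baseChange_iff_of_mono` (**R2**): for a cartesian square with `g` a monomorphism,
  `x' ∈ relAss snd (fst^*F) ↔ fst x' ∈ relAss f F`.
-/

set_option autoImplicit false
universe u

namespace Groth.Agent.Lib.Helper24.RelAssBC

open AlgebraicGeometry CategoryTheory CategoryTheory.Limits

variable {P X Y Z : Scheme.{u}} {fst : P ⟶ X} {snd : P ⟶ Y} {f : X ⟶ Z} {g : Y ⟶ Z}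

/-- **(R2)** -/
theorem mem_relAss_baseChange_iff_of_mono (h : IsPullback fst snd f g) [LocallyOfFiniteType f]
    [Mono g] (F : X.Modules) [F.IsQuasicoherent] (x' : P) :
    x' ∈ MoreMor.relAss snd ((Scheme.Modules.pullback fst).obj F) ↔
      fst x' ∈ MoreMor.relAss f F := by
  haveI : Mono fst := PullbackCone.mono_fst_of_is_pullback_of_mono h.isLimit
  rw [mem_relAss_baseChange_iff h F x']
  constructor
  · exact fun h1 => h1.1
  · intro h1
    exact ⟨h1, fun x'' _ h3 _ => fst.injective h3⟩

end Groth.Agent.Lib.Helper24.RelAssBC
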