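import Groth.Agent.Lib.Helper24.RelAssGen1
import Groth.Agent.Lib.Helper24.RelAssOpen2
import Groth.Agent.Lib.Helper24.FibKL12
import Groth.Agent.Lib.Helper16.QCohPullback2

/-!
# The relative assassin near the generic point: affine core (helper24)
-/

set_option autoImplicit false
universe u

namespace Groth.Agent.Lib.Helper24.RelAssGen

open AlgebraicGeometry CategoryTheory CategoryTheory.Limits TensorProduct

section core

variable {X Y : Scheme.{u}} [IsAffine X] [IsAffine Y] [IsIntegral Y] (f : X ⟶ Y)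
  [LocallyOfFiniteType f] (F : X.Modules) (hF : Coh.IsCoh F)

include hF in
/-- generic finite presentation: a cartesian square with affine finitely presented left column. -/
theorem exists_fp_square :
    ∃ (X' Y' : Scheme.{u}) (fst : X' ⟶ X) (g : X' ⟶ Y') (k : Y' ⟶ Y),
      IsPullback fst g f k ∧ IsOpenImmersion k ∧ IsAffine X' ∧ IsAffine Y' ∧ IsIntegral Y' ∧
      LocallyOfFinitePresentation g ∧
      CohB1.IsFP ((Scheme.Modules.pullback fst).obj F) := by
  haveI : F.IsQuasicoherent := hF.1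
  letI alg : Algebra Γ(Y, ⊤) Γ(X, ⊤) := f.appTop.hom.toAlgebra
  haveI : IsDomain Γ(Y, ⊤) := inferInstance
  have hft : f.appTop.hom.FiniteType :=
    (HasRingHomProperty.iff_of_isAffine (P := @LocallyOfFiniteType)).mp inferInstance
  haveI : Algebra.FiniteType Γ(Y, ⊤) Γ(X, ⊤) := hft
  letI mod : Module Γ(Y, ⊤) Γ(F, ⊤) := Module.compHom _ f.appTop.hom
  haveI : IsScalarTower Γ(Y, ⊤) Γ(X, ⊤) Γ(F, ⊤) := ⟨fun a b m => by
    change (f.appTop.hom a * b) • m = f.appTop.hom a • (b • m)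
    rw [mul_smul]⟩
  haveI : Module.Finite Γ(X, ⊤) Γ(F, ⊤) :=
    Groth.Agent.Lib.helper16.CohFinite.finite_sections_of_isCoh F hF (isAffineOpen_top X)
  obtain ⟨a, ha, -, -, h3, h4⟩ :=
    Groth.Agent.Lib.helper11.GenFree.generic_freeness_full (R := Γ(Y, ⊤)) Γ(X, ⊤) Γ(F, ⊤)
  -- the rings
  let Ra : Type u := Localization.Away a
  let T : Type u := Γ(X, ⊤) ⊗[Γ(Y, ⊤)] Ra
  let inl : Γ(X, ⊤) ⟶ CommRingCat.of T :=
    CommRingCat.ofHom (Algebra.TensorProduct.includeLeftRingHom : Γ(X, ⊤) →+* T)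
  let inr : CommRingCat.of Ra ⟶ CommRingCat.of T :=
    CommRingCat.ofHom (Algebra.TensorProduct.includeRight.toRingHom : Ra →+* T)
  let ka : Γ(Y, ⊤) ⟶ CommRingCat.of Ra := CommRingCat.ofHom (algebraMap Γ(Y, ⊤) Ra)
  have hpo : IsPushout f.appTop ka inl inr :=
    CommRingCat.isPushout_tensorProduct Γ(Y, ⊤) Γ(X, ⊤) Ra
  have hpb := isPullback_SpecMap_of_isPushout _ _ _ _ hpo
  have hsq : IsPullback (Spec.map inl ≫ X.isoSpec.inv) (Spec.map inr) f
      (Spec.map ka ≫ Y.isoSpec.inv) := by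
    refine hpb.of_iso (Iso.refl _) X.isoSpec.symm (Iso.refl _) Y.isoSpec.symm ?_ ?_ ?_ ?_
    · simp
    · simp
    · exact Scheme.isoSpec_inv_naturality f
    · simp
  haveI : IsDomain Ra :=
    IsLocalization.isDomain_localization (powers_le_nonZeroDivisors_of_noZeroDivisors ha)
  haveI : IsIntegral (Spec (CommRingCat.of Ra)) := inferInstance
  haveI : IsOpenImmersion (Spec.map ka) :=
    inferInstanceAs (IsOpenImmersion (Spec.map (CommRingCat.ofHom
      (algebraMap Γ(Y, ⊤) (Localization.Away a)))))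
  refine ⟨Spec (CommRingCat.of T), Spec (CommRingCat.of Ra), _, _, _, hsq, inferInstance,
    inferInstance, inferInstance, inferInstance, ?_, ?_⟩
  · exact (HasRingHomProperty.Spec_iff (P := @LocallyOfFinitePresentation)).mpr
      (finitePresentation_includeRight Γ(X, ⊤) Ra h3)
  · -- finite presentation of the pulled back module
    set fst : Spec (CommRingCat.of T) ⟶ X := Spec.map inl ≫ X.isoSpec.inv with hfst
    set G := (Scheme.Modules.pullback fst).obj F with hG
    haveI : G.IsQuasicoherent :=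
      Groth.Agent.Lib.helper16.QCohPullback.isQuasicoherent_pullback fst F
    have hle : (⊤ : (Spec (CommRingCat.of T)).Opens) ≤ fst ⁻¹ᵁ ⊤ := le_of_eq rfl
    refine Groth.Agent.Lib.helper16.CohFinite.isFinitePresentation_of_fp_sections G
      (fun _ : PUnit.{u + 1} => ⊤) (fun _ => isAffineOpen_top _) (by simp) (fun _ => ?_)
    letI algT : Algebra Γ(X, ⊤) Γ(Spec (CommRingCat.of T), ⊤) :=
      (fst.appLE ⊤ ⊤ hle).hom.toAlgebra
    have e := Groth.Agent.Lib.helper16.QCohPullback.pullbackSectionsEquiv fst F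
      (isAffineOpen_top X) (isAffineOpen_top (Spec (CommRingCat.of T))) hle
    -- `Γ(Spec T, ⊤)` is the localization of `Γ(X, ⊤)` at the image of `a`
    have hinv : X.isoSpec.inv.appTop = (Scheme.ΓSpecIso Γ(X, ⊤)).inv := by
      have h1 : X.isoSpec.inv.appTop ≫ X.isoSpec.hom.appTop = 𝟙 _ := by
        rw [← Scheme.Hom.comp_appTop, Iso.hom_inv_id]
        rfl
      have h2 : X.isoSpec.hom.appTop = (Scheme.ΓSpecIso Γ(X, ⊤)).hom := Scheme.toSpecΓ_appTop X
      rw [h2] at h1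
      rw [← Category.comp_id X.isoSpec.inv.appTop, ← (Scheme.ΓSpecIso Γ(X, ⊤)).hom_inv_id,
        ← Category.assoc, h1, Category.id_comp]
    have hcomm : fst.appTop ≫ (Scheme.ΓSpecIso (CommRingCat.of T)).hom = inl := by
      rw [hfst, Scheme.Hom.comp_appTop, Category.assoc, Scheme.ΓSpecIso_naturality, hinv,
        Iso.inv_hom_id_assoc]
    have happ : fst.appLE ⊤ ⊤ hle = fst.appTop := by
      simp [Scheme.Hom.appLE]
    let σ : Γ(Spec (CommRingCat.of T), ⊤) ≃+* T :=
      (Scheme.ΓSpecIso (CommRingCat.of T)).commRingCatIsoToRingEquiv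
    have hσ : ∀ s : Γ(X, ⊤), σ (algebraMap Γ(X, ⊤) Γ(Spec (CommRingCat.of T), ⊤) s) =
        algebraMap Γ(X, ⊤) T s := by
      intro s
      change (Scheme.ΓSpecIso (CommRingCat.of T)).hom.hom ((fst.appLE ⊤ ⊤ hle).hom s) = inl.hom s
      rw [happ, ← hcomm]
      rfl
    let σa : Γ(Spec (CommRingCat.of T), ⊤) ≃ₐ[Γ(X, ⊤)] T := AlgEquiv.ofRingEquiv hσ
    haveI hlocT : IsLocalization.Away (algebraMap Γ(Y, ⊤) Γ(X, ⊤) a) T := by
      have := IsLocalization.tensor (S := Γ(X, ⊤)) Ra (Submonoid.powers a)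
      rwa [Algebra.algebraMapSubmonoid_powers] at this
    haveI : IsLocalization.Away (algebraMap Γ(Y, ⊤) Γ(X, ⊤) a) Γ(Spec (CommRingCat.of T), ⊤) :=
      IsLocalization.isLocalization_of_algEquiv _ σa.symm
    haveI := finitePresentation_tensor_of_away (algebraMap Γ(Y, ⊤) Γ(X, ⊤) a) Γ(F, ⊤) h4
      Γ(Spec (CommRingCat.of T), ⊤)
    exact Module.FinitePresentation.of_equiv e.symm

omit [IsAffine X] [IsAffine Y] [IsIntegral Y] [LocallyOfFiniteType f] in
/-- finiteness of the relative assassin over a point. -/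
theorem finite_relAss_fibre {X' Y' : Scheme.{u}} (g : X' ⟶ Y') [LocallyOfFiniteType g]
    [QuasiCompact g] (G : X'.Modules) (hG : Coh.IsCoh G) (y : Y') :
    {x' : X' | x' ∈ MoreMor.relAss g G ∧ g x' = y}.Finite := by
  haveI : G.IsQuasicoherent := hG.1
  haveI := Groth.Agent.Lib.helper3.FibreField.locallyOfFiniteType_fiber g y
  haveI : IsLocallyNoetherian (g.fiber y) :=
    LocallyOfFiniteType.isLocallyNoetherian (g.fiberToSpecResidueField y)
  have hH : Coh.IsCoh ((Scheme.Modules.pullback (g.fiberι y)).obj G) :=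
    ⟨Groth.Agent.Lib.helper16.QCohPullback.isQuasicoherent_pullback _ G,
      Groth.Agent.Lib.helper16.QCohPullback2.isFiniteType_pullback _ G hG.2⟩
  have hfin := Groth.Agent.Lib.Helper24.FibKL.finite_Ass _ hH
  refine (hfin.image (g.fiberι y)).subset ?_
  rintro x' ⟨hx', hgx'⟩
  have hr : x' ∈ Set.range (g.fiberι y) := by
    rw [Scheme.Hom.range_fiberι]
    exact hgx'
  obtain ⟨z, rfl⟩ := hr
  exact ⟨z, (Groth.Agent.Lib.Helper24.RelAssBC.isAssPoint_fibre_iff g G y z).mpr hx', rfl⟩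

/-- a finite set of points of an affine scheme lying in an open `U'` is contained in a retrocompact
open subset of `U'`. -/
theorem exists_retrocompact_open {X' : Scheme.{u}} [IsAffine X'] (U' : X'.Opens) (Φ : Set X')
    (hΦ : Φ.Finite) (hΦU : Φ ⊆ U') :
    ∃ U'' : Set X', IsOpen U'' ∧ IsRetrocompact U'' ∧ Φ ⊆ U'' ∧ U'' ⊆ U' := by
  have key : ∀ x' ∈ Φ, ∃ s : Γ(X', ⊤), x' ∈ X'.basicOpen s ∧ X'.basicOpen s ≤ U' := by
    intro x' hx'
    obtain ⟨s, hs, hxs⟩ := (isAffineOpen_top X').exists_basicOpen_le (V := U')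
      ⟨x', hΦU hx'⟩ (Set.mem_univ x')
    exact ⟨s, hxs, hs⟩
  choose s hs1 hs2 using key
  refine ⟨⋃ x' : Φ, (X'.basicOpen (s x'.1 x'.2) : Set X'), isOpen_iUnion fun _ => (X'.basicOpen _).2,
    ?_, ?_, ?_⟩
  · haveI : Finite Φ := hΦ.to_subtype
    refine IsRetrocompact.iUnion fun x' => ?_
    haveI : IsAffine (X'.basicOpen (s x'.1 x'.2)).toScheme :=
      (isAffineOpen_top X').basicOpen (s x'.1 x'.2)
    exact Groth.Agent.Lib.Helper24.FibKL.isRetrocompact_of_quasiCompact_ι _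
  · intro x' hx'
    exact Set.mem_iUnion.mpr ⟨⟨x', hx'⟩, hs1 x' hx'⟩
  · intro x hx
    obtain ⟨x', hx'⟩ := Set.mem_iUnion.mp hx
    exact hs2 x'.1 x'.2 hx'

include hF in
/-- **Core**: the statement near the generic point for affine source and affine integral target. -/
theorem core_affine (U : X.Opens)
    (h : ∀ x ∈ MoreMor.relAss f F, f x = genericPoint Y → x ∈ U) :
    ∃ V : Y.Opens, (V : Set Y).Nonempty ∧ ∀ x ∈ MoreMor.relAss f F, f x ∈ V → x ∈ U := by
  haveI : F.IsQuasicoherent := hF.1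
  obtain ⟨X', Y', fst, g, k, hsq, hk, hX', hY', hYi, hg, hG⟩ := exists_fp_square f F hF
  haveI := hk
  haveI := hX'
  haveI := hY'
  haveI := hYi
  haveI := hg
  have hR2 : ∀ x' : X', x' ∈ MoreMor.relAss g ((Scheme.Modules.pullback fst).obj F) ↔
      fst x' ∈ MoreMor.relAss f F :=
    fun x' => Groth.Agent.Lib.Helper24.RelAssBC.mem_relAss_baseChange_iff_of_mono hsq F x'
  have hGc : Coh.IsCoh ((Scheme.Modules.pullback fst).obj F) :=
    Groth.Agent.Lib.helper16.CohFinite.isCoh_of_isFinitePresentation _ hG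
  have hkη : k (genericPoint Y') = genericPoint Y := genericPoint_eq_of_isOpenImmersion k
  have hΦfin := finite_relAss_fibre g _ hGc (genericPoint Y')
  have hΦU : {x' : X' | x' ∈ MoreMor.relAss g ((Scheme.Modules.pullback fst).obj F) ∧
      g x' = genericPoint Y'} ⊆ (fst ⁻¹ᵁ U : X'.Opens) := by
    rintro x' ⟨hx', hgx'⟩
    apply h (fst x') ((hR2 x').mp hx')
    have hw : f (fst x') = k (g x') := by
      have := congrArg (fun φ => φ.base x') hsq.w
      simpa using this
    rw [hw, hgx', hkη]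
  obtain ⟨U'', hUo, hUr, hΦU'', hU''U⟩ := exists_retrocompact_open _ _ hΦfin hΦU
  have hE := Groth.Agent.Lib.Helper24.FibKL.isLocallyConstructible_relAss_fibre_subset_open_locus
    g _ hG U'' hUo hUr
  have hη' : ∀ O : Set Y', IsOpen O → O.Nonempty → genericPoint Y' ∈ O := by
    intro O hO hOne
    exact ((genericPoint_spec Y').mem_open_set_iff hO).mpr (by
      simpa [Set.inter_comm] using hOne)
  have hηE : genericPoint Y' ∈ {y : Y' | ∀ x' ∈ MoreMor.relAss g
      ((Scheme.Modules.pullback fst).obj F), g x' = y → x' ∈ U''} :=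
    fun x' hx' hgx' => hΦU'' ⟨hx', hgx'⟩
  obtain ⟨O, hO, hηO, hOE⟩ :=
    Groth.Agent.Lib.Helper24.FibKL.exists_isOpen_subset_of_isLocallyConstructible
      (genericPoint Y') hη' _ hE hηE
  refine ⟨k ''ᵁ ⟨O, hO⟩, ⟨k (genericPoint Y'), ⟨genericPoint Y', hηO, rfl⟩⟩, ?_⟩
  rintro x hx ⟨y, hyO, hky⟩
  obtain ⟨x', hx'1, hx'2⟩ := Scheme.exists_preimage_of_isPullback hsq x y hky.symm
  have h1 : x' ∈ MoreMor.relAss g ((Scheme.Modules.pullback fst).obj F) := by
    rw [hR2, hx'1]
    exact hx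
  have h2 : x' ∈ U'' := hOE hyO x' h1 hx'2
  have h3 := hU''U h2
  rw [← hx'1]
  exact h3

end core

end Groth.Agent.Lib.Helper24.RelAssGen
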