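import Groth.Agent.Lib.Helper24.RelAssGen2

/-!
# The relative assassin near the generic point: globalization (helper24)

* `core_affine_target`: affine integral target, quasi-compact source.
* `relAss_subset_open_near_generic`: irreducible target (S1368).
-/

set_option autoImplicit false
universe u

namespace Groth.Agent.Lib.Helper24.RelAssGen

open AlgebraicGeometry CategoryTheory CategoryTheory.Limits TensorProduct

theorem core_affine_target {X Y : Scheme.{u}} [IsAffine Y] [IsIntegral Y] (f : X ⟶ Y)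
    [LocallyOfFiniteType f] [QuasiCompact f] (F : X.Modules) (hF : Coh.IsCoh F) (U : X.Opens)
    (h : ∀ x ∈ MoreMor.relAss f F, f x = genericPoint Y → x ∈ U) :
    ∃ V : Y.Opens, (V : Set Y).Nonempty ∧ ∀ x ∈ MoreMor.relAss f F, f x ∈ V → x ∈ U := by
  classical
  haveI : F.IsQuasicoherent := hF.1
  haveI : CompactSpace X := QuasiCompact.compactSpace_of_compactSpace f
  obtain ⟨s, hs, hcov⟩ := (isCompact_iff_finite_and_eq_biUnion_affineOpens (U := (⊤ : X.Opens))).mp
    (by simpa using isCompact_univ (X := X))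
  haveI : Finite s := hs.to_subtype
  have key : ∀ W : s, ∃ V : Y.Opens, (V : Set Y).Nonempty ∧
      ∀ x ∈ MoreMor.relAss f F, x ∈ (W.1 : X.Opens) → f x ∈ V → x ∈ U := by
    intro W
    haveI : IsAffine (W.1 : X.Opens).toScheme := W.1.2
    let j : (W.1 : X.Opens).toScheme ⟶ X := (W.1 : X.Opens).ι
    have hjF : Coh.IsCoh ((Scheme.Modules.pullback j).obj F) :=
      ⟨Groth.Agent.Lib.helper16.QCohPullback.isQuasicoherent_pullback _ F,
        Groth.Agent.Lib.helper16.QCohPullback2.isFiniteType_pullback _ F hF.2⟩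
    obtain ⟨V, hVne, hV⟩ := core_affine (j ≫ f) _ hjF (j ⁻¹ᵁ U) (by
      intro w hw hwη
      have h1 := (Groth.Agent.Lib.Helper24.RelAssBC.mem_relAss_comp_openImmersion_iff j f F w).mp hw
      exact h (j w) h1 hwη)
    refine ⟨V, hVne, fun x hx hxW hfx => ?_⟩
    have h1 := (Groth.Agent.Lib.Helper24.RelAssBC.mem_relAss_comp_openImmersion_iff j f F
      ⟨x, hxW⟩).mpr hx
    exact hV ⟨x, hxW⟩ h1 hfx
  choose V hVne hV using key
  have hη : ∀ W : s, genericPoint Y ∈ V W := fun W =>
    ((genericPoint_spec Y).mem_open_set_iff (V W).2).mpr (by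
      simpa [Set.inter_comm] using hVne W)
  refine ⟨⟨⋂ W : s, (V W : Set Y), isOpen_iInter_of_finite fun W => (V W).2⟩,
    ⟨genericPoint Y, Set.mem_iInter.mpr hη⟩, ?_⟩
  intro x hx hfx
  have hxtop : x ∈ (⊤ : X.Opens) := trivial
  rw [hcov] at hxtop
  simp only [TopologicalSpace.Opens.mem_iSup] at hxtop
  obtain ⟨W, hWs, hxW⟩ := hxtop
  exact hV ⟨W, hWs⟩ x hx hxW (Set.mem_iInter.mp hfx ⟨W, hWs⟩)

section reduce

variable {Y : Scheme.{u}} [IrreducibleSpace Y] {W0 : Y.Opens} (hW0 : IsAffineOpen W0)
  (hne : (W0 : Set Y).Nonempty)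

include hW0 hne in
/-- the spectrum of the sections over a nonempty affine open of an irreducible scheme is
irreducible. -/
theorem isPrime_nilradical_sections : (nilradical Γ(Y, W0)).IsPrime := by
  rw [← PrimeSpectrum.irreducibleSpace_iff_isPrime_nilradical]
  have hoe : Topology.IsOpenEmbedding hW0.fromSpec := hW0.fromSpec.isOpenEmbedding
  have hpre : IsPreirreducible (Set.univ : Set (Spec Γ(Y, W0))) := by
    have := (IrreducibleSpace.isIrreducible_univ Y).2.preimage hoe
    simpa using this
  have hnon : Nonempty (Spec Γ(Y, W0)) := by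
    obtain ⟨y, hy⟩ := hne
    have : y ∈ Set.range hW0.fromSpec := by
      rw [hW0.range_fromSpec]
      exact hy
    obtain ⟨z, -⟩ := this
    exact ⟨z⟩
  exact { toPreirreducibleSpace := ⟨hpre⟩, toNonempty := hnon }

omit [IrreducibleSpace Y] in
/-- the reduced affine chart `Spec (Γ(Y, W0) / nilradical) ⟶ Y`. -/
noncomputable def redChart : Spec (CommRingCat.of (Γ(Y, W0) ⧸ nilradical Γ(Y, W0))) ⟶ Y :=
  Spec.map (CommRingCat.ofHom (Ideal.Quotient.mk (nilradical Γ(Y, W0)))) ≫ hW0.fromSpec

omit [IrreducibleSpace Y] in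
instance : Mono (redChart hW0) := by
  haveI : IsClosedImmersion (Spec.map (CommRingCat.ofHom
      (Ideal.Quotient.mk (nilradical Γ(Y, W0))))) :=
    IsClosedImmersion.spec_of_surjective _ Ideal.Quotient.mk_surjective
  unfold redChart
  infer_instance

omit [IrreducibleSpace Y] in
theorem isOpenEmbedding_redChart : Topology.IsOpenEmbedding (redChart hW0) := by
  haveI : IsClosedImmersion (Spec.map (CommRingCat.ofHom
      (Ideal.Quotient.mk (nilradical Γ(Y, W0))))) :=
    IsClosedImmersion.spec_of_surjective _ Ideal.Quotient.mk_surjective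
  have h1 : Topology.IsOpenEmbedding (Spec.map (CommRingCat.ofHom
      (Ideal.Quotient.mk (nilradical Γ(Y, W0))))) := by
    apply Topology.IsEmbedding.isOpenEmbedding_of_surjective
    · exact (Scheme.Hom.isClosedEmbedding _).isEmbedding
    · exact (PrimeSpectrum.comap_quotientMk_bijective_of_le_nilradical le_rfl).2
  have h2 : Topology.IsOpenEmbedding hW0.fromSpec := hW0.fromSpec.isOpenEmbedding
  have : ⇑(redChart hW0) = ⇑hW0.fromSpec ∘ ⇑(Spec.map (CommRingCat.ofHom
      (Ideal.Quotient.mk (nilradical Γ(Y, W0))))) := by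
    ext z
    simp [redChart]
  rw [this]
  exact h2.comp h1

omit [IrreducibleSpace Y] in
theorem range_redChart : Set.range (redChart hW0) = (W0 : Set Y) := by
  have h1 : Function.Surjective (Spec.map (CommRingCat.ofHom
      (Ideal.Quotient.mk (nilradical Γ(Y, W0))))) :=
    (PrimeSpectrum.comap_quotientMk_bijective_of_le_nilradical le_rfl).2
  have : ⇑(redChart hW0) = ⇑hW0.fromSpec ∘ ⇑(Spec.map (CommRingCat.ofHom
      (Ideal.Quotient.mk (nilradical Γ(Y, W0))))) := by
    ext z
    simp [redChart]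
  rw [this, Set.range_comp, h1.range_eq, Set.image_univ, hW0.range_fromSpec]

end reduce

/-- **S1368**: if the associated points of the generic fibre lie in `U`, the same holds for the fibres
over a nonempty open of the (irreducible) target. -/
theorem relAss_subset_open_near_generic {X Y : Scheme.{u}} (f : X ⟶ Y) [IrreducibleSpace Y]
    [LocallyOfFiniteType f] [QuasiCompact f] (F : X.Modules) (hF : Coh.IsCoh F) (U : X.Opens)
    (h : ∀ x ∈ MoreMor.relAss f F, f x = genericPoint Y → x ∈ U) :
    ∃ V : Y.Opens, (V : Set Y).Nonempty ∧ ∀ x ∈ MoreMor.relAss f F, f x ∈ V → x ∈ U := by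
  haveI : F.IsQuasicoherent := hF.1
  obtain ⟨y0⟩ : Nonempty Y := inferInstance
  obtain ⟨_, ⟨W0, hW0 : IsAffineOpen W0, rfl⟩, hyW, -⟩ :=
    Y.isBasis_affineOpens.exists_subset_of_mem_open (Set.mem_univ y0) isOpen_univ
  have hne : (W0 : Set Y).Nonempty := ⟨y0, hyW⟩
  haveI := isPrime_nilradical_sections hW0 hne
  haveI : IsDomain (Γ(Y, W0) ⧸ nilradical Γ(Y, W0)) := Ideal.Quotient.isDomain _
  haveI : IsIntegral (Spec (CommRingCat.of (Γ(Y, W0) ⧸ nilradical Γ(Y, W0)))) := inferInstance
  have hsq : IsPullback (pullback.fst f (redChart hW0)) (pullback.snd f (redChart hW0)) f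
      (redChart hW0) := IsPullback.of_hasPullback f (redChart hW0)
  have hR2 : ∀ x' : ↥(pullback f (redChart hW0)),
      x' ∈ MoreMor.relAss (pullback.snd f (redChart hW0))
        ((Scheme.Modules.pullback (pullback.fst f (redChart hW0))).obj F) ↔
      pullback.fst f (redChart hW0) x' ∈ MoreMor.relAss f F :=
    fun x' => Groth.Agent.Lib.Helper24.RelAssBC.mem_relAss_baseChange_iff_of_mono hsq F x'
  have hF' : Coh.IsCoh ((Scheme.Modules.pullback (pullback.fst f (redChart hW0))).obj F) :=
    ⟨Groth.Agent.Lib.helper16.QCohPullback.isQuasicoherent_pullback _ F,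
      Groth.Agent.Lib.helper16.QCohPullback2.isFiniteType_pullback _ F hF.2⟩
  have hgη : redChart hW0 (genericPoint _) = genericPoint Y := by
    have hηW : genericPoint Y ∈ (W0 : Set Y) :=
      ((genericPoint_spec Y).mem_open_set_iff W0.2).mpr (by simpa [Set.inter_comm] using hne)
    rw [← range_redChart hW0] at hηW
    obtain ⟨y', hy'⟩ := hηW
    have h1 : genericPoint _ ⤳ y' := genericPoint_specializes y'
    have h2 := h1.map (redChart hW0).continuous
    rw [hy'] at h2
    have h3 : genericPoint Y ⤳ redChart hW0 (genericPoint _) := genericPoint_specializes _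
    exact (h2.antisymm h3).eq
  obtain ⟨V', hV'ne, hV'⟩ := core_affine_target (pullback.snd f (redChart hW0)) _ hF'
    ((pullback.fst f (redChart hW0)) ⁻¹ᵁ U) (by
      intro x' hx' hx'η
      apply h _ ((hR2 x').mp hx')
      have hw : f (pullback.fst f (redChart hW0) x') =
          redChart hW0 (pullback.snd f (redChart hW0) x') := by
        have := congrArg (fun φ => φ.base x') hsq.w
        simpa using this
      rw [hw, hx'η, hgη])
  have hoe := isOpenEmbedding_redChart hW0
  refine ⟨⟨redChart hW0 '' V', hoe.isOpenMap _ V'.2⟩, hV'ne.image _, ?_⟩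
  rintro x hx ⟨y', hy'V, hgy'⟩
  obtain ⟨x', hx'1, hx'2⟩ := Scheme.exists_preimage_of_isPullback hsq x y' hgy'.symm
  have h1 : x' ∈ MoreMor.relAss (pullback.snd f (redChart hW0))
      ((Scheme.Modules.pullback (pullback.fst f (redChart hW0))).obj F) := by
    rw [hR2, hx'1]
    exact hx
  have h2 := hV' x' h1 (by rw [hx'2]; exact hy'V)
  rw [← hx'1]
  exact h2

end Groth.Agent.Lib.Helper24.RelAssGen
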