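import Groth.Agent.Lib.Helper24.RelAssGen3

/-!
# The relative assassin near the generic point, existence form (helper24)
-/

set_option autoImplicit false
universe u

namespace Groth.Agent.Lib.Helper24.RelAssGen

open AlgebraicGeometry CategoryTheory CategoryTheory.Limits TensorProduct

section ring

variable (R S : Type u) [CommRing R] [IsDomain R] [CommRing S] [Algebra R S]
  [Algebra.FiniteType R S]

/-- every element of an ideal `P` of a finite type algebra over a domain is, up to a nonzero scalar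
of the base, in the span of a fixed finite subset of `P`. -/
theorem exists_finset_torsion (P : Ideal S) :
    ∃ t : Finset S, (↑t : Set S) ⊆ P ∧ ∀ p ∈ P, ∃ r : R, r ≠ 0 ∧ r • p ∈ Ideal.span (t : Set S) := by
  classical
  let K := FractionRing R
  let SK := S ⊗[R] K
  haveI hloc : IsLocalization (Algebra.algebraMapSubmonoid S (nonZeroDivisors R)) SK :=
    IsLocalization.tensor (S := S) K (nonZeroDivisors R)
  haveI : Algebra.FiniteType K (K ⊗[R] S) := inferInstance
  haveI : IsNoetherianRing (K ⊗[R] S) := Algebra.FiniteType.isNoetherianRing K (K ⊗[R] S)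
  haveI : IsNoetherianRing SK :=
    isNoetherianRing_of_ringEquiv (K ⊗[R] S) (Algebra.TensorProduct.comm R K S).toRingEquiv
  have hfg : (Submodule.span SK ((algebraMap S SK) '' (P : Set S))).FG :=
    IsNoetherian.noetherian _
  rw [Submodule.fg_span_iff_fg_span_finset_subset] at hfg
  obtain ⟨s', hs', hspan⟩ := hfg
  obtain ⟨t, ht, rfl⟩ := Finset.subset_set_image_iff.mp hs'
  refine ⟨t, ht, fun p hp => ?_⟩
  have h1 : algebraMap S SK p ∈ (Ideal.span (t : Set S)).map (algebraMap S SK) := by
    rw [Ideal.map_span]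
    have : algebraMap S SK p ∈ Ideal.span ((algebraMap S SK) '' (P : Set S)) :=
      Ideal.subset_span ⟨p, hp, rfl⟩
    rw [Ideal.span, hspan] at this
    simpa using this
  rw [IsLocalization.mem_map_algebraMap_iff (Algebra.algebraMapSubmonoid S (nonZeroDivisors R))] at h1
  obtain ⟨⟨⟨i, hi⟩, ⟨m, hm⟩⟩, him⟩ := h1
  simp only at him
  rw [← map_mul, IsLocalization.eq_iff_exists (Algebra.algebraMapSubmonoid S (nonZeroDivisors R))] at him
  obtain ⟨⟨c, hc⟩, hcm⟩ := him
  obtain ⟨r1, hr1, rfl⟩ := hm
  obtain ⟨r2, hr2, rfl⟩ := hc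
  refine ⟨r2 * r1, mul_ne_zero (nonZeroDivisors.ne_zero hr2) (nonZeroDivisors.ne_zero hr1), ?_⟩
  have : (r2 * r1) • p = algebraMap R S r2 * (p * algebraMap R S r1) := by
    rw [Algebra.smul_def, map_mul]
    ring
  rw [this]
  simp only at hcm
  rw [hcm]
  exact Ideal.mul_mem_left _ _ hi

/-- **finite approximation of an ideal up to a localization of the base**. -/
theorem exists_fg_approx (P : Ideal S) :
    ∃ a : R, a ≠ 0 ∧ ∃ t : Finset S, (↑t : Set S) ⊆ P ∧
      ∀ p ∈ P, ∃ n : ℕ, a ^ n • p ∈ Ideal.span (t : Set S) := by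
  obtain ⟨t, ht, htors⟩ := exists_finset_torsion R S P
  let B := S ⧸ Ideal.span (t : Set S)
  haveI : Algebra.FiniteType R B :=
    Algebra.FiniteType.of_surjective (Ideal.Quotient.mkₐ R (Ideal.span (t : Set S)))
      (Ideal.Quotient.mkₐ_surjective R _)
  obtain ⟨a, ha, hfree, -⟩ :=
    Groth.Agent.Lib.helper11.GenFree.generic_freeness_full (R := R) B B
  refine ⟨a, ha, t, ht, fun p hp => ?_⟩
  obtain ⟨r, hr, hrp⟩ := htors p hp
  let Ra := Localization.Away a
  haveI : IsDomain Ra :=
    IsLocalization.isDomain_localization (powers_le_nonZeroDivisors_of_noZeroDivisors ha)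
  haveI := hfree
  have hinj : Function.Injective (algebraMap R Ra) :=
    IsLocalization.injective Ra (powers_le_nonZeroDivisors_of_noZeroDivisors ha)
  have hr' : algebraMap R Ra r ≠ 0 := by
    intro h0
    exact hr (hinj (by rw [h0, map_zero]))
  have hb : r • (Ideal.Quotient.mk (Ideal.span (t : Set S)) p : B) = 0 := by
    have : r • (Ideal.Quotient.mk (Ideal.span (t : Set S)) p : B) =
        Ideal.Quotient.mk (Ideal.span (t : Set S)) (r • p) := by
      rw [Algebra.smul_def, Algebra.smul_def, map_mul]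
      rfl
    rw [this]
    exact Ideal.Quotient.eq_zero_iff_mem.mpr hrp
  have h0 : (1 : Ra) ⊗ₜ[R] (Ideal.Quotient.mk (Ideal.span (t : Set S)) p : B) = 0 := by
    have h1 : algebraMap R Ra r • ((1 : Ra) ⊗ₜ[R] (Ideal.Quotient.mk (Ideal.span (t : Set S)) p : B)) = 0 := by
      rw [TensorProduct.smul_tmul', smul_eq_mul, mul_one, Algebra.algebraMap_eq_smul_one,
        TensorProduct.smul_tmul, hb, TensorProduct.tmul_zero]
    exact (smul_eq_zero_iff_right hr').mp h1
  have hbc : IsBaseChange Ra (TensorProduct.mk R Ra B 1) := TensorProduct.isBaseChange R B Ra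
  have hlm : IsLocalizedModule (Submonoid.powers a) (TensorProduct.mk R Ra B 1) :=
    (isLocalizedModule_iff_isBaseChange (Submonoid.powers a) Ra _).mpr hbc
  have h2 : (TensorProduct.mk R Ra B 1) (Ideal.Quotient.mk (Ideal.span (t : Set S)) p : B) = 0 := h0
  rw [IsLocalizedModule.eq_zero_iff (Submonoid.powers a)] at h2
  obtain ⟨⟨_, n, rfl⟩, hn⟩ := h2
  refine ⟨n, ?_⟩
  rw [← Ideal.Quotient.eq_zero_iff_mem]
  have : Ideal.Quotient.mk (Ideal.span (t : Set S)) (a ^ n • p) =
      a ^ n • (Ideal.Quotient.mk (Ideal.span (t : Set S)) p : B) := by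
    rw [Algebra.smul_def, Algebra.smul_def, map_mul]
    rfl
  rw [this]
  exact hn

end ring

end Groth.Agent.Lib.Helper24.RelAssGen
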