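import Groth.Agent.Lib.Helper24.RelAssGen4

/-!
# The relative assassin near the generic point, existence form: affine core (helper24)
-/

set_option autoImplicit false
universe u

namespace Groth.Agent.Lib.Helper24.RelAssGen

open AlgebraicGeometry CategoryTheory CategoryTheory.Limits TensorProduct

section pts

/-- the prime of global sections attached to a point. -/
noncomputable def primeOf {X : Scheme.{u}} (x : X) : PrimeSpectrum Γ(X, ⊤) := X.toSpecΓ x

/-- membership in the prime of a point of a scheme. -/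
theorem mem_primeOf_iff {X : Scheme.{u}} (x : X) (s : Γ(X, ⊤)) :
    s ∈ (primeOf x).asIdeal ↔ x ∉ X.basicOpen s := by
  have h : x ∈ X.toSpecΓ ⁻¹ᵁ PrimeSpectrum.basicOpen s ↔ x ∈ X.basicOpen s := by
    rw [X.toSpecΓ_preimage_basicOpen s]
  rw [← h]
  change _ ↔ ¬ (primeOf x ∈ PrimeSpectrum.basicOpen s)
  rw [PrimeSpectrum.mem_basicOpen, not_not]

/-- specialization in an affine scheme in terms of primes. -/
theorem specializes_of_primeOf_le {X : Scheme.{u}} [IsAffine X] (x x' : X)
    (h : (primeOf x).asIdeal ≤ (primeOf x').asIdeal) : x ⤳ x' := by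
  have h1 : primeOf x ⤳ primeOf x' := (PrimeSpectrum.le_iff_specializes _ _).mp h
  haveI : IsIso X.toSpecΓ := IsAffine.affine
  exact ((Scheme.Hom.homeomorph X.toSpecΓ).isInducing.specializes_iff).mp h1

end pts

section core

variable {X Y : Scheme.{u}} [IsAffine X] [IsAffine Y] [IsIntegral Y] (f : X ⟶ Y)
  [LocallyOfFiniteType f] (F : X.Modules) (hF : Coh.IsCoh F)

include hF in
/-- **Core, existence form**: affine source and affine integral target. -/
theorem core_affine_exists (U : X.Opens)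
    (h : ∃ x ∈ MoreMor.relAss f F, f x = genericPoint Y ∧ x ∉ U) :
    ∃ V : Y.Opens, (V : Set Y).Nonempty ∧
      ∀ y ∈ V, ∃ x ∈ MoreMor.relAss f F, f x = y ∧ x ∉ U := by
  classical
  haveI : F.IsQuasicoherent := hF.1
  obtain ⟨x0, hx0, hfx0, hx0U⟩ := h
  obtain ⟨X', Y', fst, g, k, hsq, hk, hX', hY', hYi, hg, hG⟩ := exists_fp_square f F hF
  haveI := hk
  haveI := hX'
  haveI := hY'
  haveI := hYi
  haveI := hg
  have hR2 : ∀ x' : X', x' ∈ MoreMor.relAss g ((Scheme.Modules.pullback fst).obj F) ↔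
      fst x' ∈ MoreMor.relAss f F :=
    fun x' => Groth.Agent.Lib.Helper24.RelAssBC.mem_relAss_baseChange_iff_of_mono hsq F x'
  have hkη : k (genericPoint Y') = genericPoint Y := genericPoint_eq_of_isOpenImmersion k
  have hw : ∀ x' : X', f (fst x') = k (g x') := by
    intro x'
    have := congrArg (fun φ => φ.base x') hsq.w
    simpa using this
  obtain ⟨x0', hx0'1, hx0'2⟩ := Scheme.exists_preimage_of_isPullback hsq x0 (genericPoint Y')
    (by rw [hfx0, hkη])
  have hx0'ass : x0' ∈ MoreMor.relAss g ((Scheme.Modules.pullback fst).obj F) := by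
    rw [hR2, hx0'1]
    exact hx0
  -- ring data
  letI alg : Algebra Γ(Y', ⊤) Γ(X', ⊤) := g.appTop.hom.toAlgebra
  haveI : IsDomain Γ(Y', ⊤) := inferInstance
  have hft : g.appTop.hom.FiniteType :=
    (HasRingHomProperty.iff_of_isAffine (P := @LocallyOfFiniteType)).mp inferInstance
  haveI : Algebra.FiniteType Γ(Y', ⊤) Γ(X', ⊤) := hft
  obtain ⟨a, ha, t, ht, happrox⟩ := exists_fg_approx Γ(Y', ⊤) Γ(X', ⊤) (primeOf x0').asIdeal
  -- the retrocompact open
  let U'' : Set X' := ⋃ s : (t : Set Γ(X', ⊤)), (X'.basicOpen s.1 : Set X')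
  have hUo : IsOpen U'' := isOpen_iUnion fun _ => (X'.basicOpen _).2
  have hUr : IsRetrocompact U'' := by
    haveI : Finite (t : Set Γ(X', ⊤)) := t.finite_toSet.to_subtype
    refine IsRetrocompact.iUnion fun s => ?_
    haveI : IsAffine (X'.basicOpen s.1).toScheme := (isAffineOpen_top X').basicOpen s.1
    exact Groth.Agent.Lib.Helper24.FibKL.isRetrocompact_of_quasiCompact_ι _
  have hE := Groth.Agent.Lib.Helper24.FibKL.isLocallyConstructible_relAss_fibre_subset_open_locus
    g _ hG U'' hUo hUr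
  have hEc := Groth.Agent.Lib.Helper24.FibCons.isLocallyConstructible_compl hE
  have hη' : ∀ O : Set Y', IsOpen O → O.Nonempty → genericPoint Y' ∈ O := by
    intro O hO hOne
    exact ((genericPoint_spec Y').mem_open_set_iff hO).mpr (by
      simpa [Set.inter_comm] using hOne)
  have hx0'U : x0' ∉ U'' := by
    intro hmem
    obtain ⟨s, hs⟩ := Set.mem_iUnion.mp hmem
    have h1 : s.1 ∈ (primeOf x0').asIdeal := ht s.2
    rw [mem_primeOf_iff] at h1
    exact h1 hs
  have hηE : genericPoint Y' ∈ {y : Y' | ∀ x' ∈ MoreMor.relAss g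
      ((Scheme.Modules.pullback fst).obj F), g x' = y → x' ∈ U''}ᶜ :=
    fun hall => hx0'U (hall x0' hx0'ass hx0'2)
  obtain ⟨O, hO, hηO, hOE⟩ :=
    Groth.Agent.Lib.Helper24.FibKL.exists_isOpen_subset_of_isLocallyConstructible
      (genericPoint Y') hη' _ hEc hηE
  have hηa : genericPoint Y' ∈ Y'.basicOpen a := by
    refine hη' _ (Y'.basicOpen a).2 ?_
    by_contra hne
    rw [Set.not_nonempty_iff_eq_empty] at hne
    have h1 : Y'.basicOpen a = ⊥ := TopologicalSpace.Opens.ext hne
    rw [AlgebraicGeometry.basicOpen_eq_bot_iff] at h1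
    exact ha h1
  refine ⟨k ''ᵁ (⟨O, hO⟩ ⊓ Y'.basicOpen a),
    ⟨k (genericPoint Y'), ⟨genericPoint Y', ⟨hηO, hηa⟩, rfl⟩⟩, ?_⟩
  rintro y ⟨y', ⟨hy'O, hy'a⟩, rfl⟩
  have hy'E := hOE hy'O
  simp only [Set.mem_compl_iff, Set.mem_ofPred_eq, not_forall] at hy'E
  obtain ⟨x', hx'ass, hgx', hx'U''⟩ := hy'E
  refine ⟨fst x', (hR2 x').mp hx'ass, ?_, ?_⟩
  · rw [hw, hgx']
    rfl
  · intro hU
    have hspec : x0' ⤳ x' := by
      apply specializes_of_primeOf_le
      intro p hp
      obtain ⟨n, hn⟩ := happrox p hp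
      have hle : Ideal.span (t : Set Γ(X', ⊤)) ≤ (primeOf x').asIdeal := by
        rw [Ideal.span_le]
        intro s hs
        change s ∈ (primeOf x').asIdeal
        rw [mem_primeOf_iff]
        intro hxs
        exact hx'U'' (Set.mem_iUnion.mpr ⟨⟨s, hs⟩, hxs⟩)
      have h1 := hle hn
      rw [Algebra.smul_def] at h1
      rcases (primeOf x').isPrime.mem_or_mem h1 with h2 | h2
      · exfalso
        rw [map_pow] at h2
        have h3 := (primeOf x').isPrime.mem_of_pow_mem n h2
        have h4 : algebraMap Γ(Y', ⊤) Γ(X', ⊤) a = g.appTop a := rfl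
        rw [h4, mem_primeOf_iff, ← Scheme.preimage_basicOpen_top] at h3
        apply h3
        change g x' ∈ Y'.basicOpen a
        rw [hgx']
        exact hy'a
      · exact h2
    have hx0'U' : x0' ∈ (fst ⁻¹ᵁ U : X'.Opens) :=
      hspec.mem_open (fst ⁻¹ᵁ U).2 hU
    apply hx0U
    rw [← hx0'1]
    exact hx0'U'

end core

end Groth.Agent.Lib.Helper24.RelAssGen
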