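import Groth.Agent.Lib.Helper24.RelAssGen5

/-!
# The relative assassin near the generic point, existence form: globalization (helper24)

* `relAss_not_subset_open_near_generic` (S1369).
-/

set_option autoImplicit false
universe u

namespace Groth.Agent.Lib.Helper24.RelAssGen

open AlgebraicGeometry CategoryTheory CategoryTheory.Limits TensorProduct

theorem core_affine_target_exists {X Y : Scheme.{u}} [IsAffine Y] [IsIntegral Y] (f : X ⟶ Y)
    [LocallyOfFiniteType f] (F : X.Modules) (hF : Coh.IsCoh F) (U : X.Opens)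
    (h : ∃ x ∈ MoreMor.relAss f F, f x = genericPoint Y ∧ x ∉ U) :
    ∃ V : Y.Opens, (V : Set Y).Nonempty ∧
      ∀ y ∈ V, ∃ x ∈ MoreMor.relAss f F, f x = y ∧ x ∉ U := by
  haveI : F.IsQuasicoherent := hF.1
  obtain ⟨x0, hx0, hfx0, hx0U⟩ := h
  obtain ⟨_, ⟨W, hW : IsAffineOpen W, rfl⟩, hx0W, -⟩ :=
    X.isBasis_affineOpens.exists_subset_of_mem_open (Set.mem_univ x0) isOpen_univ
  have hW' : IsAffineOpen (X := X) W := hW
  obtain ⟨W, rfl⟩ : ∃ W' : X.Opens, W' = W := ⟨W, rfl⟩
  haveI : IsAffine W.toScheme := hW'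
  let j : W.toScheme ⟶ X := W.ι
  have hjF : Coh.IsCoh ((Scheme.Modules.pullback j).obj F) :=
    ⟨Groth.Agent.Lib.helper16.QCohPullback.isQuasicoherent_pullback _ F,
      Groth.Agent.Lib.helper16.QCohPullback2.isFiniteType_pullback _ F hF.2⟩
  obtain ⟨V, hVne, hV⟩ := core_affine_exists (j ≫ f) _ hjF (j ⁻¹ᵁ U)
    ⟨⟨x0, hx0W⟩,
      (Groth.Agent.Lib.Helper24.RelAssBC.mem_relAss_comp_openImmersion_iff j f F ⟨x0, hx0W⟩).mpr hx0,
      hfx0, hx0U⟩
  refine ⟨V, hVne, fun y hy => ?_⟩
  obtain ⟨w, hw, hwy, hwU⟩ := hV y hy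
  exact ⟨j w, (Groth.Agent.Lib.Helper24.RelAssBC.mem_relAss_comp_openImmersion_iff j f F w).mp hw,
    hwy, hwU⟩

/-- **S1369**: if some associated point of the generic fibre lies outside `U`, the same holds for
the fibres over a nonempty open of the (irreducible) target. -/
theorem relAss_not_subset_open_near_generic {X Y : Scheme.{u}} (f : X ⟶ Y) [IrreducibleSpace Y]
    [LocallyOfFiniteType f] (F : X.Modules) (hF : Coh.IsCoh F) (U : X.Opens)
    (h : ∃ x ∈ MoreMor.relAss f F, f x = genericPoint Y ∧ x ∉ U) :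
    ∃ V : Y.Opens, (V : Set Y).Nonempty ∧
      ∀ y ∈ V, ∃ x ∈ MoreMor.relAss f F, f x = y ∧ x ∉ U := by
  haveI : F.IsQuasicoherent := hF.1
  obtain ⟨x0, hx0, hfx0, hx0U⟩ := h
  obtain ⟨y0⟩ : Nonempty Y := inferInstance
  obtain ⟨_, ⟨W0, hW0 : IsAffineOpen W0, rfl⟩, hyW, -⟩ :=
    Y.isBasis_affineOpens.exists_subset_of_mem_open (Set.mem_univ y0) isOpen_univ
  have hne : (W0 : Set Y).Nonempty := ⟨y0, hyW⟩
  haveI := isPrime_nilradical_sections hW0 hne
  haveI : IsDomain (Γ(Y, W0) ⧸ nilradical Γ(Y, W0)) := Ideal.Quotient.isDomain _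
  haveI : IsIntegral (Spec (CommRingCat.of (Γ(Y, W0) ⧸ nilradical Γ(Y, W0)))) := inferInstance
  have hsq : IsPullback (pullback.fst f (redChart hW0)) (pullback.snd f (redChart hW0)) f
      (redChart hW0) := IsPullback.of_hasPullback f (redChart hW0)
  have hR2 : ∀ x' : ↥(pullback f (redChart hW0)),
      x' ∈ MoreMor.relAss (pullback.snd f (redChart hW0))
        ((Scheme.Modules.pullback (pullback.fst f (redChart hW0))).obj F) ↔
      pullback.fst f (redChart hW0) x' ∈ MoreMor.relAss f F :=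
    fun x' => Groth.Agent.Lib.Helper24.RelAssBC.mem_relAss_baseChange_iff_of_mono hsq F x'
  have hF' : Coh.IsCoh ((Scheme.Modules.pullback (pullback.fst f (redChart hW0))).obj F) :=
    ⟨Groth.Agent.Lib.helper16.QCohPullback.isQuasicoherent_pullback _ F,
      Groth.Agent.Lib.helper16.QCohPullback2.isFiniteType_pullback _ F hF.2⟩
  have hgη : redChart hW0 (genericPoint _) = genericPoint Y := by
    have hηW : genericPoint Y ∈ (W0 : Set Y) :=
      ((genericPoint_spec Y).mem_open_set_iff W0.2).mpr (by simpa [Set.inter_comm] using hne)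
    rw [← range_redChart hW0] at hηW
    obtain ⟨y', hy'⟩ := hηW
    have h1 : genericPoint _ ⤳ y' := genericPoint_specializes y'
    have h2 := h1.map (redChart hW0).continuous
    rw [hy'] at h2
    have h3 : genericPoint Y ⤳ redChart hW0 (genericPoint _) := genericPoint_specializes _
    exact (h2.antisymm h3).eq
  have hw : ∀ x' : ↥(pullback f (redChart hW0)), f (pullback.fst f (redChart hW0) x') =
      redChart hW0 (pullback.snd f (redChart hW0) x') := by
    intro x'
    have := congrArg (fun φ => φ.base x') hsq.w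
    simpa using this
  obtain ⟨x0', hx0'1, hx0'2⟩ := Scheme.exists_preimage_of_isPullback hsq x0 (genericPoint _)
    (by rw [hfx0, hgη])
  obtain ⟨V', hV'ne, hV'⟩ := core_affine_target_exists (pullback.snd f (redChart hW0)) _ hF'
    ((pullback.fst f (redChart hW0)) ⁻¹ᵁ U)
    ⟨x0', by rw [hR2, hx0'1]; exact hx0, hx0'2, by
      intro hmem
      apply hx0U
      rw [← hx0'1]
      exact hmem⟩
  have hoe := isOpenEmbedding_redChart hW0
  refine ⟨⟨redChart hW0 '' V', hoe.isOpenMap _ V'.2⟩, hV'ne.image _, ?_⟩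
  rintro y ⟨y', hy'V, rfl⟩
  obtain ⟨x', hx', hx'y, hx'U⟩ := hV' y' hy'V
  exact ⟨pullback.fst f (redChart hW0) x', (hR2 x').mp hx', by rw [hw, hx'y], hx'U⟩

end Groth.Agent.Lib.Helper24.RelAssGen
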