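import Groth.Agent.Lib.Helper16.PrimDec3
import Groth.Agent.Lib.Helper16.IrrDec1
import Groth.Agent.Lib.Lead.RefHull5

/-!
# Scheme-theoretic density of an open and associated points (helper24)

* `isSchemeTheoreticallyDominant_iff_injective`: for quasi-compact `f`, scheme-theoretic dominance
  means injectivity of the maps on sections over affine opens.
* `isSchemeTheoreticallyDominant_ι_iff`: an open `U` of a locally Noetherian scheme `Z` is
  scheme-theoretically dense iff it contains all associated points of `O_Z`.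
-/

set_option autoImplicit false
universe u

namespace Groth.Agent.Lib.Helper24.SchDenseAss

open AlgebraicGeometry CategoryTheory TopologicalSpace

theorem isSchemeTheoreticallyDominant_iff_injective {X Y : Scheme.{u}} (f : X ⟶ Y)
    [QuasiCompact f] :
    IsSchemeTheoreticallyDominant f ↔
      ∀ W : Y.affineOpens, Function.Injective (f.app W.1).hom := by
  constructor
  · intro h W
    exact f.app_injective W.1
  · intro h
    rw [isSchemeTheoreticallyDominant_iff]
    apply Scheme.IdealSheafData.ext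
    funext W
    rw [Scheme.Hom.ker_apply, Scheme.IdealSheafData.ideal_bot, Pi.bot_apply]
    exact (RingHom.injective_iff_ker_eq_bot _).mp (h W)

theorem mem_basicOpen_iff {X : Scheme.{u}} {U : X.Opens} (hU : IsAffineOpen U) (x : X)
    (hx : x ∈ U) (s : Γ(X, U)) :
    x ∈ X.basicOpen s ↔ s ∉ (hU.primeIdealOf ⟨x, hx⟩).asIdeal := by
  have h1 : hU.fromSpec (hU.primeIdealOf ⟨x, hx⟩) = x := hU.fromSpec_primeIdealOf ⟨x, hx⟩
  have h2 := hU.fromSpec_preimage_basicOpen s
  have h3 : hU.primeIdealOf ⟨x, hx⟩ ∈ hU.fromSpec ⁻¹ᵁ X.basicOpen s ↔ x ∈ X.basicOpen s := by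
    show hU.fromSpec (hU.primeIdealOf ⟨x, hx⟩) ∈ X.basicOpen s ↔ _
    rw [h1]
  rw [← h3, h2]
  rfl

variable {Z : Scheme.{u}} [IsLocallyNoetherian Z]

/-- **Scheme-theoretic density and associated points.** -/
theorem isSchemeTheoreticallyDominant_ι_iff (U : Z.Opens) :
    IsSchemeTheoreticallyDominant U.ι ↔
      ∀ z ∈ AssSch.Ass (Coh.structureModule Z), z ∈ U := by
  haveI := Groth.Agent.Lib.Lead.RH.isQuasicoherent_structureModule' Z
  rw [isSchemeTheoreticallyDominant_iff_injective]
  constructor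
  · intro h z hz
    by_contra hzU
    obtain ⟨W, hW, hzW⟩ := Groth.Agent.Lib.helper16.PrimDec.exists_affine_mem z
    have h1 := (Groth.Agent.Lib.helper16.PrimDec.mem_ass_iff (Coh.structureModule Z) hW z hzW).mp hz
    haveI : IsNoetherianRing Γ(Z, W) := IsLocallyNoetherian.component_noetherian ⟨W, hW⟩
    obtain ⟨hprime, a0, ha⟩ := (isAssociatedPrime_iff).mp h1
    obtain ⟨a, rfl⟩ : ∃ a : Γ(Z, W), a = a0 := ⟨a0, rfl⟩
    have hann : ∀ c : Γ(Z, W), c ∈ (hW.primeIdealOf ⟨z, hzW⟩).asIdeal ↔ c * a = 0 := by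
      intro c
      rw [ha, Submodule.mem_colon_singleton, Submodule.mem_bot]
      rfl
    have hinj := h ⟨W, hW⟩
    have ha0 : (a : Γ(Z, W)) = 0 := by
      refine hinj (Eq.trans ?_ (map_zero _).symm)
      change (Z.presheaf.map (homOfLE (x := U.ι ''ᵁ U.ι ⁻¹ᵁ W)
        (Set.image_preimage_subset _ _)).op).hom a = 0
      refine Z.IsSheaf.section_ext fun x hx => ?_
      have hxW : x ∈ W := (Set.image_preimage_subset _ _) hx
      have hxU : x ∈ U := by
        obtain ⟨u, -, rfl⟩ := hx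
        exact u.2
      obtain ⟨b, hb, hxb⟩ := hW.exists_basicOpen_le (V := U.ι ''ᵁ U.ι ⁻¹ᵁ W) ⟨x, hx⟩ hxW
      refine ⟨Z.basicOpen b, hb, hxb, ?_⟩
      rw [map_zero]
      change (Z.presheaf.map (homOfLE hb).op).hom ((Z.presheaf.map (homOfLE (x := U.ι ''ᵁ U.ι ⁻¹ᵁ W)
        (Set.image_preimage_subset _ _)).op).hom a) = 0
      have hbz : z ∉ Z.basicOpen b := by
        intro hzb
        have h2 := hb hzb
        obtain ⟨u, -, hu⟩ := h2
        exact hzU (hu ▸ u.2)
      have hbp : b ∈ (hW.primeIdealOf ⟨z, hzW⟩).asIdeal := by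
        by_contra hbn
        exact hbz ((mem_basicOpen_iff hW z hzW b).mpr hbn)
      have hba : b * a = 0 := (hann b).mp hbp
      have hu : IsUnit (Z.presheaf.map (homOfLE (Z.basicOpen_le b)).op b) :=
        RingedSpace.isUnit_res_basicOpen _ b
      have h3 : Z.presheaf.map (homOfLE (Z.basicOpen_le b)).op b *
          Z.presheaf.map (homOfLE (Z.basicOpen_le b)).op a = 0 := by
        rw [← map_mul, hba, map_zero]
      have h4 : Z.presheaf.map (homOfLE (Z.basicOpen_le b)).op a = 0 :=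
        (hu.mul_right_eq_zero).mp h3
      rw [← ConcreteCategory.comp_apply, ← Functor.map_comp]
      exact h4
    have htop : (1 : Γ(Z, W)) ∈ (hW.primeIdealOf ⟨z, hzW⟩).asIdeal := by
      rw [hann, ha0, mul_zero]
    exact hprime.ne_top ((Ideal.eq_top_iff_one _).mpr htop)
  · intro h W
    rw [injective_iff_map_eq_zero]
    intro s hs
    by_contra hne
    obtain ⟨y, hyW, hyass, hgerm⟩ :=
      Groth.Agent.Lib.helper16.IrrDec.exists_assPoint_of_ne_zero (Coh.structureModule Z) W.1 s hne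
    have hyU : y ∈ U := h y hyass
    have hyO : y ∈ U.ι ''ᵁ U.ι ⁻¹ᵁ W.1 := ⟨⟨y, hyU⟩, hyW, rfl⟩
    apply hgerm
    have hs' : (Coh.structureModule Z).presheaf.map (homOfLE (x := U.ι ''ᵁ U.ι ⁻¹ᵁ W.1)
        (Set.image_preimage_subset _ _)).op s = 0 := hs
    rw [← TopCat.Presheaf.germ_res_apply (Coh.structureModule Z).presheaf
      (homOfLE (x := U.ι ''ᵁ U.ι ⁻¹ᵁ W.1) (Set.image_preimage_subset _ _)) y hyO s, hs', map_zero]

end Groth.Agent.Lib.Helper24.SchDenseAss
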