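import Groth.Agent.Lib.Helper24.RelAssGen3
import Groth.Agent.Lib.Helper24.SchDenseAss
import Groth.Agent.Lib.Helper11.InvMod

/-!
# Scheme-theoretic density in the fibres near the generic point (helper24)

* `mem_ass_structure_fibre_iff`: the associated points of the structure sheaf of a fibre are the
  points of the relative assassin of the structure sheaf.
* `schDense_fibre_near_generic` (S1300).
-/

set_option autoImplicit false
universe u

namespace Groth.Agent.Lib.Helper24.RelAssGen

open AlgebraicGeometry CategoryTheory CategoryTheory.Limits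

theorem mem_ass_structure_fibre_iff {X Y : Scheme.{u}} (f : X ⟶ Y) [LocallyOfFiniteType f]
    (y : Y) (z : f.fiber y) :
    z ∈ AssSch.Ass (Coh.structureModule (f.fiber y)) ↔
      f.fiberι y z ∈ MoreMor.relAss f (Coh.structureModule X) := by
  haveI := Groth.Agent.Lib.helper3.FibreField.locallyOfFiniteType_fiber f y
  haveI : IsLocallyNoetherian (f.fiber y) :=
    LocallyOfFiniteType.isLocallyNoetherian (f.fiberToSpecResidueField y)
  haveI := Groth.Agent.Lib.Lead.RH.isQuasicoherent_structureModule' X
  haveI := Groth.Agent.Lib.Lead.RH.isQuasicoherent_structureModule' (f.fiber y)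
  haveI : ((Scheme.Modules.pullback (f.fiberι y)).obj (Coh.structureModule X)).IsQuasicoherent :=
    Groth.Agent.Lib.helper16.QCohPullback.isQuasicoherent_pullback _ _
  rw [← Groth.Agent.Lib.Helper24.RelAssBC.isAssPoint_fibre_iff f (Coh.structureModule X) y z]
  have h := Groth.Agent.Lib.helper16.PrimDec.ass_eq_of_iso
    (Groth.Agent.Lib.helper11.InvMod.pullbackUnitIso (f.fiberι y))
  change z ∈ AssSch.Ass _ ↔ z ∈ AssSch.Ass _
  rw [h]

/-- **S1300**: if the trace of `U` on the generic fibre is scheme-theoretically dense, the same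
holds on the fibres over a nonempty open of the target. -/
theorem schDense_fibre_near_generic {X Y : Scheme.{u}} (f : X ⟶ Y) [IrreducibleSpace Y]
    [LocallyOfFiniteType f] [QuasiCompact f] (U : X.Opens)
    (h : IsSchemeTheoreticallyDominant (f.fiberι (genericPoint Y) ⁻¹ᵁ U).ι) :
    ∃ V : Y.Opens, (V : Set Y).Nonempty ∧
      ∀ y ∈ V, IsSchemeTheoreticallyDominant (f.fiberι y ⁻¹ᵁ U).ι := by
  have key : ∀ y : Y, IsSchemeTheoreticallyDominant (f.fiberι y ⁻¹ᵁ U).ι ↔
      ∀ x ∈ MoreMor.relAss f (Coh.structureModule X), f x = y → x ∈ U := by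
    intro y
    haveI := Groth.Agent.Lib.helper3.FibreField.locallyOfFiniteType_fiber f y
    haveI : IsLocallyNoetherian (f.fiber y) :=
      LocallyOfFiniteType.isLocallyNoetherian (f.fiberToSpecResidueField y)
    rw [Groth.Agent.Lib.Helper24.SchDenseAss.isSchemeTheoreticallyDominant_ι_iff]
    constructor
    · intro h1 x hx hfx
      have hr : x ∈ Set.range (f.fiberι y) := by
        rw [Scheme.Hom.range_fiberι]
        exact hfx
      obtain ⟨z, rfl⟩ := hr
      exact h1 z ((mem_ass_structure_fibre_iff f y z).mpr hx)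
    · intro h1 z hz
      have hfz : f.fiberι y z ∈ f ⁻¹' {y} := by
        rw [← Scheme.Hom.range_fiberι]
        exact ⟨z, rfl⟩
      exact h1 _ ((mem_ass_structure_fibre_iff f y z).mp hz) hfz
  obtain ⟨V, hVne, hV⟩ := relAss_subset_open_near_generic f (Coh.structureModule X)
    (Groth.Agent.Lib.Lead.RH.isCoh_structureModule' X) U ((key _).mp h)
  exact ⟨V, hVne, fun y hy => (key y).mpr fun x hx hfx => hV x hx (hfx ▸ hy)⟩

end Groth.Agent.Lib.Helper24.RelAssGen
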