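import Mathlib

/-!
# Generic points of fibres of the closure of a point of the relative assassin: topology (helper24)

* `GenAss f R ξ`: pointwise form of the conclusion of S1446.
* `GenAss.transfer`: transfer along an embedding.
* `GenAss.result`: the form with irreducible components.
-/

set_option autoImplicit false
universe u

namespace Groth.Agent.Lib.Helper24.RelAssGen

/-- there is an open neighbourhood `G` of `ξ` such that every point of `closure {ξ} ∩ G` which is
maximal (for generization) in its fibre of `closure {ξ} ∩ G` belongs to `R`. -/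
def GenAss {X S : Type*} [TopologicalSpace X] (f : X → S) (R : Set X) (ξ : X) : Prop :=
  ∃ G : Set X, IsOpen G ∧ ξ ∈ G ∧ ∀ x ∈ closure {ξ} ∩ G,
    (∀ t ∈ closure {ξ} ∩ G, f t = f x → t ⤳ x → t = x) → x ∈ R

theorem GenAss.transfer {X' X S' S : Type*} [TopologicalSpace X'] [TopologicalSpace X]
    (ι : X' → X) (hι : Topology.IsInducing ι) (hinj : Function.Injective ι)
    (f : X → S) (f' : X' → S') (κ : S' → S) (hcomm : ∀ x', f (ι x') = κ (f' x'))
    (R : Set X) (R' : Set X') (hR : ∀ x', x' ∈ R' → ι x' ∈ R) (ξ' : X')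
    (O : Set X) (hO : IsOpen O) (hξO : ι ξ' ∈ O) (hOr : closure {ι ξ'} ∩ O ⊆ Set.range ι)
    (h : GenAss f' R' ξ') : GenAss f R (ι ξ') := by
  obtain ⟨G', hG', hξG', hV'⟩ := h
  obtain ⟨G, hG, rfl⟩ := hι.isOpen_iff.mp hG'
  have hcl : ∀ t' : X', t' ∈ closure {ξ'} ↔ ι t' ∈ closure {ι ξ'} := by
    intro t'
    rw [hι.closure_eq_preimage_closure_image, Set.image_singleton]
    rfl
  refine ⟨G ∩ O, hG.inter hO, ⟨hξG', hξO⟩, ?_⟩
  rintro x ⟨hxZ, hxG, hxO⟩ hmx
  obtain ⟨x', rfl⟩ := hOr ⟨hxZ, hxO⟩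
  apply hR
  apply hV' x' ⟨(hcl x').mpr hxZ, hxG⟩
  rintro t' ⟨ht'Z, ht'G⟩ hft ht'x
  apply hinj
  have hspec : ι t' ⤳ ι x' := ht'x.map hι.continuous
  refine hmx (ι t') ⟨(hcl t').mp ht'Z, ht'G, hspec.mem_open hO hxO⟩ ?_ hspec
  rw [hcomm, hcomm, hft]

theorem GenAss.result {X S : Type*} [TopologicalSpace X] [T0Space X] (f : X → S) (R : Set X)
    (ξ : X) (h : GenAss f R ξ) :
    ∃ V : Set X, V ⊆ closure {ξ} ∧
      IsOpen (Subtype.val ⁻¹' V : Set ↑(closure ({ξ} : Set X))) ∧ V.Nonempty ∧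
      ∀ (x : X) (hx : x ∈ V), (∃ C ∈ irreducibleComponents ↑(V ∩ f ⁻¹' {f x}),
        IsGenericPoint (⟨x, hx, rfl⟩ : ↑(V ∩ f ⁻¹' {f x})) C) → x ∈ R := by
  obtain ⟨G, hG, hξG, hV⟩ := h
  refine ⟨closure {ξ} ∩ G, Set.inter_subset_left, ?_,
    ⟨ξ, subset_closure (Set.mem_singleton ξ), hξG⟩, ?_⟩
  · have : (Subtype.val ⁻¹' (closure {ξ} ∩ G) : Set ↑(closure ({ξ} : Set X))) =
        Subtype.val ⁻¹' G := by
      ext z
      simp
    rw [this]
    exact hG.preimage continuous_subtype_val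
  · rintro x hx ⟨C, hC, hgen⟩
    apply hV x hx
    intro t ht hft htx
    let A : Set X := (closure {ξ} ∩ G) ∩ f ⁻¹' {f x}
    let t' : ↑A := ⟨t, ht, hft⟩
    let x' : ↑A := ⟨x, hx, rfl⟩
    have hsp : ∀ a b : ↑A, a ⤳ b ↔ a.1 ⤳ b.1 := fun a b =>
      (Topology.IsInducing.subtypeVal.specializes_iff (x := a) (y := b)).symm
    have h1 : t' ⤳ x' := (hsp t' x').mpr htx
    have hirr : IsIrreducible (closure ({t'} : Set ↑A)) := isIrreducible_singleton.closure
    have hCeq : closure ({x'} : Set ↑A) = C := hgen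
    have hle : C ≤ closure ({t'} : Set ↑A) := by
      rw [← hCeq]
      exact closure_minimal (Set.singleton_subset_iff.mpr (specializes_iff_mem_closure.mp h1))
        isClosed_closure
    have hmax : Maximal IsIrreducible C := hC
    have hge : closure ({t'} : Set ↑A) ≤ C := hmax.le_of_ge hirr hle
    have h2 : x' ⤳ t' := by
      rw [specializes_iff_mem_closure, hCeq]
      exact hge (subset_closure (Set.mem_singleton t'))
    have h3 : x ⤳ t := (hsp x' t').mp h2
    exact (htx.antisymm h3).eq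

end Groth.Agent.Lib.Helper24.RelAssGen
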