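import Groth.Agent.Lib.Helper24.RelAssGen8
import Groth.Agent.Lib.Helper24.RelAssGen5
import Groth.Agent.Lib.Helper24.FibKL13

/-!
# Generic points of fibres of the closure of a point of the relative assassin: the finitely
presented affine core (helper24)
-/

set_option autoImplicit false
universe u

namespace Groth.Agent.Lib.Helper24.RelAssGen

open AlgebraicGeometry CategoryTheory CategoryTheory.Limits TensorProduct

theorem specializes_of_approx {X Y : Scheme.{u}} [IsAffine X] (g : X ⟶ Y) (ξ x : X)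
    (a : Γ(Y, ⊤)) (t : Finset Γ(X, ⊤))
    (happrox : ∀ p ∈ (primeOf ξ).asIdeal, ∃ n : ℕ,
      (g.appTop.hom a) ^ n * p ∈ Ideal.span (t : Set Γ(X, ⊤)))
    (hx : ∀ s ∈ t, x ∉ X.basicOpen s) (hgx : g x ∈ Y.basicOpen a) : ξ ⤳ x := by
  apply specializes_of_primeOf_le
  intro p hp
  obtain ⟨n, hn⟩ := happrox p hp
  have hle : Ideal.span (t : Set Γ(X, ⊤)) ≤ (primeOf x).asIdeal := by
    rw [Ideal.span_le]
    intro s hs
    change s ∈ (primeOf x).asIdeal
    rw [mem_primeOf_iff]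
    exact hx s hs
  have h1 := hle hn
  rcases (primeOf x).isPrime.mem_or_mem h1 with h2 | h2
  · exfalso
    have h3 := (primeOf x).isPrime.mem_of_pow_mem n h2
    rw [mem_primeOf_iff] at h3
    apply h3
    have : x ∈ g ⁻¹ᵁ Y.basicOpen a := hgx
    rw [Scheme.preimage_basicOpen_top] at this
    exact this
  · exact h2

theorem notMem_basicOpen_of_specializes {X : Scheme.{u}} (ξ x : X) (h : ξ ⤳ x) (s : Γ(X, ⊤))
    (hs : s ∈ (primeOf ξ).asIdeal) : x ∉ X.basicOpen s := by
  intro hx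
  rw [mem_primeOf_iff] at hs
  exact hs (h.mem_open (X.basicOpen s).2 hx)

open Groth.Agent.Lib.Helper24.FibKL in
/-- **Core**: affine finitely presented over an affine integral base, `ξ` over the generic point. -/
theorem genAss_fp {X Y : Scheme.{u}} [IsAffine X] [IsAffine Y] [IsIntegral Y] (g : X ⟶ Y)
    [LocallyOfFinitePresentation g] (G : X.Modules) (hG : CohB1.IsFP G) (ξ : X)
    (hξ : ξ ∈ MoreMor.relAss g G) (hgξ : g ξ = genericPoint Y) :
    GenAss (fun x : X => g x) (MoreMor.relAss g G) ξ := by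
  classical
  haveI : QuasiCompact g := inferInstance
  letI alg : Algebra Γ(Y, ⊤) Γ(X, ⊤) := g.appTop.hom.toAlgebra
  haveI : IsDomain Γ(Y, ⊤) := inferInstance
  have hft : g.appTop.hom.FiniteType :=
    (HasRingHomProperty.iff_of_isAffine (P := @LocallyOfFiniteType)).mp inferInstance
  haveI : Algebra.FiniteType Γ(Y, ⊤) Γ(X, ⊤) := hft
  obtain ⟨a, ha, t, ht, happrox0⟩ := exists_fg_approx Γ(Y, ⊤) Γ(X, ⊤) (primeOf ξ).asIdeal
  have happrox : ∀ p ∈ (primeOf ξ).asIdeal, ∃ n : ℕ,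
      (g.appTop.hom a) ^ n * p ∈ Ideal.span (t : Set Γ(X, ⊤)) := by
    intro p hp
    obtain ⟨n, hn⟩ := happrox0 p hp
    refine ⟨n, ?_⟩
    rw [Algebra.smul_def, map_pow] at hn
    exact hn
  -- the constructible closed set
  let U'' : Set X := ⋃ s : (t : Set Γ(X, ⊤)), (X.basicOpen s.1 : Set X)
  have hUo : IsOpen U'' := isOpen_iUnion fun _ => (X.basicOpen _).2
  have hUr : IsRetrocompact U'' := by
    haveI : Finite (t : Set Γ(X, ⊤)) := t.finite_toSet.to_subtype
    refine IsRetrocompact.iUnion fun s => ?_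
    haveI : IsAffine (X.basicOpen s.1).toScheme := (isAffineOpen_top X).basicOpen s.1
    exact Groth.Agent.Lib.Helper24.FibKL.isRetrocompact_of_quasiCompact_ι _
  have hZc : Topology.IsLocallyConstructible U''ᶜ :=
    Groth.Agent.Lib.Helper24.FibCons.isLocallyConstructible_compl (hUr.isLocallyConstructible hUo)
  have hmemZ : ∀ x : X, x ∈ U''ᶜ ↔ ∀ s ∈ t, x ∉ X.basicOpen s := by
    intro x
    simp only [U'', Set.mem_compl_iff, Set.mem_iUnion, not_exists]
    constructor
    · intro h s hs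
      exact h ⟨s, hs⟩
    · intro h s
      exact h s.1 s.2
  set W₂ : ℕ → Set X := fun a' => (fibSpec g (assDim g G a'))ᶜ with hW₂
  have hW₂c : ∀ a', Topology.IsLocallyConstructible (W₂ a') := fun a' =>
    Groth.Agent.Lib.Helper24.FibCons.isLocallyConstructible_compl
      (isLocallyConstructible_fibSpec_assDim' g G hG a')
  have hE : Topology.IsLocallyConstructible (mxSet g U''ᶜ W₂) :=
    isLocallyConstructible_mxSet g _ hZc W₂ hW₂c
  have hEc := Groth.Agent.Lib.Helper24.FibCons.isLocallyConstructible_compl hE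
  have hη' : ∀ O : Set Y, IsOpen O → O.Nonempty → genericPoint Y ∈ O := by
    intro O hO hOne
    exact ((genericPoint_spec Y).mem_open_set_iff hO).mpr (by
      simpa [Set.inter_comm] using hOne)
  have hηa : genericPoint Y ∈ Y.basicOpen a := by
    refine hη' _ (Y.basicOpen a).2 ?_
    by_contra hne
    rw [Set.not_nonempty_iff_eq_empty] at hne
    have h1 : Y.basicOpen a = ⊥ := TopologicalSpace.Opens.ext hne
    rw [AlgebraicGeometry.basicOpen_eq_bot_iff] at h1
    exact ha h1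
  have hξZ : ξ ∈ U''ᶜ := by
    rw [hmemZ]
    intro s hs
    exact notMem_basicOpen_of_specializes ξ ξ specializes_rfl s (ht hs)
  have hd0 : CInt.fiberDepth g G ξ = 0 := (mem_relAss_iff g G hG ξ).mp hξ
  have hηE : genericPoint Y ∈ (mxSet g U''ᶜ W₂)ᶜ := by
    rintro ⟨ζ, a', hgζ, hζZ, hmax, htd, hζW⟩
    have hspec : ξ ⤳ ζ := specializes_of_approx g ξ ζ a t happrox ((hmemZ ζ).mp hζZ)
      (by rw [hgζ]; exact hηa)
    have hξζ : ξ = ζ := hmax ξ hξZ (by rw [hgξ, hgζ]) hspec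
    subst hξζ
    exact hζW ((fiberDepth_eq_zero_iff_mem_fibSpec g G ξ a' htd).mp hd0)
  obtain ⟨O, hO, hηO, hOE⟩ :=
    Groth.Agent.Lib.Helper24.FibKL.exists_isOpen_subset_of_isLocallyConstructible
      (genericPoint Y) hη' _ hEc hηE
  refine ⟨g ⁻¹' (O ∩ Y.basicOpen a), (hO.inter (Y.basicOpen a).2).preimage g.continuous,
    ⟨by rw [hgξ]; exact hηO, by rw [hgξ]; exact hηa⟩, ?_⟩
  rintro x ⟨hxZ, hxO, hxa⟩ hmx
  obtain ⟨a', -, htd, -, -⟩ := Groth.Agent.Lib.helper3.DimFibre.fibreDimAt_eq_add g x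
  have hξx : ξ ⤳ x := specializes_iff_mem_closure.mpr hxZ
  have hxZ'' : x ∈ U''ᶜ := by
    rw [hmemZ]
    intro s hs
    exact notMem_basicOpen_of_specializes ξ x hξx s (ht hs)
  have hxE : g x ∉ mxSet g U''ᶜ W₂ := hOE hxO
  rw [mem_relAss_iff g G hG x, fiberDepth_eq_zero_iff_mem_fibSpec g G x a' htd]
  by_contra hxW
  apply hxE
  refine ⟨x, a', rfl, hxZ'', ?_, htd, hxW⟩
  intro z hzZ hgz hzx
  have hξz : ξ ⤳ z := specializes_of_approx g ξ z a t happrox ((hmemZ z).mp hzZ)
    (by rw [hgz]; exact hxa)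
  refine hmx z ⟨specializes_iff_mem_closure.mp hξz, ?_, ?_⟩ hgz hzx
  · rw [hgz]
    exact hxO
  · change g z ∈ Y.basicOpen a
    rw [hgz]
    exact hxa

end Groth.Agent.Lib.Helper24.RelAssGen
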