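import Mathlib

/-!
# Base change of relatively finitely presented modules: the abstract lemma

* `ker_eq_smul_top_of_isBaseChange`: for a surjective algebra map `S → T` with kernel `J` and a base
  change map `h : N₀ → N`, `h` is surjective with kernel `J • ⊤`.
* `isBaseChange_id_of_surjective`: if `P → A` is surjective, an `A`-module is its own base change.
* `fp_baseChange_of_ker`: the abstract base change lemma for modules finitely presented through a
  surjection.
-/

set_option autoImplicit false

open TensorProduct

namespace Groth.Agent.Lib.Helper24.RelFPBC1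

universe u v w

section Ker

variable {S : Type u} {T : Type v} [CommRing S] [CommRing T] [Algebra S T]
  {N₀ : Type w} {N : Type w} [AddCommGroup N₀] [Module S N₀] [AddCommGroup N] [Module S N] [Module T N]
  [IsScalarTower S T N]

theorem ker_eq_smul_top_of_isBaseChange (hsurj : Function.Surjective (algebraMap S T))
    (h : N₀ →ₗ[S] N) (hh : IsBaseChange T h) :
    Function.Surjective h ∧ LinearMap.ker h = RingHom.ker (algebraMap S T) • (⊤ : Submodule S N₀) := by
  set J := RingHom.ker (algebraMap S T) with hJ
  -- `S ⧸ J ≃ T`
  let e : (S ⧸ J) ≃ₐ[S] T := Ideal.quotientKerAlgEquivOfSurjective (f := Algebra.ofId S T) hsurj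
  let E : (N₀ ⧸ (J • (⊤ : Submodule S N₀))) ≃ₗ[S] N :=
    (TensorProduct.quotTensorEquivQuotSMul N₀ J).symm ≪≫ₗ
      (TensorProduct.congr e.toLinearEquiv (LinearEquiv.refl S N₀)) ≪≫ₗ
      (hh.equiv.restrictScalars S)
  have hE : ∀ n : N₀, E (Submodule.Quotient.mk n) = h n := by
    intro n
    simp only [E, LinearEquiv.trans_apply, TensorProduct.quotTensorEquivQuotSMul_symm_mk,
      TensorProduct.congr_tmul, LinearEquiv.refl_apply, LinearEquiv.restrictScalars_apply]
    have : e.toLinearEquiv (1 : S ⧸ J) = 1 := map_one e
    rw [this, IsBaseChange.equiv_tmul, one_smul]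
  have hcomp : h = E.toLinearMap ∘ₗ (J • (⊤ : Submodule S N₀)).mkQ := by
    ext n
    exact (hE n).symm
  constructor
  · rw [hcomp]
    exact E.surjective.comp (Submodule.mkQ_surjective _)
  · rw [hcomp, LinearMap.ker_comp, LinearEquiv.ker, Submodule.comap_bot, Submodule.ker_mkQ]

end Ker


section Id

variable {P : Type u} {A : Type v} [CommRing P] [CommRing A] [Algebra P A]
  {M : Type w} [AddCommGroup M] [Module P M] [Module A M] [IsScalarTower P A M]

theorem isBaseChange_id_of_surjective (hsurj : Function.Surjective (algebraMap P A)) :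
    IsBaseChange A (LinearMap.id : M →ₗ[P] M) := by
  apply IsBaseChange.of_lift_unique
  intro Q _ _ _ _ g
  refine ⟨LinearMap.extendScalarsOfSurjective hsurj g, ?_, ?_⟩
  · ext m
    rfl
  · intro g' hg'
    ext m
    have := congrArg (fun l : M →ₗ[P] Q => l m) hg'
    simpa using this

end Id


section Main

/-- Abstract base change: `P → A`, `P' → A'` surjective, compatible with `P → P'`, `A → A'`;
`ker (P' → A') = (ker (P → A)) P' + K` with `K` finitely generated.  If the `A`-module `M` is
finitely presented over `P`, then `A' ⊗_A M` is finitely presented over `P'`. -/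
theorem fp_baseChange_of_ker {P A P' A' : Type u} [CommRing P] [CommRing A] [CommRing P']
    [CommRing A'] [Algebra A A']
    (α : P →+* A) (hα : Function.Surjective α) (ι : P →+* P') (β : P' →+* A')
    (hβ : Function.Surjective β) (hcomm : β.comp ι = (algebraMap A A').comp α)
    (K : Ideal P') (hK : K.FG) (hker : RingHom.ker β = (RingHom.ker α).map ι ⊔ K)
    (M : Type u) [AddCommGroup M] [Module A M]
    (hM : @Module.FinitePresentation P M _ _ (Module.compHom M α)) :
    @Module.FinitePresentation P' (A' ⊗[A] M) _ _ (Module.compHom (A' ⊗[A] M) β) := by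
  letI : Algebra P A := α.toAlgebra
  letI : Module P M := Module.compHom M α
  haveI : IsScalarTower P A M := ⟨fun p a m => by
    change (α p * a) • m = α p • (a • m)
    rw [mul_smul]⟩
  letI : Algebra P P' := ι.toAlgebra
  letI : Algebra P' A' := β.toAlgebra
  letI : Algebra P A' := ((algebraMap A A').comp α).toAlgebra
  haveI : IsScalarTower P A A' := IsScalarTower.of_algebraMap_eq (fun _ => rfl)
  haveI : IsScalarTower P P' A' := IsScalarTower.of_algebraMap_eq (fun p => by
    change (algebraMap A A').comp α p = β.comp ι p
    rw [hcomm])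
  haveI : Module.FinitePresentation P M := hM
  -- the base change maps
  have hid : IsBaseChange A (LinearMap.id : M →ₗ[P] M) := isBaseChange_id_of_surjective hα
  have h2 : IsBaseChange A' (TensorProduct.mk A A' M 1) := TensorProduct.isBaseChange A M A'
  have h3 := IsBaseChange.comp hid h2
  have h0 : IsBaseChange P' (TensorProduct.mk P P' M 1) := TensorProduct.isBaseChange P M P'
  let f : M →ₗ[P] A' ⊗[A] M := ((TensorProduct.mk A A' M 1).restrictScalars P).comp LinearMap.id
  let h : P' ⊗[P] M →ₗ[P'] A' ⊗[A] M := h0.lift f
  have hcomp : ((h : P' ⊗[P] M →ₗ[P] A' ⊗[A] M)) ∘ₗ (TensorProduct.mk P P' M 1) = f :=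
    h0.lift_comp f
  have hh : IsBaseChange A' h := by
    refine IsBaseChange.of_comp h0 ?_
    rw [hcomp]
    exact h3
  obtain ⟨hsurj, hkerh⟩ := ker_eq_smul_top_of_isBaseChange hβ h hh
  have heq : (Module.compHom (A' ⊗[A] M) β) = (inferInstance : Module P' (A' ⊗[A] M)) :=
    Module.ext' _ _ (fun r m => by
      change β r • m = r • m
      exact algebraMap_smul A' r m)
  rw [heq]
  refine Module.finitePresentation_of_surjective h hsurj ?_
  -- the kernel is `K • ⊤`
  have hzero : ∀ x ∈ (RingHom.ker α).map ι, ∀ n : P' ⊗[P] M, x • n = 0 := by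
    intro x hx n
    induction hx using Submodule.span_induction with
    | mem y hy =>
      obtain ⟨i, hi, rfl⟩ := hy
      induction n using TensorProduct.induction_on with
      | zero => simp
      | tmul p' m =>
        have hi' : α i = 0 := hi
        have : (i • m : M) = 0 := by
          change α i • m = 0
          rw [hi', zero_smul]
        calc ι i • (p' ⊗ₜ[P] m) = (i • p') ⊗ₜ[P] m := by
              rw [TensorProduct.smul_tmul', Algebra.smul_def]; rfl
          _ = p' ⊗ₜ[P] (i • m) := TensorProduct.smul_tmul _ _ _
          _ = 0 := by rw [this, TensorProduct.tmul_zero]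
      | add a b ha hb => rw [smul_add, ha, hb, add_zero]
    | zero => simp
    | add y z _ _ hy hz => rw [add_smul, hy, hz, add_zero]
    | smul c y _ hy => rw [smul_eq_mul, mul_smul, hy, smul_zero]
  have hkerK : LinearMap.ker h = K • (⊤ : Submodule P' (P' ⊗[P] M)) := by
    rw [hkerh]
    change RingHom.ker β • _ = _
    rw [hker, Submodule.sup_smul]
    have : (RingHom.ker α).map ι • (⊤ : Submodule P' (P' ⊗[P] M)) = ⊥ := by
      rw [eq_bot_iff, Submodule.smul_le]
      intro x hx n _
      rw [Submodule.mem_bot]
      exact hzero x hx n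
    rw [this, bot_sup_eq]
  rw [hkerK]
  exact Submodule.FG.smul hK Module.Finite.fg_top

end Main

end Groth.Agent.Lib.Helper24.RelFPBC1
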