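import Mathlib
import Groth.Agent.Lib.Helper23.RelFP
import Groth.Agent.Lib.Helper24.RelFPBC1

/-!
# Base change of relatively finitely presented modules along `R → R'` (S12083)
-/

set_option autoImplicit false

open TensorProduct MvPolynomial

namespace Groth.Agent.Lib.Helper24.RelFPBC2

universe u

section

variable {R A R' A' : Type u} [CommRing R] [CommRing A] [CommRing R'] [CommRing A']
  [Algebra R A] [Algebra R R'] [Algebra A A'] [Algebra R' A'] [Algebra R A'] [IsScalarTower R A A']
  [IsScalarTower R R' A'] {n : ℕ}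

/-- the base change of a presentation -/
noncomputable def bcPres (α : MvPolynomial (Fin n) R →ₐ[R] A) : MvPolynomial (Fin n) R' →ₐ[R'] A' :=
  MvPolynomial.aeval (fun i => algebraMap A A' (α (X i)))

theorem bcPres_comp_map (α : MvPolynomial (Fin n) R →ₐ[R] A) :
    (bcPres (R' := R') (A' := A') α).toRingHom.comp (MvPolynomial.map (algebraMap R R')) =
      (algebraMap A A').comp α.toRingHom := by
  apply MvPolynomial.ringHom_ext
  · intro r
    simp only [RingHom.comp_apply, MvPolynomial.map_C, AlgHom.toRingHom_eq_coe, RingHom.coe_coe,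
      bcPres, MvPolynomial.aeval_C]
    rw [← MvPolynomial.algebraMap_eq, AlgHom.commutes, ← IsScalarTower.algebraMap_apply,
      ← IsScalarTower.algebraMap_apply]
  · intro i
    simp [bcPres]

theorem bcPres_surjective [Algebra.IsPushout R A R' A'] (α : MvPolynomial (Fin n) R →ₐ[R] A)
    (hα : Function.Surjective α) : Function.Surjective (bcPres (R' := R') (A' := A') α) := by
  have hpo : Algebra.IsPushout R R' A A' := Algebra.IsPushout.symm inferInstance
  intro x
  refine hpo.out.inductionOn x (fun y => ∃ p, bcPres (R' := R') (A' := A') α p = y) ⟨0, map_zero _⟩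
    ?_ ?_ ?_
  · intro a
    obtain ⟨p, rfl⟩ := hα a
    refine ⟨MvPolynomial.map (algebraMap R R') p, ?_⟩
    have := congrArg (fun f : MvPolynomial (Fin n) R →+* A' => f p)
      (bcPres_comp_map (R' := R') (A' := A') α)
    exact this
  · rintro s y ⟨p, rfl⟩
    exact ⟨s • p, map_smul _ _ _⟩
  · rintro y z ⟨p, rfl⟩ ⟨q, rfl⟩
    exact ⟨p + q, map_add _ _ _⟩

theorem ker_bcPres [Algebra.IsPushout R A R' A'] (α : MvPolynomial (Fin n) R →ₐ[R] A)
    (hα : Function.Surjective α) :
    RingHom.ker (bcPres (R' := R') (A' := A') α).toRingHom =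
      (RingHom.ker α.toRingHom).map (MvPolynomial.map (algebraMap R R')) := by
  set J := (RingHom.ker α.toRingHom).map (MvPolynomial.map (algebraMap R R')) with hJ
  apply le_antisymm
  · -- the retraction `A' → P' ⧸ J`
    let ιa : MvPolynomial (Fin n) R →ₐ[R] MvPolynomial (Fin n) R' :=
      { MvPolynomial.map (algebraMap R R') with
        commutes' := fun r => by
          simp only [RingHom.toMonoidHom_eq_coe, OneHom.toFun_eq_coe, MonoidHom.toOneHom_coe,
            MonoidHom.coe_coe, MvPolynomial.algebraMap_eq, MvPolynomial.map_C]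
          rw [IsScalarTower.algebraMap_apply R R' (MvPolynomial (Fin n) R'),
            MvPolynomial.algebraMap_eq] }
    have hιa : ∀ p, ιa p = MvPolynomial.map (algebraMap R R') p := fun p => rfl
    let g₀ : MvPolynomial (Fin n) R →ₐ[R] (MvPolynomial (Fin n) R' ⧸ J) :=
      ((Ideal.Quotient.mkₐ R' J).restrictScalars R).comp ιa
    have hg₀ : RingHom.ker α.toRingHom ≤ RingHom.ker g₀.toRingHom := by
      intro p hp
      rw [RingHom.mem_ker]
      change Ideal.Quotient.mk J (MvPolynomial.map (algebraMap R R') p) = 0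
      rw [Ideal.Quotient.eq_zero_iff_mem]
      exact Ideal.mem_map_of_mem _ hp
    let f : A →ₐ[R] (MvPolynomial (Fin n) R' ⧸ J) := AlgHom.liftOfSurjective α hα g₀ hg₀
    have hf : ∀ p, f (α p) = Ideal.Quotient.mk J (MvPolynomial.map (algebraMap R R') p) := by
      intro p
      rw [AlgHom.liftOfSurjective_apply]
      rfl
    let g : R' →ₐ[R] (MvPolynomial (Fin n) R' ⧸ J) :=
      (Algebra.ofId R' (MvPolynomial (Fin n) R' ⧸ J)).restrictScalars R
    let φ : A' →ₐ[R] (MvPolynomial (Fin n) R' ⧸ J) :=
      Algebra.pushoutDesc A' f g (fun _ _ => mul_comm _ _)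
    have hφ : φ.toRingHom.comp (bcPres (R' := R') (A' := A') α).toRingHom = Ideal.Quotient.mk J := by
      apply MvPolynomial.ringHom_ext
      · intro r
        simp only [RingHom.comp_apply, AlgHom.toRingHom_eq_coe, RingHom.coe_coe, bcPres,
          MvPolynomial.aeval_C]
        rw [Algebra.pushoutDesc_right]
        rfl
      · intro i
        simp only [RingHom.comp_apply, AlgHom.toRingHom_eq_coe, RingHom.coe_coe, bcPres,
          MvPolynomial.aeval_X]
        rw [Algebra.pushoutDesc_left, hf, MvPolynomial.map_X]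
    intro p hp
    rw [RingHom.mem_ker] at hp
    have := congrArg (fun h : MvPolynomial (Fin n) R' →+* _ => h p) hφ
    simp only [RingHom.comp_apply] at this
    rw [hp, map_zero] at this
    exact Ideal.Quotient.eq_zero_iff_mem.mp this.symm
  · rw [hJ, Ideal.map_le_iff_le_comap]
    intro p hp
    rw [Ideal.mem_comap, RingHom.mem_ker]
    have := congrArg (fun f : MvPolynomial (Fin n) R →+* A' => f p)
      (bcPres_comp_map (R' := R') (A' := A') α)
    simp only [RingHom.comp_apply] at this
    rw [this]
    rw [RingHom.mem_ker] at hp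
    rw [hp, map_zero]

theorem main [Algebra.IsPushout R A R' A'] (M : Type u) [AddCommGroup M] [Module A M] {k : ℕ}
    (α : MvPolynomial (Fin n) R →ₐ[R] A) (hα : Function.Surjective α)
    (hM : @Module.FinitePresentation (MvPolynomial (Fin n) R) M _ _ (Module.compHom M α.toRingHom))
    (γ : MvPolynomial (Fin k) R' →ₐ[R'] A') (hγ : Function.Surjective γ) :
    @Module.FinitePresentation (MvPolynomial (Fin k) R') (TensorProduct A A' M) _ _
      (Module.compHom (TensorProduct A A' M) γ.toRingHom) := by
  have hβ := bcPres_surjective (R' := R') (A' := A') α hα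
  have h1 := RelFPBC1.fp_baseChange_of_ker α.toRingHom hα (MvPolynomial.map (algebraMap R R'))
    (bcPres (R' := R') (A' := A') α).toRingHom hβ (bcPres_comp_map α) ⊥ Submodule.fg_bot
    (by rw [sup_bot_eq]; exact ker_bcPres α hα) M hM
  exact (Groth.Agent.Lib.helper23.fp_iff_of_mvPolynomial (bcPres (R' := R') (A' := A') α) γ hγ hβ
    (A' ⊗[A] M)).mp h1

end

end Groth.Agent.Lib.Helper24.RelFPBC2
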