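import Mathlib
import Groth.Agent.Lib.Helper23.RelFP
import Groth.Agent.Lib.Helper24.RelFPBC1
import Groth.Agent.S6993

/-!
# Base change of relatively finitely presented modules along a finitely presented `A → A'` (S7005)
-/

set_option autoImplicit false

open TensorProduct MvPolynomial

namespace Groth.Agent.Lib.Helper24.RelFPBC3

universe u

theorem exists_fg_map_eq {S T : Type u} [CommRing S] [CommRing T] (f : S →+* T)
    (hf : Function.Surjective f) (I : Ideal T) (hI : I.FG) :
    ∃ K : Ideal S, K.FG ∧ K.map f = I := by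
  classical
  obtain ⟨t, ht⟩ := hI
  choose g hg using hf
  refine ⟨Ideal.span (t.image g : Finset S), ⟨t.image g, rfl⟩, ?_⟩
  rw [Ideal.map_span, ← ht]
  congr 1
  ext x
  simp only [Finset.coe_image, Set.mem_image, Finset.mem_coe]
  constructor
  · rintro ⟨_, ⟨y, hy, rfl⟩, rfl⟩
    rw [hg]; exact hy
  · intro hx
    exact ⟨g x, ⟨x, hx, rfl⟩, hg x⟩

theorem main {R A A' : Type u} [CommRing R] [CommRing A]
    [CommRing A'] [Algebra R A] [Algebra A A'] [Algebra R A'] [IsScalarTower R A A']
    [Algebra.FinitePresentation A A'] (M : Type u) [AddCommGroup M] [Module A M] {n k : ℕ}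
    (α : MvPolynomial (Fin n) R →ₐ[R] A) (hα : Function.Surjective α)
    (hM : @Module.FinitePresentation (MvPolynomial (Fin n) R) (M) _ _
      (Module.compHom (M) α.toRingHom))
    (γ : MvPolynomial (Fin k) R →ₐ[R] A') (hγ : Function.Surjective γ) :
    @Module.FinitePresentation (MvPolynomial (Fin k) R) (TensorProduct A A' M) _ _
      (Module.compHom (TensorProduct A A' M) γ.toRingHom) := by
  classical
  obtain ⟨s, π, hπ, hkπ⟩ := Algebra.FinitePresentation.out (R := A) (A := A')
  -- α₂ : P[y] → A[y]
  let α₂ : MvPolynomial (Fin s) (MvPolynomial (Fin n) R) →+* MvPolynomial (Fin s) A :=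
    MvPolynomial.map α.toRingHom
  have hα₂ : Function.Surjective α₂ := MvPolynomial.map_surjective α.toRingHom hα
  have hkα₂ : RingHom.ker α₂ = (RingHom.ker α.toRingHom).map
      (C : MvPolynomial (Fin n) R →+* MvPolynomial (Fin s) (MvPolynomial (Fin n) R)) :=
    MvPolynomial.ker_map α.toRingHom
  let β : MvPolynomial (Fin s) (MvPolynomial (Fin n) R) →+* A' := π.toRingHom.comp α₂
  have hβ : Function.Surjective β := hπ.comp hα₂
  have hcomm : β.comp (C : MvPolynomial (Fin n) R →+* MvPolynomial (Fin s) (MvPolynomial (Fin n) R)) =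
      (algebraMap A A').comp α.toRingHom := by
    ext p
    · simp only [RingHom.comp_apply, β, α₂, MvPolynomial.map_C, AlgHom.toRingHom_eq_coe,
        RingHom.coe_coe]
      rw [← MvPolynomial.algebraMap_eq, AlgHom.commutes]
    · simp only [RingHom.comp_apply, β, α₂, MvPolynomial.map_C, AlgHom.toRingHom_eq_coe,
        RingHom.coe_coe]
      rw [← MvPolynomial.algebraMap_eq, AlgHom.commutes]
  obtain ⟨K, hK, hKmap⟩ := exists_fg_map_eq α₂ hα₂ (RingHom.ker π.toRingHom) hkπ
  have hker : RingHom.ker β = (RingHom.ker α.toRingHom).map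
      (C : MvPolynomial (Fin n) R →+* MvPolynomial (Fin s) (MvPolynomial (Fin n) R)) ⊔ K := by
    have : RingHom.ker β = Ideal.comap α₂ (RingHom.ker π.toRingHom) := by
      ext x
      simp [β, RingHom.mem_ker, Ideal.mem_comap]
    rw [this, ← hKmap, Ideal.comap_map_of_surjective α₂ hα₂, ← RingHom.ker_eq_comap_bot, hkα₂,
      sup_comm]
  have h1 := RelFPBC1.fp_baseChange_of_ker α.toRingHom hα
    (C : MvPolynomial (Fin n) R →+* MvPolynomial (Fin s) (MvPolynomial (Fin n) R)) β hβ hcomm K hK
    hker M hM
  -- now pass from `P[y] → A'` to `R[z] → A'` by S6993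
  letI : Algebra (MvPolynomial (Fin n) R) A' := ((algebraMap A A').comp α.toRingHom).toAlgebra
  haveI : IsScalarTower R (MvPolynomial (Fin n) R) A' := IsScalarTower.of_algebraMap_eq (fun r => by
    change algebraMap R A' r = algebraMap A A' (α (algebraMap R _ r))
    rw [AlgHom.commutes, ← IsScalarTower.algebraMap_apply])
  let βa : MvPolynomial (Fin s) (MvPolynomial (Fin n) R) →ₐ[MvPolynomial (Fin n) R] A' :=
    { β with
      commutes' := fun p => by
        have := congrArg (fun f : MvPolynomial (Fin n) R →+* A' => f p) hcomm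
        simp only [RingHom.comp_apply] at this
        change β (algebraMap _ _ p) = _
        rw [MvPolynomial.algebraMap_eq, this]
        rfl }
  exact Groth.Agent.S6993.main (R := R) (A := MvPolynomial (Fin n) R) (B := A') (A' ⊗[A] M) βa hβ γ hγ
    h1

end Groth.Agent.Lib.Helper24.RelFPBC3
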