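import Mathlib

/-!
Fitting decomposition for a semilinear endomorphism (surjective twist) of a module of finite length
(helper24).
-/

set_option autoImplicit false
set_option linter.unusedSectionVars false

noncomputable section

namespace Groth.Agent.Lib.helper24.SemilinFitting

variable {R : Type*} [Ring R] {σ : R →+* R} {M : Type*} [AddCommGroup M] [Module R M]
variable (φ : M →ₛₗ[σ] M)

theorem iterate_zero' (n : ℕ) : (⇑φ)^[n] 0 = 0 := by
  induction n with
  | zero => rfl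
  | succ n ih => rw [Function.iterate_succ_apply', ih, map_zero]

theorem iterate_add' (n : ℕ) (x y : M) : (⇑φ)^[n] (x + y) = (⇑φ)^[n] x + (⇑φ)^[n] y := by
  induction n with
  | zero => rfl
  | succ n ih => simp only [Function.iterate_succ_apply', ih, map_add]

theorem iterate_sub' (n : ℕ) (x y : M) : (⇑φ)^[n] (x - y) = (⇑φ)^[n] x - (⇑φ)^[n] y := by
  induction n with
  | zero => rfl
  | succ n ih => simp only [Function.iterate_succ_apply', ih, map_sub]

theorem iterate_smul' (n : ℕ) (c : R) (x : M) :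
    (⇑φ)^[n] (c • x) = (⇑σ)^[n] c • (⇑φ)^[n] x := by
  induction n with
  | zero => rfl
  | succ n ih => simp only [Function.iterate_succ_apply', ih, map_smulₛₗ]

/-- kernel of the `n`-th iterate. -/
def kerIt (n : ℕ) : Submodule R M where
  carrier := {x | (⇑φ)^[n] x = 0}
  add_mem' := by
    intro x y hx hy
    show (⇑φ)^[n] (x + y) = 0
    rw [iterate_add', show (⇑φ)^[n] x = 0 from hx, show (⇑φ)^[n] y = 0 from hy, add_zero]
  zero_mem' := iterate_zero' φ n
  smul_mem' := by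
    intro c x hx
    show (⇑φ)^[n] (c • x) = 0
    rw [iterate_smul', show (⇑φ)^[n] x = 0 from hx, smul_zero]

/-- image of the `n`-th iterate. -/
def imIt (hσ : Function.Surjective σ) (n : ℕ) : Submodule R M where
  carrier := {x | ∃ y, (⇑φ)^[n] y = x}
  add_mem' := by
    rintro _ _ ⟨x, rfl⟩ ⟨y, rfl⟩
    exact ⟨x + y, iterate_add' φ n x y⟩
  zero_mem' := ⟨0, iterate_zero' φ n⟩
  smul_mem' := by
    rintro c _ ⟨x, rfl⟩
    obtain ⟨c', rfl⟩ := (hσ.iterate n) c
    exact ⟨c' • x, iterate_smul' φ n c' x⟩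

theorem mem_kerIt {n : ℕ} {x : M} : x ∈ kerIt φ n ↔ (⇑φ)^[n] x = 0 := Iff.rfl

theorem mem_imIt {hσ : Function.Surjective σ} {n : ℕ} {x : M} :
    x ∈ imIt φ hσ n ↔ ∃ y, (⇑φ)^[n] y = x := Iff.rfl

theorem kerIt_mono : Monotone (kerIt φ) := by
  intro m n hmn v hv
  obtain ⟨d, rfl⟩ := Nat.exists_eq_add_of_le hmn
  rw [mem_kerIt] at hv ⊢
  rw [Nat.add_comm, Function.iterate_add_apply, hv, iterate_zero']

theorem imIt_anti (hσ : Function.Surjective σ) : Antitone (imIt φ hσ) := by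
  intro m n hmn v hv
  obtain ⟨d, rfl⟩ := Nat.exists_eq_add_of_le hmn
  obtain ⟨y, rfl⟩ := hv
  rw [Function.iterate_add_apply]
  exact ⟨_, rfl⟩

theorem fitting [IsNoetherian R M] [IsArtinian R M] (hσ : Function.Surjective σ) :
    ∃ Ms Mn : Submodule R M, IsCompl Ms Mn ∧ Set.MapsTo φ Ms Ms ∧ Set.MapsTo φ Mn Mn ∧
      Set.BijOn φ Ms Ms ∧ ∃ r : ℕ, ∀ x ∈ Mn, (⇑φ)^[r] x = 0 := by
  obtain ⟨n₁, hn₁⟩ := monotone_stabilizes_iff_noetherian.2 (inferInstance : IsNoetherian R M)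
    ⟨kerIt φ, kerIt_mono φ⟩
  obtain ⟨n₂, hn₂⟩ := IsArtinian.monotone_stabilizes
    (⟨fun n => OrderDual.toDual (imIt φ hσ n), fun a b hab => imIt_anti φ hσ hab⟩ :
      ℕ →o (Submodule R M)ᵒᵈ)
  have hK : ∀ m, n₁ ≤ m → kerIt φ m = kerIt φ n₁ := fun m hm => (hn₁ m hm).symm
  have hI : ∀ m, n₂ ≤ m → imIt φ hσ m = imIt φ hσ n₂ := fun m hm =>
    (OrderDual.toDual.injective (hn₂ m hm)).symm
  set n := max n₁ n₂ with hn
  have hKn : ∀ m, n ≤ m → kerIt φ m = kerIt φ n := fun m hm => by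
    rw [hK m (le_trans (le_max_left _ _) hm), hK n (le_max_left _ _)]
  have hIn : ∀ m, n ≤ m → imIt φ hσ m = imIt φ hσ n := fun m hm => by
    rw [hI m (le_trans (le_max_right _ _) hm), hI n (le_max_right _ _)]
  have hdisj : ∀ x, x ∈ kerIt φ n → x ∈ imIt φ hσ n → x = 0 := by
    rintro x hx ⟨y, rfl⟩
    have h1 : y ∈ kerIt φ (n + n) := by
      rw [mem_kerIt, Function.iterate_add_apply]
      exact hx
    rw [hKn (n + n) (Nat.le_add_right n n)] at h1
    exact h1
  have hmapI : ∀ x ∈ imIt φ hσ n, φ x ∈ imIt φ hσ n := by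
    rintro _ ⟨y, rfl⟩
    refine ⟨φ y, ?_⟩
    rw [← Function.iterate_succ_apply, Function.iterate_succ_apply']
  have hmapK : ∀ x ∈ kerIt φ n, φ x ∈ kerIt φ n := by
    intro x hx
    rw [mem_kerIt] at hx ⊢
    rw [← Function.iterate_succ_apply, Function.iterate_succ_apply', hx, map_zero]
  refine ⟨imIt φ hσ n, kerIt φ n, ⟨?_, ?_⟩, hmapI, hmapK, ⟨hmapI, ?_, ?_⟩, n, fun x hx => hx⟩
  · rw [disjoint_iff, eq_bot_iff]
    rintro x ⟨hx1, hx2⟩
    rw [Submodule.mem_bot]
    exact hdisj x hx2 hx1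
  · rw [codisjoint_iff, eq_top_iff]
    rintro x -
    have h1 : (⇑φ)^[n] x ∈ imIt φ hσ (n + n) := by
      rw [hIn (n + n) (Nat.le_add_right n n)]
      exact ⟨x, rfl⟩
    obtain ⟨u, hu⟩ := h1
    rw [Function.iterate_add_apply] at hu
    have h2 : x - (⇑φ)^[n] u ∈ kerIt φ n := by
      rw [mem_kerIt, iterate_sub', hu, sub_self]
    have h3 : (⇑φ)^[n] u ∈ imIt φ hσ n := ⟨u, rfl⟩
    have h4 : x = (⇑φ)^[n] u + (x - (⇑φ)^[n] u) := by abel
    rw [h4]
    exact Submodule.add_mem_sup h3 h2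
  · intro x hx y hy hxy
    have h1 : x - y ∈ kerIt φ n := by
      rw [← hKn (n + 1) (Nat.le_succ n)]
      apply kerIt_mono φ (show 1 ≤ n + 1 from Nat.succ_le_succ (Nat.zero_le n))
      rw [mem_kerIt, Function.iterate_one, map_sub, hxy, sub_self]
    have h2 : x - y ∈ imIt φ hσ n := Submodule.sub_mem _ hx hy
    exact sub_eq_zero.1 (hdisj _ h1 h2)
  · intro y hy
    have hy' : y ∈ imIt φ hσ (n + 1) := by rw [hIn (n + 1) (Nat.le_succ n)]; exact hy
    obtain ⟨u, hu⟩ := hy'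
    rw [Function.iterate_succ_apply'] at hu
    exact ⟨(⇑φ)^[n] u, ⟨u, rfl⟩, hu⟩

/-- a finitely generated torsion module over a PID is Artinian. -/
theorem isArtinian_of_isTorsion_pid {R : Type*} [CommRing R] [IsDomain R] [IsPrincipalIdealRing R]
    {M : Type*} [AddCommGroup M] [Module R M] [Module.Finite R M] (hM : Module.IsTorsion R M) :
    IsArtinian R M := by
  classical
  obtain ⟨ι, _, q, hq, e, ⟨E⟩⟩ := Module.equiv_directSum_of_isTorsion hM
  have h1 : ∀ i, IsArtinian R (R ⧸ Submodule.span R {q i ^ e i}) := by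
    intro i
    have hne : q i ^ e i ≠ 0 := pow_ne_zero _ (hq i).ne_zero
    have h2 := isFiniteLength_quotient_span_singleton R (mem_nonZeroDivisors_of_ne_zero hne)
    exact ((isFiniteLength_iff_isNoetherian_isArtinian).1 h2).2
  have h3 : IsArtinian R (∀ i, R ⧸ Submodule.span R {q i ^ e i}) := inferInstance
  have h4 : IsArtinian R (DirectSum ι fun i => R ⧸ Submodule.span R {q i ^ e i}) :=
    isArtinian_of_linearEquiv (DirectSum.linearEquivFunOnFintype R ι _).symm
  exact isArtinian_of_linearEquiv E.symm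

end Groth.Agent.Lib.helper24.SemilinFitting

end
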