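import Mathlib

/-!
Semilinear endomorphisms of finite-dimensional vector spaces: Fitting decomposition, fixed vectors
(helper24).
-/

set_option autoImplicit false
set_option linter.unusedSectionVars false
set_option linter.unusedVariables false

noncomputable section

universe u v

namespace Groth.Agent.Lib.helper24.SigmaLinLib

variable {k : Type u} [Field k] {σ : k →+* k}
variable {V : Type v} [AddCommGroup V] [Module k V]

section Basic

variable (T : V →ₛₗ[σ] V)

theorem iterate_zero' (n : ℕ) : (⇑T)^[n] 0 = 0 := by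
  induction n with
  | zero => rfl
  | succ n ih => rw [Function.iterate_succ_apply', ih, map_zero]

theorem iterate_add' (n : ℕ) (x y : V) : (⇑T)^[n] (x + y) = (⇑T)^[n] x + (⇑T)^[n] y := by
  induction n with
  | zero => rfl
  | succ n ih => simp only [Function.iterate_succ_apply', ih, map_add]

theorem iterate_neg' (n : ℕ) (x : V) : (⇑T)^[n] (-x) = -(⇑T)^[n] x := by
  induction n with
  | zero => rfl
  | succ n ih => simp only [Function.iterate_succ_apply', ih, map_neg]

theorem iterate_sub' (n : ℕ) (x y : V) : (⇑T)^[n] (x - y) = (⇑T)^[n] x - (⇑T)^[n] y := by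
  rw [sub_eq_add_neg, iterate_add', iterate_neg', ← sub_eq_add_neg]

theorem iterate_smul' (n : ℕ) (c : k) (x : V) :
    (⇑T)^[n] (c • x) = ((⇑σ)^[n] c) • (⇑T)^[n] x := by
  induction n with
  | zero => rfl
  | succ n ih => simp only [Function.iterate_succ_apply', ih, map_smulₛₗ]

theorem iterate_sum' {ι : Type*} (n : ℕ) (s : Finset ι) (f : ι → V) :
    (⇑T)^[n] (∑ i ∈ s, f i) = ∑ i ∈ s, (⇑T)^[n] (f i) := by
  classical
  induction s using Finset.induction_on with
  | empty => simp
  | insert i s hi ih => rw [Finset.sum_insert hi, Finset.sum_insert hi, iterate_add', ih]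

/-- the span of the image of the `n`-th iterate. -/
def imgSpan (n : ℕ) : Submodule k V := Submodule.span k (Set.range ((⇑T)^[n]))

theorem imgSpan_succ_le (n : ℕ) : imgSpan T (n + 1) ≤ imgSpan T n := by
  apply Submodule.span_mono
  rintro _ ⟨y, rfl⟩
  exact ⟨T y, (Function.iterate_succ_apply _ _ _).symm⟩

theorem imgSpan_antitone : Antitone (imgSpan T) := antitone_nat_of_succ_le (imgSpan_succ_le T)

theorem map_mem_imgSpan_succ {n : ℕ} {x : V} (hx : x ∈ imgSpan T n) : T x ∈ imgSpan T (n + 1) := by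
  induction hx using Submodule.span_induction with
  | mem x hx =>
    obtain ⟨y, rfl⟩ := hx
    exact Submodule.subset_span ⟨y, Function.iterate_succ_apply' _ _ _⟩
  | zero => rw [map_zero]; exact Submodule.zero_mem _
  | add x y _ _ ihx ihy => rw [map_add]; exact Submodule.add_mem _ ihx ihy
  | smul c x _ ihx => rw [map_smulₛₗ]; exact Submodule.smul_mem _ _ ihx

theorem imgSpan_succ_le_span_image (n : ℕ) :
    imgSpan T (n + 1) ≤ Submodule.span k (⇑T '' (imgSpan T n : Set V)) := by
  apply Submodule.span_mono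
  rintro _ ⟨y, rfl⟩
  exact ⟨(⇑T)^[n] y, Submodule.subset_span ⟨y, rfl⟩, (Function.iterate_succ_apply' _ _ _).symm⟩

/-- a semilinear endomorphism of a finite-dimensional space whose image spans is injective. -/
theorem injective_of_span_range_eq_top [FiniteDimensional k V]
    (h : Submodule.span k (Set.range ⇑T) = ⊤) : Function.Injective T := by
  classical
  set d := Module.finrank k V with hd
  set b : Module.Basis (Fin d) k V := Module.finBasis k V with hb
  have hspan : ⊤ ≤ Submodule.span k (Set.range fun i => T (b i)) := by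
    rw [← h, Submodule.span_le]
    rintro _ ⟨x, rfl⟩
    rw [← b.sum_repr x, map_sum]
    apply Submodule.sum_mem
    intro i _
    rw [map_smulₛₗ]
    exact Submodule.smul_mem _ _ (Submodule.subset_span ⟨i, rfl⟩)
  have hli : LinearIndependent k (fun i => T (b i)) :=
    linearIndependent_of_top_le_span_of_card_eq_finrank hspan (by simp [hd])
  rw [injective_iff_map_eq_zero]
  intro x hx
  rw [← b.sum_repr x, map_sum] at hx
  simp_rw [map_smulₛₗ] at hx
  have h0 := Fintype.linearIndependent_iff.1 hli (fun i => σ (b.repr x i)) hx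
  have h1 : ∀ i, b.repr x i = 0 := fun i => (map_eq_zero σ).1 (h0 i)
  rw [← b.sum_repr x]
  simp [h1]

variable [FiniteDimensional k V]

theorem exists_imgSpan_stable : ∃ m₀, ∀ m, m₀ ≤ m → imgSpan T m = imgSpan T m₀ := by
  obtain ⟨n, hn⟩ := IsArtinian.monotone_stabilizes
    (⟨fun n => OrderDual.toDual (imgSpan T n), fun a b hab => imgSpan_antitone T hab⟩ :
      ℕ →o (Submodule k V)ᵒᵈ)
  exact ⟨n, fun m hm => (OrderDual.toDual.injective (hn m hm)).symm⟩

theorem iInf_imgSpan_eq {m₀ : ℕ} (h : ∀ m, m₀ ≤ m → imgSpan T m = imgSpan T m₀) :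
    ⨅ n, imgSpan T n = imgSpan T m₀ := by
  apply le_antisymm (iInf_le _ m₀)
  apply le_iInf
  intro n
  rcases le_total n m₀ with hn | hn
  · exact imgSpan_antitone T hn
  · exact (h n hn).ge

/-- `T` maps the stable image into itself. -/
theorem map_mem_stable {m₀ : ℕ} (h : ∀ m, m₀ ≤ m → imgSpan T m = imgSpan T m₀) {x : V}
    (hx : x ∈ imgSpan T m₀) : T x ∈ imgSpan T m₀ := by
  rw [← h (m₀ + 1) (Nat.le_succ _)]
  exact map_mem_imgSpan_succ T hx

theorem restrict_stable_injective {m₀ : ℕ} (h : ∀ m, m₀ ≤ m → imgSpan T m = imgSpan T m₀) :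
    Function.Injective (T.restrict (fun x hx => map_mem_stable T h hx)) := by
  apply injective_of_span_range_eq_top
  rw [eq_top_iff]
  rintro ⟨y, hy⟩ -
  have hy' : y ∈ Submodule.span k (⇑T '' (imgSpan T m₀ : Set V)) := by
    apply imgSpan_succ_le_span_image T m₀
    rw [h (m₀ + 1) (Nat.le_succ _)]
    exact hy
  -- transport the span membership to the subtype
  have key : ∀ z (hz : z ∈ Submodule.span k (⇑T '' (imgSpan T m₀ : Set V)))
      (hz' : z ∈ imgSpan T m₀), (⟨z, hz'⟩ : ↥(imgSpan T m₀)) ∈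
        Submodule.span k (Set.range ⇑(T.restrict (fun x hx => map_mem_stable T h hx))) := by
    intro z hz
    induction hz using Submodule.span_induction with
    | mem z hz =>
      intro hz'
      obtain ⟨x, hx, rfl⟩ := hz
      exact Submodule.subset_span ⟨⟨x, hx⟩, rfl⟩
    | zero => intro _; exact Submodule.zero_mem _
    | add a b ha hb iha ihb =>
      intro hz'
      have ha' : a ∈ imgSpan T m₀ := by
        have : Submodule.span k (⇑T '' (imgSpan T m₀ : Set V)) ≤ imgSpan T m₀ := by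
          rw [Submodule.span_le]
          rintro _ ⟨x, hx, rfl⟩
          exact map_mem_stable T h hx
        exact this ha
      have hb' : b ∈ imgSpan T m₀ := by
        have : Submodule.span k (⇑T '' (imgSpan T m₀ : Set V)) ≤ imgSpan T m₀ := by
          rw [Submodule.span_le]
          rintro _ ⟨x, hx, rfl⟩
          exact map_mem_stable T h hx
        exact this hb
      have := Submodule.add_mem _ (iha ha') (ihb hb')
      exact this
    | smul c a ha iha =>
      intro hz'
      have ha' : a ∈ imgSpan T m₀ := by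
        have : Submodule.span k (⇑T '' (imgSpan T m₀ : Set V)) ≤ imgSpan T m₀ := by
          rw [Submodule.span_le]
          rintro _ ⟨x, hx, rfl⟩
          exact map_mem_stable T h hx
        exact this ha
      have := Submodule.smul_mem _ c (iha ha')
      exact this
  exact key y hy' hy

theorem coe_iterate_restrict {P : Submodule k V} (hP : ∀ x ∈ P, T x ∈ P) (n : ℕ) (x : ↥P) :
    (((⇑(T.restrict hP))^[n] x : ↥P) : V) = (⇑T)^[n] (x : V) := by
  induction n generalizing x with
  | zero => rfl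
  | succ n ih =>
    rw [Function.iterate_succ_apply', Function.iterate_succ_apply', ← ih]
    rfl

/-- S19229: the nilpotent part and the stable image meet in zero. -/
theorem eq_zero_of_iterate_eq_zero_of_mem (v : V) (hnil : ∃ n : ℕ, (⇑T)^[n] v = 0)
    (hss : ∀ n : ℕ, v ∈ imgSpan T n) : v = 0 := by
  obtain ⟨m₀, hm₀⟩ := exists_imgSpan_stable T
  obtain ⟨n, hn⟩ := hnil
  have hinj := (restrict_stable_injective T hm₀).iterate n
  have h1 : (⇑(T.restrict (fun x hx => map_mem_stable T hm₀ hx)))^[n] ⟨v, hss m₀⟩ =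
      (⇑(T.restrict (fun x hx => map_mem_stable T hm₀ hx)))^[n] 0 := by
    apply Subtype.ext
    rw [coe_iterate_restrict, coe_iterate_restrict]
    simp only [Submodule.coe_zero]
    rw [hn, iterate_zero']
  exact congrArg Subtype.val (hinj h1)

end Basic

section Surj

variable (T : V →ₛₗ[σ] V)

theorem mem_imgSpan_iff (hσ : Function.Surjective σ) (n : ℕ) (x : V) :
    x ∈ imgSpan T n ↔ ∃ y, (⇑T)^[n] y = x := by
  constructor
  · intro hx
    induction hx using Submodule.span_induction with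
    | mem x hx => exact hx
    | zero => exact ⟨0, iterate_zero' T n⟩
    | add a b _ _ iha ihb =>
      obtain ⟨a', rfl⟩ := iha
      obtain ⟨b', rfl⟩ := ihb
      exact ⟨a' + b', iterate_add' T n a' b'⟩
    | smul c a _ iha =>
      obtain ⟨a', rfl⟩ := iha
      obtain ⟨c', rfl⟩ := (hσ.iterate n) c
      exact ⟨c' • a', iterate_smul' T n c' a'⟩
  · rintro ⟨y, rfl⟩
    exact Submodule.subset_span ⟨y, rfl⟩

/-- the kernel of the `n`-th iterate. -/
def kerIter (n : ℕ) : Submodule k V where
  carrier := {v | (⇑T)^[n] v = 0}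
  add_mem' := by
    intro a b ha hb
    simp only [Set.mem_ofPred_eq] at ha hb ⊢
    rw [iterate_add', ha, hb, add_zero]
  zero_mem' := iterate_zero' T n
  smul_mem' := by
    intro c a ha
    simp only [Set.mem_ofPred_eq] at ha ⊢
    rw [iterate_smul', ha, smul_zero]

theorem mem_kerIter {n : ℕ} {v : V} : v ∈ kerIter T n ↔ (⇑T)^[n] v = 0 := Iff.rfl

theorem kerIter_mono : Monotone (kerIter T) := by
  intro m n hmn v hv
  obtain ⟨d, rfl⟩ := Nat.exists_eq_add_of_le hmn
  rw [mem_kerIter] at hv ⊢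
  rw [Nat.add_comm, Function.iterate_add_apply, hv, iterate_zero']

variable [FiniteDimensional k V]

theorem exists_kerIter_stable : ∃ N, ∀ m, N ≤ m → kerIter T m = kerIter T N := by
  obtain ⟨n, hn⟩ := monotone_stabilizes_iff_noetherian.2 (inferInstance : IsNoetherian k V)
    ⟨kerIter T, kerIter_mono T⟩
  exact ⟨n, fun m hm => (hn m hm).symm⟩

/-- Fitting decomposition for a semilinear endomorphism with surjective twist. -/
theorem fitting (hσ : Function.Surjective σ) :
    (∃ W : Submodule k V, (W : Set V) = {v : V | ∃ n : ℕ, (⇑T)^[n] v = 0} ∧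
      (∃ N : ℕ, ∀ v ∈ W, (⇑T)^[N] v = 0) ∧
      IsCompl W (⨅ n : ℕ, imgSpan T n)) ∧
    Set.BijOn (⇑T) (⋂ n : ℕ, (imgSpan T n : Set V)) (⋂ n : ℕ, (imgSpan T n : Set V)) := by
  obtain ⟨N, hN⟩ := exists_kerIter_stable T
  obtain ⟨m₀, hm₀⟩ := exists_imgSpan_stable T
  have hinf := iInf_imgSpan_eq T hm₀
  have hker : ∀ v : V, (∃ n : ℕ, (⇑T)^[n] v = 0) → v ∈ kerIter T N := by
    rintro v ⟨n, hn⟩
    have h1 : v ∈ kerIter T (max n N) := kerIter_mono T (le_max_left n N) hn
    rwa [hN _ (le_max_right n N)] at h1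
  refine ⟨⟨kerIter T N, ?_, ⟨N, fun v hv => hv⟩, ?_⟩, ?_⟩
  · ext v
    exact ⟨fun hv => ⟨N, hv⟩, hker v⟩
  · constructor
    · rw [disjoint_iff, eq_bot_iff]
      rintro v ⟨hv1, hv2⟩
      rw [Submodule.mem_bot]
      exact eq_zero_of_iterate_eq_zero_of_mem T v ⟨N, hv1⟩
        (fun n => (iInf_le (imgSpan T) n) hv2)
    · rw [codisjoint_iff, eq_top_iff]
      rintro v -
      set m := max N m₀ with hm
      have h1 : (⇑T)^[m] v ∈ imgSpan T (m + m) := by
        rw [hm₀ (m + m) (le_trans (le_max_right N m₀) (Nat.le_add_right m m)),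
          ← hm₀ m (le_max_right N m₀)]
        exact Submodule.subset_span ⟨v, rfl⟩
      obtain ⟨u, hu⟩ := (mem_imgSpan_iff T hσ (m + m) _).1 h1
      rw [Function.iterate_add_apply] at hu
      have h2 : v - (⇑T)^[m] u ∈ kerIter T N := by
        apply hker
        refine ⟨m, ?_⟩
        rw [iterate_sub', hu, sub_self]
      have h3 : (⇑T)^[m] u ∈ ⨅ n : ℕ, imgSpan T n := by
        rw [hinf, ← hm₀ m (le_max_right N m₀)]
        exact Submodule.subset_span ⟨u, rfl⟩
      have h4 : v = (v - (⇑T)^[m] u) + (⇑T)^[m] u := by abel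
      rw [h4]
      exact Submodule.add_mem_sup h2 h3
  · have hmem : ∀ x : V, x ∈ (⋂ n : ℕ, (imgSpan T n : Set V)) ↔ x ∈ imgSpan T m₀ := by
      intro x
      rw [Set.mem_iInter]
      constructor
      · intro h; exact h m₀
      · intro h n
        have : x ∈ ⨅ n : ℕ, imgSpan T n := hinf ▸ h
        exact (iInf_le (imgSpan T) n) this
    refine ⟨?_, ?_, ?_⟩
    · intro x hx
      rw [hmem] at hx ⊢
      exact map_mem_stable T hm₀ hx
    · intro x hx y hy hxy
      rw [hmem] at hx hy
      have h1 : (T.restrict (fun x hx => map_mem_stable T hm₀ hx)) ⟨x, hx⟩ =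
          (T.restrict (fun x hx => map_mem_stable T hm₀ hx)) ⟨y, hy⟩ := Subtype.ext hxy
      exact congrArg Subtype.val (restrict_stable_injective T hm₀ h1)
    · intro y hy
      rw [hmem] at hy
      rw [← hm₀ (m₀ + 1) (Nat.le_succ _)] at hy
      obtain ⟨u, hu⟩ := (mem_imgSpan_iff T hσ (m₀ + 1) _).1 hy
      rw [Function.iterate_succ_apply'] at hu
      refine ⟨(⇑T)^[m₀] u, ?_, hu⟩
      rw [hmem]
      exact Submodule.subset_span ⟨u, rfl⟩

end Surj

section Fixed

variable (T : V →ₛₗ[σ] V)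

/-- the hypothesis that certain `σ`-polynomial equations have non-zero solutions. -/
def H2 (σ : k →+* k) : Prop :=
  ∀ (n : ℕ) (b : Fin (n + 1) → k), b ≠ 0 →
    ∃ x : k, x ≠ 0 ∧ x = ∑ i : Fin (n + 1), (⇑σ)^[i.val + 1] x * (⇑σ)^[i.val] (b (Fin.rev i))

/-- span of the first `m` vectors of the orbit. -/
def orbSpan (e : V) (m : ℕ) : Submodule k V :=
  Submodule.span k (Set.range (fun i : Fin m => (⇑T)^[i.val] e))

theorem orbSpan_mono (e : V) {m n : ℕ} (h : m ≤ n) : orbSpan T e m ≤ orbSpan T e n := by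
  apply Submodule.span_mono
  rintro _ ⟨i, rfl⟩
  exact ⟨⟨i.val, lt_of_lt_of_le i.2 h⟩, rfl⟩

theorem iterate_mem_orbSpan (e : V) {i m : ℕ} (h : i < m) : (⇑T)^[i] e ∈ orbSpan T e m :=
  Submodule.subset_span ⟨⟨i, h⟩, rfl⟩

theorem orbSpan_succ (e : V) (m : ℕ) :
    orbSpan T e (m + 1) = orbSpan T e m ⊔ Submodule.span k {(⇑T)^[m] e} := by
  apply le_antisymm
  · rw [orbSpan, Submodule.span_le]
    rintro _ ⟨i, rfl⟩
    rcases Nat.lt_succ_iff_lt_or_eq.1 i.2 with h | h
    · exact Submodule.mem_sup_left (iterate_mem_orbSpan T e h)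
    · show (⇑T)^[i.val] e ∈ _
      rw [h]; exact Submodule.mem_sup_right (Submodule.mem_span_singleton_self _)
  · refine sup_le (orbSpan_mono T e (Nat.le_succ m)) ?_
    rw [Submodule.span_singleton_le_iff_mem]
    exact iterate_mem_orbSpan T e (Nat.lt_succ_self m)

variable [FiniteDimensional k V]

theorem exists_iterate_mem_orbSpan (e : V) : ∃ m, (⇑T)^[m] e ∈ orbSpan T e m := by
  by_contra hcon
  push Not at hcon
  have hrank : ∀ m, m ≤ Module.finrank k (orbSpan T e m) := by
    intro m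
    induction m with
    | zero => exact Nat.zero_le _
    | succ m ih =>
      have hlt : orbSpan T e m < orbSpan T e (m + 1) := by
        refine lt_of_le_of_ne (orbSpan_mono T e (Nat.le_succ m)) (fun heq => hcon m ?_)
        rw [heq]
        exact iterate_mem_orbSpan T e (Nat.lt_succ_self m)
      have := Submodule.finrank_lt_finrank_of_lt hlt
      omega
  have h1 := hrank (Module.finrank k V + 1)
  have h2 := Submodule.finrank_le (orbSpan T e (Module.finrank k V + 1))
  omega

/-- S19232. -/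
theorem exists_fixed_in_orbit (h2 : H2 σ) (e : V) (he : ∀ m : ℕ, (⇑T)^[m] e ≠ 0) :
    ∃ v ∈ Submodule.span k (Set.range (fun m : ℕ => (⇑T)^[m] e)), v ≠ 0 ∧ T v = v := by
  classical
  have hex := exists_iterate_mem_orbSpan T e
  set m₀ := Nat.find hex with hm₀
  have hm₀spec : (⇑T)^[m₀] e ∈ orbSpan T e m₀ := Nat.find_spec hex
  have hm₀pos : m₀ ≠ 0 := by
    intro h0
    rw [h0] at hm₀spec
    have h1 : orbSpan T e 0 = ⊥ := by
      rw [orbSpan, Submodule.span_eq_bot]
      rintro _ ⟨i, rfl⟩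
      exact i.elim0
    rw [h1, Submodule.mem_bot] at hm₀spec
    exact he 0 hm₀spec
  obtain ⟨n, hn⟩ : ∃ n, m₀ = n + 1 := ⟨m₀ - 1, by omega⟩
  have hnmin : (⇑T)^[n] e ∉ orbSpan T e n := Nat.find_min hex (by omega)
  rw [hn] at hm₀spec
  obtain ⟨a, ha⟩ := (Submodule.mem_span_range_iff_exists_fun k).1 hm₀spec
  have ha0 : a ≠ 0 := by
    rintro rfl
    simp only [Pi.zero_apply, zero_smul, Finset.sum_const_zero] at ha
    exact he (n + 1) ha.symm
  obtain ⟨x, hx0, hx⟩ := h2 n a ha0
  -- ℕ-indexed coefficients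
  set a' : ℕ → k := fun i => if h : i < n + 1 then a ⟨i, h⟩ else 0 with ha'
  have ha'val : ∀ i : Fin (n + 1), a' i.val = a i := by
    intro i
    simp only [ha', i.2, dite_true]
  set X : ℕ → k := fun i =>
    ∑ j ∈ Finset.range (i + 1), (⇑σ)^[j + 1] x * (⇑σ)^[j] (a' (i - j)) with hX
  have hX0 : X 0 = σ x * a' 0 := by
    simp [hX]
  have hXsucc : ∀ i, X (i + 1) = σ (X i) + σ x * a' (i + 1) := by
    intro i
    simp only [hX]
    rw [Finset.sum_range_succ', map_sum]
    congr 1
    · apply Finset.sum_congr rfl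
      intro j _
      rw [map_mul, ← Function.iterate_succ_apply' (⇑σ), ← Function.iterate_succ_apply' (⇑σ),
        Nat.add_sub_add_right]
  have hXn : X n = x := by
    rw [hx]
    simp only [hX]
    rw [← Fin.sum_univ_eq_sum_range (fun j => (⇑σ)^[j + 1] x * (⇑σ)^[j] (a' (n - j))) (n + 1)]
    apply Finset.sum_congr rfl
    intro i _
    congr 2
    rw [← ha'val (Fin.rev i), Fin.val_rev]
    congr 1
    omega
  -- the relation in ℕ-indexed form
  have hrel : (⇑T)^[n + 1] e = ∑ i ∈ Finset.range (n + 1), a' i • (⇑T)^[i] e := by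
    rw [← ha, ← Fin.sum_univ_eq_sum_range (fun i => a' i • (⇑T)^[i] e) (n + 1)]
    apply Finset.sum_congr rfl
    intro i _
    rw [ha'val]
  set v : V := ∑ i ∈ Finset.range (n + 1), X i • (⇑T)^[i] e with hv
  refine ⟨v, ?_, ?_, ?_⟩
  · apply Submodule.sum_mem
    intro i _
    exact Submodule.smul_mem _ _ (Submodule.subset_span ⟨i, rfl⟩)
  · intro hv0
    apply hnmin
    rw [hv, Finset.sum_range_succ, hXn] at hv0
    have h1 : (⇑T)^[n] e = x⁻¹ • (-∑ i ∈ Finset.range n, X i • (⇑T)^[i] e) := by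
      have h2 : x • (⇑T)^[n] e = -∑ i ∈ Finset.range n, X i • (⇑T)^[i] e := by
        rw [eq_neg_iff_add_eq_zero, add_comm]; exact hv0
      rw [← h2, smul_smul, inv_mul_cancel₀ hx0, one_smul]
    rw [h1]
    apply Submodule.smul_mem
    apply Submodule.neg_mem
    apply Submodule.sum_mem
    intro i hi
    exact Submodule.smul_mem _ _ (iterate_mem_orbSpan T e (Finset.mem_range.1 hi))
  · have hTv : T v = ∑ i ∈ Finset.range (n + 1), σ (X i) • (⇑T)^[i + 1] e := by
      rw [hv, map_sum]
      apply Finset.sum_congr rfl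
      intro i _
      rw [map_smulₛₗ, Function.iterate_succ_apply']
    rw [hTv, Finset.sum_range_succ, hrel, hXn, hv, Finset.sum_range_succ' (fun i => X i • (⇑T)^[i] e),
      Finset.smul_sum, Finset.sum_range_succ' (fun i => σ x • a' i • (⇑T)^[i] e)]
    simp only [hXsucc, hX0, add_smul, Finset.sum_add_distrib, Function.iterate_zero, id_eq,
      smul_smul]
    abel

end Fixed

section FixedBasis

variable (T : V →ₛₗ[σ] V)

/-- the hypothesis that Artin–Schreier-type equations are solvable. -/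
def H3 (σ : k →+* k) : Prop := ∀ c : k, ∃ y : k, σ y - y + c = 0

/-- span of the fixed vectors. -/
def fixedSpan : Submodule k V := Submodule.span k {v | T v = v}

theorem fixedSpan_stable : fixedSpan T ≤ (fixedSpan T).comap T := by
  intro u hu
  rw [Submodule.mem_comap]
  refine Submodule.span_induction (p := fun u _ => T u ∈ fixedSpan T) ?_ ?_ ?_ ?_ hu
  · intro f hf
    have hf' : T f = f := hf
    rw [hf']
    exact Submodule.subset_span hf
  · rw [map_zero]; exact Submodule.zero_mem _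
  · intro x y _ _ hx hy
    rw [map_add]; exact Submodule.add_mem _ hx hy
  · intro c x _ hx
    rw [map_smulₛₗ]; exact Submodule.smul_mem _ _ hx

theorem exists_sub_eq_of_mem_fixedSpan (h3 : H3 σ) {u : V} (hu : u ∈ fixedSpan T) :
    ∃ w ∈ fixedSpan T, T w - w = u := by
  refine Submodule.closure_induction (p := fun u _ => ∃ w ∈ fixedSpan T, T w - w = u)
    ?_ ?_ ?_ hu
  · exact ⟨0, Submodule.zero_mem _, by rw [map_zero, sub_zero]⟩
  · rintro x y _ _ ⟨w1, hw1, h1⟩ ⟨w2, hw2, h2⟩
    refine ⟨w1 + w2, Submodule.add_mem _ hw1 hw2, ?_⟩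
    rw [map_add, ← h1, ← h2]; abel
  · intro c f hf
    have hf' : T f = f := hf
    obtain ⟨y, hy⟩ := h3 (-c)
    refine ⟨y • f, Submodule.smul_mem _ _ (Submodule.subset_span hf), ?_⟩
    rw [map_smulₛₗ, hf', ← sub_smul]
    congr 1
    linear_combination hy

variable [FiniteDimensional k V]

theorem fixedSpan_eq_top (h1 : Submodule.span k (Set.range ⇑T) = ⊤) (h2 : H2 σ) (h3 : H3 σ) :
    fixedSpan T = ⊤ := by
  by_contra hne
  have hst : fixedSpan T ≤ (fixedSpan T).comap T := fixedSpan_stable T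
  set W := fixedSpan T with hW
  set Tq : (V ⧸ W) →ₛₗ[σ] (V ⧸ W) := W.mapQ W T hst with hTqdef
  have hTq : ∀ v, Tq (W.mkQ v) = W.mkQ (T v) := fun v => rfl
  have hspan : Submodule.span k (Set.range ⇑Tq) = ⊤ := by
    rw [eq_top_iff]
    rintro x -
    obtain ⟨v, rfl⟩ := W.mkQ_surjective x
    have hv : v ∈ Submodule.span k (Set.range ⇑T) := by rw [h1]; trivial
    refine Submodule.span_induction
      (p := fun v _ => W.mkQ v ∈ Submodule.span k (Set.range ⇑Tq)) ?_ ?_ ?_ ?_ hv
    · rintro _ ⟨u, rfl⟩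
      exact Submodule.subset_span ⟨W.mkQ u, hTq u⟩
    · rw [map_zero]; exact Submodule.zero_mem _
    · intro x y _ _ hx hy
      rw [map_add]; exact Submodule.add_mem _ hx hy
    · intro c x _ hx
      rw [map_smul]; exact Submodule.smul_mem _ _ hx
  have hinj : Function.Injective Tq := injective_of_span_range_eq_top Tq hspan
  obtain ⟨e, he⟩ : ∃ e : V ⧸ W, e ≠ 0 := by
    by_contra hall
    push Not at hall
    apply hne
    rw [eq_top_iff]
    intro v _
    have := hall (W.mkQ v)
    rwa [Submodule.mkQ_apply, Submodule.Quotient.mk_eq_zero] at this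
  have hiter : ∀ m : ℕ, (⇑Tq)^[m] e ≠ 0 := by
    intro m h0
    have hi : Function.Injective (⇑Tq)^[m] := hinj.iterate m
    exact he (hi (by rw [h0, iterate_zero']))
  obtain ⟨vq, -, hvq0, hvqfix⟩ := exists_fixed_in_orbit Tq h2 e hiter
  obtain ⟨v, rfl⟩ := W.mkQ_surjective vq
  rw [hTq] at hvqfix
  have hmem : T v - v ∈ W := by
    rw [← Submodule.Quotient.mk_eq_zero, Submodule.Quotient.mk_sub, sub_eq_zero]
    exact hvqfix
  obtain ⟨w, hw, hwu⟩ := exists_sub_eq_of_mem_fixedSpan T h3 (Submodule.neg_mem _ hmem)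
  have hfix : T (v + w) = v + w := by
    rw [map_add]
    rw [sub_eq_iff_eq_add] at hwu
    rw [hwu]; abel
  have hvw : v + w ∈ W := Submodule.subset_span hfix
  have hvW : v ∈ W := by
    have := Submodule.sub_mem _ hvw hw
    rwa [add_sub_cancel_right] at this
  exact hvq0 ((Submodule.Quotient.mk_eq_zero W).2 hvW)

theorem exists_fixed_basis (h : fixedSpan T = ⊤) :
    ∃ b : Module.Basis (Fin (Module.finrank k V)) k V, ∀ i, T (b i) = b i := by
  classical
  obtain ⟨s, hs, hspan, hli⟩ := exists_linearIndependent k {v : V | T v = v}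
  have htop : ⊤ ≤ Submodule.span k (Set.range (fun x : s => (x : V))) := by
    rw [Subtype.range_coe, hspan]; exact h.ge
  let B : Module.Basis s k V := Module.Basis.mk hli htop
  have : Fintype s := FiniteDimensional.fintypeBasisIndex B
  have hcard : Fintype.card s = Module.finrank k V := (Module.finrank_eq_card_basis B).symm
  refine ⟨B.reindex (Fintype.equivFinOfCardEq hcard), ?_⟩
  intro i
  rw [Module.Basis.reindex_apply, Module.Basis.mk_apply]
  exact hs (Subtype.prop _)

theorem surjective_sub_of_fixedSpan_eq_top (h3 : H3 σ) (h : fixedSpan T = ⊤) :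
    Function.Surjective (fun v : V => v - T v) := by
  intro u
  obtain ⟨w, -, hw⟩ := exists_sub_eq_of_mem_fixedSpan T h3 (u := u) (by rw [h]; trivial)
  refine ⟨-w, ?_⟩
  show -w - T (-w) = u
  rw [map_neg, ← hw]; abel

/-- S19233. -/
theorem fixed_basis_and_surjective (h1 : Submodule.span k (Set.range ⇑T) = ⊤) (h2 : H2 σ)
    (h3 : H3 σ) :
    (∃ b : Module.Basis (Fin (Module.finrank k V)) k V, ∀ i, T (b i) = b i) ∧
    Function.Surjective (fun v : V => v - T v) :=
  ⟨exists_fixed_basis T (fixedSpan_eq_top T h1 h2 h3),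
    surjective_sub_of_fixedSpan_eq_top T h3 (fixedSpan_eq_top T h1 h2 h3)⟩

end FixedBasis

section General

variable (T : V →ₛₗ[σ] V) [FiniteDimensional k V]

/-- geometric series for a nilpotent vector. -/
theorem geom_sub (w : V) (N : ℕ) (hN : (⇑T)^[N] w = 0) :
    (∑ i ∈ Finset.range N, (⇑T)^[i] w) - T (∑ i ∈ Finset.range N, (⇑T)^[i] w) = w := by
  rw [map_sum, ← Finset.sum_sub_distrib]
  have := Finset.sum_range_sub' (fun i => (⇑T)^[i] w) N
  simp only [Function.iterate_succ_apply'] at this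
  rw [this, hN, Function.iterate_zero, id_eq, sub_zero]

/-- S19234. -/
theorem general (hσ : Function.Surjective σ) (h2 : H2 σ) (h3 : H3 σ) :
    Function.Surjective (fun v : V => v - T v) ∧
    ∃ b : Module.Basis (Fin (Module.finrank k ↥(⨅ n : ℕ, imgSpan T n))) k
        ↥(⨅ n : ℕ, imgSpan T n),
      ∀ i, T (b i : V) = (b i : V) := by
  obtain ⟨⟨W, hWset, ⟨N, hN⟩, hcompl⟩, hbij⟩ := fitting T hσ
  have hPmem : ∀ x, x ∈ (⨅ n : ℕ, imgSpan T n) ↔ x ∈ ⋂ n : ℕ, (imgSpan T n : Set V) := by
    intro x; simp [Submodule.mem_iInf]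
  have hP : ∀ x ∈ (⨅ n : ℕ, imgSpan T n), T x ∈ (⨅ n : ℕ, imgSpan T n) :=
    fun x hx => (hPmem _).2 (hbij.mapsTo ((hPmem x).1 hx))
  have hTPsurj : Function.Surjective (T.restrict hP) := by
    intro y
    obtain ⟨x, hx, hxy⟩ := hbij.surjOn ((hPmem _).1 y.2)
    exact ⟨⟨x, (hPmem _).2 hx⟩, Subtype.ext hxy⟩
  have h1 : Submodule.span k (Set.range ⇑(T.restrict hP)) = ⊤ := by
    rw [hTPsurj.range_eq, Submodule.span_univ]
  obtain ⟨⟨b, hb⟩, hsurjP⟩ := fixed_basis_and_surjective (T.restrict hP) h1 h2 h3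
  refine ⟨?_, b, fun i => congrArg Subtype.val (hb i)⟩
  intro u
  obtain ⟨w, hw, q, hq, rfl⟩ : ∃ w ∈ W, ∃ q ∈ (⨅ n : ℕ, imgSpan T n), w + q = u := by
    have : u ∈ W ⊔ (⨅ n : ℕ, imgSpan T n) := by rw [hcompl.sup_eq_top]; trivial
    exact Submodule.mem_sup.1 this
  obtain ⟨q', hq'⟩ := hsurjP ⟨q, hq⟩
  have hq'' : (q' : V) - T (q' : V) = q := congrArg Subtype.val hq'
  have hgeom := geom_sub T w N (hN w hw)
  refine ⟨(∑ i ∈ Finset.range N, (⇑T)^[i] w) + (q' : V), ?_⟩
  show (∑ i ∈ Finset.range N, (⇑T)^[i] w) + (q' : V) -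
    T ((∑ i ∈ Finset.range N, (⇑T)^[i] w) + (q' : V)) = w + q
  rw [map_add]
  calc (∑ i ∈ Finset.range N, (⇑T)^[i] w) + (q' : V) -
        (T (∑ i ∈ Finset.range N, (⇑T)^[i] w) + T (q' : V))
      = ((∑ i ∈ Finset.range N, (⇑T)^[i] w) - T (∑ i ∈ Finset.range N, (⇑T)^[i] w)) +
        ((q' : V) - T (q' : V)) := by abel
    _ = w + q := by rw [hgeom, hq'']

end General

end Groth.Agent.Lib.helper24.SigmaLinLib

end
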