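import Groth.Agent.Lib.Helper24.SigmaLin

/-!
# Semilinear endomorphisms over an artinian local ring with maximal ideal `(p)`

Dévissage of `1 - T` from the residue field (S19235).
-/

set_option autoImplicit false
universe u v

namespace Groth.Agent.Lib.helper24.SigmaLinLib

open IsLocalRing

section LocalRing

variable {R : Type u} [CommRing R] [IsLocalRing R]
variable {M : Type v} [AddCommGroup M] [Module R M]

/-- the reduction of `M` modulo the maximal ideal. -/
abbrev Red (R : Type u) [CommRing R] [IsLocalRing R] (M : Type v) [AddCommGroup M]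
    [Module R M] : Type v :=
  M ⧸ (maximalIdeal R • (⊤ : Submodule R M))

noncomputable instance instModuleRed : Module (ResidueField R) (Red R M) :=
  inferInstanceAs (Module (R ⧸ maximalIdeal R) (M ⧸ (maximalIdeal R • (⊤ : Submodule R M))))

instance instTowerRed : IsScalarTower R (ResidueField R) (Red R M) :=
  inferInstanceAs (IsScalarTower R (R ⧸ maximalIdeal R)
    (M ⧸ (maximalIdeal R • (⊤ : Submodule R M))))

theorem residue_smul_mk (r : R) (m : M) :
    (residue R r) • (Submodule.Quotient.mk m : Red R M) = Submodule.Quotient.mk (r • m) := rfl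

instance instFiniteRed [Module.Finite R M] : Module.Finite (ResidueField R) (Red R M) :=
  Module.Finite.of_restrictScalars_finite R (ResidueField R) (Red R M)

variable {σ : R →+* R} {σbar : ResidueField R →+* ResidueField R}

theorem sigma_mem_maximalIdeal (hσbar : ∀ r : R, σbar (residue R r) = residue R (σ r))
    {a : R} (ha : a ∈ maximalIdeal R) : σ a ∈ maximalIdeal R := by
  rw [← residue_eq_zero_iff] at ha ⊢
  rw [← hσbar, ha, map_zero]

theorem map_mem_smul_top (hσbar : ∀ r : R, σbar (residue R r) = residue R (σ r))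
    (T : M →ₛₗ[σ] M) :
    (maximalIdeal R • (⊤ : Submodule R M)) ≤ (maximalIdeal R • (⊤ : Submodule R M)).comap T := by
  intro x hx
  rw [Submodule.mem_comap]
  refine Submodule.smul_induction_on hx ?_ ?_
  · intro a ha m _
    rw [map_smulₛₗ]
    exact Submodule.smul_mem_smul (sigma_mem_maximalIdeal hσbar ha) Submodule.mem_top
  · intro x y hx hy
    rw [map_add]; exact Submodule.add_mem _ hx hy

/-- the induced semilinear map on the reduction. -/
noncomputable def redMap (hσbar : ∀ r : R, σbar (residue R r) = residue R (σ r))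
    (T : M →ₛₗ[σ] M) : Red R M →ₛₗ[σbar] Red R M where
  toFun := Submodule.mapQ _ _ T (map_mem_smul_top hσbar T)
  map_add' := map_add _
  map_smul' := by
    intro c x
    obtain ⟨r, rfl⟩ := residue_surjective c
    obtain ⟨m, rfl⟩ := Submodule.Quotient.mk_surjective _ x
    rw [residue_smul_mk, Submodule.mapQ_apply, Submodule.mapQ_apply, map_smulₛₗ, hσbar,
      residue_smul_mk]

theorem redMap_mk (hσbar : ∀ r : R, σbar (residue R r) = residue R (σ r))
    (T : M →ₛₗ[σ] M) (m : M) :
    redMap hσbar T (Submodule.Quotient.mk m) = Submodule.Quotient.mk (T m) := rfl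

end LocalRing

section Devissage

variable {R : Type u} [CommRing R] [IsLocalRing R]
variable {M : Type v} [AddCommGroup M] [Module R M] [Module.Finite R M]
variable {σ : R →+* R} {σbar : ResidueField R →+* ResidueField R}

open scoped Pointwise in
theorem exists_approx (p : ℕ) (hmax : maximalIdeal R = Ideal.span {(p : R)})
    (hσbar : ∀ r : R, σbar (residue R r) = residue R (σ r))
    (hsurj : Function.Surjective σbar) (h2 : H2 σbar) (h3 : H3 σbar) (T : M →ₛₗ[σ] M) :
    ∀ (j : ℕ) (u : M), ∃ m s : M, u - (m - T m) = (p : R) ^ j • s := by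
  have hred : Function.Surjective (fun v : Red R M => v - redMap hσbar T v) :=
    (general (redMap hσbar T) hsurj h2 h3).1
  have hstep : ∀ s : M, ∃ m₀ s' : M, s - (m₀ - T m₀) = (p : R) • s' := by
    intro s
    obtain ⟨v, hv⟩ := hred (Submodule.Quotient.mk s)
    obtain ⟨m₀, rfl⟩ := Submodule.Quotient.mk_surjective _ v
    have h : (Submodule.Quotient.mk m₀ : Red R M) -
        redMap hσbar T (Submodule.Quotient.mk m₀) = Submodule.Quotient.mk s := hv
    rw [redMap_mk, ← Submodule.Quotient.mk_sub, Submodule.Quotient.eq] at h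
    rw [hmax, Submodule.ideal_span_singleton_smul,
      Submodule.mem_smul_pointwise_iff_exists] at h
    obtain ⟨b, -, hb⟩ := h
    refine ⟨m₀, -b, ?_⟩
    rw [smul_neg, hb]; abel
  intro j
  induction j with
  | zero => intro u; exact ⟨0, u, by simp⟩
  | succ j ih =>
    intro u
    obtain ⟨m, s, hms⟩ := ih u
    obtain ⟨m₀, s', hs'⟩ := hstep s
    refine ⟨m + (p : R) ^ j • m₀, s', ?_⟩
    have hT : T ((p : R) ^ j • m₀) = (p : R) ^ j • T m₀ := by
      rw [map_smulₛₗ, map_pow, map_natCast]
    rw [map_add, hT, pow_succ, mul_smul, ← hs', smul_sub, smul_sub, ← hms]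
    abel

/-- S19235. -/
theorem surjective_sub_of_local (p : ℕ) (hmax : maximalIdeal R = Ideal.span {(p : R)})
    (n : ℕ) (hn : (p : R) ^ n = 0)
    (hσbar : ∀ r : R, σbar (residue R r) = residue R (σ r))
    (hsurj : Function.Surjective σbar) (h2 : H2 σbar) (h3 : H3 σbar) (T : M →ₛₗ[σ] M) :
    Function.Surjective (fun m : M => m - T m) := by
  intro u
  obtain ⟨m, s, h⟩ := exists_approx p hmax hσbar hsurj h2 h3 T n u
  rw [hn, zero_smul, sub_eq_zero] at h
  exact ⟨m, h.symm⟩

end Devissage

end Groth.Agent.Lib.helper24.SigmaLinLib
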