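import Mathlib
import Groth.Prelude.Def_CAlg
import Groth.Prelude.Def_Found
import Groth.Prelude.Def_EGA4b
import Groth.Agent.Lib.Helper24.Hartshorne
import Groth.Agent.Lib.Helper24.CatEquidim
import Groth.Agent.Lib.Helper26.CM7

/-!
# `(S_2)` + catenary ⟹ equidimensional (helper24), EGA IV 5.10.9

A catenary Noetherian local ring satisfying Serre's condition `(S_2)` is equidimensional
(via Hartshorne's connectedness lemma).
-/

set_option autoImplicit false
universe u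

namespace Groth.Agent.Lib.Helper24.SkEquidim

open IsLocalRing LocCoh Groth.Agent.Lib.Helper24.CatEquidim

variable (R : Type u) [CommRing R] [IsLocalRing R] [IsNoetherianRing R]

omit [IsLocalRing R] [IsNoetherianRing R] in
/-- `(S_2)` at one prime: `min (2, ht p) ≤ depth R_p`. -/
theorem min_two_height_le_depth (hS : HasSk 2 R R) (p : Ideal R) [p.IsPrime] :
    min (2 : ℕ∞) p.height ≤ depth (Localization.AtPrime p) (Localization.AtPrime p) := by
  have h := hS p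
  rw [Groth.Agent.Lib.helper26.Depth.depth_localizedModule_self,
    Module.supportDim_eq_of_equiv (Groth.Agent.Lib.helper26.Depth.selfEquiv R p).symm,
    Module.supportDim_self_eq_ringKrullDim,
    IsLocalization.AtPrime.ringKrullDim_eq_height p (Localization.AtPrime p)] at h
  have h' : ((min (2 : ℕ∞) p.height : ℕ∞) : WithBot ℕ∞) ≤
      ((depth (Localization.AtPrime p) (Localization.AtPrime p) : ℕ∞) : WithBot ℕ∞) := by
    rw [WithBot.coe_min]
    exact h
  exact WithBot.coe_le_coe.mp h'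

omit [IsLocalRing R] [IsNoetherianRing R] in
/-- comap of a prime of `R_𝔭` is contained in `𝔭`. -/
theorem comap_le_of_isPrime (𝔭 : Ideal R) [𝔭.IsPrime] (P' : Ideal (Localization.AtPrime 𝔭))
    [P'.IsPrime] : P'.comap (algebraMap R (Localization.AtPrime 𝔭)) ≤ 𝔭 := by
  intro x hx
  by_contra hx𝔭
  have hu : IsUnit (algebraMap R (Localization.AtPrime 𝔭) x) :=
    IsLocalization.map_units (Localization.AtPrime 𝔭) (⟨x, hx𝔭⟩ : 𝔭.primeCompl)
  exact (Ideal.IsPrime.ne_top inferInstance) (Ideal.eq_top_of_isUnit_mem P' hx hu)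

/-- the key step: in a catenary `(S_2)` local ring, two minimal primes contained in a prime minimal
over `I ⊔ J` (where `I`, `J` separate the minimal primes into two classes) have the same
coheight. -/
theorem dim_quotient_eq_of_minimalPrimes (hcat : CAlg.IsCatenary R) (hS : HasSk 2 R R)
    (p₁ p₂ : Ideal R) (hp₁ : p₁ ∈ minimalPrimes R) (hp₂ : p₂ ∈ minimalPrimes R) :
    ringKrullDim (R ⧸ p₁) = ringKrullDim (R ⧸ p₂) := by
  classical
  by_contra hne
  have hfin : (minimalPrimes R).Finite := minimalPrimes.finite_of_isNoetherianRing R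
  set c : Ideal R → WithBot ℕ∞ := fun p => ringKrullDim (R ⧸ p) with hc
  set S₁ : Finset (Ideal R) := hfin.toFinset.filter (fun p => c p = c p₁) with hS₁
  set S₂ : Finset (Ideal R) := hfin.toFinset.filter (fun p => c p ≠ c p₁) with hS₂
  have hmem₁ : ∀ p, p ∈ S₁ ↔ p ∈ minimalPrimes R ∧ c p = c p₁ := by
    intro p; rw [hS₁, Finset.mem_filter, Set.Finite.mem_toFinset]
  have hmem₂ : ∀ p, p ∈ S₂ ↔ p ∈ minimalPrimes R ∧ c p ≠ c p₁ := by
    intro p; rw [hS₂, Finset.mem_filter, Set.Finite.mem_toFinset]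
  set I : Ideal R := S₁.inf id with hI
  set J : Ideal R := S₂.inf id with hJ
  have hp₁S : p₁ ∈ S₁ := (hmem₁ p₁).mpr ⟨hp₁, rfl⟩
  have hp₂S : p₂ ∈ S₂ := (hmem₂ p₂).mpr ⟨hp₂, fun h => hne h.symm⟩
  haveI hp₁prime : p₁.IsPrime := hp₁.1.1
  haveI hp₂prime : p₂.IsPrime := hp₂.1.1
  have hIJm : I ⊔ J ≤ maximalIdeal R := by
    refine sup_le ?_ ?_
    · exact (Finset.inf_le hp₁S).trans (le_maximalIdeal hp₁prime.ne_top)
    · exact (Finset.inf_le hp₂S).trans (le_maximalIdeal hp₂prime.ne_top)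
  obtain ⟨𝔭, h𝔭min, -⟩ := Ideal.exists_minimalPrimes_le hIJm
  haveI h𝔭prime : 𝔭.IsPrime := h𝔭min.1.1
  have hI𝔭 : I ≤ 𝔭 := le_sup_left.trans h𝔭min.1.2
  have hJ𝔭 : J ≤ 𝔭 := le_sup_right.trans h𝔭min.1.2
  obtain ⟨q₁, hq₁S, hq₁𝔭⟩ := (Ideal.IsPrime.inf_le' h𝔭prime).mp hI𝔭
  obtain ⟨q₂, hq₂S, hq₂𝔭⟩ := (Ideal.IsPrime.inf_le' h𝔭prime).mp hJ𝔭
  simp only [id] at hq₁𝔭 hq₂𝔭
  obtain ⟨hq₁min, hq₁c⟩ := (hmem₁ q₁).mp hq₁S
  obtain ⟨hq₂min, hq₂c⟩ := (hmem₂ q₂).mp hq₂S
  haveI hq₁prime : q₁.IsPrime := hq₁min.1.1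
  haveI hq₂prime : q₂.IsPrime := hq₂min.1.1
  -- a prime containing a member of `S₁` and a member of `S₂`: classes are disjoint
  have hdisj : ∀ q ∈ S₁, ∀ q' ∈ S₂, ¬ q ≤ q' := by
    intro q hq q' hq' hle
    obtain ⟨hqmin, hqc⟩ := (hmem₁ q).mp hq
    obtain ⟨hq'min, hq'c⟩ := (hmem₂ q').mp hq'
    have : q' ≤ q := hq'min.2 ⟨hqmin.1.1, bot_le⟩ hle
    have heq : q = q' := le_antisymm hle this
    exact hq'c (heq ▸ hqc)
  have hdisj' : ∀ q ∈ S₂, ∀ q' ∈ S₁, ¬ q ≤ q' := by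
    intro q hq q' hq' hle
    obtain ⟨hqmin, hqc⟩ := (hmem₂ q).mp hq
    obtain ⟨hq'min, hq'c⟩ := (hmem₁ q').mp hq'
    have : q' ≤ q := hq'min.2 ⟨hqmin.1.1, bot_le⟩ hle
    have heq : q = q' := le_antisymm hle this
    exact hqc (heq ▸ hq'c)
  -- `ht 𝔭 ≤ 1`
  have hht : 𝔭.height ≤ 1 := by
    by_contra hgt
    have h2 : (2 : ℕ∞) ≤ 𝔭.height := by
      rw [not_le] at hgt
      have := Order.add_one_le_of_lt hgt
      simpa [one_add_one_eq_two] using this
    have hdepth : ((2 : ℕ) : ℕ∞) ≤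
        depth (Localization.AtPrime 𝔭) (Localization.AtPrime 𝔭) := by
      have h := min_two_height_le_depth R hS 𝔭
      rw [min_eq_left h2] at h
      exact_mod_cast h
    have hseq := Groth.Agent.Lib.Helper24.Hartshorne.hasSeq_of_le_depth
      (Localization.AtPrime 𝔭) 2 hdepth
    set R' := Localization.AtPrime 𝔭 with hR'
    set I' : Ideal R' := I.map (algebraMap R R') with hI'
    set J' : Ideal R' := J.map (algebraMap R R') with hJ'
    have hcover : ∀ P' : Ideal R', P'.IsPrime → I' ≤ P' ∨ J' ≤ P' := by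
      intro P' hP'
      haveI := hP'
      set P := P'.comap (algebraMap R R') with hP
      obtain ⟨p₀, hp₀, hp₀P⟩ := Ideal.exists_minimalPrimes_le (I := ⊥) (J := P) bot_le
      by_cases h0 : c p₀ = c p₁
      · left
        rw [hI', Ideal.map_le_iff_le_comap]
        exact (Finset.inf_le ((hmem₁ p₀).mpr ⟨hp₀, h0⟩)).trans hp₀P
      · right
        rw [hJ', Ideal.map_le_iff_le_comap]
        exact (Finset.inf_le ((hmem₂ p₀).mpr ⟨hp₀, h0⟩)).trans hp₀P
    have hmeet : ∀ P' : Ideal R', P'.IsPrime → I' ≤ P' → J' ≤ P' → P' = maximalIdeal R' := by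
      intro P' hP' h1 h2
      haveI := hP'
      set P := P'.comap (algebraMap R R') with hP
      have hIJP : I ⊔ J ≤ P :=
        sup_le (Ideal.map_le_iff_le_comap.mp h1) (Ideal.map_le_iff_le_comap.mp h2)
      have hP𝔭 : P ≤ 𝔭 := comap_le_of_isPrime R 𝔭 P'
      have h𝔭P : 𝔭 ≤ P := h𝔭min.2 ⟨Ideal.comap_isPrime _ _, hIJP⟩ hP𝔭
      have hPeq : P = 𝔭 := le_antisymm hP𝔭 h𝔭P
      have hP'eq : Ideal.map (algebraMap R R') P = P' :=
        IsLocalization.map_under 𝔭.primeCompl R' P'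
      rw [← hP'eq, hPeq]
      exact IsLocalization.AtPrime.map_eq_maximalIdeal 𝔭 R'
    have hq₁disj : Disjoint (𝔭.primeCompl : Set R) (q₁ : Set R) := by
      rw [Set.disjoint_left]
      intro x hx hxq
      exact hx (hq₁𝔭 hxq)
    have hq₂disj : Disjoint (𝔭.primeCompl : Set R) (q₂ : Set R) := by
      rw [Set.disjoint_left]
      intro x hx hxq
      exact hx (hq₂𝔭 hxq)
    rcases Groth.Agent.Lib.Helper24.Hartshorne.connected R' hseq I' J' hcover hmeet with h | h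
    · -- `I' ≤ nilradical`, so `I ≤ q₂`
      haveI : (q₂.map (algebraMap R R')).IsPrime :=
        IsLocalization.isPrime_of_isPrime_disjoint 𝔭.primeCompl R' q₂ hq₂prime hq₂disj
      have h1 : I' ≤ q₂.map (algebraMap R R') := h.trans (nilradical_le_prime _)
      have h2 : I ≤ q₂ := by
        have h3 : I ≤ Ideal.under R (q₂.map (algebraMap R R')) := Ideal.map_le_iff_le_comap.mp h1
        rwa [IsLocalization.under_map_of_isPrime_disjoint 𝔭.primeCompl R' hq₂prime hq₂disj]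
          at h3
      obtain ⟨q, hqS, hqq₂⟩ := (Ideal.IsPrime.inf_le' hq₂prime).mp h2
      exact hdisj q hqS q₂ hq₂S hqq₂
    · haveI : (q₁.map (algebraMap R R')).IsPrime :=
        IsLocalization.isPrime_of_isPrime_disjoint 𝔭.primeCompl R' q₁ hq₁prime hq₁disj
      have h1 : J' ≤ q₁.map (algebraMap R R') := h.trans (nilradical_le_prime _)
      have h2 : J ≤ q₁ := by
        have h3 : J ≤ Ideal.under R (q₁.map (algebraMap R R')) := Ideal.map_le_iff_le_comap.mp h1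
        rwa [IsLocalization.under_map_of_isPrime_disjoint 𝔭.primeCompl R' hq₁prime hq₁disj]
          at h3
      obtain ⟨q, hqS, hqq₁⟩ := (Ideal.IsPrime.inf_le' hq₁prime).mp h2
      exact hdisj' q hqS q₁ hq₁S hqq₁
  -- covering relations
  have hcov : ∀ q : Ideal R, ∀ hq : q.IsPrime, q ≤ 𝔭 → q ≠ 𝔭 →
      (⟨q, hq⟩ : PrimeSpectrum R) ⋖ ⟨𝔭, h𝔭prime⟩ := by
    intro q hq hle hne'
    haveI := hq
    have hlt : q < 𝔭 := lt_of_le_of_ne hle hne'
    refine ⟨hlt, ?_⟩
    intro P hqP hP𝔭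
    haveI := P.isPrime
    have hqP' : q < P.asIdeal := hqP
    have hP𝔭' : P.asIdeal < 𝔭 := hP𝔭
    have h1 : q.height < P.asIdeal.height := Ideal.height_strict_mono_of_isPrime_of_isPrime hqP'
    have h2 : P.asIdeal.height < 𝔭.height := Ideal.height_strict_mono_of_isPrime_of_isPrime hP𝔭'
    have h3 : P.asIdeal.height < 1 := lt_of_lt_of_le h2 hht
    have h4 : P.asIdeal.height = 0 := by
      exact Order.lt_one_iff.mp h3
    rw [h4] at h1
    exact not_lt_bot h1
  have hq₁ne : q₁ ≠ 𝔭 := by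
    intro h
    exact hdisj' q₂ hq₂S q₁ hq₁S (h ▸ hq₂𝔭)
  have hq₂ne : q₂ ≠ 𝔭 := by
    intro h
    exact hdisj q₁ hq₁S q₂ hq₂S (h ▸ hq₁𝔭)
  have e1 := coheight_covBy hcat (hcov q₁ hq₁prime hq₁𝔭 hq₁ne)
  have e2 := coheight_covBy hcat (hcov q₂ hq₂prime hq₂𝔭 hq₂ne)
  have e3 : c q₁ = c q₂ := by
    rw [hc]
    show ringKrullDim (R ⧸ q₁) = ringKrullDim (R ⧸ q₂)
    have a1 := coheight_eq_ringKrullDim_quotient (⟨q₁, hq₁prime⟩ : PrimeSpectrum R)
    have a2 := coheight_eq_ringKrullDim_quotient (⟨q₂, hq₂prime⟩ : PrimeSpectrum R)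
    simp only at a1 a2
    rw [← a1, ← a2, e1, e2]
  exact hq₂c (e3 ▸ hq₁c)

/-- **EGA IV 5.10.9**: a catenary Noetherian local ring satisfying `(S_2)` is equidimensional. -/
theorem isEquidim_of_hasSk_two (hcat : CAlg.IsCatenary R) (hS : HasSk 2 R R) :
    EGA4.IsEquidim R := by
  intro p hp
  haveI : p.IsPrime := hp.1.1
  apply le_antisymm
  · exact ringKrullDim_quotient_le p
  · refine ringKrullDim_le_of_forall_minimalPrimes R _ fun P hP => ?_
    exact (dim_quotient_eq_of_minimalPrimes R hcat hS P p hP hp).le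

end Groth.Agent.Lib.Helper24.SkEquidim
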