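import Mathlib
import Groth.Prelude.Def_Found
import Groth.Agent.Lib.Helper24.SmoothRegular

/-!
# Smooth ring maps are regular (helper24)
-/

set_option autoImplicit false

namespace Groth.Agent.Lib.Helper24.SmoothRegularHom

universe u

open TensorProduct

/-- A smooth algebra over a field is geometrically regular. -/
theorem isGeometricallyRegular_of_smooth_field (K S : Type u) [Field K] [CommRing S] [Algebra K S]
    [Algebra.Smooth K S] : CAlg.IsGeometricallyRegular K S := by
  intro k' _ _ hfin
  have h : IsRegularRing (k' ⊗[K] K) :=
    IsRegularRing.of_ringEquiv (Algebra.TensorProduct.rid K K k').symm.toRingEquiv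
  exact Groth.Agent.Lib.Helper24.SmoothRegular.isRegularRing_tensor_of_smooth K K S k' h

/-- A smooth ring map is a regular ring map. -/
theorem isRegularHom_of_smooth (A B : Type u) [CommRing A] [CommRing B] [Algebra A B]
    [Algebra.Smooth A B] : CAlg.IsRegularHom A B := by
  refine ⟨inferInstance, fun p hp => ?_⟩
  haveI : Algebra.Smooth p.ResidueField (p.Fiber B) :=
    inferInstanceAs (Algebra.Smooth p.ResidueField (p.ResidueField ⊗[A] B))
  haveI : Algebra.FiniteType p.ResidueField (p.Fiber B) := inferInstance
  exact ⟨Algebra.FiniteType.isNoetherianRing p.ResidueField (p.Fiber B),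
    isGeometricallyRegular_of_smooth_field p.ResidueField (p.Fiber B)⟩

end Groth.Agent.Lib.Helper24.SmoothRegularHom
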