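import Groth.Agent.Lib.Helper24.FlatNilSmooth
import Groth.Agent.Lib.Helper24.FlatQuot

/-!
# Transport of formal smoothness; flat + smooth closed fibre over a nilpotent thickening (helper24)

* `formallySmooth_of_ringEquiv`: transport `FormallySmooth R S` along compatible ring isomorphisms
  `R ≃+* R'`, `S ≃+* S'`.
* `formallySmooth_of_flat_of_fibre`: `R → S` flat, `I ⊂ R` nilpotent, and surjections `R → R₀`,
  `S → S₀` with kernels `I`, `I S`, compatible with `R₀ → S₀` formally smooth ⇒ `R → S` formally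
  smooth.
* `formallySmooth_quotient_pow`: `A → B` flat local, `𝔪_A B = 𝔪_B`, `κ(B)` formally smooth over
  `κ(A)` ⇒ `B/𝔪_A^N B` formally smooth over `A/𝔪_A^N`.
-/

set_option autoImplicit false
universe u

namespace Groth.Agent.Lib.Helper24.SmoothTransport

theorem formallySmooth_of_ringEquiv {R S R' S' : Type*} [CommRing R] [CommRing S] [CommRing R']
    [CommRing S'] [Algebra R S] [Algebra R' S'] (e₁ : R ≃+* R') (e₂ : S ≃+* S')
    (h : ∀ r, e₂ (algebraMap R S r) = algebraMap R' S' (e₁ r)) [Algebra.FormallySmooth R S] :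
    Algebra.FormallySmooth R' S' := by
  letI : Algebra R R' := e₁.toRingHom.toAlgebra
  letI : Algebra R S' := ((algebraMap R' S').comp e₁.toRingHom).toAlgebra
  haveI : IsScalarTower R R' S' := IsScalarTower.of_algebraMap_eq (fun r => rfl)
  haveI : Algebra.FormallyUnramified R R' :=
    Algebra.FormallyUnramified.of_surjective (Algebra.ofId R R') e₁.surjective
  let e : S ≃ₐ[R] S' := { e₂ with commutes' := h }
  haveI : Algebra.FormallySmooth R S' := Algebra.FormallySmooth.of_equiv e
  exact Algebra.FormallySmooth.of_restrictScalars R R' S'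

theorem formallySmooth_of_flat_of_fibre {R S R₀ S₀ : Type u} [CommRing R] [CommRing S]
    [CommRing R₀] [CommRing S₀] [Algebra R S] [Algebra R₀ S₀] [Module.Flat R S]
    (I : Ideal R) (hI : IsNilpotent I) (πR : R →+* R₀) (hπR : Function.Surjective πR)
    (hkR : RingHom.ker πR = I) (πS : S →+* S₀) (hπS : Function.Surjective πS)
    (hkS : RingHom.ker πS = I.map (algebraMap R S))
    (hcomp : ∀ r, πS (algebraMap R S r) = algebraMap R₀ S₀ (πR r))
    [Algebra.FormallySmooth R₀ S₀] : Algebra.FormallySmooth R S := by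
  let e₁ : R₀ ≃+* R ⧸ I :=
    ((Ideal.quotEquivOfEq hkR.symm).trans (RingHom.quotientKerEquivOfSurjective hπR)).symm
  let e₂ : S₀ ≃+* S ⧸ I.map (algebraMap R S) :=
    ((Ideal.quotEquivOfEq hkS.symm).trans (RingHom.quotientKerEquivOfSurjective hπS)).symm
  haveI : Algebra.FormallySmooth (R ⧸ I) (S ⧸ I.map (algebraMap R S)) := by
    refine formallySmooth_of_ringEquiv e₁ e₂ ?_
    intro r₀
    obtain ⟨r, rfl⟩ := hπR r₀
    have h1 : e₁ (πR r) = Ideal.Quotient.mk I r := by
      rw [RingEquiv.symm_apply_eq]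
      rfl
    have h2 : e₂ (πS (algebraMap R S r)) = Ideal.Quotient.mk _ (algebraMap R S r) := by
      rw [RingEquiv.symm_apply_eq]
      rfl
    rw [← hcomp, h2, h1]
    rfl
  exact Groth.Agent.Lib.Helper24.FlatNilSmooth.formallySmooth_of_flat_of_isNilpotent I hI

open IsLocalRing in
theorem formallySmooth_quotient_pow {A B : Type u} [CommRing A] [IsLocalRing A] [CommRing B]
    [IsLocalRing B] [Algebra A B] [IsLocalHom (algebraMap A B)] [Module.Flat A B]
    (hm : (maximalIdeal A).map (algebraMap A B) = maximalIdeal B)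
    [Algebra.FormallySmooth (ResidueField A) (ResidueField B)] (N : ℕ) (hN : 1 ≤ N) :
    Algebra.FormallySmooth (A ⧸ maximalIdeal A ^ N)
      (B ⧸ (maximalIdeal A ^ N).map (algebraMap A B)) := by
  haveI := Groth.Agent.Lib.Helper24.FlatQuot.flat_quotient A B (maximalIdeal A ^ N)
  have hle : maximalIdeal A ^ N ≤ maximalIdeal A := Ideal.pow_le_self (by omega)
  have hleB : (maximalIdeal A ^ N).map (algebraMap A B) ≤ maximalIdeal B := by
    rw [← hm]; exact Ideal.map_mono hle
  have hnil : IsNilpotent ((maximalIdeal A).map (Ideal.Quotient.mk (maximalIdeal A ^ N))) := by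
    refine ⟨N, ?_⟩
    rw [← Ideal.map_pow, Ideal.zero_eq_bot, Ideal.map_quotient_self]
  have hk2 : RingHom.ker (Ideal.Quotient.factor hleB) =
      ((maximalIdeal A).map (Ideal.Quotient.mk (maximalIdeal A ^ N))).map
        (algebraMap (A ⧸ maximalIdeal A ^ N) (B ⧸ (maximalIdeal A ^ N).map (algebraMap A B))) := by
    rw [Ideal.Quotient.factor_ker hleB, ← hm, Ideal.map_map, Ideal.map_map]
    rfl
  have hcomp : ∀ r : A ⧸ maximalIdeal A ^ N,
      (Ideal.Quotient.factor hleB) (algebraMap (A ⧸ maximalIdeal A ^ N)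
        (B ⧸ (maximalIdeal A ^ N).map (algebraMap A B)) r) =
      algebraMap (ResidueField A) (ResidueField B) (Ideal.Quotient.factor hle r) := by
    intro r
    obtain ⟨a, rfl⟩ := Ideal.Quotient.mk_surjective r
    rfl
  exact formallySmooth_of_flat_of_fibre (R₀ := ResidueField A) (S₀ := ResidueField B)
    ((maximalIdeal A).map (Ideal.Quotient.mk (maximalIdeal A ^ N))) hnil
    (Ideal.Quotient.factor hle) (Ideal.Quotient.factor_surjective hle)
    (Ideal.Quotient.factor_ker hle)
    (Ideal.Quotient.factor hleB) (Ideal.Quotient.factor_surjective hleB) hk2 hcomp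

end Groth.Agent.Lib.Helper24.SmoothTransport
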