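import Mathlib
import Groth.Prelude.Def_CAlg
import Groth.Agent.Lib.Helper26.CM2

/-!
# Lifting systems of parameters, part 1 (helper24)

* `exists_add_notMem` : coset prime avoidance (copy of helper12's `CosetAvoid.exists_add_notMem`,
  re-proved here to avoid the import chain).
* `ofList_take_ofFn` : `ofList ((List.ofFn t).take k) = span (t '' {j | j < k})`.
* `cm_sop_notMem` : in a Cohen–Macaulay local ring with system of parameters `t`, `t k` lies in no
  minimal prime of `(t_j : j < k)`.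
* `ringKrullDim_quotient_sup_span_succ_le` : if `x` lies in no minimal prime of `q` then
  `dim A/(q + (x)) + 1 ≤ dim A/q`.
-/

set_option autoImplicit false
universe u

open RingTheory.Sequence IsLocalRing

namespace Groth.Agent.Lib.Helper24.SopLift

section Avoid

variable {R : Type*} [CommRing R]

/-- coset prime avoidance -/
theorem exists_add_notMem (g : R) (I : Ideal R) (s : Finset (Ideal R))
    (hp : ∀ 𝔭 ∈ s, 𝔭.IsPrime) (h : ∀ 𝔭 ∈ s, I ≤ 𝔭 → g ∉ 𝔭) :
    ∃ a ∈ I, ∀ 𝔭 ∈ s, g + a ∉ 𝔭 := by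
  classical
  induction s using Finset.strongInduction with
  | H s ih =>
    rcases s.eq_empty_or_nonempty with rfl | hne
    · exact ⟨0, I.zero_mem, by simp⟩
    · obtain ⟨𝔭₀, h𝔭₀, hmin⟩ := s.exists_minimal hne
      have hp₀ : 𝔭₀.IsPrime := hp 𝔭₀ h𝔭₀
      obtain ⟨a', ha', h'⟩ := ih (s.erase 𝔭₀) (Finset.erase_ssubset h𝔭₀)
        (fun 𝔭 h𝔭 => hp 𝔭 (Finset.mem_of_mem_erase h𝔭))
        (fun 𝔭 h𝔭 => h 𝔭 (Finset.mem_of_mem_erase h𝔭))
      by_cases hcase : g + a' ∈ 𝔭₀
      · have hI₀ : ¬ I ≤ 𝔭₀ := by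
          intro hle
          apply h 𝔭₀ h𝔭₀ hle
          have := 𝔭₀.sub_mem hcase (hle ha')
          simpa using this
        have hJ : ¬ (insert I (s.erase 𝔭₀)).inf id ≤ 𝔭₀ := by
          rw [Ideal.IsPrime.inf_le' hp₀]
          rintro ⟨𝔮, h𝔮, hle⟩
          rcases Finset.mem_insert.mp h𝔮 with rfl | h𝔮'
          · exact hI₀ hle
          · have h𝔮s : 𝔮 ∈ s := Finset.mem_of_mem_erase h𝔮'
            have hne' : 𝔮 ≠ 𝔭₀ := Finset.ne_of_mem_erase h𝔮'
            have hle' : 𝔮 ≤ 𝔭₀ := hle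
            exact hne' (le_antisymm hle' (hmin h𝔮s hle'))
        obtain ⟨b, hb, hb₀⟩ := SetLike.not_le_iff_exists.mp hJ
        have hbI : b ∈ I := by
          have := (Finset.inf_le (f := id) (Finset.mem_insert_self I (s.erase 𝔭₀))) hb
          exact this
        have hbq : ∀ 𝔮 ∈ s.erase 𝔭₀, b ∈ 𝔮 := fun 𝔮 h𝔮 =>
          (Finset.inf_le (f := id) (Finset.mem_insert_of_mem h𝔮)) hb
        refine ⟨a' + b, I.add_mem ha' hbI, fun 𝔭 h𝔭 => ?_⟩
        by_cases he : 𝔭 = 𝔭₀
        · subst he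
          intro hmem
          apply hb₀
          have := 𝔭.sub_mem hmem hcase
          have e : g + (a' + b) - (g + a') = b := by ring
          rwa [e] at this
        · have h𝔭' : 𝔭 ∈ s.erase 𝔭₀ := Finset.mem_erase.mpr ⟨he, h𝔭⟩
          intro hmem
          apply h' 𝔭 h𝔭'
          have := 𝔭.sub_mem hmem (hbq 𝔭 h𝔭')
          have e : g + (a' + b) - b = g + a' := by ring
          rwa [e] at this
      · refine ⟨a', ha', fun 𝔭 h𝔭 => ?_⟩
        by_cases he : 𝔭 = 𝔭₀
        · subst he; exact hcase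
        · exact h' 𝔭 (Finset.mem_erase.mpr ⟨he, h𝔭⟩)

end Avoid

section CM

variable {R : Type u} [CommRing R]

lemma ofList_take_ofFn {s : ℕ} (t : Fin s → R) (k : ℕ) :
    Ideal.ofList ((List.ofFn t).take k) = Ideal.span (t '' {j : Fin s | j.val < k}) := by
  unfold Ideal.ofList
  congr 1
  ext x
  simp only [Set.mem_ofPred_eq, Set.mem_image]
  rw [List.mem_take_iff_getElem]
  constructor
  · rintro ⟨i, hi, rfl⟩
    have hi' : i < s := by simpa using (lt_min_iff.mp hi).2
    exact ⟨⟨i, hi'⟩, (lt_min_iff.mp hi).1, by simp⟩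
  · rintro ⟨j, hj, rfl⟩
    exact ⟨j.val, lt_min_iff.mpr ⟨hj, by simp⟩, by simp⟩

lemma ofList_ofFn {s : ℕ} (t : Fin s → R) :
    Ideal.ofList (List.ofFn t) = Ideal.span (Set.range t) := by
  unfold Ideal.ofList
  congr 1
  ext x
  simp [List.mem_ofFn]

/-- In a Cohen–Macaulay local ring of dimension `s` with system of parameters `t`, the element
`t k` lies in no minimal prime of `(t_j : j < k)`. -/
theorem cm_sop_notMem [LocCoh.IsCohenMacaulayLocalRing R] (s : ℕ)
    (hs : ringKrullDim R = s) (t : Fin s → R) (ht : ∀ i, t i ∈ maximalIdeal R)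
    (hsop : ringKrullDim (R ⧸ Ideal.span (Set.range t)) = 0) (k : Fin s) (P : Ideal R)
    (hP : P ∈ (Ideal.span (t '' {j : Fin s | j < k})).minimalPrimes) : t k ∉ P := by
  have hCM : LocCoh.IsCohenMacaulayModule R R :=
    LocCoh.IsCohenMacaulayLocalRing.supportDim_eq_depth
  have hreg : IsWeaklyRegular R (List.ofFn t) := by
    apply Groth.Agent.Lib.helper26.Depth.isWeaklyRegular_of_supportDim_quot_ofList
      (List.ofFn t) R hCM
    · intro x hx
      obtain ⟨i, rfl⟩ := (List.mem_ofFn' ..).mp hx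
      exact ht i
    · rw [Module.supportDim_self_eq_ringKrullDim, hs, List.length_ofFn]
      have e : (Ideal.ofList (List.ofFn t) • ⊤ : Submodule R R) = Ideal.span (Set.range t) := by
        rw [ofList_ofFn]; simp
      rw [Module.supportDim_eq_of_equiv (Submodule.quotEquivOfEq _ _ e),
        Module.supportDim_quotient_eq_ringKrullDim, hsop]
      simp
  have h1 := hreg.regular_mod_prev k.val (by simp)
  rw [List.getElem_ofFn] at h1
  refine h1.notMem_of_mem_minimalPrimes ?_
  have e : Module.annihilator R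
      (R ⧸ (Ideal.ofList ((List.ofFn t).take k.val) • ⊤ : Submodule R R)) =
      Ideal.span (t '' {j : Fin s | j < k}) := by
    rw [Ideal.annihilator_quotient, ofList_take_ofFn]
    simp
  rw [e]
  exact hP

end CM

section Drop

open PrimeSpectrum

/-- if `x` lies in no minimal prime of `q` then `dim A/(q + (x)) + 1 ≤ dim A/q`. -/
theorem ringKrullDim_quotient_sup_span_succ_le {A : Type u} [CommRing A] (q : Ideal A) (x : A)
    (hx : ∀ P ∈ q.minimalPrimes, x ∉ P) :
    ringKrullDim (A ⧸ (q ⊔ Ideal.span {x})) + 1 ≤ ringKrullDim (A ⧸ q) := by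
  by_cases hr' : q ⊔ Ideal.span {x} = ⊤
  · rw [hr', ringKrullDim_eq_bot_of_subsingleton]
    simp
  have hne1 : Nonempty (zeroLocus (R := A) (q ⊔ Ideal.span {x} : Ideal A)) := by
    rwa [Set.nonempty_coe_sort, Set.nonempty_iff_ne_empty, ne_eq,
      zeroLocus_empty_iff_eq_top]
  have hsub : zeroLocus (R := A) ((q ⊔ Ideal.span {x} : Ideal A) : Set A) ⊆
      zeroLocus (R := A) (q : Set A) :=
    zeroLocus_anti_mono_ideal le_sup_left
  have hne2 : Nonempty (zeroLocus (R := A) (q : Set A)) := by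
    obtain ⟨z, hz⟩ := hne1
    exact ⟨⟨z, hsub hz⟩⟩
  rw [ringKrullDim_quotient, ringKrullDim_quotient, Order.krullDim_eq_iSup_length,
    Order.krullDim_eq_iSup_length, ← WithBot.coe_one, ← WithBot.coe_add,
    ENat.iSup_add, WithBot.coe_le_coe, iSup_le_iff]
  intro l
  have hl : q ≤ l.head.1.asIdeal := fun a ha => l.head.2 (Ideal.mem_sup_left ha)
  obtain ⟨p, hp, hp'⟩ := Ideal.exists_minimalPrimes_le hl
  let p' : zeroLocus (R := A) (q : Set A) := ⟨⟨p, hp.1.1⟩, hp.1.2⟩
  let l' : LTSeries (zeroLocus (R := A) (q : Set A)) :=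
    l.map (fun z => ⟨z.1, hsub z.2⟩) (fun _ _ h => h)
  have hlt : p' < l'.head := by
    refine lt_of_le_of_ne hp' fun h => hx p hp ?_
    have h2 : p = l.head.1.asIdeal := congrArg (fun z => z.1.asIdeal) h
    rw [h2]
    exact l.head.2 (Ideal.mem_sup_right (Ideal.mem_span_singleton_self x))
  refine le_trans ?_ (le_iSup _ (l'.cons p' hlt))
  simp [l', LTSeries.map]

end Drop

end Groth.Agent.Lib.Helper24.SopLift
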