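import Mathlib
import Groth.Agent.Lib.Helper24.SopLift1

/-!
# Lifting systems of parameters, part 2 (helper24)

* `span_image_eq_of_triangular` : triangular change of generators with unit diagonal.
* `exists_lift` : the inductive choice of the lifts `x i`.
* `dim_quotient_add_le` : the lifts are part of a system of parameters.
-/

set_option autoImplicit false
universe u

open IsLocalRing

namespace Groth.Agent.Lib.Helper24.SopLift

section Tri

variable {R : Type*} [CommRing R]

lemma span_singleton_sup_eq {J : Ideal R} {w τ c : R} (hc : IsUnit c) (h : w - c * τ ∈ J) :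
    Ideal.span {w} ⊔ J = Ideal.span {τ} ⊔ J := by
  apply le_antisymm
  · refine sup_le ((Ideal.span_singleton_le_iff_mem _).mpr ?_) le_sup_right
    have e : w = c * τ + (w - c * τ) := by ring
    rw [e]
    exact Ideal.add_mem _ (Ideal.mem_sup_left
      (Ideal.mul_mem_left _ c (Ideal.mem_span_singleton_self τ))) (Ideal.mem_sup_right h)
  · refine sup_le ((Ideal.span_singleton_le_iff_mem _).mpr ?_) le_sup_right
    obtain ⟨d, hd⟩ := hc.exists_left_inv
    have e : τ = d * w - d * (w - c * τ) := by
      have : d * w - d * (w - c * τ) = (d * c) * τ := by ring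
      rw [this, hd, one_mul]
    rw [e]
    exact Ideal.sub_mem _ (Ideal.mem_sup_left
      (Ideal.mul_mem_left _ d (Ideal.mem_span_singleton_self w)))
      (Ideal.mem_sup_right (Ideal.mul_mem_left _ d h))

lemma setOf_lt_succ {s : ℕ} (k : ℕ) (hk : k < s) :
    {j : Fin s | j.val < k + 1} = insert (⟨k, hk⟩ : Fin s) {j : Fin s | j.val < k} := by
  ext j
  simp only [Set.mem_ofPred_eq, Set.mem_insert_iff, Fin.ext_iff]
  omega

lemma setOf_lt_succ_of_le {s : ℕ} (k : ℕ) (hk : s ≤ k) :
    {j : Fin s | j.val < k + 1} = {j : Fin s | j.val < k} := by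
  ext j
  simp only [Set.mem_ofPred_eq]
  have := j.isLt
  omega

/-- triangular change of generators with unit diagonal -/
theorem span_image_eq_of_triangular {s : ℕ} (t w c : Fin s → R) (hc : ∀ j, IsUnit (c j))
    (k : ℕ) (h : ∀ j : Fin s, j.val < k →
      w j - c j * t j ∈ Ideal.span (t '' {l : Fin s | l < j})) :
    Ideal.span (w '' {j : Fin s | j.val < k}) = Ideal.span (t '' {j : Fin s | j.val < k}) := by
  induction k with
  | zero => simp
  | succ k ih =>
    have ih' := ih (fun j hj => h j (by omega))
    by_cases hk : k < s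
    · rw [setOf_lt_succ k hk, Set.image_insert_eq, Set.image_insert_eq, Ideal.span_insert,
        Ideal.span_insert, ih']
      exact span_singleton_sup_eq (hc _) (h ⟨k, hk⟩ (by simp))
    · rw [setOf_lt_succ_of_le k (by omega)]
      exact ih'

end Tri

section Lift

variable {A : Type u} [CommRing A] [IsNoetherianRing A] (p : Ideal A) [p.IsPrime]
  (R : Type u) [CommRing R] [Algebra A R] [IsLocalization.AtPrime R p]

include p in
/-- the inductive choice of the lifts -/
theorem exists_lift {s : ℕ} (t : Fin s → R) (y u : Fin s → A)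
    (hyu : ∀ i, t i * algebraMap A R (u i) = algebraMap A R (y i)) (hu : ∀ i, u i ∉ p)
    (hCM : ∀ (k : Fin s) (P' : Ideal R),
      P' ∈ (Ideal.span (t '' {j : Fin s | j < k})).minimalPrimes → t k ∉ P')
    (k : ℕ) (hk : k ≤ s) :
    ∃ x : Fin s → A, ∀ i : Fin s, i.val < k →
      (x i - y i ∈ (Ideal.span (t '' {j : Fin s | j < i})).comap (algebraMap A R)) ∧
      (∀ P ∈ (Ideal.span (x '' {j : Fin s | j < i})).minimalPrimes, x i ∉ P) := by
  classical
  induction k with
  | zero => exact ⟨y, fun i hi => absurd hi (by omega)⟩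
  | succ k ih =>
    obtain ⟨x, hx⟩ := ih (by omega)
    have hks : k < s := by omega
    set i₀ : Fin s := ⟨k, hks⟩ with hi₀
    set q : Ideal A := Ideal.span (x '' {j : Fin s | j < i₀}) with hq
    set J : Ideal R := Ideal.span (t '' {j : Fin s | j < i₀}) with hJ
    have hunit : ∀ j, IsUnit (algebraMap A R (u j)) := fun j =>
      IsLocalization.map_units R (⟨u j, hu j⟩ : p.primeCompl)
    have hmap : q.map (algebraMap A R) = J := by
      rw [hq, Ideal.map_span, Set.image_image]
      refine span_image_eq_of_triangular t (fun j => algebraMap A R (x j))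
        (fun j => algebraMap A R (u j)) hunit k (fun j hj => ?_)
      have h1 := (hx j hj).1
      rw [Ideal.mem_comap, map_sub, ← hyu j, mul_comm] at h1
      exact h1
    have hfin : q.minimalPrimes.Finite := Ideal.finite_minimalPrimes_of_isNoetherianRing A q
    obtain ⟨z, hzI, hz⟩ := exists_add_notMem (y i₀) (J.comap (algebraMap A R)) hfin.toFinset
      (fun P hP => (hfin.mem_toFinset.mp hP).1.1)
      (fun P hP hIP => by
        have hP' := hfin.mem_toFinset.mp hP
        have := hP'.1.1
        obtain ⟨P₀, hP₀, hP₀P⟩ := Ideal.exists_minimalPrimes_le hIP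
        have hqI : q ≤ J.comap (algebraMap A R) := by
          rw [← hmap]; exact Ideal.le_comap_map
        have hPP₀ : P ≤ P₀ := hP'.2 ⟨hP₀.1.1, hqI.trans hP₀.1.2⟩ hP₀P
        have hPeq : P = P₀ := le_antisymm hPP₀ hP₀P
        rw [IsLocalization.minimalPrimes_comap p.primeCompl R J] at hP₀
        obtain ⟨P', hP'J, hP'eq⟩ := hP₀
        intro hy
        have h1 : algebraMap A R (y i₀) ∈ P' := by
          rw [hPeq, ← hP'eq] at hy
          exact hy
        rw [← hyu i₀] at h1
        have := hP'J.1.1
        rcases Ideal.IsPrime.mem_or_mem this h1 with h2 | h2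
        · exact hCM i₀ P' hP'J h2
        · exact this.ne_top (Ideal.eq_top_of_isUnit_mem _ h2 (hunit i₀)))
    refine ⟨Function.update x i₀ (y i₀ + z), fun i hi => ?_⟩
    have himg : ∀ i : Fin s, i.val ≤ k →
        Function.update x i₀ (y i₀ + z) '' {j : Fin s | j < i} = x '' {j : Fin s | j < i} := by
      intro i hi
      refine Set.image_congr (fun j hj => ?_)
      have hj' : j.val < i.val := hj
      have hne : j ≠ i₀ := by
        intro h
        rw [h] at hj'
        simp only [hi₀] at hj'
        omega
      exact Function.update_of_ne hne _ _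
    rw [himg i (by omega)]
    by_cases hik : i.val < k
    · have hne : i ≠ i₀ := by
        intro h
        rw [h] at hik
        simp only [hi₀] at hik
        omega
      rw [Function.update_of_ne hne]
      exact hx i hik
    · have hieq : i = i₀ := Fin.ext (by simp only [hi₀]; omega)
      rw [hieq, Function.update_self]
      refine ⟨?_, fun P hP => hz P (hfin.mem_toFinset.mpr hP)⟩
      have e : y i₀ + z - y i₀ = z := by ring
      rw [e]
      exact hzI

end Lift

section Dim

variable {A : Type u} [CommRing A]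

/-- if each `x i` avoids the minimal primes of `(x_j : j < i)`, then
`dim A/(x_j : j < k) + k ≤ dim A`. -/
theorem dim_quotient_add_le {s : ℕ} (x : Fin s → A)
    (hx : ∀ (i : Fin s), ∀ P ∈ (Ideal.span (x '' {j : Fin s | j < i})).minimalPrimes, x i ∉ P)
    (k : ℕ) (hk : k ≤ s) :
    ringKrullDim (A ⧸ Ideal.span (x '' {j : Fin s | j.val < k})) + (k : WithBot ℕ∞) ≤
      ringKrullDim A := by
  induction k with
  | zero =>
    have e : Ideal.span (x '' {j : Fin s | j.val < 0}) = ⊥ := by simp
    rw [e, ringKrullDim_eq_of_ringEquiv (RingEquiv.quotientBot A)]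
    simp
  | succ k ih =>
    have hks : k < s := by omega
    have h1 := ringKrullDim_quotient_sup_span_succ_le
      (Ideal.span (x '' {j : Fin s | j.val < k})) (x ⟨k, hks⟩) (hx ⟨k, hks⟩)
    have e : Ideal.span (x '' {j : Fin s | j.val < k + 1}) =
        Ideal.span (x '' {j : Fin s | j.val < k}) ⊔ Ideal.span {x ⟨k, hks⟩} := by
      rw [setOf_lt_succ k hks, Set.image_insert_eq, Ideal.span_insert, sup_comm]
    rw [e]
    calc ringKrullDim (A ⧸ Ideal.span (x '' {j : Fin s | j.val < k}) ⊔ Ideal.span {x ⟨k, hks⟩}) +
          ((k + 1 : ℕ) : WithBot ℕ∞)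
        = (ringKrullDim (A ⧸ Ideal.span (x '' {j : Fin s | j.val < k}) ⊔
            Ideal.span {x ⟨k, hks⟩}) + 1) + (k : WithBot ℕ∞) := by
          push_cast; rw [add_assoc, add_comm (1 : WithBot ℕ∞)]
      _ ≤ ringKrullDim (A ⧸ Ideal.span (x '' {j : Fin s | j.val < k})) + (k : WithBot ℕ∞) := by
          gcongr
      _ ≤ ringKrullDim A := ih (by omega)

end Dim

end Groth.Agent.Lib.Helper24.SopLift
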