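import Groth.Agent.Lib.Helper24.RegPS
import Groth.Agent.Lib.Helper24.CoeffField
import Groth.Agent.Lib.Helper24.CohenPS
import Groth.Agent.LibObs29d

/-!
# Artinian local rings with `𝔪² = 0` are `B/𝔫²` for a regular local ring `B` (helper24)

EGA 0_IV 19.8.? / Cohen: equal characteristic `B = κ⟦X₁..Xₙ⟧`; mixed characteristic
`B = W⟦X₁..X_r⟧` with `W` a Cohen ring and `p, x₁, …, x_r` a minimal system of generators of `𝔪`.
-/

set_option autoImplicit false
universe u

namespace Groth.Agent.Lib.Helper24.SqZeroReg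

open IsLocalRing

/-- A surjection from a local ring with kernel inside `𝔪²` onto a local ring with `𝔪² = 0`
induces an isomorphism with the quotient by `𝔪²`. -/
theorem equiv_quot_sq {P A : Type*} [CommRing P] [IsLocalRing P] [CommRing A] [IsLocalRing A]
    (h : maximalIdeal A ^ 2 = ⊥) (f : P →+* A) (hf : Function.Surjective f)
    (hker : RingHom.ker f ≤ maximalIdeal P ^ 2) : Nonempty (A ≃+* P ⧸ maximalIdeal P ^ 2) := by
  have hmap : (maximalIdeal P).map f = maximalIdeal A :=
    IsLocalRing.map_maximalIdeal_of_surjective f hf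
  have hle : maximalIdeal P ^ 2 ≤ RingHom.ker f := by
    intro g hg
    have h1 : f g ∈ ((maximalIdeal P) ^ 2).map f := Ideal.mem_map_of_mem _ hg
    rw [Ideal.map_pow, hmap, h, Ideal.mem_bot] at h1
    exact (RingHom.mem_ker).2 h1
  have hk : RingHom.ker f = maximalIdeal P ^ 2 := le_antisymm hker hle
  exact ⟨((Ideal.quotEquivOfEq hk).symm.trans (RingHom.quotientKerEquivOfSurjective hf)).symm⟩

section mixed

variable {A : Type u} [CommRing A] [IsLocalRing A]

/-- Removing a redundant generator. -/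
theorem generators_minimal_step (π : A) {r : ℕ} (x : Fin (r + 1) → A)
    (hgen : maximalIdeal A = Ideal.span {π} ⊔ Ideal.span (Set.range x))
    (a₀ : A) (a : Fin (r + 1) → A) (hrel : a₀ * π + ∑ i, a i * x i = 0) (j : Fin (r + 1))
    (hj : IsUnit (a j)) :
    maximalIdeal A = Ideal.span {π} ⊔ Ideal.span (Set.range (x ∘ j.succAbove)) := by
  apply le_antisymm
  · rw [hgen]
    refine sup_le le_sup_left ?_
    rw [Ideal.span_le]
    rintro _ ⟨i, rfl⟩
    by_cases hij : i = j
    · subst hij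
      rw [Fin.sum_univ_succAbove _ i] at hrel
      have h1 : a i * x i = -(a₀ * π + ∑ i', a (i.succAbove i') * x (i.succAbove i')) := by
        linear_combination hrel
      obtain ⟨u, hu⟩ := hj
      have h2 : x i = ↑u⁻¹ * (a i * x i) := by
        rw [← mul_assoc, ← hu, Units.inv_mul, one_mul]
      rw [SetLike.mem_coe, h2, h1]
      refine Ideal.mul_mem_left _ _ (neg_mem (Ideal.add_mem _ ?_ ?_))
      · exact Ideal.mem_sup_left (Ideal.mul_mem_left _ _ (Ideal.mem_span_singleton_self _))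
      · refine Ideal.sum_mem _ fun i' _ => Ideal.mem_sup_right (Ideal.mul_mem_left _ _ ?_)
        exact Ideal.subset_span ⟨i', rfl⟩
    · obtain ⟨i', rfl⟩ := Fin.exists_succAbove_eq hij
      exact Ideal.mem_sup_right (Ideal.subset_span ⟨i', rfl⟩)
  · rw [hgen]
    refine sup_le_sup_left (Ideal.span_mono ?_) _
    rintro _ ⟨i', rfl⟩
    exact ⟨j.succAbove i', rfl⟩

/-- A minimal system of generators of `𝔪` containing `π ≠ 0`, when `𝔪² = 0`. -/
theorem exists_minimal_generators [IsNoetherianRing A] (h : maximalIdeal A ^ 2 = ⊥) (π : A)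
    (hπm : π ∈ maximalIdeal A) (hπ0 : π ≠ 0) :
    ∃ (r : ℕ) (x : Fin r → A), maximalIdeal A = Ideal.span {π} ⊔ Ideal.span (Set.range x) ∧
      ∀ (a₀ : A) (a : Fin r → A), a₀ * π + ∑ i, a i * x i = 0 →
        a₀ ∈ maximalIdeal A ∧ ∀ i, a i ∈ maximalIdeal A := by
  classical
  have hex : ∃ r, ∃ x : Fin r → A,
      maximalIdeal A = Ideal.span {π} ⊔ Ideal.span (Set.range x) := by
    obtain ⟨n, x, hx⟩ := Submodule.fg_iff_exists_fin_generating_family.1
      ((isNoetherianRing_iff_ideal_fg A).1 inferInstance (maximalIdeal A))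
    refine ⟨n, x, ?_⟩
    have h2 : Ideal.span (Set.range x) = maximalIdeal A := hx
    rw [h2]
    exact (sup_eq_right.2 ((Ideal.span_singleton_le_iff_mem _).2 hπm)).symm
  obtain ⟨x, hx⟩ := Nat.find_spec hex
  refine ⟨Nat.find hex, x, hx, ?_⟩
  intro a₀ a hrel
  have hxm : ∀ i, x i ∈ maximalIdeal A := fun i => by
    rw [hx]; exact Ideal.mem_sup_right (Ideal.subset_span ⟨i, rfl⟩)
  have ha : ∀ i, a i ∈ maximalIdeal A := by
    intro j
    by_contra hj
    have hju : IsUnit (a j) := by
      by_contra h'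
      exact hj ((IsLocalRing.mem_maximalIdeal _).2 h')
    -- the index type is `Fin (r' + 1)`
    obtain ⟨r', hr'⟩ : ∃ r', Nat.find hex = r' + 1 :=
      Nat.exists_eq_succ_of_ne_zero (Nat.pos_iff_ne_zero.1 j.pos)
    have hmin : ∀ m, m < Nat.find hex → ¬ ∃ y : Fin m → A,
        maximalIdeal A = Ideal.span {π} ⊔ Ideal.span (Set.range y) := fun m hm => Nat.find_min hex hm
    revert x a j
    rw [hr']
    intro x hx a hrel hxm j hj hju
    exact hmin r' (by omega) ⟨x ∘ j.succAbove, generators_minimal_step π x hx a₀ a hrel j hju⟩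
  refine ⟨?_, ha⟩
  have hzero : ∑ i, a i * x i = 0 := by
    refine Finset.sum_eq_zero fun i _ => ?_
    have h1 : a i * x i ∈ maximalIdeal A ^ 2 := by
      rw [pow_two]; exact Ideal.mul_mem_mul (ha i) (hxm i)
    rwa [h, Ideal.mem_bot] at h1
  rw [hzero, add_zero] at hrel
  by_contra h0
  have hu : IsUnit a₀ := by
    by_contra h'
    exact h0 ((IsLocalRing.mem_maximalIdeal _).2 h')
  obtain ⟨u, hu⟩ := hu
  apply hπ0
  have : π = ↑u⁻¹ * (a₀ * π) := by rw [← mul_assoc, ← hu, Units.inv_mul, one_mul]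
  rw [this, hrel, mul_zero]

end mixed

end Groth.Agent.Lib.Helper24.SqZeroReg
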