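import Mathlib
import Groth.Agent.Lib.Helper18.TFQuot

/-!
# Morphisms into torsion-free modules vanishing on a dense open (helper24)

* `isGen_mem_of_dense`: in a Noetherian space the generic points of the irreducible components lie
  in every dense open subset.
* `hom_eq_zero_of_restrict_eq_zero`: on a reduced Noetherian scheme, a morphism into a
  quasi-coherent torsion-free module whose restriction to a dense open vanishes is zero.
-/

set_option autoImplicit false
universe u
open CategoryTheory CategoryTheory.Limits AlgebraicGeometry TopologicalSpace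

namespace Groth.Agent.Lib.Helper24.TFRestr

open Groth.Agent.S10961 Groth.Agent.Lib.Helper18.TFQuot

variable {X : Scheme.{u}}

theorem isGen_mem_of_dense [NoetherianSpace X] {η : X} (hgen : IsGen η) (U : X.Opens)
    (hU : Dense (U : Set X)) : η ∈ U := by
  obtain ⟨V, hVo, hVne, hVZ⟩ :=
    TopologicalSpace.NoetherianSpace.exists_isOpen_nonempty_subset_irreducibleComponent
      (closure ({η} : Set X)) hgen
  obtain ⟨z, hzV, hzU⟩ := hU.inter_open_nonempty V hVo hVne
  have hspec : η ⤳ z := by
    rw [specializes_iff_mem_closure]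
    exact hVZ hzV
  exact hspec.mem_open U.isOpen hzU

/-- a morphism into a quasi-coherent torsion-free module on a reduced Noetherian scheme whose
restriction to a dense open vanishes is zero -/
theorem hom_eq_zero_of_restrict_eq_zero [IsReduced X] [NoetherianSpace X]
    {A G : X.Modules} [G.IsQuasicoherent] (hG : TorSh.IsTorsionFree G) (φ : A ⟶ G)
    (U : X.Opens) (hU : Dense (U : Set X))
    (h : (Scheme.Modules.restrictFunctor U.ι).map φ = 0) : φ = 0 := by
  have hfin : (irreducibleComponents (X : Type u)).Finite :=
    TopologicalSpace.NoetherianSpace.finite_irreducibleComponents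
  apply hom_eq_zero_of_stalk_gen hfin hG
  intro η hgen
  have hηU : η ∈ U := isGen_mem_of_dense hgen U hU
  ext m
  obtain ⟨V, hηV, s, rfl⟩ := TopCat.Presheaf.exists_germ_eq A.presheaf m
  -- shrink to an open inside `U`
  set W : (U : Scheme.{u}).Opens := U.ι ⁻¹ᵁ V with hW
  have hηW : η ∈ U.ι ''ᵁ W := by
    rw [hW, Scheme.Hom.image_preimage_eq_opensRange_inf]
    exact ⟨by simpa using hηU, hηV⟩
  have hWV : U.ι ''ᵁ W ≤ V := by
    rw [hW, Scheme.Hom.image_preimage_eq_opensRange_inf]
    exact inf_le_right
  have e1 : (A.presheaf.germ V η hηV).hom s =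
      (A.presheaf.germ (U.ι ''ᵁ W) η hηW).hom ((A.presheaf.map (homOfLE hWV).op).hom s) :=
    (TopCat.Presheaf.germ_res_apply A.presheaf (homOfLE hWV) η hηW s).symm
  have h0 : (φ.app (U.ι ''ᵁ W)) = 0 := by
    have := congrArg (fun f => Scheme.Modules.Hom.app f W) h
    exact this
  have h1 := DerSch.stalkFunctor_map_germ η φ (U.ι ''ᵁ W) hηW
    ((A.presheaf.map (homOfLE hWV).op).hom s)
  rw [h0] at h1
  change (ModuleCat.Hom.hom ((DerSch.stalkFunctor X η).map φ))
    ((A.presheaf.germ V η hηV).hom s) = 0
  rw [e1]
  refine h1.trans ?_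
  exact map_zero _

end Groth.Agent.Lib.Helper24.TFRestr
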