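import Groth.Agent.S2069

/-!
# Associated primes of `N ⊗_R M` for `N` flat over `R` (helper24), ring level

Repackaging of S2069 (`Ass_S (N ⊗_R M) = ⋃_{p ∈ Ass_R M} Ass_S (N / pN)`):

* `comap_eq_of_mem_ass_quot`: `q ∈ Ass_S (N / pN)` ⟹ `q ∩ R = p`;
* `mem_ass_tensor_iff`: `q ∈ Ass_S (N ⊗_R M) ↔ q ∩ R ∈ Ass_R M ∧ q ∈ Ass_S (N / (q ∩ R) N)`;
* `mem_ass_tensor_of_mem`: `p ∈ Ass_R M`, `q ∈ Ass_S (N / pN)` ⟹ `q ∈ Ass_S (N ⊗_R M)`;
* `exists_ass_quot`: for local `R → S`, `N ≠ 0` finite over Noetherian `S`: `Ass_S (N / pN) ≠ ∅`.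
-/

set_option autoImplicit false
universe u

namespace Groth.Agent.Lib.Helper24.TensFlat

open IsLocalRing TensorProduct

section alg

variable {R S N : Type u} [CommRing R] [CommRing S] [Algebra R S] [AddCommGroup N] [Module S N]
  [Module R N] [IsScalarTower R S N]

theorem comap_eq_of_mem_ass_quot [Module.Flat R N] (p : Ideal R) [p.IsPrime] (q : Ideal S)
    (hq : q ∈ associatedPrimes S (N ⧸ p.map (algebraMap R S) • (⊤ : Submodule S N))) :
    q.comap (algebraMap R S) = p := by
  apply Groth.Agent.S2069.comap_eq_of_mem (N := N) p q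
  rw [LinearEquiv.AssociatedPrimes.eq (Groth.Agent.S2069.quotEquiv (S := S) (N := N) p)]
  exact hq

theorem mem_ass_tensor_of_mem [IsNoetherianRing R] [Module.Flat R N] (M : Type u) [AddCommGroup M]
    [Module R M] (p : Ideal R) (hp : p ∈ associatedPrimes R M) (q : Ideal S)
    (hq : q ∈ associatedPrimes S (N ⧸ p.map (algebraMap R S) • (⊤ : Submodule S N))) :
    q ∈ associatedPrimes S (N ⊗[R] M) := by
  rw [Groth.Agent.S2069.result (R := R) (S := S) (M := M) (N := N)]
  simp only [Set.mem_iUnion, exists_prop]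
  exact ⟨p, hp, hq⟩

theorem mem_ass_tensor_iff [IsNoetherianRing R] [Module.Flat R N] (M : Type u) [AddCommGroup M]
    [Module R M] (q : Ideal S) :
    q ∈ associatedPrimes S (N ⊗[R] M) ↔
      q.comap (algebraMap R S) ∈ associatedPrimes R M ∧
      q ∈ associatedPrimes S
        (N ⧸ (q.comap (algebraMap R S)).map (algebraMap R S) • (⊤ : Submodule S N)) := by
  constructor
  · intro h
    rw [Groth.Agent.S2069.result (R := R) (S := S) (M := M) (N := N)] at h
    simp only [Set.mem_iUnion, exists_prop] at h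
    obtain ⟨p, hp, hq⟩ := h
    haveI := hp.isPrime
    obtain rfl := comap_eq_of_mem_ass_quot p q hq
    exact ⟨hp, hq⟩
  · rintro ⟨h1, h2⟩
    exact mem_ass_tensor_of_mem M _ h1 q h2

omit [Module R N] [IsScalarTower R S N] in
/-- the quotient `N / pN` is nonzero when `N` is a nonzero finite module over the local ring `S`
and `p` is a proper ideal of the local ring `R` (for a local homomorphism `R → S`). -/
theorem nontrivial_quot_map_smul_top [IsLocalRing R] [IsLocalRing S] [IsLocalHom (algebraMap R S)]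
    [Module.Finite S N] [Nontrivial N] (p : Ideal R) (hp : p ≠ ⊤) :
    Nontrivial (N ⧸ p.map (algebraMap R S) • (⊤ : Submodule S N)) := by
  rw [Submodule.Quotient.nontrivial_iff]
  intro h
  have hle : p.map (algebraMap R S) ≤ maximalIdeal S := by
    rw [Ideal.map_le_iff_le_comap]
    intro r hr
    rw [Ideal.mem_comap, mem_maximalIdeal, mem_nonunits_iff]
    intro hu
    have := isUnit_of_map_unit (algebraMap R S) r hu
    exact hp (Ideal.eq_top_of_isUnit_mem _ hr this)
  have h2 : (⊤ : Submodule S N) ≤ p.map (algebraMap R S) • (⊤ : Submodule S N) := h.ge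
  have h3 := Submodule.eq_bot_of_le_smul_of_le_jacobson_bot (p.map (algebraMap R S)) ⊤
    Module.Finite.fg_top h2 (hle.trans (IsLocalRing.maximalIdeal_le_jacobson _))
  exact top_ne_bot h3

omit [Module R N] [IsScalarTower R S N] in
theorem exists_ass_quot [IsLocalRing R] [IsLocalRing S] [IsLocalHom (algebraMap R S)]
    [IsNoetherianRing S] [Module.Finite S N] [Nontrivial N] (p : Ideal R) (hp : p ≠ ⊤) :
    ∃ q : Ideal S,
      q ∈ associatedPrimes S (N ⧸ p.map (algebraMap R S) • (⊤ : Submodule S N)) := by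
  haveI := nontrivial_quot_map_smul_top (S := S) (N := N) p hp
  exact (associatedPrimes.nonempty S _)

end alg

end Groth.Agent.Lib.Helper24.TensFlat
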