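import Mathlib
import Groth.Agent.Lib.Helper11.QuasiReg

/-! Truncated polynomial structure of `A/J^N` for a quasi-regular `J` with a section of `A/J^N → A/J`
(helper24). -/

set_option autoImplicit false

namespace Groth.Agent.Lib.helper24.TruncPoly1

open MvPolynomial Groth.Agent.Lib.helper11.QuasiReg

/-- Nakayama for nilpotent ideals (no finiteness). -/
lemma top_le_sup_pow_smul {P M : Type*} [CommRing P] [AddCommGroup M] [Module P M]
    (T : Ideal P) (N' : Submodule P M) (h : ⊤ ≤ N' ⊔ T • (⊤ : Submodule P M)) :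
    ∀ k : ℕ, ⊤ ≤ N' ⊔ (T ^ k) • (⊤ : Submodule P M) := by
  intro k
  induction k with
  | zero => simp
  | succ k ih =>
    calc ⊤ ≤ N' ⊔ T • (⊤ : Submodule P M) := h
      _ ≤ N' ⊔ T • (N' ⊔ (T ^ k) • (⊤ : Submodule P M)) :=
          sup_le_sup_left (Submodule.smul_mono le_rfl ih) _
      _ = N' ⊔ (T • N' ⊔ T • (T ^ k) • (⊤ : Submodule P M)) := by rw [Submodule.smul_sup]
      _ ≤ N' ⊔ (T ^ (k + 1)) • (⊤ : Submodule P M) := by
          rw [← Submodule.mul_smul, ← pow_succ']
          exact sup_le le_sup_left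
            (sup_le (le_sup_of_le_left Submodule.smul_le_right) le_sup_right)

/-- homogeneous lifts along a surjection of coefficient rings -/
lemma exists_homogeneous_lift {ι A B₀ : Type*} [CommRing A] [CommRing B₀] (q : A →+* B₀)
    (hq : Function.Surjective q) (k : ℕ) (p : MvPolynomial ι B₀) (hp : p.IsHomogeneous k) :
    ∃ F : MvPolynomial ι A, F.IsHomogeneous k ∧ map q F = p := by
  classical
  obtain ⟨F, hF⟩ := map_surjective q hq p
  refine ⟨homogeneousComponent k F, homogeneousComponent_isHomogeneous k F, ?_⟩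
  ext m
  rw [coeff_map, coeff_homogeneousComponent]
  split_ifs with h
  · rw [← coeff_map, hF]
  · rw [map_zero]
    by_contra hne
    apply h
    rw [Finsupp.degree_eq_weight_one]
    exact hp (Ne.symm hne)

section main

variable {A B₀ E : Type*} [CommRing A] [CommRing B₀] [CommRing E] {d : ℕ} (x : Fin d → A) (N : ℕ)
  (q : A →+* B₀) (π : A →+* E) (g : E →+* B₀) (σ : B₀ →+* E)

/-- the comparison map `B₀[T] → C` -/
noncomputable def Psi : MvPolynomial (Fin d) B₀ →+* E :=
  eval₂Hom σ (fun i => π (x i))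

lemma Psi_C (b : B₀) : Psi x π σ (C b) = σ b := by
  simp [Psi]

lemma Psi_X (i : Fin d) : Psi x π σ (X i) = π (x i) := by
  simp [Psi]

lemma map_span_eq : (Ideal.span (Set.range x)).map π = Ideal.span (Set.range fun i => π (x i)) := by
  rw [Ideal.map_span, ← Set.range_comp]
  rfl

lemma map_Psi_idealOfVars :
    (idealOfVars (Fin d) B₀).map (Psi x π σ) = (Ideal.span (Set.range x)).map π := by
  rw [map_span_eq, Ideal.map_span, ← Set.range_comp]
  congr 2
  ext i
  simp [Psi_X]

variable {x N q π g σ}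

lemma map_pow_eq_bot (hπk : RingHom.ker π = Ideal.span (Set.range x) ^ N) :
    ((Ideal.span (Set.range x)).map π) ^ N = ⊥ := by
  rw [← Ideal.map_pow, ← hπk, Ideal.map_eq_bot_iff_le_ker]

lemma ker_le (hq : RingHom.ker q = Ideal.span (Set.range x)) (hπ : Function.Surjective π)
    (hg : ∀ a, g (π a) = q a) : RingHom.ker g ≤ (Ideal.span (Set.range x)).map π := by
  intro c hc
  obtain ⟨a, rfl⟩ := hπ c
  rw [RingHom.mem_ker, hg] at hc
  apply Ideal.mem_map_of_mem
  rw [← hq]
  exact hc

lemma sub_mem (hq : RingHom.ker q = Ideal.span (Set.range x)) (hπ : Function.Surjective π)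
    (hg : ∀ a, g (π a) = q a) (hσ : ∀ b, g (σ b) = b) (c : E) :
    c - σ (g c) ∈ (Ideal.span (Set.range x)).map π := by
  apply ker_le hq hπ hg
  rw [RingHom.mem_ker, map_sub, hσ, sub_self]

theorem Psi_surjective (hq : RingHom.ker q = Ideal.span (Set.range x))
    (hπ : Function.Surjective π) (hπk : RingHom.ker π = Ideal.span (Set.range x) ^ N)
    (hg : ∀ a, g (π a) = q a) (hσ : ∀ b, g (σ b) = b) :
    Function.Surjective (Psi x π σ) := by
  letI : Algebra (MvPolynomial (Fin d) B₀) E := (Psi x π σ).toAlgebra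
  have hmap : ∀ I : Ideal (MvPolynomial (Fin d) B₀), ∀ c : E,
      c ∈ I • (⊤ : Submodule (MvPolynomial (Fin d) B₀) E) ↔ c ∈ I.map (Psi x π σ) := by
    intro I c
    rw [Ideal.smul_top_eq_map]
    rfl
  have h1 : ⊤ ≤ LinearMap.range (Algebra.linearMap (MvPolynomial (Fin d) B₀) E) ⊔
      (idealOfVars (Fin d) B₀) • (⊤ : Submodule (MvPolynomial (Fin d) B₀) E) := by
    intro c _
    have hc : c = (Algebra.linearMap (MvPolynomial (Fin d) B₀) E) (C (g c)) + (c - σ (g c)) := by
      rw [Algebra.linearMap_apply]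
      change c = Psi x π σ (C (g c)) + _
      rw [Psi_C]
      ring
    rw [hc]
    apply Submodule.add_mem_sup (LinearMap.mem_range_self _ _)
    rw [hmap, map_Psi_idealOfVars]
    exact sub_mem hq hπ hg hσ c
  have h2 := top_le_sup_pow_smul _ _ h1 N
  intro c
  have h3 := h2 (Submodule.mem_top : c ∈ ⊤)
  obtain ⟨y, hy, z, hz, rfl⟩ := Submodule.mem_sup.1 h3
  rw [hmap, Ideal.map_pow, map_Psi_idealOfVars, map_pow_eq_bot hπk, Ideal.mem_bot] at hz
  obtain ⟨p, rfl⟩ := hy
  refine ⟨p, ?_⟩
  rw [hz, add_zero]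
  rfl

/-- the two evaluations of a homogeneous form of degree `k` agree modulo `J^(k+1)` -/
lemma diff_mem (hq : RingHom.ker q = Ideal.span (Set.range x)) (hπ : Function.Surjective π)
    (hg : ∀ a, g (π a) = q a) (hσ : ∀ b, g (σ b) = b) (k : ℕ)
    (F : MvPolynomial (Fin d) A) (hF : F.IsHomogeneous k) :
    π (eval x F) - Psi x π σ (map q F) ∈ ((Ideal.span (Set.range x)).map π) ^ (k + 1) := by
  have e1 : π (eval x F) = eval₂Hom π (fun i => π (x i)) F := by
    change π (eval₂ (RingHom.id A) x F) = eval₂ π (fun i => π (x i)) F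
    rw [eval₂_comp_left]
    rfl
  have e2 : Psi x π σ (map q F) = eval₂Hom (σ.comp q) (fun i => π (x i)) F := by
    change eval₂ σ (fun i => π (x i)) (map q F) = eval₂ (σ.comp q) (fun i => π (x i)) F
    rw [eval₂_map]
  rw [e1, e2]
  have h := F.as_sum
  have e3 : eval₂Hom π (fun i => π (x i)) F - eval₂Hom (σ.comp q) (fun i => π (x i)) F =
      ∑ v ∈ F.support, (π (coeff v F) - σ (q (coeff v F))) *
        v.prod fun i e => (π (x i)) ^ e := by
    conv_lhs => rw [h]
    simp only [map_sum, eval₂Hom_monomial, ← Finset.sum_sub_distrib, sub_mul, RingHom.comp_apply]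
  rw [e3, pow_succ']
  refine Ideal.sum_mem _ fun v hv => ?_
  apply Ideal.mul_mem_mul
  · apply ker_le hq hπ hg
    rw [RingHom.mem_ker, map_sub, hg, hσ, sub_self]
  · rw [map_span_eq, Ideal.mem_span_pow_iff_exists_isHomogeneous]
    refine ⟨monomial v 1, ?_, ?_⟩
    · apply isHomogeneous_monomial
      rw [Finsupp.degree_eq_weight_one]
      exact hF (mem_support_iff.1 hv)
    · simp [eval_monomial]

theorem ker_Psi_le (hq : RingHom.ker q = Ideal.span (Set.range x))
    (hqs : Function.Surjective q)
    (hπ : Function.Surjective π) (hπk : RingHom.ker π = Ideal.span (Set.range x) ^ N)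
    (hg : ∀ a, g (π a) = q a) (hσ : ∀ b, g (σ b) = b) (hQR : QR x) :
    RingHom.ker (Psi x π σ) ≤ idealOfVars (Fin d) B₀ ^ N := by
  classical
  intro p hp
  have key : ∀ k, k ≤ N → p ∈ idealOfVars (Fin d) B₀ ^ k := by
    intro k
    induction k with
    | zero => intro _; simp
    | succ k ih =>
      intro hk
      have hpk := ih (by omega)
      set pk := homogeneousComponent k p with hpk_def
      have hrest : p - pk ∈ idealOfVars (Fin d) B₀ ^ (k + 1) := by
        rw [mem_pow_idealOfVars_iff']
        intro m hm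
        rw [coeff_sub, hpk_def, coeff_homogeneousComponent]
        split_ifs with h
        · rw [sub_self]
        · rw [sub_zero]
          apply (mem_pow_idealOfVars_iff' k p).1 hpk
          omega
      have hΨ : Psi x π σ pk ∈ ((Ideal.span (Set.range x)).map π) ^ (k + 1) := by
        have h1 : Psi x π σ pk = - Psi x π σ (p - pk) := by
          rw [map_sub, (RingHom.mem_ker).1 hp]; ring
        rw [h1, ← map_Psi_idealOfVars (σ := σ), ← Ideal.map_pow]
        exact (Ideal.neg_mem_iff _).2 (Ideal.mem_map_of_mem _ hrest)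
      obtain ⟨F, hF, hFp⟩ := exists_homogeneous_lift q hqs k pk
        (homogeneousComponent_isHomogeneous k p)
      have hd := diff_mem hq hπ hg hσ k F hF
      rw [hFp] at hd
      have h2 : π (eval x F) ∈ ((Ideal.span (Set.range x)).map π) ^ (k + 1) := by
        have := Ideal.add_mem _ hd hΨ
        rwa [sub_add_cancel] at this
      rw [← Ideal.map_pow, Ideal.mem_map_iff_of_surjective π hπ] at h2
      obtain ⟨y, hy, hy'⟩ := h2
      have h3 : eval x F ∈ Ideal.span (Set.range x) ^ (k + 1) := by
        have h4 : eval x F - y ∈ Ideal.span (Set.range x) ^ (k + 1) := by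
          apply Ideal.pow_le_pow_right hk
          rw [← hπk, RingHom.mem_ker, map_sub, hy', sub_self]
        have := Ideal.add_mem _ h4 hy
        rwa [sub_add_cancel] at this
      have h5 := hQR k F hF h3
      have h6 : pk = 0 := by
        rw [← hFp]
        ext m
        rw [coeff_map, coeff_zero, ← RingHom.mem_ker, hq]
        exact h5 m
      rw [h6, sub_zero] at hrest
      exact hrest
  exact key N le_rfl

theorem le_ker_Psi (hπk : RingHom.ker π = Ideal.span (Set.range x) ^ N) :
    idealOfVars (Fin d) B₀ ^ N ≤ RingHom.ker (Psi x π σ) := by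
  rw [← Ideal.map_eq_bot_iff_le_ker, Ideal.map_pow, map_Psi_idealOfVars, map_pow_eq_bot hπk]

theorem comp_Psi (hg : ∀ a, g (π a) = q a) (hq : RingHom.ker q = Ideal.span (Set.range x))
    (hσ : ∀ b, g (σ b) = b) :
    g.comp (Psi x π σ) = constantCoeff := by
  apply MvPolynomial.ringHom_ext
  · intro b
    simp [Psi_C, hσ]
  · intro i
    simp only [RingHom.comp_apply, Psi_X, hg, constantCoeff_X]
    rw [← RingHom.mem_ker, hq]
    exact Ideal.subset_span ⟨i, rfl⟩

/-- `p - C (constantCoeff p)` lies in the ideal of variables -/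
lemma sub_C_constantCoeff_mem {ι R : Type*} [CommRing R] (p : MvPolynomial ι R) :
    p - C (constantCoeff p) ∈ idealOfVars ι R := by
  classical
  have : p - C (constantCoeff p) ∈ idealOfVars ι R ^ 1 := by
    rw [mem_pow_idealOfVars_iff']
    intro m hm
    have hm0 : m = 0 := by
      have : m.degree = 0 := by omega
      exact (Finsupp.degree_eq_zero_iff m).1 this
    subst hm0
    simp [constantCoeff_eq]
  simpa using this

end main

end Groth.Agent.Lib.helper24.TruncPoly1
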