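import Groth.Agent.Lib.Helper24.WeakAssBC
import Groth.Agent.Lib.Helper24.HensStage
import Groth.Agent.Lib.Helper24.HensRegular

/-!
Weakly associated primes and (strict) henselization (helper24).
-/

set_option autoImplicit false
set_option linter.unusedSectionVars false

noncomputable section

namespace Groth.Agent.Lib.Helper24.WeakAssHens

open IsLocalRing TensorProduct Groth.Agent.Lib.Helper24.WeakAssBC

universe u

section Hens

open Groth.Agent.Lib.helper24.Henselization Groth.Agent.Lib.helper24.Henselization.Idx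
  Groth.Agent.Lib.Helper24.HensStage

variable {A : Type u} [CommRing A] [IsLocalRing A] (N : Type u) [AddCommGroup N] [Module A N]

attribute [local irreducible] instCommRingHens Idx.instCommRingG Idx.instCommRingC

/-- The stage maps as algebra homomorphisms. -/
def lamH (k : Idx A) : k.G →ₐ[A] Hens A :=
  { ofH k with commutes' := fun a => (algebraMap_eq k a).symm }

theorem lamH_apply (k : Idx A) (z : k.G) : lamH k z = ofH k z := rfl

theorem lamH_comp_tr (i k : Idx A) (h : i ≤ k) :
    (lamH k).toLinearMap ∘ₗ (tr i k h).toLinearMap = (lamH i).toLinearMap := by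
  ext z
  show ofH k (tr i k h z) = ofH i z
  exact ofH_tr i k h z

theorem exists_stage_tensor (y : Hens A ⊗[A] N) :
    ∃ (k : Idx A) (yk : k.G ⊗[A] N), LinearMap.rTensor N (lamH k).toLinearMap yk = y := by
  induction y using TensorProduct.induction_on with
  | zero => exact ⟨Classical.arbitrary _, 0, map_zero _⟩
  | tmul h x =>
    obtain ⟨i, z, rfl⟩ := exists_ofH h
    exact ⟨i, z ⊗ₜ x, rfl⟩
  | add y y' hy hy' =>
    obtain ⟨i, yi, rfl⟩ := hy
    obtain ⟨j, yj, rfl⟩ := hy'
    obtain ⟨k, hik, hjk⟩ := exists_ge_ge i j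
    refine ⟨k, LinearMap.rTensor N (tr i k hik).toLinearMap yi +
      LinearMap.rTensor N (tr j k hjk).toLinearMap yj, ?_⟩
    rw [map_add, ← LinearMap.comp_apply, ← LinearMap.comp_apply, ← LinearMap.rTensor_comp,
      ← LinearMap.rTensor_comp, lamH_comp_tr, lamH_comp_tr]

theorem lamH_injective (k : Idx A) :
    Function.Injective (LinearMap.rTensor N (lamH k).toLinearMap) := by
  letI := stageAlgebraH k
  haveI : IsScalarTower A k.G (Hens A) := IsScalarTower.of_algebraMap_eq (fun a => algebraMap_eq k a)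
  haveI := faithfullyFlat_stageH k
  exact rTensor_injective_of_faithfullyFlat (R := A) N (G := k.G) (H := Hens A)

theorem comap_q (k : Idx A) : k.q.comap (algebraMap A k.C) = maximalIdeal A := by
  ext a
  rw [Ideal.mem_comap, mem_q, AlgHom.commutes]
  exact residue_eq_zero_iff a

theorem W_of_W_Hens (h : W (Hens A) (maximalIdeal (Hens A)) (Hens A ⊗[A] N)) :
    W A (maximalIdeal A) N := by
  obtain ⟨y, hy0, hy⟩ := (W_local_iff _).1 h
  obtain ⟨k, yk, rfl⟩ := exists_stage_tensor N y
  have hG : W k.G (maximalIdeal k.G) (k.G ⊗[A] N) :=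
    W_stage_of_W N (lamH k) (fun b hb => (ofH_mem_maximalIdeal_iff k b).2 hb) (lamH_injective N k)
      yk hy0 hy
  rw [W_tensor_localization_iff N k.q.primeCompl (maximalIdeal k.G)] at hG
  have hq : (maximalIdeal k.G).comap (algebraMap k.C k.G) = k.q :=
    IsLocalization.AtPrime.under_maximalIdeal k.G k.q
  rw [hq] at hG
  exact W_of_W_tensor_of_etale N (maximalIdeal A) k.q (comap_q k) hG

end Hens

section General

open Groth.Agent.Lib.helper24.Henselization

theorem mem_maximalIdeal_equiv_iff {S S' : Type*} [CommRing S] [CommRing S'] [IsLocalRing S]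
    [IsLocalRing S'] (e : S ≃+* S') (z : S) : e z ∈ maximalIdeal S' ↔ z ∈ maximalIdeal S := by
  rw [mem_maximalIdeal, mem_maximalIdeal, mem_nonunits_iff, mem_nonunits_iff]
  exact not_congr (isUnit_map_iff e z)

theorem W_iff_of_isHenselization (R Rh : Type u) [CommRing R] [IsLocalRing R] [CommRing Rh]
    [IsLocalRing Rh] [Algebra R Rh] [IsLocalHom (algebraMap R Rh)] [Hensel.IsHenselization R Rh]
    (N : Type u) [AddCommGroup N] [Module R N] :
    W R (maximalIdeal R) N ↔ W Rh (maximalIdeal Rh) (Rh ⊗[R] N) := by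
  constructor
  · intro h
    haveI : Module.Flat R Rh := (faithfullyFlat_of_isHenselization R Rh).toFlat
    refine W_baseChange_of_flat N (maximalIdeal R) (maximalIdeal Rh)
      (IsLocalRing.maximalIdeal_comap _) ?_ h
    intro b hb
    refine ⟨1, ?_, 1, ?_⟩
    · intro h1
      exact (maximalIdeal.isMaximal Rh).ne_top ((Ideal.eq_top_iff_one _).2 h1)
    · rw [one_mul, pow_one,
        Groth.Agent.Lib.Helper24.HensRegular.map_maximalIdeal_of_isHenselization R Rh]
      exact hb
  · intro h
    obtain ⟨e⟩ := exists_algEquiv R (Hens R) Rh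
    have h' := W_tensor_of_algEquiv N e.symm (maximalIdeal Rh) h
    have hc : (maximalIdeal Rh).comap
        ((e.symm.symm : Hens R ≃ₐ[R] Rh) : Hens R →+* Rh) = maximalIdeal (Hens R) := by
      ext z
      rw [Ideal.mem_comap]
      exact mem_maximalIdeal_equiv_iff e.toRingEquiv z
    rw [hc] at h'
    exact W_of_W_Hens N h'

end General

section Strict

open Groth.Agent.Lib.Helper24.StrictHens Groth.Agent.Lib.Helper24.StrictHens.SIdx
  Groth.Agent.Lib.Helper24.HensStage

variable {A : Type u} [CommRing A] [IsLocalRing A] {Ω : Type u} [Field Ω] [Algebra A Ω]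
  [Algebra (ResidueField A) Ω] [IsScalarTower A (ResidueField A) Ω]
  (N : Type u) [AddCommGroup N] [Module A N]

attribute [local irreducible] instCommRingSHens SIdx.instCommRingG SIdx.instCommRingC

/-- The stage maps as algebra homomorphisms. -/
def lamS (k : SIdx A Ω) : k.G →ₐ[A] SHens A Ω :=
  { ofS k with commutes' := fun a => (algebraMap_eq k a).symm }

theorem lamS_comp_tr (i k : SIdx A Ω) (h : i ≤ k) :
    (lamS k).toLinearMap ∘ₗ (tr i k h).toLinearMap = (lamS i).toLinearMap := by
  ext z
  show ofS k (tr i k h z) = ofS i z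
  exact ofS_tr i k h z

theorem exists_stage_tensorS (y : SHens A Ω ⊗[A] N) :
    ∃ (k : SIdx A Ω) (yk : k.G ⊗[A] N), LinearMap.rTensor N (lamS k).toLinearMap yk = y := by
  induction y using TensorProduct.induction_on with
  | zero => exact ⟨Classical.arbitrary _, 0, map_zero _⟩
  | tmul h x =>
    obtain ⟨i, z, rfl⟩ := exists_ofS h
    exact ⟨i, z ⊗ₜ x, rfl⟩
  | add y y' hy hy' =>
    obtain ⟨i, yi, rfl⟩ := hy
    obtain ⟨j, yj, rfl⟩ := hy'
    obtain ⟨k, hik, hjk⟩ := exists_ge_ge i j
    refine ⟨k, LinearMap.rTensor N (tr i k hik).toLinearMap yi +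
      LinearMap.rTensor N (tr j k hjk).toLinearMap yj, ?_⟩
    rw [map_add, ← LinearMap.comp_apply, ← LinearMap.comp_apply, ← LinearMap.rTensor_comp,
      ← LinearMap.rTensor_comp, lamS_comp_tr, lamS_comp_tr]

theorem lamS_injective [IsSepClosure (ResidueField A) Ω] (k : SIdx A Ω) :
    Function.Injective (LinearMap.rTensor N (lamS k).toLinearMap) := by
  letI := stageAlgebra k
  haveI : IsScalarTower A k.G (SHens A Ω) :=
    IsScalarTower.of_algebraMap_eq (fun a => algebraMap_eq k a)
  haveI := faithfullyFlat_stage k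
  exact rTensor_injective_of_faithfullyFlat (R := A) N (G := k.G) (H := SHens A Ω)

theorem comap_qS (k : SIdx A Ω) : k.q.comap (algebraMap A k.C) = maximalIdeal A := by
  ext a
  rw [Ideal.mem_comap, mem_q, AlgHom.commutes]
  exact algebraMap_Ω_eq_zero_iff a

theorem W_of_W_SHens [IsSepClosure (ResidueField A) Ω]
    (h : W (SHens A Ω) (maximalIdeal (SHens A Ω)) (SHens A Ω ⊗[A] N)) :
    W A (maximalIdeal A) N := by
  obtain ⟨y, hy0, hy⟩ := (W_local_iff _).1 h
  obtain ⟨k, yk, rfl⟩ := exists_stage_tensorS N y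
  have hG : W k.G (maximalIdeal k.G) (k.G ⊗[A] N) :=
    W_stage_of_W N (lamS k) (fun b hb => (ofS_mem_maximalIdeal_iff k b).2 hb) (lamS_injective N k)
      yk hy0 hy
  rw [W_tensor_localization_iff N k.q.primeCompl (maximalIdeal k.G)] at hG
  have hq : (maximalIdeal k.G).comap (algebraMap k.C k.G) = k.q :=
    IsLocalization.AtPrime.under_maximalIdeal k.G k.q
  rw [hq] at hG
  exact W_of_W_tensor_of_etale N (maximalIdeal A) k.q (comap_qS k) hG

end Strict

section GeneralStrict

open Groth.Agent.Lib.Helper24.StrictHens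

theorem W_iff_of_isStrictHenselization (R Rsh : Type u) [CommRing R] [IsLocalRing R] [CommRing Rsh]
    [IsLocalRing Rsh] [Algebra R Rsh] [IsLocalHom (algebraMap R Rsh)]
    [Hensel.IsStrictHenselization R Rsh] (N : Type u) [AddCommGroup N] [Module R N] :
    W R (maximalIdeal R) N ↔ W Rsh (maximalIdeal Rsh) (Rsh ⊗[R] N) := by
  constructor
  · intro h
    haveI : Module.Flat R Rsh := (faithfullyFlat_of_isStrictHenselization R Rsh).toFlat
    refine W_baseChange_of_flat N (maximalIdeal R) (maximalIdeal Rsh)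
      (IsLocalRing.maximalIdeal_comap _) ?_ h
    intro b hb
    refine ⟨1, ?_, 1, ?_⟩
    · intro h1
      exact (maximalIdeal.isMaximal Rsh).ne_top ((Ideal.eq_top_iff_one _).2 h1)
    · rw [one_mul, pow_one, map_maximalIdeal_of_isStrictHenselization R Rsh]
      exact hb
  · intro h
    obtain ⟨e⟩ := exists_algEquiv_SH R Rsh
    have h' := W_tensor_of_algEquiv N e.symm (maximalIdeal Rsh) h
    have hc : (maximalIdeal Rsh).comap
        ((e.symm.symm : SH R ≃ₐ[R] Rsh) : SH R →+* Rsh) = maximalIdeal (SH R) := by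
      ext z
      rw [Ideal.mem_comap]
      exact mem_maximalIdeal_equiv_iff e.toRingEquiv z
    rw [hc] at h'
    exact W_of_W_SHens N h'

end GeneralStrict

end Groth.Agent.Lib.Helper24.WeakAssHens

end
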