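import Groth.Agent.Lib.Helper24.IsocDL

/-!
Dieudonné–Lang for an abstract finite free `W(k)`-module: fixed basis (helper24).
-/

set_option autoImplicit false
set_option linter.unusedSectionVars false

noncomputable section

universe u v

namespace Groth.Agent.Lib.helper24.IsocLib

open IsLocalRing Groth.Agent.Lib.helper24.SigmaLinLib Groth.Agent.Lib.helper24.WittRes

variable {p : ℕ} [Fact p.Prime] {k : Type u} [Field k] [CharP k p] [PerfectRing k p]
variable {M : Type v} [AddCommGroup M] [Module (WittVector p k) M]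

section Complete

theorem free_complete {n : ℕ} (b : Module.Basis (Fin n) (WittVector p k) M) (x : ℕ → M)
    (hc : ∀ j : ℕ, ∃ m : M, x (j + 1) - x j = ((p : WittVector p k) ^ j) • m) :
    ∃ y : M, ∀ j : ℕ, ∃ m : M, y - x j = ((p : WittVector p k) ^ j) • m := by
  have hdiv : ∀ i j, (p : WittVector p k) ^ j ∣ b.repr (x (j + 1)) i - b.repr (x j) i := by
    intro i j
    obtain ⟨m, hm⟩ := hc j
    have h2 := congrArg (fun z => b.repr z i) hm
    simp only [map_sub, map_smul, Finsupp.coe_sub, Pi.sub_apply, Finsupp.coe_smul, Pi.smul_apply,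
      smul_eq_mul] at h2
    exact ⟨_, h2⟩
  have hlim : ∀ i, ∃ L : WittVector p k, ∀ j, (p : WittVector p k) ^ j ∣ L - b.repr (x j) i :=
    fun i => W_complete (fun j => b.repr (x j) i) (hdiv i)
  choose L hL using hlim
  choose q hq using hL
  refine ⟨∑ i, L i • b i, fun j => ⟨∑ i, q i j • b i, ?_⟩⟩
  have h1 : x j = ∑ i, b.repr (x j) i • b i := (b.sum_repr (x j)).symm
  conv_lhs => rw [h1]
  rw [Finset.smul_sum, ← Finset.sum_sub_distrib]
  apply Finset.sum_congr rfl
  intro i _
  rw [smul_smul, ← hq i j, sub_smul]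

theorem free_hausdorff {n : ℕ} (b : Module.Basis (Fin n) (WittVector p k) M) (x : M) (h : ∀ j : ℕ, ∃ m : M, x = ((p : WittVector p k) ^ j) • m) :
    x = 0 := by
  apply b.repr.injective
  apply Finsupp.ext
  intro i
  rw [map_zero, Finsupp.coe_zero, Pi.zero_apply]
  apply eq_zero_of_forall_p_pow_dvd
  intro j
  obtain ⟨m, hm⟩ := h j
  refine ⟨b.repr m i, ?_⟩
  rw [hm, map_smul, Finsupp.coe_smul, Pi.smul_apply, smul_eq_mul]

end Complete

section L1

variable {σ : WittVector p k →+* WittVector p k}
  {σbar : ResidueField (WittVector p k) →+* ResidueField (WittVector p k)}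

theorem free_sub_surjective {n : ℕ} (b : Module.Basis (Fin n) (WittVector p k) M)
    (hσbar : ∀ r : WittVector p k, σbar (residue _ r) = residue _ (σ r))
    (hsurj : Function.Surjective σbar) (h2 : H2 σbar) (h3 : H3 σbar) (T : M →ₛₗ[σ] M) :
    Function.Surjective (fun m : M => m - T m) := by
  have hMfin : Module.Finite (WittVector p k) M := Module.Finite.of_basis b
  have hstep := exists_approx (R := WittVector p k) (M := M) p (maximalIdeal_eq p k)
    hσbar hsurj h2 h3 T 1
  choose Y S hYS using hstep
  intro u₀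
  set y : ℕ → M := fun n =>
    ∑ j ∈ Finset.range n, ((p : WittVector p k) ^ j) • Y (S^[j] u₀) with hy
  have hT : ∀ (j : ℕ) (m : M), T (((p : WittVector p k) ^ j) • m) =
      ((p : WittVector p k) ^ j) • T m := by
    intro j m
    rw [map_smulₛₗ, map_pow, map_natCast]
  have hrel : ∀ n, u₀ - (y n - T (y n)) = ((p : WittVector p k) ^ n) • S^[n] u₀ := by
    intro n
    induction n with
    | zero => simp [hy]
    | succ n ih =>
      have h1 : y (n + 1) = y n + ((p : WittVector p k) ^ n) • Y (S^[n] u₀) := by
        simp only [hy, Finset.sum_range_succ]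
      have h3' := hYS (S^[n] u₀)
      rw [pow_one] at h3'
      rw [h1, map_add, hT, Function.iterate_succ_apply', pow_succ, mul_smul, ← h3', smul_sub,
        smul_sub, ← ih]
      abel
  have hc : ∀ j : ℕ, ∃ m : M, y (j + 1) - y j = ((p : WittVector p k) ^ j) • m := by
    intro j
    refine ⟨Y (S^[j] u₀), ?_⟩
    simp only [hy, Finset.sum_range_succ]
    abel
  obtain ⟨z, hz⟩ := free_complete b y hc
  refine ⟨z, ?_⟩
  have hzero : u₀ - (z - T z) = 0 := by
    apply free_hausdorff b
    intro j
    obtain ⟨m, hm⟩ := hz j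
    refine ⟨S^[j] u₀ - (m - T m), ?_⟩
    have h1 : u₀ - (z - T z) = (u₀ - (y j - T (y j))) - ((z - y j) - T (z - y j)) := by
      rw [map_sub]; abel
    rw [h1, hrel j, hm, hT, smul_sub, smul_sub]
  exact (sub_eq_zero.1 hzero).symm

end L1

section FixedBasis

theorem c0_frobenius_pow (ν : ℕ) (w : WittVector p k) :
    c0 p k (((WittVector.frobenius : WittVector p k →+* WittVector p k) ^ ν) w) =
      (c0 p k w) ^ p ^ ν := by
  induction ν generalizing w with
  | zero => simp
  | succ ν ih =>
    rw [pow_succ, RingHom.mul_def, RingHom.comp_apply, ih]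
    have h1 : c0 p k (WittVector.frobenius w) = (c0 p k w) ^ p :=
      WittVector.coeff_frobenius_charP (p := p) w 0
    rw [h1, ← pow_mul, pow_succ']

theorem frobK_pow_apply' (ν : ℕ) (x : k) : ((frobenius k p) ^ ν) x = x ^ p ^ ν := by
  rw [RingHom.coe_pow, iterate_frobenius]

variable [IsAlgClosed k]

/-- S16854. -/
theorem exists_fixed_basis_free (ν : ℕ) (hν : 1 ≤ ν)
    [Module.Finite (WittVector p k) M] [Module.Free (WittVector p k) M]
    (F : M →+ M)
    (hF : ∀ (a : WittVector p k) (m : M), F (a • m) =
      ((⇑(WittVector.frobenius : WittVector p k →+* WittVector p k))^[ν] a) • F m)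
    (hbij : Function.Bijective F) :
    ∃ (ι : Type v) (b : Module.Basis ι (WittVector p k) M), ∀ i, F (b i) = b i := by
  classical
  let T : M →ₛₗ[(WittVector.frobenius : WittVector p k →+* WittVector p k) ^ ν] M :=
    { toFun := F
      map_add' := F.map_add
      map_smul' := fun a m => by
        show F (a • m) = _
        rw [hF, RingHom.coe_pow] }
  have hTF : ∀ m, T m = F m := fun m => rfl
  have hσ' : ∀ x : k, ((frobenius k p) ^ ν) x = x ^ p ^ ν := frobK_pow_apply' ν
  have hσbar : ∀ r : WittVector p k,
      conj (resEquiv p k) ((frobenius k p) ^ ν) (residue _ r) =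
        residue _ (((WittVector.frobenius : WittVector p k →+* WittVector p k) ^ ν) r) := by
    intro r
    rw [conj_apply, resEquiv_residue, hσ', ← c0_frobenius_pow, ← resEquiv_residue,
      RingEquiv.symm_apply_apply]
  have hq : 2 ≤ p ^ ν := two_le_p_pow (by omega)
  have h2 : H2 (conj (resEquiv p k) ((frobenius k p) ^ ν)) :=
    H2_conj _ _ (H2_of_pow (p ^ ν) hq _ hσ')
  have h3 : H3 (conj (resEquiv p k) ((frobenius k p) ^ ν)) :=
    H3_conj _ _ (H3_of_pow (p ^ ν) hq _ hσ')
  have hsurj' : Function.Surjective ((frobenius k p) ^ ν) := by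
    rw [RingHom.coe_pow]
    exact (bijective_frobenius k p).2.iterate ν
  have hsurj : Function.Surjective (conj (resEquiv p k) ((frobenius k p) ^ ν)) :=
    conj_surjective _ _ hsurj'
  let b₀ := Module.finBasis (WittVector p k) M
  have hL1 := free_sub_surjective b₀ hσbar hsurj h2 h3 T
  have hTsurj : Function.Surjective T := hbij.2
  obtain ⟨x, hxfix, hxspan⟩ := exists_fixed_generators (R := WittVector p k) (M := M) p
    (maximalIdeal_eq p k) hσbar h2 h3 T hTsurj hL1
  have hle1 : Module.finrank (ResidueField (WittVector p k)) (Red (WittVector p k) M) ≤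
      Module.finrank (WittVector p k) M :=
    finrank_red_le (R := WittVector p k) (M := M) b₀ b₀.span_eq.ge
  have hle2 : Module.finrank (WittVector p k) M ≤
      Module.finrank (ResidueField (WittVector p k)) (Red (WittVector p k) M) := by
    have h4 := finrank_range_le_card (R := WittVector p k) x
    rw [Fintype.card_fin, Set.finrank, top_le_iff.1 hxspan, finrank_top] at h4
    exact h4
  have hcard : Fintype.card
      (Fin (Module.finrank (ResidueField (WittVector p k)) (Red (WittVector p k) M))) =
      Module.finrank (WittVector p k) M := by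
    rw [Fintype.card_fin]; omega
  refine ⟨ULift.{v} (Fin (Module.finrank (ResidueField (WittVector p k))
      (Red (WittVector p k) M))),
    (basisOfTopLeSpanOfCardEqFinrank x hxspan hcard).reindex Equiv.ulift.symm, ?_⟩
  intro i
  rw [Module.Basis.reindex_apply, coe_basisOfTopLeSpanOfCardEqFinrank]
  exact hxfix _

end FixedBasis

end Groth.Agent.Lib.helper24.IsocLib

end
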