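import Mathlib
import Groth.Agent.Lib.Helper24.ZarCpl
import Groth.Agent.Lib.Helper24.EtaleNormal
import Groth.Agent.S0530

/-!
# Connectedness, domains and completion (helper24)

* `eq_zero_or_one_of_preconnected`: idempotents of a ring with preconnected spectrum are trivial.
* `connectedSpace_of_le_jacobson`: if `I ≤ rad R` and `Spec (R/I)` is connected then so is `Spec R`.
* `isDomain_of_connected_of_localization`: a Noetherian ring with connected spectrum all of whose
  local rings are domains is a domain.
* `isIntegrallyClosed_of_isNormalRing`: a normal ring which is a domain is integrally closed.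
* `quotEquiv`: `Â / JÂ ≃+* A / J`.
-/

universe u

namespace Groth.Agent.Lib.Helper24.ZarCpl2

open Groth.Agent.Lib.helper26

theorem eq_zero_or_one_of_preconnected (S : Type*) [CommRing S]
    [PreconnectedSpace (PrimeSpectrum S)] {e : S} (he : IsIdempotentElem e) : e = 0 ∨ e = 1 := by
  have key : ∀ f : S, IsIdempotentElem f →
      ((PrimeSpectrum.basicOpen f : TopologicalSpace.Opens (PrimeSpectrum S)) :
        Set (PrimeSpectrum S)) = ∅ → f = 0 := by
    intro f hf h
    have h1 : PrimeSpectrum.basicOpen f = ⊥ := by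
      apply TopologicalSpace.Opens.ext
      rw [h]; rfl
    obtain ⟨n, hn⟩ := (PrimeSpectrum.basicOpen_eq_bot_iff f).1 h1
    rcases n with _ | n
    · rw [pow_zero] at hn
      have : f = f * 1 := (mul_one f).symm
      rw [this, hn, mul_zero]
    · rw [hf.pow_succ_eq] at hn
      exact hn
  have hcl : IsClopen ((PrimeSpectrum.basicOpen e : TopologicalSpace.Opens (PrimeSpectrum S)) :
      Set (PrimeSpectrum S)) := PrimeSpectrum.isClopen_iff.2 ⟨e, he, rfl⟩
  rcases isClopen_iff.1 hcl with h | h
  · exact Or.inl (key e he h)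
  · right
    have h2 : ((PrimeSpectrum.basicOpen (1 - e) : TopologicalSpace.Opens (PrimeSpectrum S)) :
        Set (PrimeSpectrum S)) = ∅ := by
      rw [← PrimeSpectrum.zeroLocus_eq_basicOpen_of_isIdempotentElem e he,
        ← compl_compl (PrimeSpectrum.zeroLocus {e}), ← PrimeSpectrum.basicOpen_eq_zeroLocus_compl e,
        h, Set.compl_univ]
    have := key (1 - e) he.one_sub h2
    exact (sub_eq_zero.1 this).symm

theorem connectedSpace_of_le_jacobson {R : Type*} [CommRing R] (I : Ideal R)
    (hI : I ≤ Ideal.jacobson ⊥) [ConnectedSpace (PrimeSpectrum (R ⧸ I))] :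
    ConnectedSpace (PrimeSpectrum R) := by
  have hnt : Nontrivial (R ⧸ I) := by
    obtain ⟨x⟩ := (inferInstance : Nonempty (PrimeSpectrum (R ⧸ I)))
    exact x.nontrivial
  have : Nontrivial R := (Ideal.Quotient.mk I).domain_nontrivial
  refine HenselPair.connectedSpace_of_idempotents R fun e he => ?_
  rcases eq_zero_or_one_of_preconnected (R ⧸ I) (he.map (Ideal.Quotient.mk I)) with h | h
  · left
    refine HenselPair.idempotent_eq_of_sub_mem hI he IsIdempotentElem.zero ?_
    rw [sub_zero]
    exact Ideal.Quotient.eq_zero_iff_mem.1 h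
  · right
    refine HenselPair.idempotent_eq_of_sub_mem hI he IsIdempotentElem.one ?_
    rw [← Ideal.Quotient.eq, h, map_one]

/-- In a ring whose localization at `x` is a domain, the only minimal prime below `x` is the
kernel of the localization map. -/
theorem eq_ker_of_mem_minimalPrimes {R : Type*} [CommRing R] (x : Ideal R) [x.IsPrime]
    [IsDomain (Localization.AtPrime x)] {p : Ideal R} (hp : p ∈ minimalPrimes R) (hpx : p ≤ x) :
    p = RingHom.ker (algebraMap R (Localization.AtPrime x)) := by
  have hκ : (RingHom.ker (algebraMap R (Localization.AtPrime x))).IsPrime :=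
    RingHom.ker_isPrime _
  have hle : RingHom.ker (algebraMap R (Localization.AtPrime x)) ≤ p := by
    intro a ha
    rw [RingHom.mem_ker, IsLocalization.map_eq_zero_iff x.primeCompl] at ha
    obtain ⟨s, hs⟩ := ha
    have hp' : p.IsPrime := hp.1.1
    have : (s : R) * a ∈ p := by rw [hs]; exact p.zero_mem
    rcases hp'.mem_or_mem this with h | h
    · exact absurd (hpx h) s.2
    · exact h
  exact le_antisymm (hp.2 ⟨hκ, bot_le⟩ hle) hle

theorem isDomain_of_connected_of_localization (R : Type*) [CommRing R] [IsNoetherianRing R]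
    [ConnectedSpace (PrimeSpectrum R)]
    (h : ∀ (p : Ideal R) [p.IsPrime], IsDomain (Localization.AtPrime p)) : IsDomain R := by
  classical
  have hnt : Nontrivial R := by
    obtain ⟨x⟩ := (inferInstance : Nonempty (PrimeSpectrum R))
    exact x.nontrivial
  have hred : IsReduced R := by
    apply isReduced_ofLocalizationMaximal
    intro m hm
    haveI := h m
    infer_instance
  obtain ⟨p, hp⟩ : (minimalPrimes R).Nonempty := by
    obtain ⟨x⟩ := (inferInstance : Nonempty (PrimeSpectrum R))
    obtain ⟨p, hp, -⟩ := Ideal.exists_minimalPrimes_le (I := ⊥) (J := x.asIdeal) bot_le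
    exact ⟨p, hp⟩
  have hpP : p.IsPrime := hp.1.1
  have hfin : (minimalPrimes R).Finite := minimalPrimes.finite_of_isNoetherianRing R
  set Z : Set (PrimeSpectrum R) := PrimeSpectrum.zeroLocus (p : Set R) with hZ
  set W : Set (PrimeSpectrum R) :=
    ⋃ q ∈ (minimalPrimes R \ {p}), PrimeSpectrum.zeroLocus (q : Set R) with hW
  have hZc : IsClosed Z := PrimeSpectrum.isClosed_zeroLocus _
  have hWc : IsClosed W := by
    apply Set.Finite.isClosed_biUnion (hfin.subset Set.sdiff_subset)
    intro q _
    exact PrimeSpectrum.isClosed_zeroLocus _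
  have hcover : Z ∪ W = Set.univ := by
    rw [Set.eq_univ_iff_forall]
    intro x
    obtain ⟨q, hq, hqx⟩ := Ideal.exists_minimalPrimes_le (I := ⊥) (J := x.asIdeal) bot_le
    by_cases hqp : q = p
    · left
      rw [hZ, PrimeSpectrum.mem_zeroLocus, ← hqp]
      exact hqx
    · right
      rw [hW]
      simp only [Set.mem_iUnion]
      exact ⟨q, ⟨hq, hqp⟩, (PrimeSpectrum.mem_zeroLocus _ _).2 hqx⟩
  have hdisj : Disjoint Z W := by
    rw [Set.disjoint_left]
    intro x hxZ hxW
    rw [hW] at hxW
    simp only [Set.mem_iUnion] at hxW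
    obtain ⟨q, ⟨hq, hqp⟩, hxq⟩ := hxW
    haveI := h x.asIdeal
    have e1 := eq_ker_of_mem_minimalPrimes x.asIdeal hp ((PrimeSpectrum.mem_zeroLocus _ _).1 hxZ)
    have e2 := eq_ker_of_mem_minimalPrimes x.asIdeal hq ((PrimeSpectrum.mem_zeroLocus _ _).1 hxq)
    exact hqp (e2.trans e1.symm)
  have hZo : IsOpen Z := by
    have : Z = Wᶜ := by
      ext x
      constructor
      · intro hx hx'
        exact (Set.disjoint_left.1 hdisj) hx hx'
      · intro hx
        have : x ∈ Z ∪ W := by rw [hcover]; trivial
        rcases this with h1 | h1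
        · exact h1
        · exact absurd h1 hx
    rw [this]
    exact hWc.isOpen_compl
  have hZne : Z.Nonempty := ⟨⟨p, hpP⟩, (PrimeSpectrum.mem_zeroLocus _ _).2 le_rfl⟩
  have hZuniv : Z = Set.univ := IsClopen.eq_univ ⟨hZc, hZo⟩ hZne
  have hpbot : p = ⊥ := by
    have h0 : nilradical R = ⊥ := nilradical_eq_zero R
    rw [eq_bot_iff, ← h0, nilradical_eq_sInf, le_sInf_iff]
    intro q hq
    have : (⟨q, hq⟩ : PrimeSpectrum R) ∈ Z := by rw [hZuniv]; trivial
    exact (PrimeSpectrum.mem_zeroLocus _ _).1 this
  rw [hpbot] at hpP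
  exact IsDomain.of_bot_isPrime R

theorem isIntegrallyClosed_of_isNormalRing (R : Type u) [CommRing R] [IsDomain R]
    (h : EGA4.IsNormalRing R) : IsIntegrallyClosed R :=
  IsIntegrallyClosed.of_localization_maximal fun p _ _ => (h p).2

variable (A : Type u) [CommRing A] [IsNoetherianRing A] (J : Ideal A)

/-- `Â / JÂ ≃+* A / J`. -/
noncomputable def quotEquiv :
    (AdicCompletion J A ⧸ J.map (algebraMap A (AdicCompletion J A))) ≃+* (A ⧸ J) := by
  have hfg : J.FG := IsNoetherian.noetherian J
  have hsurj : Function.Surjective (AdicCompletion.evalOneₐ J) :=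
    AdicCompletion.evalOneₐ_surjective J
  have hker : RingHom.ker (AdicCompletion.evalOneₐ J : AdicCompletion J A →+* A ⧸ J) =
      J.map (algebraMap A (AdicCompletion J A)) := AdicCompletion.ker_evalOneₐ_eq_map J hfg
  exact (Ideal.quotEquivOfEq hker.symm).trans
    (RingHom.quotientKerEquivOfSurjective (f := (AdicCompletion.evalOneₐ J :
      AdicCompletion J A →+* A ⧸ J)) hsurj)

theorem connectedSpace_of_ringEquiv {R S : Type*} [CommRing R] [CommRing S] (e : R ≃+* S)
    [ConnectedSpace (PrimeSpectrum R)] : ConnectedSpace (PrimeSpectrum S) := by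
  exact (PrimeSpectrum.homeomorphOfRingEquiv e).surjective.connectedSpace
    (PrimeSpectrum.homeomorphOfRingEquiv e).continuous

end Groth.Agent.Lib.Helper24.ZarCpl2
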